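import Mathlib
import Cfsg.Agent.S0025
import Cfsg.Agent.Lib.Helper22.Sylow2

set_option autoImplicit false

namespace Cfsg.Agent.Lib.helper23

open Cfsg.Agent.Lib.Helper22

variable {G : Type*} [Group G]

/-- `G = PK` with `K` a normal `p'`-subgroup: the number of Sylow `p`-subgroups is `|K : C_K(P)|`. -/
theorem card_sylow_eq_relIndex_centralizer [Finite G] {p : ℕ} [hp : Fact p.Prime] (K : Subgroup G)
    [hK : K.Normal] (hcop : (Nat.card K).Coprime p) (P : Sylow p G)
    (hsup : (P : Subgroup G) ⊔ K = ⊤) :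
    Nat.card (Sylow p G) =
      (K ⊓ Subgroup.centralizer ((P : Subgroup G) : Set G)).relIndex K := by
  rw [Sylow.card_eq_index_normalizer P]
  set M := Subgroup.normalizer ((P : Subgroup G) : Set G) with hM
  set C := K ⊓ Subgroup.centralizer ((P : Subgroup G) : Set G) with hC
  have hPK : (P : Subgroup G) ⊓ K = ⊥ := by
    have hcop' : (Nat.card (P : Subgroup G)).Coprime (Nat.card K) := by
      obtain ⟨a, ha⟩ := IsPGroup.iff_card.mp P.isPGroup'
      rw [ha]
      exact (Nat.Coprime.pow_left a hcop.symm)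
    exact (Subgroup.disjoint_of_coprime_natCard hcop').eq_bot
  -- K ⊓ M = C
  have hKM : K ⊓ M = C := by
    apply le_antisymm
    · intro k hk
      rw [Subgroup.mem_inf] at hk
      refine Subgroup.mem_inf.mpr ⟨hk.1, ?_⟩
      rw [Subgroup.mem_centralizer_iff]
      intro a ha
      have h1 : k * a * k⁻¹ ∈ (P : Subgroup G) := (Subgroup.mem_normalizer_iff.mp hk.2 a).mp ha
      have h2 : k * a * k⁻¹ * a⁻¹ ∈ (P : Subgroup G) :=
        Subgroup.mul_mem _ h1 (Subgroup.inv_mem _ ha)
      have h3 : k * a * k⁻¹ * a⁻¹ ∈ K := by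
        have : a * k⁻¹ * a⁻¹ ∈ K := hK.conj_mem _ (K.inv_mem hk.1) a
        have e : k * a * k⁻¹ * a⁻¹ = k * (a * k⁻¹ * a⁻¹) := by group
        rw [e]
        exact K.mul_mem hk.1 this
      have h4 : k * a * k⁻¹ * a⁻¹ ∈ (P : Subgroup G) ⊓ K := Subgroup.mem_inf.mpr ⟨h2, h3⟩
      rw [hPK, Subgroup.mem_bot] at h4
      calc a * k = (k * a * k⁻¹ * a⁻¹)⁻¹ * (k * a) := by group
        _ = k * a := by rw [h4, inv_one, one_mul]
    · intro k hk
      rw [Subgroup.mem_inf] at hk
      refine Subgroup.mem_inf.mpr ⟨hk.1, ?_⟩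
      exact (Subgroup.centralizer_le_normalizer _) hk.2
  have hMK : M ⊔ K = ⊤ := by
    rw [eq_top_iff, ← hsup]
    exact sup_le_sup_right Subgroup.le_normalizer K
  have h1 : Nat.card G = Nat.card K * K.relIndex M := by
    rw [← card_sup_normal M K, hMK, Subgroup.card_top]
  have h2 : Nat.card C * K.relIndex M = Nat.card M := by
    rw [← hKM, ← Subgroup.inf_relIndex_right]
    exact card_mul_relIndex_of_le inf_le_right
  have h3 : Nat.card M * M.index = Nat.card G := Subgroup.card_mul_index M
  have h4 : Nat.card C * C.relIndex K = Nat.card K := card_mul_relIndex_of_le inf_le_left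
  have hpos : 0 < Nat.card C * K.relIndex M := by
    rw [h2]
    exact Nat.card_pos
  have h5 : (Nat.card C * K.relIndex M) * M.index = (Nat.card C * K.relIndex M) * C.relIndex K := by
    calc (Nat.card C * K.relIndex M) * M.index = Nat.card G := by rw [h2, h3]
      _ = (Nat.card C * C.relIndex K) * K.relIndex M := by rw [h1, h4]
      _ = (Nat.card C * K.relIndex M) * C.relIndex K := by ring
  exact Nat.eq_of_mul_eq_mul_left hpos h5

/-- conjugation action of a normalizing subgroup -/
@[reducible] def conjActOn (P Q : Subgroup G) (hPQ : P ≤ Subgroup.normalizer (Q : Set G)) :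
    MulAction P Q where
  smul a x := ⟨a * x * a⁻¹, (Subgroup.mem_normalizer_iff.mp (hPQ a.2) x).mp x.2⟩
  one_smul x := by
    apply Subtype.ext
    show ((1 : P) : G) * x * ((1 : P) : G)⁻¹ = x
    simp
  mul_smul a b x := by
    apply Subtype.ext
    show ((a * b : P) : G) * x * ((a * b : P) : G)⁻¹ = a * (b * x * (b : G)⁻¹) * (a : G)⁻¹
    rw [Subgroup.coe_mul]
    group

theorem card_modEq_card_inf_centralizer [Finite G] {p : ℕ} [Fact p.Prime] (P Q : Subgroup G)
    (hP : IsPGroup p P) (hPQ : P ≤ Subgroup.normalizer (Q : Set G)) :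
    Nat.card Q ≡ Nat.card (Q ⊓ Subgroup.centralizer (P : Set G) : Subgroup G) [MOD p] := by
  let _ : MulAction P Q := conjActOn P Q hPQ
  have h := hP.card_modEq_card_fixedPoints Q
  have hsmul : ∀ (a : P) (x : Q), ((a • x : Q) : G) = a * x * (a : G)⁻¹ := fun a x => rfl
  have e : MulAction.fixedPoints P Q ≃ (Q ⊓ Subgroup.centralizer (P : Set G) : Subgroup G) :=
    { toFun := fun x => ⟨x.1.1, Subgroup.mem_inf.mpr ⟨x.1.2, by
        rw [Subgroup.mem_centralizer_iff]
        intro a ha
        have := congrArg Subtype.val (x.2 ⟨a, ha⟩)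
        rw [hsmul] at this
        calc a * x.1.1 = (a * x.1.1 * a⁻¹) * a := by group
          _ = x.1.1 * a := by rw [this]⟩⟩
      invFun := fun y => ⟨⟨y.1, (Subgroup.mem_inf.mp y.2).1⟩, by
        intro a
        apply Subtype.ext
        rw [hsmul]
        have := (Subgroup.mem_centralizer_iff.mp (Subgroup.mem_inf.mp y.2).2) a a.2
        show (a : G) * y.1 * (a : G)⁻¹ = y.1
        rw [this, mul_inv_cancel_right]⟩
      left_inv := fun x => rfl
      right_inv := fun y => rfl }
  rw [Nat.card_congr e] at h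
  exact h


theorem exists_list_primePow (n p : ℕ) (hn : n ≠ 0) (hp1 : 1 < p)
    (h : ∀ q, q.Prime → q ^ n.factorization q ≡ 1 [MOD p]) :
    ∃ l : List ℕ, l.prod = n ∧ ∀ m ∈ l, IsPrimePow m ∧ m % p = 1 := by
  refine ⟨n.primeFactors.toList.map (fun q => q ^ n.factorization q), ?_, ?_⟩
  · rw [Finset.prod_map_toList]
    have := Nat.prod_factorization_pow_eq_self hn
    rw [Finsupp.prod, Nat.support_factorization] at this
    exact this
  · intro m hm
    rw [List.mem_map] at hm
    obtain ⟨q, hq, rfl⟩ := hm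
    rw [Finset.mem_toList] at hq
    have hqp : q.Prime := Nat.prime_of_mem_primeFactors hq
    have hpos : 0 < n.factorization q :=
      hqp.factorization_pos_of_dvd hn (Nat.dvd_of_mem_primeFactors hq)
    refine ⟨⟨q, n.factorization q, hqp.prime, hpos, rfl⟩, ?_⟩
    have := h q hqp
    rw [Nat.ModEq, Nat.mod_eq_of_lt hp1] at this
    exact this

/-- The prime-power parts of `n_p(G)` are `≡ 1 mod p` when `G = PK` with `K` a normal
`p'`-subgroup. -/
theorem sylow_count_coprime_modEq [Finite G] {p : ℕ} [hp : Fact p.Prime] (K : Subgroup G)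
    [hK : K.Normal] (hcop : (Nat.card K).Coprime p) (P : Sylow p G)
    (hsup : (P : Subgroup G) ⊔ K = ⊤) (q : ℕ) (hq : q.Prime) :
    q ^ (Nat.card (Sylow p G)).factorization q ≡ 1 [MOD p] := by
  have hn := card_sylow_eq_relIndex_centralizer K hcop P hsup
  set C := K ⊓ Subgroup.centralizer ((P : Subgroup G) : Set G) with hC
  have hCK : C ≤ K := inf_le_left
  have h4 : Nat.card C * C.relIndex K = Nat.card K := card_mul_relIndex_of_le hCK
  rw [← hn] at h4
  have hn0 : Nat.card (Sylow p G) ≠ 0 := Nat.card_pos.ne'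
  have hC0 : Nat.card C ≠ 0 := Nat.card_pos.ne'
  have hfac : (Nat.card K).factorization q
      = (Nat.card C).factorization q + (Nat.card (Sylow p G)).factorization q := by
    rw [← h4, Nat.factorization_mul hC0 hn0]
    rfl
  by_cases hqp : q = p
  · subst hqp
    have h0 : (Nat.card K).factorization q = 0 :=
      Nat.factorization_eq_zero_of_not_dvd (fun h => by
        have := Nat.Coprime.eq_one_of_dvd hcop.symm h
        exact hq.one_lt.ne' this)
    have : (Nat.card (Sylow q G)).factorization q = 0 := by omega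
    rw [this, pow_zero]
  · have : Fact q.Prime := ⟨hq⟩
    let R : Sylow q C := default
    let R' : Subgroup G := (R : Subgroup C).map C.subtype
    have hR'C : R' ≤ C := Subgroup.map_subtype_le _
    have hR'q : IsPGroup q R' := R.isPGroup'.map _
    have hR'card : Nat.card R' = q ^ (Nat.card C).factorization q := by
      rw [Subgroup.card_map_of_injective C.subtype_injective, Sylow.card_eq_multiplicity]
    have hPK : (P : Subgroup G) ≤ Subgroup.normalizer (K : Set G) := by
      rw [Subgroup.normalizer_eq_top_iff.mpr hK]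
      exact le_top
    have hcopPK : (Nat.card (P : Subgroup G)).Coprime (Nat.card K) := by
      obtain ⟨a, ha⟩ := IsPGroup.iff_card.mp P.isPGroup'
      rw [ha]
      exact (Nat.Coprime.pow_left a hcop.symm)
    have hPsolv : Group.IsSolvable (P : Subgroup G) := by
      have : Group.IsNilpotent (P : Subgroup G) := P.isPGroup'.isNilpotent
      infer_instance
    have hPR' : (P : Subgroup G) ≤ Subgroup.normalizer (R' : Set G) := by
      intro a ha
      apply Subgroup.centralizer_le_normalizer
      rw [Subgroup.mem_centralizer_iff]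
      intro r hr
      have hrC : r ∈ Subgroup.centralizer ((P : Subgroup G) : Set G) :=
        (Subgroup.mem_inf.mp (hR'C hr)).2
      exact ((Subgroup.mem_centralizer_iff.mp hrC) a ha).symm
    obtain ⟨Q, hRQ, hPQ⟩ := Cfsg.Agent.S0025.result (P : Subgroup G) K hPK hcopPK (Or.inl hPsolv) q
      R' (le_trans hR'C hCK) hR'q hPR'
    set Q' : Subgroup G := (Q : Subgroup K).map K.subtype with hQ'
    have hQ'K : Q' ≤ K := Subgroup.map_subtype_le _
    have hQ'card : Nat.card Q' = q ^ (Nat.card K).factorization q := by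
      rw [Subgroup.card_map_of_injective K.subtype_injective, Sylow.card_eq_multiplicity]
    have hQ'q : IsPGroup q Q' := Q.isPGroup'.map _
    set D := Q' ⊓ Subgroup.centralizer ((P : Subgroup G) : Set G) with hD
    have hDC : D ≤ C := inf_le_inf_right _ hQ'K
    have hDq : IsPGroup q D := hQ'q.to_le inf_le_left
    have hR'D : R' ≤ D := le_inf hRQ (le_trans hR'C inf_le_right)
    have hDcard : Nat.card D = q ^ (Nat.card C).factorization q := by
      obtain ⟨j, hj⟩ := IsPGroup.iff_card.mp hDq
      have h1 : q ^ j ∣ Nat.card C := hj ▸ Subgroup.card_dvd_of_le hDC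
      have h2 : j ≤ (Nat.card C).factorization q :=
        (Nat.Prime.pow_dvd_iff_le_factorization hq hC0).mp h1
      have h3 : Nat.card R' ≤ Nat.card D := Subgroup.card_le_of_le hR'D
      rw [hR'card, hj] at h3
      have h5 : (Nat.card C).factorization q ≤ j := (Nat.pow_le_pow_iff_right hq.one_lt).mp h3
      rw [hj, le_antisymm h2 h5]
    have hmod := card_modEq_card_inf_centralizer (P : Subgroup G) Q' P.isPGroup' hPQ
    rw [hQ'card, hfac, pow_add] at hmod
    change _ ≡ Nat.card D [MOD p] at hmod
    rw [hDcard] at hmod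
    have hgcd : Nat.gcd p (q ^ (Nat.card C).factorization q) = 1 :=
      Nat.Coprime.pow_right _ ((Nat.coprime_primes hp.out hq).mpr (fun h => hqp h.symm))
    apply Nat.ModEq.cancel_left_of_coprime hgcd
    rw [mul_one]
    exact hmod

/-- M. Hall's theorem in the coprime case `G = PK`. -/
theorem exists_list_of_coprime [Finite G] {p : ℕ} [hp : Fact p.Prime] (K : Subgroup G)
    [hK : K.Normal] (hcop : (Nat.card K).Coprime p) (P : Sylow p G)
    (hsup : (P : Subgroup G) ⊔ K = ⊤) :
    ∃ l : List ℕ, l.prod = Nat.card (Sylow p G) ∧ ∀ m ∈ l, IsPrimePow m ∧ m % p = 1 :=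
  exists_list_primePow _ p Nat.card_pos.ne' hp.out.one_lt
    (fun q hq => sylow_count_coprime_modEq K hcop P hsup q hq)

end Cfsg.Agent.Lib.helper23
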