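import Cfsg.Agent.S4204
import Cfsg.Prelude.Def_Solvable

set_option autoImplicit false

namespace Cfsg.Agent.Lib.helper23

variable {G : Type*} [Group G]

theorem card_mul_relIndex {H K : Subgroup G} (h : H ≤ K) :
    Nat.card H * H.relIndex K = Nat.card K := by
  have := Subgroup.relIndex_mul_relIndex (⊥ : Subgroup G) H K bot_le h
  rwa [Subgroup.relIndex_bot_left, Subgroup.relIndex_bot_left] at this

theorem relIndex_sup_of_normal [Finite G] (N K : Subgroup G) [N.Normal] :
    K.relIndex (N ⊔ K) = K.relIndex N := by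
  have h1 := card_mul_relIndex (le_sup_left : N ≤ N ⊔ K)
  have h2 : N.relIndex (N ⊔ K) = N.relIndex K := Subgroup.relIndex_sup_left K N
  have h3 := card_mul_relIndex (inf_le_right : N ⊓ K ≤ K)
  rw [Subgroup.inf_relIndex_right] at h3
  have h4 := card_mul_relIndex (le_sup_right : K ≤ N ⊔ K)
  have h5 := card_mul_relIndex (inf_le_left : N ⊓ K ≤ N)
  rw [Subgroup.inf_relIndex_left] at h5
  rw [h2] at h1
  have hi : 0 < Nat.card (N ⊓ K : Subgroup G) := Nat.card_pos
  have hr : 0 < N.relIndex K := by
    rcases Nat.eq_zero_or_pos (N.relIndex K) with h0 | h0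
    · rw [h0, Nat.mul_zero] at h3
      have : 0 < Nat.card K := Nat.card_pos
      omega
    · exact h0
  have key : (Nat.card (N ⊓ K : Subgroup G) * N.relIndex K) * K.relIndex (N ⊔ K) =
      (Nat.card (N ⊓ K : Subgroup G) * N.relIndex K) * K.relIndex N := by
    calc (Nat.card (N ⊓ K : Subgroup G) * N.relIndex K) * K.relIndex (N ⊔ K)
        = Nat.card K * K.relIndex (N ⊔ K) := by rw [h3]
      _ = Nat.card (N ⊔ K : Subgroup G) := h4
      _ = Nat.card N * N.relIndex K := h1.symm
      _ = (Nat.card (N ⊓ K : Subgroup G) * K.relIndex N) * N.relIndex K := by rw [h5]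
      _ = (Nat.card (N ⊓ K : Subgroup G) * N.relIndex K) * K.relIndex N := by ring
  exact Nat.eq_of_mul_eq_mul_left (Nat.mul_pos hi hr) key

theorem relIndex_dvd_index_of_normal_right [Finite G] (N K : Subgroup G) [N.Normal] :
    K.relIndex N ∣ K.index := by
  rw [← relIndex_sup_of_normal N K]
  exact Subgroup.relIndex_dvd_index_of_le le_sup_right

theorem pow_index_mem_of_isNilpotent [Finite G] [hG : Group.IsNilpotent G] :
    ∀ (n : ℕ) (D : Subgroup G), D.index = n → ∀ y : G, y ^ D.index ∈ D := by
  intro n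
  induction n using Nat.strong_induction_on with
  | _ n ih =>
    intro D hD y
    by_cases hDtop : D = ⊤
    · rw [hDtop]; exact Subgroup.mem_top _
    · have hnc : NormalizerCondition G := Group.normalizerCondition_of_isNilpotent
      have hlt : D < Subgroup.normalizer (D : Set G) := hnc D (lt_top_iff_ne_top.mpr hDtop)
      have hidx : (Subgroup.normalizer (D : Set G)).index < D.index := Subgroup.index_strictAnti hlt
      have h1 := ih _ (hD ▸ hidx) (Subgroup.normalizer (D : Set G)) rfl y
      have : (D.subgroupOf (Subgroup.normalizer (D : Set G))).Normal :=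
        Subgroup.normal_in_normalizer
      have h2 := Subgroup.pow_index_mem (D.subgroupOf (Subgroup.normalizer (D : Set G)))
        (⟨y ^ (Subgroup.normalizer (D : Set G)).index, h1⟩ : Subgroup.normalizer (D : Set G))
      rw [Subgroup.mem_subgroupOf] at h2
      rw [← Subgroup.relIndex_mul_index hlt.le, mul_comm, pow_mul]
      exact h2

theorem pow_index_mem_of_isNilpotent' [Finite G] [Group.IsNilpotent G] (D : Subgroup G) (y : G) :
    y ^ D.index ∈ D :=
  pow_index_mem_of_isNilpotent D.index D rfl y

theorem fittingSubgroup_normal (G : Type*) [Group G] : (Cfsg.fittingSubgroup G).Normal :=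
  Subgroup.sSup_normal _ (fun _ hH => hH.1)

theorem isNilpotent_sup_of_normal (H K : Subgroup G) [H.Normal] [K.Normal]
    (hH : Group.IsNilpotent H) (hK : Group.IsNilpotent K) : Group.IsNilpotent ↥(H ⊔ K) := by
  rw [Subgroup.isNilpotent_iff_lowerCentralSeries] at hH hK ⊢
  obtain ⟨c, hc⟩ := hH
  obtain ⟨d, hd⟩ := hK
  exact ⟨c + d, Cfsg.Agent.S4204.fitting H K c d hc hd⟩

theorem fittingSubgroup_isNilpotent (G : Type*) [Group G] [Finite G] :
    Group.IsNilpotent (Cfsg.fittingSubgroup G) := by
  classical
  let S : Set (Subgroup G) := {N : Subgroup G | N.Normal ∧ Group.IsNilpotent N}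
  have hfin : S.Finite := Set.toFinite S
  have hbot : (⊥ : Subgroup G) ∈ S := ⟨Subgroup.normal_bot, inferInstance⟩
  have hsup : ∀ x ∈ S, ∀ y ∈ S, x ⊔ y ∈ S := by
    intro x hx y hy
    have := hx.1
    have := hy.1
    exact ⟨inferInstance, isNilpotent_sup_of_normal x y hx.2 hy.2⟩
  have := Finset.sup_mem S hbot hsup hfin.toFinset id (fun i hi => by simpa using hi)
  rw [Finset.sup_id_eq_sSup, Set.Finite.coe_toFinset] at this
  exact this.2

end Cfsg.Agent.Lib.helper23
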