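import Mathlib
import Cfsg.Agent.Lib.helper23.Fitting

set_option autoImplicit false

namespace Cfsg.Agent.Lib.helper23

open scoped Pointwise

variable {G : Type*} [Group G]

theorem mem_conj_smul_iff' (M : Subgroup G) (g y : G) :
    y ∈ MulAut.conj g • M ↔ g⁻¹ * y * g ∈ M := by
  rw [Subgroup.mem_pointwise_smul_iff_inv_smul_mem]
  simp [MulAut.smul_def]

/-- Two subgroups of `K` of full `p`-power order are conjugate by an element of `K`. -/
theorem exists_conj_of_card [Finite G] {p : ℕ} [Fact p.Prime]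
    (K Q1 Q2 : Subgroup G) (h1 : Q1 ≤ K) (h2 : Q2 ≤ K)
    (c1 : Nat.card Q1 = p ^ (Nat.card K).factorization p)
    (c2 : Nat.card Q2 = p ^ (Nat.card K).factorization p) :
    ∃ k ∈ K, ∀ y : G, y ∈ Q1 ↔ k⁻¹ * y * k ∈ Q2 := by
  have e1 : Nat.card (Q1.subgroupOf K) = p ^ (Nat.card K).factorization p := by
    rw [← c1]; exact Nat.card_congr (Subgroup.subgroupOfEquivOfLe h1).toEquiv
  have e2 : Nat.card (Q2.subgroupOf K) = p ^ (Nat.card K).factorization p := by
    rw [← c2]; exact Nat.card_congr (Subgroup.subgroupOfEquivOfLe h2).toEquiv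
  let S1 : Sylow p K := Sylow.ofCard _ e1
  let S2 : Sylow p K := Sylow.ofCard _ e2
  obtain ⟨k, hk⟩ := MulAction.exists_smul_eq K S2 S1
  refine ⟨k, k.2, fun y => ?_⟩
  have hk' : ∀ z : K, z ∈ Q1.subgroupOf K ↔ k⁻¹ * z * k ∈ Q2.subgroupOf K := by
    intro z
    have : (S1 : Subgroup K) = MulAut.conj k • (S2 : Subgroup K) := by
      rw [← hk]; rfl
    change z ∈ (S1 : Subgroup K) ↔ k⁻¹ * z * k ∈ (S2 : Subgroup K)
    rw [this, mem_conj_smul_iff']
  constructor
  · intro hy
    have := (hk' ⟨y, h1 hy⟩).mp (by rw [Subgroup.mem_subgroupOf]; exact hy)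
    rw [Subgroup.mem_subgroupOf] at this
    exact this
  · intro hy
    have hyK : y ∈ K := by
      have h3 : (k : G)⁻¹ * y * (k : G) ∈ K := h2 hy
      have h4 := K.mul_mem (K.mul_mem k.2 h3) (K.inv_mem k.2)
      have h5 : (k : G) * ((k : G)⁻¹ * y * k) * (k : G)⁻¹ = y := by group
      rw [h5] at h4; exact h4
    have := (hk' ⟨y, hyK⟩).mpr (by rw [Subgroup.mem_subgroupOf]; exact hy)
    rw [Subgroup.mem_subgroupOf] at this
    exact this

/-- The number of Sylow subgroups of a subgroup `H`, as a relative index in `G`. -/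
theorem card_sylow_eq_relIndex_normalizer [Finite G] {p : ℕ} [Fact p.Prime] (H Q : Subgroup G)
    (hQH : Q ≤ H) (hcard : Nat.card Q = p ^ (Nat.card H).factorization p) :
    Nat.card (Sylow p H) = (Subgroup.normalizer (Q : Set G)).relIndex H := by
  have e1 : Nat.card (Q.subgroupOf H) = p ^ (Nat.card H).factorization p := by
    rw [← hcard]; exact Nat.card_congr (Subgroup.subgroupOfEquivOfLe hQH).toEquiv
  have h1 := Sylow.card_eq_index_normalizer (Sylow.ofCard (Q.subgroupOf H) e1)
  rw [h1]
  change (Subgroup.normalizer ((Q.subgroupOf H : Subgroup H) : Set H)).index = _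
  rw [← Subgroup.subgroupOf_normalizer_eq hQH]
  rfl

/-- A Sylow subgroup of `G` contained in `H` has the order of a Sylow subgroup of `H`. -/
theorem card_sylow_of_le [Finite G] {p : ℕ} [Fact p.Prime] (P : Sylow p G) (H : Subgroup G)
    (h : (P : Subgroup G) ≤ H) : Nat.card P = p ^ (Nat.card H).factorization p := by
  rw [← Sylow.card_eq_multiplicity (P.subtype h)]
  exact (Nat.card_congr (Subgroup.subgroupOfEquivOfLe h).toEquiv).symm

/-- The number of Sylow subgroups of a quotient. -/
theorem card_sylow_quotient [Finite G] {p : ℕ} [Fact p.Prime] (K : Subgroup G) [K.Normal]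
    (P : Sylow p G) :
    Nat.card (Sylow p (G ⧸ K)) =
      (Subgroup.normalizer (((P : Subgroup G) ⊔ K : Subgroup G) : Set G)).index := by
  have hs := QuotientGroup.mk'_surjective K
  have h1 := Sylow.card_eq_index_normalizer (Sylow.mapSurjective hs P)
  rw [h1]
  change (Subgroup.normalizer ((((P : Subgroup G).map (QuotientGroup.mk' K) : Subgroup (G ⧸ K))) :
    Set (G ⧸ K))).index = _
  rw [← Subgroup.index_comap_of_surjective _ hs,
    Subgroup.comap_normalizer_eq_of_surjective _ hs, Subgroup.comap_map_eq, QuotientGroup.ker_mk']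

theorem normalizer_le_normalizer_sup (P K : Subgroup G) [K.Normal] :
    Subgroup.normalizer (P : Set G) ≤ Subgroup.normalizer ((P ⊔ K : Subgroup G) : Set G) := by
  intro a ha
  rw [Subgroup.mem_normalizer_iff_map_conj_eq] at ha ⊢
  rw [Subgroup.map_sup, ha]
  congr 1
  exact Subgroup.Normal.map_conj_eq (H := K) a

/-- Frattini argument: the normalizer of `P ⊔ K` is `N(P) ⊔ (P ⊔ K)`. -/
theorem normalizer_sup_eq [Finite G] {p : ℕ} [Fact p.Prime] (K : Subgroup G) [K.Normal]
    (P : Sylow p G) :
    Subgroup.normalizer (((P : Subgroup G) ⊔ K : Subgroup G) : Set G) =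
      Subgroup.normalizer ((P : Subgroup G) : Set G) ⊔ ((P : Subgroup G) ⊔ K) := by
  apply le_antisymm
  · intro t ht
    have hmap : ((P : Subgroup G) ⊔ K).map (MulAut.conj t).toMonoidHom = (P : Subgroup G) ⊔ K :=
      Subgroup.mem_normalizer_iff_map_conj_eq.mp ht
    have hQ2 : MulAut.conj t • (P : Subgroup G) ≤ (P : Subgroup G) ⊔ K := by
      have h1 : MulAut.conj t • (P : Subgroup G) ≤ ((P : Subgroup G) ⊔ K).map (MulAut.conj t).toMonoidHom :=
        Subgroup.map_mono le_sup_left
      rw [hmap] at h1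
      exact h1
    have hc2 : Nat.card (MulAut.conj t • (P : Subgroup G) : Subgroup G) = Nat.card (P : Subgroup G) :=
      (Nat.card_congr (Subgroup.equivSMul (MulAut.conj t) (P : Subgroup G)).toEquiv).symm
    have hc1 := card_sylow_of_le P ((P : Subgroup G) ⊔ K) le_sup_left
    obtain ⟨h, hhH, hh⟩ := exists_conj_of_card (p := p) ((P : Subgroup G) ⊔ K) (P : Subgroup G)
      (MulAut.conj t • (P : Subgroup G)) le_sup_left hQ2 hc1 (by rw [hc2]; exact hc1)
    have hA : (h * t)⁻¹ ∈ Subgroup.normalizer ((P : Subgroup G) : Set G) := by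
      rw [Subgroup.mem_normalizer_iff]
      intro y
      rw [hh y, mem_conj_smul_iff']
      have : t⁻¹ * (h⁻¹ * y * h) * t = (h * t)⁻¹ * y * (h * t)⁻¹⁻¹ := by group
      rw [this]
    have hA' := Subgroup.inv_mem _ hA
    rw [inv_inv] at hA'
    have : t = h⁻¹ * (h * t) := by group
    rw [this]
    exact Subgroup.mul_mem _ (Subgroup.mem_sup_right (Subgroup.inv_mem _ hhH))
      (Subgroup.mem_sup_left hA')
  · exact sup_le (normalizer_le_normalizer_sup _ K) Subgroup.le_normalizer

theorem relIndex_normalizer_sup [Finite G] {p : ℕ} [Fact p.Prime] (K : Subgroup G) [K.Normal]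
    (P : Sylow p G) :
    (Subgroup.normalizer ((P : Subgroup G) : Set G)).relIndex
        (Subgroup.normalizer (((P : Subgroup G) ⊔ K : Subgroup G) : Set G)) =
      (Subgroup.normalizer ((P : Subgroup G) : Set G)).relIndex ((P : Subgroup G) ⊔ K) := by
  set A := Subgroup.normalizer ((P : Subgroup G) : Set G) with hA
  set H := (P : Subgroup G) ⊔ K with hH
  set T := Subgroup.normalizer ((H : Subgroup G) : Set G) with hT
  have hAT : A ≤ T := normalizer_le_normalizer_sup _ K
  have hHT : H ≤ T := Subgroup.le_normalizer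
  have hTeq : T = A ⊔ H := normalizer_sup_eq K P
  haveI : (H.subgroupOf T).Normal := Subgroup.normal_in_normalizer
  have h1 := relIndex_sup_of_normal (H.subgroupOf T) (A.subgroupOf T)
  rw [Subgroup.relIndex_subgroupOf hHT, ← Subgroup.subgroupOf_sup hHT hAT, sup_comm, ← hTeq,
    Subgroup.subgroupOf_self, Subgroup.relIndex_top_right] at h1
  exact h1

/-- `n_p(G) = n_p(G/K) * n_p(PK)`, with the last factor written as a relative index. -/
theorem card_sylow_eq_mul [Finite G] {p : ℕ} [Fact p.Prime] (K : Subgroup G) [K.Normal]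
    (P : Sylow p G) :
    Nat.card (Sylow p G) = Nat.card (Sylow p (G ⧸ K)) *
      (Subgroup.normalizer ((P : Subgroup G) : Set G)).relIndex ((P : Subgroup G) ⊔ K) := by
  rw [Sylow.card_eq_index_normalizer P, card_sylow_quotient K P, ← relIndex_normalizer_sup K P,
    mul_comm]
  exact (Subgroup.relIndex_mul_index (normalizer_le_normalizer_sup _ K)).symm

theorem relIndex_eq_card_sylow_sup [Finite G] {p : ℕ} [Fact p.Prime] (K : Subgroup G)
    (P : Sylow p G) :
    (Subgroup.normalizer ((P : Subgroup G) : Set G)).relIndex ((P : Subgroup G) ⊔ K) =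
      Nat.card (Sylow p ↥((P : Subgroup G) ⊔ K)) :=
  (card_sylow_eq_relIndex_normalizer _ _ le_sup_left
    (card_sylow_of_le P ((P : Subgroup G) ⊔ K) le_sup_left)).symm

end Cfsg.Agent.Lib.helper23
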