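import Mathlib
import Cfsg.Agent.Lib.Helper1.Hall
import Cfsg.Agent.Lib.Lead.Coprime
import Cfsg.Agent.Lib.helper23.SylowQuot
import Cfsg.Agent.Lib.helper23.HallCount

set_option autoImplicit false

namespace Cfsg.Agent.Lib.helper23

open scoped Pointwise commutatorElement
open Cfsg.Agent.Lib.Helper22

variable {G : Type*} [Group G]

/-- a conjugacy class of subgroups is counted by the index of a normalizer -/
theorem card_conj_class_eq_index_normalizer (H₀ : Subgroup G) (S : Set (Subgroup G))
    (hS : ∀ H, H ∈ S ↔ ∃ g : G, MulAut.conj g • H₀ = H) :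
    Nat.card S = (Subgroup.normalizer (H₀ : Set G)).index := by
  let _ : MulAction G (Subgroup G) := MulAction.compHom (Subgroup G) (MulAut.conj : G →* MulAut G)
  have hsmul : ∀ (g : G) (H : Subgroup G), g • H = MulAut.conj g • H := fun _ _ => rfl
  have hstab : MulAction.stabilizer G H₀ = Subgroup.normalizer (H₀ : Set G) := by
    ext g
    rw [MulAction.mem_stabilizer_iff, hsmul, Cfsg.Agent.Lib.Lead.conj_smul_eq_iff]
  have horb : MulAction.orbit G H₀ = S := by
    ext H
    rw [MulAction.mem_orbit_iff, hS]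
    rfl
  rw [← hstab, MulAction.index_stabilizer, horb]
  rfl

/-- Hall conjugacy inside a subgroup `X` -/
theorem hall_conj_in [Finite G] [Group.IsSolvable G] (X A B : Subgroup G) (hA : A ≤ X)
    (hB : B ≤ X) (m j : ℕ) (hX : Nat.card X = m * j) (hmj : m.Coprime j)
    (hAm : Nat.card A = m) (hBm : Nat.card B = m) :
    ∃ x ∈ X, MulAut.conj x • A = B := by
  have h1 : Nat.card (A.subgroupOf X) = m := by
    rw [← hAm]; exact Nat.card_congr (Subgroup.subgroupOfEquivOfLe hA).toEquiv
  have h2 : Nat.card (B.subgroupOf X) = m := by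
    rw [← hBm]; exact Nat.card_congr (Subgroup.subgroupOfEquivOfLe hB).toEquiv
  obtain ⟨l, hl⟩ := Cfsg.Agent.Lib.Helper1.hall_conj (G := X) m j hX hmj _ _ h1 h2
  refine ⟨l, l.2, ?_⟩
  have hle : B ≤ MulAut.conj (l : G) • A :=
    Cfsg.Agent.Lib.Helper1.hallProp_subgroup_transfer X A B hA hB l (by rw [hl])
  refine (Subgroup.eq_of_le_of_card_ge hle ?_).symm
  rw [← Nat.card_congr (Subgroup.equivSMul (MulAut.conj (l : G)) A).toEquiv, hAm, hBm]

/-- Frattini argument for Hall subgroups -/
theorem normalizer_sup_eq_hall [Finite G] [Group.IsSolvable G] (K : Subgroup G) [K.Normal]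
    (H : Subgroup G) (m j : ℕ) (hX : Nat.card (H ⊔ K : Subgroup G) = m * j) (hmj : m.Coprime j)
    (hH : Nat.card H = m) :
    Subgroup.normalizer ((H ⊔ K : Subgroup G) : Set G) =
      Subgroup.normalizer (H : Set G) ⊔ (H ⊔ K) := by
  apply le_antisymm
  · intro t ht
    have hmap : (H ⊔ K).map (MulAut.conj t).toMonoidHom = H ⊔ K :=
      Subgroup.mem_normalizer_iff_map_conj_eq.mp ht
    have hQ2 : MulAut.conj t • H ≤ H ⊔ K := by
      have h1 : MulAut.conj t • H ≤ (H ⊔ K).map (MulAut.conj t).toMonoidHom :=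
        Subgroup.map_mono le_sup_left
      rw [hmap] at h1
      exact h1
    have hc2 : Nat.card (MulAut.conj t • H : Subgroup G) = m := by
      rw [← Nat.card_congr (Subgroup.equivSMul (MulAut.conj t) H).toEquiv, hH]
    obtain ⟨x, hxX, hx⟩ := hall_conj_in (H ⊔ K) H (MulAut.conj t • H) le_sup_left hQ2 m j hX hmj
      hH hc2
    have hA : x⁻¹ * t ∈ Subgroup.normalizer (H : Set G) := by
      rw [← Cfsg.Agent.Lib.Lead.conj_smul_eq_iff, map_mul, mul_smul, ← hx, ← mul_smul, ← map_mul,
        inv_mul_cancel, map_one, one_smul]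
    have : t = x * (x⁻¹ * t) := by group
    rw [this]
    exact Subgroup.mul_mem _ (Subgroup.mem_sup_right hxX) (Subgroup.mem_sup_left hA)
  · exact sup_le (normalizer_le_normalizer_sup _ K) Subgroup.le_normalizer

theorem relIndex_normalizer_sup_hall [Finite G] [Group.IsSolvable G] (K : Subgroup G) [K.Normal]
    (H : Subgroup G) (m j : ℕ) (hX : Nat.card (H ⊔ K : Subgroup G) = m * j) (hmj : m.Coprime j)
    (hH : Nat.card H = m) :
    (Subgroup.normalizer (H : Set G)).relIndex
        (Subgroup.normalizer ((H ⊔ K : Subgroup G) : Set G)) =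
      (Subgroup.normalizer (H : Set G)).relIndex (H ⊔ K) := by
  set A := Subgroup.normalizer (H : Set G) with hA
  set X := H ⊔ K with hXdef
  set T := Subgroup.normalizer ((X : Subgroup G) : Set G) with hT
  have hAT : A ≤ T := normalizer_le_normalizer_sup _ K
  have hHT : X ≤ T := Subgroup.le_normalizer
  have hTeq : T = A ⊔ X := normalizer_sup_eq_hall K H m j hX hmj hH
  have : (X.subgroupOf T).Normal := Subgroup.normal_in_normalizer
  have h1 := relIndex_sup_of_normal (X.subgroupOf T) (A.subgroupOf T)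
  rw [Subgroup.relIndex_subgroupOf hHT, ← Subgroup.subgroupOf_sup hHT hAT, sup_comm, ← hTeq,
    Subgroup.subgroupOf_self, Subgroup.relIndex_top_right] at h1
  exact h1

/-- `|HK : N_{HK}(H)| = |K : C_K(H)|` when `H ∩ K = 1`, `K` normal. -/
theorem relIndex_normalizer_eq_relIndex_centralizer [Finite G] (K : Subgroup G) [hK : K.Normal]
    (H : Subgroup G) (hHK : H ⊓ K = ⊥) :
    (Subgroup.normalizer (H : Set G)).relIndex (H ⊔ K) =
      (K ⊓ Subgroup.centralizer (H : Set G)).relIndex K := by
  set X := H ⊔ K with hX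
  set M := Subgroup.normalizer (H : Set G) ⊓ X with hM
  set C := K ⊓ Subgroup.centralizer (H : Set G) with hC
  rw [← Subgroup.inf_relIndex_right]
  have hKX : K ≤ X := le_sup_right
  have hHM : H ≤ M := le_inf Subgroup.le_normalizer le_sup_left
  have hKM : K ⊓ M = C := by
    apply le_antisymm
    · intro k hk
      rw [Subgroup.mem_inf, Subgroup.mem_inf] at hk
      refine Subgroup.mem_inf.mpr ⟨hk.1, ?_⟩
      rw [Subgroup.mem_centralizer_iff]
      intro a ha
      have h1 : k * a * k⁻¹ ∈ H := (Subgroup.mem_normalizer_iff.mp hk.2.1 a).mp ha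
      have h2 : k * a * k⁻¹ * a⁻¹ ∈ H := Subgroup.mul_mem _ h1 (Subgroup.inv_mem _ ha)
      have h3 : k * a * k⁻¹ * a⁻¹ ∈ K := by
        have : a * k⁻¹ * a⁻¹ ∈ K := hK.conj_mem _ (K.inv_mem hk.1) a
        have e : k * a * k⁻¹ * a⁻¹ = k * (a * k⁻¹ * a⁻¹) := by group
        rw [e]
        exact K.mul_mem hk.1 this
      have h4 : k * a * k⁻¹ * a⁻¹ ∈ H ⊓ K := Subgroup.mem_inf.mpr ⟨h2, h3⟩
      rw [hHK, Subgroup.mem_bot] at h4
      calc a * k = (k * a * k⁻¹ * a⁻¹)⁻¹ * (k * a) := by group
        _ = k * a := by rw [h4, inv_one, one_mul]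
    · intro k hk
      rw [Subgroup.mem_inf] at hk
      refine Subgroup.mem_inf.mpr ⟨hk.1, Subgroup.mem_inf.mpr ⟨?_, hKX hk.1⟩⟩
      exact (Subgroup.centralizer_le_normalizer _) hk.2
  have hMK : M ⊔ K = X := by
    apply le_antisymm
    · exact sup_le inf_le_right hKX
    · exact sup_le (le_trans hHM le_sup_left) le_sup_right
  have h1 : Nat.card X = Nat.card K * K.relIndex M := by
    rw [← card_sup_normal M K, hMK]
  have h2 : Nat.card C * K.relIndex M = Nat.card M := by
    rw [← hKM, ← Subgroup.inf_relIndex_right]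
    exact card_mul_relIndex_of_le inf_le_right
  have h3 : Nat.card M * M.relIndex X = Nat.card X := card_mul_relIndex_of_le inf_le_right
  have h4 : Nat.card C * C.relIndex K = Nat.card K := card_mul_relIndex_of_le inf_le_left
  have hpos : 0 < Nat.card C * K.relIndex M := by
    rw [h2]
    exact Nat.card_pos
  have h5 : (Nat.card C * K.relIndex M) * M.relIndex X
      = (Nat.card C * K.relIndex M) * C.relIndex K := by
    calc (Nat.card C * K.relIndex M) * M.relIndex X = Nat.card X := by rw [h2, h3]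
      _ = (Nat.card C * C.relIndex K) * K.relIndex M := by rw [h1, h4]
      _ = (Nat.card C * K.relIndex M) * C.relIndex K := by ring
  exact Nat.eq_of_mul_eq_mul_left hpos h5

/-- a nontrivial finite solvable group has a normal subgroup of prime index -/
theorem exists_normal_prime_index {H : Type*} [Group H] [Finite H] [Group.IsSolvable H]
    [Nontrivial H] : ∃ M : Subgroup H, M.Normal ∧ M.index.Prime := by
  have hlt : commutator H < ⊤ := Group.IsSolvable.commutator_lt_top_of_nontrivial H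
  obtain ⟨M, hM, hle⟩ := (IsCoatomic.eq_top_or_exists_le_coatom (commutator H)).resolve_left hlt.ne
  have hMn : M.Normal := by
    constructor
    intro n hn g
    have h1 : ⁅g, n⁆ ∈ commutator H :=
      Subgroup.commutator_mem_commutator (Subgroup.mem_top g) (Subgroup.mem_top n)
    have e : g * n * g⁻¹ = ⁅g, n⁆ * n := by
      rw [commutatorElement_def]; group
    rw [e]
    exact M.mul_mem (hle h1) hn
  refine ⟨M, hMn, ?_⟩
  have hq1 : M.index ≠ 1 := fun h => hM.1 (Subgroup.index_eq_one.mp h)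
  obtain ⟨ℓ, hℓ, hdvd⟩ := Nat.exists_prime_and_dvd hq1
  have : Fact ℓ.Prime := ⟨hℓ⟩
  have hdvd' : ℓ ∣ Nat.card (H ⧸ M) := hdvd
  obtain ⟨x, hx⟩ := exists_prime_orderOf_dvd_card' ℓ hdvd'
  obtain ⟨y, rfl⟩ := QuotientGroup.mk_surjective x
  let L : Subgroup H := (Subgroup.zpowers (QuotientGroup.mk' M y)).comap (QuotientGroup.mk' M)
  have hML : M ≤ L := by
    intro z hz
    rw [Subgroup.mem_comap]
    have : QuotientGroup.mk' M z = 1 := (QuotientGroup.eq_one_iff z).mpr hz
    rw [this]
    exact Subgroup.one_mem _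
  have hyL : y ∈ L := by
    rw [Subgroup.mem_comap]
    exact Subgroup.mem_zpowers _
  have hyM : y ∉ M := by
    intro h
    have h1 : (QuotientGroup.mk y : H ⧸ M) = 1 := (QuotientGroup.eq_one_iff y).mpr h
    rw [h1, orderOf_one] at hx
    exact hℓ.one_lt.ne hx
  have hLtop : L = ⊤ := by
    by_contra hne
    have := hM.2 L (lt_of_le_of_ne hML (fun h => hyM (h ▸ hyL)))
    exact hne this
  have hz : Subgroup.zpowers (QuotientGroup.mk' M y) = ⊤ := by
    rw [eq_top_iff]
    intro z _
    obtain ⟨w, rfl⟩ := QuotientGroup.mk_surjective z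
    have : w ∈ L := by rw [hLtop]; exact Subgroup.mem_top w
    exact this
  have hcard : Nat.card (H ⧸ M) = ℓ := by
    rw [← Subgroup.card_top (G := H ⧸ M), ← hz, Nat.card_zpowers]
    exact hx
  have : M.index = ℓ := hcard
  rw [this]
  exact hℓ


/-- Splitting `|N : C_N(H)|` along a normal series of `H` with prime factors. -/
theorem split_centralizer_index [Finite G] [Group.IsSolvable G] (N : Subgroup G) [hNn : N.Normal]
    (r : ℕ) [hr : Fact r.Prime] (hN : IsPGroup r N) :
    ∀ (c : ℕ) (H : Subgroup G), Nat.card H = c → (Nat.card H).Coprime r →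
      ∃ l : List ℕ, l.prod = (N ⊓ Subgroup.centralizer (H : Set G)).relIndex N ∧
        ∀ f ∈ l, (∃ e : ℕ, f = r ^ e) ∧ f ∣ Nat.card N ∧
          ∃ q : ℕ, q.Prime ∧ q ∣ Nat.card H ∧ f ≡ 1 [MOD q] := by
  intro c
  induction c using Nat.strong_induction_on with
  | _ c ih =>
  intro H hc hcop
  by_cases hH : H = ⊥
  · subst hH
    refine ⟨[], ?_, by simp⟩
    rw [List.prod_nil]
    have : Subgroup.centralizer (((⊥ : Subgroup G) : Subgroup G) : Set G) = ⊤ := by
      rw [Subgroup.coe_bot, Subgroup.centralizer_eq_top_iff_subset]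
      intro x hx
      rw [Set.mem_singleton_iff] at hx
      rw [hx]
      exact Subgroup.one_mem _
    rw [this, inf_top_eq, Subgroup.relIndex_self]
  have hnt : Nontrivial H := (Subgroup.nontrivial_iff_ne_bot H).mpr hH
  obtain ⟨M, hMn, hMq⟩ := exists_normal_prime_index (H := H)
  set q := M.index with hq
  have hqf : Fact q.Prime := ⟨hMq⟩
  set H₁ : Subgroup G := M.map H.subtype with hH₁
  have hH₁H : H₁ ≤ H := Subgroup.map_subtype_le M
  have hcardH₁ : Nat.card H₁ * q = Nat.card H := by
    rw [Subgroup.card_map_of_injective H.subtype_injective]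
    exact Subgroup.card_mul_index M
  have hqH : q ∣ Nat.card H := Dvd.intro_left _ hcardH₁
  have hqr : q ≠ r := by
    intro h
    have := Nat.Coprime.coprime_dvd_left hqH hcop
    rw [h, Nat.coprime_self] at this
    exact hr.out.one_lt.ne' this
  have hlt : Nat.card H₁ < c := by
    rw [← hc, ← hcardH₁]
    have : 0 < Nat.card H₁ := Nat.card_pos
    have := hMq.one_lt
    nlinarith
  have hcop₁ : (Nat.card H₁).Coprime r :=
    Nat.Coprime.coprime_dvd_left (Dvd.intro _ hcardH₁) hcop
  obtain ⟨l₁, hl₁, hg₁⟩ := ih _ hlt H₁ rfl hcop₁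
  -- H normalizes H₁
  have hHnorm : ∀ s ∈ H, ∀ h ∈ H₁, s⁻¹ * h * s ∈ H₁ := by
    intro s hs h hh
    obtain ⟨h', hh', rfl⟩ := hh
    have := hMn.conj_mem h' hh' (⟨s, hs⟩ : H)⁻¹
    refine ⟨(⟨s, hs⟩ : H)⁻¹ * h' * (⟨s, hs⟩ : H)⁻¹⁻¹, this, ?_⟩
    simp
  -- Sylow q-subgroup of H
  let S : Sylow q H := default
  set S' : Subgroup G := (S : Subgroup H).map H.subtype with hS'
  have hS'H : S' ≤ H := Subgroup.map_subtype_le _
  have hS'q : IsPGroup q S' := S.isPGroup'.map _
  have hsup : H₁ ⊔ S' = H := by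
    have h1 : M ⊔ (S : Subgroup H) = ⊤ := by
      rw [← Subgroup.index_eq_one]
      have hd1 : (M ⊔ (S : Subgroup H)).index ∣ q := Subgroup.index_dvd_of_le le_sup_left
      have hd2 : (M ⊔ (S : Subgroup H)).index ∣ (S : Subgroup H).index :=
        Subgroup.index_dvd_of_le le_sup_right
      rcases (Nat.dvd_prime hMq).mp hd1 with h | h
      · exact h
      · exfalso
        rw [h] at hd2
        exact S.not_dvd_index hd2
    have h2 := congrArg (Subgroup.map H.subtype) h1
    rw [Subgroup.map_sup, ← MonoidHom.range_eq_map, Subgroup.range_subtype] at h2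
    exact h2
  set V := N ⊓ Subgroup.centralizer (H₁ : Set G) with hV
  set V' := N ⊓ Subgroup.centralizer (H : Set G) with hV'
  have hV'V : V' ≤ V := inf_le_inf_left _ (Subgroup.centralizer_le hH₁H)
  have hVN : V ≤ N := inf_le_left
  -- S' normalizes V
  have hSV : S' ≤ Subgroup.normalizer (V : Set G) := by
    intro s hs
    have hsH : s ∈ H := hS'H hs
    have key : ∀ t ∈ H, ∀ v ∈ V, t * v * t⁻¹ ∈ V := by
      intro t ht v hv
      rw [Subgroup.mem_inf] at hv ⊢
      refine ⟨hNn.conj_mem v hv.1 t, ?_⟩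
      rw [Subgroup.mem_centralizer_iff]
      intro h hh
      have h1 : t⁻¹ * h * t ∈ H₁ := hHnorm t ht h hh
      have h2 := (Subgroup.mem_centralizer_iff.mp hv.2) _ h1
      calc h * (t * v * t⁻¹) = t * ((t⁻¹ * h * t) * v) * t⁻¹ := by group
        _ = t * (v * (t⁻¹ * h * t)) * t⁻¹ := by rw [h2]
        _ = t * v * t⁻¹ * h := by group
    rw [Subgroup.mem_normalizer_iff]
    intro v
    constructor
    · exact key s hsH v
    · intro hv
      have := key s⁻¹ (H.inv_mem hsH) _ hv
      have e : s⁻¹ * (s * v * s⁻¹) * s⁻¹⁻¹ = v := by group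
      rwa [e] at this
  have hmod := card_modEq_card_inf_centralizer S' V hS'q hSV
  have hVS : V ⊓ Subgroup.centralizer (S' : Set G) = V' := by
    apply le_antisymm
    · intro x hx
      rw [Subgroup.mem_inf, Subgroup.mem_inf] at hx
      refine Subgroup.mem_inf.mpr ⟨hx.1.1, ?_⟩
      have h1 : H₁ ≤ Subgroup.centralizer ({x} : Set G) := by
        intro h hh
        rw [Subgroup.mem_centralizer_singleton_iff]
        exact ((Subgroup.mem_centralizer_iff.mp hx.1.2) h hh)
      have h2 : S' ≤ Subgroup.centralizer ({x} : Set G) := by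
        intro h hh
        rw [Subgroup.mem_centralizer_singleton_iff]
        exact ((Subgroup.mem_centralizer_iff.mp hx.2) h hh)
      have h3 : H ≤ Subgroup.centralizer ({x} : Set G) := hsup ▸ sup_le h1 h2
      rw [Subgroup.mem_centralizer_iff]
      intro h hh
      have := h3 hh
      rw [Subgroup.mem_centralizer_singleton_iff] at this
      exact this
    · intro x hx
      rw [Subgroup.mem_inf] at hx
      exact Subgroup.mem_inf.mpr ⟨hV'V (Subgroup.mem_inf.mpr hx),
        (Subgroup.centralizer_le hS'H) hx.2⟩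
  rw [hVS] at hmod
  -- cards are powers of r
  obtain ⟨a, ha⟩ := IsPGroup.iff_card.mp (hN.to_le hVN)
  obtain ⟨b, hb⟩ := IsPGroup.iff_card.mp (hN.to_le (le_trans hV'V hVN))
  have hrel : Nat.card V' * V'.relIndex V = Nat.card V := card_mul_relIndex_of_le hV'V
  have hba : b ≤ a := by
    have : r ^ b ∣ r ^ a := by
      rw [← ha, ← hb]
      exact Subgroup.card_dvd_of_le hV'V
    exact (Nat.pow_dvd_pow_iff_le_right hr.out.one_lt).mp this
  have hf : V'.relIndex V = r ^ (a - b) := by
    rw [ha, hb] at hrel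
    have h1 : r ^ b * r ^ (a - b) = r ^ a := by rw [← pow_add]; congr 1; omega
    have hpos : 0 < r ^ b := pow_pos hr.out.pos b
    exact Nat.eq_of_mul_eq_mul_left hpos (hrel.trans h1.symm)
  have hfmod : V'.relIndex V ≡ 1 [MOD q] := by
    rw [ha, hb] at hmod
    have h1 : r ^ a = r ^ b * r ^ (a - b) := by rw [← pow_add]; congr 1; omega
    rw [h1] at hmod
    have hgcd : Nat.gcd q (r ^ b) = 1 :=
      Nat.Coprime.pow_right _ ((Nat.coprime_primes hMq hr.out).mpr hqr)
    rw [hf]
    apply Nat.ModEq.cancel_left_of_coprime hgcd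
    rw [mul_one]
    exact hmod
  refine ⟨V'.relIndex V :: l₁, ?_, ?_⟩
  · rw [List.prod_cons, hl₁]
    exact Subgroup.relIndex_mul_relIndex V' V N hV'V hVN
  · intro f hf'
    rw [List.mem_cons] at hf'
    rcases hf' with rfl | hf'
    · refine ⟨⟨a - b, hf⟩, ?_, q, hMq, hqH, hfmod⟩
      exact dvd_trans (Subgroup.relIndex_dvd_card V' V) (Subgroup.card_dvd_of_le hVN)
    · obtain ⟨h1, h2, q', hq', hq'd, hq'm⟩ := hg₁ f hf'
      exact ⟨h1, h2, q', hq', dvd_trans hq'd (Dvd.intro _ hcardH₁), hq'm⟩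


end Cfsg.Agent.Lib.helper23
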