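import Mathlib

set_option autoImplicit false

namespace Cfsg.Agent.Lib.helper23

open Representation

/-- the representation on `Additive V` attached to an action by automorphisms -/
def repOfAut {A V : Type*} [Group A] [CommGroup V] (p : ℕ) [Module (ZMod p) (Additive V)]
    (φ : A →* MulAut V) : Representation (ZMod p) A (Additive V) where
  toFun := fun a => (MonoidHom.toAdditive (φ a).toMonoidHom).toZModLinearMap p
  map_one' := by
    refine LinearMap.ext fun x => ?_
    rw [AddMonoidHom.coe_toZModLinearMap, Module.End.one_apply]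
    show Additive.ofMul ((φ 1) x.toMul) = x
    rw [map_one]
    rfl
  map_mul' := by
    intro a b
    refine LinearMap.ext fun x => ?_
    rw [Module.End.mul_apply, AddMonoidHom.coe_toZModLinearMap,
      AddMonoidHom.coe_toZModLinearMap, AddMonoidHom.coe_toZModLinearMap]
    show Additive.ofMul ((φ (a * b)) x.toMul) = Additive.ofMul ((φ a) ((φ b) x.toMul))
    rw [map_mul]
    rfl

theorem repOfAut_apply {A V : Type*} [Group A] [CommGroup V] (p : ℕ)
    [Module (ZMod p) (Additive V)] (φ : A →* MulAut V) (a : A) (x : Additive V) :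
    repOfAut p φ a x = Additive.ofMul (φ a x.toMul) := rfl

theorem exists_invariant_complement_aux {A V : Type*} [Group A] [Finite A] [CommGroup V]
    (φ : A →* MulAut V) (p : ℕ) [hp : Fact p.Prime] [Module (ZMod p) (Additive V)]
    (hcop : (Nat.card A).Coprime p) (U : Subgroup V) (hU : ∀ a : A, ∀ u ∈ U, φ a u ∈ U) :
    ∃ W : Subgroup V, (∀ a : A, ∀ w ∈ W, φ a w ∈ W) ∧ U ⊓ W = ⊥ ∧ U ⊔ W = ⊤ := by
  have hne : NeZero ((Nat.card A : ℕ) : ZMod p) := by
    refine ⟨?_⟩
    rw [Ne, ZMod.natCast_eq_zero_iff]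
    intro h
    exact (hp.out.coprime_iff_not_dvd.mp hcop.symm) h
  have hss : IsSemisimpleRepresentation (repOfAut p φ) := inferInstance
  let U' : Subrepresentation (repOfAut p φ) :=
    ⟨AddSubgroup.toZModSubmodule p (Subgroup.toAddSubgroup U), by
      intro a v hv
      exact hU a v.toMul hv⟩
  obtain ⟨W', hW'⟩ := exists_isCompl U'
  let W : Subgroup V :=
    { carrier := {v | Additive.ofMul v ∈ W'}
      mul_mem' := by
        intro a b ha hb
        exact W'.toSubmodule.add_mem ha hb
      one_mem' := W'.toSubmodule.zero_mem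
      inv_mem' := by
        intro a ha
        exact W'.toSubmodule.neg_mem ha }
  refine ⟨W, ?_, ?_, ?_⟩
  · intro a w hw
    exact W'.apply_mem_toSubmodule a hw
  · rw [eq_bot_iff]
    intro v hv
    rw [Subgroup.mem_inf] at hv
    have h1 : Additive.ofMul v ∈ (U' ⊓ W').toSubmodule := by
      rw [Subrepresentation.toSubmodule_inf]
      exact ⟨hv.1, hv.2⟩
    rw [hW'.inf_eq_bot] at h1
    have h2 : Additive.ofMul v = 0 := (Submodule.mem_bot _).mp h1
    rw [Subgroup.mem_bot]
    exact h2
  · rw [eq_top_iff]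
    intro v _
    have h1 : Additive.ofMul v ∈ (U' ⊔ W').toSubmodule := by
      rw [hW'.sup_eq_top]
      exact Submodule.mem_top
    rw [Subrepresentation.toSubmodule_sup, Submodule.mem_sup] at h1
    obtain ⟨u, hu, w, hw, huw⟩ := h1
    have : v = u.toMul * w.toMul := congrArg Additive.toMul huw.symm
    rw [this]
    exact Subgroup.mul_mem_sup hu hw

/-- Maschke's theorem for an elementary abelian group with a coprime group of operators. -/
theorem exists_invariant_complement {A V : Type*} [Group A] [Finite A] [CommGroup V]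
    (φ : A →* MulAut V) (p : ℕ) [hp : Fact p.Prime] (hexp : ∀ v : V, v ^ p = 1)
    (hcop : (Nat.card A).Coprime p) (U : Subgroup V) (hU : ∀ a : A, ∀ u ∈ U, φ a u ∈ U) :
    ∃ W : Subgroup V, (∀ a : A, ∀ w ∈ W, φ a w ∈ W) ∧ U ⊓ W = ⊥ ∧ U ⊔ W = ⊤ := by
  have hM : ∀ x : Additive V, p • x = 0 := fun x => congrArg Additive.ofMul (hexp x.toMul)
  let _ : Module (ZMod p) (Additive V) := AddCommGroup.zmodModule hM
  exact exists_invariant_complement_aux φ p hcop U hU

/-- version with a commutativity hypothesis instead of an instance -/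
theorem exists_invariant_complement' {A Q : Type*} [Group A] [Finite A] [Group Q]
    (hcomm : ∀ a b : Q, a * b = b * a) (φ : A →* MulAut Q) (p : ℕ) [hp : Fact p.Prime]
    (hexp : ∀ v : Q, v ^ p = 1) (hcop : (Nat.card A).Coprime p) (U : Subgroup Q)
    (hU : ∀ a : A, ∀ u ∈ U, φ a u ∈ U) :
    ∃ W : Subgroup Q, (∀ a : A, ∀ w ∈ W, φ a w ∈ W) ∧ U ⊓ W = ⊥ ∧ U ⊔ W = ⊤ := by
  let _ : CommGroup Q := { (inferInstance : Group Q) with mul_comm := hcomm }
  exact exists_invariant_complement φ p hexp hcop U hU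

section quotient

variable {A G : Type*} [Group A] [Group G] [MulDistribMulAction A G]

theorem map_toMulAut_eq (N : Subgroup G) (hN : ∀ a : A, ∀ x ∈ N, a • x ∈ N) (a : A) :
    N.map ((MulDistribMulAction.toMulAut A G a : G ≃* G) : G →* G) = N := by
  ext x
  constructor
  · rintro ⟨y, hy, rfl⟩
    exact hN a y hy
  · intro hx
    refine ⟨a⁻¹ • x, hN a⁻¹ x hx, ?_⟩
    show a • a⁻¹ • x = x
    rw [smul_inv_smul]

/-- the induced action on the quotient by an invariant normal subgroup -/
noncomputable def quotAut (N : Subgroup G) [N.Normal] (hN : ∀ a : A, ∀ x ∈ N, a • x ∈ N) :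
    A →* MulAut (G ⧸ N) where
  toFun a := QuotientGroup.congr N N (MulDistribMulAction.toMulAut A G a) (map_toMulAut_eq N hN a)
  map_one' := by
    ext x
    induction x using QuotientGroup.induction_on with
    | H x =>
      rw [QuotientGroup.congr_mk, MulAut.one_apply]
      show (((1 : A) • x : G) : G ⧸ N) = (x : G ⧸ N)
      rw [one_smul]
  map_mul' := by
    intro a b
    ext x
    induction x using QuotientGroup.induction_on with
    | H x =>
      rw [QuotientGroup.congr_mk, MulAut.mul_apply, QuotientGroup.congr_mk, QuotientGroup.congr_mk]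
      show (((a * b) • x : G) : G ⧸ N) = ((a • b • x : G) : G ⧸ N)
      rw [mul_smul]

theorem quotAut_mk (N : Subgroup G) [N.Normal] (hN : ∀ a : A, ∀ x ∈ N, a • x ∈ N) (a : A) (x : G) :
    quotAut N hN a (x : G ⧸ N) = ((a • x : G) : G ⧸ N) :=
  QuotientGroup.congr_mk N N (MulDistribMulAction.toMulAut A G a) (map_toMulAut_eq N hN a) x

/-- Maschke inside `G`, modulo an invariant normal subgroup with elementary abelian quotient. -/
theorem exists_invariant_supplement [Finite A] (N : Subgroup G) [N.Normal]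
    (hN : ∀ a : A, ∀ x ∈ N, a • x ∈ N) (p : ℕ) [hp : Fact p.Prime]
    (hcomm : ∀ x y : G, (x * y)⁻¹ * (y * x) ∈ N) (hexp : ∀ x : G, x ^ p ∈ N)
    (hcop : (Nat.card A).Coprime p) (L : Subgroup G) (hL : ∀ a : A, ∀ x ∈ L, a • x ∈ L) :
    ∃ W : Subgroup G, N ≤ W ∧ (∀ a : A, ∀ x ∈ W, a • x ∈ W) ∧ L ⊓ W ≤ N ∧ L ⊔ W = ⊤ := by
  have hcomm' : ∀ a b : G ⧸ N, a * b = b * a := by
    intro a b
    induction a using QuotientGroup.induction_on with
    | H a =>
      induction b using QuotientGroup.induction_on with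
      | H b =>
        rw [← QuotientGroup.mk_mul, ← QuotientGroup.mk_mul, QuotientGroup.eq]
        exact hcomm a b
  have hexp' : ∀ v : G ⧸ N, v ^ p = 1 := by
    intro v
    induction v using QuotientGroup.induction_on with
    | H v =>
      rw [← QuotientGroup.mk_pow, QuotientGroup.eq_one_iff]
      exact hexp v
  let U : Subgroup (G ⧸ N) := L.map (QuotientGroup.mk' N)
  have hU : ∀ a : A, ∀ u ∈ U, quotAut N hN a u ∈ U := by
    rintro a _ ⟨l, hl, rfl⟩
    exact ⟨a • l, hL a l hl, (quotAut_mk N hN a l).symm⟩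
  obtain ⟨W', hW'inv, hinf, hsup⟩ :=
    exists_invariant_complement' hcomm' (quotAut N hN) p hexp' hcop U hU
  refine ⟨W'.comap (QuotientGroup.mk' N), ?_, ?_, ?_, ?_⟩
  · intro x hx
    rw [Subgroup.mem_comap]
    have : QuotientGroup.mk' N x = 1 := (QuotientGroup.eq_one_iff x).mpr hx
    rw [this]
    exact W'.one_mem
  · intro a x hx
    rw [Subgroup.mem_comap] at hx ⊢
    have := hW'inv a _ hx
    rw [QuotientGroup.mk'_apply, quotAut_mk] at this
    exact this
  · intro x hx
    rw [Subgroup.mem_inf, Subgroup.mem_comap] at hx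
    have h1 : QuotientGroup.mk' N x ∈ U ⊓ W' := ⟨⟨x, hx.1, rfl⟩, hx.2⟩
    rw [hinf, Subgroup.mem_bot] at h1
    exact (QuotientGroup.eq_one_iff x).mp h1
  · rw [eq_top_iff]
    intro g _
    have h1 : QuotientGroup.mk' N g ∈ U ⊔ W' := by rw [hsup]; exact Subgroup.mem_top _
    have hUn : U.Normal := ⟨fun n hn g => by rw [hcomm' g n, mul_inv_cancel_right]; exact hn⟩
    have h2 : QuotientGroup.mk' N g ∈ ((U ⊔ W' : Subgroup (G ⧸ N)) : Set (G ⧸ N)) := h1
    rw [Subgroup.normal_mul, Set.mem_mul] at h2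
    obtain ⟨u, ⟨l, hl, rfl⟩, w, hw, huw⟩ := h2
    have h3 : l⁻¹ * g ∈ W'.comap (QuotientGroup.mk' N) := by
      rw [Subgroup.mem_comap, map_mul, map_inv, ← huw, inv_mul_cancel_left]
      exact hw
    have : g = l * (l⁻¹ * g) := by group
    rw [this]
    exact Subgroup.mul_mem_sup hl h3

end quotient

end Cfsg.Agent.Lib.helper23
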