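import Mathlib
import Cfsg.Prelude.Def_PLocal

set_option autoImplicit false

namespace Cfsg.Agent.Lib.helper23

open scoped commutatorElement

variable {G : Type*} [Group G]

/-- the power-cancellation property relative to a subgroup -/
def RegGood (p : ℕ) (H : Subgroup G) : Prop :=
  ∀ a ∈ H, ∀ b ∈ H, ∀ k : ℕ, a ^ p ^ k = b ^ p ^ k ↔ (a * b⁻¹) ^ p ^ k = 1

theorem RegGood.mul_pow_eq_one {p : ℕ} {H : Subgroup G} (h : RegGood p H) {x y : G}
    (hx : x ∈ H) (hy : y ∈ H) {k : ℕ}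
    (hxq : x ^ p ^ k = 1) (hyq : y ^ p ^ k = 1) : (x * y) ^ p ^ k = 1 := by
  have := (h x hx y⁻¹ (H.inv_mem hy) k).mp (by rw [hxq, inv_pow, hyq, inv_one])
  rwa [inv_inv] at this

theorem RegGood.closure_pow_eq_one {p : ℕ} {H : Subgroup G} (h : RegGood p H) {S : Set G}
    (hS : S ⊆ H) {k : ℕ}
    (hSq : ∀ s ∈ S, s ^ p ^ k = 1) : ∀ z ∈ Subgroup.closure S, z ^ p ^ k = 1 := by
  intro z hz
  have hle : Subgroup.closure S ≤ H := (Subgroup.closure_le H).mpr hS
  induction hz using Subgroup.closure_induction with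
  | mem x hx => exact hSq x hx
  | one => exact one_pow _
  | mul x y hx hy ihx ihy => exact h.mul_pow_eq_one (hle hx) (hle hy) ihx ihy
  | inv x hx ihx => rw [inv_pow, ihx, inv_one]

theorem commutator_closure_pair_le {x y : G} {N : Subgroup G}
    (hnorm : ∀ h ∈ Subgroup.closure ({x, y} : Set G), ∀ n ∈ N, h * n * h⁻¹ ∈ N)
    (hxy : ⁅x, y⁆ ∈ N) :
    ⁅Subgroup.closure ({x, y} : Set G), Subgroup.closure ({x, y} : Set G)⁆ ≤ N := by
  have hxK : x ∈ Subgroup.closure ({x, y} : Set G) := Subgroup.subset_closure (by simp)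
  have hyK : y ∈ Subgroup.closure ({x, y} : Set G) := Subgroup.subset_closure (by simp)
  have step : ∀ t : G, ⁅x, t⁆ ∈ N → ⁅y, t⁆ ∈ N →
      ∀ g ∈ Subgroup.closure ({x, y} : Set G), ⁅g, t⁆ ∈ N := by
    intro t hxt hyt g hg
    induction hg using Subgroup.closure_induction with
    | mem z hz =>
      rcases hz with rfl | hz
      · exact hxt
      · rw [Set.mem_singleton_iff] at hz; subst hz; exact hyt
    | one => rw [commutatorElement_one_left]; exact N.one_mem
    | mul g₁ g₂ hg₁ hg₂ ih₁ ih₂ =>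
      have : ⁅g₁ * g₂, t⁆ = g₁ * ⁅g₂, t⁆ * g₁⁻¹ * ⁅g₁, t⁆ := by
        simp [commutatorElement_def, mul_assoc]
      rw [this]
      exact N.mul_mem (hnorm g₁ hg₁ _ ih₂) ih₁
    | inv g hg ih =>
      have : ⁅g⁻¹, t⁆ = g⁻¹ * ⁅g, t⁆⁻¹ * (g⁻¹)⁻¹ := by
        simp [commutatorElement_def, mul_assoc]
      rw [this]
      exact hnorm g⁻¹ (Subgroup.inv_mem _ hg) _ (N.inv_mem ih)
  have hx_all : ∀ g ∈ Subgroup.closure ({x, y} : Set G), ⁅g, x⁆ ∈ N :=
    step x (by rw [commutatorElement_self]; exact N.one_mem)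
      (by rw [← commutatorElement_inv]; exact N.inv_mem hxy)
  have hy_all : ∀ g ∈ Subgroup.closure ({x, y} : Set G), ⁅g, y⁆ ∈ N :=
    step y hxy (by rw [commutatorElement_self]; exact N.one_mem)
  rw [Subgroup.commutator_le]
  intro g hg t ht
  exact step t (by rw [← commutatorElement_inv]; exact N.inv_mem (hx_all t ht))
    (by rw [← commutatorElement_inv]; exact N.inv_mem (hy_all t ht)) g hg

theorem card_commutator_lt {p : ℕ} [Fact p.Prime] [Finite G] (hG : IsPGroup p G)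
    {K : Subgroup G} (hK : K ≠ ⊥) : Nat.card (⁅K, K⁆ : Subgroup G) < Nat.card K := by
  have hKp : IsPGroup p K := hG.to_subgroup K
  have : Group.IsNilpotent K := hKp.isNilpotent
  have : Nontrivial K := (Subgroup.nontrivial_iff_ne_bot K).mpr hK
  have h1 : commutator K < ⊤ := Group.IsSolvable.commutator_lt_top_of_nontrivial K
  have h2 : (commutator K).map K.subtype = ⁅K, K⁆ := Subgroup.map_subtype_commutator K
  rw [← h2, Subgroup.card_map_of_injective K.subtype_injective]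
  by_contra hcon
  push Not at hcon
  have h3 : Nat.card (commutator K) = Nat.card K :=
    le_antisymm (Subgroup.card_le_card_group _) hcon
  exact h1.ne (Subgroup.eq_top_of_card_eq _ h3)

theorem card_closure_conj_lt {p : ℕ} [Fact p.Prime] [Finite G] (hG : IsPGroup p G)
    {H : Subgroup G} {x g : G} (hx : x ∈ H) (hg : g ∈ H) (hne : x * g ≠ g * x) :
    Nat.card (Subgroup.closure ({x, g * x * g⁻¹} : Set G)) < Nat.card H := by
  have hHp : IsPGroup p H := hG.to_subgroup H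
  have hnil : Group.IsNilpotent H := hHp.isNilpotent
  have hnt : Subgroup.zpowers (⟨x, hx⟩ : H) ≠ ⊤ := by
    intro h
    have hg' : (⟨g, hg⟩ : H) ∈ Subgroup.zpowers (⟨x, hx⟩ : H) := by rw [h]; exact Subgroup.mem_top _
    obtain ⟨n, hn⟩ := Subgroup.mem_zpowers_iff.mp hg'
    have hn' : x ^ n = g := by
      have := congrArg (fun z : H => (z : G)) hn
      simpa using this
    apply hne
    rw [← hn']
    exact (Commute.self_zpow x n).eq
  obtain ⟨L, hLco, hxL⟩ := (eq_top_or_exists_le_coatom _).resolve_left hnt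
  have hLn : L.Normal :=
    Subgroup.NormalizerCondition.normal_of_coatom L Group.normalizerCondition_of_isNilpotent hLco
  have hx'L : (⟨x, hx⟩ : H) ∈ L := hxL (Subgroup.mem_zpowers _)
  have hconjL : (⟨g, hg⟩ : H) * ⟨x, hx⟩ * (⟨g, hg⟩ : H)⁻¹ ∈ L := hLn.conj_mem _ hx'L _
  have hle : Subgroup.closure ({x, g * x * g⁻¹} : Set G) ≤ L.map H.subtype := by
    rw [Subgroup.closure_le]
    intro z hz
    rcases hz with rfl | hz
    · exact ⟨⟨z, hx⟩, hx'L, rfl⟩
    · rw [Set.mem_singleton_iff] at hz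
      subst hz
      exact ⟨_, hconjL, rfl⟩
  have h1 : Nat.card (L.map H.subtype) = Nat.card L :=
    Subgroup.card_map_of_injective H.subtype_injective
  have h2 : Nat.card L < Nat.card H := by
    by_contra hcon
    push Not at hcon
    have h3 : Nat.card L = Nat.card H := le_antisymm (Subgroup.card_le_card_group _) hcon
    exact hLco.1 (Subgroup.eq_top_of_card_eq _ h3)
  calc Nat.card (Subgroup.closure ({x, g * x * g⁻¹} : Set G))
      ≤ Nat.card (L.map H.subtype) := Subgroup.card_le_of_le hle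
    _ = Nat.card L := h1
    _ < Nat.card H := h2

theorem reg_mul_pow_of_commutator_pow {p : ℕ} [Fact p.Prime] [Finite G]
    (hG : Cfsg.IsRegularPGroup p G)
    {H : Subgroup G} (ih : ∀ M : Subgroup G, Nat.card M < Nat.card H → RegGood p M)
    {x y : G} (hx : x ∈ H) (hy : y ∈ H) {k : ℕ} (hc : ⁅x, y⁆ ^ p ^ k = 1) :
    (x * y) ^ p ^ k = x ^ p ^ k * y ^ p ^ k := by
  by_cases hcomm : x * y = y * x
  · exact Commute.mul_pow hcomm _
  have hxK : x ∈ Subgroup.closure ({x, y} : Set G) := Subgroup.subset_closure (by simp)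
  have hyK : y ∈ Subgroup.closure ({x, y} : Set G) := Subgroup.subset_closure (by simp)
  have hKH : Subgroup.closure ({x, y} : Set G) ≤ H := by
    rw [Subgroup.closure_le]
    intro z hz
    rcases hz with rfl | hz
    · exact hx
    · rw [Set.mem_singleton_iff] at hz; subst hz; exact hy
  have hKne : Subgroup.closure ({x, y} : Set G) ≠ ⊥ := by
    intro h
    rw [h] at hxK
    rw [Subgroup.mem_bot] at hxK
    apply hcomm
    rw [hxK, one_mul, mul_one]
  obtain ⟨K, hKdef⟩ : ∃ K : Subgroup G, K = Subgroup.closure ({x, y} : Set G) := ⟨_, rfl⟩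
  rw [← hKdef] at hxK hyK hKH hKne
  have hDlt : Nat.card (⁅K, K⁆ : Subgroup G) < Nat.card H :=
    (card_commutator_lt hG.1 hKne).trans_le (Subgroup.card_le_of_le hKH)
  have hDgood := ih _ hDlt
  let Ω : Subgroup G :=
    { carrier := {z | z ∈ (⁅K, K⁆ : Subgroup G) ∧ z ^ p ^ k = 1}
      mul_mem' := fun ha hb => ⟨mul_mem ha.1 hb.1, hDgood.mul_pow_eq_one ha.1 hb.1 ha.2 hb.2⟩
      one_mem' := ⟨one_mem _, one_pow _⟩
      inv_mem' := fun ha => ⟨inv_mem ha.1, by rw [inv_pow, ha.2, inv_one]⟩ }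
  have hDK : (⁅K, K⁆ : Subgroup G) ≤ K :=
    Subgroup.commutator_le.mpr (fun g₁ h₁ g₂ h₂ =>
      K.mul_mem (K.mul_mem (K.mul_mem h₁ h₂) (K.inv_mem h₁)) (K.inv_mem h₂))
  have hnorm : ∀ h ∈ K, ∀ n ∈ Ω, h * n * h⁻¹ ∈ Ω := by
    intro h hh n hn
    refine ⟨?_, ?_⟩
    · have : h * n * h⁻¹ = ⁅h, n⁆ * n := by simp [commutatorElement_def]
      rw [this]
      exact mul_mem (Subgroup.commutator_mem_commutator hh (hDK hn.1)) hn.1
    · rw [conj_pow, hn.2, mul_one, mul_inv_cancel]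
  have hcΩ : ⁅x, y⁆ ∈ Ω := ⟨Subgroup.commutator_mem_commutator hxK hyK, hc⟩
  have hDΩ : (⁅K, K⁆ : Subgroup G) ≤ Ω := by
    rw [hKdef] at hnorm ⊢
    exact commutator_closure_pair_le hnorm hcΩ
  obtain ⟨c, hcmem, hceq⟩ := hG.2 x y k
  rw [← hKdef] at hcmem
  have hc1 : c = 1 := by
    have hle : Cfsg.powerClosure p k (⁅K, K⁆ : Subgroup G) ≤ ⊥ := by
      unfold Cfsg.powerClosure
      rw [Subgroup.closure_le]
      rintro z ⟨w, hw, rfl⟩
      exact (hDΩ hw).2
    exact Subgroup.mem_bot.mp (hle hcmem)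
  rw [hceq, hc1, mul_one]

theorem regGood_all {p : ℕ} [Fact p.Prime] [Finite G] (hG : Cfsg.IsRegularPGroup p G) :
    ∀ (n : ℕ) (H : Subgroup G), Nat.card H = n → RegGood p H := by
  intro n
  induction n using Nat.strong_induction_on with
  | _ n ih =>
  intro H hn a ha b hb k
  have ih' : ∀ M : Subgroup G, Nat.card M < Nat.card H → RegGood p M :=
    fun M hM => ih _ (hn ▸ hM) M rfl
  by_cases hcomm : a * b = b * a
  · have hc : Commute a b⁻¹ := (show Commute a b from hcomm).inv_right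
    rw [hc.mul_pow, inv_pow, mul_inv_eq_one]
  constructor
  · intro hab
    have hne : a * b⁻¹ ≠ b⁻¹ * a := by
      intro h
      apply hcomm
      have h' : Commute a b⁻¹ := h
      have := h'.inv_right
      rw [inv_inv] at this
      exact this
    have hMlt := card_closure_conj_lt hG.1 ha (H.inv_mem hb) hne
    have hM := ih' _ hMlt
    have h1 : (b⁻¹ * a * b⁻¹⁻¹) ^ p ^ k = a ^ p ^ k := by
      rw [conj_pow, hab, inv_inv]
      have : Commute b⁻¹ (b ^ p ^ k) := (Commute.refl b).inv_left.pow_right _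
      rw [this.eq, mul_assoc, inv_mul_cancel, mul_one]
    have h2 := (hM a (Subgroup.subset_closure (by simp)) (b⁻¹ * a * b⁻¹⁻¹)
      (Subgroup.subset_closure (by simp)) k).mp h1.symm
    have h3 : a * (b⁻¹ * a * b⁻¹⁻¹)⁻¹ = ⁅a, b⁻¹⁆ := by
      simp [commutatorElement_def, mul_assoc]
    rw [h3] at h2
    have h4 := reg_mul_pow_of_commutator_pow hG ih' ha (H.inv_mem hb) h2
    rw [h4, inv_pow, hab, mul_inv_cancel]
  · intro hab
    obtain ⟨c₀, hc₀⟩ : ∃ c₀, c₀ = a * b⁻¹ := ⟨_, rfl⟩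
    rw [← hc₀] at hab
    have hc₀H : c₀ ∈ H := hc₀ ▸ H.mul_mem ha (H.inv_mem hb)
    have hac : a = c₀ * b := by rw [hc₀, inv_mul_cancel_right]
    have hne : c₀ * b ≠ b * c₀ := by
      intro h
      apply hcomm
      rw [hac, mul_assoc, ← mul_assoc b c₀ b, ← h, mul_assoc]
    have hMlt := card_closure_conj_lt hG.1 hc₀H hb hne
    have hM := ih' _ hMlt
    have h1 : c₀ ^ p ^ k = (b * c₀ * b⁻¹) ^ p ^ k := by
      rw [conj_pow, hab, mul_one, mul_inv_cancel]
    have h2 := (hM c₀ (Subgroup.subset_closure (by simp)) (b * c₀ * b⁻¹)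
      (Subgroup.subset_closure (by simp)) k).mp h1
    have h3 : c₀ * (b * c₀ * b⁻¹)⁻¹ = ⁅c₀, b⁆ := by
      simp [commutatorElement_def, mul_assoc]
    rw [h3] at h2
    have h4 := reg_mul_pow_of_commutator_pow hG ih' hc₀H hb h2
    rw [hac, h4, hab, one_mul]

/-- In a regular `p`-group: `a^q = b^q ↔ (a b⁻¹)^q = 1` for `q = p^k`. -/
theorem regular_pow_eq_iff {p : ℕ} [Fact p.Prime] [Finite G] (hG : Cfsg.IsRegularPGroup p G)
    (a b : G) (k : ℕ) : a ^ p ^ k = b ^ p ^ k ↔ (a * b⁻¹) ^ p ^ k = 1 :=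
  regGood_all hG _ ⊤ rfl a (Subgroup.mem_top _) b (Subgroup.mem_top _) k

theorem regular_mul_pow_eq_one {p : ℕ} [Fact p.Prime] [Finite G] (hG : Cfsg.IsRegularPGroup p G)
    {x y : G} {k : ℕ} (hx : x ^ p ^ k = 1) (hy : y ^ p ^ k = 1) : (x * y) ^ p ^ k = 1 :=
  (regGood_all hG _ ⊤ rfl).mul_pow_eq_one (Subgroup.mem_top _) (Subgroup.mem_top _) hx hy

end Cfsg.Agent.Lib.helper23
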