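import Mathlib
import Cfsg.Agent.Lib.helper7.BR.Defs
import Cfsg.Agent.Lib.helper2.CharNat

/-!
# Project BR, piece SUMH: the sum of a character over a subgroup is `|H|` times a natural number
-/

set_option autoImplicit false
set_option linter.unusedVariables false
set_option linter.unusedSectionVars false

namespace Cfsg.Agent.Lib.helper7.BR

open Classical
open Cfsg.Agent.Lib.Helper25

universe u

variable {G : Type u} [Group G] [Fintype G] {p : ℕ} [Fact p.Prime]

/-- the trivial character is a character -/
theorem brsumh_isCharacter_one (H : Type*) [Group H] : Cfsg.IsCharacter H (fun _ => (1 : ℂ)) := by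
  obtain ⟨n, ρ, _, h⟩ := (trivIrr H).2
  exact ⟨n, ρ, h⟩

/-- SUMH : the sum of a character over a subgroup is `|H|` times a natural number
(the multiplicity of the trivial character in the restriction). -/
theorem sum_subgroup_nat (H : Subgroup G) (χ : G → ℂ) (hχ : Cfsg.IsCharacter G χ) :
    ∃ m : ℕ, ∑ x : ↥H, χ (x : G) = (Nat.card ↥H : ℂ) * (m : ℂ) := by
  obtain ⟨m, hm⟩ := Cfsg.Agent.Lib.helper2.classInner_character_nat
    (Cfsg.Agent.Lib.helper2.isCharacter_restrict hχ H) (brsumh_isCharacter_one ↥H)
  refine ⟨m, ?_⟩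
  rw [← hm]
  unfold Cfsg.classInner
  have hne : (Nat.card ↥H : ℂ) ≠ 0 := by exact_mod_cast Nat.card_pos.ne'
  rw [← mul_assoc, mul_inv_cancel₀ hne, one_mul]
  apply Finset.sum_congr rfl
  intro x _
  simp

end Cfsg.Agent.Lib.helper7.BR
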