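import Mathlib
import Cfsg.Agent.Lib.helper7.BR.Defs

/-!
# Project BR, piece CLS: `C_G(x) = C_G(P)` for `x ∈ P ∖ 1`, `|P| = p`; the elements of `P ∖ 1` are `p`-singular
-/

set_option autoImplicit false
set_option linter.unusedVariables false
set_option linter.unusedSectionVars false

namespace Cfsg.Agent.Lib.helper7.BR

open Classical
open Cfsg.Agent.Lib.Helper25

universe u

variable {G : Type u} [Group G] [Fintype G] {p : ℕ} [Fact p.Prime]

/-- CLS : `C_G(x) = C_G(P)` for `x ∈ P ∖ 1` (`P = ⟨x⟩`). -/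
theorem centralizer_eq_cen (P : Sylow p G) (hP : Nat.card ↥(P : Subgroup G) = p) (x : G)
    (hx : x ∈ (P : Subgroup G)) (hx1 : x ≠ 1) :
    Subgroup.centralizer ({x} : Set G) = cen P := by
  apply le_antisymm
  · intro g hg
    rw [Subgroup.mem_centralizer_singleton_iff] at hg
    rw [Subgroup.mem_centralizer_iff]
    intro y hy
    have hx1' : (⟨x, hx⟩ : ↥(P : Subgroup G)) ≠ 1 := by
      intro h1
      exact hx1 (congrArg Subtype.val h1)
    have htop : Subgroup.zpowers (⟨x, hx⟩ : ↥(P : Subgroup G)) = ⊤ :=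
      zpowers_eq_top_of_prime_card hP hx1'
    have hmem : (⟨y, hy⟩ : ↥(P : Subgroup G)) ∈ Subgroup.zpowers (⟨x, hx⟩ : ↥(P : Subgroup G)) := by
      rw [htop]
      exact Subgroup.mem_top _
    obtain ⟨k, hk⟩ := Subgroup.mem_zpowers_iff.mp hmem
    have hyk : y = x ^ k := by
      have := congrArg Subtype.val hk
      simpa using this.symm
    rw [hyk]
    have hc : Commute g x := hg
    exact ((hc.zpow_right k).eq).symm
  · apply Subgroup.centralizer_le
    intro y hy
    rw [Set.mem_singleton_iff] at hy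
    rw [hy]
    exact hx

/-- ORD : the elements of `P ∖ 1` are `p`-singular -/
theorem dvd_orderOf_of_mem (P : Sylow p G) (x : G) (hx : x ∈ (P : Subgroup G)) (hx1 : x ≠ 1) :
    p ∣ orderOf x := by
  obtain ⟨k, hk⟩ := (IsPGroup.iff_orderOf.mp P.2) ⟨x, hx⟩
  rw [Subgroup.orderOf_mk] at hk
  rw [hk]
  rcases Nat.eq_zero_or_pos k with h0 | h0
  · exfalso
    rw [h0, pow_zero, orderOf_eq_one_iff] at hk
    exact hx1 hk
  · exact dvd_pow_self p h0.ne'

end Cfsg.Agent.Lib.helper7.BR
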