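import Mathlib
import Cfsg.Agent.Lib.helper7.BR.Defs
import Cfsg.Agent.Lib.Helper25.CharOrth
import Cfsg.Agent.Lib.helper23.BRCLS
import Cfsg.Agent.Lib.Helper10.BRVAN1

/-!
# Project BR, piece VAN: the irreducible characters outside `1, Xp, Xm, Y` vanish on `P ∖ 1`
-/

set_option autoImplicit false
set_option linter.unusedVariables false
set_option linter.unusedSectionVars false

namespace Cfsg.Agent.Lib.helper7.BR

open Classical
open Cfsg.Agent.Lib.Helper25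
open scoped ComplexConjugate

universe u

variable {G : Type u} [Group G] [Fintype G] {p : ℕ} [Fact p.Prime] {P : Sylow p G} {q t : ℕ}
  {Xp Xm Y : Finset (Cfsg.IrrCharacter G)} {H : Subgroup G}

/-- column orthogonality at `(x, x)`, `x ∈ P ∖ 1`, in terms of `Complex.normSq` -/
theorem brvan_col [Fintype (Cfsg.IrrCharacter G)] (hS : Setting p P q t) (x : G)
    (hx : x ∈ (P : Subgroup G)) (hx1 : x ≠ 1) :
    ∑ χ : Cfsg.IrrCharacter G, Complex.normSq ((χ : G → ℂ) x) = (p : ℝ) := by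
  have h := irr_column_orthogonality (G := G) x x
  rw [if_pos (IsConj.refl x), centralizer_eq_cen P hS.cardP x hx hx1, hS.cent, hS.cardP] at h
  have h2 : ∑ χ : Cfsg.IrrCharacter G, (χ : G → ℂ) x * conj ((χ : G → ℂ) x) =
      ((∑ χ : Cfsg.IrrCharacter G, Complex.normSq ((χ : G → ℂ) x) : ℝ) : ℂ) := by
    push_cast
    apply Finset.sum_congr rfl
    intro χ _
    exact Complex.mul_conj _
  rw [h2] at h
  exact_mod_cast h

/-- the splitting of a sum over all the irreducible characters -/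
theorem brvan_split [Fintype (Cfsg.IrrCharacter G)] (hD : CharData p P q t Xp Xm Y)
    (f : Cfsg.IrrCharacter G → ℝ) :
    ∑ χ : Cfsg.IrrCharacter G, f χ =
      ∑ ψ ∈ rest Xp Xm Y, f ψ + (f (trivIrr G) + (∑ χ ∈ Xp, f χ + ∑ χ ∈ Xm, f χ + ∑ θ ∈ Y, f θ)) := by
  obtain ⟨h1, h2, h3⟩ := hD.triv_notMem
  obtain ⟨d1, d2, d3⟩ := hD.disj
  have hsub : insert (trivIrr G) (Xp ∪ Xm ∪ Y) ⊆ (Finset.univ : Finset (Cfsg.IrrCharacter G)) :=
    Finset.subset_univ _
  rw [← Finset.sum_sdiff hsub]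
  have hrest : Finset.univ \ insert (trivIrr G) (Xp ∪ Xm ∪ Y) = rest Xp Xm Y := by
    unfold rest
    ext χ
    simp
  rw [hrest]
  congr 1
  have hnot : trivIrr G ∉ Xp ∪ Xm ∪ Y := by
    simp only [Finset.mem_union, not_or]
    exact ⟨⟨h1, h2⟩, h3⟩
  rw [Finset.sum_insert hnot]
  congr 1
  have hd : Disjoint (Xp ∪ Xm) Y := by
    rw [Finset.disjoint_union_left]
    exact ⟨d2, d3⟩
  rw [Finset.sum_union hd, Finset.sum_union d1]

/-- VAN : the characters in `rest` vanish on `P ∖ 1` -/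
theorem rest_vanish [Fintype (Cfsg.IrrCharacter G)] (hS : Setting p P q t)
    (hD : CharData p P q t Xp Xm Y) (ψ : Cfsg.IrrCharacter G) (hψ : ψ ∈ rest Xp Xm Y) (x : G)
    (hx : x ∈ (P : Subgroup G)) (hx1 : x ≠ 1) : (ψ : G → ℂ) x = 0 := by
  have hp : p.Prime := hS.prime
  have hqp : q ≤ p := by
    have h1 := hS.qt
    have h2 := hS.ht
    have : q * 1 ≤ q * t := Nat.mul_le_mul_left q (by omega)
    omega
  -- the remainder
  set R : ↥(P : Subgroup G) → ℝ := fun y => ∑ ψ ∈ rest Xp Xm Y, Complex.normSq ((ψ : G → ℂ) (y : G))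
    with hR
  have hRnn : ∀ y, 0 ≤ R y := fun y => Finset.sum_nonneg (fun ψ _ => Complex.normSq_nonneg _)
  set S : Finset ↥(P : Subgroup G) := (Finset.univ : Finset ↥(P : Subgroup G)).erase 1 with hSdef
  have hScard : (S.card : ℝ) = (p : ℝ) - 1 := by
    rw [hSdef, Finset.card_erase_of_mem (Finset.mem_univ _), Finset.card_univ,
      ← Nat.card_eq_fintype_card, hS.cardP, Nat.cast_sub hp.one_le, Nat.cast_one]
  -- the equation at each point of `P ∖ 1`
  have hE : ∀ y ∈ S, (p : ℝ) = R y + ((q : ℝ) + ∑ θ ∈ Y, Complex.normSq ((θ : G → ℂ) (y : G))) := by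
    intro y hy
    have hy1 : (y : G) ≠ 1 := by
      intro h
      exact (Finset.mem_erase.mp hy).1 (Subtype.ext h)
    have h1 := brvan_col hS (y : G) y.2 hy1
    rw [brvan_split hD] at h1
    have hXp : ∑ χ ∈ Xp, Complex.normSq ((χ : G → ℂ) (y : G)) = (Xp.card : ℝ) := by
      rw [Finset.sum_congr rfl (fun χ hχ => by rw [hD.val_Xp χ hχ (y : G) y.2 hy1, map_one]),
        Finset.sum_const, nsmul_eq_mul, mul_one]
    have hXm : ∑ χ ∈ Xm, Complex.normSq ((χ : G → ℂ) (y : G)) = (Xm.card : ℝ) := by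
      rw [Finset.sum_congr rfl (fun χ hχ => by
        rw [hD.val_Xm χ hχ (y : G) y.2 hy1, Complex.normSq_neg, map_one]),
        Finset.sum_const, nsmul_eq_mul, mul_one]
    rw [hXp, hXm, trivIrr_apply, map_one] at h1
    have hq : (q : ℝ) = (Xp.card : ℝ) + (Xm.card : ℝ) + 1 := by
      have := hD.card_X
      exact_mod_cast this.symm
    rw [← h1, hq]
    ring
  -- the lower bound for the members of `Y`
  have hYlow : ∀ θ ∈ Y, (p : ℝ) * ((p : ℝ) - q) - ((p : ℝ) - q) ^ 2 ≤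
      ∑ y ∈ S, Complex.normSq ((θ : G → ℂ) (y : G)) := by
    intro θ hθ
    have hchar : Cfsg.IsCharacter G (θ : G → ℂ) := by
      obtain ⟨n, ρ, _, h⟩ := θ.2
      exact ⟨n, ρ, h⟩
    have h1 := sum_normSq_ge P hS.cardP (θ : G → ℂ) hchar (p - q) (hD.deg_Y θ hθ)
    have h2 : ∑ y ∈ S, Complex.normSq ((θ : G → ℂ) (y : G)) =
        ∑ y : ↥(P : Subgroup G), Complex.normSq ((θ : G → ℂ) (y : G)) -
          Complex.normSq ((θ : G → ℂ) ((1 : ↥(P : Subgroup G)) : G)) := by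
      rw [hSdef, ← Finset.add_sum_erase Finset.univ _ (Finset.mem_univ (1 : ↥(P : Subgroup G)))]
      ring
    have h3 : Complex.normSq ((θ : G → ℂ) ((1 : ↥(P : Subgroup G)) : G)) = ((p : ℝ) - q) ^ 2 := by
      rw [Subgroup.coe_one, hD.deg_Y θ hθ, Complex.normSq_natCast, Nat.cast_sub hqp]
      ring
    rw [h2, h3]
    have h4 : ((p * (p - q) : ℕ) : ℝ) = (p : ℝ) * ((p : ℝ) - q) := by
      rw [Nat.cast_mul, Nat.cast_sub hqp]
    rw [h4] at h1
    linarith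
  -- summation over `P ∖ 1`
  have hsum : ((p : ℝ) - 1) * (p : ℝ) = ∑ y ∈ S, R y + (((p : ℝ) - 1) * (q : ℝ) +
      ∑ y ∈ S, ∑ θ ∈ Y, Complex.normSq ((θ : G → ℂ) (y : G))) := by
    have h0 : ∑ y ∈ S, (p : ℝ) = ∑ y ∈ S, (R y + ((q : ℝ) +
        ∑ θ ∈ Y, Complex.normSq ((θ : G → ℂ) (y : G)))) := Finset.sum_congr rfl hE
    rw [Finset.sum_const, Finset.sum_add_distrib, Finset.sum_add_distrib, Finset.sum_const,
      nsmul_eq_mul, nsmul_eq_mul, hScard] at h0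
    exact h0
  have hcomm : ∑ y ∈ S, ∑ θ ∈ Y, Complex.normSq ((θ : G → ℂ) (y : G)) =
      ∑ θ ∈ Y, ∑ y ∈ S, Complex.normSq ((θ : G → ℂ) (y : G)) := Finset.sum_comm
  rw [hcomm] at hsum
  have hYsum : (t : ℝ) * ((p : ℝ) * ((p : ℝ) - q) - ((p : ℝ) - q) ^ 2) ≤
      ∑ θ ∈ Y, ∑ y ∈ S, Complex.normSq ((θ : G → ℂ) (y : G)) := by
    have := Finset.sum_le_sum hYlow
    rw [Finset.sum_const, nsmul_eq_mul, hD.card_Y] at this
    exact this
  have hqt : (q : ℝ) * (t : ℝ) = (p : ℝ) - 1 := by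
    have := hS.qt
    rw [← Nat.cast_mul, this, Nat.cast_sub hp.one_le, Nat.cast_one]
  have hRsum : ∑ y ∈ S, R y ≤ 0 := by
    have e : (t : ℝ) * ((p : ℝ) * ((p : ℝ) - q) - ((p : ℝ) - q) ^ 2) =
        ((p : ℝ) - 1) * ((p : ℝ) - q) := by
      rw [← hqt]; ring
    rw [e] at hYsum
    nlinarith
  have hR0 : ∀ y ∈ S, R y = 0 :=
    (Finset.sum_eq_zero_iff_of_nonneg (fun y _ => hRnn y)).mp
      (le_antisymm hRsum (Finset.sum_nonneg (fun y _ => hRnn y)))
  have hxS : (⟨x, hx⟩ : ↥(P : Subgroup G)) ∈ S := by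
    rw [hSdef, Finset.mem_erase]
    exact ⟨fun h => hx1 (congrArg Subtype.val h), Finset.mem_univ _⟩
  have h0 : ∑ ψ' ∈ rest Xp Xm Y, Complex.normSq ((ψ' : G → ℂ) x) = 0 := hR0 _ hxS
  have h1 := (Finset.sum_eq_zero_iff_of_nonneg
    (fun (ψ' : Cfsg.IrrCharacter G) _ => Complex.normSq_nonneg ((ψ' : G → ℂ) x))).mp h0 ψ hψ
  exact Complex.normSq_eq_zero.mp h1

end Cfsg.Agent.Lib.helper7.BR
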