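import Mathlib
import Cfsg.Agent.Lib.helper7.BR.Defs
import Cfsg.Agent.Lib.Helper25.CharOrth

/-!
# Project BR, piece PERF: in a perfect group the non-trivial irreducible characters have degree `≥ 2`
-/

set_option autoImplicit false
set_option linter.unusedVariables false
set_option linter.unusedSectionVars false

namespace Cfsg.Agent.Lib.helper7.BR

open Classical
open Cfsg.Agent.Lib.Helper25

universe u

variable {G : Type u} [Group G] [Fintype G] {p : ℕ} [Fact p.Prime]

/-- PERF : in a perfect group the non-trivial irreducible characters have degree `≥ 2`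
(`irr_linear_commutator` of `Helper25/CharLinear`). -/
theorem deg_ge_two (hperf : commutator G = ⊤) (χ : Cfsg.IrrCharacter G) (hχ : χ ≠ trivIrr G) :
    ∃ d : ℕ, 2 ≤ d ∧ (χ : G → ℂ) 1 = (d : ℂ) := by
  obtain ⟨d, hd, h1⟩ := irr_one_eq_finrank χ
  refine ⟨d, ?_, h1⟩
  by_contra hlt
  have hd1 : d = 1 := by omega
  apply hχ
  apply Subtype.ext
  funext g
  have hg : g ∈ commutator G := by rw [hperf]; exact Subgroup.mem_top g
  rw [hd1, Nat.cast_one] at h1
  rw [irr_linear_commutator χ h1 hg]
  rfl

end Cfsg.Agent.Lib.helper7.BR
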