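import Mathlib
import Cfsg.Agent.Lib.helper7.BD.Defs

/-!
# BD-SETUP1: a Sylow subgroup of order `p` and its normalizer form a `TISetup`
-/

set_option autoImplicit false

namespace Cfsg.Agent.Lib.helper7.BD

open Subgroup

universe u

section setup
variable {G : Type u} [Group G] [Finite G]

/-- SETUP1 -/
theorem tiSetup_of_sylow (p : ℕ) [Fact p.Prime] (P : Sylow p G) (hP : Nat.card P = p) :
    TISetup p (P : Subgroup G) (Subgroup.normalizer ((P : Subgroup G) : Set G)) := by
  have hidx : ¬ p ∣ (P : Subgroup G).index := P.not_dvd_index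
  have hmul := Subgroup.relIndex_mul_index (le_normalizer (H := (P : Subgroup G)))
  refine
    { card_P := hP
      P_le_N := le_normalizer
      normal := ?_
      ti := ?_
      idxN := ?_
      idxG := ?_ }
  · intro n hn x hx
    exact (mem_normalizer_iff.1 hn x).1 hx
  · intro g hg
    -- the conjugate `g⁻¹ P g`
    set Q : Subgroup G := (P : Subgroup G).map (MulAut.conj g⁻¹).toMonoidHom with hQ
    have hQmem : ∀ y, y ∈ Q ↔ ∃ x ∈ (P : Subgroup G), g⁻¹ * x * g = y := by
      intro y
      rw [hQ, Subgroup.mem_map]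
      constructor
      · rintro ⟨x, hx, rfl⟩
        exact ⟨x, hx, by simp⟩
      · rintro ⟨x, hx, rfl⟩
        exact ⟨x, hx, by simp⟩
    have hQp : IsPGroup p Q := P.isPGroup'.map _
    have hQN : Q ≤ normalizer ((P : Subgroup G) : Set G) := by
      intro y hy
      obtain ⟨x, hx, rfl⟩ := (hQmem y).1 hy
      exact hg x hx
    have hQP : Q ≤ (P : Subgroup G) := by
      have h1 : Q ⊓ normalizer ((P : Subgroup G) : Set G) = Q ⊓ (P : Subgroup G) :=
        hQp.inf_normalizer_sylow P
      have h2 : Q ⊓ normalizer ((P : Subgroup G) : Set G) = Q := inf_eq_left.2 hQN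
      rw [h2] at h1
      exact inf_eq_left.1 h1.symm
    have hcard : Nat.card Q = Nat.card (P : Subgroup G) :=
      Subgroup.card_map_of_injective (MulAut.conj g⁻¹).injective
    have hQeq : Q = (P : Subgroup G) :=
      Subgroup.eq_of_le_of_card_ge hQP (le_of_eq hcard.symm)
    -- hence `g⁻¹` normalizes `P`
    have hginv : g⁻¹ ∈ normalizer ((P : Subgroup G) : Set G) := by
      rw [mem_normalizer_iff]
      intro h
      constructor
      · intro hh
        have : g⁻¹ * h * g ∈ Q := (hQmem _).2 ⟨h, hh, rfl⟩
        rw [hQeq] at this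
        simpa using this
      · intro hh
        have h1 : g⁻¹ * h * g⁻¹⁻¹ ∈ Q := by rw [hQeq]; exact hh
        obtain ⟨x, hx, hxe⟩ := (hQmem _).1 h1
        have : x = h := by
          have h2 : g⁻¹ * x * g = g⁻¹ * h * g := by simpa using hxe
          have h3 := mul_left_cancel (mul_right_cancel h2)
          exact h3
        rw [← this]
        exact hx
    exact (inv_mem_iff (x := g)).1 hginv
  · intro hd
    exact hidx (hmul ▸ Dvd.dvd.mul_right hd _)
  · intro hd
    exact hidx (hmul ▸ Dvd.dvd.mul_left hd _)

end setup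

end Cfsg.Agent.Lib.helper7.BD
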