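import Mathlib
import Cfsg.Agent.Lib.helper7.BD.Defs

/-!
# BD-SETUP2: from a `TISetup` to a `LocalSetup` (Schur–Zassenhaus complement + generator)
-/

set_option autoImplicit false

namespace Cfsg.Agent.Lib.helper7.BD

open Subgroup

universe u

section setup
variable {G : Type u} [Group G] [Finite G]

/-- SETUP2 (Schur–Zassenhaus) -/
theorem exists_localSetup (p : ℕ) [Fact p.Prime] {P N : Subgroup G} (h : TISetup p P N) :
    ∃ (x : ↥N) (L : Subgroup ↥N), LocalSetup p x L ∧ ∀ y : ↥N, (y : G) ∈ P ↔ y ∈ Subgroup.zpowers x := by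
  have hp : p.Prime := Fact.out
  -- the normal subgroup `P` of `N`
  set P' : Subgroup ↥N := P.subgroupOf N with hP'
  haveI hnorm : P'.Normal := by
    constructor
    intro n hn g
    rw [hP', mem_subgroupOf] at hn ⊢
    exact h.normal g g.2 n hn
  have hcard : Nat.card P' = p := by
    rw [hP', Nat.card_congr (Subgroup.subgroupOfEquivOfLe h.P_le_N).toEquiv]
    exact h.card_P
  have hindex : P'.index = P.relIndex N := rfl
  have hcop : Nat.Coprime (Nat.card P') P'.index := by
    rw [hcard, hindex]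
    exact (Nat.Prime.coprime_iff_not_dvd hp).2 h.idxN
  obtain ⟨L, hL⟩ := Subgroup.exists_right_complement'_of_coprime hcop
  -- a generator of `P'`
  haveI : Fact p.Prime := ⟨hp⟩
  have hcyc : IsCyclic P' := isCyclic_of_prime_card hcard
  obtain ⟨x₀, hx₀⟩ := hcyc.exists_generator
  set x : ↥N := (x₀ : ↥N) with hx
  have hzp : ∀ y : ↥N, y ∈ P' ↔ y ∈ Subgroup.zpowers x := by
    intro y
    constructor
    · intro hy
      have h1 := hx₀ ⟨y, hy⟩
      rw [Subgroup.mem_zpowers_iff] at h1 ⊢
      obtain ⟨k, hk⟩ := h1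
      refine ⟨k, ?_⟩
      have h2 := congrArg (Subtype.val) hk
      rw [Subgroup.coe_zpow] at h2
      exact h2
    · intro hy
      rw [Subgroup.mem_zpowers_iff] at hy
      obtain ⟨k, rfl⟩ := hy
      exact P'.zpow_mem x₀.2 k
  have hnat : ∀ y : ↥N, y ∈ P' → ∃ k : ℕ, y = x ^ k := by
    intro y hy
    have h1 := (hzp y).1 hy
    rw [← mem_powers_iff_mem_zpowers, Submonoid.mem_powers_iff] at h1
    obtain ⟨k, hk⟩ := h1
    exact ⟨k, hk.symm⟩
  refine ⟨x, L, ?_, ?_⟩
  · refine
      { pow := ?_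
        gen := ?_
        norm := ?_
        cardL := ?_ }
    · have h1 : x₀ ^ p = 1 := by
        rw [← hcard]
        exact pow_card_eq_one'
      have h2 := congrArg (Subtype.val) h1
      rw [Subgroup.coe_pow] at h2
      exact h2
    · intro g
      have hc : IsComplement (P' : Set ↥N) (L : Set ↥N) := hL
      obtain ⟨⟨a, l⟩, hal, -⟩ := hc.existsUnique g
      obtain ⟨k, hk⟩ := hnat a a.2
      refine ⟨k, l, l.2, ?_⟩
      rw [← hk]
      exact hal.symm
    · intro g
      have h1 : g * x * g⁻¹ ∈ P' := hnorm.conj_mem x x₀.2 g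
      obtain ⟨k, hk⟩ := hnat _ h1
      exact ⟨k, hk⟩
    · have h1 : Nat.card L = P'.index := by
        have h2 := hL.symm.index_eq_card
        exact h2.symm
      rw [h1, hindex]
      exact h.idxN
  · intro y
    rw [← hzp y, hP', mem_subgroupOf]

end setup

end Cfsg.Agent.Lib.helper7.BD
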