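import Mathlib
import Cfsg.Prelude.Def_OddOrderChar
import Cfsg.Agent.Lib.helper7.BD.D1Defs
import Cfsg.Agent.Lib.helper7.BD.D1Defs2
import Cfsg.Agent.Lib.Helper25.CharOrth

/-!
# Project BD, piece 3-CJ4 : the multiplicity of a conjugate character in a restriction
-/

set_option autoImplicit false
set_option linter.unusedVariables false
set_option linter.unusedSectionVars false
set_option linter.style.haveILetI false

namespace Cfsg.Agent.Lib.helper7.BD

open Cfsg.Agent.Lib.helper7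

universe u

section cj

variable {G : Type u} [Group G] (H : Subgroup G)

/-- CJ4 : the multiplicity of `ξ^n` in the restriction of a character of `G` is that of `ξ` -/
theorem classInner_res_cjIrr [Fintype ↥H] {n : G} (hn : n ∈ Subgroup.normalizer (H : Set G))
    (χ : Cfsg.IrrCharacter G) (ξ : Cfsg.IrrCharacter H) :
    Cfsg.classInner (cjIrr H n ξ : ↥H → ℂ) (fun c : ↥H => (χ : G → ℂ) (c : G)) =
      Cfsg.classInner (ξ : ↥H → ℂ) (fun c : ↥H => (χ : G → ℂ) (c : G)) := by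
  unfold Cfsg.classInner
  congr 1
  rw [← Equiv.sum_comp (H.normalizerMonoidHom ⟨n, hn⟩).toEquiv]
  refine Finset.sum_congr rfl fun h _ => ?_
  have h1 : (cjIrr H n ξ : ↥H → ℂ) ((H.normalizerMonoidHom ⟨n, hn⟩).toEquiv h) = (ξ : ↥H → ℂ) h :=
    cjIrr_conj H hn ξ h _ rfl
  have h2 : (χ : G → ℂ) (((H.normalizerMonoidHom ⟨n, hn⟩).toEquiv h : ↥H) : G) =
      (χ : G → ℂ) (h : G) := by
    have h3 : (((H.normalizerMonoidHom ⟨n, hn⟩).toEquiv h : ↥H) : G) = n * (h : G) * n⁻¹ := rfl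
    rw [h3]
    exact Cfsg.Agent.Lib.Helper25.irr_conj_invariant χ (h : G) n
  show (cjIrr H n ξ : ↥H → ℂ) ((H.normalizerMonoidHom ⟨n, hn⟩).toEquiv h) *
      (starRingEnd ℂ) ((χ : G → ℂ) (((H.normalizerMonoidHom ⟨n, hn⟩).toEquiv h : ↥H) : G)) =
    (ξ : ↥H → ℂ) h * (starRingEnd ℂ) ((χ : G → ℂ) (h : G))
  rw [h1, h2]

end cj

end Cfsg.Agent.Lib.helper7.BD
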