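import Mathlib
import Cfsg.Prelude.Def_OddOrderChar
import Cfsg.Agent.Lib.helper7.BD.D1Defs
import Cfsg.Agent.Lib.helper7.BD.D1Defs2
import Cfsg.Agent.Lib.Helper25.CharAbelian

/-!
# Project BD, piece 3-MULT : multiplicities are natural numbers
-/

set_option autoImplicit false
set_option linter.unusedVariables false
set_option linter.unusedSectionVars false
set_option linter.style.haveILetI false

namespace Cfsg.Agent.Lib.helper7.BD

open Cfsg.Agent.Lib.helper7

universe u

section glob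

variable {G : Type u} [Group G] [Fintype G] {M : Ideal Cfsg.AlgInt} {p : ℕ} [Fact p.Prime]
  {P : Sylow p G} {B : Set (Cfsg.IrrCharacter G)}
  {b : Set (Cfsg.IrrCharacter (Subgroup.centralizer ((P : Subgroup G) : Set G)))}
  {θ : Cfsg.IrrCharacter (Subgroup.centralizer ((P : Subgroup G) : Set G))} {T : Subgroup G}

/-- MULT : multiplicities are natural numbers -/
theorem mult_nat (H : Subgroup G) [Fintype ↥H] (χ : Cfsg.IrrCharacter G) (ξ : Cfsg.IrrCharacter H) :
    ∃ m : ℕ, Cfsg.classInner (fun c : ↥H => (χ : G → ℂ) (c : G)) (ξ : ↥H → ℂ) = (m : ℂ) ∧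
      Cfsg.classInner (ξ : ↥H → ℂ) (fun c : ↥H => (χ : G → ℂ) (c : G)) = (m : ℂ) := by
  obtain ⟨n, ρ, hρ, hχ⟩ := χ.2
  obtain ⟨m, hm⟩ := Cfsg.Agent.Lib.Helper25.classInner_char_irr_nat
    (MonoidHom.comp ρ H.subtype : Representation ℂ ↥H (Fin n → ℂ)) ξ
  have h1 : (fun c : ↥H => (χ : G → ℂ) (c : G)) =
      Representation.character (MonoidHom.comp ρ H.subtype : Representation ℂ ↥H (Fin n → ℂ)) := by
    funext c
    rw [← hχ]
    rfl
  refine ⟨m, ?_, ?_⟩
  · rw [h1, hm]
  · rw [Cfsg.Agent.Lib.Helper25.classInner_conj_symm, h1, hm, Complex.conj_natCast]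

end glob

end Cfsg.Agent.Lib.helper7.BD
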