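import Mathlib
import Cfsg.Agent.Lib.Helper29.LeoConcrete2

/-!
# Project BH, piece SING : in the concrete set-up, `π c ≠ 1` iff `c` is `p`-singular
-/

set_option autoImplicit false
set_option linter.unusedVariables false
set_option linter.unusedSectionVars false
open scoped ComplexConjugate
open Classical

namespace Cfsg.Agent.Lib.helper15.BH

open Cfsg.Agent.Lib.helper7 Cfsg.Agent.Lib.helper2 Cfsg.Agent.Lib.Helper25 Cfsg.Agent.Lib.Helper29

universe u

section concrete

variable {G : Type u} [Group G] [Fintype G] {p : ℕ} [Fact p.Prime]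

/-- SING : in the concrete set-up, `π c ≠ 1` iff `c` is `p`-singular -/
theorem pi_ne_one_iff (P : Sylow p G) (hstar : LeoStar P)
    (π : ↥(Subgroup.centralizer ((P : Subgroup G) : Set G)) →* ↥(P : Subgroup G))
    (hπ : ∀ x : ↥(P : Subgroup G), π (Subgroup.inclusion (leoc_P_le_C hstar) x) = x)
    (c : ↥(Subgroup.centralizer ((P : Subgroup G) : Set G))) :
    π c ≠ 1 ↔ p ∣ orderOf (c : G) := by
  have hp : p.Prime := Fact.out
  constructor
  · intro h
    by_contra hnd
    exact h (leoc_pi_eq_one π c hnd)
  · intro hdvd h1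
    rw [Subgroup.orderOf_coe] at hdvd
    have ho : orderOf c ≠ 0 := (orderOf_pos c).ne'
    set z := c ^ (orderOf c / p) with hz
    have hzo : orderOf z = p := orderOf_pow_orderOf_div ho hdvd
    have hzo' : orderOf (z : G) = p := by
      rw [Subgroup.orderOf_coe]
      exact hzo
    have hzP : (z : G) ∈ (P : Subgroup G) := by
      apply leoc_pel z.2
      exact leoc_isPGroup_zpowers 1 (by rw [hzo', pow_one])
    have hzeq : z = Subgroup.inclusion (leoc_P_le_C hstar) ⟨(z : G), hzP⟩ := by
      apply Subtype.ext
      rfl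
    have h2 : π z = ⟨(z : G), hzP⟩ := by
      have h5 := hπ ⟨(z : G), hzP⟩
      rw [← hzeq] at h5
      exact h5
    have h3 : π z = 1 := by
      rw [hz, map_pow, h1, one_pow]
    rw [h3] at h2
    have h4 : (z : G) = 1 := by
      have := congrArg Subtype.val h2
      simpa using this.symm
    rw [h4, orderOf_one] at hzo'
    exact hp.one_lt.ne hzo'

end concrete

end Cfsg.Agent.Lib.helper15.BH
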