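import Mathlib
import Cfsg.Prelude.Def_OddOrderChar
import Cfsg.Agent.Lib.helper7.BD.D1Defs
import Cfsg.Agent.Lib.helper7.BD.D1Defs2
import Cfsg.Agent.Lib.helper7.BlockHom
import Cfsg.Agent.Lib.Helper25.DefectZeroCount
import Cfsg.Agent.S0908
import Cfsg.Agent.S0914

/-!
# Project BD, piece 3-PNDVD : the degrees of the members of `B` are prime to `p`
-/

set_option autoImplicit false
set_option linter.unusedVariables false
set_option linter.unusedSectionVars false
set_option linter.style.haveILetI false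

namespace Cfsg.Agent.Lib.helper7.BD

open Cfsg.Agent.Lib.helper7

universe u

section glob

variable {G : Type u} [Group G] [Fintype G] {M : Ideal Cfsg.AlgInt} {p : ℕ} [Fact p.Prime]
  {P : Sylow p G} {B : Set (Cfsg.IrrCharacter G)}
  {b : Set (Cfsg.IrrCharacter (Subgroup.centralizer ((P : Subgroup G) : Set G)))}
  {θ : Cfsg.IrrCharacter (Subgroup.centralizer ((P : Subgroup G) : Set G))} {T : Subgroup G}

/-- PNDVD : the degrees of the members of `B` are prime to `p` -/
theorem root_not_dvd (h : RootHyp p M P B b θ T) (χ : Cfsg.IrrCharacter G) (hχ : χ ∈ B) :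
    ¬ p ∣ Cfsg.charDegree (χ : G → ℂ) := by
  classical
  intro hdvd
  have hp : p.Prime := Fact.out
  haveI : Fintype (Cfsg.IrrCharacter G) := Fintype.ofFinite _
  have hMp : M.IsPrime := h.hM.2.1.isPrime
  have hf1 : (Nat.card G).factorization p = 1 := by
    have h1 := P.card_eq_multiplicity
    rw [h.card_P] at h1
    have h2 : p ^ 1 = p ^ (Nat.card G).factorization p := by
      rw [pow_one]
      exact h1
    exact (Nat.pow_right_injective hp.two_le h2).symm
  have hd1 : Cfsg.blockDefect p B = 1 := by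
    have h2 := Cfsg.Agent.S0908.result p M h.hM B h.hB (P : Subgroup G) h.hBP
    have h3 : Nat.card (P : Subgroup G) = p := h.card_P
    rw [h3] at h2
    have h4 : p ^ 1 = p ^ Cfsg.blockDefect p B := by
      rw [pow_one]
      exact h2
    exact (Nat.pow_right_injective hp.two_le h4).symm
  have hdc : Cfsg.charDegree (χ : G → ℂ) ∣ Nat.card G :=
    Cfsg.Agent.Lib.Helper25.charDegree_dvd_card χ
  have hdpos : 0 < Cfsg.charDegree (χ : G → ℂ) := (Cfsg.Agent.Lib.Helper25.charDegree_irr χ).2
  have hnd : ¬ p ∣ Nat.card G / Cfsg.charDegree (χ : G → ℂ) := by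
    intro h4
    have h5 : Cfsg.charDegree (χ : G → ℂ) * p ∣ Nat.card G := Nat.mul_dvd_of_dvd_div hdc h4
    have h6 : p ^ 2 ∣ Nat.card G := by
      rw [pow_two]
      exact (mul_dvd_mul_right hdvd p).trans h5
    have h7 : 2 ≤ (Nat.card G).factorization p :=
      (hp.pow_dvd_iff_le_factorization Nat.card_pos.ne').mp h6
    omega
  have hsing := (Cfsg.Agent.S0914.result p M h.hM χ).mp hnd
  obtain ⟨χ0, hB0⟩ := h.hB
  have hBχ : B = {χ} := by
    have hmem : χ ∈ Cfsg.blockOf M (χ0 : G → ℂ) := hB0 ▸ hχ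
    rw [hB0, h7_blockOf_eq_of_mem hMp χ0 χ hmem, hsing]
  have hd0 : Cfsg.blockDefect p B = 0 := by
    rw [hBχ]
    unfold Cfsg.blockDefect
    rw [Set.image_singleton, csInf_singleton, hf1]
    have h8 : 1 ≤ (Cfsg.charDegree (χ : G → ℂ)).factorization p :=
      (hp.dvd_iff_one_le_factorization hdpos.ne').mp hdvd
    omega
  omega

end glob

end Cfsg.Agent.Lib.helper7.BD
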