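import Mathlib
import Cfsg.Agent.Lib.Helper29.LeoConcrete2

/-!
# Project BH, piece INDEX : the orbit of a character of `C` with non-trivial central character on `P`
has `|N : C|` elements
-/

set_option autoImplicit false
set_option linter.unusedVariables false
set_option linter.unusedSectionVars false
open scoped ComplexConjugate
open Classical

namespace Cfsg.Agent.Lib.helper15.BH

open Cfsg.Agent.Lib.helper7 Cfsg.Agent.Lib.helper2 Cfsg.Agent.Lib.Helper25 Cfsg.Agent.Lib.Helper29

universe u

section concrete

variable {G : Type u} [Group G] [Fintype G] {p : ℕ} [Fact p.Prime]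

/-- INDEX : the orbit of a character of `C` with non-trivial central character on `P` has `|N : C|` elements -/
theorem orbit_card_eq_relIndex (P : Sylow p G) (hstar : LeoStar P)
    (π : ↥(Subgroup.centralizer ((P : Subgroup G) : Set G)) →* ↥(P : Subgroup G))
    (hπ : ∀ x : ↥(P : Subgroup G), π (Subgroup.inclusion (leoc_P_le_C hstar) x) = x)
    (θ₁ : Cfsg.IrrCharacter ↥(Subgroup.centralizer ((P : Subgroup G) : Set G)))
    (hθ₁ : leoOm (leoc_setup hstar π hπ) θ₁ ≠ 1) :
    (leoOrb (leoc_setup hstar π hπ) θ₁).card =
      (Subgroup.centralizer ((P : Subgroup G) : Set G)).relIndex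
        (Subgroup.normalizer ((P : Subgroup G) : Set G)) := by
  have h1 := leo_orbit_card (leoc_setup hstar π hπ) θ₁ hθ₁
  have hle : Subgroup.centralizer ((P : Subgroup G) : Set G) ≤
      Subgroup.normalizer ((P : Subgroup G) : Set G) := Subgroup.centralizer_le_normalizer _
  have h2 := Subgroup.card_mul_index ((Subgroup.centralizer ((P : Subgroup G) : Set G)).subgroupOf
    (Subgroup.normalizer ((P : Subgroup G) : Set G)))
  rw [Nat.card_congr (Subgroup.subgroupOfEquivOfLe hle).toEquiv] at h2
  have h3 : 0 < Nat.card ↥(Subgroup.centralizer ((P : Subgroup G) : Set G)) := Nat.card_pos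
  have h4 : (leoOrb (leoc_setup hstar π hπ) θ₁).card *
      Nat.card ↥(Subgroup.centralizer ((P : Subgroup G) : Set G)) =
      ((Subgroup.centralizer ((P : Subgroup G) : Set G)).subgroupOf
        (Subgroup.normalizer ((P : Subgroup G) : Set G))).index *
      Nat.card ↥(Subgroup.centralizer ((P : Subgroup G) : Set G)) := by
    rw [h1, ← h2, mul_comm]
  exact Nat.eq_of_mul_eq_mul_right h3 h4

end concrete

end Cfsg.Agent.Lib.helper15.BH
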