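import Mathlib
import Cfsg.Agent.Lib.Helper29.LeoConcrete2

/-!
# Project BH, piece STAR : a Sylow subgroup of prime order satisfies the uniform centralizer hypothesis
-/

set_option autoImplicit false
set_option linter.unusedVariables false
set_option linter.unusedSectionVars false
open scoped ComplexConjugate
open Classical

namespace Cfsg.Agent.Lib.helper15.BH

open Cfsg.Agent.Lib.helper7 Cfsg.Agent.Lib.helper2 Cfsg.Agent.Lib.Helper25 Cfsg.Agent.Lib.Helper29

universe u

section concrete

variable {G : Type u} [Group G] [Fintype G] {p : ℕ} [Fact p.Prime]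

/-- STAR : a Sylow subgroup of prime order satisfies the uniform centralizer hypothesis -/
theorem leoStar_of_card (P : Sylow p G) (hP : Nat.card ↥(P : Subgroup G) = p) : LeoStar P := by
  intro x hx hx1
  apply le_antisymm
  · intro g hg
    rw [Subgroup.mem_centralizer_singleton_iff] at hg
    rw [Subgroup.mem_centralizer_iff]
    intro y hy
    have hx1' : (⟨x, hx⟩ : ↥(P : Subgroup G)) ≠ 1 := by
      intro h1
      exact hx1 (congrArg Subtype.val h1)
    have htop : Subgroup.zpowers (⟨x, hx⟩ : ↥(P : Subgroup G)) = ⊤ :=
      zpowers_eq_top_of_prime_card hP hx1'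
    have hmem : (⟨y, hy⟩ : ↥(P : Subgroup G)) ∈ Subgroup.zpowers (⟨x, hx⟩ : ↥(P : Subgroup G)) := by
      rw [htop]
      exact Subgroup.mem_top _
    obtain ⟨k, hk⟩ := Subgroup.mem_zpowers_iff.mp hmem
    have hyk : y = x ^ k := by
      have := congrArg Subtype.val hk
      simpa using this.symm
    rw [hyk]
    have hc : Commute g x := hg
    exact ((hc.zpow_right k).eq).symm
  · apply Subgroup.centralizer_le
    intro y hy
    rw [Set.mem_singleton_iff] at hy
    rw [hy]
    exact hx

end concrete

end Cfsg.Agent.Lib.helper15.BH
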