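import Mathlib
import Cfsg.Agent.Lib.helper15.PSL.Defs
import Cfsg.Agent.Lib.Helper25.CharOrth
import Cfsg.Agent.Lib.Helper28.PSLVANISH
import Cfsg.Agent.Lib.Helper10.PSLQY

/-!
# PSL piece T1SUM : the class multiplication constant, summed over the characters trivial on the centre
-/

set_option autoImplicit false
set_option linter.unusedVariables false
set_option linter.unusedSectionVars false
open scoped ComplexConjugate
open Classical

namespace Cfsg.Agent.Lib.helper15.PSL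

open Cfsg.Agent.Lib.helper7 Cfsg.Agent.Lib.helper7.BR Cfsg.Agent.Lib.helper2 Cfsg.Agent.Lib.Helper25
  Cfsg.Agent.Lib.Helper29 Cfsg.Agent.Lib.helper15.BH

universe u

variable {G : Type u} [Group G] [Fintype G] {p : ℕ} [Fact p.Prime]

/-- the elements of `P ∖ 1` are `p`-singular -/
theorem pslt1sum_sing {f : ℕ} {P : Sylow p G} (hL : Loc p f P) (x : G)
    (hx : x ∈ (P : Subgroup G)) (hx1 : x ≠ 1) : p ∣ orderOf x := by
  have h1 : orderOf x ∣ p := by
    have := Subgroup.orderOf_dvd_natCard (P : Subgroup G) hx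
    rwa [hL.cardP] at this
  have hp : p.Prime := Fact.out
  rcases (Nat.dvd_prime hp).mp h1 with h | h
  · exact absurd (orderOf_eq_one_iff.mp h) hx1
  · rw [h]

/-- the members of the principal block have trivial central character -/
theorem pslt1sum_same {f : ℕ} {P : Sylow p G} {X Y : Finset (Cfsg.IrrCharacter G)}
    {a : Cfsg.IrrCharacter G → ℤ} {ε : ℤ} {D : ℕ} (hB : PB p f (P : Subgroup G) X Y a ε D)
    (ξ : Cfsg.IrrCharacter G) (hξ : ξ ∈ X ∪ Y) : SameCC (trivIrr G) ξ := by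
  intro ζ hζ
  have h := hB.cker ξ hξ ζ hζ 1
  rw [one_mul] at h
  rw [h, trivIrr_apply, trivIrr_apply]
  ring

/-- the column sum of `X ∪ Y` at an element of `P ∖ 1` -/
theorem pslt1sum_col {f : ℕ} {P : Sylow p G}
    {X Y : Finset (Cfsg.IrrCharacter G)} {a : Cfsg.IrrCharacter G → ℤ} {ε : ℤ} {D : ℕ}
    (hL : Loc p f P) (hB : PB p f (P : Subgroup G) X Y a ε D)
    (a₀ : G) (ha₀ : a₀ ∈ (P : Subgroup G)) (ha₀1 : a₀ ≠ 1) :
    ∑ ξ ∈ X ∪ Y, (ξ : G → ℂ) a₀ * conj ((ξ : G → ℂ) a₀) = (p : ℂ) := by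
  have hsa : p ∣ orderOf a₀ := pslt1sum_sing hL a₀ ha₀ ha₀1
  rw [Finset.sum_union hB.disj]
  have hX : ∑ ξ ∈ X, (ξ : G → ℂ) a₀ * conj ((ξ : G → ℂ) a₀) = (f : ℂ) := by
    have h1 : ∀ ξ ∈ X, (ξ : G → ℂ) a₀ * conj ((ξ : G → ℂ) a₀) = 1 := by
      intro ξ hξ
      rw [hB.valX ξ hξ a₀ hsa]
      rcases hB.a_pm ξ hξ with h | h <;> rw [h] <;> simp
    rw [Finset.sum_congr rfl h1]
    simp [hB.cardX]
  have hY : ∑ η ∈ Y, (η : G → ℂ) a₀ * conj ((η : G → ℂ) a₀) = (f : ℂ) + 1 := by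
    have h1 := Q_Y hL hB a₀ a₀⁻¹ ha₀ ha₀1 (inv_mem ha₀) (inv_ne_one.mpr ha₀1)
    rw [if_pos (IsConj.refl _)] at h1
    rw [← h1]
    refine Finset.sum_congr rfl fun η _ => ?_
    rw [irr_inv]
  rw [hX, hY, ← hL.two_f]
  push_cast
  ring

/-- T1SUM : the class multiplication constant, summed over the characters trivial on the centre -/
theorem t1_sum [Fintype (Cfsg.IrrCharacter G)] {f : ℕ} {P : Sylow p G}
    {X Y : Finset (Cfsg.IrrCharacter G)} {a : Cfsg.IrrCharacter G → ℤ} {ε : ℤ} {D : ℕ}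
    (hL : Loc p f P) (hB : PB p f (P : Subgroup G) X Y a ε D)
    (a₀ b : G) (ha₀ : a₀ ∈ (P : Subgroup G)) (ha₀1 : a₀ ≠ 1) (hb : b ∈ (P : Subgroup G)) (hb1 : b ≠ 1)
    (z : G) (hz : ¬ p ∣ orderOf z) (y : ℂ) (hy : ∀ η ∈ Y, (η : G → ℂ) z = y) :
    ∑ ξ ∈ Finset.univ.filter (SameCC (trivIrr G)), term a₀ b z ξ =
      Upart X z + (∑ η ∈ Y, (η : G → ℂ) a₀ * (η : G → ℂ) b) * conj y / (D : ℂ) := by
  have hsa : p ∣ orderOf a₀ := pslt1sum_sing hL a₀ ha₀ ha₀1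
  have hsb : p ∣ orderOf b := pslt1sum_sing hL b hb hb1
  have hsame : ∀ ξ ∈ X ∪ Y, SameCC (trivIrr G) ξ := fun ξ hξ => pslt1sum_same hB ξ hξ
  have hcol := pslt1sum_col hL hB a₀ ha₀ ha₀1
  have hvan := vanish_of_complete hL (trivIrr G) a₀ ha₀ ha₀1 (X ∪ Y) hsame hcol
  have hsub : X ∪ Y ⊆ Finset.univ.filter (SameCC (trivIrr G)) := by
    intro ξ hξ
    rw [Finset.mem_filter]
    exact ⟨Finset.mem_univ _, hsame ξ hξ⟩
  rw [← Finset.sum_subset hsub]
  · rw [Finset.sum_union hB.disj]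
    congr 1
    · unfold Upart
      refine Finset.sum_congr rfl fun ξ hξ => ?_
      unfold term
      rw [hB.valX ξ hξ a₀ hsa, hB.valX ξ hξ b hsb]
      rcases hB.a_pm ξ hξ with h | h <;> rw [h] <;> simp
    · rw [Finset.sum_mul, Finset.sum_div]
      refine Finset.sum_congr rfl fun η hη => ?_
      unfold term
      rw [hy η hη, hB.degY η hη]
  · intro ξ hξ hξn
    unfold term
    rw [hvan ξ (Finset.mem_filter.mp hξ).2 hξn]
    simp
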