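import Mathlib
import Cfsg.Agent.Lib.helper15.PSL.Defs
import Cfsg.Agent.Lib.helper2.CharNat

/-!
# PSL piece DEGSUM : the degrees of some constituents add up to at most the degree
-/

set_option autoImplicit false
set_option linter.unusedVariables false
set_option linter.unusedSectionVars false
open scoped ComplexConjugate
open Classical

namespace Cfsg.Agent.Lib.helper15.PSL

open Cfsg.Agent.Lib.helper7 Cfsg.Agent.Lib.helper7.BR Cfsg.Agent.Lib.helper2 Cfsg.Agent.Lib.Helper25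
  Cfsg.Agent.Lib.Helper29 Cfsg.Agent.Lib.helper15.BH

universe u

variable {G : Type u} [Group G] [Fintype G] {p : ℕ} [Fact p.Prime]

/-- the degree of a character as the sum of multiplicity times degree -/
theorem psldegsum_deg [Fintype (Cfsg.IrrCharacter G)] {Ψ : G → ℂ} (hΨ : Cfsg.IsCharacter G Ψ) :
    ∃ m : Cfsg.IrrCharacter G → ℕ,
      (∀ χ : Cfsg.IrrCharacter G, Cfsg.classInner Ψ (χ : G → ℂ) = (m χ : ℂ)) ∧
      Ψ 1 = ((∑ χ : Cfsg.IrrCharacter G, m χ * leoDeg χ : ℕ) : ℂ) := by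
  obtain ⟨m, hm, hexp⟩ := isCharacter_expansion hΨ
  refine ⟨m, hm, ?_⟩
  have h1 : Ψ 1 = ∑ χ : Cfsg.IrrCharacter G, (m χ : ℂ) * (χ : G → ℂ) 1 := by
    conv_lhs => rw [hexp]
    simp [Finset.sum_apply]
  rw [h1]
  push_cast
  refine Finset.sum_congr rfl fun χ _ => ?_
  rw [leoDeg_spec]

/-- DEGSUM : the degrees of some constituents add up to at most the degree -/
theorem degree_sum_le {Ψ : G → ℂ} (hΨ : Cfsg.IsCharacter G Ψ) (S : Finset (Cfsg.IrrCharacter G))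
    (hS : ∀ ξ ∈ S, Cfsg.classInner Ψ (ξ : G → ℂ) ≠ 0) (d : ℕ) (hd : Ψ 1 = (d : ℂ)) :
    ∑ ξ ∈ S, leoDeg ξ ≤ d := by
  haveI : Fintype (Cfsg.IrrCharacter G) := Fintype.ofFinite _
  obtain ⟨m, hm, hdeg⟩ := psldegsum_deg hΨ
  rw [hd] at hdeg
  have hd' : d = ∑ χ : Cfsg.IrrCharacter G, m χ * leoDeg χ := by exact_mod_cast hdeg
  rw [hd']
  calc ∑ ξ ∈ S, leoDeg ξ ≤ ∑ ξ ∈ S, m ξ * leoDeg ξ := by
        apply Finset.sum_le_sum
        intro ξ hξ
        have h1 : m ξ ≠ 0 := by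
          intro h0
          apply hS ξ hξ
          rw [hm, h0]
          simp
        have h2 : 1 ≤ m ξ := Nat.one_le_iff_ne_zero.mpr h1
        calc leoDeg ξ = 1 * leoDeg ξ := (one_mul _).symm
          _ ≤ m ξ * leoDeg ξ := Nat.mul_le_mul_right _ h2
    _ ≤ ∑ χ : Cfsg.IrrCharacter G, m χ * leoDeg χ :=
        Finset.sum_le_sum_of_subset (Finset.subset_univ S)
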