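import Mathlib
import Cfsg.Agent.Lib.helper15.PSL.Defs
import Cfsg.Agent.Lib.Helper25.CharOrth
import Cfsg.Agent.Lib.Helper21.PSLPOS
import Cfsg.Agent.Lib.Helper13.PSLEXB
import Cfsg.Agent.Lib.Helper10.PSLQY
import Cfsg.Agent.Lib.helper23.PSLT1SUM

/-!
# PSL piece INEQ1 : the two inequalities from the principal block
-/

set_option autoImplicit false
set_option linter.unusedVariables false
set_option linter.unusedSectionVars false
open scoped ComplexConjugate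
open Classical

namespace Cfsg.Agent.Lib.helper15.PSL

open Cfsg.Agent.Lib.helper7 Cfsg.Agent.Lib.helper7.BR Cfsg.Agent.Lib.helper2 Cfsg.Agent.Lib.Helper25
  Cfsg.Agent.Lib.Helper29 Cfsg.Agent.Lib.helper15.BH

universe u

variable {G : Type u} [Group G] [Fintype G] {p : ℕ} [Fact p.Prime]

/-- a non-identity element of `P` -/
theorem pslineq1_exists {f : ℕ} {P : Sylow p G} (hL : Loc p f P) :
    ∃ a₀ ∈ (P : Subgroup G), a₀ ≠ 1 := by
  by_contra hcon
  push Not at hcon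
  have hbot : (P : Subgroup G) = ⊥ := (Subgroup.eq_bot_iff_forall _).mpr hcon
  have h1 := hL.cardP
  rw [hbot, Subgroup.card_bot] at h1
  have hp : p.Prime := Fact.out
  exact hp.one_lt.ne' h1.symm

/-- the sum over the characters trivial on the centre is a non-negative real -/
theorem pslineq1_pos [Fintype (Cfsg.IrrCharacter G)] (a b z : G) :
    (∑ ξ ∈ Finset.univ.filter (SameCC (trivIrr G)), term a b z ξ).im = 0 ∧
      0 ≤ (∑ ξ ∈ Finset.univ.filter (SameCC (trivIrr G)), term a b z ξ).re := by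
  obtain ⟨r, hr, hle⟩ := pos_main (trivIrr G) a b z
  have h0 : 0 ≤ r := le_trans (norm_nonneg _) hle
  rw [hr]
  exact ⟨Complex.ofReal_im r, by rw [Complex.ofReal_re]; exact h0⟩

/-- INEQ1 : the two inequalities from the principal block -/
theorem ineq_one {f : ℕ} {P : Sylow p G} {X Y : Finset (Cfsg.IrrCharacter G)}
    {a : Cfsg.IrrCharacter G → ℤ} {ε : ℤ} {D : ℕ} (hL : Loc p f P)
    (hB : PB p f (P : Subgroup G) X Y a ε D)
    (z : G) (hz : ¬ p ∣ orderOf z) (y : ℂ) (hy : ∀ η ∈ Y, (η : G → ℂ) z = y) :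
    (Upart X z + ((f : ℂ) + 1) * conj y / (D : ℂ)).im = 0 ∧
    0 ≤ (Upart X z + ((f : ℂ) + 1) * conj y / (D : ℂ)).re ∧
    (Upart X z - (f : ℂ) * conj y / (D : ℂ)).im = 0 ∧
    0 ≤ (Upart X z - (f : ℂ) * conj y / (D : ℂ)).re := by
  haveI : Fintype (Cfsg.IrrCharacter G) := Fintype.ofFinite _
  obtain ⟨a₀, ha₀, ha₀1⟩ := pslineq1_exists hL
  have hai : a₀⁻¹ ∈ (P : Subgroup G) := inv_mem ha₀
  have hai1 : a₀⁻¹ ≠ 1 := inv_ne_one.mpr ha₀1
  -- first pair: `b = a₀⁻¹`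
  have h1 := t1_sum hL hB a₀ a₀⁻¹ ha₀ ha₀1 hai hai1 z hz y hy
  rw [Q_Y hL hB a₀ a₀⁻¹ ha₀ ha₀1 hai hai1, if_pos (IsConj.refl _)] at h1
  have hp1 := pslineq1_pos a₀ a₀⁻¹ z
  rw [h1] at hp1
  -- second pair: `b` not conjugate to `a₀⁻¹`
  obtain ⟨b, hb, hb1, hnc⟩ := exists_nonconj hL a₀⁻¹ hai hai1
  have h2 := t1_sum hL hB a₀ b ha₀ ha₀1 hb hb1 z hz y hy
  rw [Q_Y hL hB a₀ b ha₀ ha₀1 hb hb1, if_neg hnc] at h2
  have hp2 := pslineq1_pos a₀ b z
  rw [h2] at hp2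
  have e : Upart X z + -(f : ℂ) * conj y / (D : ℂ) = Upart X z - (f : ℂ) * conj y / (D : ℂ) := by
    ring
  rw [e] at hp2
  exact ⟨hp1.1, hp1.2, hp2.1, hp2.2⟩
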