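import Mathlib
import Cfsg.Agent.Lib.helper15.PSL.Defs
import Cfsg.Agent.Lib.Helper25.CharBasic

/-!
# PSL piece SQSUM : the norm of a sum of distinct irreducible characters
-/

set_option autoImplicit false
set_option linter.unusedVariables false
set_option linter.unusedSectionVars false
open scoped ComplexConjugate
open Classical

namespace Cfsg.Agent.Lib.helper15.PSL

open Cfsg.Agent.Lib.Helper25

universe u

variable {G : Type u} [Group G] [Fintype G] {p : ℕ} [Fact p.Prime]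

/-- `∑_g ξ(g) conj(ξ'(g)) = |G| δ` -/
theorem pslsqsum_orth (ξ ξ' : Cfsg.IrrCharacter G) :
    ∑ g : G, (ξ : G → ℂ) g * conj ((ξ' : G → ℂ) g) =
      if ξ = ξ' then (Nat.card G : ℂ) else 0 := by
  have h := irr_classInner ξ ξ'
  unfold Cfsg.classInner at h
  have hne : (Nat.card G : ℂ) ≠ 0 := by
    have : 0 < Nat.card G := Nat.card_pos
    exact_mod_cast this.ne'
  have h2 : ∑ g : G, (ξ : G → ℂ) g * conj ((ξ' : G → ℂ) g) =
      (Nat.card G : ℂ) * (if ξ = ξ' then 1 else 0) := by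
    rw [← h, ← mul_assoc, mul_inv_cancel₀ hne, one_mul]
  rw [h2]
  split_ifs <;> simp

/-- SQSUM : the norm of a sum of distinct irreducible characters -/
theorem sum_sq_of_decomp (S : Finset (Cfsg.IrrCharacter G)) :
    ∑ g : G, (∑ ξ ∈ S, (ξ : G → ℂ) g) * conj (∑ ξ ∈ S, (ξ : G → ℂ) g) =
      (Nat.card G : ℂ) * (S.card : ℂ) := by
  have h1 : ∀ g : G, (∑ ξ ∈ S, (ξ : G → ℂ) g) * conj (∑ ξ ∈ S, (ξ : G → ℂ) g) =
      ∑ ξ ∈ S, ∑ ξ' ∈ S, (ξ : G → ℂ) g * conj ((ξ' : G → ℂ) g) := by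
    intro g
    rw [map_sum, Finset.sum_mul_sum]
  simp_rw [h1]
  rw [Finset.sum_comm]
  have h2 : ∀ ξ ∈ S, ∑ g : G, ∑ ξ' ∈ S, (ξ : G → ℂ) g * conj ((ξ' : G → ℂ) g) =
      (Nat.card G : ℂ) := by
    intro ξ hξ
    rw [Finset.sum_comm]
    simp_rw [pslsqsum_orth]
    rw [Finset.sum_ite_eq S ξ]
    simp [hξ]
  rw [Finset.sum_congr rfl h2, Finset.sum_const, nsmul_eq_mul, mul_comm]
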