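import Mathlib
import Cfsg.Agent.Lib.helper15.PSL.Defs
import Cfsg.Agent.S0138

/-!
# PSL piece ZCHI : an element at which a faithful irreducible character has absolute value `χ 1` is central
-/

set_option autoImplicit false
set_option linter.unusedVariables false
set_option linter.unusedSectionVars false
open scoped ComplexConjugate
open Classical

namespace Cfsg.Agent.Lib.helper15.PSL

universe u

variable {G : Type u} [Group G] [Fintype G] {p : ℕ} [Fact p.Prime]

/-- ZCHI : an element at which a faithful irreducible character has absolute value `χ 1` is central -/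
theorem center_of_norm_eq (χ : Cfsg.IrrCharacter G)
    (hfaith : ∀ g : G, (χ : G → ℂ) g = (χ : G → ℂ) 1 → g = 1) (z : G)
    (hz : (χ : G → ℂ) z * conj ((χ : G → ℂ) z) = (χ : G → ℂ) 1 * (χ : G → ℂ) 1) :
    z ∈ Subgroup.center G := by
  obtain ⟨n, ρ, hρ, hχ⟩ := χ.2
  have h1 : (χ : G → ℂ) 1 = (Module.finrank ℂ (Fin n → ℂ) : ℂ) := by
    rw [← hχ, Representation.char_one]
  have hnorm : ‖ρ.character z‖ = (Module.finrank ℂ (Fin n → ℂ) : ℝ) := by
    have h2 : (Complex.normSq ((χ : G → ℂ) z) : ℂ) =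
        (((Module.finrank ℂ (Fin n → ℂ) : ℝ) ^ 2 : ℝ) : ℂ) := by
      rw [← Complex.mul_conj, hz, h1]
      push_cast
      ring
    have h3 : Complex.normSq ((χ : G → ℂ) z) = (Module.finrank ℂ (Fin n → ℂ) : ℝ) ^ 2 := by
      exact_mod_cast h2
    rw [Complex.normSq_eq_norm_sq] at h3
    rw [hχ]
    have h4 : (0 : ℝ) ≤ (Module.finrank ℂ (Fin n → ℂ) : ℝ) := Nat.cast_nonneg _
    have h5 : (0 : ℝ) ≤ ‖(χ : G → ℂ) z‖ := norm_nonneg _
    nlinarith [sq_nonneg (‖(χ : G → ℂ) z‖ - (Module.finrank ℂ (Fin n → ℂ) : ℝ)),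
      sq_nonneg (‖(χ : G → ℂ) z‖ + (Module.finrank ℂ (Fin n → ℂ) : ℝ))]
  obtain ⟨ω, hω⟩ := (Cfsg.Agent.S0138.result ρ z).mp hnorm
  rw [Subgroup.mem_center_iff]
  intro g
  have hcomm : ρ (z * g) = ρ (g * z) := by
    rw [map_mul, map_mul, hω]
    ext v
    simp
  have hc : ρ (z * g * (g * z)⁻¹) = ρ 1 := by
    rw [map_mul, hcomm, ← map_mul, mul_inv_cancel]
  have hchar : (χ : G → ℂ) (z * g * (g * z)⁻¹) = (χ : G → ℂ) 1 := by
    rw [← hχ]
    unfold Representation.character
    rw [hc]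
  have := hfaith _ hchar
  have h6 : z * g = g * z := mul_inv_eq_one.mp this
  exact h6.symm
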