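import Mathlib
import Cfsg.Agent.Lib.helper15.PSL.Defs
import Cfsg.Agent.Lib.helper15.BH.Main
import Cfsg.Agent.Lib.Helper29.PSLM2MINUS

/-!
# PSL piece M2R : the bound `r (|P| - 1) ≤ m ≤ f ^ 2`, `m |V| = ∑_V |χ|²`
-/

set_option autoImplicit false
set_option linter.unusedVariables false
set_option linter.unusedSectionVars false
open scoped ComplexConjugate
open Classical

namespace Cfsg.Agent.Lib.helper15.PSL

open Cfsg.Agent.Lib.helper7 Cfsg.Agent.Lib.helper7.BR Cfsg.Agent.Lib.helper2 Cfsg.Agent.Lib.Helper25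
  Cfsg.Agent.Lib.Helper29 Cfsg.Agent.Lib.helper15.BH

universe u

section abstract

variable {G : Type u} [Group G] [Fintype G]
variable {p : ℕ} {C N P : Subgroup G} {hPC : P ≤ C} {π : ↥C →* ↥P}

/-- M2R : the bound `r (|P| - 1) ≤ m ≤ f ^ 2`, `m |V| = ∑_V |χ|²` -/
theorem m2_r_bound (h : LeoSetup p C N P hPC π)
    (hsingC : ∀ c : ↥C, π c ≠ 1 → p ∣ orderOf (c : G))
    (hregV : ∀ y : ↥(kerG π), ¬ p ∣ orderOf (y : G)) {f : ℕ} {χ χ' : Cfsg.IrrCharacter G}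
    {θ₁ θ₂ : Cfsg.IrrCharacter ↥C} (hM : M1Out h f χ χ' θ₁ θ₂)
    {X Y : Finset (Cfsg.IrrCharacter G)} {a : Cfsg.IrrCharacter G → ℤ} {ε : ℤ}
    (hB0 : PB0 p f P X Y a ε) :
    ∃ m : ℕ, ∑ y : ↥(kerG π), Complex.normSq ((χ : G → ℂ) (y : G)) =
        (m : ℝ) * (Nat.card ↥(kerG π) : ℝ) ∧
      (Xm X a).card * (Nat.card ↥P - 1) ≤ m ∧ m ≤ f ^ 2 := by
  set W' : G → ℂ := fun g => (χ : G → ℂ) g * conj ((χ' : G → ℂ) g) with hW'def
  have hW' : Cfsg.IsCharacter G W' :=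
    h7_isCharacter_mul (isCharacter_of_irr χ) (bg_isCharacter_conj (isCharacter_of_irr χ'))
  have hmin := m2_minus h hsingC hM hB0
  have hmem : ∀ η ∈ Xm X a, η ∈ X ∧ a η = -1 := fun η hη => Finset.mem_filter.mp hη
  obtain ⟨m, hm, hle⟩ := sum_ge_of_constituents (kerG π) hW' (Xm X a)
    (fun η hη => (hmin η (hmem η hη).1 (hmem η hη).2).2.2) (Nat.card ↥P - 1)
    (fun η hη => by
      obtain ⟨h1, h2, -⟩ := hmin η (hmem η hη).1 (hmem η hη).2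
      rw [h2]
      congr 2
      omega)
  have hsumK : ∑ y : ↥(kerG π), W' (y : G) =
      ((∑ y : ↥(kerG π), Complex.normSq ((χ : G → ℂ) (y : G)) : ℝ) : ℂ) := by
    push_cast
    apply Finset.sum_congr rfl
    intro y _
    rw [hW'def]
    simp only
    rw [hM.hreg _ (hregV y), Complex.mul_conj]
  have h1 : ((m : ℝ) : ℂ) * (Nat.card ↥(kerG π) : ℂ) =
      ((∑ y : ↥(kerG π), Complex.normSq ((χ : G → ℂ) (y : G)) : ℝ) : ℂ) := by
    rw [← hsumK, hm]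
    push_cast
    rfl
  have h2 : (m : ℝ) * (Nat.card ↥(kerG π) : ℝ) =
      ∑ y : ↥(kerG π), Complex.normSq ((χ : G → ℂ) (y : G)) := by
    exact_mod_cast h1
  refine ⟨m, h2.symm, hle, ?_⟩
  have hnorm := ker_norm_le h χ θ₁ hM.hres
  rw [hM.hcard] at hnorm
  have hKpos : (0 : ℝ) < (Nat.card ↥(kerG π) : ℝ) := by exact_mod_cast Nat.card_pos
  have h3 : (m : ℝ) * (Nat.card ↥(kerG π) : ℝ) ≤ (f : ℝ) ^ 2 * (Nat.card ↥(kerG π) : ℝ) := by
    rw [h2]; exact hnorm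
  have h4 : (m : ℝ) ≤ (f : ℝ) ^ 2 := le_of_mul_le_mul_right h3 hKpos
  exact_mod_cast h4

end abstract

end Cfsg.Agent.Lib.helper15.PSL
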