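import Mathlib
import Cfsg.Agent.Lib.helper15.PSL.Defs
import Cfsg.Agent.Lib.Helper11.BHKNORM
import Cfsg.Agent.Lib.helper23.PSLSQSUM

/-!
# PSL piece VZA : in case A, `∑_V |χ|² = f² |V|`
-/

set_option autoImplicit false
set_option linter.unusedVariables false
set_option linter.unusedSectionVars false
open scoped ComplexConjugate
open Classical

namespace Cfsg.Agent.Lib.helper15.PSL

open Cfsg.Agent.Lib.helper7 Cfsg.Agent.Lib.helper7.BR Cfsg.Agent.Lib.helper2 Cfsg.Agent.Lib.Helper25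
  Cfsg.Agent.Lib.Helper29 Cfsg.Agent.Lib.helper15.BH

universe u

section abstract

variable {G : Type u} [Group G] [Fintype G]
variable {p : ℕ} {C N P : Subgroup G} {hPC : P ≤ C} {π : ↥C →* ↥P}

/-- the complex version of VZA, as a sum over `ker π` -/
theorem pslvza_core (h : LeoSetup p C N P hPC π)
    (hsingC : ∀ c : ↥C, π c ≠ 1 → p ∣ orderOf (c : G)) {f : ℕ} (hpf : Nat.card ↥P = 2 * f + 1)
    {χ χ' : Cfsg.IrrCharacter G}
    {θ₁ θ₂ : Cfsg.IrrCharacter ↥C} (hM : M1Out h f χ χ' θ₁ θ₂)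
    {X Y : Finset (Cfsg.IrrCharacter G)} {a : Cfsg.IrrCharacter G → ℤ} {ε : ℤ}
    (hB0 : PB0 p f P X Y a ε) (hcard : 2 * (Xp X a).card = f + 1)
    (hW : ∀ g : G, (χ : G → ℂ) g * conj ((χ : G → ℂ) g) = ∑ ξ ∈ Xp X a, (ξ : G → ℂ) g) :
    ∑ k : ↥(π.ker), (χ : G → ℂ) ((k : ↥C) : G) * conj ((χ : G → ℂ) ((k : ↥C) : G)) =
      (f : ℂ) ^ 2 * (Nat.card ↥(π.ker) : ℂ) := by
  -- the sum over `C`
  have hC : ∑ c : ↥C, (χ : G → ℂ) (c : G) * conj ((χ : G → ℂ) (c : G)) =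
      (Nat.card ↥C : ℂ) * (f : ℂ) := by
    have h1 := sum_sq_of_decomp (G := ↥C) (leoOrb h θ₁)
    rw [hM.hcard] at h1
    rw [← h1]
    refine Finset.sum_congr rfl fun c _ => ?_
    rw [hM.hres c]
  -- the decomposition `C = P × ker π`
  rw [← Equiv.sum_comp (bhknorm_equiv h), Fintype.sum_prod_type] at hC
  -- the terms with `x ≠ 1`
  have hx : ∀ x : ↥P, x ≠ 1 → ∑ k : ↥(π.ker),
      (χ : G → ℂ) ((bhknorm_equiv h (x, k) : ↥C) : G) *
        conj ((χ : G → ℂ) ((bhknorm_equiv h (x, k) : ↥C) : G)) =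
      (Nat.card ↥(π.ker) : ℂ) * ((Xp X a).card : ℂ) := by
    intro x hx1
    have h2 : ∀ k : ↥(π.ker), (χ : G → ℂ) ((bhknorm_equiv h (x, k) : ↥C) : G) *
        conj ((χ : G → ℂ) ((bhknorm_equiv h (x, k) : ↥C) : G)) = ((Xp X a).card : ℂ) := by
      intro k
      have hk : π (k : ↥C) = 1 := MonoidHom.mem_ker.mp k.2
      have hpi : π (bhknorm_equiv h (x, k)) ≠ 1 := by
        rw [bhknorm_equiv_apply, map_mul, h.retract, hk, mul_one]
        exact hx1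
      have hsing := hsingC _ hpi
      rw [hW]
      have h3 : ∀ ξ ∈ Xp X a, (ξ : G → ℂ) ((bhknorm_equiv h (x, k) : ↥C) : G) = 1 := by
        intro ξ hξ
        obtain ⟨hξX, hξa⟩ := Finset.mem_filter.mp hξ
        rw [hB0.valX ξ hξX _ hsing, hξa]
        simp
      rw [Finset.sum_congr rfl h3]
      simp
    rw [Finset.sum_congr rfl (fun k _ => h2 k), Finset.sum_const, Finset.card_univ, nsmul_eq_mul,
      Nat.card_eq_fintype_card]
  -- split off `x = 1`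
  rw [← Finset.add_sum_erase Finset.univ _ (Finset.mem_univ (1 : ↥P))] at hC
  have h1 : ∑ k : ↥(π.ker), (χ : G → ℂ) ((bhknorm_equiv h ((1 : ↥P), k) : ↥C) : G) *
      conj ((χ : G → ℂ) ((bhknorm_equiv h ((1 : ↥P), k) : ↥C) : G)) =
      ∑ k : ↥(π.ker), (χ : G → ℂ) ((k : ↥C) : G) * conj ((χ : G → ℂ) ((k : ↥C) : G)) := by
    refine Finset.sum_congr rfl fun k _ => ?_
    rw [bhknorm_equiv_apply, map_one, one_mul]
  rw [h1] at hC
  have h4 : ∑ x ∈ (Finset.univ : Finset ↥P).erase 1, ∑ k : ↥(π.ker),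
      (χ : G → ℂ) ((bhknorm_equiv h (x, k) : ↥C) : G) *
        conj ((χ : G → ℂ) ((bhknorm_equiv h (x, k) : ↥C) : G)) =
      ((Nat.card ↥P : ℂ) - 1) * ((Nat.card ↥(π.ker) : ℂ) * ((Xp X a).card : ℂ)) := by
    rw [Finset.sum_congr rfl (fun x hx' => hx x (Finset.ne_of_mem_erase hx')), Finset.sum_const,
      Finset.card_erase_of_mem (Finset.mem_univ _), Finset.card_univ, nsmul_eq_mul,
      Nat.card_eq_fintype_card]
    have hpos : 1 ≤ Fintype.card ↥P := Fintype.card_pos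
    rw [Nat.cast_sub hpos]
    simp
  rw [h4] at hC
  have hcardC : (Nat.card ↥C : ℂ) = (Nat.card ↥P : ℂ) * (Nat.card ↥(π.ker) : ℂ) := by
    have : Nat.card ↥C = Nat.card ↥P * Nat.card ↥(π.ker) := by
      rw [Nat.card_congr (bhknorm_equiv h).symm, Nat.card_prod]
    rw [this]
    push_cast
    ring
  have hXp : 2 * ((Xp X a).card : ℂ) = (f : ℂ) + 1 := by exact_mod_cast hcard
  have hP : (Nat.card ↥P : ℂ) = 2 * (f : ℂ) + 1 := by exact_mod_cast hpf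
  rw [hcardC, hP] at hC
  have hXp' : ((Xp X a).card : ℂ) = ((f : ℂ) + 1) / 2 := by
    rw [← hXp]; ring
  rw [hXp'] at hC
  linear_combination hC

/-- VZA : in case A, `∑_V |χ|² = f² |V|` -/
theorem ker_sum_A (h : LeoSetup p C N P hPC π)
    (hsingC : ∀ c : ↥C, π c ≠ 1 → p ∣ orderOf (c : G)) {f : ℕ} (hpf : Nat.card ↥P = 2 * f + 1)
    {χ χ' : Cfsg.IrrCharacter G}
    {θ₁ θ₂ : Cfsg.IrrCharacter ↥C} (hM : M1Out h f χ χ' θ₁ θ₂)
    {X Y : Finset (Cfsg.IrrCharacter G)} {a : Cfsg.IrrCharacter G → ℤ} {ε : ℤ}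
    (hB0 : PB0 p f P X Y a ε) (hcard : 2 * (Xp X a).card = f + 1)
    (hW : ∀ g : G, (χ : G → ℂ) g * conj ((χ : G → ℂ) g) = ∑ ξ ∈ Xp X a, (ξ : G → ℂ) g) :
    ∑ y : ↥(kerG π), Complex.normSq ((χ : G → ℂ) (y : G)) =
      (f : ℝ) ^ 2 * (Nat.card ↥(kerG π) : ℝ) := by
  have hinj : Function.Injective (C.subtype) := Subtype.coe_injective
  let e : ↥(π.ker) ≃* ↥(kerG π) := Subgroup.equivMapOfInjective π.ker C.subtype hinj
  have he : ∀ k : ↥(π.ker), ((e k : ↥(kerG π)) : G) = ((k : ↥C) : G) := fun k => rfl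
  have hcardK : Nat.card ↥(kerG π) = Nat.card ↥(π.ker) := (Nat.card_congr e.toEquiv).symm
  rw [← Equiv.sum_comp e.toEquiv, hcardK]
  have hcore := pslvza_core h hsingC hpf hM hB0 hcard hW
  have h1 : ((∑ k : ↥(π.ker), Complex.normSq ((χ : G → ℂ) ((e.toEquiv k : ↥(kerG π)) : G)) : ℝ) : ℂ) =
      (((f : ℝ) ^ 2 * (Nat.card ↥(π.ker) : ℝ) : ℝ) : ℂ) := by
    push_cast
    rw [← hcore]
    refine Finset.sum_congr rfl fun k _ => ?_
    have e1 : (χ : G → ℂ) ((e.toEquiv k : ↥(kerG π)) : G) = (χ : G → ℂ) ((k : ↥C) : G) := rfl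
    rw [e1, Complex.mul_conj]
  exact_mod_cast h1

end abstract

end Cfsg.Agent.Lib.helper15.PSL
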