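import Mathlib
import Cfsg.Agent.Lib.helper15.St2
import Cfsg.Agent.Lib.helper3.STC.Defs
import Cfsg.Agent.Lib.helper3.STC.Defs2

/-!
# Project STC (designer helper3, S2292), row X2 (helper23), VERBATIM:
`wpm_left wpm_right wpm_ng wpm_of_ne wpm_mul_self wpm_inv`.
-/

set_option autoImplicit false

namespace Cfsg.Agent.Lib.helper3.STC

open Cfsg.Agent.Lib.helper15.St2

theorem stcx2_ng_ng {ι : Type*} (a : ι ⊕ ι) : ng (ng a) = a := by
  simp [ng]

theorem stcx2_ng_ne_self {ι : Type*} (a : ι ⊕ ι) : ng a ≠ a := by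
  rcases a with a | a <;> simp [ng]

theorem stcx2_ng_inj {ι : Type*} {a b : ι ⊕ ι} (h : ng a = ng b) : a = b := by
  have := congrArg ng h
  rwa [stcx2_ng_ng, stcx2_ng_ng] at this

theorem stcx2_ng_eq_iff {ι : Type*} {a b : ι ⊕ ι} : ng a = b ↔ a = ng b := by
  constructor
  · intro h; rw [← h, stcx2_ng_ng]
  · intro h; rw [h, stcx2_ng_ng]

namespace SysC

variable {K : Type*} [Field K] {ι : Type*} {G : Type*} [Group G] (S : SysC K ι G)

section X
variable [DecidableEq ι]

/-- `ng` as a permutation -/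
def stcx2_nu (ι : Type*) : Equiv.Perm (ι ⊕ ι) := Equiv.sumComm ι ι

theorem stcx2_nu_apply (a : ι ⊕ ι) : stcx2_nu ι a = ng a := rfl

/-- the two transpositions of `sws a b` commute -/
theorem stcx2_sws_comm (a b : ι ⊕ ι) :
    Commute (Equiv.swap a b) (Equiv.swap (ng a) (ng b)) := by
  by_cases hab : a = b
  · subst hab
    rw [Equiv.swap_self]
    exact Commute.one_left _
  by_cases h : b = ng a
  · subst h
    rw [stcx2_ng_ng, Equiv.swap_comm (ng a) a]
  · have hab' : a ≠ ng b := fun e => h (stcx2_ng_eq_iff.2 e).symm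
    have hdis : Equiv.Perm.Disjoint (Equiv.swap a b) (Equiv.swap (ng a) (ng b)) := by
      intro x
      by_cases hxa : x = a
      · right
        subst hxa
        exact Equiv.swap_apply_of_ne_of_ne (stcx2_ng_ne_self x).symm hab'
      · by_cases hxb : x = b
        · right
          subst hxb
          exact Equiv.swap_apply_of_ne_of_ne h (stcx2_ng_ne_self x).symm
        · left
          exact Equiv.swap_apply_of_ne_of_ne hxa hxb
    exact hdis.commute

/-- the short permutation commutes with `ng` -/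
theorem stcx2_sws_ng (a b k : ι ⊕ ι) : sws a b (ng k) = ng (sws a b k) := by
  have hc := stcx2_sws_comm a b
  have e : stcx2_nu ι * sws a b * (stcx2_nu ι)⁻¹ = sws a b := by
    unfold sws
    have e1 : stcx2_nu ι * (Equiv.swap a b * Equiv.swap (ng a) (ng b)) * (stcx2_nu ι)⁻¹ =
        (stcx2_nu ι * Equiv.swap a b * (stcx2_nu ι)⁻¹) *
          (stcx2_nu ι * Equiv.swap (ng a) (ng b) * (stcx2_nu ι)⁻¹) := by group
    rw [e1, ← Equiv.swap_apply_apply, ← Equiv.swap_apply_apply]
    simp only [stcx2_nu_apply, stcx2_ng_ng]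
    exact hc.eq.symm
  have e2 : sws a b * stcx2_nu ι = stcx2_nu ι * sws a b := by
    calc sws a b * stcx2_nu ι = (stcx2_nu ι * sws a b * (stcx2_nu ι)⁻¹) * stcx2_nu ι := by rw [e]
      _ = stcx2_nu ι * sws a b := by group
  have := congrArg (fun f : Equiv.Perm (ι ⊕ ι) => f k) e2
  simpa [Equiv.Perm.mul_apply, stcx2_nu_apply] using this

/-- X2 [S] -/
theorem wpm_left {a b : ι ⊕ ι} (hab : a ≠ b) : wpm a b a = b := by
  unfold wpm
  by_cases h : b = ng a
  · rw [if_pos h, Equiv.swap_apply_left, h]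
  · rw [if_neg h]
    unfold sws
    have h1 : a ≠ ng a := (stcx2_ng_ne_self a).symm
    have h2 : a ≠ ng b := fun e => h (stcx2_ng_eq_iff.2 e).symm
    simp [Equiv.Perm.mul_apply, Equiv.swap_apply_def, h1, h2]

theorem wpm_right {a b : ι ⊕ ι} (hab : a ≠ b) : wpm a b b = a := by
  unfold wpm
  by_cases h : b = ng a
  · rw [if_pos h, h, Equiv.swap_apply_right]
  · rw [if_neg h]
    unfold sws
    have h1 : b ≠ ng b := (stcx2_ng_ne_self b).symm
    simp [Equiv.Perm.mul_apply, Equiv.swap_apply_def, h1, h, hab.symm]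

theorem wpm_ng {a b : ι ⊕ ι} (hab : a ≠ b) (k : ι ⊕ ι) : wpm a b (ng k) = ng (wpm a b k) := by
  unfold wpm
  by_cases h : b = ng a
  · rw [if_pos h]
    by_cases h1 : k = a
    · subst h1
      rw [Equiv.swap_apply_right, Equiv.swap_apply_left, stcx2_ng_ng]
    · by_cases h2 : k = ng a
      · subst h2
        rw [stcx2_ng_ng, Equiv.swap_apply_left, Equiv.swap_apply_right]
      · have e1 : ng k ≠ a := fun e => h2 (stcx2_ng_eq_iff.1 e)
        have e2 : ng k ≠ ng a := fun e => h1 (stcx2_ng_inj e)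
        rw [Equiv.swap_apply_of_ne_of_ne e1 e2, Equiv.swap_apply_of_ne_of_ne h1 h2]
  · rw [if_neg h]
    exact stcx2_sws_ng a b k

theorem wpm_of_ne {a b k : ι ⊕ ι} (hka : k ≠ a) (hkb : k ≠ b) (hka' : k ≠ ng a) (hkb' : k ≠ ng b) :
    wpm a b k = k := by
  unfold wpm
  by_cases h : b = ng a
  · rw [if_pos h, Equiv.swap_apply_of_ne_of_ne hka hka']
  · rw [if_neg h]
    unfold sws
    rw [Equiv.Perm.mul_apply, Equiv.swap_apply_of_ne_of_ne hka' hkb',
      Equiv.swap_apply_of_ne_of_ne hka hkb]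

theorem wpm_mul_self {a b : ι ⊕ ι} (hab : a ≠ b) : wpm a b * wpm a b = 1 := by
  unfold wpm
  by_cases h : b = ng a
  · rw [if_pos h]
    exact Equiv.swap_mul_self _ _
  · rw [if_neg h]
    unfold sws
    have hc := stcx2_sws_comm a b
    calc Equiv.swap a b * Equiv.swap (ng a) (ng b) * (Equiv.swap a b * Equiv.swap (ng a) (ng b))
        = Equiv.swap a b * (Equiv.swap (ng a) (ng b) * Equiv.swap a b) * Equiv.swap (ng a) (ng b) := by
          simp only [mul_assoc]
      _ = Equiv.swap a b * (Equiv.swap a b * Equiv.swap (ng a) (ng b)) * Equiv.swap (ng a) (ng b) := by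
          rw [hc.eq]
      _ = 1 := by
          rw [← mul_assoc, Equiv.swap_mul_self, one_mul, Equiv.swap_mul_self]

theorem wpm_inv {a b : ι ⊕ ι} (hab : a ≠ b) : (wpm a b)⁻¹ = wpm a b :=
  inv_eq_of_mul_eq_one_left (wpm_mul_self hab)

end X

end SysC

end Cfsg.Agent.Lib.helper3.STC
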