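import Mathlib
import Cfsg.Prelude.Def_GeometricClasses
import Cfsg.Agent.Lib.Helper27.ASC.Defs
import Cfsg.Agent.Lib.Helper19.ASG.Defs
import Cfsg.Agent.Lib.Helper9.ASGD2T.Defs

set_option autoImplicit false
set_option linter.unusedVariables false

/-!
# Project ASG, block D2T, piece PTPERM (helper23): the factor permutations
-/

namespace Cfsg.Agent.Lib.Helper19.ASG

open Cfsg Cfsg.Geo Cfsg.Agent.Lib.Helper27.ASC
open scoped MatrixGroups Matrix

variable {n : ℕ} {F : Type*} [Field F]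

/-- the permutation matrix of the factor permutation `σ` -/
def asgd2tptpermMat (m t : ℕ) (F : Type*) [Field F] (σ : Equiv.Perm (Fin t)) :
    Matrix (Fin t → Fin m) (Fin t → Fin m) F :=
  Matrix.of fun x y => if y = x ∘ σ then 1 else 0

theorem asgd2tptperm_apply {m t : ℕ} (σ : Equiv.Perm (Fin t)) (x y : Fin t → Fin m) :
    asgd2tptpermMat m t F σ x y = if y = x ∘ σ then 1 else 0 := rfl

theorem asgd2tptperm_mul_left {m t : ℕ} (σ : Equiv.Perm (Fin t))
    (A : Matrix (Fin t → Fin m) (Fin t → Fin m) F) (x z : Fin t → Fin m) :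
    (asgd2tptpermMat m t F σ * A) x z = A (x ∘ σ) z := by
  classical
  rw [Matrix.mul_apply, Finset.sum_eq_single (x ∘ σ)]
  · rw [asgd2tptperm_apply, if_pos rfl, one_mul]
  · intro y _ hy
    rw [asgd2tptperm_apply, if_neg hy, zero_mul]
  · intro h
    exact absurd (Finset.mem_univ _) h

theorem asgd2tptperm_comp_iff {m t : ℕ} (σ : Equiv.Perm (Fin t)) (y z : Fin t → Fin m) :
    z = y ∘ σ ↔ y = z ∘ σ.symm := by
  constructor
  · rintro rfl
    funext i
    simp
  · rintro rfl
    funext i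
    simp

theorem asgd2tptperm_mul_right {m t : ℕ} (σ : Equiv.Perm (Fin t))
    (A : Matrix (Fin t → Fin m) (Fin t → Fin m) F) (x z : Fin t → Fin m) :
    (A * asgd2tptpermMat m t F σ) x z = A x (z ∘ σ.symm) := by
  classical
  rw [Matrix.mul_apply, Finset.sum_eq_single (z ∘ σ.symm)]
  · rw [asgd2tptperm_apply, if_pos ((asgd2tptperm_comp_iff σ _ z).mpr rfl), mul_one]
  · intro y _ hy
    rw [asgd2tptperm_apply, if_neg (fun h => hy ((asgd2tptperm_comp_iff σ y z).mp h)), mul_zero]
  · intro h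
    exact absurd (Finset.mem_univ _) h

theorem asgd2tptperm_one {m t : ℕ} : asgd2tptpermMat m t F (1 : Equiv.Perm (Fin t)) = 1 := by
  classical
  ext x y
  rw [asgd2tptperm_apply, Matrix.one_apply]
  have : x ∘ ((1 : Equiv.Perm (Fin t)) : Fin t → Fin t) = x := rfl
  rw [this]
  by_cases h : x = y
  · rw [if_pos h.symm, if_pos h]
  · rw [if_neg (fun h' => h h'.symm), if_neg h]

theorem asgd2tptperm_mul {m t : ℕ} (σ τ : Equiv.Perm (Fin t)) :
    asgd2tptpermMat m t F σ * asgd2tptpermMat m t F τ = asgd2tptpermMat m t F (σ * τ) := by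
  ext x z
  rw [asgd2tptperm_mul_left, asgd2tptperm_apply, asgd2tptperm_apply]
  rfl

/-- the factor permutation as an element of `GL` -/
def asgd2tptpermGL (m t : ℕ) (F : Type*) [Field F] (σ : Equiv.Perm (Fin t)) : GL (Fin t → Fin m) F where
  val := asgd2tptpermMat m t F σ
  inv := asgd2tptpermMat m t F σ⁻¹
  val_inv := by rw [asgd2tptperm_mul, mul_inv_cancel, asgd2tptperm_one]
  inv_val := by rw [asgd2tptperm_mul, inv_mul_cancel, asgd2tptperm_one]

theorem asgd2tptperm_coe {m t : ℕ} (σ : Equiv.Perm (Fin t)) :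
    ((asgd2tptpermGL m t F σ : GL (Fin t → Fin m) F) : Matrix (Fin t → Fin m) (Fin t → Fin m) F) =
      asgd2tptpermMat m t F σ := rfl

theorem asgd2tptperm_isFactorPermutation {m t : ℕ} (σ : Equiv.Perm (Fin t)) :
    IsFactorPermutation m t (asgd2tptpermGL m t F σ) :=
  ⟨σ, fun x y => rfl⟩

/-- the commutation rule with pure tensors -/
theorem asgd2tptperm_comm {m t : ℕ} (σ : Equiv.Perm (Fin t)) (c : Fin t → Matrix (Fin m) (Fin m) F) :
    asgd2tptpermMat m t F σ * ptMat c = ptMat (fun j => c (σ.symm j)) * asgd2tptpermMat m t F σ := by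
  ext x z
  rw [asgd2tptperm_mul_left, asgd2tptperm_mul_right, ptMat_apply, ptMat_apply]
  rw [← Equiv.prod_comp σ (fun j => c (σ.symm j) (x j) ((z ∘ ⇑σ.symm) j))]
  apply Finset.prod_congr rfl
  intro i _
  simp

/-- D2T-PTPERM : the factor permutation attached to `σ` conjugates the `i`-th factor to the `σ i`-th -/
theorem ptMat_perm {m t : ℕ} (σ : Equiv.Perm (Fin t)) :
    ∃ g : GL (Fin t → Fin m) F, IsFactorPermutation m t g ∧
      ∀ c : Fin t → Matrix (Fin m) (Fin m) F,
        (g : Matrix (Fin t → Fin m) (Fin t → Fin m) F) * ptMat c =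
          ptMat (fun j => c (σ.symm j)) * (g : Matrix (Fin t → Fin m) (Fin t → Fin m) F) :=
  ⟨asgd2tptpermGL m t F σ, asgd2tptperm_isFactorPermutation σ, fun c => asgd2tptperm_comm σ c⟩

end Cfsg.Agent.Lib.Helper19.ASG
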