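import Mathlib
import Cfsg.Prelude.Def_GeometricClasses
import Cfsg.Agent.Lib.Helper27.ASC.Defs
import Cfsg.Agent.Lib.Helper19.ASG.Defs
import Cfsg.Agent.Lib.Helper26.ASGD1.Defs

set_option autoImplicit false
set_option linter.unusedVariables false
set_option linter.unusedSectionVars false

/-!
# Project ASG, block D1, piece CENT (helper23): the centre of `R`
-/

namespace Cfsg.Agent.Lib.Helper19.ASG

open Cfsg Cfsg.Geo Cfsg.Agent.Lib.Helper27.ASC
open scoped MatrixGroups Matrix

variable {n : ℕ} {F : Type*} [Field F] [Fintype F]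

/-- an element of `GL` whose matrix is `c • 1` is `d1scal` of a unit (`0 < n`) -/
theorem asgd1cent_scalar_of_smul (hn : 0 < n) (g : GL (Fin n) F) (c : F)
    (h : (g : Matrix (Fin n) (Fin n) F) = c • (1 : Matrix (Fin n) (Fin n) F)) : g ∈ scalars (Fin n) F := by
  have hc0 : c ≠ 0 := by
    rintro rfl
    have h1 : (g : Matrix (Fin n) (Fin n) F) * ((g⁻¹ : GL (Fin n) F) : Matrix (Fin n) (Fin n) F) = 1 := by
      rw [← Units.val_mul, mul_inv_cancel, Units.val_one]
    rw [h, zero_smul, Matrix.zero_mul] at h1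
    have := congrFun (congrFun h1 ⟨0, hn⟩) ⟨0, hn⟩
    simp at this
  rw [mem_scalars_iff]
  exact ⟨Units.mk0 c hc0, by rw [h, Units.val_mk0]⟩

/-- the centre of an absolutely irreducible group consists of its scalars -/
theorem asgd1cent_center (hn : 0 < n) {R : Subgroup (GL (Fin n) F)} (hA : AbsIrr R) :
    Subgroup.center R = (scalars (Fin n) F).subgroupOf R := by
  ext z
  rw [Subgroup.mem_center_iff, Subgroup.mem_subgroupOf]
  constructor
  · intro hz
    obtain ⟨c, hc⟩ := hA.2 ((z : GL (Fin n) F) : Matrix (Fin n) (Fin n) F) (by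
      rintro _ ⟨s, hs, rfl⟩
      have := hz ⟨s, hs⟩
      have h1 := congrArg (fun y : R => ((y : GL (Fin n) F) : Matrix (Fin n) (Fin n) F)) this
      simp only [Subgroup.coe_mul, Units.val_mul] at h1
      exact h1.symm)
    exact asgd1cent_scalar_of_smul hn _ c hc
  · intro hz y
    obtain ⟨c, hc⟩ := (mem_scalars_iff_d1scal _).mp hz
    apply Subtype.ext
    rw [Subgroup.coe_mul, Subgroup.coe_mul, hc]
    exact (d1scal_comm c (y : GL (Fin n) F)).symm

/-- D1-CENT : the centre of `R` is its scalar subgroup, in bijection with the `k`-th roots of unity of `F` -/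
theorem d1_cent (hn : 0 < n) {r k : ℕ} {R : Subgroup (GL (Fin n) F)} (hR : D1Core r k R) :
    Subgroup.center R = (scalars (Fin n) F).subgroupOf R ∧
      Nat.card (Subgroup.center R) = Nat.card (rootsOfUnity k F) := by
  have hcen := asgd1cent_center hn hR.absIrr
  refine ⟨hcen, ?_⟩
  symm
  have hmem : ∀ c : rootsOfUnity k F, (d1scal (c : Fˣ) : GL (Fin n) F) ∈ R := by
    intro c
    apply hR.roots
    exact (mem_rootsOfUnity k (c : Fˣ)).mp c.2
  have hcm : ∀ c : rootsOfUnity k F,
      (⟨d1scal (c : Fˣ), hmem c⟩ : R) ∈ Subgroup.center R := by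
    intro c
    rw [hcen, Subgroup.mem_subgroupOf]
    exact d1scal_mem _
  apply Nat.card_eq_of_bijective (fun c : rootsOfUnity k F => (⟨⟨d1scal (c : Fˣ), hmem c⟩, hcm c⟩ : Subgroup.center R))
  constructor
  · intro c d hcd
    have h1 : (d1scal (c : Fˣ) : GL (Fin n) F) = d1scal (d : Fˣ) := by
      have := congrArg (fun z : Subgroup.center R => ((z : R) : GL (Fin n) F)) hcd
      exact this
    exact Subtype.ext (d1scal_injective hn h1)
  · intro z
    have hz : ((z : R) : GL (Fin n) F) ∈ scalars (Fin n) F := by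
      have hz' : (z : R) ∈ (scalars (Fin n) F).subgroupOf R := by
        rw [← hcen]
        exact z.2
      exact Subgroup.mem_subgroupOf.mp hz'
    obtain ⟨c, hc⟩ := (mem_scalars_iff_d1scal _).mp hz
    have hck : c ^ k = 1 := by
      have h1 := hR.pow _ (z : R).2
      rw [hc, ← d1scal_pow] at h1
      apply d1scal_injective hn
      rw [h1, d1scal_one]
    refine ⟨⟨c, (mem_rootsOfUnity k c).mpr hck⟩, ?_⟩
    apply Subtype.ext
    apply Subtype.ext
    exact hc.symm

end Cfsg.Agent.Lib.Helper19.ASG
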