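import Mathlib
import Cfsg.Prelude.Def_GeometricClasses
import Cfsg.Agent.Lib.Helper27.ASC.Defs
import Cfsg.Agent.Lib.Helper19.ASG.Defs
import Cfsg.Agent.Lib.Helper26.ASGD1.Defs
import Cfsg.Agent.Lib.Helper11.ASGBURN

set_option autoImplicit false
set_option linter.unusedVariables false
set_option linter.unusedSectionVars false

/-!
# Project ASG, block D1, piece ORDER (helper23): core of `d1_order` (the statement of INDEP for the coset
representatives is a hypothesis)
-/

namespace Cfsg.Agent.Lib.Helper19.ASG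

open Cfsg Cfsg.Geo Cfsg.Agent.Lib.Helper27.ASC
open scoped MatrixGroups Matrix

variable {n : ℕ} {F : Type*} [Field F] [Fintype F]

/-- D1-ORDER with the linear independence of inequivalent elements as a hypothesis -/
theorem asgd1order_core {R : Subgroup (GL (Fin n) F)} (hA : AbsIrr R)
    (hI : ∀ x : (R ⧸ (scalars (Fin n) F).subgroupOf R) → GL (Fin n) F, (∀ i, x i ∈ R) →
      (∀ i j, (x i)⁻¹ * x j ∈ scalars (Fin n) F → i = j) →
      LinearIndependent F (fun i => ((x i : GL (Fin n) F) : Matrix (Fin n) (Fin n) F))) :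
    Nat.card (R ⧸ (scalars (Fin n) F).subgroupOf R) = n ^ 2 := by
  classical
  obtain ⟨x, hxd⟩ : ∃ x : (R ⧸ (scalars (Fin n) F).subgroupOf R) → GL (Fin n) F,
      x = fun q => ((Quotient.out q : R) : GL (Fin n) F) := ⟨_, rfl⟩
  have hxR : ∀ i, x i ∈ R := by
    intro i
    rw [hxd]
    exact (Quotient.out i : R).2
  have hmk : ∀ q : R ⧸ (scalars (Fin n) F).subgroupOf R,
      (QuotientGroup.mk (Quotient.out q : R) : R ⧸ (scalars (Fin n) F).subgroupOf R) = q := by
    intro q
    exact Quotient.out_eq q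
  have hinj : ∀ i j, (x i)⁻¹ * x j ∈ scalars (Fin n) F → i = j := by
    intro i j hij
    rw [← hmk i, ← hmk j, QuotientGroup.eq, Subgroup.mem_subgroupOf]
    rw [hxd] at hij
    exact hij
  have hli := hI x hxR hinj
  -- spanning
  have hspan : ⊤ ≤ Submodule.span F (Set.range fun i => ((x i : GL (Fin n) F) : Matrix (Fin n) (Fin n) F)) := by
    rw [← burnside_span hA]
    apply Submodule.span_le.mpr
    rintro _ ⟨g, hg, rfl⟩
    -- `g = x (mk g) * scalar`
    have h1 : (Quotient.out (QuotientGroup.mk (⟨g, hg⟩ : R) : R ⧸ (scalars (Fin n) F).subgroupOf R) : R)⁻¹ *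
        (⟨g, hg⟩ : R) ∈ (scalars (Fin n) F).subgroupOf R := by
      rw [← QuotientGroup.eq]
      exact hmk _
    rw [Subgroup.mem_subgroupOf] at h1
    obtain ⟨c, hc⟩ := (mem_scalars_iff_d1scal _).mp h1
    have h2 : g = x (QuotientGroup.mk (⟨g, hg⟩ : R)) * d1scal c := by
      rw [hxd, ← hc]
      simp
    have h3 : (g : Matrix (Fin n) (Fin n) F) =
        (c : F) • ((x (QuotientGroup.mk (⟨g, hg⟩ : R)) : GL (Fin n) F) : Matrix (Fin n) (Fin n) F) := by
      conv_lhs => rw [h2]
      rw [Units.val_mul, d1scal_coe, Matrix.mul_smul, Matrix.mul_one]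
    show ((g : GL (Fin n) F) : Matrix (Fin n) (Fin n) F) ∈
      Submodule.span F (Set.range fun i => ((x i : GL (Fin n) F) : Matrix (Fin n) (Fin n) F))
    rw [h3]
    exact Submodule.smul_mem _ _ (Submodule.subset_span ⟨_, rfl⟩)
  have b := Module.Basis.mk hli hspan
  have h4 := Module.finrank_eq_nat_card_basis b
  rw [← h4, Module.finrank_matrix]
  simp [pow_two]

end Cfsg.Agent.Lib.Helper19.ASG
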