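import Mathlib
import Cfsg.Prelude.Def_GeometricClasses
import Cfsg.Agent.Lib.Helper27.ASC.Defs
import Cfsg.Agent.Lib.Helper19.ASG.Defs
import Cfsg.Agent.Lib.Helper26.ASGD1.Defs
import Cfsg.Agent.Lib.Helper11.ASGD1INDEP
import Cfsg.Agent.Lib.helper23.ASGD1ORDERcore

set_option autoImplicit false
set_option linter.unusedVariables false
set_option linter.unusedSectionVars false

/-!
# Project ASG, block D1, piece ORDER (helper23): `d1_order`
-/

namespace Cfsg.Agent.Lib.Helper19.ASG

open Cfsg Cfsg.Geo Cfsg.Agent.Lib.Helper27.ASC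
open scoped MatrixGroups Matrix

variable {n : ℕ} {F : Type*} [Field F] [Fintype F]

/-- D1-ORDER (with `0 < n`, as the statement is false for `n = 0`) : coset representatives of `R` modulo scalars are a basis of `M_n(F)` (`d1_indep` + `burnside_span`) -/
theorem d1_order (hn : 0 < n) {R : Subgroup (GL (Fin n) F)} (hA : AbsIrr R) (hc : ⁅R, R⁆ ≤ scalars (Fin n) F) :
    Nat.card (R ⧸ (scalars (Fin n) F).subgroupOf R) = n ^ 2 :=
  asgd1order_core hA (fun x hx hinj => d1_indep hn hA hc x hx hinj)

end Cfsg.Agent.Lib.Helper19.ASG
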