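import Mathlib
import Cfsg.Agent.Lib.Helper18.ONE.Defs
import Cfsg.Agent.Lib.Helper16.OType1

set_option autoImplicit false

/-!
# Project ONE (designer helper18), row TYARITH (helper23): `ty_arith`, verbatim.
-/

namespace Cfsg.Agent.Lib.Helper18.ONE

open Cfsg.Agent.Lib.Helper16.OSemi

/-- TYARITH (verbatim row). -/
theorem ty_arith (r : ℕ) [Fact r.Prime] (hr2 : r ≠ 2) (q i c m : ℕ)
    (hi : i = orderOf (q : ZMod r)) (hc : c = if Even i then i else 2 * i) (hcm : c ∣ m)
    (hm : 0 < m) (s : ℤ) (hs : s = 1 ∨ s = -1)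
    (hq : (q : ZMod r) ^ (m / 2) = (s : ZMod r)) : (s = 1 ↔ (Odd i ∨ Even (m / i))) := by
  have hce : Even c := by
    rw [hc]; split_ifs with h
    · exact h
    · exact even_two_mul i
  have hme : Even m := hce.trans_dvd hcm
  have h2m : 2 * (m / 2) = m := Nat.two_mul_div_two_of_even hme
  rcases hs with rfl | rfl
  · have h1 : (q : ZMod r) ^ (m / 2) = 1 := by simpa using hq
    have h3 := nt_plus r (q : ZMod r) i (m / 2) hi h1
    rw [h2m] at h3
    refine ⟨fun _ => ?_, fun _ => rfl⟩
    by_cases hei : Even i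
    · right
      by_contra hne
      exact h3 ⟨hei, Nat.not_even_iff_odd.mp hne⟩
    · left
      exact Nat.not_even_iff_odd.mp hei
  · have h1 : (q : ZMod r) ^ (m / 2) = -1 := by simpa using hq
    obtain ⟨hei, hodd⟩ := nt_minus r hr2 (q : ZMod r) i (m / 2) hi h1
    rw [h2m] at hodd
    constructor
    · intro h
      norm_num at h
    · rintro (h | h)
      · exact absurd hei (Nat.not_even_iff_odd.mpr h)
      · exact absurd h (Nat.not_even_iff_odd.mpr hodd)

end Cfsg.Agent.Lib.Helper18.ONE
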