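import Mathlib
import Cfsg.Agent.Lib.Helper18.ONE.Defs
import Cfsg.Agent.Lib.Helper24.S5972RESTRICT

set_option autoImplicit false

/-!
# Project ONE (designer helper18), row RESTRICTND (helper23): `o_restrict_nd`, verbatim.
Same `x'`, `A'` as helper24's `o_restrict` (S5972 row RESTRICT).
-/

namespace Cfsg.Agent.Lib.Helper18.ONE

open Polynomial Module Cfsg.Agent.Lib.Helper13.S5955 Cfsg.Agent.Lib.helper15.S5972

/-- the explicit form of RESTRICTND: `x' = x.restrict`, `A' = (altB B x r).restrict (cycS r x)`. -/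
theorem onerestrictnd_explicit {F : Type*} [Field F] [Fintype F] {p : ℕ} [Fact p.Prime] [CharP F p]
    {V : Type*} [AddCommGroup V] [Module F V] [FiniteDimensional F V]
    {r : ℕ} [Fact r.Prime] (hrp : r ≠ p) (hr2 : r ≠ 2) {B : LinearMap.BilinForm F V}
    {x : Module.End F V} (h : OCtx r B x) :
    SCtx r ((altB B x r).restrict (cycS r x)) (x.restrict (s5972restrict_cyc_inv r x)) ∧
      cycS r (x.restrict (s5972restrict_cyc_inv r x)) = ⊤ ∧
      (∀ W' : Submodule F ↥(cycS r x), SInv (x.restrict (s5972restrict_cyc_inv r x)) W' ↔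
        SInv x (W'.map (cycS r x).subtype)) ∧
      (∀ W' : Submodule F ↥(cycS r x), SInv (x.restrict (s5972restrict_cyc_inv r x)) W' →
        (SND ((altB B x r).restrict (cycS r x)) W' ↔ SND B (W'.map (cycS r x).subtype))) := by
  classical
  have hr : 0 < r := (Fact.out : r.Prime).pos
  have hodd : Odd r := (Fact.out : r.Prime).odd_of_ne_two hr2
  obtain ⟨-, hcompl, -, hcnd⟩ := o_split hrp h
  have hzero : ∀ u : V, u ∈ cycS r x → x u = (x ^ (r - 1)) u → u = 0 := by
    intro u huC hu
    have hfix : x u = u := s5972restrict_fix_of_sq hr hodd h.pow u hu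
    have hmem : u ∈ fixS x ⊓ cycS r x := ⟨(s5955t2_mem_fixS x u).mpr hfix, huC⟩
    rw [hcompl.inf_eq_bot, Submodule.mem_bot] at hmem
    exact hmem
  have hinvIff : ∀ W' : Submodule F ↥(cycS r x),
      SInv (x.restrict (s5972restrict_cyc_inv r x)) W' ↔ SInv x (W'.map (cycS r x).subtype) := by
    intro W'
    constructor
    · rintro hW' v ⟨u, hu, rfl⟩
      exact ⟨(x.restrict (s5972restrict_cyc_inv r x)) u, hW' u hu, rfl⟩
    · intro hM u hu
      obtain ⟨u', hu', hu'eq⟩ := hM (u : V) ⟨u, hu, rfl⟩
      have : (x.restrict (s5972restrict_cyc_inv r x)) u = u' := by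
        apply Subtype.ext
        rw [LinearMap.coe_restrict_apply]
        exact hu'eq.symm
      rw [this]
      exact hu'
  refine ⟨⟨?_, ?_, ?_, ?_⟩, ?_, hinvIff, ?_⟩
  · intro v
    rw [s5972restrict_apply]
    exact s5972restrict_alt hr h _
  · intro u hu
    have hz : x (u : V) - (x ^ (r - 1)) (u : V) ∈ cycS r x :=
      Submodule.sub_mem _ (s5972restrict_cyc_inv r x _ u.2)
        (Cfsg.Agent.Lib.Helper24.el_pow_mem (s5972restrict_cyc_inv r x) (r - 1) u.2)
    have hz0 : x (u : V) - (x ^ (r - 1)) (u : V) = 0 := by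
      apply hcnd _ hz
      intro v hv
      have := hu ⟨v, hv⟩
      rw [s5972restrict_apply, s5972restrict_flip hr h, neg_eq_zero] at this
      exact this
    exact Subtype.ext (hzero _ u.2 (sub_eq_zero.mp hz0))
  · intro u v
    rw [s5972restrict_apply, s5972restrict_apply, LinearMap.coe_restrict_apply,
      LinearMap.coe_restrict_apply]
    exact s5972restrict_pres hr h _ _
  · rw [Module.End.pow_restrict r (s5972restrict_cyc_inv r x)]
    ext u
    rw [LinearMap.coe_restrict_apply, h.pow]
    rfl
  · rw [eq_top_iff]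
    intro u _
    rw [s5972restrict_mem_cyc]
    apply Subtype.ext
    rw [s5972restrict_aeval]
    have hu : (u : V) ∈ cycS r x := u.2
    rw [s5972restrict_mem_cyc] at hu
    rw [hu]
    rfl
  · intro W' hW'inv
    have hinv : SInv x (W'.map (cycS r x).subtype) := (hinvIff W').mp hW'inv
    have hinvp : ∀ v ∈ W'.map (cycS r x).subtype, (x ^ (r - 1)) v ∈ W'.map (cycS r x).subtype :=
      fun v hv => Cfsg.Agent.Lib.Helper24.el_pow_mem hinv (r - 1) hv
    let D : (W'.map (cycS r x).subtype) →ₗ[F] (W'.map (cycS r x).subtype) :=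
      (x - x ^ (r - 1)).restrict (fun v hv => Submodule.sub_mem _ (hinv v hv) (hinvp v hv))
    have hDinj : Function.Injective D := by
      rw [← LinearMap.ker_eq_bot, eq_bot_iff]
      intro u hu
      rw [LinearMap.mem_ker] at hu
      have hu' : (x - x ^ (r - 1)) (u : V) = 0 := by
        have := congrArg Subtype.val hu
        simpa [D, LinearMap.coe_restrict_apply] using this
      rw [LinearMap.sub_apply, sub_eq_zero] at hu'
      have huC : (u : V) ∈ cycS r x := Submodule.map_subtype_le (cycS r x) W' u.2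
      rw [Submodule.mem_bot]
      exact Subtype.ext (hzero _ huC hu')
    have hDsurj : Function.Surjective D := LinearMap.surjective_of_injective hDinj
    constructor
    · -- SND A' W' → SND B M
      intro hnd u hu huv
      obtain ⟨a, ha, rfl⟩ := hu
      have ha0 : a = 0 := by
        apply hnd a ha
        intro b hb
        rw [s5972restrict_apply, altB_apply]
        apply huv
        exact Submodule.sub_mem _ (hinv _ ⟨b, hb, rfl⟩) (hinvp _ ⟨b, hb, rfl⟩)
      rw [ha0]
      rfl
    · -- SND B M → SND A' W'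
      intro hnd a ha hab
      have h0 : ((a : ↥(cycS r x)) : V) = 0 := by
        apply hnd _ ⟨a, ha, rfl⟩
        intro w hw
        obtain ⟨v₀, hv₀⟩ := hDsurj ⟨w, hw⟩
        have hv₀' : x (v₀ : V) - (x ^ (r - 1)) (v₀ : V) = w := by
          have := congrArg Subtype.val hv₀
          simpa [D, LinearMap.coe_restrict_apply] using this
        obtain ⟨b, hb, hbeq⟩ := v₀.2
        have hti := hab b hb
        rw [s5972restrict_apply, altB_apply] at hti
        rw [← hv₀', ← hbeq]
        exact hti
      exact Subtype.ext h0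

/-- RESTRICTND (verbatim row). -/
theorem o_restrict_nd {F : Type*} [Field F] [Fintype F] {p : ℕ} [Fact p.Prime] [CharP F p]
    {V : Type*} [AddCommGroup V] [Module F V] [FiniteDimensional F V]
    {r : ℕ} [Fact r.Prime] (hrp : r ≠ p) (hr2 : r ≠ 2) {B : LinearMap.BilinForm F V}
    {x : Module.End F V} (h : OCtx r B x) :
    ∃ (x' : Module.End F ↥(cycS r x)) (A' : LinearMap.BilinForm F ↥(cycS r x)),
      SCtx r A' x' ∧ cycS r x' = ⊤ ∧
      (∀ W' : Submodule F ↥(cycS r x), SInv x' W' ↔ SInv x (W'.map (cycS r x).subtype)) ∧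
      (∀ W' : Submodule F ↥(cycS r x), SInv x' W' →
        (SND A' W' ↔ SND B (W'.map (cycS r x).subtype))) :=
  ⟨_, _, onerestrictnd_explicit hrp hr2 h⟩

end Cfsg.Agent.Lib.Helper18.ONE
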