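import Mathlib
import Cfsg.Agent.Lib.Helper18.ONE.Defs
import Cfsg.Agent.Lib.helper23.ONERESTRICTND
import Cfsg.Agent.Lib.Helper20.S5956O4
import Cfsg.Agent.Lib.Helper20.S5956O5

set_option autoImplicit false

/-!
# Project ONE (designer helper18), rows CYCDVD + LADDER (helper23), verbatim.
RESTRICTND (explicit form) + helper20's S5956 rows O5 `cyc_nd_dvd`, O4 `nd_ladder`.
-/

namespace Cfsg.Agent.Lib.Helper18.ONE

open Polynomial Module Cfsg.Agent.Lib.Helper13.S5955 Cfsg.Agent.Lib.helper15.S5972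

/-- CYCDVD (verbatim row). -/
theorem o_cyc_nd_dvd {F : Type*} [Field F] [Fintype F] {p : ℕ} [Fact p.Prime] [CharP F p]
    {V : Type*} [AddCommGroup V] [Module F V] [FiniteDimensional F V]
    {r : ℕ} [Fact r.Prime] (hrp : r ≠ p) (hr2 : r ≠ 2) {B : LinearMap.BilinForm F V}
    {x : Module.End F V} (h : OCtx r B x) (i c : ℕ)
    (hi : i = orderOf ((Fintype.card F : ℕ) : ZMod r)) (hc : c = if Even i then i else 2 * i)
    (N : Submodule F V) (hN : SInv x N) (hNc : N ≤ cycS r x) (hNnd : SND B N) :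
    c ∣ finrank F N := by
  obtain ⟨hctx, htop, hinv, hnd⟩ := onerestrictnd_explicit hrp hr2 h
  have hmap : (N.comap (cycS r x).subtype).map (cycS r x).subtype = N := by
    rw [Submodule.map_comap_subtype]
    exact inf_eq_right.mpr hNc
  have hW'inv : SInv (x.restrict (s5972restrict_cyc_inv r x)) (N.comap (cycS r x).subtype) := by
    rw [hinv, hmap]; exact hN
  have hW'nd : SND ((altB B x r).restrict (cycS r x)) (N.comap (cycS r x).subtype) := by
    rw [hnd _ hW'inv, hmap]; exact hNnd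
  have hdvd := Cfsg.Agent.Lib.helper3.S5956.cyc_nd_dvd hrp hctx i c hi hc
    (N.comap (cycS r x).subtype) hW'inv (by rw [htop]; exact le_top) hW'nd
  have hfr : finrank F ↥(N.comap (cycS r x).subtype) = finrank F N := by
    rw [← Submodule.finrank_map_subtype_eq (cycS r x) (N.comap (cycS r x).subtype), hmap]
  rw [← hfr]
  exact hdvd

/-- LADDER (verbatim row). -/
theorem o_nd_ladder {F : Type*} [Field F] [Fintype F] {p : ℕ} [Fact p.Prime] [CharP F p]
    {V : Type*} [AddCommGroup V] [Module F V] [FiniteDimensional F V]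
    {r : ℕ} [Fact r.Prime] (hrp : r ≠ p) (hr2 : r ≠ 2) {B : LinearMap.BilinForm F V}
    {x : Module.End F V} (h : OCtx r B x) (i c : ℕ)
    (hi : i = orderOf ((Fintype.card F : ℕ) : ZMod r)) (hc : c = if Even i then i else 2 * i)
    (b : ℕ) (hb : c * b ≤ finrank F (cycS r x)) :
    ∃ M : Submodule F V, M ≤ cycS r x ∧ SInv x M ∧ SND B M ∧ finrank F M = c * b := by
  obtain ⟨hctx, htop, hinv, hnd⟩ := onerestrictnd_explicit hrp hr2 h
  have htopinv : SInv (x.restrict (s5972restrict_cyc_inv r x)) (⊤ : Submodule F ↥(cycS r x)) :=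
    fun _ _ => Submodule.mem_top
  have htopnd : SND ((altB B x r).restrict (cycS r x)) (⊤ : Submodule F ↥(cycS r x)) :=
    fun u _ hu => hctx.nd u (fun v => hu v Submodule.mem_top)
  obtain ⟨U, -, hUinv, hUnd, hUdim⟩ :=
    Cfsg.Agent.Lib.helper3.S5956.nd_ladder hrp hr2 hctx i c hi hc b ⊤ htopinv
      (by rw [htop]) htopnd (by rw [finrank_top]; exact hb)
  refine ⟨U.map (cycS r x).subtype, Submodule.map_subtype_le _ _, (hinv U).mp hUinv,
    (hnd U hUinv).mp hUnd, ?_⟩
  rw [Submodule.finrank_map_subtype_eq]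
  exact hUdim

end Cfsg.Agent.Lib.Helper18.ONE
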