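import Mathlib
import Cfsg.Agent.Lib.Helper1.SLN.Defs
import Cfsg.Agent.Lib.Helper1.SLN.Defs2

/-!
# Project SL7 (designer helper1), skeleton 2, row G1p (`gX_eq'`), VERBATIM (helper23)

= G1 (`gX_eq`, helper16) under the weaker hypothesis `Glue3` (the same proof: only `H.g4` is used).
-/

set_option autoImplicit false

namespace Cfsg.Agent.Lib.Helper1.SLN

open Matrix Equiv
open Cfsg.Agent.Lib.helper17.SLP

universe u v w

section Gp

variable {F : Type u} [Field F] {G : Type v} [Group G]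

/-- G1p [S-M]  = G1 with `Glue3` (same proof: only `H.g4`). -/
theorem gX_eq' (M : ℕ) (α : alternatingGroup (Fin (M + 4)) →* G)
    (β : Matrix.SpecialLinearGroup (Fin 3) F →* G) (H : Glue3 M α β)
    (σ : alternatingGroup (Fin (M + 4))) (i j : Fin (M + 4))
    (h0 : (σ : Equiv.Perm (Fin (M + 4))) (i0 M) = i) (h1 : (σ : Equiv.Perm (Fin (M + 4))) (i1 M) = j)
    (t : F) : gX M α β i j t = α σ * β (emb23 (xU t)) * (α σ)⁻¹ := by
  have hex : ∃ σ : alternatingGroup (Fin (M + 4)),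
      (σ : Equiv.Perm (Fin (M + 4))) (i0 M) = i ∧ (σ : Equiv.Perm (Fin (M + 4))) (i1 M) = j := ⟨σ, h0, h1⟩
  unfold gX
  rw [dif_pos hex]
  obtain ⟨c0, c1⟩ := hex.choose_spec
  set σ' := hex.choose with hσ'
  have hτ : σ'⁻¹ * σ ∈ stab01 M := by
    rw [mem_stab01]
    constructor
    · rw [Subgroup.coe_mul, Subgroup.coe_inv, Equiv.Perm.mul_apply, h0, Equiv.Perm.inv_eq_iff_eq, c0]
    · rw [Subgroup.coe_mul, Subgroup.coe_inv, Equiv.Perm.mul_apply, h1, Equiv.Perm.inv_eq_iff_eq, c1]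
  have h4 := H.g4 _ hτ (xU t)
  have e : α σ = α σ' * α (σ'⁻¹ * σ) := by
    rw [← map_mul, mul_inv_cancel_left]
  rw [e, _root_.mul_inv_rev]
  have : α σ' * α (σ'⁻¹ * σ) * β (emb23 (xU t)) * ((α (σ'⁻¹ * σ))⁻¹ * (α σ')⁻¹) =
      α σ' * (α (σ'⁻¹ * σ) * β (emb23 (xU t)) * (α (σ'⁻¹ * σ))⁻¹) * (α σ')⁻¹ := by
    simp only [mul_assoc]
  rw [this, h4]

end Gp

end Cfsg.Agent.Lib.Helper1.SLN
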