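import Mathlib
import Cfsg.Agent.Lib.helper17.SLP.Defs

/-!
# SLP row B1 (`baumslag`), helper23.  Verbatim statement of `helper17/SLP/Skel.lean.txt`.
-/

set_option autoImplicit false

namespace Cfsg.Agent.Lib.helper17.SLP

open Polynomial

universe u v

/-- conjugation by `T ^ a` shifts the index. -/
theorem slpb1_shift {G : Type*} [Group G] (T u : G) (i j a : ℤ)
    (h : Commute (cj T u i) (cj T u j)) : Commute (cj T u (a + i)) (cj T u (a + j)) := by
  rw [← conj_cj T u i a, ← conj_cj T u j a, zpow_neg]
  exact (Commute.conj_iff (T ^ a)).2 h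

/-- conjugation by `S` (commuting with `T`) when `S u S⁻¹ = v₁ u`. -/
theorem slpb1_conjS {G : Type*} [Group G] (u S T : G) (hST : Commute S T)
    (h2 : cj S u 1 = cj T u 1 * u) (j : ℤ) :
    S * cj T u j * S⁻¹ = cj T u (j + 1) * cj T u j := by
  have hc : Commute S (T ^ j) := hST.zpow_right j
  have hc' : Commute S (T ^ (-j)) := hST.zpow_right (-j)
  have h2' : S * u * S⁻¹ = cj T u 1 * u := by rw [← cj_one]; exact h2
  have e1 : S * cj T u j * S⁻¹ = T ^ j * (S * u * S⁻¹) * T ^ (-j) := by
    unfold cj
    have a1 : S * (T ^ j * u * T ^ (-j)) * S⁻¹ = (S * T ^ j) * u * (T ^ (-j) * S⁻¹) := by group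
    have a2 : T ^ (-j) * S⁻¹ = S⁻¹ * T ^ (-j) := (hc'.inv_left).eq.symm
    rw [a1, hc.eq, a2]; group
  rw [e1, h2']
  have e2 : T ^ j * (cj T u 1 * u) * T ^ (-j) =
      (T ^ j * cj T u 1 * T ^ (-j)) * (T ^ j * u * T ^ (-j)) := by group
  rw [e2, conj_cj]
  rfl

/-- B1 [M]  (Baumslag's trick.) -/
theorem baumslag {G : Type*} [Group G] (u S T : G) (hST : Commute S T)
    (h1 : Commute u (cj T u 1)) (h2 : cj S u 1 = cj T u 1 * u) : ∀ j : ℤ, Commute u (cj T u j) := by
  have hv0 : cj T u 0 = u := cj_zero T u
  -- natural indices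
  have hnat : ∀ k : ℕ, ∀ i : ℕ, i ≤ k → Commute u (cj T u (i : ℤ)) := by
    intro k
    induction k with
    | zero =>
      intro i hi
      have : i = 0 := Nat.le_zero.1 hi
      subst this
      simp only [Nat.cast_zero, hv0]
      exact Commute.refl u
    | succ k ih =>
      intro i hi
      rcases Nat.lt_or_ge i (k + 1) with hlt | hge
      · exact ih i (Nat.lt_succ_iff.1 hlt)
      have hik : i = k + 1 := le_antisymm hi hge
      subst hik
      rcases Nat.eq_zero_or_pos k with hk0 | hkpos
      · subst hk0
        simpa using h1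
      -- k ≥ 1
      have c0k : Commute (cj T u 0) (cj T u (k : ℤ)) := by rw [hv0]; exact ih k le_rfl
      have c01 : Commute (cj T u 0) (cj T u 1) := by rw [hv0]; exact h1
      have c0km : Commute (cj T u 0) (cj T u ((k - 1 : ℕ) : ℤ)) := by
        rw [hv0]; exact ih (k - 1) (Nat.sub_le k 1)
      have c1k : Commute (cj T u 1) (cj T u (k : ℤ)) := by
        have := slpb1_shift T u 0 ((k - 1 : ℕ) : ℤ) 1 c0km
        have e : (1 : ℤ) + ((k - 1 : ℕ) : ℤ) = (k : ℤ) := by
          rw [Nat.cast_sub hkpos]; simp
        rw [e] at this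
        simpa using this
      have c1k1 : Commute (cj T u 1) (cj T u ((k : ℤ) + 1)) := by
        have := slpb1_shift T u 0 (k : ℤ) 1 c0k
        have e : (1 : ℤ) + (k : ℤ) = (k : ℤ) + 1 := by ring
        rw [e] at this
        simpa using this
      have ckk1 : Commute (cj T u (k : ℤ)) (cj T u ((k : ℤ) + 1)) := by
        have := slpb1_shift T u 0 1 (k : ℤ) c01
        simpa using this
      have hS : Commute (cj T u 1 * cj T u 0) (cj T u ((k : ℤ) + 1) * cj T u (k : ℤ)) := by
        have := (Commute.conj_iff S).2 c0k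
        rw [slpb1_conjS u S T hST h2 0, slpb1_conjS u S T hST h2 (k : ℤ)] at this
        simpa using this
      -- abbreviations
      set a := cj T u 0 with ha
      set b := cj T u 1 with hb
      set c := cj T u (k : ℤ) with hc
      set d := cj T u ((k : ℤ) + 1) with hd
      have e : b * a * (d * c) = d * c * (b * a) := hS.eq
      have key : b * (a * d) * c = b * (d * a) * c := by
        calc b * (a * d) * c = b * a * (d * c) := by group
          _ = d * c * (b * a) := e
          _ = d * (c * b) * a := by group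
          _ = d * (b * c) * a := by rw [c1k.eq]
          _ = (d * b) * (c * a) := by group
          _ = (b * d) * (a * c) := by rw [c1k1.eq, c0k.eq]
          _ = b * (d * a) * c := by group
      have key2 : a * d = d * a := by
        have := mul_right_cancel key
        exact mul_left_cancel this
      have h3 : Commute a d := key2
      rw [hv0] at h3
      have e2 : ((k + 1 : ℕ) : ℤ) = (k : ℤ) + 1 := by push_cast; ring
      rw [e2]
      exact h3
  intro j
  rcases Int.eq_nat_or_neg j with ⟨n, rfl | rfl⟩
  · exact hnat n n le_rfl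
  · -- negative index: conjugate `Commute u v_n` by `T ^ (-n)`
    have h := hnat n n le_rfl
    have h' : Commute (cj T u 0) (cj T u (n : ℤ)) := by rw [hv0]; exact h
    have := slpb1_shift T u 0 (n : ℤ) (-(n : ℤ)) h'
    simp only [add_zero, neg_add_cancel, hv0] at this
    exact this.symm

end Cfsg.Agent.Lib.helper17.SLP
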