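import Mathlib
import Cfsg.Agent.Lib.Helper1.SLN.Defs
import Cfsg.Agent.Lib.Helper1.SLN.Defs2
import Cfsg.Agent.Lib.Helper11.SLNMG6

/-!
# Project SL7 (designer helper1), skeleton 2, row A1 (`exists_glueset5`): CORE (helper23)

`sl7a1_core`: the four gluing relators for `n ≥ 5`, with the cited rows TS4 (`exists_nu`), Q2 (`exists_yM`), Q1 (`exists_flip_gens`),
Z3 (`glue3_of_rels`), H6 (`two_of_one`), H5 (`glue_of_two`), MZ1 (`alphaM_nu`) as hypotheses (their statements at the group universe `0`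
and at the index `M + 1`); MG6 (`glueM`) is cited.
-/

set_option autoImplicit false

namespace Cfsg.Agent.Lib.Helper1.SLN

open Matrix Equiv
open Cfsg.Agent.Lib.helper17.SLP

universe u v w

section A

variable {F : Type u} [Field F]

/-- `a * b * a⁻¹ * b⁻¹ = 1` says that `a` and `b` commute. -/
theorem sl7a1_commute_of_cm {G : Type*} [Group G] {a b : G} (h : a * b * a⁻¹ * b⁻¹ = 1) : Commute a b := by
  have h1 : a * b * a⁻¹ = b := by rwa [mul_inv_eq_one] at h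
  have h2 : a * b = b * a := by rwa [mul_inv_eq_iff_eq_mul] at h1
  exact h2

theorem sl7a1_cm_of_commute {G : Type*} [Group G] {a b : G} (h : Commute a b) : a * b * a⁻¹ * b⁻¹ = 1 := by
  rw [mul_inv_eq_one, mul_inv_eq_iff_eq_mul]
  exact h

theorem sl7a1_core [Fintype F] (M : ℕ)
    (hTS4 : ∃ ν x : alternatingGroup (Fin (M + 1 + 4)), NuHyp (M + 1) ν x)
    (hQ2 : ∃ y : Matrix.SpecialLinearGroup (Fin 3) F,
      Subgroup.closure ({y, cM} : Set (Matrix.SpecialLinearGroup (Fin 3) F)) = ⊤)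
    (hQ1 : ∃ a₁ a₂ : Matrix.SpecialLinearGroup (Fin 2) F, flip2 a₁ = a₁⁻¹ ∧ flip2 a₂ = a₂⁻¹ ∧
      Subgroup.closure ({a₁, a₂} : Set (Matrix.SpecialLinearGroup (Fin 2) F)) = ⊤)
    (hZ3 : ∀ (G : Type) [Group G] (α : alternatingGroup (Fin (M + 1 + 4)) →* G)
      (β : Matrix.SpecialLinearGroup (Fin 3) F →* G) (_h2c : α (c3 (M + 1)) = β cM)
      (ν x : alternatingGroup (Fin (M + 1 + 4))) (_hN : NuHyp (M + 1) ν x)
      (y : Matrix.SpecialLinearGroup (Fin 3) F)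
      (_hy : Subgroup.closure ({y, cM} : Set (Matrix.SpecialLinearGroup (Fin 3) F)) = ⊤)
      (a₁ a₂ : Matrix.SpecialLinearGroup (Fin 2) F) (_ha₁ : flip2 a₁ = a₁⁻¹) (_ha₂ : flip2 a₂ = a₂⁻¹)
      (_hcl : Subgroup.closure ({a₁, a₂} : Set (Matrix.SpecialLinearGroup (Fin 2) F)) = ⊤)
      (_r1 : Commute (α ν * (β fM)⁻¹) (β y))
      (_r2 : Commute (β (emb23 a₁)) (α x)) (_r3 : Commute (β (emb23 a₂)) (α x)),
      Glue3 (M + 1) α β)
    (hH6 : ∀ (G : Type) [Group G] (α : alternatingGroup (Fin (M + 1 + 4)) →* G)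
      (β : Matrix.SpecialLinearGroup (Fin 3) F →* G) (_H : Glue3 (M + 1) α β)
      (_h5a : Commute (β (emb23 (xU (1 : F))))
        (α (rho (M + 1)) * β (emb23 (xU (1 : F))) * (α (rho (M + 1)))⁻¹)),
      Commute (β (emb23 (xU (1 : F)))) (α (rho (M + 1)) * β (emb23 (xL (1 : F))) * (α (rho (M + 1)))⁻¹))
    (hH5 : ∀ (G : Type) [Group G] (α : alternatingGroup (Fin (M + 1 + 4)) →* G)
      (β : Matrix.SpecialLinearGroup (Fin 3) F →* G) (_H : Glue3 (M + 1) α β)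
      (_h5a : Commute (β (emb23 (xU (1 : F))))
        (α (rho (M + 1)) * β (emb23 (xU (1 : F))) * (α (rho (M + 1)))⁻¹))
      (_h5b : Commute (β (emb23 (xU (1 : F))))
        (α (rho (M + 1)) * β (emb23 (xL (1 : F))) * (α (rho (M + 1)))⁻¹)),
      Glue (M + 1) α β)
    (hMZ1 : ∀ (ν : alternatingGroup (Fin (M + 1 + 4)))
      (_h0 : (ν : Equiv.Perm (Fin (M + 1 + 4))) (i0 (M + 1)) = i1 (M + 1))
      (_h1 : (ν : Equiv.Perm (Fin (M + 1 + 4))) (i1 (M + 1)) = i0 (M + 1))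
      (_h2 : (ν : Equiv.Perm (Fin (M + 1 + 4))) (i2 (M + 1)) = i2 (M + 1))
      (A : Matrix.SpecialLinearGroup (Fin 3) F),
      alphaM (F := F) ν * betaM (M + 1) A * (alphaM (F := F) ν)⁻¹ = betaM (M + 1) (fM * A * fM⁻¹)) :
    ∃ S : Finset (Monoid.Coprod (alternatingGroup (Fin (M + 1 + 4))) (Matrix.SpecialLinearGroup (Fin 3) F)),
      S.card ≤ 4 ∧
      (∀ (G : Type) [Group G] (α : alternatingGroup (Fin (M + 1 + 4)) →* G)
        (β : Matrix.SpecialLinearGroup (Fin 3) F →* G), α (c3 (M + 1)) = β cM →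
        (∀ s ∈ S, Monoid.Coprod.lift α β s = 1) → Glue (M + 1) α β) ∧
      ∀ s ∈ S, Monoid.Coprod.lift (alphaM (F := F) (n := M + 1 + 4)) (betaM (M + 1)) s = 1 := by
  classical
  obtain ⟨ν, x, hN⟩ := hTS4
  obtain ⟨y, hy⟩ := hQ2
  obtain ⟨a₁, a₂, ha₁, ha₂, hcl⟩ := hQ1
  let inl : alternatingGroup (Fin (M + 1 + 4)) →*
      Monoid.Coprod (alternatingGroup (Fin (M + 1 + 4))) (Matrix.SpecialLinearGroup (Fin 3) F) :=
    Monoid.Coprod.inl
  let inr : Matrix.SpecialLinearGroup (Fin 3) F →*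
      Monoid.Coprod (alternatingGroup (Fin (M + 1 + 4))) (Matrix.SpecialLinearGroup (Fin 3) F) :=
    Monoid.Coprod.inr
  let cm : Monoid.Coprod (alternatingGroup (Fin (M + 1 + 4))) (Matrix.SpecialLinearGroup (Fin 3) F) →
      Monoid.Coprod (alternatingGroup (Fin (M + 1 + 4))) (Matrix.SpecialLinearGroup (Fin 3) F) →
      Monoid.Coprod (alternatingGroup (Fin (M + 1 + 4))) (Matrix.SpecialLinearGroup (Fin 3) F) :=
    fun a b => a * b * a⁻¹ * b⁻¹
  let s₁ := cm (inl ν * (inr fM)⁻¹) (inr y)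
  let s₂ := cm (inr (emb23 a₁)) (inl x)
  let s₃ := cm (inr (emb23 a₂)) (inl x)
  let s₄ := cm (inr (emb23 (xU (1 : F))))
    (inl (rho (M + 1)) * inr (emb23 (xU (1 : F))) * (inl (rho (M + 1)))⁻¹)
  refine ⟨{s₁, s₂, s₃, s₄}, Finset.card_le_four, ?_, ?_⟩
  · intro G _ α β h2c hS
    have e1 : Monoid.Coprod.lift α β s₁ = (α ν * (β fM)⁻¹) * β y * (α ν * (β fM)⁻¹)⁻¹ * (β y)⁻¹ := by
      simp only [s₁, cm, inl, inr, map_mul, map_inv, Monoid.Coprod.lift_apply_inl,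
        Monoid.Coprod.lift_apply_inr]
    have e2 : Monoid.Coprod.lift α β s₂ = β (emb23 a₁) * α x * (β (emb23 a₁))⁻¹ * (α x)⁻¹ := by
      simp only [s₂, cm, inl, inr, map_mul, map_inv, Monoid.Coprod.lift_apply_inl,
        Monoid.Coprod.lift_apply_inr]
    have e3 : Monoid.Coprod.lift α β s₃ = β (emb23 a₂) * α x * (β (emb23 a₂))⁻¹ * (α x)⁻¹ := by
      simp only [s₃, cm, inl, inr, map_mul, map_inv, Monoid.Coprod.lift_apply_inl,
        Monoid.Coprod.lift_apply_inr]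
    have e4 : Monoid.Coprod.lift α β s₄ = β (emb23 (xU (1 : F))) *
        (α (rho (M + 1)) * β (emb23 (xU (1 : F))) * (α (rho (M + 1)))⁻¹) *
        (β (emb23 (xU (1 : F))))⁻¹ *
        (α (rho (M + 1)) * β (emb23 (xU (1 : F))) * (α (rho (M + 1)))⁻¹)⁻¹ := by
      simp only [s₄, cm, inl, inr, map_mul, map_inv, Monoid.Coprod.lift_apply_inl,
        Monoid.Coprod.lift_apply_inr]
    have m1 : s₁ ∈ ({s₁, s₂, s₃, s₄} : Finset _) := by simp
    have m2 : s₂ ∈ ({s₁, s₂, s₃, s₄} : Finset _) := by simp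
    have m3 : s₃ ∈ ({s₁, s₂, s₃, s₄} : Finset _) := by simp
    have m4 : s₄ ∈ ({s₁, s₂, s₃, s₄} : Finset _) := by simp
    have r1 : Commute (α ν * (β fM)⁻¹) (β y) := sl7a1_commute_of_cm (by rw [← e1]; exact hS _ m1)
    have r2 : Commute (β (emb23 a₁)) (α x) := sl7a1_commute_of_cm (by rw [← e2]; exact hS _ m2)
    have r3 : Commute (β (emb23 a₂)) (α x) := sl7a1_commute_of_cm (by rw [← e3]; exact hS _ m3)
    have h5a : Commute (β (emb23 (xU (1 : F))))
        (α (rho (M + 1)) * β (emb23 (xU (1 : F))) * (α (rho (M + 1)))⁻¹) :=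
      sl7a1_commute_of_cm (by rw [← e4]; exact hS _ m4)
    have H3 : Glue3 (M + 1) α β := hZ3 G α β h2c ν x hN y hy a₁ a₂ ha₁ ha₂ hcl r1 r2 r3
    exact hH5 G α β H3 h5a (hH6 G α β H3 h5a)
  · intro s hs
    set α := (alphaM (F := F) (n := M + 1 + 4)) with hα
    set β := (betaM (F := F) (M + 1)) with hβ
    have e1 : Monoid.Coprod.lift α β s₁ = (α ν * (β fM)⁻¹) * β y * (α ν * (β fM)⁻¹)⁻¹ * (β y)⁻¹ := by
      simp only [s₁, cm, inl, inr, map_mul, map_inv, Monoid.Coprod.lift_apply_inl,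
        Monoid.Coprod.lift_apply_inr]
    have e2 : Monoid.Coprod.lift α β s₂ = β (emb23 a₁) * α x * (β (emb23 a₁))⁻¹ * (α x)⁻¹ := by
      simp only [s₂, cm, inl, inr, map_mul, map_inv, Monoid.Coprod.lift_apply_inl,
        Monoid.Coprod.lift_apply_inr]
    have e3 : Monoid.Coprod.lift α β s₃ = β (emb23 a₂) * α x * (β (emb23 a₂))⁻¹ * (α x)⁻¹ := by
      simp only [s₃, cm, inl, inr, map_mul, map_inv, Monoid.Coprod.lift_apply_inl,
        Monoid.Coprod.lift_apply_inr]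
    have e4 : Monoid.Coprod.lift α β s₄ = β (emb23 (xU (1 : F))) *
        (α (rho (M + 1)) * β (emb23 (xU (1 : F))) * (α (rho (M + 1)))⁻¹) *
        (β (emb23 (xU (1 : F))))⁻¹ *
        (α (rho (M + 1)) * β (emb23 (xU (1 : F))) * (α (rho (M + 1)))⁻¹)⁻¹ := by
      simp only [s₄, cm, inl, inr, map_mul, map_inv, Monoid.Coprod.lift_apply_inl,
        Monoid.Coprod.lift_apply_inr]
    have HG := glueM (F := F) (M + 1)
    simp only [Finset.mem_insert, Finset.mem_singleton] at hs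
    rcases hs with rfl | rfl | rfl | rfl
    · rw [e1]
      apply sl7a1_cm_of_commute
      -- `z = α ν * (β fM)⁻¹` commutes with `β y`
      have hz := hMZ1 ν hN.h0 hN.h1 hN.h2 (fM⁻¹ * y * fM)
      have e : (fM : Matrix.SpecialLinearGroup (Fin 3) F) * (fM⁻¹ * y * fM) * fM⁻¹ = y := by group
      rw [e] at hz
      change α ν * β (fM⁻¹ * y * fM) * (α ν)⁻¹ = β y at hz
      show (α ν * (β fM)⁻¹) * β y = β y * (α ν * (β fM)⁻¹)
      have hz' : α ν * ((β fM)⁻¹ * β y * β fM) = β y * α ν := by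
        rw [mul_inv_eq_iff_eq_mul, map_mul, map_mul, map_inv] at hz
        exact hz
      calc (α ν * (β fM)⁻¹) * β y
          = α ν * ((β fM)⁻¹ * β y * β fM) * (β fM)⁻¹ := by group
        _ = β y * (α ν * (β fM)⁻¹) := by rw [hz']; group
    · rw [e2]
      apply sl7a1_cm_of_commute
      have h4 := HG.g4 x hN.hx a₁
      change α x * β (emb23 a₁) * (α x)⁻¹ = β (emb23 a₁) at h4
      show β (emb23 a₁) * α x = α x * β (emb23 a₁)
      rw [mul_inv_eq_iff_eq_mul] at h4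
      exact h4.symm
    · rw [e3]
      apply sl7a1_cm_of_commute
      have h4 := HG.g4 x hN.hx a₂
      change α x * β (emb23 a₂) * (α x)⁻¹ = β (emb23 a₂) at h4
      show β (emb23 a₂) * α x = α x * β (emb23 a₂)
      rw [mul_inv_eq_iff_eq_mul] at h4
      exact h4.symm
    · rw [e4]
      apply sl7a1_cm_of_commute
      exact HG.g5 (xU 1) (xU 1)

end A

end Cfsg.Agent.Lib.Helper1.SLN
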