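import Mathlib
import Cfsg.Agent.Lib.Helper1.SLN.Defs
import Cfsg.Agent.Lib.Helper1.SLN.Defs2
import Cfsg.Agent.Lib.Lead.SLn
import Cfsg.Agent.Lib.helper4.SL7MG0
import Cfsg.Agent.Lib.Helper11.SLNMGcore
import Cfsg.Agent.Lib.Helper20.SL7Z0a

/-!
# Project SL7 (designer helper1), skeleton 2, row MZ1 (`alphaM_nu`), VERBATIM (helper23)

In the model, a permutation `ν` swapping `0, 1` and fixing `2` acts on the `3 × 3` block as conjugation by `fM`.
Transvection induction; MG0a, MG0b (helper4), `slnmg_conj_block` (helper11), Z0a `fM_conj_tv` (helper20).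
-/

set_option autoImplicit false

namespace Cfsg.Agent.Lib.Helper1.SLN

open Matrix Equiv
open Cfsg.Agent.Lib.helper17.SLP

universe u v w

section MZ

variable {F : Type u} [Field F]

/-- `ν` maps `inc a` to `inc (swap 0 1 a)`. -/
theorem sl7mz1_nu_inc (M : ℕ) (ν : alternatingGroup (Fin (M + 4)))
    (h0 : (ν : Equiv.Perm (Fin (M + 4))) (i0 M) = i1 M) (h1 : (ν : Equiv.Perm (Fin (M + 4))) (i1 M) = i0 M)
    (h2 : (ν : Equiv.Perm (Fin (M + 4))) (i2 M) = i2 M) (a : Fin 3) :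
    (ν : Equiv.Perm (Fin (M + 4))) (inc M a) = inc M (Equiv.swap (0 : Fin 3) 1 a) := by
  fin_cases a
  · show (ν : Equiv.Perm (Fin (M + 4))) (inc M 0) = inc M (Equiv.swap (0 : Fin 3) 1 0)
    rw [Equiv.swap_apply_left]
    exact h0
  · show (ν : Equiv.Perm (Fin (M + 4))) (inc M 1) = inc M (Equiv.swap (0 : Fin 3) 1 1)
    rw [Equiv.swap_apply_right]
    exact h1
  · show (ν : Equiv.Perm (Fin (M + 4))) (inc M 2) = inc M (Equiv.swap (0 : Fin 3) 1 2)
    rw [Equiv.swap_apply_of_ne_of_ne (by decide) (by decide)]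
    exact h2

/-- MZ1 [M]  deps MG0a MG0b Z0a. -/
theorem alphaM_nu (M : ℕ) (ν : alternatingGroup (Fin (M + 4)))
    (h0 : (ν : Equiv.Perm (Fin (M + 4))) (i0 M) = i1 M) (h1 : (ν : Equiv.Perm (Fin (M + 4))) (i1 M) = i0 M)
    (h2 : (ν : Equiv.Perm (Fin (M + 4))) (i2 M) = i2 M) (A : Matrix.SpecialLinearGroup (Fin 3) F) :
    alphaM ν * betaM M A * (alphaM ν)⁻¹ = betaM M (fM * A * fM⁻¹) := by
  refine Cfsg.Agent.Lib.Lead.SL_transvection_induction
    (fun A => alphaM ν * betaM M A * (alphaM ν)⁻¹ = betaM M (fM * A * fM⁻¹)) ?_ ?_ A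
  · intro a b h t
    show alphaM ν * betaM M (Matrix.SpecialLinearGroup.transvection h t) * (alphaM ν)⁻¹ =
      betaM M (fM * Matrix.SpecialLinearGroup.transvection h t * fM⁻¹)
    rw [fM_conj_tv a b h t, betaM_tv M (Equiv.swap (0 : Fin 3) 1 a) (Equiv.swap (0 : Fin 3) 1 b)]
    exact slnmg_conj_block M (fun σ i j h t => alphaM_conj_tv σ i j h t)
      (fun a b h t => betaM_tv M a b h t) ν a b h t _ _ _
      (sl7mz1_nu_inc M ν h0 h1 h2 a) (sl7mz1_nu_inc M ν h0 h1 h2 b)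
  · intro A B hA hB
    show alphaM ν * betaM M (A * B) * (alphaM ν)⁻¹ = betaM M (fM * (A * B) * fM⁻¹)
    have e : (fM : Matrix.SpecialLinearGroup (Fin 3) F) * (A * B) * fM⁻¹ =
        (fM * A * fM⁻¹) * (fM * B * fM⁻¹) := by group
    rw [e, map_mul, map_mul, ← hA, ← hB]
    group

end MZ

end Cfsg.Agent.Lib.Helper1.SLN
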