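import Mathlib
import Cfsg.Agent.Lib.Helper24.TransferExp
import Cfsg.Agent.Lib.Helper24.Taussky
import Cfsg.Agent.Lib.helper8.SylowBasic

set_option autoImplicit false

namespace Cfsg.Agent.Lib.helper23

/-- conjugate elements have the same number of fixed points -/
theorem og_card_fixedBy_conj {G X : Type*} [Group G] [MulAction G X] (g x : G) :
    Nat.card (MulAction.fixedBy X (g * x * g⁻¹)) = Nat.card (MulAction.fixedBy X x) := by
  apply Nat.card_congr
  refine ⟨fun a => ⟨g⁻¹ • a.1, ?_⟩, fun a => ⟨g • a.1, ?_⟩, ?_, ?_⟩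
  · have ha := a.2
    rw [MulAction.mem_fixedBy] at ha ⊢
    have : x • g⁻¹ • a.1 = g⁻¹ • ((g * x * g⁻¹) • a.1) := by
      simp only [← mul_smul]
      congr 1
      group
    rw [this, ha]
  · have ha := a.2
    rw [MulAction.mem_fixedBy] at ha ⊢
    have : (g * x * g⁻¹) • g • a.1 = g • (x • a.1) := by
      simp only [← mul_smul]
      congr 1
      group
    rw [this, ha]
  · intro a
    apply Subtype.ext
    simp
  · intro a
    apply Subtype.ext
    simp

theorem og_card_fixedBy_of_isConj {G X : Type*} [Group G] [MulAction G X] {x y : G}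
    (h : IsConj x y) :
    Nat.card (MulAction.fixedBy X y) = Nat.card (MulAction.fixedBy X x) := by
  obtain ⟨c, hc⟩ := isConj_iff.mp h
  rw [← hc]
  exact og_card_fixedBy_conj c x

/-- Transfer: an involution of a subgroup of odd index in a perfect-like (simple nonabelian) group
whose fusion is controlled by the subgroup lies in the derived subgroup of the subgroup. -/
theorem og_mem_commutator_of_fusion {G : Type*} [Group G] [Finite G] [IsSimpleGroup G]
    (hG : ¬ IsMulCommutative G) (S : Subgroup G) (hodd : Odd S.index) (t : G) (ht : t ∈ S)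
    (ht2 : t ^ 2 = 1)
    (hfus : ∀ g : G, g⁻¹ * t * g ∈ S → ∃ s ∈ S, g⁻¹ * t * g = s * t * s⁻¹) :
    (⟨t, ht⟩ : S) ∈ commutator S := by
  classical
  let φ : S →* Abelianization S := Abelianization.of
  have hφ2 : φ ⟨t, ht⟩ ^ 2 = 1 := by
    rw [← map_pow]
    have : (⟨t, ht⟩ : S) ^ 2 = 1 := by
      apply Subtype.ext
      simpa using ht2
    rw [this, map_one]
  have key : ∀ (k : ℕ) (g₀ : G) (hk : g₀⁻¹ * ((⟨t, ht⟩ : S) : G) ^ k * g₀ ∈ S),
      φ ⟨g₀⁻¹ * ((⟨t, ht⟩ : S) : G) ^ k * g₀, hk⟩ * (φ ⟨t, ht⟩ ^ k)⁻¹ ∈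
        (⊥ : Subgroup (Abelianization S)) := by
    intro k g₀ hk
    rw [Subgroup.mem_bot]
    rcases Nat.even_or_odd k with ⟨j, hj⟩ | ⟨j, hj⟩
    · have hk1 : t ^ k = 1 := by rw [hj, ← two_mul, pow_mul, ht2, one_pow]
      have h1 : (⟨g₀⁻¹ * ((⟨t, ht⟩ : S) : G) ^ k * g₀, hk⟩ : S) = 1 := by
        apply Subtype.ext
        simp [hk1]
      have h2 : φ ⟨t, ht⟩ ^ k = 1 := by
        rw [hj, ← two_mul, pow_mul, hφ2, one_pow]
      rw [h1, h2, map_one]
      simp
    · have hk1 : t ^ k = t := by rw [hj, pow_succ, pow_mul, ht2, one_pow, one_mul]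
      have h2 : φ ⟨t, ht⟩ ^ k = φ ⟨t, ht⟩ := by
        rw [hj, pow_succ, pow_mul, hφ2, one_pow, one_mul]
      have hk' : g₀⁻¹ * t * g₀ ∈ S := by
        have := hk
        simpa [hk1] using this
      obtain ⟨s, hs, hse⟩ := hfus g₀ hk'
      have h1 : (⟨g₀⁻¹ * ((⟨t, ht⟩ : S) : G) ^ k * g₀, hk⟩ : S) =
          (⟨s, hs⟩ : S) * ⟨t, ht⟩ * (⟨s, hs⟩ : S)⁻¹ := by
        apply Subtype.ext
        simp [hk1, hse]
      rw [h1, h2, map_mul, map_mul, map_inv, mul_comm (φ ⟨s, hs⟩) (φ ⟨t, ht⟩),
        mul_inv_cancel_right, mul_inv_cancel]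
  have h1 := Cfsg.Agent.Lib.Helper24.tr_transfer_mul_inv_pow_mem φ ⊥ ⟨t, ht⟩ key
  rw [Subgroup.mem_bot] at h1
  -- transfer is trivial
  have htr : MonoidHom.transfer φ t = 1 := by
    have hK : ((MonoidHom.transfer φ).ker).Normal := inferInstance
    rcases hK.eq_bot_or_eq_top with h | h
    · exfalso
      apply hG
      have hinj : Function.Injective (MonoidHom.transfer φ) := (MonoidHom.ker_eq_bot_iff _).mp h
      exact ⟨⟨fun a b => hinj (by rw [map_mul, map_mul, mul_comm])⟩⟩
    · have : t ∈ (MonoidHom.transfer φ).ker := by rw [h]; exact Subgroup.mem_top t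
      exact MonoidHom.mem_ker.mp this
  have h2 : φ ⟨t, ht⟩ ^ S.index = 1 := by
    have h3 : MonoidHom.transfer φ ((⟨t, ht⟩ : S) : G) = 1 := htr
    rw [h3, one_mul, inv_eq_one] at h1
    exact h1
  obtain ⟨j, hj⟩ := hodd
  have h3 : φ ⟨t, ht⟩ = 1 := by
    rw [hj, pow_succ, pow_mul, hφ2, one_pow, one_mul] at h2
    exact h2
  have h4 : (⟨t, ht⟩ : S) ∈ (Abelianization.of : S →* Abelianization S).ker :=
    MonoidHom.mem_ker.mpr h3
  rwa [Abelianization.ker_of] at h4

/-- the derived subgroup of a 2-group does not have index 1 or 2 unless trivial group issues -/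
theorem og_commutator_index_ne {S : Type*} [Group S] [Finite S] (hS : IsPGroup 2 S)
    (hne : commutator S ≠ ⊥) : (commutator S).index ≠ 1 ∧ (commutator S).index ≠ 2 := by
  haveI : Fact (Nat.Prime 2) := ⟨Nat.prime_two⟩
  haveI : Group.IsNilpotent S := hS.isNilpotent
  haveI : Nontrivial S := by
    by_contra h
    rw [not_nontrivial_iff_subsingleton] at h
    exact hne (Subsingleton.elim _ _)
  constructor
  · intro h
    have h1 : commutator S = ⊤ := Subgroup.index_eq_one.mp h
    have h2 := Group.IsSolvable.commutator_lt_top_of_nontrivial S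
    rw [h1] at h2
    exact lt_irrefl _ h2
  · intro h
    -- pick a outside the commutator
    have hlt : commutator S ≠ ⊤ := by
      intro h1
      rw [h1, Subgroup.index_top] at h
      norm_num at h
    obtain ⟨a, -, ha⟩ := SetLike.exists_of_lt (lt_top_iff_ne_top.mpr hlt)
    obtain ⟨r, hr⟩ := IsPGroup.iff_card.mp hS
    by_cases hA : Subgroup.zpowers a = ⊤
    · -- cyclic so commutative
      apply hne
      have hc : ∀ x y : S, x * y = y * x := by
        intro x y
        have hx : x ∈ Subgroup.zpowers a := by rw [hA]; exact Subgroup.mem_top x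
        have hy : y ∈ Subgroup.zpowers a := by rw [hA]; exact Subgroup.mem_top y
        obtain ⟨i, rfl⟩ := Subgroup.mem_zpowers_iff.mp hx
        obtain ⟨j, rfl⟩ := Subgroup.mem_zpowers_iff.mp hy
        rw [← zpow_add, ← zpow_add, add_comm]
      rw [commutator_def, Subgroup.commutator_eq_bot_iff_le_centralizer]
      intro x _
      rw [Subgroup.mem_centralizer_iff]
      intro y _
      exact hc y x
    · -- zpowers a is in a subgroup of index 2
      have hAp : IsPGroup 2 (Subgroup.zpowers a) := hS.to_subgroup _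
      obtain ⟨n, hn⟩ := IsPGroup.iff_card.mp hAp
      have hr1 : 1 ≤ r := by
        rcases Nat.eq_zero_or_pos r with h0 | h0
        · exfalso
          rw [h0, pow_zero] at hr
          have : Subsingleton S := (Nat.card_eq_one_iff_unique.mp hr).1
          exact hne (Subsingleton.elim _ _)
        · exact h0
      have hnr : n ≤ r - 1 := by
        have h1 : Nat.card (Subgroup.zpowers a) < Nat.card S := by
          have h2 := (Subgroup.zpowers a).card_mul_index
          have h3 : (Subgroup.zpowers a).index ≠ 1 := fun h4 => hA (Subgroup.index_eq_one.mp h4)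
          have h4 : (Subgroup.zpowers a).index ≠ 0 := Subgroup.index_ne_zero_of_finite
          have h5 : 0 < Nat.card (Subgroup.zpowers a) := Nat.card_pos
          have h6 : 2 ≤ (Subgroup.zpowers a).index := by omega
          calc Nat.card (Subgroup.zpowers a) < Nat.card (Subgroup.zpowers a) * 2 := by omega
            _ ≤ Nat.card (Subgroup.zpowers a) * (Subgroup.zpowers a).index :=
                Nat.mul_le_mul_left _ h6
            _ = Nat.card S := h2
        rw [hn, hr] at h1
        have := (Nat.pow_lt_pow_iff_right (by norm_num : 1 < 2)).mp h1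
        omega
      have hdvd : 2 ^ (r - 1) ∣ Nat.card S := by
        rw [hr]
        exact pow_dvd_pow 2 (by omega)
      obtain ⟨K, hK, hAK⟩ := Sylow.exists_subgroup_card_pow_prime_le 2 hdvd (Subgroup.zpowers a) hn hnr
      have hKi : K.index = 2 := by
        have h1 := K.card_mul_index
        rw [hK, hr] at h1
        have h2 : (2 : ℕ) ^ r = 2 ^ (r - 1) * 2 := by
          rw [← pow_succ]
          congr 1
          omega
        rw [h2] at h1
        exact Nat.eq_of_mul_eq_mul_left (by positivity) h1
      haveI hKn : K.Normal := Subgroup.normal_of_index_eq_two hKi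
      have hle : commutator S ≤ K := by
        rw [← Subgroup.Normal.quotient_commutative_iff_commutator_le]
        have hc : Nat.card (S ⧸ K) = 2 := by rw [← Subgroup.index_eq_card]; exact hKi
        haveI : IsCyclic (S ⧸ K) := isCyclic_of_prime_card hc
        exact ⟨⟨fun x y => IsCyclic.commGroup.mul_comm x y⟩⟩
      have heq : commutator S = K := by
        apply Subgroup.eq_of_le_of_card_ge hle
        have h1 := K.card_mul_index
        have h2 := (commutator S).card_mul_index
        rw [hKi] at h1
        rw [h] at h2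
        omega
      apply ha
      rw [heq]
      exact hAK (Subgroup.mem_zpowers a)

/-- a cyclic group has at most one involution: three distinct solutions of `x^2=1` is absurd -/
theorem og_cyclic_two_involutions {C : Type*} [Group C] [Finite C] [IsCyclic C] (a b : C)
    (ha : a ^ 2 = 1) (hb : b ^ 2 = 1) (ha1 : a ≠ 1) (hb1 : b ≠ 1) : a = b := by
  classical
  haveI : Fintype C := Fintype.ofFinite C
  by_contra hab
  have h1 := IsCyclic.card_pow_eq_one_le (α := C) (n := 2) (by norm_num)
  have h2 : ({1, a, b} : Finset C) ⊆ Finset.univ.filter (fun x : C => x ^ 2 = 1) := by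
    intro x hx
    simp only [Finset.mem_insert, Finset.mem_singleton] at hx
    rw [Finset.mem_filter]
    refine ⟨Finset.mem_univ _, ?_⟩
    rcases hx with rfl | rfl | rfl
    · simp
    · exact ha
    · exact hb
  have h3 : ({1, a, b} : Finset C).card = 3 := by
    rw [Finset.card_insert_of_notMem, Finset.card_insert_of_notMem, Finset.card_singleton]
    · simpa using hab
    · simp only [Finset.mem_insert, Finset.mem_singleton]
      push Not
      exact ⟨fun h => ha1 h.symm, fun h => hb1 h.symm⟩
  have h4 := Finset.card_le_card h2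
  omega

end Cfsg.Agent.Lib.helper23
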