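import Mathlib
import Cfsg.Agent.Lib.helper23.OrdGen
import Cfsg.Agent.Lib.helper8.SylowBasic
import Cfsg.Agent.Lib.helper8.SimpleEmbed
import Cfsg.Agent.Lib.helper8.Burnside
import Cfsg.Agent.Lib.helper8.Parity
import Cfsg.Agent.Lib.helper8.OrbitCount
import Cfsg.Agent.Lib.helper8.SylowConj
import Cfsg.Agent.Lib.helper8.CountOrder
import Cfsg.Agent.Lib.Helper18.ConjCount
import Cfsg.Agent.S1018
import Cfsg.Agent.S1019

set_option autoImplicit false

namespace Cfsg.Agent.Lib.helper23

open Cfsg.Agent.Lib.helper8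

variable {G : Type*} [Group G] [Finite G] [IsSimpleGroup G]

theorem o3648_n19 (hG : Nat.card G = 3648) : Nat.card (Sylow 19 G) = 96 := by
  haveI : Fact (Nat.Prime 19) := ⟨by norm_num⟩
  have hG19 : Nat.card G = 19 ^ 1 * 192 := by rw [hG]; norm_num
  have hnd : ¬ 19 ∣ 192 := by norm_num
  have h1 := h8_nsylow_mem (G := G) 19 1 192 hG19 hnd
  have e : (Nat.divisors 192).filter (fun d => d % 19 = 1) = {1, 96} := by decide +kernel
  rw [e] at h1
  simp only [Finset.mem_insert, Finset.mem_singleton] at h1
  have h2 := h8_simple_nsylow_ne_one (G := G) 19 1 192 hG19 hnd (by norm_num) (by norm_num)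
  rcases h1 with h1 | h1
  · exact absurd h1 h2
  · exact h1

theorem o3648_P (hG : Nat.card G = 3648) [Fact (Nat.Prime 19)] (P : Sylow 19 G) :
    Nat.card (P : Subgroup G) = 19 ∧
    Nat.card (Subgroup.normalizer ((P : Subgroup G) : Set G)) = 38 ∧
    Nat.card (Subgroup.centralizer ((P : Subgroup G) : Set G)) = 19 := by
  have hG19 : Nat.card G = 19 ^ 1 * 192 := by rw [hG]; norm_num
  have hnd : ¬ 19 ∣ 192 := by norm_num
  have h1 := o3648_n19 hG
  have hN := h8_card_normalizer_sylow 19 P
  rw [h1, hG] at hN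
  have hN' : Nat.card (Subgroup.normalizer ((P : Subgroup G) : Set G)) = 38 := by omega
  have hP : Nat.card (P : Subgroup G) = 19 := by
    have := h8_sylow_card 19 1 192 hG19 hnd P
    simpa using this
  refine ⟨hP, hN', ?_⟩
  have h3 := h8_relIndex_centralizer_normalizer_dvd_prime 19 (by norm_num) (P : Subgroup G) hP
  have h4 := h8_card_centralizer_mul_relIndex (P : Subgroup G)
  rw [hN'] at h4
  have h5 : (Subgroup.centralizer ((P : Subgroup G) : Set G)).relIndex
      (Subgroup.normalizer ((P : Subgroup G) : Set G)) ∣ 38 := ⟨_, by rw [← h4, mul_comm]⟩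
  have h6 : (Subgroup.centralizer ((P : Subgroup G) : Set G)).relIndex
      (Subgroup.normalizer ((P : Subgroup G) : Set G)) ∣ 2 := by
    have := Nat.dvd_gcd h3 h5
    simpa using this
  have h7 := (Nat.dvd_prime Nat.prime_two).mp h6
  rcases h7 with h7 | h7
  · exact absurd (h8_normalizer_le_centralizer_of_relIndex _ h7)
      (h8_simple_not_normalizer_le_centralizer 19 1 192 hG19 hnd (by norm_num) (by norm_num) P)
  · rw [h7] at h4
    omega

/-- no element of order 2 commutes with an element of order 19 -/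
theorem o3648_no38 (hG : Nat.card G = 3648) (t u : G) (ht : orderOf t = 2) (hu : orderOf u = 19)
    (hc : t * u = u * t) : False := by
  haveI : Fact (Nat.Prime 19) := ⟨by norm_num⟩
  have hp : IsPGroup 19 (Subgroup.zpowers u) := by
    apply IsPGroup.of_card (n := 1)
    rw [Nat.card_zpowers, hu, pow_one]
  obtain ⟨P, hP⟩ := hp.exists_le_sylow
  obtain ⟨hP19, -, hC⟩ := o3648_P hG P
  have heq : Subgroup.zpowers u = (P : Subgroup G) := by
    apply Subgroup.eq_of_le_of_card_ge hP
    rw [Nat.card_zpowers, hu, hP19]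
  have htC : t ∈ Subgroup.centralizer ((P : Subgroup G) : Set G) := by
    rw [Subgroup.mem_centralizer_iff]
    intro x hx
    have hx' : x ∈ Subgroup.zpowers u := by rw [heq]; exact hx
    obtain ⟨i, rfl⟩ := Subgroup.mem_zpowers_iff.mp hx'
    exact ((Commute.zpow_right (show Commute t u from hc) i).eq).symm
  have := Subgroup.orderOf_dvd_natCard _ htC
  rw [ht, hC] at this
  norm_num at this

theorem o3648_t (hG : Nat.card G = 3648) [Fact (Nat.Prime 19)] (P : Sylow 19 G) :
    ∃ t : G, t ∈ Subgroup.normalizer ((P : Subgroup G) : Set G) ∧ orderOf t = 2 ∧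
      Nat.card (MulAction.fixedBy (G ⧸ Subgroup.normalizer ((P : Subgroup G) : Set G)) t) = 4 := by
  have hnc : ¬ IsMulCommutative G := h8_not_comm_of_card (by rw [hG]; norm_num)
  obtain ⟨hP, hN', hC⟩ := o3648_P hG P
  have h1 := o3648_n19 hG
  have h2N : 2 ∣ Nat.card (Subgroup.normalizer ((P : Subgroup G) : Set G)) := by rw [hN']; norm_num
  obtain ⟨t', ht'⟩ := exists_prime_orderOf_dvd_card' 2 h2N
  have ht : orderOf (t' : G) = 2 := by rw [Subgroup.orderOf_coe]; exact ht'
  have htC : (t' : G) ∉ Subgroup.centralizer ((P : Subgroup G) : Set G) := by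
    intro h
    have := Subgroup.orderOf_dvd_natCard _ h
    rw [ht, hC] at this
    norm_num at this
  refine ⟨t', t'.2, ht, ?_⟩
  have h8 := Cfsg.Agent.S1018.part_b 19 P hP (t' : G) t'.2 htC
  have h9 := h8_card_orbits_sylow_prime 19 P hP
  rw [h1] at h9
  have h10 : Nat.card (MulAction.orbitRel.Quotient ↥(P : Subgroup G)
        (G ⧸ Subgroup.normalizer ((P : Subgroup G) : Set G))) = 6 := by omega
  rw [h10] at h8
  have h11 : 1 ≤ Nat.card (MulAction.fixedBy (G ⧸ Subgroup.normalizer ((P : Subgroup G) : Set G))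
      (t' : G)) := by
    apply Nat.card_pos_iff.mpr
    refine ⟨⟨⟨((1 : G) : G ⧸ Subgroup.normalizer ((P : Subgroup G) : Set G)), ?_⟩⟩, inferInstance⟩
    rw [MulAction.mem_fixedBy, MulAction.Quotient.smul_mk, QuotientGroup.eq, smul_eq_mul]
    simp
  have h12 := h8_simple_involution_fixed (X := G ⧸ Subgroup.normalizer ((P : Subgroup G) : Set G))
    hnc (t' : G) (by rw [← ht]; exact pow_orderOf_eq_one _)
  have h13 : Nat.card (G ⧸ Subgroup.normalizer ((P : Subgroup G) : Set G)) = 96 := by
    rw [← h1]; exact P.card_eq_card_quotient_normalizer.symm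
  rw [h13] at h12
  omega

theorem o3648_class (hG : Nat.card G = 3648) [Fact (Nat.Prime 19)] (P : Sylow 19 G) (t : G)
    (htN : t ∈ Subgroup.normalizer ((P : Subgroup G) : Set G)) (ht : orderOf t = 2)
    (hfix : Nat.card (MulAction.fixedBy (G ⧸ Subgroup.normalizer ((P : Subgroup G) : Set G)) t) = 4) :
    Nat.card (Subgroup.centralizer ({t} : Set G)) = 8 ∧ Nat.card {g : G // IsConj t g} = 456 := by
  obtain ⟨hP, hN', hC⟩ := o3648_P hG P
  have h1 := o3648_n19 hG
  have hidx : (Subgroup.normalizer ((P : Subgroup G) : Set G)).index = 96 := by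
    rw [← h1]; exact (h8_nsylow_eq_index_normalizer 19 P).symm
  have h2 := Cfsg.Agent.S1019.result (Subgroup.normalizer ((P : Subgroup G) : Set G)) t htN
  rw [hfix, hidx] at h2
  have h3 := Cfsg.Agent.Lib.Helper18.card_isConj_mul_card_centralizer t
  rw [hG] at h3
  set c := Nat.card {g : G // IsConj t g ∧ g ∈ Subgroup.normalizer ((P : Subgroup G) : Set G)}
    with hc
  set k := Nat.card {g : G // IsConj t g} with hk
  set m := Nat.card (Subgroup.centralizer ({t} : Set G)) with hm
  -- c ≤ 37
  have hc37 : c ≤ 37 := by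
    have h4 := h8_card_ne_one_subgroup (Subgroup.normalizer ((P : Subgroup G) : Set G))
    rw [hN'] at h4
    have h5 : c ≤ Nat.card {g : G // g ∈ Subgroup.normalizer ((P : Subgroup G) : Set G) ∧ g ≠ 1} := by
      apply Nat.card_le_card_of_injective
        (fun g : {g : G // IsConj t g ∧ g ∈ Subgroup.normalizer ((P : Subgroup G) : Set G)} =>
          (⟨g.1, g.2.2, fun h => by
            have h6 := g.2.1
            rw [h] at h6
            have h7 : t = 1 := by
              obtain ⟨c, hc⟩ := isConj_iff.mp h6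
              have : t = c⁻¹ * 1 * c := by rw [← hc]; group
              simpa using this
            rw [h7] at ht
            simp at ht⟩ :
            {g : G // g ∈ Subgroup.normalizer ((P : Subgroup G) : Set G) ∧ g ≠ 1}))
      intro a b hab
      apply Subtype.ext
      exact congrArg (fun z => z.1) hab
    omega
  -- 19 does not divide m
  have h19 : ¬ 19 ∣ m := by
    intro hd
    obtain ⟨u', hu'⟩ := exists_prime_orderOf_dvd_card' 19 hd
    have hu : orderOf (u' : G) = 19 := by rw [Subgroup.orderOf_coe]; exact hu'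
    have hcomm : t * (u' : G) = (u' : G) * t := by
      have := Subgroup.mem_centralizer_iff.mp u'.2 t (Set.mem_singleton t)
      exact this
    exact o3648_no38 hG t u' ht hu hcomm
  -- arithmetic
  have h4 : k = 24 * c := by omega
  have h5 : c * m = 152 := by
    rw [h4] at h3
    nlinarith
  have h6 : c ∣ 152 := ⟨m, h5.symm⟩
  have h7 : c ∈ Nat.divisors 152 := Nat.mem_divisors.mpr ⟨h6, by norm_num⟩
  have e : Nat.divisors 152 = {1, 2, 4, 8, 19, 38, 76, 152} := by decide +kernel
  rw [e] at h7
  simp only [Finset.mem_insert, Finset.mem_singleton] at h7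
  rcases h7 with h7 | h7 | h7 | h7 | h7 | h7 | h7 | h7
  · exfalso; rw [h7] at h5; apply h19; rw [show m = 152 by omega]; norm_num
  · exfalso; rw [h7] at h5; apply h19; rw [show m = 76 by omega]; norm_num
  · exfalso; rw [h7] at h5; apply h19; rw [show m = 38 by omega]; norm_num
  · exfalso; rw [h7] at h5; apply h19; rw [show m = 19 by omega]
  · rw [h7] at h5
    constructor
    · omega
    · omega
  · omega
  · omega
  · omega

end Cfsg.Agent.Lib.helper23
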