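import Mathlib
import Cfsg.Agent.Lib.helper23.Ord3648a

set_option autoImplicit false

namespace Cfsg.Agent.Lib.helper23

open Cfsg.Agent.Lib.helper8

variable {G : Type*} [Group G] [Finite G] [IsSimpleGroup G]

/-- in a group with at most two elements, two non-identity elements are equal -/
theorem og_eq_of_card_le_two {D : Type*} [Group D] [Finite D] (h : Nat.card D ≤ 2) (a b : D)
    (ha : a ≠ 1) (hb : b ≠ 1) : a = b := by
  classical
  haveI : Fintype D := Fintype.ofFinite D
  by_contra hab
  have h3 : ({1, a, b} : Finset D).card = 3 := by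
    rw [Finset.card_insert_of_notMem, Finset.card_insert_of_notMem, Finset.card_singleton]
    · simpa using hab
    · simp only [Finset.mem_insert, Finset.mem_singleton]
      push Not
      exact ⟨fun h => ha h.symm, fun h => hb h.symm⟩
  have h4 := Finset.card_le_univ ({1, a, b} : Finset D)
  rw [Nat.card_eq_fintype_card] at h
  omega

omit [IsSimpleGroup G] in
/-- conjugates of an involution lying in a Sylow 2-subgroup: bounded by `|S| - 1` -/
theorem og_card_conj_in_le (t : G) (ht : orderOf t = 2) (H : Subgroup G) :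
    Nat.card {g : G // IsConj t g ∧ g ∈ H} ≤ Nat.card H - 1 := by
  rw [← h8_card_ne_one_subgroup H]
  apply Nat.card_le_card_of_injective
    (fun g : {g : G // IsConj t g ∧ g ∈ H} =>
      (⟨g.1, g.2.2, fun h => by
        have h6 := g.2.1
        rw [h] at h6
        have h7 : t = 1 := by
          obtain ⟨c, hc⟩ := isConj_iff.mp h6
          have : t = c⁻¹ * 1 * c := by rw [← hc]; group
          simpa using this
        rw [h7] at ht
        simp at ht⟩ : {g : G // g ∈ H ∧ g ≠ 1}))
  intro a b hab
  apply Subtype.ext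
  exact congrArg (fun z => z.1) hab

omit [Finite G] [IsSimpleGroup G] in
theorem og_orderOf_of_isConj {t g : G} (h : IsConj t g) : orderOf g = orderOf t := by
  obtain ⟨c, hc⟩ := isConj_iff.mp h
  rw [← hc]
  have := h8_orderOf_conj c⁻¹ t
  simpa using this

theorem o3648_n2 (hG : Nat.card G = 3648) (t : G) (ht : orderOf t = 2)
    (hcl : Nat.card {g : G // IsConj t g} = 456) [Fact (Nat.Prime 2)] (S : Sylow 2 G)
    (htS : t ∈ (S : Subgroup G)) :
    Nat.card (Sylow 2 G) = 57 ∧ Nat.card (S : Subgroup G) = 64 := by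
  have hnc : ¬ IsMulCommutative G := h8_not_comm_of_card (by rw [hG]; norm_num)
  have hG2 : Nat.card G = 2 ^ 6 * 57 := by rw [hG]; norm_num
  have hnd : ¬ 2 ∣ 57 := by norm_num
  have hS : Nat.card (S : Subgroup G) = 64 := by
    have := h8_sylow_card 2 6 57 hG2 hnd S
    simpa using this
  refine ⟨?_, hS⟩
  have h1 := h8_nsylow_mem (G := G) 2 6 57 hG2 hnd
  have e : (Nat.divisors 57).filter (fun d => d % 2 = 1) = {1, 3, 19, 57} := by decide +kernel
  rw [e] at h1
  simp only [Finset.mem_insert, Finset.mem_singleton] at h1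
  have h2 := h8_simple_nsylow_ne_one (G := G) 2 6 57 hG2 hnd (by norm_num) (by norm_num)
  have hidx := h8_nsylow_eq_index_normalizer 2 S
  rcases h1 with h1 | h1 | h1 | h1
  · exact absurd h1 h2
  · exfalso
    have hne : Subgroup.normalizer ((S : Subgroup G) : Set G) ≠ ⊤ := by
      intro h
      rw [h, Subgroup.index_top] at hidx
      omega
    have h3 := h8_simple_two_mul_card_dvd_factorial hnc _ hne
    rw [← hidx, h1, hG] at h3
    norm_num [Nat.factorial] at h3
  · exfalso
    set H := Subgroup.normalizer ((S : Subgroup G) : Set G) with hH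
    have htH : t ∈ H := Subgroup.le_normalizer htS
    have h3 := Cfsg.Agent.S1019.result H t htH
    rw [hcl, ← hidx, h1] at h3
    have h4 : Nat.card {g : G // IsConj t g ∧ g ∈ H} ≤ 63 := by
      have h5 : Nat.card {g : G // IsConj t g ∧ g ∈ H} ≤
          Nat.card {g : G // IsConj t g ∧ g ∈ (S : Subgroup G)} := by
        apply Nat.card_le_card_of_injective
          (fun g : {g : G // IsConj t g ∧ g ∈ H} =>
            (⟨g.1, g.2.1, by
              apply h8_mem_sylow_of_mem_normalizer 2 S g.1 1 _ g.2.2
              rw [og_orderOf_of_isConj g.2.1, ht, pow_one]⟩ :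
              {g : G // IsConj t g ∧ g ∈ (S : Subgroup G)}))
        intro a b hab
        apply Subtype.ext
        exact congrArg (fun z => z.1) hab
      have h6 := og_card_conj_in_le t ht (S : Subgroup G)
      rw [hS] at h6
      omega
    have h7 := h8_simple_involution_fixed (X := G ⧸ H) hnc t (by rw [← ht]; exact pow_orderOf_eq_one _)
    have h8 : Nat.card (G ⧸ H) = 19 := by
      rw [← Subgroup.index_eq_card, ← hidx, h1]
    rw [h8] at h7
    omega
  · exact h1

theorem o3648_stab (hG : Nat.card G = 3648) [Fact (Nat.Prime 19)] (P : Sylow 19 G)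
    (x : G ⧸ Subgroup.normalizer ((P : Subgroup G) : Set G)) :
    Nat.card (MulAction.stabilizer G x) = 38 := by
  have h1 := MulAction.index_stabilizer_of_transitive G x
  have h2 : Nat.card (G ⧸ Subgroup.normalizer ((P : Subgroup G) : Set G)) = 96 := by
    rw [← o3648_n19 hG]; exact P.card_eq_card_quotient_normalizer.symm
  rw [h2] at h1
  have h3 := (MulAction.stabilizer G x).card_mul_index
  rw [h1, hG] at h3
  omega

theorem o3648_k (hG : Nat.card G = 3648) [Fact (Nat.Prime 19)] (P : Sylow 19 G) (t : G)
    (ht : orderOf t = 2)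
    (hfix : Nat.card (MulAction.fixedBy (G ⧸ Subgroup.normalizer ((P : Subgroup G) : Set G)) t) = 4)
    (hcl : Nat.card {g : G // IsConj t g} = 456) [Fact (Nat.Prime 2)] (S : Sylow 2 G)
    (htS : t ∈ (S : Subgroup G)) :
    Nat.card {g : G // IsConj t g ∧ g ∈ (S : Subgroup G)} = 8 := by
  classical
  have hnc : ¬ IsMulCommutative G := h8_not_comm_of_card (by rw [hG]; norm_num)
  have hG2 : Nat.card G = 2 ^ 6 * 57 := by rw [hG]; norm_num
  have hnd : ¬ 2 ∣ 57 := by norm_num
  obtain ⟨hn2, hS⟩ := o3648_n2 hG t ht hcl S htS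
  have hSi : (S : Subgroup G).index = 57 := h8_sylow_index 2 6 57 hG2 hnd S
  have h3 := Cfsg.Agent.S1019.result (S : Subgroup G) t htS
  rw [hcl, hSi] at h3
  have h6 := og_card_conj_in_le t ht (S : Subgroup G)
  rw [hS] at h6
  have h7 := h8_simple_involution_fixed (X := G ⧸ (S : Subgroup G)) hnc t
    (by rw [← ht]; exact pow_orderOf_eq_one _)
  have h8 : Nat.card (G ⧸ (S : Subgroup G)) = 57 := by
    rw [← Subgroup.index_eq_card, hSi]
  rw [h8] at h7
  set k := Nat.card {g : G // IsConj t g ∧ g ∈ (S : Subgroup G)} with hk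
  -- counting on X
  set X := G ⧸ Subgroup.normalizer ((P : Subgroup G) : Set G) with hX
  have hXc : Nat.card X = 96 := by
    rw [← o3648_n19 hG]; exact P.card_eq_card_quotient_normalizer.symm
  haveI : Fintype {g : G // IsConj t g ∧ g ∈ (S : Subgroup G)} := Fintype.ofFinite _
  have hsig : Nat.card (Σ u : {g : G // IsConj t g ∧ g ∈ (S : Subgroup G)},
      MulAction.fixedBy X u.1) = k * 4 := by
    rw [Nat.card_sigma]
    have : ∀ u : {g : G // IsConj t g ∧ g ∈ (S : Subgroup G)},
        Nat.card (MulAction.fixedBy X u.1) = 4 := by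
      intro u
      rw [og_card_fixedBy_of_isConj u.2.1, hfix]
    simp only [this]
    rw [Finset.sum_const, Finset.card_univ, smul_eq_mul, hk, Nat.card_eq_fintype_card]
  have hinj : Function.Injective
      (fun z : (Σ u : {g : G // IsConj t g ∧ g ∈ (S : Subgroup G)}, MulAction.fixedBy X u.1) =>
        (z.2.1 : X)) := by
    rintro ⟨u, x⟩ ⟨u', x'⟩ hxx
    have hxx' : x.1 = x'.1 := hxx
    -- both u, u' in S ⊓ stabilizer
    set D : Subgroup G := (S : Subgroup G) ⊓ MulAction.stabilizer G x.1 with hD
    have huD : u.1 ∈ D := ⟨u.2.2, MulAction.mem_stabilizer_iff.mpr (MulAction.mem_fixedBy.mp x.2)⟩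
    have hu'D : u'.1 ∈ D := by
      refine ⟨u'.2.2, MulAction.mem_stabilizer_iff.mpr ?_⟩
      rw [hxx']
      exact MulAction.mem_fixedBy.mp x'.2
    have hDc : Nat.card D ∣ 2 := by
      have h1 : Nat.card D ∣ 64 := by
        rw [← hS]; exact Subgroup.card_dvd_of_le inf_le_left
      have h2 : Nat.card D ∣ 38 := by
        rw [← o3648_stab hG P x.1]; exact Subgroup.card_dvd_of_le inf_le_right
      have := Nat.dvd_gcd h1 h2
      simpa using this
    have hDle : Nat.card D ≤ 2 := Nat.le_of_dvd (by norm_num) hDc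
    have hu1 : u.1 ≠ 1 := by
      intro h
      have := og_orderOf_of_isConj u.2.1
      rw [h, ht] at this
      simp at this
    have hu'1 : u'.1 ≠ 1 := by
      intro h
      have := og_orderOf_of_isConj u'.2.1
      rw [h, ht] at this
      simp at this
    have huu : u.1 = u'.1 := by
      have := og_eq_of_card_le_two hDle (⟨u.1, huD⟩ : D) ⟨u'.1, hu'D⟩
        (fun h => hu1 (congrArg Subtype.val h)) (fun h => hu'1 (congrArg Subtype.val h))
      exact congrArg (fun z : D => (z : G)) this
    have huu' : u = u' := Subtype.ext huu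
    subst huu'
    have : x = x' := Subtype.ext hxx'
    rw [this]
  have hle := Nat.card_le_card_of_injective _ hinj
  rw [hsig, hXc] at hle
  omega

end Cfsg.Agent.Lib.helper23
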