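import Mathlib
import Cfsg.Agent.Lib.helper23.HallCount

set_option autoImplicit false

namespace Cfsg.Agent.Lib.helper23

open MulAction

section General

variable {S : Type*} [Group S] [Finite S] {p : ℕ} [Fact p.Prime]

/-- a simple group with more than one Sylow `p`-subgroup acts faithfully on them -/
theorem s35_faithful [IsSimpleGroup S] (hn : Nat.card (Sylow p S) ≠ 1) (g : S)
    (hg : ∀ Q : Sylow p S, g • Q = Q) : g = 1 := by
  have hK : ((MulAction.toPermHom S (Sylow p S)).ker).Normal := inferInstance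
  rcases hK.eq_bot_or_eq_top with h | h
  · have hgK : g ∈ (MulAction.toPermHom S (Sylow p S)).ker := by
      rw [MonoidHom.mem_ker]
      ext Q
      simp [hg Q]
    rw [h] at hgK
    exact Subgroup.mem_bot.mp hgK
  · exfalso
    apply hn
    have hsub : Subsingleton (Sylow p S) := ⟨fun P Q => by
      obtain ⟨x, rfl⟩ := MulAction.exists_smul_eq S P Q
      have hx : x ∈ (MulAction.toPermHom S (Sylow p S)).ker := h ▸ Subgroup.mem_top x
      rw [MonoidHom.mem_ker] at hx
      have := congrArg (fun σ : Equiv.Perm (Sylow p S) => σ P) hx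
      simpa using this.symm⟩
    have : Nonempty (Sylow p S) := ⟨default⟩
    exact Nat.card_eq_one_iff_unique.mpr ⟨hsub, this⟩

/-- a `P`-invariant set of Sylow subgroups containing `P` has size `1` mod `p` -/
theorem s35_card_invariant (P : Sylow p S) (F : Set (Sylow p S)) (hPF : P ∈ F)
    (hF : ∀ x ∈ (P : Subgroup S), ∀ Q ∈ F, x • Q ∈ F) : Nat.card F ≡ 1 [MOD p] := by
  let _ : MulAction (P : Subgroup S) F :=
    { smul := fun x Q => ⟨(x : S) • Q.1, hF x x.2 Q.1 Q.2⟩
      one_smul := fun Q => by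
        apply Subtype.ext
        show ((1 : (P : Subgroup S)) : S) • Q.1 = Q.1
        simp
      mul_smul := fun x y Q => by
        apply Subtype.ext
        show ((x * y : (P : Subgroup S)) : S) • Q.1 = (x : S) • ((y : S) • Q.1)
        rw [Subgroup.coe_mul, mul_smul] }
  have hsmul : ∀ (x : (P : Subgroup S)) (Q : F), ((x • Q : F) : Sylow p S) = (x : S) • Q.1 :=
    fun _ _ => rfl
  have h := P.2.card_modEq_card_fixedPoints F
  have h1 : Nat.card (MulAction.fixedPoints (P : Subgroup S) F) = 1 := by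
    rw [Nat.card_eq_one_iff_unique]
    refine ⟨⟨fun a b => ?_⟩, ⟨⟨⟨P, hPF⟩, ?_⟩⟩⟩
    · have key : ∀ a : MulAction.fixedPoints (P : Subgroup S) F, a.1.1 = P := by
        intro a
        have ha : a.1.1 ∈ MulAction.fixedPoints (P : Subgroup S) (Sylow p S) := by
          intro x
          have := congrArg Subtype.val (a.2 x)
          rw [hsmul] at this
          exact this
        rw [P.2.sylow_mem_fixedPoints_iff] at ha
        exact Sylow.ext (P.3 a.1.1.2 ha)
      apply Subtype.ext
      apply Subtype.ext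
      rw [key a, key b]
    · intro x
      apply Subtype.ext
      rw [hsmul]
      show (x : S) • P = P
      rw [Sylow.smul_eq_iff_mem_normalizer]
      exact Subgroup.le_normalizer x.2
  rw [h1] at h
  exact h

/-- the fixed point set of an element centralizing `P` is `P`-invariant -/
theorem s35_fixedBy_invariant (P : Sylow p S) (c : S)
    (hc : c ∈ Subgroup.centralizer ((P : Subgroup S) : Set S)) :
    ∀ x ∈ (P : Subgroup S), ∀ Q ∈ MulAction.fixedBy (Sylow p S) c,
      x • Q ∈ MulAction.fixedBy (Sylow p S) c := by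
  intro x hx Q hQ
  rw [MulAction.mem_fixedBy] at hQ ⊢
  rw [← mul_smul, ← (Subgroup.mem_centralizer_iff.mp hc) x hx, mul_smul, hQ]

/-- fixed points of a `q`-element -/
theorem s35_card_fixedBy_modEq {α : Type*} [MulAction S α] [Finite α] {q : ℕ} [Fact q.Prime]
    (g : S) (hg : IsPGroup q (Subgroup.zpowers g)) :
    Nat.card α ≡ Nat.card (MulAction.fixedBy α g) [MOD q] := by
  have h := hg.card_modEq_card_fixedPoints α
  have e : MulAction.fixedPoints (Subgroup.zpowers g) α = MulAction.fixedBy α g := by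
    ext a
    constructor
    · intro ha
      exact ha ⟨g, Subgroup.mem_zpowers g⟩
    · intro ha x
      obtain ⟨x, hx⟩ := x
      obtain ⟨j, rfl⟩ := Subgroup.mem_zpowers_iff.mp hx
      exact MulAction.mem_fixedBy_zpow ha j
  rw [e] at h
  exact h

end General

section Main

variable {S : Type*} [Group S] [Finite S]

theorem s35_cases (hn : Nat.card (Sylow 17 S) = 35) (P : Sylow 17 S)
    (F : Set (Sylow 17 S)) (hPF : P ∈ F)
    (hF : ∀ x ∈ (P : Subgroup S), ∀ Q ∈ F, x • Q ∈ F) :
    Nat.card F = 1 ∨ Nat.card F = 18 ∨ Nat.card F = 35 := by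
  have : Fact (Nat.Prime 17) := ⟨by norm_num⟩
  have h1 := s35_card_invariant P F hPF hF
  have h2 : Nat.card F ≤ 35 := hn ▸ Finite.card_subtype_le _
  have : Nonempty F := ⟨⟨P, hPF⟩⟩
  have h3 : 0 < Nat.card F := Nat.card_pos
  unfold Nat.ModEq at h1
  omega

theorem s35_eq_univ (hn : Nat.card (Sylow 17 S) = 35) (F : Set (Sylow 17 S))
    (h : Nat.card F = 35) (R : Sylow 17 S) : R ∈ F := by
  have h1 : F.ncard = (Set.univ : Set (Sylow 17 S)).ncard := by
    rw [Set.ncard_univ, hn, ← Nat.card_coe_set_eq, h]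
  have h2 := Set.eq_of_subset_of_ncard_le (Set.subset_univ F) h1.ge (Set.toFinite _)
  rw [h2]
  exact Set.mem_univ R

theorem s35_divisors_289 {n : ℕ} (h : n ∣ 289) : n = 1 ∨ n = 17 ∨ n = 289 := by
  have h1 : n ∈ Nat.divisors 289 := Nat.mem_divisors.mpr ⟨h, by norm_num⟩
  have h2 : Nat.divisors 289 = {1, 17, 289} := by decide
  rw [h2] at h1
  simpa using h1

theorem s35_inter_card (hn : Nat.card (Sylow 17 S) = 35)
    (hk : ∀ P : Sylow 17 S, Nat.card (P : Subgroup S) = 289)
    (P Q : Sylow 17 S) (hPQ : P ≠ Q) :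
    Nat.card ((P : Subgroup S) ⊓ Q : Subgroup S) = 17 := by
  have : Fact (Nat.Prime 17) := ⟨by norm_num⟩
  have h1 := MulAction.index_stabilizer (P : Subgroup S) Q
  have h2 : (orbit (P : Subgroup S) Q).ncard ≤ 35 := hn ▸ Set.ncard_le_card _
  have h3 : stabilizer (P : Subgroup S) Q = (Q : Subgroup S).subgroupOf P := by
    ext x
    rw [mem_stabilizer_iff, Subgroup.mem_subgroupOf, Subgroup.smul_def,
      Sylow.smul_eq_iff_mem_normalizer]
    constructor
    · intro hx
      have hx' : (x : S) ∈ (P : Subgroup S) ⊓ Subgroup.normalizer (Q : Set S) := ⟨x.2, hx⟩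
      rw [P.2.inf_normalizer_sylow Q] at hx'
      exact hx'.2
    · intro hx
      exact Subgroup.le_normalizer hx
  have h4 : Nat.card ((Q : Subgroup S).subgroupOf P) =
      Nat.card ((P : Subgroup S) ⊓ Q : Subgroup S) := by
    rw [← Subgroup.inf_subgroupOf_left]
    exact Nat.card_congr (Subgroup.subgroupOfEquivOfLe inf_le_left).toEquiv
  have h5 := Subgroup.card_mul_index (stabilizer (P : Subgroup S) Q)
  rw [h1, h3, h4, hk P] at h5
  have h6 : Nat.card ((P : Subgroup S) ⊓ Q : Subgroup S) ∣ 289 := Dvd.intro _ h5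
  rcases s35_divisors_289 h6 with h7 | h7 | h7
  · rw [h7] at h5
    omega
  · exact h7
  · exfalso
    have h8 : (P : Subgroup S) ⊓ Q = P :=
      Subgroup.eq_of_le_of_card_ge inf_le_left (by rw [h7, hk P])
    have h9 : (P : Subgroup S) ≤ Q := inf_eq_left.mp h8
    exact hPQ (Sylow.ext (P.3 Q.2 h9)).symm

end Main

end Cfsg.Agent.Lib.helper23
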