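import Mathlib
import Cfsg.Agent.Lib.helper23.Ord3648b
import Cfsg.Agent.Lib.helper23.Syl35a

set_option autoImplicit false

namespace Cfsg.Agent.Lib.helper23

open Cfsg.Agent.Lib.helper8

/-- an element of `H` fixes the base coset of `G ⧸ H` -/
theorem og2_base_fixed {G : Type*} [Group G] (H : Subgroup G) (g : G) (hg : g ∈ H) :
    g • ((1 : G) : G ⧸ H) = ((1 : G) : G ⧸ H) := by
  rw [MulAction.Quotient.smul_mk, QuotientGroup.eq, smul_eq_mul]
  simpa using hg

/-- in a simple group, only the identity acts trivially on the cosets of a proper subgroup -/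
theorem og2_eq_one_of_fixes_all {G : Type*} [Group G] [IsSimpleGroup G] (H : Subgroup G)
    (hH : H ≠ ⊤) (c : G) (hc : ∀ x : G ⧸ H, c • x = x) : c = 1 := by
  have hK : ((MulAction.toPermHom G (G ⧸ H)).ker).Normal := inferInstance
  rcases hK.eq_bot_or_eq_top with h | h
  · have hcK : c ∈ (MulAction.toPermHom G (G ⧸ H)).ker := by
      rw [MonoidHom.mem_ker]
      ext x
      simp [hc x]
    rw [h] at hcK
    exact Subgroup.mem_bot.mp hcK
  · exfalso
    apply hH
    rw [eq_top_iff]
    intro g _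
    have hg : g ∈ (MulAction.toPermHom G (G ⧸ H)).ker := h ▸ Subgroup.mem_top g
    rw [MonoidHom.mem_ker] at hg
    have h1 := congrArg (fun σ : Equiv.Perm (G ⧸ H) => σ ((1 : G) : G ⧸ H)) hg
    simp only [MulAction.toPermHom_apply, MulAction.toPerm_apply, Equiv.Perm.coe_one, id_eq] at h1
    rw [MulAction.Quotient.smul_mk, QuotientGroup.eq, smul_eq_mul] at h1
    simpa using h1

theorem og2_eq_one_of_card_fixedBy {G : Type*} [Group G] [Finite G] [IsSimpleGroup G]
    (H : Subgroup G) (hH : H ≠ ⊤) (c : G)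
    (hc : Nat.card (MulAction.fixedBy (G ⧸ H) c) = Nat.card (G ⧸ H)) : c = 1 := by
  apply og2_eq_one_of_fixes_all H hH
  intro x
  have h1 : Function.Injective (fun a : MulAction.fixedBy (G ⧸ H) c => (a : G ⧸ H)) :=
    Subtype.val_injective
  have h2 := h1.bijective_of_nat_card_le (le_of_eq hc.symm)
  obtain ⟨a, ha⟩ := h2.2 x
  have ha' : a.1 = x := ha
  rw [← ha']
  exact a.2

/-- fixed points of `c` modulo `p` can be counted inside the fixed points of a commuting
`p`-element -/
theorem og2_card_fixedBy_modEq_of_commute {G X : Type*} [Group G] [MulAction G X] [Finite X]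
    {p : ℕ} [Fact p.Prime] (c y : G) (hcy : Commute c y) (hy : IsPGroup p (Subgroup.zpowers y)) :
    Nat.card (MulAction.fixedBy X c) ≡ Nat.card {x : X // c • x = x ∧ y • x = x} [MOD p] := by
  have hinv : ∀ z ∈ Subgroup.zpowers y, ∀ x ∈ MulAction.fixedBy X c,
      z • x ∈ MulAction.fixedBy X c := by
    intro z hz x hx
    obtain ⟨j, rfl⟩ := Subgroup.mem_zpowers_iff.mp hz
    rw [MulAction.mem_fixedBy] at hx ⊢
    rw [← mul_smul, (hcy.zpow_right j).eq, mul_smul, hx]
  let _ : MulAction (Subgroup.zpowers y) (MulAction.fixedBy X c) :=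
    { smul := fun z x => ⟨(z : G) • x.1, hinv z z.2 x.1 x.2⟩
      one_smul := fun x => by
        apply Subtype.ext
        show ((1 : Subgroup.zpowers y) : G) • x.1 = x.1
        simp
      mul_smul := fun a b x => by
        apply Subtype.ext
        show ((a * b : Subgroup.zpowers y) : G) • x.1 = (a : G) • ((b : G) • x.1)
        rw [Subgroup.coe_mul, mul_smul] }
  have hsmul : ∀ (z : Subgroup.zpowers y) (x : MulAction.fixedBy X c),
      ((z • x : MulAction.fixedBy X c) : X) = (z : G) • x.1 := fun _ _ => rfl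
  have h := hy.card_modEq_card_fixedPoints (MulAction.fixedBy X c)
  have e : Nat.card (MulAction.fixedPoints (Subgroup.zpowers y) (MulAction.fixedBy X c)) =
      Nat.card {x : X // c • x = x ∧ y • x = x} := by
    apply Nat.card_congr
    refine ⟨fun a => ⟨a.1.1, a.1.2, ?_⟩, fun a => ⟨⟨a.1, a.2.1⟩, ?_⟩, ?_, ?_⟩
    · have := congrArg Subtype.val (a.2 ⟨y, Subgroup.mem_zpowers y⟩)
      rw [hsmul] at this
      exact this
    · intro z
      apply Subtype.ext
      rw [hsmul]
      obtain ⟨z, hz⟩ := z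
      obtain ⟨j, rfl⟩ := Subgroup.mem_zpowers_iff.mp hz
      have h2 : a.1 ∈ MulAction.fixedBy X y := a.2.2
      exact MulAction.mem_fixedBy_zpow h2 j
    · intro a
      rfl
    · intro a
      rfl
  rw [e] at h
  exact h

/-- an element centralizing a Sylow subgroup of prime order fixes `1 mod p` Sylow subgroups -/
theorem og2_card_fixedBy_modEq_one {G : Type*} [Group G] [Finite G] (p : ℕ) [hp : Fact p.Prime]
    (P : Sylow p G) (hP : Nat.card ↥(P : Subgroup G) = p) (c : G)
    (hc : c ∈ Subgroup.centralizer ((P : Subgroup G) : Set G)) :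
    Nat.card (MulAction.fixedBy (G ⧸ Subgroup.normalizer ((P : Subgroup G) : Set G)) c)
      ≡ 1 [MOD p] := by
  have hdvd : p ∣ Nat.card (P : Subgroup G) := by rw [hP]
  obtain ⟨y', hy'⟩ := exists_prime_orderOf_dvd_card' p hdvd
  have hy : orderOf (y' : G) = p := by rw [Subgroup.orderOf_coe]; exact hy'
  have hcy : Commute c (y' : G) := (Subgroup.mem_centralizer_iff.mp hc (y' : G) y'.2).symm
  have hyp : IsPGroup p (Subgroup.zpowers (y' : G)) := by
    apply IsPGroup.of_card (n := 1)
    rw [Nat.card_zpowers, hy, pow_one]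
  have h := og2_card_fixedBy_modEq_of_commute
    (X := G ⧸ Subgroup.normalizer ((P : Subgroup G) : Set G)) c (y' : G) hcy hyp
  have h1 : Nat.card {x : G ⧸ Subgroup.normalizer ((P : Subgroup G) : Set G) //
      c • x = x ∧ (y' : G) • x = x} = 1 := by
    rw [Nat.card_eq_one_iff_unique]
    have ha := Cfsg.Agent.S1018.part_a p P hP (y' : G) hy
    rw [Nat.card_eq_one_iff_unique] at ha
    obtain ⟨hs, -⟩ := ha
    refine ⟨⟨fun a b => ?_⟩, ⟨⟨((1 : G) : G ⧸ _), ?_, ?_⟩⟩⟩
    · apply Subtype.ext
      have := hs.elim (⟨a.1, a.2.2⟩ : MulAction.fixedBy _ (y' : G)) ⟨b.1, b.2.2⟩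
      have h2 := congrArg Subtype.val this
      exact h2
    · exact og2_base_fixed _ c (Subgroup.centralizer_le_normalizer _ hc)
    · exact og2_base_fixed _ (y' : G) (Subgroup.le_normalizer y'.2)
  rw [h1] at h
  exact h

/-- contrapositive of S1018 (b) -/
theorem og2_mem_centralizer_of_lt {G : Type*} [Group G] [Finite G] (p : ℕ) [hp : Fact p.Prime]
    (P : Sylow p G) (hP : Nat.card ↥(P : Subgroup G) = p) (x : G)
    (hxN : x ∈ Subgroup.normalizer ((P : Subgroup G) : Set G))
    (hlt : Nat.card (MulAction.orbitRel.Quotient ↥(P : Subgroup G)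
        (G ⧸ Subgroup.normalizer ((P : Subgroup G) : Set G))) <
      Nat.card (MulAction.fixedBy (G ⧸ Subgroup.normalizer ((P : Subgroup G) : Set G)) x)) :
    x ∈ Subgroup.centralizer ((P : Subgroup G) : Set G) := by
  by_contra h
  exact absurd (Cfsg.Agent.S1018.part_b p P hP x hxN h) (not_le.mpr hlt)

/-- counting conjugates of an involution inside a group with a central subgroup of odd order -/
theorem og2_invol_count {G : Type*} [Group G] [Finite G] (p : ℕ) (hp : Odd p) (P D : Subgroup G)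
    (hP : Nat.card P = p) (hPD : P ≤ D) (hcent : ∀ d ∈ D, ∀ u ∈ P, d * u = u * d) (c : G)
    (hc : orderOf c = 2) :
    p * Nat.card {g : G // IsConj c g ∧ g ∈ D} + p ≤ Nat.card D := by
  classical
  let f : ({g : G // IsConj c g ∧ g ∈ D} × P) ⊕ P → D :=
    Sum.elim (fun z => ⟨z.1.1 * z.2.1, D.mul_mem z.1.2.2 (hPD z.2.2)⟩) (fun u => ⟨u.1, hPD u.2⟩)
  have hw2 : ∀ w : {g : G // IsConj c g ∧ g ∈ D}, w.1 ^ 2 = 1 := by
    intro w
    rw [← hc, ← og_orderOf_of_isConj w.2.1]
    exact pow_orderOf_eq_one _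
  have hup : ∀ u : P, u.1 ^ p = 1 := by
    intro u
    have h1 : u ^ Nat.card P = 1 := pow_card_eq_one'
    rw [hP] at h1
    have := congrArg Subtype.val h1
    simpa using this
  have hpow : ∀ (w : {g : G // IsConj c g ∧ g ∈ D}) (u : P), (w.1 * u.1) ^ p = w.1 := by
    intro w u
    have hcm : Commute w.1 u.1 := hcent w.1 w.2.2 u.1 u.2
    rw [hcm.mul_pow, hup, mul_one]
    obtain ⟨k, hk⟩ := hp
    rw [hk, pow_succ, pow_mul, hw2, one_pow, one_mul]
  have hnotP : ∀ w : {g : G // IsConj c g ∧ g ∈ D}, w.1 ∉ P := by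
    intro w hwP
    have := Subgroup.orderOf_dvd_natCard _ hwP
    rw [og_orderOf_of_isConj w.2.1, hc, hP] at this
    obtain ⟨k, hk⟩ := hp
    omega
  have hinj : Function.Injective f := by
    rintro (⟨w, u⟩ | u) (⟨w', u'⟩ | u') h
    · have h' : w.1 * u.1 = w'.1 * u'.1 := congrArg Subtype.val h
      have hw : w.1 = w'.1 := by rw [← hpow w u, h', hpow]
      have hu : u.1 = u'.1 := by rw [hw] at h'; exact mul_left_cancel h'
      have hw' : w = w' := Subtype.ext hw
      have hu' : u = u' := Subtype.ext hu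
      rw [hw', hu']
    · exfalso
      have h' : w.1 * u.1 = u'.1 := congrArg Subtype.val h
      apply hnotP w
      have : w.1 = u'.1 * u.1⁻¹ := by rw [← h']; group
      rw [this]
      exact P.mul_mem u'.2 (P.inv_mem u.2)
    · exfalso
      have h' : u.1 = w'.1 * u'.1 := congrArg Subtype.val h
      apply hnotP w'
      have : w'.1 = u.1 * u'.1⁻¹ := by rw [h']; group
      rw [this]
      exact P.mul_mem u.2 (P.inv_mem u'.2)
    · have h2 := congrArg Subtype.val h
      have h' : u.1 = u'.1 := h2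
      have hu' : u = u' := Subtype.ext h'
      rw [hu']
  have hle := Nat.card_le_card_of_injective f hinj
  rw [Nat.card_sum, Nat.card_prod, hP] at hle
  linarith [mul_comm (Nat.card {g : G // IsConj c g ∧ g ∈ D}) p]

end Cfsg.Agent.Lib.helper23
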