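import Mathlib
import Cfsg.Agent.Lib.helper23.OrdGen2

set_option autoImplicit false

namespace Cfsg.Agent.Lib.helper23

open Cfsg.Agent.Lib.helper8

theorem og3_sylow_data {G : Type*} [Group G] [Finite G] [IsSimpleGroup G] (p m : ℕ)
    [hp : Fact p.Prime] (hG : Nat.card G = p ^ 1 * m) (hnd : ¬ p ∣ m) (hm1 : 1 < m)
    (P : Sylow p G) :
    Nat.card (P : Subgroup G) = p ∧
    Nat.card (Subgroup.normalizer ((P : Subgroup G) : Set G)) * Nat.card (Sylow p G) =
      Nat.card G ∧
    Nat.card (G ⧸ Subgroup.normalizer ((P : Subgroup G) : Set G)) = Nat.card (Sylow p G) ∧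
    ∃ r, r ∣ p - 1 ∧ r ≠ 1 ∧
      Nat.card (Subgroup.centralizer ((P : Subgroup G) : Set G)) * r =
        Nat.card (Subgroup.normalizer ((P : Subgroup G) : Set G)) := by
  have hP : Nat.card (P : Subgroup G) = p := by
    have := h8_sylow_card p 1 m hG hnd P
    simpa using this
  refine ⟨hP, h8_card_normalizer_sylow p P, P.card_eq_card_quotient_normalizer.symm,
    (Subgroup.centralizer ((P : Subgroup G) : Set G)).relIndex
      (Subgroup.normalizer ((P : Subgroup G) : Set G)),
    h8_relIndex_centralizer_normalizer_dvd_prime p hp.out (P : Subgroup G) hP, ?_,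
    h8_card_centralizer_mul_relIndex (P : Subgroup G)⟩
  intro h7
  exact absurd (h8_normalizer_le_centralizer_of_relIndex _ h7)
    (h8_simple_not_normalizer_le_centralizer p 1 m hG hnd (by norm_num) hm1 P)

theorem og3_invol_package {G : Type*} [Group G] [Finite G] [IsSimpleGroup G]
    (hnc : ¬ IsMulCommutative G) (p : ℕ) [hp : Fact p.Prime] (hodd : Odd p)
    (P : Sylow p G) (hP : Nat.card (P : Subgroup G) = p)
    (h2 : 2 ∣ Nat.card (Subgroup.centralizer ((P : Subgroup G) : Set G)))
    (hn1 : Nat.card (Sylow p G) ≠ 1) :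
    ∃ c : G, c ∈ Subgroup.centralizer ((P : Subgroup G) : Set G) ∧ orderOf c = 2 ∧
      ∃ f : ℕ,
        f = Nat.card (MulAction.fixedBy
          (G ⧸ Subgroup.normalizer ((P : Subgroup G) : Set G)) c) ∧
        f ≡ 1 [MOD p] ∧ 4 ∣ Nat.card (Sylow p G) - f ∧ f < Nat.card (Sylow p G) ∧
        (Nat.card (MulAction.orbitRel.Quotient ↥(P : Subgroup G)
            (G ⧸ Subgroup.normalizer ((P : Subgroup G) : Set G))) < f →
          ∃ m' : ℕ, 1 ≤ m' ∧
            p * m' + p ≤ Nat.card (Subgroup.centralizer ((P : Subgroup G) : Set G)) ∧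
            f * Nat.card {g : G // IsConj c g} = Nat.card (Sylow p G) * m') := by
  set N := Subgroup.normalizer ((P : Subgroup G) : Set G) with hN
  set C := Subgroup.centralizer ((P : Subgroup G) : Set G) with hC
  have hXc : Nat.card (G ⧸ N) = Nat.card (Sylow p G) :=
    P.card_eq_card_quotient_normalizer.symm
  have hidx : N.index = Nat.card (Sylow p G) := (h8_nsylow_eq_index_normalizer p P).symm
  have hNtop : N ≠ ⊤ := by
    intro h
    rw [h, Subgroup.index_top] at hidx
    exact hn1 hidx.symm
  obtain ⟨c', hc'⟩ := exists_prime_orderOf_dvd_card' 2 h2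
  have hc2 : orderOf (c' : G) = 2 := by rw [Subgroup.orderOf_coe]; exact hc'
  have hcN : (c' : G) ∈ N := Subgroup.centralizer_le_normalizer _ c'.2
  refine ⟨c', c'.2, hc2, _, rfl, og2_card_fixedBy_modEq_one p P hP c' c'.2, ?_, ?_, ?_⟩
  · have := h8_simple_involution_fixed (X := G ⧸ N) hnc (c' : G)
      (by rw [← hc2]; exact pow_orderOf_eq_one _)
    rwa [hXc] at this
  · have hle : Nat.card (MulAction.fixedBy (G ⧸ N) (c' : G)) ≤ Nat.card (G ⧸ N) :=
      Finite.card_subtype_le _
    rcases lt_or_eq_of_le hle with h | h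
    · rwa [hXc] at h
    · exfalso
      have := og2_eq_one_of_card_fixedBy N hNtop (c' : G) h
      rw [this] at hc2
      simp at hc2
  · intro hlt
    refine ⟨Nat.card {g : G // IsConj (c' : G) g ∧ g ∈ N}, ?_, ?_, ?_⟩
    · apply Nat.card_pos_iff.mpr
      exact ⟨⟨⟨c', IsConj.refl _, hcN⟩⟩, inferInstance⟩
    · have hPC : (P : Subgroup G) ≤ C := by
        haveI : IsCyclic (P : Subgroup G) := isCyclic_of_prime_card hP
        exact Subgroup.le_centralizer_iff_isMulCommutative.mpr inferInstance
      have hcent : ∀ d ∈ C, ∀ u ∈ (P : Subgroup G), d * u = u * d := by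
        intro d hd u hu
        exact ((Subgroup.mem_centralizer_iff.mp hd) u hu).symm
      have h3 := og2_invol_count p hodd (P : Subgroup G) C hP hPC hcent (c' : G) hc2
      have h4 : Nat.card {g : G // IsConj (c' : G) g ∧ g ∈ N} ≤
          Nat.card {g : G // IsConj (c' : G) g ∧ g ∈ C} := by
        apply Nat.card_le_card_of_injective
          (fun g : {g : G // IsConj (c' : G) g ∧ g ∈ N} =>
            (⟨g.1, g.2.1, by
              apply og2_mem_centralizer_of_lt p P hP g.1 g.2.2
              rw [og_card_fixedBy_of_isConj g.2.1]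
              exact hlt⟩ : {g : G // IsConj (c' : G) g ∧ g ∈ C}))
        intro a b hab
        apply Subtype.ext
        exact congrArg (fun z => z.1) hab
      have h5 := Nat.mul_le_mul_left p h4
      linarith
    · have := Cfsg.Agent.S1019.result N (c' : G) hcN
      rw [hidx] at this
      exact this

end Cfsg.Agent.Lib.helper23
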