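import Mathlib
import Cfsg.Agent.Lib.helper23.P4S.DefsC

set_option autoImplicit false

/-!
# Project P4C (designer helper23), row SL1 (`sl2_diag`), verbatim from `helper23/P4S/SkelC.lean.txt`.
-/

namespace Cfsg.Agent.Lib.helper23.P4S

open Matrix Polynomial

theorem p4csl1_conj {K : Type*} [Field K] (A' P D : Matrix (Fin 2) (Fin 2) K) (hP : IsUnit P.det)
    (h : A' * P = P * D) : A' = P * D * P⁻¹ := by
  rw [← h, Matrix.mul_assoc, Matrix.mul_nonsing_inv P hP, Matrix.mul_one]

theorem p4csl1_diag {K : Type*} [Field K] (x y : K) :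
    Matrix.diagonal ![x, y] = !![x, 0; 0, y] := by
  ext i j
  fin_cases i <;> fin_cases j <;> simp

/-- the matrix version over `K` -/
theorem p4csl1_core {K : Type*} [Field K] [IsAlgClosed K] (a b0 c d : K) (hdet : a * d - b0 * c = 1)
    (htr : (a + d) ^ 2 ≠ 4) :
    ∃ (b : K) (P : Matrix (Fin 2) (Fin 2) K), b ≠ 0 ∧ b * b ≠ 1 ∧ b + b⁻¹ = a + d ∧
      IsUnit P.det ∧ !![a, b0; c, d] = P * Matrix.diagonal ![b, b⁻¹] * P⁻¹ := by
  -- a root of `X^2 - t X + 1`
  obtain ⟨β, hβ⟩ : ∃ β : K, β ^ 2 - (a + d) * β + 1 = 0 := by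
    have hdeg : (X ^ 2 - C (a + d) * X + 1 : K[X]).degree ≠ 0 := by
      have h1 : (X ^ 2 - C (a + d) * X + 1 : K[X]) = C 1 * X ^ 2 + C (-(a + d)) * X + C 1 := by
        rw [C_neg, C_1]; ring
      rw [h1, degree_quadratic one_ne_zero]
      norm_num
    obtain ⟨β, hβ⟩ := IsAlgClosed.exists_root _ hdeg
    refine ⟨β, ?_⟩
    simpa [IsRoot.def] using hβ
  have hβ0 : β ≠ 0 := by
    intro h
    rw [h] at hβ
    simp at hβ
  have hinv : β⁻¹ = a + d - β := by
    apply inv_eq_of_mul_eq_one_right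
    linear_combination -hβ
  have hne : β * β ≠ 1 := by
    intro h
    apply htr
    have h1 : (a + d) * β = 2 := by linear_combination -hβ + h
    have h2 : a + d = 2 * β := by
      have : (a + d) * (β * β) = 2 * β := by rw [← mul_assoc, h1]
      rwa [h, mul_one] at this
    rw [h2]
    linear_combination 4 * h
  have hne' : β⁻¹ - β ≠ 0 := by
    intro h
    apply hne
    have h1 : β⁻¹ = β := sub_eq_zero.1 h
    calc β * β = β * β⁻¹ := by rw [h1]
      _ = 1 := mul_inv_cancel₀ hβ0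
  have hβ' : β⁻¹ ^ 2 - (a + d) * β⁻¹ + 1 = 0 := by
    rw [hinv]
    linear_combination hβ
  have hsum : β + β⁻¹ = a + d := by rw [hinv]; ring
  by_cases hb0 : b0 = 0
  · by_cases hc : c = 0
    · -- diagonal matrix
      subst hb0 hc
      have had : a * d = 1 := by linear_combination hdet
      have hfac : (β - a) * (β - d) = 0 := by linear_combination hβ + had
      rcases mul_eq_zero.1 hfac with h | h
      · have hβa : β = a := sub_eq_zero.1 h
        have hd : β⁻¹ = d := by rw [hinv, hβa]; ring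
        refine ⟨β, 1, hβ0, hne, hsum, by simp, ?_⟩
        rw [inv_one, Matrix.mul_one, Matrix.one_mul, p4csl1_diag, hd, hβa]
      · have hβd : β = d := sub_eq_zero.1 h
        have ha : β⁻¹ = a := by rw [hinv, hβd]; ring
        refine ⟨β, !![0, 1; 1, 0], hβ0, hne, hsum, ?_, ?_⟩
        · rw [Matrix.det_fin_two_of]; norm_num
        · apply p4csl1_conj
          · rw [Matrix.det_fin_two_of]; norm_num
          · rw [p4csl1_diag, ha, hβd]
            ext i j
            fin_cases i <;> fin_cases j <;> simp [Matrix.mul_apply, Fin.sum_univ_two]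
    · -- `c ≠ 0`: eigenvectors `(λ - d, c)`
      have hPdet : (!![β - d, β⁻¹ - d; c, c] : Matrix (Fin 2) (Fin 2) K).det ≠ 0 := by
        rw [Matrix.det_fin_two_of]
        have : (β - d) * c - (β⁻¹ - d) * c = -(c * (β⁻¹ - β)) := by ring
        rw [this]
        exact neg_ne_zero.2 (mul_ne_zero hc hne')
      refine ⟨β, !![β - d, β⁻¹ - d; c, c], hβ0, hne, hsum, isUnit_iff_ne_zero.2 hPdet, ?_⟩
      apply p4csl1_conj _ _ _ (isUnit_iff_ne_zero.2 hPdet)
      rw [p4csl1_diag]
      ext i j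
      fin_cases i <;> fin_cases j <;> simp [Matrix.mul_apply, Fin.sum_univ_two]
      · linear_combination -hβ - hdet
      · linear_combination -hβ' - hdet
      · ring
      · ring
  · -- `b0 ≠ 0`: eigenvectors `(b0, λ - a)`
    have hPdet : (!![b0, b0; β - a, β⁻¹ - a] : Matrix (Fin 2) (Fin 2) K).det ≠ 0 := by
      rw [Matrix.det_fin_two_of]
      have : b0 * (β⁻¹ - a) - b0 * (β - a) = b0 * (β⁻¹ - β) := by ring
      rw [this]
      exact mul_ne_zero hb0 hne'
    refine ⟨β, !![b0, b0; β - a, β⁻¹ - a], hβ0, hne, hsum, isUnit_iff_ne_zero.2 hPdet, ?_⟩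
    apply p4csl1_conj _ _ _ (isUnit_iff_ne_zero.2 hPdet)
    rw [p4csl1_diag]
    ext i j
    fin_cases i <;> fin_cases j <;> simp [Matrix.mul_apply, Fin.sum_univ_two]
    · ring
    · ring
    · linear_combination -hβ - hdet
    · linear_combination -hβ' - hdet

/-- SL1 -/
theorem sl2_diag {E K : Type} [Field E] [Field K] [Algebra E K] [IsAlgClosed K]
    (A : Matrix (Fin 2) (Fin 2) E) (hdet : A.det = 1) (htr : A.trace ^ 2 ≠ 4) :
    ∃ (b : K) (P : Matrix (Fin 2) (Fin 2) K), b ≠ 0 ∧ b * b ≠ 1 ∧ b + b⁻¹ = algebraMap E K A.trace ∧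
      IsUnit P.det ∧ A.map (algebraMap E K) = P * Matrix.diagonal ![b, b⁻¹] * P⁻¹ := by
  have hA : A.map (algebraMap E K) =
      !![algebraMap E K (A 0 0), algebraMap E K (A 0 1); algebraMap E K (A 1 0), algebraMap E K (A 1 1)] := by
    ext i j
    fin_cases i <;> fin_cases j <;> simp
  have hd : algebraMap E K (A 0 0) * algebraMap E K (A 1 1) - algebraMap E K (A 0 1) * algebraMap E K (A 1 0) = 1 := by
    rw [← map_mul, ← map_mul, ← map_sub, ← Matrix.det_fin_two, hdet, map_one]
  have ht : algebraMap E K A.trace = algebraMap E K (A 0 0) + algebraMap E K (A 1 1) := by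
    rw [Matrix.trace_fin_two, map_add]
  have htr' : (algebraMap E K (A 0 0) + algebraMap E K (A 1 1)) ^ 2 ≠ 4 := by
    intro h
    apply htr
    apply (algebraMap E K).injective
    rw [map_pow, ht, h]
    exact (map_ofNat (algebraMap E K) 4).symm
  obtain ⟨b, P, h1, h2, h3, h4, h5⟩ := p4csl1_core _ _ _ _ hd htr'
  exact ⟨b, P, h1, h2, by rw [h3, ht], h4, by rw [hA, h5]⟩

end Cfsg.Agent.Lib.helper23.P4S
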