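import Mathlib
import Cfsg.Agent.Lib.helper23.P4S.DefsC

set_option autoImplicit false

/-!
# Project P4C (designer helper23), rows SS1 (`ss_pow`) and SS2 (`ss_gsum`), verbatim from `helper23/P4S/SkelC.lean.txt`.
-/

namespace Cfsg.Agent.Lib.helper23.P4S

open Matrix

theorem p4css1_map_pow {E K : Type*} [Field E] [Field K] [Algebra E K] {ι : Type*} [Fintype ι] [DecidableEq ι]
    (g : Matrix ι ι E) (k : ℕ) : (g ^ k).map (algebraMap E K) = (g.map (algebraMap E K)) ^ k :=
  map_pow (algebraMap E K).mapMatrix g k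

theorem p4css1_map_eq_one {E K : Type*} [Field E] [Field K] [Algebra E K] {ι : Type*} [Fintype ι] [DecidableEq ι]
    (M : Matrix ι ι E) : M.map (algebraMap E K) = 1 ↔ M = 1 := by
  constructor
  · intro h
    have h2 : M.map (algebraMap E K) = (1 : Matrix ι ι E).map (algebraMap E K) := by
      rw [h, Matrix.map_one _ (map_zero _) (map_one _)]
    exact Matrix.map_injective (algebraMap E K).injective h2
  · intro h
    rw [h, Matrix.map_one _ (map_zero _) (map_one _)]

theorem p4css1_map_eq_zero {E K : Type*} [Field E] [Field K] [Algebra E K] {ι : Type*} [Fintype ι] [DecidableEq ι]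
    (M : Matrix ι ι E) : M.map (algebraMap E K) = 0 ↔ M = 0 := by
  constructor
  · intro h
    have h2 : M.map (algebraMap E K) = (0 : Matrix ι ι E).map (algebraMap E K) := by
      rw [h, Matrix.map_zero _ (map_zero _)]
    exact Matrix.map_injective (algebraMap E K).injective h2
  · intro h
    rw [h, Matrix.map_zero _ (map_zero _)]

theorem p4css1_conj_pow {K : Type*} [Field K] {ι : Type*} [Fintype ι] [DecidableEq ι]
    (P D : Matrix ι ι K) (hP : IsUnit P.det) (k : ℕ) : (P * D * P⁻¹) ^ k = P * D ^ k * P⁻¹ := by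
  have h1 : P⁻¹ * P = 1 := Matrix.nonsing_inv_mul P hP
  have h2 : P * P⁻¹ = 1 := Matrix.mul_nonsing_inv P hP
  induction k with
  | zero => rw [pow_zero, pow_zero, Matrix.mul_one, h2]
  | succ k ih =>
    rw [pow_succ, ih, pow_succ]
    calc P * D ^ k * P⁻¹ * (P * D * P⁻¹) = P * D ^ k * (P⁻¹ * P) * D * P⁻¹ := by
          simp only [Matrix.mul_assoc]
      _ = P * (D ^ k * D) * P⁻¹ := by rw [h1, Matrix.mul_one]; simp only [Matrix.mul_assoc]

theorem p4css1_conj_eq {K : Type*} [Field K] {ι : Type*} [Fintype ι] [DecidableEq ι]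
    (P D D' : Matrix ι ι K) (hP : IsUnit P.det) : P * D * P⁻¹ = P * D' * P⁻¹ ↔ D = D' := by
  have h1 : P⁻¹ * P = 1 := Matrix.nonsing_inv_mul P hP
  constructor
  · intro h
    have h3 : P⁻¹ * (P * D * P⁻¹) * P = P⁻¹ * (P * D' * P⁻¹) * P := by rw [h]
    have e : ∀ X : Matrix ι ι K, P⁻¹ * (P * X * P⁻¹) * P = X := by
      intro X
      calc P⁻¹ * (P * X * P⁻¹) * P = (P⁻¹ * P) * X * (P⁻¹ * P) := by simp only [Matrix.mul_assoc]
        _ = X := by rw [h1, Matrix.one_mul, Matrix.mul_one]
    rwa [e, e] at h3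
  · intro h
    rw [h]

/-- SS1 -/
theorem ss_pow {E K : Type} [Field E] [Field K] [Algebra E K] {ι : Type} [Fintype ι] [DecidableEq ι]
    (g : Matrix ι ι E) (P : Matrix ι ι K) (hP : IsUnit P.det) (d : ι → K)
    (h : g.map (algebraMap E K) = P * Matrix.diagonal d * P⁻¹) (k : ℕ) :
    g ^ k = 1 ↔ ∀ j, d j ^ k = 1 := by
  have h2 : P * P⁻¹ = 1 := Matrix.mul_nonsing_inv P hP
  rw [← p4css1_map_eq_one (K := K), p4css1_map_pow, h, p4css1_conj_pow P _ hP, Matrix.diagonal_pow]
  have e1 : (1 : Matrix ι ι K) = P * Matrix.diagonal (fun _ => (1 : K)) * P⁻¹ := by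
    rw [Matrix.diagonal_one, Matrix.mul_one, h2]
  rw [e1, p4css1_conj_eq P _ _ hP, Matrix.diagonal_eq_diagonal_iff]
  constructor
  · intro h j
    simpa using h j
  · intro h j
    simpa using h j

theorem p4css1_gsum_map {E K : Type*} [Field E] [Field K] [Algebra E K] {ι : Type*} [Fintype ι] [DecidableEq ι]
    (g : Matrix ι ι E) (k : ℕ) :
    (gsum g k).map (algebraMap E K) = gsum (g.map (algebraMap E K)) k := by
  unfold gsum
  have : ∀ M : Matrix ι ι E, M.map (algebraMap E K) = (algebraMap E K).mapMatrix M := fun _ => rfl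
  rw [this, map_sum]
  apply Finset.sum_congr rfl
  intro i _
  rw [map_pow]
  rfl

theorem p4css1_gsum_conj {K : Type*} [Field K] {ι : Type*} [Fintype ι] [DecidableEq ι]
    (P : Matrix ι ι K) (hP : IsUnit P.det) (d : ι → K) (k : ℕ) :
    gsum (P * Matrix.diagonal d * P⁻¹) k =
      P * Matrix.diagonal (fun j => ∑ i ∈ Finset.range k, d j ^ i) * P⁻¹ := by
  unfold gsum
  have e : Matrix.diagonal (fun j => ∑ i ∈ Finset.range k, d j ^ i) =
      ∑ i ∈ Finset.range k, (Matrix.diagonal d) ^ i := by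
    ext a b
    rw [Matrix.sum_apply]
    by_cases hab : a = b
    · subst hab
      simp [Matrix.diagonal_pow]
    · simp [Matrix.diagonal_pow, Matrix.diagonal_apply_ne _ hab]
  rw [e, Finset.mul_sum, Finset.sum_mul]
  apply Finset.sum_congr rfl
  intro i _
  exact p4css1_conj_pow P _ hP i

/-- SS2 -/
theorem ss_gsum {E K : Type} [Field E] [Field K] [Algebra E K] {ι : Type} [Fintype ι] [DecidableEq ι]
    (g : Matrix ι ι E) (P : Matrix ι ι K) (hP : IsUnit P.det) (d : ι → K)
    (h : g.map (algebraMap E K) = P * Matrix.diagonal d * P⁻¹) (k : ℕ) (hk : g ^ k = 1) :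
    gsum g k = 0 ↔ ∀ j, d j = 1 → (k : K) = 0 := by
  have hd : ∀ j, d j ^ k = 1 := (ss_pow g P hP d h k).1 hk
  rw [← p4css1_map_eq_zero (K := K), p4css1_gsum_map, h, p4css1_gsum_conj P hP]
  have e0 : (0 : Matrix ι ι K) = P * Matrix.diagonal (fun _ => (0 : K)) * P⁻¹ := by
    rw [Matrix.diagonal_zero, Matrix.mul_zero, Matrix.zero_mul]
  rw [e0, p4css1_conj_eq P _ _ hP, Matrix.diagonal_eq_diagonal_iff]
  constructor
  · intro hs j hj
    have := hs j
    rw [hj] at this
    simpa using this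
  · intro hs j
    by_cases hj : d j = 1
    · rw [hj]
      simpa using hs j hj
    · have h1 : (∑ i ∈ Finset.range k, d j ^ i) * (d j - 1) = 0 := by
        rw [geom_sum_mul, hd j, sub_self]
      rcases mul_eq_zero.1 h1 with h2 | h2
      · exact h2
      · exact absurd (sub_eq_zero.1 h2) hj

end Cfsg.Agent.Lib.helper23.P4S
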