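import Mathlib
import Cfsg.Prelude.Def_Characters
import Cfsg.Agent.Lib.helper7.PM2.Defs
import Cfsg.Agent.Lib.Helper25.PM2NUSUM

/-!
# Project PM2, piece SINGVAL : the values of `pw ζ k`, `altSq ζ`, `symSq ζ` on `x^m c`
-/

set_option autoImplicit false
set_option linter.unusedVariables false
set_option linter.unusedSectionVars false

namespace Cfsg.Agent.Lib.helper7.PM2

open scoped ComplexConjugate

universe u

section setting

variable {G : Type u} [Group G] [Fintype G] {p : ℕ} {ζ : G → ℂ} {x : G} {ω : ℂ}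

/-- the central character is multiplicative on powers (own copy of `nu_pow`) -/
theorem pm2singval_nu_pow (S : Setting p ζ x ω) {c : G} (hc : c ∈ Subgroup.center G) (k : ℕ) :
    nu ζ (c ^ k) = nu ζ c ^ k := by
  induction k with
  | zero => simp [pm2nusum_one S]
  | succ k ih => rw [pow_succ, pm2nusum_mul S (Subgroup.pow_mem _ hc k) hc, ih, pow_succ]

/-- SINGVAL -/
theorem pw_val (S : Setting p ζ x ω) (k : ℕ) (hk : ¬ p ∣ k) (m : ℕ) (hm : ¬ p ∣ m) {c : G}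
    (hc : c ∈ Subgroup.center G) :
    pw ζ k (x ^ m * c) = -(ω ^ (k * m) + ω⁻¹ ^ (k * m)) * nu ζ c ^ k := by
  rw [pw_apply]
  have hcomm : Commute (x ^ m) c := Subgroup.mem_center_iff.mp hc (x ^ m)
  rw [hcomm.mul_pow, ← pow_mul]
  have hmk : ¬ p ∣ m * k := by
    intro h
    rcases (Nat.Prime.dvd_mul S.hp).mp h with h | h
    · exact hm h
    · exact hk h
  rw [S.val (m * k) hmk (c ^ k) (Subgroup.pow_mem _ hc k), pm2singval_nu_pow S hc k, mul_comm m k]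

/-- `ω^m ω^-m = 1` -/
theorem pm2singval_mul_inv (S : Setting p ζ x ω) (m : ℕ) : ω ^ m * ω⁻¹ ^ m = 1 := by
  have hω : ω ≠ 0 := S.prim.ne_zero S.hp.ne_zero
  rw [← mul_pow, mul_inv_cancel₀ hω, one_pow]

/-- `p ∤ 2` -/
theorem pm2singval_two (S : Setting p ζ x ω) : ¬ p ∣ 2 := by
  intro h
  have h5 : p ≤ 2 := Nat.le_of_dvd (by norm_num) h
  have := S.hp5
  omega

/-- SINGVAL -/
theorem altSq_val (S : Setting p ζ x ω) (m : ℕ) (hm : ¬ p ∣ m) {c : G} (hc : c ∈ Subgroup.center G) :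
    altSq ζ (x ^ m * c) = (1 + (ω ^ (2 * m) + ω⁻¹ ^ (2 * m))) * nu ζ c ^ 2 := by
  rw [altSq_apply]
  have h1 : ζ (x ^ m * c) = -(ω ^ m + ω⁻¹ ^ m) * nu ζ c := S.val m hm c hc
  have h2 : ζ ((x ^ m * c) ^ 2) = -(ω ^ (2 * m) + ω⁻¹ ^ (2 * m)) * nu ζ c ^ 2 := by
    have := pw_val S 2 (pm2singval_two S) m hm hc
    rwa [pw_apply] at this
  rw [h1, h2]
  have hω := pm2singval_mul_inv S m
  have e1 : ω ^ (2 * m) = (ω ^ m) ^ 2 := by rw [mul_comm, pow_mul]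
  have e2 : ω⁻¹ ^ (2 * m) = (ω⁻¹ ^ m) ^ 2 := by rw [mul_comm, pow_mul]
  rw [e1, e2]
  linear_combination (nu ζ c) ^ 2 * hω

/-- SINGVAL -/
theorem symSq_val (S : Setting p ζ x ω) (m : ℕ) (hm : ¬ p ∣ m) {c : G} (hc : c ∈ Subgroup.center G) :
    symSq ζ (x ^ m * c) = nu ζ c ^ 2 := by
  rw [symSq_apply]
  have h1 : ζ (x ^ m * c) = -(ω ^ m + ω⁻¹ ^ m) * nu ζ c := S.val m hm c hc
  have h2 : ζ ((x ^ m * c) ^ 2) = -(ω ^ (2 * m) + ω⁻¹ ^ (2 * m)) * nu ζ c ^ 2 := by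
    have := pw_val S 2 (pm2singval_two S) m hm hc
    rwa [pw_apply] at this
  rw [h1, h2]
  have hω := pm2singval_mul_inv S m
  have e1 : ω ^ (2 * m) = (ω ^ m) ^ 2 := by rw [mul_comm, pow_mul]
  have e2 : ω⁻¹ ^ (2 * m) = (ω⁻¹ ^ m) ^ 2 := by rw [mul_comm, pow_mul]
  rw [e1, e2]
  linear_combination (nu ζ c) ^ 2 * hω

end setting

end Cfsg.Agent.Lib.helper7.PM2
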