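import Mathlib
import Cfsg.Prelude.Def_Characters
import Cfsg.Agent.Lib.helper7.PM2.Defs
import Cfsg.Agent.Lib.Helper25.CharOrth

/-!
# Project PM2, piece BAS3 : `zeta_inv`, `x_pow_mem_center_iff`, `p_not_dvd_center`, `card_dvd`
-/

set_option autoImplicit false
set_option linter.unusedVariables false
set_option linter.unusedSectionVars false

namespace Cfsg.Agent.Lib.helper7.PM2

open scoped ComplexConjugate

universe u

section setting

variable {G : Type u} [Group G] [Fintype G] {p : ℕ} {ζ : G → ℂ} {x : G} {ω : ℂ}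

/-- BAS3 -/
theorem zeta_inv (S : Setting p ζ x ω) (g : G) : ζ g⁻¹ = conj (ζ g) :=
  Cfsg.Agent.Lib.Helper25.irr_inv (⟨ζ, S.irr⟩ : Cfsg.IrrCharacter G) g

/-- `x` is not central -/
theorem pm2bas3_x_not_central (S : Setting p ζ x ω) : x ∉ Subgroup.center G := by
  intro hx
  obtain ⟨τ, hτ⟩ := S.inv
  have h1 : τ * x * τ⁻¹ = x := by
    rw [(Subgroup.mem_center_iff.mp hx τ), mul_inv_cancel_right]
  have h2 : x = x⁻¹ := by rw [← h1, hτ, inv_inv, ← hτ]; rw [h1]
  have h3 : x ^ 2 = 1 := by
    rw [pow_two]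
    nth_rewrite 2 [h2]
    exact mul_inv_cancel x
  have h4 : p ∣ 2 := by
    rw [← S.ordx]
    exact orderOf_dvd_of_pow_eq_one h3
  have h5 : p ≤ 2 := Nat.le_of_dvd (by norm_num) h4
  have := S.hp5
  omega

/-- BAS3 -/
theorem x_pow_mem_center_iff (S : Setting p ζ x ω) (m : ℕ) : x ^ m ∈ Subgroup.center G ↔ p ∣ m := by
  constructor
  · intro h
    by_contra hpm
    have hcop : Nat.Coprime m p := (Nat.Coprime.symm ((Nat.Prime.coprime_iff_not_dvd S.hp).mpr hpm))
    -- `x` is a power of `x ^ m`
    have hcop' : Nat.Coprime m (orderOf x) := by rw [S.ordx]; exact hcop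
    obtain ⟨k, hk⟩ := (exists_pow_eq_self_of_coprime hcop' : ∃ k : ℕ, (x ^ m) ^ k = x)
    apply pm2bas3_x_not_central S
    rw [← hk]
    exact Subgroup.pow_mem _ h k
  · rintro ⟨k, rfl⟩
    rw [pow_mul, ← S.ordx, pow_orderOf_eq_one, one_pow]
    exact Subgroup.one_mem _

/-- BAS3 -/
theorem p_not_dvd_center (S : Setting p ζ x ω) : ¬ p ∣ Nat.card (Subgroup.center G) := by
  intro hdvd
  haveI : Fact p.Prime := ⟨S.hp⟩
  -- a central element of order `p`
  obtain ⟨c, hc⟩ := exists_prime_orderOf_dvd_card' p hdvd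
  have hcG : orderOf (c : G) = p := by rw [Subgroup.orderOf_coe]; exact hc
  -- the order of a Sylow `p`-subgroup is `p`
  have hpG : p ∣ Nat.card G := by
    rw [← S.ordx]
    exact orderOf_dvd_natCard x
  have hfac : (Nat.card G).factorization p = 1 := by
    have hne : Nat.card G ≠ 0 := Nat.card_pos.ne'
    have h1 : 1 ≤ (Nat.card G).factorization p :=
      (Nat.Prime.pow_dvd_iff_le_factorization S.hp hne).mp (by rwa [pow_one])
    have h2 : ¬ 2 ≤ (Nat.card G).factorization p := fun h =>
      S.sylow ((Nat.Prime.pow_dvd_iff_le_factorization S.hp hne).mpr h)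
    omega
  have hsyl : ∀ Q : Sylow p G, Nat.card (Q : Subgroup G) = p := by
    intro Q
    rw [Sylow.card_eq_multiplicity, hfac, pow_one]
  -- Sylow subgroups containing `x` and `c`
  have hxp : IsPGroup p (Subgroup.zpowers x) :=
    IsPGroup.of_card (n := 1) (by rw [Nat.card_zpowers, S.ordx, pow_one])
  have hcp : IsPGroup p (Subgroup.zpowers (c : G)) :=
    IsPGroup.of_card (n := 1) (by rw [Nat.card_zpowers, hcG, pow_one])
  obtain ⟨P, hP⟩ := hxp.exists_le_sylow
  obtain ⟨Q, hQ⟩ := hcp.exists_le_sylow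
  have hQeq : Subgroup.zpowers (c : G) = (Q : Subgroup G) :=
    Subgroup.eq_of_le_of_card_ge hQ (by rw [hsyl Q, Nat.card_zpowers, hcG])
  obtain ⟨g, hg⟩ := MulAction.exists_smul_eq G P Q
  have hxP : x ∈ (P : Subgroup G) := hP (Subgroup.mem_zpowers x)
  have hgx : g * x * g⁻¹ ∈ (Q : Subgroup G) := by
    rw [← hg, Sylow.coe_subgroup_smul, Subgroup.mem_smul_pointwise_iff_exists]  -- pointwise smul
    exact ⟨x, hxP, by simp [MulAut.smul_def]⟩
  rw [← hQeq] at hgx
  have hcen : g * x * g⁻¹ ∈ Subgroup.center G := by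
    have hle : Subgroup.zpowers (c : G) ≤ Subgroup.center G := by
      rw [Subgroup.zpowers_le]
      exact c.2
    exact hle hgx
  apply pm2bas3_x_not_central S
  have := (Subgroup.center G).normal_of_characteristic.conj_mem _ hcen g⁻¹
  simpa [mul_assoc] using this

/-- the centralizer of `x` has order `p |Z(G)|` -/
theorem pm2bas3_card_centralizer (S : Setting p ζ x ω) :
    Nat.card (Subgroup.centralizer ({x} : Set G)) = p * Nat.card (Subgroup.center G) := by
  classical
  let φ : (Subgroup.zpowers x) × (Subgroup.center G) →* G :=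
    MonoidHom.noncommCoprod (Subgroup.zpowers x).subtype (Subgroup.center G).subtype
      (fun y c => (Subgroup.mem_center_iff.mp c.2 (y : G)))
  have hφ : ∀ (y : Subgroup.zpowers x) (c : Subgroup.center G), φ (y, c) = (y : G) * (c : G) :=
    fun y c => rfl
  have hinj : Function.Injective φ := by
    rw [injective_iff_map_eq_one]
    rintro ⟨y, c⟩ h
    rw [hφ] at h
    have hy : (y : G) ∈ Submonoid.powers x :=
      mem_powers_iff_mem_zpowers.mpr y.2
    obtain ⟨n, hn⟩ := hy
    have hyc : (y : G) = (c : G)⁻¹ := eq_inv_of_mul_eq_one_left h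
    have hmem : x ^ n ∈ Subgroup.center G := by
      show x ^ n ∈ Subgroup.center G
      have : x ^ n = (y : G) := hn
      rw [this, hyc]
      exact Subgroup.inv_mem _ c.2
    have hpn := (x_pow_mem_center_iff S n).mp hmem
    have hy1 : (y : G) = 1 := by
      have : x ^ n = (y : G) := hn
      rw [← this]
      obtain ⟨k, rfl⟩ := hpn
      rw [pow_mul, ← S.ordx, pow_orderOf_eq_one, one_pow]
    have hc1 : (c : G) = 1 := by
      rw [hy1, one_mul] at h
      exact h
    exact Prod.ext (Subtype.ext hy1) (Subtype.ext hc1)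
  have hrange : φ.range = Subgroup.centralizer ({x} : Set G) := by
    ext g
    rw [MonoidHom.mem_range, Subgroup.mem_centralizer_iff]
    constructor
    · rintro ⟨⟨y, c⟩, rfl⟩ h hh
      rw [Set.mem_singleton_iff] at hh
      subst hh
      rw [hφ]
      have hy : (y : G) ∈ Submonoid.powers h :=
        mem_powers_iff_mem_zpowers.mpr y.2
      obtain ⟨n, hn⟩ := hy
      have hn' : h ^ n = (y : G) := hn
      have h1 : h * (y : G) = (y : G) * h := by
        rw [← hn', ← pow_succ', ← pow_succ]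
      have h2 : h * (c : G) = (c : G) * h := Subgroup.mem_center_iff.mp c.2 h
      calc h * ((y : G) * (c : G)) = (h * (y : G)) * (c : G) := (mul_assoc _ _ _).symm
        _ = ((y : G) * h) * (c : G) := by rw [h1]
        _ = (y : G) * (h * (c : G)) := mul_assoc _ _ _
        _ = (y : G) * ((c : G) * h) := by rw [h2]
        _ = (y : G) * (c : G) * h := (mul_assoc _ _ _).symm
    · intro h
      have hgx : g * x = x * g := (h x (Set.mem_singleton x)).symm
      obtain ⟨m, c, hc, rfl⟩ := S.cent g hgx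
      exact ⟨(⟨x ^ m, Subgroup.pow_mem _ (Subgroup.mem_zpowers x) m⟩, ⟨c, hc⟩), rfl⟩
  rw [← hrange, Nat.card_congr (MonoidHom.ofInjective hinj).toEquiv.symm, Nat.card_prod,
    Nat.card_zpowers, S.ordx]

/-- the subgroup of the elements which centralize or invert `x` -/
def pm2bas3_H (x : G) : Subgroup G where
  carrier := {h | h * x * h⁻¹ = x ∨ h * x * h⁻¹ = x⁻¹}
  one_mem' := by
    left
    simp
  mul_mem' := by
    intro a b ha hb
    have e : a * b * x * (a * b)⁻¹ = a * (b * x * b⁻¹) * a⁻¹ := by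
      rw [mul_inv_rev]
      simp only [mul_assoc]
    have e2 : a * x⁻¹ * a⁻¹ = (a * x * a⁻¹)⁻¹ := by
      rw [mul_inv_rev, mul_inv_rev, inv_inv, mul_assoc]
    show a * b * x * (a * b)⁻¹ = x ∨ a * b * x * (a * b)⁻¹ = x⁻¹
    rw [e]
    rcases hb with hb | hb <;> rcases ha with ha | ha
    · left; rw [hb, ha]
    · right; rw [hb, ha]
    · right; rw [hb, e2, ha]
    · left; rw [hb, e2, ha, inv_inv]
  inv_mem' := by
    intro a ha
    show a⁻¹ * x * a⁻¹⁻¹ = x ∨ a⁻¹ * x * a⁻¹⁻¹ = x⁻¹
    rw [inv_inv]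
    rcases ha with ha | ha
    · left
      have : x = a⁻¹ * (a * x * a⁻¹) * a := by simp [mul_assoc]
      rw [ha] at this
      exact this.symm
    · right
      have : x = a⁻¹ * (a * x * a⁻¹) * a := by simp [mul_assoc]
      rw [ha] at this
      have h3 : x⁻¹ = a⁻¹ * x * a := by
        conv_lhs => rw [this]
        simp [mul_assoc]
      exact h3.symm

/-- BAS3 -/
theorem card_dvd (S : Setting p ζ x ω) :
    2 * p * Nat.card (Subgroup.center G) ∣ Nat.card G := by
  classical
  obtain ⟨τ, hτ⟩ := S.inv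
  have hxne : x ≠ x⁻¹ := by
    intro h
    have h3 : x ^ 2 = 1 := by
      rw [pow_two]
      nth_rewrite 2 [h]
      exact mul_inv_cancel x
    have h4 : p ∣ 2 := by
      rw [← S.ordx]
      exact orderOf_dvd_of_pow_eq_one h3
    have h5 : p ≤ 2 := Nat.le_of_dvd (by norm_num) h4
    have := S.hp5
    omega
  set H : Subgroup G := pm2bas3_H x with hH
  set K : Subgroup G := Subgroup.centralizer ({x} : Set G) with hK
  have hmemK : ∀ g : G, g ∈ K ↔ g * x * g⁻¹ = x := by
    intro g
    rw [hK, Subgroup.mem_centralizer_iff]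
    constructor
    · intro h
      have := h x (Set.mem_singleton x)
      rw [← this, mul_inv_cancel_right]
    · intro h y hy
      rw [Set.mem_singleton_iff] at hy
      subst hy
      have := congrArg (· * g) h
      simp only [inv_mul_cancel_right] at this
      exact this.symm
  have hKH : K ≤ H := by
    intro g hg
    exact Or.inl ((hmemK g).mp hg)
  have hτH : τ ∈ H := Or.inr hτ
  have hidx : (K.subgroupOf H).index = 2 := by
    rw [Subgroup.index_eq_two_iff]
    refine ⟨⟨τ, hτH⟩, ?_⟩
    intro b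
    have hb := b.2
    have e : (b : G) * τ * x * ((b : G) * τ)⁻¹ = ((b : G) * x * (b : G)⁻¹)⁻¹ := by
      have : (b : G) * τ * x * ((b : G) * τ)⁻¹ = (b : G) * (τ * x * τ⁻¹) * (b : G)⁻¹ := by
        rw [mul_inv_rev]
        simp only [mul_assoc]
      rw [this, hτ, mul_inv_rev, mul_inv_rev, inv_inv, mul_assoc]
    have m1 : b * ⟨τ, hτH⟩ ∈ K.subgroupOf H ↔ (b : G) * τ * x * ((b : G) * τ)⁻¹ = x := by
      rw [Subgroup.mem_subgroupOf]
      exact hmemK _
    have m2 : b ∈ K.subgroupOf H ↔ (b : G) * x * (b : G)⁻¹ = x := by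
      rw [Subgroup.mem_subgroupOf]
      exact hmemK _
    rw [m1, m2, e]
    rcases hb with hb | hb
    · right
      refine ⟨hb, ?_⟩
      rw [hb]
      exact fun h => hxne h.symm
    · left
      refine ⟨by rw [hb, inv_inv], ?_⟩
      rw [hb]
      exact fun h => hxne h.symm
  have hcardK' : Nat.card (K.subgroupOf H) = Nat.card K :=
    Nat.card_congr (Subgroup.subgroupOfEquivOfLe hKH).toEquiv
  have hcardH : Nat.card H = 2 * p * Nat.card (Subgroup.center G) := by
    have h1 := (K.subgroupOf H).card_mul_index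
    rw [hidx, hcardK', pm2bas3_card_centralizer S] at h1
    rw [← h1]
    ring
  rw [← hcardH]
  exact Subgroup.card_subgroup_dvd_card H

end setting

end Cfsg.Agent.Lib.helper7.PM2
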