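import Mathlib
import Cfsg.Prelude.Def_Characters
import Cfsg.Agent.Lib.helper7.PM2.Defs
import Cfsg.Agent.Lib.helper2.CharNat
import Cfsg.Agent.Lib.Helper25.CharLinear

/-!
# Project PM2, piece DECB : splitting off distinct irreducible constituents with known multiplicities
-/

set_option autoImplicit false
set_option linter.unusedVariables false
set_option linter.unusedSectionVars false

namespace Cfsg.Agent.Lib.helper7.PM2

open scoped ComplexConjugate

universe u

section generic

variable {G : Type u} [Group G] [Fintype G]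

/-- DECB : splitting off distinct irreducible constituents with known multiplicities -/
theorem split_off {ι : Type*} (I : Finset ι) {Ψ : G → ℂ} (hΨ : Cfsg.IsCharacter G Ψ) (χ : ι → G → ℂ)
    (hχ : ∀ i ∈ I, Cfsg.IsIrrCharacter G (χ i)) (hne : ∀ i ∈ I, ∀ j ∈ I, i ≠ j → χ i ≠ χ j) (m : ι → ℕ)
    (hm : ∀ i ∈ I, Cfsg.classInner Ψ (χ i) = (m i : ℂ)) :
    ∃ Δ : G → ℂ, Cfsg.IsCharacter G Δ ∧ Ψ = (∑ i ∈ I, (m i : ℂ) • χ i) + Δ := by
  classical
  haveI : Fintype (Cfsg.IrrCharacter G) := Fintype.ofFinite _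
  obtain ⟨mm, hmm, hexp⟩ := Cfsg.Agent.Lib.helper2.isCharacter_expansion hΨ
  let e : ι → Cfsg.IrrCharacter G := fun i =>
    if h : i ∈ I then ⟨χ i, hχ i h⟩ else Cfsg.Agent.Lib.Helper25.trivIrr G
  have he : ∀ i ∈ I, (e i : G → ℂ) = χ i := by
    intro i hi
    simp only [e, dif_pos hi]
  have hinj : Set.InjOn e (I : Set ι) := by
    intro i hi j hj hij
    by_contra hne'
    apply hne i hi j hj hne'
    rw [← he i hi, ← he j hj, hij]
  set T := I.image e with hT
  refine ⟨∑ η ∈ Finset.univ \ T, (mm η : ℂ) • (η : G → ℂ), ?_, ?_⟩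
  · apply Cfsg.Agent.Lib.helper2.isCharacter_sum
    intro η _
    exact Cfsg.Agent.Lib.helper2.isCharacter_natCast_smul
      (Cfsg.Agent.Lib.helper2.isCharacter_of_irr η) _
  · have h1 : ∑ i ∈ I, (m i : ℂ) • χ i = ∑ η ∈ T, (mm η : ℂ) • (η : G → ℂ) := by
      rw [hT, Finset.sum_image hinj]
      refine Finset.sum_congr rfl fun i hi => ?_
      have h2 : (mm (e i) : ℂ) = (m i : ℂ) := by
        have := hmm (e i)
        rw [he i hi, hm i hi] at this
        exact this.symm
      rw [he i hi, h2]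
    rw [h1, add_comm, Finset.sum_sdiff (Finset.subset_univ T)]
    exact hexp

end generic

end Cfsg.Agent.Lib.helper7.PM2
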