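import Mathlib
import Cfsg.Prelude.Def_Classical
import Cfsg.Agent.Lib.Helper1.S8U.Defs
import Cfsg.Agent.Lib.Helper16.SO8SUM
import Cfsg.Agent.Lib.helper14.OrthInv2

set_option autoImplicit false
set_option linter.unusedSectionVars false

/-!
# Project S8U (designer helper1), row ORSUM: `or_sum` (helper23).
The orthogonal sum of two `OR`-pieces: block diagonal isometry, order `lcm`, rank additive, `geoM` blockwise.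
-/

namespace Cfsg.Agent.Lib.Helper1.S8U

open Matrix Module Polynomial Cfsg.Agent.Lib.Helper16 Cfsg.Agent.Lib.Helper13.OTS Cfsg.Agent.Lib.Helper19.SO8
  Cfsg.Agent.Lib.helper14.OrthInv

/-- `geoM` of a group element with `g ^ n = 1` at a multiple of `n` -/
theorem s8uorsum_geoM_mul {ι : Type} [Fintype ι] [DecidableEq ι] {F : Type*} [Field F] (g : GL ι F)
    (n : ℕ) (hg : g ^ n = 1) (j : ℕ) : geoM g (n * j) = j • geoM g n := by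
  induction j with
  | zero => simp [geoM]
  | succ j ih =>
    have h1 : geoM g (n * (j + 1)) = geoM g (n * j) + geoM g n := by
      unfold geoM
      rw [Nat.mul_succ, Finset.sum_range_add]
      congr 1
      apply Finset.sum_congr rfl
      intro i _
      rw [pow_add, pow_mul, hg, one_pow, one_mul]
    rw [h1, ih, succ_nsmul]

/-- in characteristic two an odd multiple is the thing itself -/
theorem s8uorsum_odd_nsmul {ι : Type} [Fintype ι] [DecidableEq ι] {F : Type*} [Field F] [CharP F 2]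
    (M : Matrix ι ι F) (j : ℕ) (hj : Odd j) : j • M = M := by
  obtain ⟨k, rfl⟩ := hj
  rw [add_nsmul, mul_nsmul, one_nsmul]
  have h2 : (2 : ℕ) • M = 0 := by
    rw [two_nsmul]
    ext a b
    simp only [Matrix.add_apply, Matrix.zero_apply]
    exact CharTwo.add_self_eq_zero _
  rw [h2, nsmul_zero, zero_add]

/-- `geoM` at an odd multiple of a period, characteristic two -/
theorem s8uorsum_geoM_odd {ι : Type} [Fintype ι] [DecidableEq ι] {F : Type*} [Field F] [CharP F 2]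
    (g : GL ι F) (n N : ℕ) (hg : g ^ n = 1) (hN : n ∣ N) (hodd : Odd (N / n)) :
    geoM g N = geoM g n := by
  have h1 : N = n * (N / n) := (Nat.mul_div_cancel' hN).symm
  rw [h1, s8uorsum_geoM_mul g n hg, s8uorsum_odd_nsmul _ _ hodd]

section blocks

variable {ι₁ ι₂ : Type} [Fintype ι₁] [DecidableEq ι₁] [Fintype ι₂] [DecidableEq ι₂]
  {F : Type*} [Field F]

theorem s8uorsum_sum_blocks (s : Finset ℕ) (A : ℕ → Matrix ι₁ ι₁ F) (D : ℕ → Matrix ι₂ ι₂ F) :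
    ∑ i ∈ s, Matrix.fromBlocks (A i) 0 0 (D i)
      = Matrix.fromBlocks (∑ i ∈ s, A i) 0 0 (∑ i ∈ s, D i) := by
  classical
  induction s using Finset.induction_on with
  | empty => simp [Matrix.fromBlocks_zero]
  | insert a s ha ih =>
    rw [Finset.sum_insert ha, Finset.sum_insert ha, Finset.sum_insert ha, ih, Matrix.fromBlocks_add]
    simp

theorem s8uorsum_mat (Q₁ : QuadraticForm F (ι₁ → F)) (Q₂ : QuadraticForm F (ι₂ → F))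
    (g₁ : ↥(Cfsg.isometryGroup F ⇑Q₁)) (g₂ : ↥(Cfsg.isometryGroup F ⇑Q₂)) :
    (((so8sum_phi Q₁ Q₂ (g₁, g₂) :
        ↥(Cfsg.isometryGroup F ⇑(Cfsg.Agent.Lib.Helper16.sumQF Q₁ Q₂))) : GL (ι₁ ⊕ ι₂) F) :
        Matrix (ι₁ ⊕ ι₂) (ι₁ ⊕ ι₂) F)
      = Matrix.fromBlocks ((g₁ : GL ι₁ F) : Matrix ι₁ ι₁ F) 0 0 ((g₂ : GL ι₂ F) : Matrix ι₂ ι₂ F) := by
  rw [so8sum_phi_apply]
  exact so8sum_coe_mul Q₁ Q₂ g₁ g₂

theorem s8uorsum_mat_pow (Q₁ : QuadraticForm F (ι₁ → F)) (Q₂ : QuadraticForm F (ι₂ → F))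
    (g₁ : ↥(Cfsg.isometryGroup F ⇑Q₁)) (g₂ : ↥(Cfsg.isometryGroup F ⇑Q₂)) (i : ℕ) :
    ((((so8sum_phi Q₁ Q₂ (g₁, g₂) :
        ↥(Cfsg.isometryGroup F ⇑(Cfsg.Agent.Lib.Helper16.sumQF Q₁ Q₂))) : GL (ι₁ ⊕ ι₂) F) ^ i :
        GL (ι₁ ⊕ ι₂) F) : Matrix (ι₁ ⊕ ι₂) (ι₁ ⊕ ι₂) F)
      = Matrix.fromBlocks ((((g₁ : GL ι₁ F) ^ i : GL ι₁ F)) : Matrix ι₁ ι₁ F) 0 0
          ((((g₂ : GL ι₂ F) ^ i : GL ι₂ F)) : Matrix ι₂ ι₂ F) := by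
  have h : (so8sum_phi Q₁ Q₂ (g₁, g₂)) ^ i = so8sum_phi Q₁ Q₂ (g₁ ^ i, g₂ ^ i) := by
    rw [← map_pow, Prod.pow_mk]
  rw [← Subgroup.coe_pow, h, s8uorsum_mat, Subgroup.coe_pow, Subgroup.coe_pow]

theorem s8uorsum_geoM (Q₁ : QuadraticForm F (ι₁ → F)) (Q₂ : QuadraticForm F (ι₂ → F))
    (g₁ : ↥(Cfsg.isometryGroup F ⇑Q₁)) (g₂ : ↥(Cfsg.isometryGroup F ⇑Q₂)) (n : ℕ) :
    geoM ((so8sum_phi Q₁ Q₂ (g₁, g₂) :
        ↥(Cfsg.isometryGroup F ⇑(Cfsg.Agent.Lib.Helper16.sumQF Q₁ Q₂))) : GL (ι₁ ⊕ ι₂) F) n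
      = Matrix.fromBlocks (geoM (g₁ : GL ι₁ F) n) 0 0 (geoM (g₂ : GL ι₂ F) n) := by
  unfold geoM
  rw [← s8uorsum_sum_blocks]
  apply Finset.sum_congr rfl
  intro i _
  exact s8uorsum_mat_pow Q₁ Q₂ g₁ g₂ i

theorem s8uorsum_rk (Q₁ : QuadraticForm F (ι₁ → F)) (Q₂ : QuadraticForm F (ι₂ → F))
    (g₁ : ↥(Cfsg.isometryGroup F ⇑Q₁)) (g₂ : ↥(Cfsg.isometryGroup F ⇑Q₂)) :
    rk (so8sum_phi Q₁ Q₂ (g₁, g₂)) = rk g₁ + rk g₂ := by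
  unfold rk
  have h : mat (so8sum_phi Q₁ Q₂ (g₁, g₂)) - 1
      = Matrix.fromBlocks (mat g₁ - 1) 0 0 (mat g₂ - 1) := by
    show (((so8sum_phi Q₁ Q₂ (g₁, g₂) :
        ↥(Cfsg.isometryGroup F ⇑(Cfsg.Agent.Lib.Helper16.sumQF Q₁ Q₂))) : GL (ι₁ ⊕ ι₂) F) :
        Matrix (ι₁ ⊕ ι₂) (ι₁ ⊕ ι₂) F) - 1 = _
    rw [s8uorsum_mat, ← Matrix.fromBlocks_one, sub_eq_add_neg, Matrix.fromBlocks_neg,
      Matrix.fromBlocks_add]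
    simp [sub_eq_add_neg]
  rw [h, rank_blockDiag]

end blocks

/-- ORSUM -/
theorem or_sum {F : Type*} [Field F] [Fintype F] [CharP F 2] (d₁ d₂ : ℕ) (hd₁ : 1 ≤ d₁) (s₁ s₂ : ℤ)
    (n₁ n₂ p₁ p₂ : ℕ) (c₁ c₂ : Prop) (h₁ : OR F d₁ s₁ n₁ p₁ c₁) (h₂ : OR F d₂ s₂ n₂ p₂ c₂) :
    OR F (d₁ + d₂) (s₁ * s₂) (Nat.lcm n₁ n₂) ((p₁ + p₂) % 2)
      ((c₁ ∧ Odd (Nat.lcm n₁ n₂ / n₁)) ∨ (c₂ ∧ Odd (Nat.lcm n₁ n₂ / n₂))) := by
  obtain ⟨ι₁, i₁, j₁, Q₁, hQ₁, g₁, hg₁, hp₁, hc₁⟩ := h₁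
  obtain ⟨ι₂, i₂, j₂, Q₂, hQ₂, g₂, hg₂, hp₂, hc₂⟩ := h₂
  refine ⟨ι₁ ⊕ ι₂, inferInstance, inferInstance, Cfsg.Agent.Lib.Helper16.sumQF Q₁ Q₂, ?_,
    so8sum_phi Q₁ Q₂ (g₁, g₂), ?_, ?_, ?_⟩
  · refine ⟨Cfsg.Agent.Lib.Helper16.sumQF_nondeg Q₁ Q₂ hQ₁.nd hQ₂.nd, ?_, ?_, ?_⟩
    · rw [Fintype.card_sum, hQ₁.card, hQ₂.card]
      ring
    · exact Cfsg.Agent.Lib.Helper16.OSemi.isType_sumQF Q₁ Q₂ hQ₁.nd d₁ d₂ hd₁ hQ₁.card hQ₂.card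
        s₁ s₂ hQ₁.ty hQ₂.ty
    · rcases hQ₁.eps with h | h <;> rcases hQ₂.eps with h' | h' <;> subst h <;> subst h' <;> simp
  · rw [orderOf_injective (so8sum_phi Q₁ Q₂) (so8sum_phi_inj Q₁ Q₂) (g₁, g₂), Prod.orderOf, hg₁, hg₂]
  · rw [s8uorsum_rk, Nat.add_mod, hp₁, hp₂]
  · have e₁ : ((g₁ : GL ι₁ F)) ^ n₁ = 1 := by
      rw [← Subgroup.coe_pow, ← hg₁, pow_orderOf_eq_one, Subgroup.coe_one]
    have e₂ : ((g₂ : GL ι₂ F)) ^ n₂ = 1 := by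
      rw [← Subgroup.coe_pow, ← hg₂, pow_orderOf_eq_one, Subgroup.coe_one]
    intro hc hzero
    rw [s8uorsum_geoM, ← Matrix.fromBlocks_zero, Matrix.fromBlocks_inj] at hzero
    obtain ⟨hz₁, -, -, hz₂⟩ := hzero
    rcases hc with ⟨hc, hodd⟩ | ⟨hc, hodd⟩
    · rw [s8uorsum_geoM_odd _ n₁ _ e₁ (Nat.dvd_lcm_left n₁ n₂) hodd] at hz₁
      exact hc₁ hc hz₁
    · rw [s8uorsum_geoM_odd _ n₂ _ e₂ (Nat.dvd_lcm_right n₁ n₂) hodd] at hz₂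
      exact hc₂ hc hz₂

end Cfsg.Agent.Lib.Helper1.S8U
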