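import Mathlib
import Cfsg.Prelude.Def_Classical
import Cfsg.Agent.Lib.Helper1.S8U.Defs
import Cfsg.Agent.Lib.Helper28.SO8U4

set_option autoImplicit false
set_option linter.unusedVariables false

/-!
# Project S8U (designer helper1), row ORU4: `or_u4` (helper23).
The unipotent element `so8u4_map` of order 4 of the hyperbolic 4-space has `1 + y + y^2 + y^3 ≠ 0`; its square has order 2,
even rank and `1 + y^2 ≠ 0`.
-/

namespace Cfsg.Agent.Lib.Helper1.S8U

open Matrix Module Polynomial Cfsg.Agent.Lib.Helper16 Cfsg.Agent.Lib.Helper13.OTS Cfsg.Agent.Lib.Helper19.SO8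
  Cfsg.Agent.Lib.helper14.OrthInv

/-- the realisation of `so8u4_map` as an isometry `x` of `qfPlus 2 F` of order `4` with `toLin' x = so8u4_map` -/
theorem s8uoru4_real {F : Type*} [Field F] [Fintype F] [CharP F 2] :
    ∃ x : GL (Fin 2 ⊕ Fin 2) F, x ∈ Cfsg.isometryGroup F (⇑(qfPlus 2 F)) ∧
      Matrix.toLin' (x : Matrix (Fin 2 ⊕ Fin 2) (Fin 2 ⊕ Fin 2) F) = so8u4_map F ∧ orderOf x = 4 := by
  have h2 : (2 : F) = 0 := CharTwo.two_eq_zero
  have hs : QStd (qfPlus 2 F) 2 1 := q_std_plus 2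
  have hpres : ∀ v, (qfPlus 2 F) (so8u4_map F v) = (qfPlus 2 F) v := by
    intro v
    rw [Cfsg.Agent.Lib.Helper16.qfPlus_coe]
    unfold Cfsg.quadFormPlus
    rw [Fin.sum_univ_two, Fin.sum_univ_two, so8u4_map_apply]
    simp only [Sum.elim_inl, Sum.elim_inr, Matrix.cons_val_zero, Matrix.cons_val_one]
    grind
  have hpow : (so8u4_map F) ^ 4 = 1 := by
    apply LinearMap.ext
    intro v
    funext i
    have : (so8u4_map F) ^ 4 = so8u4_map F * (so8u4_map F * (so8u4_map F * so8u4_map F)) := by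
      rw [pow_succ', pow_succ', pow_succ', pow_one]
    rw [this]
    simp only [Module.End.mul_apply, Module.End.one_apply, so8u4_map_apply]
    rcases i with i | i <;> fin_cases i <;>
      simp only [Sum.elim_inl, Sum.elim_inr, Matrix.cons_val_zero, Matrix.cons_val_one, Fin.zero_eta,
        Fin.mk_one] <;> grind
  have hne : (so8u4_map F) ^ 2 ≠ 1 := by
    intro h
    have h1 := congrArg (fun f : Module.End F (Fin 2 ⊕ Fin 2 → F) =>
      f (fun i => if i = Sum.inl 1 then 1 else 0) (Sum.inl 0)) h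
    simp only [sq, Module.End.mul_apply, Module.End.one_apply, so8u4_map_apply] at h1
    simp at h1
  have hctx : QCtx 4 (qfPlus 2 F) (so8u4_map F) := by
    refine ⟨?_, hpres, hpow⟩
    intro u hu
    apply hs.nd.1
    intro v
    rw [QuadraticMap.polarBilin_apply_apply]
    exact hu v
  obtain ⟨x, hx, hxy, hxr⟩ := q_realize (qfPlus 2 F) 4 (so8u4_map F) hctx
  refine ⟨x, hx, hxy, ?_⟩
  have : Fact (Nat.Prime 2) := ⟨Nat.prime_two⟩
  have h4 : (4 : ℕ) = 2 ^ (1 + 1) := by norm_num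
  rw [h4]
  apply orderOf_eq_prime_pow
  · intro h
    apply hne
    have := (Cfsg.Agent.Lib.Lead.BCG.gl_same x (2 ^ 1)).1 h
    rw [hxy] at this
    simpa using this
  · rw [← h4]
    exact hxr

/-- `1 + y + y^2 + y^3 ≠ 0` for the realisation -/
theorem s8uoru4_geo {F : Type*} [Field F] [CharP F 2] (x : GL (Fin 2 ⊕ Fin 2) F)
    (hxy : Matrix.toLin' (x : Matrix (Fin 2 ⊕ Fin 2) (Fin 2 ⊕ Fin 2) F) = so8u4_map F) :
    geoM x 4 ≠ 0 := by
  have h2 : (2 : F) = 0 := CharTwo.two_eq_zero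
  intro hzero
  have hy : ∀ (i : ℕ) (v : Fin 2 ⊕ Fin 2 → F),
      ((x ^ i : GL (Fin 2 ⊕ Fin 2) F) : Matrix (Fin 2 ⊕ Fin 2) (Fin 2 ⊕ Fin 2) F) *ᵥ v
        = ((so8u4_map F) ^ i) v := by
    intro i v
    rw [Units.val_pow_eq_pow_val, ← Matrix.toLin'_apply, ← Cfsg.Agent.Lib.Lead.BCG.bcgx4_toLin_pow, hxy]
  have h1 := congrArg (fun M : Matrix (Fin 2 ⊕ Fin 2) (Fin 2 ⊕ Fin 2) F =>
    (M *ᵥ (fun i => if i = Sum.inr 0 then 1 else 0)) (Sum.inl 0)) hzero
  simp only [geoM, Matrix.sum_mulVec, hy, Matrix.zero_mulVec] at h1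
  rw [Finset.sum_range_succ, Finset.sum_range_succ, Finset.sum_range_succ, Finset.sum_range_one] at h1
  have e3 : (so8u4_map F) ^ 3 = so8u4_map F * (so8u4_map F * so8u4_map F) := by
    rw [pow_succ', pow_succ', pow_one]
  have e2 : (so8u4_map F) ^ 2 = so8u4_map F * so8u4_map F := by
    rw [pow_succ', pow_one]
  rw [e3, e2, pow_one, pow_zero] at h1
  simp only [Pi.add_apply, Module.End.mul_apply, Module.End.one_apply, so8u4_map_apply,
    Pi.zero_apply] at h1
  simp at h1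
  rw [one_add_one_eq_two, h2, add_zero] at h1
  exact one_ne_zero h1

/-- ORU4 -/
theorem or_u4 {F : Type*} [Field F] [Fintype F] [CharP F 2] :
    (∃ p : ℕ, OR F 2 1 4 p True) ∧ OR F 2 1 2 0 True := by
  obtain ⟨x, hx, hxy, hord⟩ := s8uoru4_real (F := F)
  have hs : QStd (qfPlus 2 F) 2 1 := q_std_plus 2
  have hgeo := s8uoru4_geo x hxy
  have hord' : orderOf (⟨x, hx⟩ : ↥(Cfsg.isometryGroup F (⇑(qfPlus 2 F)))) = 4 := by
    rw [Subgroup.orderOf_mk]
    exact hord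
  constructor
  · refine ⟨rk (⟨x, hx⟩ : ↥(Cfsg.isometryGroup F (⇑(qfPlus 2 F)))) % 2, Fin 2 ⊕ Fin 2, inferInstance,
      inferInstance, qfPlus 2 F, hs, ⟨x, hx⟩, hord', rfl, fun _ => hgeo⟩
  · refine ⟨Fin 2 ⊕ Fin 2, inferInstance, inferInstance, qfPlus 2 F, hs,
      (⟨x, hx⟩ : ↥(Cfsg.isometryGroup F (⇑(qfPlus 2 F)))) ^ 2, ?_, ?_, ?_⟩
    · rw [orderOf_pow_of_dvd (by norm_num) (by rw [hord']; norm_num), hord']
    · have hd : C2.dickson (qfPlus 2 F) hs.nd
          ((⟨x, hx⟩ : ↥(Cfsg.isometryGroup F (⇑(qfPlus 2 F)))) ^ 2) = 1 := by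
        rw [map_pow, Int.units_sq]
      have hev := (Cfsg.Agent.Lib.helper14.OmegaInv.dickson_eq_one_iff_even (qfPlus 2 F) hs.nd _).mp hd
      exact Nat.even_iff.mp hev
    · intro _ hzero
      have hx2 : x ^ 2 = 1 := by
        apply Units.ext
        have h1 : geoM (((⟨x, hx⟩ : ↥(Cfsg.isometryGroup F (⇑(qfPlus 2 F)))) ^ 2 :
            ↥(Cfsg.isometryGroup F (⇑(qfPlus 2 F)))) : GL (Fin 2 ⊕ Fin 2) F) 2
            = 1 + ((x ^ 2 : GL (Fin 2 ⊕ Fin 2) F) : Matrix (Fin 2 ⊕ Fin 2) (Fin 2 ⊕ Fin 2) F) := by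
          unfold geoM
          rw [Finset.sum_range_succ, Finset.sum_range_one, pow_zero, pow_one]
          rfl
        rw [h1] at hzero
        have h3 : ((x ^ 2 : GL (Fin 2 ⊕ Fin 2) F) : Matrix (Fin 2 ⊕ Fin 2) (Fin 2 ⊕ Fin 2) F)
            = -1 := by
          rw [eq_neg_iff_add_eq_zero, add_comm]
          exact hzero
        rw [h3, Units.val_one]
        ext a b
        simp only [Matrix.neg_apply]
        exact CharTwo.neg_eq _
      have := orderOf_dvd_of_pow_eq_one hx2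
      rw [hord] at this
      omega

end Cfsg.Agent.Lib.Helper1.S8U
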