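import Mathlib
import Cfsg.Agent.Lib.helper8.SubgroupCard
import Cfsg.Agent.Lib.helper8.SylowConj

set_option autoImplicit false

namespace Cfsg.Agent.Lib.helper23

open Cfsg.Agent.Lib.helper8

section General

variable {G : Type*} [Group G] [Finite G] {p : ℕ} [hp : Fact p.Prime]

theorem s21_orbit_stabilizer {H X : Type*} [Group H] [MulAction H X] (b : X) :
    Nat.card (MulAction.orbit H b) * Nat.card (MulAction.stabilizer H b) = Nat.card H := by
  rw [Nat.card_congr (MulAction.orbitEquivQuotientStabilizer H b), ← Subgroup.index_eq_card,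
    mul_comm]
  exact Subgroup.card_mul_index _

/-- two distinct Sylow subgroups meet in a subgroup of index `p` when `n_p ≤ p²` -/
theorem s21_inter_index (hn : Nat.card (Sylow p G) ≤ p * p) (R R' : Sylow p G) (hne : R ≠ R') :
    p * Nat.card ↥((R : Subgroup G) ⊓ (R' : Subgroup G)) = Nat.card ↥(R : Subgroup G) := by
  classical
  have hos := s21_orbit_stabilizer (H := ↥(R : Subgroup G)) R'
  have hst : MulAction.stabilizer (↥(R : Subgroup G)) R' =
      ((R : Subgroup G) ⊓ (R' : Subgroup G)).subgroupOf (R : Subgroup G) := by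
    ext x
    rw [MulAction.mem_stabilizer_iff, Subgroup.mem_subgroupOf]
    have hx : x • R' = (x : G) • R' := rfl
    rw [hx, Sylow.smul_eq_iff_mem_normalizer]
    constructor
    · intro h
      have h2 : (x : G) ∈ (R : Subgroup G) ⊓ Subgroup.normalizer ((R' : Subgroup G) : Set G) :=
        ⟨x.2, h⟩
      have h3 : (R : Subgroup G) ⊓ Subgroup.normalizer ((R' : Subgroup G) : Set G) =
          (R : Subgroup G) ⊓ (R' : Subgroup G) := R.2.inf_normalizer_sylow R'
      rw [h3] at h2
      exact h2
    · intro h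
      exact Subgroup.le_normalizer h.2
  rw [hst, h8_card_subgroupOf inf_le_left] at hos
  obtain ⟨k, hk⟩ := R.2.card_orbit R'
  -- the orbit avoids R
  have hle : Nat.card (MulAction.orbit (↥(R : Subgroup G)) R') + 1 ≤ Nat.card (Sylow p G) := by
    have h1 : Nat.card (MulAction.orbit (↥(R : Subgroup G)) R') ≤
        Nat.card {Q : Sylow p G // Q ≠ R} := by
      apply Nat.card_le_card_of_injective
        (fun a : MulAction.orbit (↥(R : Subgroup G)) R' => (⟨a.1, by
          intro h
          obtain ⟨x, hx⟩ := a.2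
          have hx' : (x : G) • R' = a.1 := hx
          rw [h] at hx'
          apply hne
          have h3 : (x : G)⁻¹ • ((x : G) • R') = (x : G)⁻¹ • R := congrArg (fun Q => (x : G)⁻¹ • Q) hx'
          rw [inv_smul_smul] at h3
          rw [h3]
          symm
          rw [Sylow.smul_eq_iff_mem_normalizer]
          exact Subgroup.le_normalizer ((R : Subgroup G).inv_mem x.2)⟩ : {Q : Sylow p G // Q ≠ R}))
      intro a b hab
      apply Subtype.ext
      exact congrArg (fun z => z.1) hab
    have h2 : Nat.card {Q : Sylow p G // Q ≠ R} + 1 = Nat.card (Sylow p G) := by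
      haveI : Fintype (Sylow p G) := Fintype.ofFinite _
      rw [Nat.card_eq_fintype_card, Nat.card_eq_fintype_card, Fintype.card_subtype_compl,
        Fintype.card_subtype_eq]
      have : 0 < Fintype.card (Sylow p G) := Fintype.card_pos
      omega
    omega
  have hp2 : 2 ≤ p := hp.out.two_le
  -- k ≤ 1
  have hk1 : k ≤ 1 := by
    by_contra h
    have h2 : 2 ≤ k := by omega
    have h3 : p ^ 2 ≤ p ^ k := Nat.pow_le_pow_right (by omega) h2
    rw [hk] at hle
    nlinarith
  interval_cases k
  · -- orbit of size one: R ≤ R'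
    exfalso
    rw [hk, pow_zero, one_mul] at hos
    have h1 : (R : Subgroup G) ⊓ (R' : Subgroup G) = (R : Subgroup G) :=
      Subgroup.eq_of_le_of_card_ge inf_le_left (le_of_eq hos.symm)
    have h2 : (R : Subgroup G) ≤ (R' : Subgroup G) := by
      rw [← h1]; exact inf_le_right
    exact hne (h8_sylow_eq_of_le p R R' h2)
  · rw [hk, pow_one] at hos
    exact hos

omit [Finite G] hp in
theorem s21_ge_of_modEq {q k : ℕ} (h : k ≡ 1 [MOD q]) (h2 : 2 ≤ k) : q + 1 ≤ k := by
  have h3 : q ∣ k - 1 := (Nat.modEq_iff_dvd' (by omega : 1 ≤ k)).mp h.symm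
  have h4 : q ≤ k - 1 := Nat.le_of_dvd (by omega) h3
  omega

/-- Sylow subgroups containing a given `p`-subgroup: their number is `1` mod `p` -/
theorem s21_card_containing (D : Subgroup G) (hD : IsPGroup p D) :
    Nat.card {Q : Sylow p G // D ≤ (Q : Subgroup G)} ≡ 1 [MOD p] := by
  have h1 := hD.card_modEq_card_fixedPoints (Sylow p G)
  have h2 : Nat.card (MulAction.fixedPoints D (Sylow p G)) =
      Nat.card {Q : Sylow p G // D ≤ (Q : Subgroup G)} := by
    apply Nat.card_congr
    apply Equiv.subtypeEquivRight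
    intro Q
    exact hD.sylow_mem_fixedPoints_iff
  rw [h2] at h1
  exact h1.symm.trans (card_sylow_modEq_one p G)

/-- if `1 < n_p ≤ p²` and no nontrivial subgroup lies in all Sylow `p`-subgroups, the Sylow
`p`-subgroups have order `p` -/
theorem s21_card_eq_prime (hn1 : 1 < Nat.card (Sylow p G)) (hn : Nat.card (Sylow p G) ≤ p * p)
    (hcore : ∀ D : Subgroup G, (∀ Q : Sylow p G, D ≤ (Q : Subgroup G)) → D = ⊥) (R : Sylow p G) :
    Nat.card ↥(R : Subgroup G) = p := by
  classical
  haveI : Fintype (Sylow p G) := Fintype.ofFinite _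
  have hp2 : 2 ≤ p := hp.out.two_le
  haveI : Nontrivial (Sylow p G) := Finite.one_lt_card_iff_nontrivial.mp hn1
  obtain ⟨R', hR'⟩ := exists_ne R
  have h1 := s21_inter_index hn R R' hR'.symm
  set D := (R : Subgroup G) ⊓ (R' : Subgroup G) with hD
  by_cases hD1 : Nat.card D = 1
  · rw [hD1, mul_one] at h1
    exact h1.symm
  exfalso
  have hDne : D ≠ ⊥ := fun h => hD1 (by rw [h]; exact Subgroup.card_bot)
  have hex : ∃ γ : Sylow p G, ¬ D ≤ (γ : Subgroup G) := by
    by_contra h
    push Not at h
    exact hDne (hcore D h)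
  obtain ⟨γ, hγ⟩ := hex
  have hcard : ∀ Q Q' : Sylow p G, Nat.card ↥(Q : Subgroup G) = Nat.card ↥(Q' : Subgroup G) :=
    h8_sylow_card_eq p
  have hDp : IsPGroup p D := R.2.to_le inf_le_left
  let L : Finset (Sylow p G) := Finset.univ.filter (fun Q => D ≤ (Q : Subgroup G))
  have hLcard : p + 1 ≤ L.card := by
    have h2 := s21_card_containing D hDp
    have h3 : Nat.card {Q : Sylow p G // D ≤ (Q : Subgroup G)} = L.card := by
      rw [Nat.card_eq_fintype_card, Fintype.card_subtype]
    rw [h3] at h2
    apply s21_ge_of_modEq h2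
    have hsub : ({R, R'} : Finset (Sylow p G)) ⊆ L := by
      intro Q hQ
      simp only [Finset.mem_insert, Finset.mem_singleton] at hQ
      simp only [L, Finset.mem_filter, Finset.mem_univ, true_and]
      rcases hQ with rfl | rfl
      · exact inf_le_left
      · exact inf_le_right
    have h5 := Finset.card_le_card hsub
    rw [Finset.card_pair hR'.symm] at h5
    exact h5
  let s : Finset (Sylow p G) := Finset.univ.filter (fun Q => Q ≠ γ)
  let f : Sylow p G → Subgroup G := fun Q => (γ : Subgroup G) ⊓ (Q : Subgroup G)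
  have hs : s.card + 1 = Nat.card (Sylow p G) := by
    rw [Nat.card_eq_fintype_card]
    have h2 : s = Finset.univ.erase γ := by
      ext Q
      simp [s]
    rw [h2, Finset.card_erase_of_mem (Finset.mem_univ γ), Finset.card_univ]
    have : 0 < Fintype.card (Sylow p G) := Fintype.card_pos
    omega
  have hLs : L ⊆ s := by
    intro Q hQ
    simp only [L, Finset.mem_filter, Finset.mem_univ, true_and] at hQ
    simp only [s, Finset.mem_filter, Finset.mem_univ, true_and]
    intro h
    rw [h] at hQ
    exact hγ hQ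
  have hinj : Set.InjOn f L := by
    intro Q hQ Q' hQ' hff
    by_contra hne
    simp only [L, Finset.coe_filter, Finset.mem_univ, true_and, Set.mem_ofPred_eq] at hQ hQ'
    have hγQ : γ ≠ Q := fun h => hγ (h ▸ hQ)
    have hE : (γ : Subgroup G) ⊓ (Q : Subgroup G) ≤ (Q : Subgroup G) ⊓ (Q' : Subgroup G) := by
      apply le_inf inf_le_right
      have h2 : f Q = f Q' := hff
      have h3 : (γ : Subgroup G) ⊓ (Q : Subgroup G) = f Q := rfl
      rw [h3, h2]
      exact inf_le_right
    have c1 := s21_inter_index hn γ Q hγQ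
    have c2 := s21_inter_index hn Q Q' hne
    have c3 := hcard γ Q
    have hcardeq : Nat.card ↥((Q : Subgroup G) ⊓ (Q' : Subgroup G)) ≤
        Nat.card ↥((γ : Subgroup G) ⊓ (Q : Subgroup G)) := by
      have h2 : p * Nat.card ↥((Q : Subgroup G) ⊓ (Q' : Subgroup G)) =
          p * Nat.card ↥((γ : Subgroup G) ⊓ (Q : Subgroup G)) := by rw [c1, c2, c3]
      exact le_of_eq (Nat.eq_of_mul_eq_mul_left (by omega) h2)
    have hEq : (γ : Subgroup G) ⊓ (Q : Subgroup G) = (Q : Subgroup G) ⊓ (Q' : Subgroup G) :=
      Subgroup.eq_of_le_of_card_ge hE hcardeq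
    have hDQ : D ≤ (Q : Subgroup G) ⊓ (Q' : Subgroup G) := le_inf hQ hQ'
    have c4 : Nat.card ↥((Q : Subgroup G) ⊓ (Q' : Subgroup G)) ≤ Nat.card D := by
      have h2 : p * Nat.card ↥((Q : Subgroup G) ⊓ (Q' : Subgroup G)) = p * Nat.card D := by
        rw [c2, h1, hcard Q R]
      exact le_of_eq (Nat.eq_of_mul_eq_mul_left (by omega) h2)
    have hDeq : D = (Q : Subgroup G) ⊓ (Q' : Subgroup G) := Subgroup.eq_of_le_of_card_ge hDQ c4
    apply hγ
    rw [hDeq, ← hEq]
    exact inf_le_left
  have hfib : ∀ b ∈ s.image f, p ≤ (s.filter (fun a => f a = b)).card := by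
    intro b hb
    obtain ⟨δ₀, hδ₀, rfl⟩ := Finset.mem_image.mp hb
    simp only [s, Finset.mem_filter, Finset.mem_univ, true_and] at hδ₀
    have hEp : IsPGroup p (f δ₀) := γ.2.to_le inf_le_left
    have h2 := s21_card_containing (f δ₀) hEp
    let M : Finset (Sylow p G) := Finset.univ.filter (fun Q => f δ₀ ≤ (Q : Subgroup G))
    have h3 : Nat.card {Q : Sylow p G // f δ₀ ≤ (Q : Subgroup G)} = M.card := by
      rw [Nat.card_eq_fintype_card, Fintype.card_subtype]
    rw [h3] at h2
    have hγM : γ ∈ M := by
      simp only [M, Finset.mem_filter, Finset.mem_univ, true_and]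
      exact inf_le_left
    have hδM : δ₀ ∈ M := by
      simp only [M, Finset.mem_filter, Finset.mem_univ, true_and]
      exact inf_le_right
    have hM2 : p + 1 ≤ M.card := by
      apply s21_ge_of_modEq h2
      have hsub : ({γ, δ₀} : Finset (Sylow p G)) ⊆ M := by
        intro Q hQ
        simp only [Finset.mem_insert, Finset.mem_singleton] at hQ
        rcases hQ with rfl | rfl
        · exact hγM
        · exact hδM
      have h5 := Finset.card_le_card hsub
      rw [Finset.card_pair (Ne.symm hδ₀)] at h5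
      exact h5
    have hsub : M.erase γ ⊆ s.filter (fun a => f a = f δ₀) := by
      intro Q hQ
      rw [Finset.mem_erase] at hQ
      obtain ⟨hQγ, hQM⟩ := hQ
      simp only [M, Finset.mem_filter, Finset.mem_univ, true_and] at hQM
      simp only [s, Finset.mem_filter, Finset.mem_univ, true_and]
      refine ⟨hQγ, ?_⟩
      symm
      apply Subgroup.eq_of_le_of_card_ge (le_inf inf_le_left hQM)
      have c1 := s21_inter_index hn γ Q (Ne.symm hQγ)
      have c2 := s21_inter_index hn γ δ₀ (Ne.symm hδ₀)
      have h4 : p * Nat.card ↥((γ : Subgroup G) ⊓ (Q : Subgroup G)) =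
          p * Nat.card ↥((γ : Subgroup G) ⊓ (δ₀ : Subgroup G)) := by rw [c1, c2]
      exact le_of_eq (Nat.eq_of_mul_eq_mul_left (by omega) h4)
    have h6 := Finset.card_le_card hsub
    rw [Finset.card_erase_of_mem hγM] at h6
    omega
  have h5 := Finset.mul_card_image_le_card s p hfib
  have h6 : L.card ≤ (s.image f).card := by
    rw [← Finset.card_image_of_injOn hinj]
    exact Finset.card_le_card (Finset.image_subset_image hLs)
  have h7 : p * (p + 1) ≤ p * (s.image f).card := Nat.mul_le_mul_left p (le_trans hLcard h6)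
  nlinarith

end General

end Cfsg.Agent.Lib.helper23
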