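import Mathlib
import Cfsg.Agent.Lib.helper23.OrdGen3
import Cfsg.Agent.Lib.Helper18.ConjCount

set_option autoImplicit false

namespace Cfsg.Agent.Lib.helper23

open Cfsg.Agent.Lib.helper8

section General

/-- Burnside count for a subgroup all of whose nonidentity elements have the same number of
fixed points -/
theorem s21_sr_dvd {G X : Type*} [Group G] [MulAction G X] [Finite X] (T : Subgroup G)
    [Finite T] (f : ℕ) (hf : ∀ t ∈ T, t ≠ 1 → Nat.card (MulAction.fixedBy X t) = f) :
    Nat.card T ∣ Nat.card X + (Nat.card T - 1) * f := by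
  classical
  letI : Fintype ↥T := Fintype.ofFinite _
  letI : Fintype X := Fintype.ofFinite _
  letI : Fintype (Quotient (MulAction.orbitRel ↥T X)) := Fintype.ofFinite _
  have hB := MulAction.sum_card_fixedBy_eq_card_orbits_mul_card_group ↥T X
  rw [← Finset.add_sum_erase Finset.univ _ (Finset.mem_univ (1 : ↥T))] at hB
  have h1 : Fintype.card (MulAction.fixedBy X (1 : ↥T)) = Nat.card X := by
    rw [Nat.card_eq_fintype_card]
    apply Fintype.card_congr
    exact (Equiv.subtypeUnivEquiv (fun x => by simp [MulAction.mem_fixedBy]))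
  have h2 : ∀ u ∈ (Finset.univ : Finset ↥T).erase 1,
      Fintype.card (MulAction.fixedBy X u) = f := by
    intro u hu
    have hu1 : u ≠ 1 := (Finset.mem_erase.mp hu).1
    have hu1' : (u : G) ≠ 1 := fun h => hu1 (Subtype.ext h)
    have := hf (u : G) u.2 hu1'
    rw [Nat.card_eq_fintype_card] at this
    rw [← this]
    apply Fintype.card_congr
    exact Equiv.subtypeEquivRight (fun x => by
      rw [MulAction.mem_fixedBy, MulAction.mem_fixedBy]
      exact Iff.rfl)
  rw [h1, Finset.sum_congr rfl h2, Finset.sum_const, smul_eq_mul,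
    Finset.card_erase_of_mem (Finset.mem_univ _), Finset.card_univ,
    ← Nat.card_eq_fintype_card (α := ↥T)] at hB
  rw [hB]
  exact Dvd.intro_left _ rfl

theorem s21_fixedBy_pow_le {G X : Type*} [Group G] [MulAction G X] [Finite X] (c : G) (k : ℕ) :
    Nat.card (MulAction.fixedBy X c) ≤ Nat.card (MulAction.fixedBy X (c ^ k)) := by
  apply Nat.card_le_card_of_injective
    (fun a : MulAction.fixedBy X c =>
      (⟨a.1, by
        have ha : c • a.1 = a.1 := a.2
        have h2 := MulAction.fixedBy_subset_fixedBy_zpow X c (k : ℤ) ha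
        rw [zpow_natCast] at h2
        exact h2⟩ : MulAction.fixedBy X (c ^ k)))
  intro a b hab
  apply Subtype.ext
  exact congrArg (fun z => z.1) hab

theorem s21_two_le_fixed {G X : Type*} [Group G] [MulAction G X] [Finite X] (c : G) (a b : X)
    (hab : a ≠ b) (ha : c • a = a) (hb : c • b = b) :
    2 ≤ Nat.card (MulAction.fixedBy X c) := by
  haveI : Nontrivial (MulAction.fixedBy X c) :=
    ⟨⟨⟨a, ha⟩, ⟨b, hb⟩, fun h => hab (congrArg Subtype.val h)⟩⟩
  exact Finite.one_lt_card

theorem s21_prime_dvd_60 (q : ℕ) (hq : q.Prime) (h : q ∣ 60) : q = 2 ∨ q = 3 ∨ q = 5 := by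
  have h60 : (60 : ℕ) = 2 * (2 * (3 * 5)) := by norm_num
  rw [h60] at h
  rcases (Nat.Prime.dvd_mul hq).mp h with h | h
  · exact Or.inl ((Nat.prime_dvd_prime_iff_eq hq Nat.prime_two).mp h)
  rcases (Nat.Prime.dvd_mul hq).mp h with h | h
  · exact Or.inl ((Nat.prime_dvd_prime_iff_eq hq Nat.prime_two).mp h)
  rcases (Nat.Prime.dvd_mul hq).mp h with h | h
  · exact Or.inr (Or.inl ((Nat.prime_dvd_prime_iff_eq hq Nat.prime_three).mp h))
  · exact Or.inr (Or.inr ((Nat.prime_dvd_prime_iff_eq hq Nat.prime_five).mp h))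

end General

section Main

variable {G : Type*} [Group G] [Finite G] [IsSimpleGroup G] [Fact (Nat.Prime 5)]

/-- the standing hypotheses: a nonabelian simple group with `21` Sylow `5`-subgroups of order `5` -/
structure S21Ctx (P : Sylow 5 G) : Prop where
  hnc : ¬ IsMulCommutative G
  hP : Nat.card (P : Subgroup G) = 5
  hn : Nat.card (Sylow 5 G) = 21

variable {P : Sylow 5 G}

theorem s21_card_X (h : S21Ctx P) :
    Nat.card (G ⧸ Subgroup.normalizer ((P : Subgroup G) : Set G)) = 21 := by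
  rw [← h.hn]; exact P.card_eq_card_quotient_normalizer.symm

theorem s21_N_ne_top (h : S21Ctx P) : Subgroup.normalizer ((P : Subgroup G) : Set G) ≠ ⊤ := by
  intro h1
  have hidx : (Subgroup.normalizer ((P : Subgroup G) : Set G)).index = 21 := by
    rw [← h.hn]; exact (h8_nsylow_eq_index_normalizer 5 P).symm
  rw [h1, Subgroup.index_top] at hidx
  omega

theorem s21_fix_lt (h : S21Ctx P) (c : G) (hc1 : c ≠ 1) :
    Nat.card (MulAction.fixedBy (G ⧸ Subgroup.normalizer ((P : Subgroup G) : Set G)) c) < 21 := by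
  have hle : Nat.card (MulAction.fixedBy
      (G ⧸ Subgroup.normalizer ((P : Subgroup G) : Set G)) c) ≤
      Nat.card (G ⧸ Subgroup.normalizer ((P : Subgroup G) : Set G)) :=
    Finite.card_subtype_le _
  rcases lt_or_eq_of_le hle with h2 | h2
  · rwa [s21_card_X h] at h2
  · exact absurd (og2_eq_one_of_card_fixedBy _ (s21_N_ne_top h) c h2) hc1

theorem s21_fix_pos (c : G) (hc : c ∈ Subgroup.normalizer ((P : Subgroup G) : Set G)) :
    1 ≤ Nat.card (MulAction.fixedBy (G ⧸ Subgroup.normalizer ((P : Subgroup G) : Set G)) c) := by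
  apply Nat.card_pos_iff.mpr
  exact ⟨⟨⟨((1 : G) : G ⧸ Subgroup.normalizer ((P : Subgroup G) : Set G)),
    og2_base_fixed _ c hc⟩⟩, inferInstance⟩

/-- nonidentity elements of the centralizer fix `1`, `6`, `11` or `16` points -/
theorem s21_fix_cent (h : S21Ctx P) (c : G)
    (hc : c ∈ Subgroup.centralizer ((P : Subgroup G) : Set G)) (hc1 : c ≠ 1) :
    Nat.card (MulAction.fixedBy (G ⧸ Subgroup.normalizer ((P : Subgroup G) : Set G)) c) = 1 ∨
    Nat.card (MulAction.fixedBy (G ⧸ Subgroup.normalizer ((P : Subgroup G) : Set G)) c) = 6 ∨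
    Nat.card (MulAction.fixedBy (G ⧸ Subgroup.normalizer ((P : Subgroup G) : Set G)) c) = 11 ∨
    Nat.card (MulAction.fixedBy (G ⧸ Subgroup.normalizer ((P : Subgroup G) : Set G)) c) = 16 := by
  have h1 := og2_card_fixedBy_modEq_one 5 P h.hP c hc
  have h2 := s21_fix_lt h c hc1
  unfold Nat.ModEq at h1
  omega

theorem s21_fix_invol (h : S21Ctx P) (c : G)
    (hc : c ∈ Subgroup.centralizer ((P : Subgroup G) : Set G)) (hc2 : orderOf c = 2) :
    Nat.card (MulAction.fixedBy (G ⧸ Subgroup.normalizer ((P : Subgroup G) : Set G)) c) = 1 := by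
  have hc1 : c ≠ 1 := by
    intro h1
    rw [h1, orderOf_one] at hc2
    omega
  have h1 := s21_fix_cent h c hc hc1
  have h2 := h8_simple_involution_fixed
    (X := G ⧸ Subgroup.normalizer ((P : Subgroup G) : Set G)) h.hnc c
    (by rw [← hc2]; exact pow_orderOf_eq_one _)
  rw [s21_card_X h] at h2
  obtain ⟨k, hk⟩ := h2
  omega

theorem s21_fix_two (h : S21Ctx P) (c : G)
    (hc : c ∈ Subgroup.centralizer ((P : Subgroup G) : Set G)) (hc1 : c ≠ 1) (k : ℕ)
    (hk : orderOf c = 2 ^ k) :
    Nat.card (MulAction.fixedBy (G ⧸ Subgroup.normalizer ((P : Subgroup G) : Set G)) c) = 1 := by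
  have hk0 : k ≠ 0 := by
    intro h0
    rw [h0, pow_zero] at hk
    exact hc1 (orderOf_eq_one_iff.mp hk)
  have h2 : 2 ∣ orderOf c := by
    rw [hk]; exact dvd_pow_self 2 hk0
  have ho : orderOf (c ^ (orderOf c / 2)) = 2 :=
    orderOf_pow_orderOf_div (by rw [hk]; positivity) h2
  have h3 := s21_fix_invol h (c ^ (orderOf c / 2)) (Subgroup.pow_mem _ hc _) ho
  have h4 := s21_fixedBy_pow_le
    (X := G ⧸ Subgroup.normalizer ((P : Subgroup G) : Set G)) c (orderOf c / 2)
  have h5 := s21_fix_pos (P := P) c (Subgroup.centralizer_le_normalizer _ hc)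
  omega

theorem s21_fix_three (h : S21Ctx P) (c : G)
    (hc : c ∈ Subgroup.centralizer ((P : Subgroup G) : Set G)) (hc1 : c ≠ 1) (k : ℕ)
    (hk : orderOf c = 3 ^ k) :
    Nat.card (MulAction.fixedBy (G ⧸ Subgroup.normalizer ((P : Subgroup G) : Set G)) c) = 6 := by
  haveI : Fact (Nat.Prime 3) := ⟨Nat.prime_three⟩
  have hd3 : IsPGroup 3 (Subgroup.zpowers c) := by
    apply IsPGroup.of_card (n := k)
    rw [Nat.card_zpowers, hk]
  have h1 := s35_card_fixedBy_modEq
    (α := G ⧸ Subgroup.normalizer ((P : Subgroup G) : Set G)) c hd3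
  rw [s21_card_X h] at h1
  have h2 := s21_fix_cent h c hc hc1
  unfold Nat.ModEq at h1
  omega

theorem s21_prime_cent (h : S21Ctx P) (q : ℕ) (hq : q.Prime)
    (hd : q ∣ Nat.card (Subgroup.centralizer ((P : Subgroup G) : Set G))) :
    q = 2 ∨ q = 3 ∨ q = 5 := by
  haveI : Fact q.Prime := ⟨hq⟩
  obtain ⟨c', hc'⟩ := exists_prime_orderOf_dvd_card' q hd
  have hcq : orderOf (c' : G) = q := by rw [Subgroup.orderOf_coe]; exact hc'
  have hc1 : (c' : G) ≠ 1 := by
    intro h1
    rw [h1, orderOf_one] at hcq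
    exact hq.one_lt.ne hcq
  have hdq : IsPGroup q (Subgroup.zpowers (c' : G)) := by
    apply IsPGroup.of_card (n := 1)
    rw [Nat.card_zpowers, hcq, pow_one]
  have h1 := s35_card_fixedBy_modEq
    (α := G ⧸ Subgroup.normalizer ((P : Subgroup G) : Set G)) (c' : G) hdq
  rw [s21_card_X h] at h1
  have h2 := s21_fix_cent h (c' : G) c'.2 hc1
  have h3 : q ∣ 21 - Nat.card (MulAction.fixedBy
      (G ⧸ Subgroup.normalizer ((P : Subgroup G) : Set G)) (c' : G)) :=
    (Nat.modEq_iff_dvd' (by rcases h2 with h2 | h2 | h2 | h2 <;> omega)).mp h1.symm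
  apply s21_prime_dvd_60 q hq
  rcases h2 with h2 | h2 | h2 | h2 <;> rw [h2] at h3
  · exact dvd_trans h3 (by norm_num)
  · exact dvd_trans h3 (by norm_num)
  · exact dvd_trans h3 (by norm_num)
  · exact dvd_trans h3 (by norm_num)

theorem s21_fact5 (h : S21Ctx P) : (Nat.card G).factorization 5 = 1 := by
  have h1 := P.card_eq_multiplicity
  rw [h.hP] at h1
  have h2 : 5 ^ 1 = 5 ^ (Nat.card G).factorization 5 := by rw [pow_one]; exact h1
  exact (Nat.pow_right_injective (by norm_num : 2 ≤ 5) h2).symm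

/-- a `2`-subgroup of the centralizer has order dividing `4` -/
theorem s21_two_sub (h : S21Ctx P) (T : Subgroup G)
    (hT : T ≤ Subgroup.centralizer ((P : Subgroup G) : Set G)) (k : ℕ)
    (hk : Nat.card T = 2 ^ k) : Nat.card T ∣ 20 := by
  have h1 := s21_sr_dvd (X := G ⧸ Subgroup.normalizer ((P : Subgroup G) : Set G)) T 1 (by
    intro t ht ht1
    have h2 : orderOf t ∣ 2 ^ k := by rw [← hk]; exact Subgroup.orderOf_dvd_natCard T ht
    obtain ⟨j, -, hj⟩ := (Nat.dvd_prime_pow Nat.prime_two).mp h2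
    exact s21_fix_two h t (hT ht) ht1 j hj)
  rw [s21_card_X h] at h1
  have hpos : 1 ≤ Nat.card T := Nat.card_pos
  have h3 : 21 + (Nat.card T - 1) * 1 = 20 + Nat.card T := by omega
  rw [h3] at h1
  exact (Nat.dvd_add_left (dvd_refl _)).mp h1

/-- a `3`-subgroup of the centralizer has order dividing `15` -/
theorem s21_three_sub (h : S21Ctx P) (T : Subgroup G)
    (hT : T ≤ Subgroup.centralizer ((P : Subgroup G) : Set G)) (k : ℕ)
    (hk : Nat.card T = 3 ^ k) : Nat.card T ∣ 15 := by
  have h1 := s21_sr_dvd (X := G ⧸ Subgroup.normalizer ((P : Subgroup G) : Set G)) T 6 (by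
    intro t ht ht1
    have h2 : orderOf t ∣ 3 ^ k := by rw [← hk]; exact Subgroup.orderOf_dvd_natCard T ht
    obtain ⟨j, -, hj⟩ := (Nat.dvd_prime_pow Nat.prime_three).mp h2
    exact s21_fix_three h t (hT ht) ht1 j hj)
  rw [s21_card_X h] at h1
  have hpos : 1 ≤ Nat.card T := Nat.card_pos
  have h3 : 21 + (Nat.card T - 1) * 6 = 15 + Nat.card T * 6 := by omega
  rw [h3] at h1
  exact (Nat.dvd_add_left (Dvd.intro _ rfl)).mp h1

theorem s21_card_cent_dvd (h : S21Ctx P) :
    Nat.card (Subgroup.centralizer ((P : Subgroup G) : Set G)) ∣ 60 := by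
  rw [Nat.dvd_iff_prime_pow_dvd_dvd]
  intro q k hq hqk
  haveI : Fact q.Prime := ⟨hq⟩
  by_cases hk0 : k = 0
  · rw [hk0, pow_zero]; exact one_dvd _
  have hqd : q ∣ Nat.card (Subgroup.centralizer ((P : Subgroup G) : Set G)) :=
    dvd_trans (dvd_pow_self q hk0) hqk
  obtain ⟨K, hK⟩ := Sylow.exists_subgroup_card_pow_prime q hqk
  have hT : K.map (Subgroup.centralizer ((P : Subgroup G) : Set G)).subtype ≤
      Subgroup.centralizer ((P : Subgroup G) : Set G) := Subgroup.map_subtype_le K
  have hTc : Nat.card (K.map (Subgroup.centralizer ((P : Subgroup G) : Set G)).subtype) = q ^ k := by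
    rw [Subgroup.card_subtype, hK]
  rcases s21_prime_cent h q hq hqd with rfl | rfl | rfl
  · have := s21_two_sub h _ hT k hTc
    rw [hTc] at this
    exact dvd_trans this (by norm_num)
  · have := s21_three_sub h _ hT k hTc
    rw [hTc] at this
    exact dvd_trans this (by norm_num)
  · have h1 : 5 ^ k ∣ Nat.card G := dvd_trans hqk (Subgroup.card_subgroup_dvd_card _)
    have h2 := (Nat.Prime.pow_dvd_iff_le_factorization hq Nat.card_pos.ne').mp h1
    rw [s21_fact5 h] at h2
    have h3 : 5 ^ k ∣ 5 ^ 1 := pow_dvd_pow 5 h2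
    exact dvd_trans h3 (by norm_num)

theorem s21_P_le_C (h : S21Ctx P) :
    (P : Subgroup G) ≤ Subgroup.centralizer ((P : Subgroup G) : Set G) := by
  haveI : IsCyclic (P : Subgroup G) := isCyclic_of_prime_card h.hP
  exact Subgroup.le_centralizer_iff_isMulCommutative.mpr inferInstance

/-- an element commuting with an element of order `5` fixes `1 mod 5` points -/
theorem s21_fix_commute (h : S21Ctx P) (c y : G) (hy : orderOf y = 5) (hcy : Commute c y) :
    Nat.card (MulAction.fixedBy (G ⧸ Subgroup.normalizer ((P : Subgroup G) : Set G)) c)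
      ≡ 1 [MOD 5] := by
  have hyp : IsPGroup 5 (Subgroup.zpowers y) := by
    apply IsPGroup.of_card (n := 1)
    rw [Nat.card_zpowers, hy, pow_one]
  have h1 := og2_card_fixedBy_modEq_of_commute
    (X := G ⧸ Subgroup.normalizer ((P : Subgroup G) : Set G)) c y hcy hyp
  have h2 : Nat.card {x : G ⧸ Subgroup.normalizer ((P : Subgroup G) : Set G) //
      c • x = x ∧ y • x = x} = 1 := by
    rw [Nat.card_eq_one_iff_unique]
    have ha := Cfsg.Agent.S1018.part_a 5 P h.hP y hy
    rw [Nat.card_eq_one_iff_unique] at ha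
    obtain ⟨hs, ⟨x0⟩⟩ := ha
    have hx0 : y • x0.1 = x0.1 := x0.2
    refine ⟨⟨fun a b => ?_⟩, ⟨⟨x0.1, ?_, hx0⟩⟩⟩
    · apply Subtype.ext
      have := hs.elim (⟨a.1, a.2.2⟩ : MulAction.fixedBy _ y) ⟨b.1, b.2.2⟩
      have h2 := congrArg Subtype.val this
      exact h2
    · have h3 : y • (c • x0.1) = c • x0.1 := by
        rw [← mul_smul, ← hcy.eq, mul_smul, hx0]
      have := hs.elim (⟨c • x0.1, h3⟩ : MulAction.fixedBy _ y) x0
      have h4 := congrArg Subtype.val this
      exact h4
  rw [h2] at h1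
  exact h1

/-- an involution of the normalizer outside the centralizer inverts `P` -/
theorem s21_invol_inverts (h : S21Ctx P) (g : G)
    (hgN : g ∈ Subgroup.normalizer ((P : Subgroup G) : Set G)) (hg2 : g ^ 2 = 1)
    (hgC : g ∉ Subgroup.centralizer ((P : Subgroup G) : Set G)) (y : G)
    (hy : y ∈ (P : Subgroup G)) : g * y * g⁻¹ = y⁻¹ := by
  have hPC := s21_P_le_C h
  have hy' : g * y * g⁻¹ ∈ (P : Subgroup G) := (Subgroup.mem_normalizer_iff.mp hgN y).mp hy
  have hzP : y * (g * y * g⁻¹) ∈ (P : Subgroup G) := (P : Subgroup G).mul_mem hy hy'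
  by_contra hne
  have hz1 : y * (g * y * g⁻¹) ≠ 1 := by
    intro h1
    exact hne (eq_inv_of_mul_eq_one_right h1)
  have hzp := h8_zpowers_eq_of_prime_card 5 Fact.out (P : Subgroup G) h.hP _ hzP hz1
  have hgz : g * (y * (g * y * g⁻¹)) * g⁻¹ = y * (g * y * g⁻¹) := by
    have e1 : g * (y * (g * y * g⁻¹)) * g⁻¹ = (g * y * g⁻¹) * (g * g * y * (g⁻¹ * g⁻¹)) := by
      group
    rw [e1]
    have e2 : g * g = 1 := by rw [← pow_two]; exact hg2
    have e3 : g⁻¹ * g⁻¹ = 1 := by rw [← mul_inv_rev, e2, inv_one]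
    rw [e2, e3, one_mul, mul_one]
    exact (Subgroup.mem_centralizer_iff.mp (hPC hy') y hy).symm
  have hcomm : Commute g (y * (g * y * g⁻¹)) := mul_inv_eq_iff_eq_mul.mp hgz
  apply hgC
  rw [Subgroup.mem_centralizer_iff]
  intro x hx
  have hx' : x ∈ Subgroup.zpowers (y * (g * y * g⁻¹)) := by rw [hzp]; exact hx
  obtain ⟨k, rfl⟩ := Subgroup.mem_zpowers_iff.mp hx'
  exact (hcomm.zpow_right k).eq.symm

theorem s21_invol_quot (h : S21Ctx P) (g g' : G)
    (hgN : g ∈ Subgroup.normalizer ((P : Subgroup G) : Set G)) (hg2 : g ^ 2 = 1)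
    (hgC : g ∉ Subgroup.centralizer ((P : Subgroup G) : Set G))
    (hgN' : g' ∈ Subgroup.normalizer ((P : Subgroup G) : Set G)) (hg2' : g' ^ 2 = 1)
    (hgC' : g' ∉ Subgroup.centralizer ((P : Subgroup G) : Set G)) :
    g⁻¹ * g' ∈ Subgroup.centralizer ((P : Subgroup G) : Set G) := by
  rw [Subgroup.mem_centralizer_iff]
  intro y hy
  have e1 := s21_invol_inverts h g hgN hg2 hgC y hy
  have e2 := s21_invol_inverts h g' hgN' hg2' hgC' y hy
  have e3 : g * y * g⁻¹ = g' * y * g'⁻¹ := by rw [e1, e2]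
  calc y * (g⁻¹ * g') = g⁻¹ * (g * y * g⁻¹) * g' := by group
    _ = g⁻¹ * (g' * y * g'⁻¹) * g' := by rw [e3]
    _ = g⁻¹ * g' * y := by group

/-- the stabilizer in the centralizer of a second point has order at most `3` -/
theorem s21_stab_cent (h : S21Ctx P)
    (β : G ⧸ Subgroup.normalizer ((P : Subgroup G) : Set G))
    (hβ : β ≠ ((1 : G) : G ⧸ Subgroup.normalizer ((P : Subgroup G) : Set G))) :
    Nat.card ↥(Subgroup.centralizer ((P : Subgroup G) : Set G) ⊓ MulAction.stabilizer G β) ≤ 3 := by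
  haveI : Fact (Nat.Prime 2) := ⟨Nat.prime_two⟩
  have hD60 : Nat.card ↥(Subgroup.centralizer ((P : Subgroup G) : Set G) ⊓
      MulAction.stabilizer G β) ∣ 60 :=
    dvd_trans (Subgroup.card_dvd_of_le inf_le_left) (s21_card_cent_dvd h)
  have hfix : ∀ d ∈ Subgroup.centralizer ((P : Subgroup G) : Set G) ⊓ MulAction.stabilizer G β,
      2 ≤ Nat.card (MulAction.fixedBy
        (G ⧸ Subgroup.normalizer ((P : Subgroup G) : Set G)) d) := by
    intro d hd
    exact s21_two_le_fixed d _ β hβ.symm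
      (og2_base_fixed _ d (Subgroup.centralizer_le_normalizer _ hd.1)) hd.2
  have h2 : ¬ 2 ∣ Nat.card ↥(Subgroup.centralizer ((P : Subgroup G) : Set G) ⊓
      MulAction.stabilizer G β) := by
    intro h2
    obtain ⟨d, hd⟩ := exists_prime_orderOf_dvd_card' 2 h2
    have hd2 : orderOf (d : G) = 2 := by rw [Subgroup.orderOf_coe]; exact hd
    have h3 := s21_fix_invol h (d : G) d.2.1 hd2
    have h4 := hfix (d : G) d.2
    omega
  have h5 : ¬ 5 ∣ Nat.card ↥(Subgroup.centralizer ((P : Subgroup G) : Set G) ⊓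
      MulAction.stabilizer G β) := by
    intro h5
    obtain ⟨d, hd⟩ := exists_prime_orderOf_dvd_card' 5 h5
    have hd2 : orderOf (d : G) = 5 := by rw [Subgroup.orderOf_coe]; exact hd
    have h3 := Cfsg.Agent.S1018.part_a 5 P h.hP (d : G) hd2
    have h4 := hfix (d : G) d.2
    omega
  have hle : Nat.card ↥(Subgroup.centralizer ((P : Subgroup G) : Set G) ⊓
      MulAction.stabilizer G β) ≤ 60 := Nat.le_of_dvd (by norm_num) hD60
  generalize Nat.card ↥(Subgroup.centralizer ((P : Subgroup G) : Set G) ⊓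
      MulAction.stabilizer G β) = n at *
  interval_cases n <;> omega

/-- an involution of the normalizer with five fixed points has at most `15` conjugates there -/
theorem s21_conj_count (h : S21Ctx P) (u : G) (hu2 : orderOf u = 2)
    (hfu : Nat.card (MulAction.fixedBy
      (G ⧸ Subgroup.normalizer ((P : Subgroup G) : Set G)) u) = 5) :
    Nat.card {g : G // IsConj u g ∧ g ∈ Subgroup.normalizer ((P : Subgroup G) : Set G)} ≤ 15 := by
  classical
  letI : Fintype G := Fintype.ofFinite G
  letI : Fintype (G ⧸ Subgroup.normalizer ((P : Subgroup G) : Set G)) := Fintype.ofFinite _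
  set N := Subgroup.normalizer ((P : Subgroup G) : Set G) with hN
  set C := Subgroup.centralizer ((P : Subgroup G) : Set G) with hC
  let s : Finset G := Finset.univ.filter (fun g => IsConj u g ∧ g ∈ N)
  let t : Finset (G ⧸ N) := Finset.univ.filter (fun β => β ≠ ((1 : G) : G ⧸ N))
  have hs : Nat.card {g : G // IsConj u g ∧ g ∈ N} = s.card := by
    rw [Nat.card_eq_fintype_card, Fintype.card_subtype]
  have ht : t.card = 20 := by
    have h1 : t = Finset.univ.erase ((1 : G) : G ⧸ N) := by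
      ext β
      simp [t]
    rw [h1, Finset.card_erase_of_mem (Finset.mem_univ _), Finset.card_univ,
      ← Nat.card_eq_fintype_card, s21_card_X h]
  -- facts on members of s
  have hmem : ∀ a ∈ s, a ∈ N ∧ a ^ 2 = 1 ∧ a ∉ C ∧
      Nat.card (MulAction.fixedBy (G ⧸ N) a) = 5 := by
    intro a ha
    simp only [s, Finset.mem_filter, Finset.mem_univ, true_and] at ha
    have ho : orderOf a = 2 := by rw [og_orderOf_of_isConj ha.1]; exact hu2
    have hf : Nat.card (MulAction.fixedBy (G ⧸ N) a) = 5 := by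
      rw [og_card_fixedBy_of_isConj ha.1]; exact hfu
    refine ⟨ha.2, by rw [← ho]; exact pow_orderOf_eq_one _, ?_, hf⟩
    intro hc
    have h1 : Nat.card (MulAction.fixedBy (G ⧸ N) a) = 1 := s21_fix_invol h a hc ho
    omega
  have key := Finset.card_mul_le_card_mul (fun (g : G) (β : G ⧸ N) => g • β = β) (s := s) (t := t)
    (m := 4) (n := 3) ?_ ?_
  · rw [ht] at key
    rw [hs]
    omega
  · intro a ha
    obtain ⟨haN, -, -, hfa⟩ := hmem a ha
    have h1 : Finset.bipartiteAbove (fun (g : G) (β : G ⧸ N) => g • β = β) t a =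
        (Finset.univ.filter (fun β : G ⧸ N => a • β = β)).erase ((1 : G) : G ⧸ N) := by
      ext β
      simp only [Finset.bipartiteAbove, t, Finset.mem_filter, Finset.mem_univ, true_and,
        Finset.mem_erase]
    have h2 : (Finset.univ.filter (fun β : G ⧸ N => a • β = β)).card = 5 := by
      rw [← hfa, Nat.card_eq_fintype_card, Fintype.card_subtype]
      rfl
    have h3 : ((1 : G) : G ⧸ N) ∈ Finset.univ.filter (fun β : G ⧸ N => a • β = β) := by
      simp only [Finset.mem_filter, Finset.mem_univ, true_and]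
      exact og2_base_fixed N a haN
    rw [h1, Finset.card_erase_of_mem h3, h2]
  · intro b hb
    simp only [t, Finset.mem_filter, Finset.mem_univ, true_and] at hb
    have hDb := s21_stab_cent h b hb
    by_cases hemp : Finset.bipartiteBelow (fun (g : G) (β : G ⧸ N) => g • β = β) s b = ∅
    · rw [hemp]; simp
    obtain ⟨a0, ha0⟩ := Finset.nonempty_iff_ne_empty.mpr hemp
    simp only [Finset.bipartiteBelow, Finset.mem_filter] at ha0
    obtain ⟨ha0N, ha02, ha0C, -⟩ := hmem a0 ha0.1
    have hD : Nat.card ↥(C ⊓ MulAction.stabilizer G b) =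
        (Finset.univ.filter (fun g : G => g ∈ C ⊓ MulAction.stabilizer G b)).card := by
      rw [Nat.card_eq_fintype_card, Fintype.card_subtype]
    rw [hD] at hDb
    refine le_trans (Finset.card_le_card_of_injOn (fun a => a0⁻¹ * a) ?_ ?_) hDb
    · intro a ha
      simp only [Finset.bipartiteBelow, Finset.coe_filter, Set.mem_ofPred_eq] at ha
      obtain ⟨haN, ha2, haC, -⟩ := hmem a ha.1
      simp only [Finset.coe_filter, Finset.mem_univ, true_and, Set.mem_ofPred_eq]
      refine ⟨s21_invol_quot h a0 a ha0N ha02 ha0C haN ha2 haC, ?_⟩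
      show a0⁻¹ * a ∈ MulAction.stabilizer G b
      rw [MulAction.mem_stabilizer_iff, mul_smul, ha.2, inv_smul_eq_iff, ha0.2]
    · intro a _ a' _ haa
      exact mul_left_cancel haa

/-- no involution of the normalizer has exactly five fixed points -/
theorem s21_no_invol5 (h : S21Ctx P) (u : G)
    (huN : u ∈ Subgroup.normalizer ((P : Subgroup G) : Set G)) (hu2 : orderOf u = 2)
    (hfu : Nat.card (MulAction.fixedBy
      (G ⧸ Subgroup.normalizer ((P : Subgroup G) : Set G)) u) = 5) : False := by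
  have hS := Cfsg.Agent.S1019.result (Subgroup.normalizer ((P : Subgroup G) : Set G)) u huN
  have hidx : (Subgroup.normalizer ((P : Subgroup G) : Set G)).index = 21 := by
    rw [← h.hn]; exact (h8_nsylow_eq_index_normalizer 5 P).symm
  rw [hidx, hfu] at hS
  have hm15 := s21_conj_count h u hu2 hfu
  have hm1 : 1 ≤ Nat.card {g : G // IsConj u g ∧
      g ∈ Subgroup.normalizer ((P : Subgroup G) : Set G)} := by
    apply Nat.card_pos_iff.mpr
    exact ⟨⟨⟨u, IsConj.refl _, huN⟩⟩, inferInstance⟩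
  have hk := Cfsg.Agent.Lib.Helper18.card_isConj_mul_card_centralizer u
  have h5k : ¬ 5 ∣ Nat.card {g : G // IsConj u g} := by
    rintro ⟨k', hk'⟩
    omega
  have h5G : 5 ∣ Nat.card G := by
    have := Subgroup.card_subgroup_dvd_card (P : Subgroup G)
    rwa [h.hP] at this
  have h5C : 5 ∣ Nat.card (Subgroup.centralizer ({u} : Set G)) := by
    rw [← hk] at h5G
    exact ((Nat.Prime.dvd_mul Fact.out).mp h5G).resolve_left h5k
  obtain ⟨y', hy'⟩ := exists_prime_orderOf_dvd_card' 5 h5C
  have hy5 : orderOf (y' : G) = 5 := by rw [Subgroup.orderOf_coe]; exact hy'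
  have hcomm : Commute u (y' : G) :=
    Subgroup.mem_centralizer_iff.mp y'.2 u (Set.mem_singleton u)
  have h1 := s21_fix_commute h u (y' : G) hy5 hcomm
  rw [hfu] at h1
  exact absurd h1 (by decide)

theorem s21_not_eight_dvd (h : S21Ctx P) :
    ¬ 8 ∣ Nat.card (Subgroup.normalizer ((P : Subgroup G) : Set G)) := by
  intro h8
  haveI : Fact (Nat.Prime 2) := ⟨Nat.prime_two⟩
  obtain ⟨K, hK⟩ := Sylow.exists_subgroup_card_pow_prime 2 (n := 3) (by simpa using h8)
  have hTN : K.map (Subgroup.normalizer ((P : Subgroup G) : Set G)).subtype ≤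
      Subgroup.normalizer ((P : Subgroup G) : Set G) := Subgroup.map_subtype_le K
  have hTc : Nat.card (K.map (Subgroup.normalizer ((P : Subgroup G) : Set G)).subtype) = 8 := by
    rw [Subgroup.card_subtype]
    exact hK.trans (by norm_num)
  have hex : ∃ t ∈ K.map (Subgroup.normalizer ((P : Subgroup G) : Set G)).subtype, t ≠ 1 ∧
      Nat.card (MulAction.fixedBy
        (G ⧸ Subgroup.normalizer ((P : Subgroup G) : Set G)) t) ≠ 1 := by
    by_contra hcon
    push Not at hcon
    have := s21_sr_dvd (X := G ⧸ Subgroup.normalizer ((P : Subgroup G) : Set G)) _ 1 hcon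
    rw [hTc, s21_card_X h] at this
    omega
  obtain ⟨t, htT, ht1, hft⟩ := hex
  have htN := hTN htT
  have hft2 : 2 ≤ Nat.card (MulAction.fixedBy
      (G ⧸ Subgroup.normalizer ((P : Subgroup G) : Set G)) t) := by
    have := s21_fix_pos (P := P) t htN
    omega
  have ho : orderOf t ∣ 8 := by rw [← hTc]; exact Subgroup.orderOf_dvd_natCard _ htT
  have h2o : 2 ∣ orderOf t := by
    have h1 : orderOf t ≠ 1 := fun h => ht1 (orderOf_eq_one_iff.mp h)
    have h2 : orderOf t ≤ 8 := Nat.le_of_dvd (by norm_num) ho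
    generalize orderOf t = n at *
    interval_cases n <;> omega
  have hu2 : orderOf (t ^ (orderOf t / 2)) = 2 :=
    orderOf_pow_orderOf_div (orderOf_pos t).ne' h2o
  have huN : t ^ (orderOf t / 2) ∈ Subgroup.normalizer ((P : Subgroup G) : Set G) :=
    Subgroup.pow_mem _ htN _
  have hfu2 : 2 ≤ Nat.card (MulAction.fixedBy
      (G ⧸ Subgroup.normalizer ((P : Subgroup G) : Set G)) (t ^ (orderOf t / 2))) :=
    le_trans hft2 (s21_fixedBy_pow_le t _)
  have huC : t ^ (orderOf t / 2) ∉ Subgroup.centralizer ((P : Subgroup G) : Set G) := by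
    intro hc
    have := s21_fix_invol h _ hc hu2
    omega
  have hle := Cfsg.Agent.S1018.part_b 5 P h.hP _ huN huC
  have horb := h8_card_orbits_sylow_prime 5 P h.hP
  rw [h.hn] at horb
  have hpar := h8_simple_involution_fixed
    (X := G ⧸ Subgroup.normalizer ((P : Subgroup G) : Set G)) h.hnc (t ^ (orderOf t / 2))
    (by have h1 := pow_orderOf_eq_one (t ^ (orderOf t / 2)); rwa [hu2] at h1)
  rw [s21_card_X h] at hpar
  have hfu : Nat.card (MulAction.fixedBy
      (G ⧸ Subgroup.normalizer ((P : Subgroup G) : Set G)) (t ^ (orderOf t / 2))) = 5 := by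
    obtain ⟨k, hk⟩ := hpar
    omega
  exact s21_no_invol5 h _ huN hu2 hfu

end Main

end Cfsg.Agent.Lib.helper23
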