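import Mathlib
import Cfsg.Agent.Lib.helper23.Syl21a
import Cfsg.Agent.Lib.helper23.Syl21b
import Cfsg.Agent.S4303

set_option autoImplicit false

namespace Cfsg.Agent.Lib.helper23

open Cfsg.Agent.Lib.helper8

section Orders

variable {G : Type*} [Group G] [Finite G] [IsSimpleGroup G]

theorem s21_two_odd (m : ℕ) (hG : Nat.card G = 2 ^ 1 * m) (hm : ¬ 2 ∣ m) (hm1 : 1 < m) :
    False := by
  haveI : Fact (Nat.Prime 2) := ⟨Nat.prime_two⟩
  obtain ⟨P⟩ : Nonempty (Sylow 2 G) := inferInstance
  obtain ⟨-, -, -, r, hr, hr1, -⟩ := og3_sylow_data 2 m hG hm hm1 P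
  have h1 : r ∣ 1 := hr
  exact hr1 (Nat.dvd_one.mp h1)

theorem s21_seven (hnc : ¬ IsMulCommutative G) (m : ℕ) (hm : m = 60 ∨ m = 180)
    (hG : Nat.card G = 7 ^ 1 * m) : False := by
  haveI : Fact (Nat.Prime 7) := ⟨by norm_num⟩
  have hnd : ¬ 7 ∣ m := by rcases hm with rfl | rfl <;> norm_num
  have hm1 : 1 < m := by rcases hm with rfl | rfl <;> norm_num
  obtain ⟨P⟩ : Nonempty (Sylow 7 G) := inferInstance
  obtain ⟨hP, hN, hX, r, hr6, hr1, hC⟩ := og3_sylow_data 7 m hG hnd hm1 P
  have hr : r = 2 ∨ r = 3 ∨ r = 6 := by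
    have hr6' : r ∣ 6 := hr6
    have hmem : r ∈ Nat.divisors 6 := Nat.mem_divisors.mpr ⟨hr6', by norm_num⟩
    have e6 : Nat.divisors 6 = {1, 2, 3, 6} := by decide +kernel
    rw [e6] at hmem
    simp only [Finset.mem_insert, Finset.mem_singleton] at hmem
    rcases hmem with h | h | h | h
    · exact absurd h hr1
    · exact Or.inl h
    · exact Or.inr (Or.inl h)
    · exact Or.inr (Or.inr h)
  have hdvd := h8_nsylow_dvd (G := G) 7 1 m hG hnd
  have hmod := h8_nsylow_mod (G := G) 7
  have hne := h8_simple_nsylow_ne_one (G := G) 7 1 m hG hnd (by norm_num) hm1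
  have hdvd180 : Nat.card (Sylow 7 G) ∣ 180 := by
    rcases hm with rfl | rfl
    · exact dvd_trans hdvd (by norm_num)
    · exact hdvd
  have hn : Nat.card (Sylow 7 G) = 15 ∨ Nat.card (Sylow 7 G) = 36 := by
    have hle : Nat.card (Sylow 7 G) ≤ 180 := Nat.le_of_dvd (by norm_num) hdvd180
    clear hN hX hdvd
    generalize Nat.card (Sylow 7 G) = n at *
    interval_cases n <;> omega
  rw [hG] at hN
  rcases hn with hn | hn
  · rw [hn] at hN
    have hC2 : 2 ∣ Nat.card (Subgroup.centralizer ((P : Subgroup G) : Set G)) := by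
      rcases hm with rfl | rfl <;> rcases hr with h | h | h <;> rw [h] at hC <;> omega
    obtain ⟨c, hcC, hc2, f, hf, hf7, hf4, hflt, hrest⟩ :=
      og3_invol_package hnc 7 ⟨3, by norm_num⟩ P hP hC2 (by rw [hn]; norm_num)
    rw [hn] at hf4 hflt
    unfold Nat.ModEq at hf7
    obtain ⟨k, hk⟩ := hf4
    omega
  · rw [hn] at hN
    rcases hm with rfl | rfl <;> rcases hr with h | h | h <;> rw [h] at hC <;> omega

theorem s21_main [Fact (Nat.Prime 5)] (P : Sylow 5 G) (h : S21Ctx P) : False := by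
  have h5 := s21_fact5 h
  have hGm : 5 ^ (Nat.card G).factorization 5 * (Nat.card G / 5 ^ (Nat.card G).factorization 5) =
      Nat.card G := Nat.ordProj_mul_ordCompl_eq_self _ 5
  have hnd : ¬ 5 ∣ Nat.card G / 5 ^ (Nat.card G).factorization 5 :=
    Nat.not_dvd_ordCompl (by norm_num) Nat.card_pos.ne'
  rw [h5] at hGm hnd
  generalize Nat.card G / 5 ^ 1 = m at hGm hnd
  have hNn := h8_card_normalizer_sylow 5 P
  rw [h.hn] at hNn
  have hm1 : 1 < m := by
    have h1 : 1 ≤ Nat.card (Subgroup.normalizer ((P : Subgroup G) : Set G)) := Nat.card_pos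
    rw [pow_one] at hGm
    omega
  obtain ⟨hP, hN, hX, r, hr4, hr1, hC⟩ := og3_sylow_data 5 m hGm.symm hnd hm1 P
  have hr : r = 2 ∨ r = 4 := by
    have hr4' : r ∣ 4 := hr4
    have hmem : r ∈ Nat.divisors 4 := Nat.mem_divisors.mpr ⟨hr4', by norm_num⟩
    have e4 : Nat.divisors 4 = {1, 2, 4} := by decide +kernel
    rw [e4] at hmem
    simp only [Finset.mem_insert, Finset.mem_singleton] at hmem
    rcases hmem with h | h | h
    · exact absurd h hr1
    · exact Or.inl h
    · exact Or.inr h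
  have hC60 := s21_card_cent_dvd h
  have h5C : 5 ∣ Nat.card (Subgroup.centralizer ((P : Subgroup G) : Set G)) := by
    have := Subgroup.card_dvd_of_le (s21_P_le_C h)
    rwa [h.hP] at this
  have h8 := s21_not_eight_dvd h
  have hCle : Nat.card (Subgroup.centralizer ((P : Subgroup G) : Set G)) ≤ 60 :=
    Nat.le_of_dvd (by norm_num) hC60
  have hG : Nat.card G = 210 ∨ Nat.card G = 420 ∨ Nat.card G = 630 ∨ Nat.card G = 1260 := by
    clear hN hX hGm
    generalize Nat.card (Subgroup.centralizer ((P : Subgroup G) : Set G)) = c at *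
    generalize Nat.card (Subgroup.normalizer ((P : Subgroup G) : Set G)) = n at *
    interval_cases c <;> rcases hr with rfl | rfl <;> omega
  rcases hG with hG | hG | hG | hG
  · exact s21_two_odd 105 (by rw [hG]; norm_num) (by norm_num) (by norm_num)
  · exact s21_seven h.hnc 60 (Or.inl rfl) (by rw [hG]; norm_num)
  · exact s21_two_odd 315 (by rw [hG]; norm_num) (by norm_num) (by norm_num)
  · exact s21_seven h.hnc 180 (Or.inr rfl) (by rw [hG]; norm_num)

end Orders

/-- in a simple group with more than one Sylow `p`-subgroup, no nontrivial subgroup lies in all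
of them -/
theorem s21_core_simple {G : Type*} [Group G] [Finite G] [IsSimpleGroup G] {p : ℕ}
    [hp : Fact p.Prime] (hn1 : 1 < Nat.card (Sylow p G)) (D : Subgroup G)
    (hD : ∀ Q : Sylow p G, D ≤ (Q : Subgroup G)) : D = ⊥ := by
  have hDK : D ≤ ⨅ Q : Sylow p G, (Q : Subgroup G) := le_iInf hD
  have hKn : (⨅ Q : Sylow p G, (Q : Subgroup G)).Normal := by
    constructor
    intro x hx g
    rw [Subgroup.mem_iInf] at hx ⊢
    intro Q
    have h1 := hx (g⁻¹ • Q)
    rw [h8_mem_smul_sylow] at h1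
    simpa using h1
  rcases hKn.eq_bot_or_eq_top with h | h
  · rw [h] at hDK
    exact le_bot_iff.mp hDK
  · exfalso
    have hall : ∀ Q : Sylow p G, (Q : Subgroup G) = ⊤ := by
      intro Q
      apply top_le_iff.mp
      rw [← h]
      exact iInf_le _ Q
    have hsub : Subsingleton (Sylow p G) :=
      ⟨fun Q Q' => Sylow.ext (by rw [hall Q, hall Q'])⟩
    have := Finite.card_le_one_iff_subsingleton.mpr hsub
    omega

theorem s21_final {G : Type*} [Group G] [Finite G] : Nat.card (Sylow 5 G) ≠ 21 := by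
  haveI : Fact (Nat.Prime 5) := ⟨by norm_num⟩
  intro h21
  obtain ⟨l, hl, hlm⟩ := Cfsg.Agent.S4303.result (G := G) 5
  rw [h21] at hl
  have hex : ∃ m ∈ l, m = 21 := by
    by_contra hcon
    push Not at hcon
    have hall : ∀ m ∈ l, m = 1 := by
      intro m hm
      have hd : m ∣ 21 := hl ▸ List.dvd_prod hm
      have hmod : m % 5 = 1 := by
        rcases hlm m hm with ⟨-, h⟩ | ⟨S, _, _, _, rfl⟩
        · exact h
        · exact h8_nsylow_mod 5
      have hne := hcon m hm
      have hle : m ≤ 21 := Nat.le_of_dvd (by norm_num) hd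
      interval_cases m <;> omega
    have := List.prod_eq_one hall
    omega
  obtain ⟨m, hm, rfl⟩ := hex
  rcases hlm 21 hm with ⟨hpp, -⟩ | ⟨S, _, _, hS, hn⟩
  · rw [isPrimePow_iff_unique_prime_dvd] at hpp
    obtain ⟨q, -, hq⟩ := hpp
    have h3 := hq 3 ⟨Nat.prime_three, by norm_num⟩
    have h7 := hq 7 ⟨by norm_num, by norm_num⟩
    omega
  · haveI := hS
    have hn' : Nat.card (Sylow 5 S) = 21 := hn.symm
    obtain ⟨Q⟩ : Nonempty (Sylow 5 S) := inferInstance
    have hnc : ¬ IsMulCommutative S := by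
      apply h8_not_comm_of_card
      intro hprime
      have h1 := h8_card_normalizer_sylow 5 Q
      rw [hn'] at h1
      have h2 : 21 ∣ Nat.card S := Dvd.intro_left _ h1
      rcases (Nat.dvd_prime hprime).mp h2 with h3 | h3
      · omega
      · rw [← h3] at hprime
        exact absurd hprime (by norm_num)
    have hcore := s21_core_simple (G := S) (p := 5) (by rw [hn']; norm_num)
    have hQ := s21_card_eq_prime (p := 5) (by rw [hn']; norm_num) (by rw [hn']; norm_num)
      hcore Q
    exact s21_main Q ⟨hnc, hQ, hn'⟩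

end Cfsg.Agent.Lib.helper23
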