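import Mathlib
import Cfsg.Agent.Lib.helper7.CED.Defs
import Cfsg.Agent.Lib.Lead.STDB1
import Cfsg.Agent.Lib.Helper16.STDW13
import Cfsg.Agent.Lib.Helper16.STDH3
import Cfsg.Agent.Lib.Helper24.STCI1

/-!
# Project CED (designer helper7; part (2) of the lead's project SPN, S2096 + S2097), rows M2 (`zz_central`) and M3 (`zz_sq`), VERBATIM (helper23)

The spin element `zz S a b = h_ab(-1) h_{a,-b}(-1)` of a generated system of type `D` is central, and its square is `1`.
-/

set_option autoImplicit false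
set_option linter.unusedSectionVars false

namespace Cfsg.Agent.Lib.helper7.CED

open Cfsg.Agent.Lib.helper15.St2 Cfsg.Agent.Lib.helper7.Ce Cfsg.Agent.Lib.helper3.STC Cfsg.Agent.Lib.Lead.STD
  Cfsg.Agent.Lib.helper7.CEC

section M

universe v w

variable {K : Type*} [Field K] [Finite K] {ι : Type*} {G : Type*} [Group G] (S : SysD K ι G)

/-- the product of the coefficients of the two torus elements of the spin element is `1` -/
theorem cedm2_coef [DecidableEq ι] (a b k : ι ⊕ ι) :
    dhs a b (-1 : K) k * dhs a (ng b) (-1 : K) k = 1 := by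
  have h1 : ((-1 : K))⁻¹ = -1 := by rw [inv_neg, inv_one]
  unfold dhs
  rw [ng_ng, h1]
  by_cases ha : k = a
  · simp [ha]
  · by_cases hb : k = ng b
    · simp [hb]
    · by_cases hb' : k = b
      · simp [hb']
      · by_cases ha' : k = ng a
        · simp [ha']
        · simp [ha, hb, hb', ha']

/-- the spin element centralises the root elements -/
theorem cedm2_cj_x [DecidableEq ι] {a b : ι ⊕ ι} (hab : ab a ≠ ab b) (k l : ι ⊕ ι) (t : K) :
    cj (zz S a b) (S.x k l t) = S.x k l t := by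
  by_cases hkl : k = l
  · rw [hkl, S.diag, cj_one]
  · have hab1 : a ≠ b := fun e => hab (by rw [e])
    have hab2 : a ≠ ng b := fun e => hab (by rw [e, ab_ng])
    have hab3 : a ≠ ng (ng b) := by rwa [ng_ng]
    have hm1 : (-1 : K) ≠ 0 := neg_ne_zero.mpr one_ne_zero
    have h1 := S.isMon_h hab1 hab2 (-1) hm1
    have h2 := S.isMon_h hab2 hab3 (-1) hm1
    have h3 := (SysD.IsMon.mul S h1 h2).2 k l hkl t
    simp only [mul_one, Equiv.Perm.one_apply] at h3
    rw [cedm2_coef a b k, cedm2_coef a b l, inv_one, one_mul, one_mul] at h3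
    exact h3

/-- M2 [M]  the spin element acts trivially on the root elements: `isMon_h` twice, `IsMon.mul`; the coefficients `dhs a b (-1)` and `dhs a (ng b) (-1)` are both `-1` on `{a, b, ng a, ng b}` and `1` elsewhere
(`(-1)⁻¹ = -1`), so their product is `1`: `cj (zz S a b) (S.x k l t) = S.x k l t` for `k ≠ l`.  With `hgen`: central (`Subgroup.closure_induction` on the generators of `S.XQ _`). -/
theorem zz_central [DecidableEq ι] (hgen : S.XQ (fun _ _ => True) = ⊤) {a b : ι ⊕ ι} (hab : ab a ≠ ab b) (g : G) :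
    zz S a b * g = g * zz S a b := by
  have h1 : S.XQ (fun _ _ => True) ≤ Subgroup.centralizer {zz S a b} := by
    unfold SysD.XQ
    rw [Subgroup.closure_le]
    rintro x ⟨k, l, t, -, -, -, rfl⟩
    rw [SetLike.mem_coe, Subgroup.mem_centralizer_iff]
    intro y hy
    rw [Set.mem_singleton_iff] at hy
    rw [hy]
    exact mul_eq_of_cj (cedm2_cj_x S hab k l t)
  have h2 : g ∈ Subgroup.centralizer {zz S a b} := h1 (by rw [hgen]; exact Subgroup.mem_top g)
  rw [Subgroup.mem_centralizer_iff] at h2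
  exact h2 _ (Set.mem_singleton _)

/-- M3 [S-M]  `h a b (-1) * h a b (-1) = h a b 1 = 1` (`h_mul`, `h_one`); the two factors of `zz` commute (`h_comm`). -/
theorem zz_sq [DecidableEq ι] {a b : ι ⊕ ι} (hab : ab a ≠ ab b) : zz S a b * zz S a b = 1 := by
  have hab1 : a ≠ b := fun e => hab (by rw [e])
  have hab2 : a ≠ ng b := fun e => hab (by rw [e, ab_ng])
  have hab3 : a ≠ ng (ng b) := by rwa [ng_ng]
  have hm1 : (-1 : K) ≠ 0 := neg_ne_zero.mpr one_ne_zero
  have hc := S.h_comm hab2 hab3 hab1 hab2 (-1) (-1) hm1 hm1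
  have hs1 := S.h_mul hab1 hab2 (-1) (-1) hm1 hm1
  have hs2 := S.h_mul hab2 hab3 (-1) (-1) hm1 hm1
  have hmm : (-1 : K) * (-1) = 1 := by ring
  rw [hmm, S.h_one] at hs1 hs2
  unfold zz
  calc S.h a b (-1) * S.h a (ng b) (-1) * (S.h a b (-1) * S.h a (ng b) (-1))
      = S.h a b (-1) * (S.h a (ng b) (-1) * S.h a b (-1)) * S.h a (ng b) (-1) := by group
    _ = S.h a b (-1) * (S.h a b (-1) * S.h a (ng b) (-1)) * S.h a (ng b) (-1) := by rw [hc]
    _ = (S.h a b (-1) * S.h a b (-1)) * (S.h a (ng b) (-1) * S.h a (ng b) (-1)) := by group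
    _ = 1 := by rw [hs1, hs2, one_mul]

end M

end Cfsg.Agent.Lib.helper7.CED
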