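import Mathlib
import Cfsg.Prelude.Def_Classical
import Cfsg.Prelude.Def_KGroupFacts
import Cfsg.Agent.Lib.Lead.SPN.Defs
import Cfsg.Agent.Lib.Lead.SPN.Defs2
import Cfsg.Agent.Lib.Lead.STDB1
import Cfsg.Agent.Lib.Helper16.STDH3
import Cfsg.Agent.Lib.helper23.CEDM2

/-!
# Project SPN (designer lead; S2096 + S2097), rows T4 (`Cov.pi_zel`), K0 (`Cov.zel_mem_ker_sig`), K1 (`Cov.exists_neg_even`): the CORES (helper23)

The hypothesis `hT12` is the STATEMENT of row T12 `Cov.omat_h` (the matrix of a torus element is diagonal).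
* `spnt4_core`: `π zel = 1`;  `spnk0_core`: `zel ∈ ker sig`;
* `spnk1_core`: `l` even: the product of the `h_{2k,2k+1}(-1)` is an involution (or `1`) with matrix `-1`.
-/

set_option autoImplicit false
set_option linter.unusedSectionVars false

namespace Cfsg.Agent.Lib.Lead.SPN

open Cfsg.Agent.Lib.helper15.St2 Cfsg.Agent.Lib.helper3.STC Cfsg.Agent.Lib.Lead.STD Cfsg.Agent.Lib.Helper16
  Cfsg.Agent.Lib.Helper1.OMP

universe u v w

namespace Cov

variable {l : ℕ} {F : Type u} [Field F] [Fintype F] {G : Type v} [Group G] (C : Cov l F G)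

/-- T4 core: `π zel = 1` from the statement of T12 -/
theorem spnt4_core
    (hT12 : ∀ {a b : Fin l ⊕ Fin l}, a ≠ b → a ≠ ng b → ∀ u : F, u ≠ 0 →
      omat (C.π (C.S.h a b u)) = Matrix.diagonal (dhs a b u)) :
    C.π C.zel = 1 := by
  have hm1 : (-1 : F) ≠ 0 := neg_ne_zero.mpr one_ne_zero
  have h01 : (Sum.inl C.i0 : Fin l ⊕ Fin l) ≠ Sum.inl C.i1 := by
    intro h
    have h2 := congrArg Fin.val (Sum.inl.inj h)
    simp [Cov.i0, Cov.i1] at h2
  have h01' : (Sum.inl C.i0 : Fin l ⊕ Fin l) ≠ ng (Sum.inl C.i1) := by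
    intro h
    cases h
  have h01'' : (Sum.inl C.i0 : Fin l ⊕ Fin l) ≠ ng (Sum.inr C.i1) := h01
  apply omat_injective
  unfold Cov.zel
  rw [map_mul, omat_mul, hT12 h01 h01' (-1) hm1]
  have h3 := hT12 h01' (by rw [ng_ng]; exact h01) (-1) hm1
  rw [show (ng (Sum.inl C.i1 : Fin l ⊕ Fin l)) = Sum.inr C.i1 from rfl] at h3
  rw [h3, Matrix.diagonal_mul_diagonal, omat_one, ← Matrix.diagonal_one]
  congr 1
  funext k
  exact Cfsg.Agent.Lib.helper7.CED.cedm2_coef (Sum.inl C.i0) (Sum.inl C.i1) k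

/-- K0 core: `zel ∈ ker sig` from the conclusion of T4 -/
theorem spnk0_core (hT4 : C.π C.zel = 1) : C.zel ∈ C.sig.ker := by
  rw [MonoidHom.mem_ker]
  unfold Cov.sig
  rw [MonoidHom.comp_apply, hT4, map_one]

/-! ### products of torus elements `h a b (-1)` -/

/-- the product of the torus elements `h a b (-1)` over a list of pairs -/
def spnk1_prod (L : List ((Fin l ⊕ Fin l) × (Fin l ⊕ Fin l))) : G :=
  (L.map fun p => C.S.h p.1 p.2 (-1)).prod

theorem spnk1_prod_nil : C.spnk1_prod [] = 1 := rfl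

theorem spnk1_prod_cons (p : (Fin l ⊕ Fin l) × (Fin l ⊕ Fin l)) (L : List ((Fin l ⊕ Fin l) × (Fin l ⊕ Fin l))) :
    C.spnk1_prod (p :: L) = C.S.h p.1 p.2 (-1) * C.spnk1_prod L := by
  unfold spnk1_prod
  rw [List.map_cons, List.prod_cons]

/-- a torus element commutes with the product -/
theorem spnk1_comm (a b : Fin l ⊕ Fin l) (hab : a ≠ b) (hab' : a ≠ ng b)
    (L : List ((Fin l ⊕ Fin l) × (Fin l ⊕ Fin l))) (hL : ∀ p ∈ L, p.1 ≠ p.2 ∧ p.1 ≠ ng p.2) :
    C.S.h a b (-1) * C.spnk1_prod L = C.spnk1_prod L * C.S.h a b (-1) := by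
  have hm1 : (-1 : F) ≠ 0 := neg_ne_zero.mpr one_ne_zero
  induction L with
  | nil => rw [spnk1_prod_nil, mul_one, one_mul]
  | cons p L ih =>
    have hp := hL p (List.mem_cons_self ..)
    have ih' := ih (fun q hq => hL q (List.mem_cons_of_mem _ hq))
    rw [spnk1_prod_cons, ← mul_assoc, C.S.h_comm hab hab' hp.1 hp.2 (-1) (-1) hm1 hm1, mul_assoc, ih', mul_assoc]

/-- the product is an involution (or `1`) -/
theorem spnk1_sq (L : List ((Fin l ⊕ Fin l) × (Fin l ⊕ Fin l))) (hL : ∀ p ∈ L, p.1 ≠ p.2 ∧ p.1 ≠ ng p.2) :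
    C.spnk1_prod L * C.spnk1_prod L = 1 := by
  have hm1 : (-1 : F) ≠ 0 := neg_ne_zero.mpr one_ne_zero
  induction L with
  | nil => rw [spnk1_prod_nil, mul_one]
  | cons p L ih =>
    have hp := hL p (List.mem_cons_self ..)
    have hL' : ∀ q ∈ L, q.1 ≠ q.2 ∧ q.1 ≠ ng q.2 := fun q hq => hL q (List.mem_cons_of_mem _ hq)
    have ih' := ih hL'
    have hc := C.spnk1_comm p.1 p.2 hp.1 hp.2 L hL'
    have hs := C.S.h_mul hp.1 hp.2 (-1) (-1) hm1 hm1
    have hmm : (-1 : F) * (-1) = 1 := by ring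
    rw [hmm, SysD.h_one] at hs
    rw [spnk1_prod_cons]
    calc C.S.h p.1 p.2 (-1) * C.spnk1_prod L * (C.S.h p.1 p.2 (-1) * C.spnk1_prod L)
        = C.S.h p.1 p.2 (-1) * (C.spnk1_prod L * C.S.h p.1 p.2 (-1)) * C.spnk1_prod L := by group
      _ = C.S.h p.1 p.2 (-1) * (C.S.h p.1 p.2 (-1) * C.spnk1_prod L) * C.spnk1_prod L := by rw [hc]
      _ = (C.S.h p.1 p.2 (-1) * C.S.h p.1 p.2 (-1)) * (C.spnk1_prod L * C.spnk1_prod L) := by group
      _ = 1 := by rw [hs, ih', one_mul]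

/-- the matrix of the product -/
theorem spnk1_omat
    (hT12 : ∀ {a b : Fin l ⊕ Fin l}, a ≠ b → a ≠ ng b → ∀ u : F, u ≠ 0 →
      omat (C.π (C.S.h a b u)) = Matrix.diagonal (dhs a b u))
    (L : List ((Fin l ⊕ Fin l) × (Fin l ⊕ Fin l))) (hL : ∀ p ∈ L, p.1 ≠ p.2 ∧ p.1 ≠ ng p.2) :
    omat (C.π (C.spnk1_prod L)) = Matrix.diagonal (fun c => (L.map fun p => dhs p.1 p.2 (-1 : F) c).prod) := by
  have hm1 : (-1 : F) ≠ 0 := neg_ne_zero.mpr one_ne_zero
  induction L with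
  | nil =>
    rw [spnk1_prod_nil, map_one, omat_one, ← Matrix.diagonal_one]
    rfl
  | cons p L ih =>
    have hp := hL p (List.mem_cons_self ..)
    have ih' := ih (fun q hq => hL q (List.mem_cons_of_mem _ hq))
    rw [spnk1_prod_cons, map_mul, omat_mul, hT12 hp.1 hp.2 (-1) hm1, ih', Matrix.diagonal_mul_diagonal]
    congr 1

/-- the coefficient of the `k`-th block at the index `c` -/
theorem spnk1_coef (m : ℕ) (hlm : l = m + m) (c : Fin l ⊕ Fin l) (k : Fin m) :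
    dhs (Sum.inl (⟨2 * k.val, by have := k.isLt; omega⟩ : Fin l) : Fin l ⊕ Fin l)
        (Sum.inl (⟨2 * k.val + 1, by have := k.isLt; omega⟩ : Fin l)) (-1 : F) c =
      if k.val = (ab c).val / 2 then -1 else 1 := by
  have h1 : ((-1 : F))⁻¹ = -1 := by rw [inv_neg, inv_one]
  unfold dhs
  rw [h1]
  rcases c with j | j
  · have e1 : ((Sum.inl j : Fin l ⊕ Fin l) = Sum.inl (⟨2 * k.val, by have := k.isLt; omega⟩ : Fin l)) ↔ j.val = 2 * k.val := by
      rw [Sum.inl.injEq, Fin.ext_iff]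
    have e2 : ((Sum.inl j : Fin l ⊕ Fin l) = Sum.inl (⟨2 * k.val + 1, by have := k.isLt; omega⟩ : Fin l)) ↔ j.val = 2 * k.val + 1 := by
      rw [Sum.inl.injEq, Fin.ext_iff]
    have e3 : ∀ x : Fin l, ¬ ((Sum.inl j : Fin l ⊕ Fin l) = ng (Sum.inl x)) := fun x h => by cases h
    simp only [e1, e2, e3, or_false]
    show (if j.val = 2 * k.val then (-1 : F) else if j.val = 2 * k.val + 1 then -1 else 1) = if k.val = j.val / 2 then -1 else 1
    by_cases h1 : j.val = 2 * k.val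
    · rw [if_pos h1, if_pos (by omega)]
    · by_cases h2 : j.val = 2 * k.val + 1
      · rw [if_neg h1, if_pos h2, if_pos (by omega)]
      · rw [if_neg h1, if_neg h2, if_neg (by omega)]
  · have e1 : ((Sum.inr j : Fin l ⊕ Fin l) = ng (Sum.inl (⟨2 * k.val, by have := k.isLt; omega⟩ : Fin l))) ↔ j.val = 2 * k.val := by
      show (Sum.inr j : Fin l ⊕ Fin l) = Sum.inr _ ↔ _
      rw [Sum.inr.injEq, Fin.ext_iff]
    have e2 : ((Sum.inr j : Fin l ⊕ Fin l) = ng (Sum.inl (⟨2 * k.val + 1, by have := k.isLt; omega⟩ : Fin l))) ↔ j.val = 2 * k.val + 1 := by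
      show (Sum.inr j : Fin l ⊕ Fin l) = Sum.inr _ ↔ _
      rw [Sum.inr.injEq, Fin.ext_iff]
    have e3 : ∀ x : Fin l, ¬ ((Sum.inr j : Fin l ⊕ Fin l) = Sum.inl x) := fun x h => by cases h
    simp only [e1, e2, e3, false_or]
    show (if j.val = 2 * k.val + 1 then (-1 : F) else if j.val = 2 * k.val then -1 else 1) = if k.val = j.val / 2 then -1 else 1
    by_cases h1 : j.val = 2 * k.val
    · rw [if_neg (by omega), if_pos h1, if_pos (by omega)]
    · by_cases h2 : j.val = 2 * k.val + 1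
      · rw [if_pos h2, if_pos (by omega)]
      · rw [if_neg h2, if_neg h1, if_neg (by omega)]

/-- K1 core: `l` even: a preimage `g` of `-1` with `g * g = 1`, from the statement of T12 -/
theorem spnk1_core
    (hT12 : ∀ {a b : Fin l ⊕ Fin l}, a ≠ b → a ≠ ng b → ∀ u : F, u ≠ 0 →
      omat (C.π (C.S.h a b u)) = Matrix.diagonal (dhs a b u))
    (he : Even l) : ∃ g : G, omat (C.π g) = -1 ∧ g * g = 1 := by
  obtain ⟨m, hlm⟩ := he
  let f : Fin m → (Fin l ⊕ Fin l) × (Fin l ⊕ Fin l) := fun k =>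
    (Sum.inl (⟨2 * k.val, by have := k.isLt; omega⟩ : Fin l), Sum.inl (⟨2 * k.val + 1, by have := k.isLt; omega⟩ : Fin l))
  have hL : ∀ p ∈ (List.finRange m).map f, p.1 ≠ p.2 ∧ p.1 ≠ ng p.2 := by
    intro p hp
    rw [List.mem_map] at hp
    obtain ⟨k, -, rfl⟩ := hp
    constructor
    · intro h
      have h2 := congrArg Fin.val (Sum.inl.inj h)
      simp only at h2
      omega
    · intro h
      cases h
  refine ⟨C.spnk1_prod ((List.finRange m).map f), ?_, C.spnk1_sq _ hL⟩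
  rw [C.spnk1_omat hT12 _ hL]
  have hneg : (-1 : Matrix (Fin l ⊕ Fin l) (Fin l ⊕ Fin l) F) = Matrix.diagonal (fun _ => (-1 : F)) := by
    rw [← Matrix.diagonal_one, ← Matrix.diagonal_neg]
  rw [hneg]
  congr 1
  funext c
  rw [List.map_map]
  have h1 : (List.map ((fun p : (Fin l ⊕ Fin l) × (Fin l ⊕ Fin l) => dhs p.1 p.2 (-1 : F) c) ∘ f) (List.finRange m)) =
      List.map (fun k : Fin m => if k.val = (ab c).val / 2 then (-1 : F) else 1) (List.finRange m) := by
    apply List.map_congr_left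
    intro k _
    exact spnk1_coef m hlm c k
  rw [h1, ← Fin.prod_univ_def]
  have hk0 : (ab c).val / 2 < m := by
    have := (ab c).isLt
    omega
  have h2 : ∀ k : Fin m, (if k.val = (ab c).val / 2 then (-1 : F) else 1) = if k = ⟨(ab c).val / 2, hk0⟩ then -1 else 1 := by
    intro k
    congr 1
    rw [Fin.ext_iff]
  simp only [h2]
  rw [Finset.prod_ite_eq' Finset.univ (⟨(ab c).val / 2, hk0⟩ : Fin m) (fun _ => (-1 : F)), if_pos (Finset.mem_univ _)]

end Cov

end Cfsg.Agent.Lib.Lead.SPN
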