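import Mathlib
import Cfsg.Prelude.Def_Classical
import Cfsg.Prelude.Def_KGroupFacts
import Cfsg.Agent.Lib.Lead.SPN.Defs
import Cfsg.Agent.Lib.Lead.SPN.Defs2
import Cfsg.Agent.Lib.Lead.STDB1
import Cfsg.Agent.Lib.helper23.CEDM2

/-!
# Project SPN (designer lead; S2096 + S2097), rows T2 (`Cov.zel_central`), T3 (`Cov.zel_sq`), T9 (`Cov.zel_char_two`), T11 (`Cov.mem_ker_sig`), VERBATIM (helper23)

The spin element of a covering datum is central of order at most `2` (`helper23.CEDM2`: `zz_central`, `zz_sq`), trivial in characteristic two; membership in the kernel of `sig`.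
-/

set_option autoImplicit false
set_option linter.unusedSectionVars false

namespace Cfsg.Agent.Lib.Lead.SPN

open Cfsg.Agent.Lib.helper15.St2 Cfsg.Agent.Lib.helper3.STC Cfsg.Agent.Lib.Lead.STD Cfsg.Agent.Lib.Helper16
  Cfsg.Agent.Lib.Helper1.OMP

universe u v w

namespace Cov

variable {l : ℕ} {F : Type u} [Field F] [Fintype F] {G : Type v} [Group G] (C : Cov l F G)

omit [Fintype F] in
/-- the two base indices are different -/
theorem spnt2_ab_ne : ab (Sum.inl C.i0 : Fin l ⊕ Fin l) ≠ ab (Sum.inl C.i1 : Fin l ⊕ Fin l) := by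
  intro h
  have h1 : C.i0 = C.i1 := h
  have h2 := congrArg Fin.val h1
  simp [Cov.i0, Cov.i1] at h2

omit [Fintype F] in
/-- the spin element of a covering datum is helper7's spin element of its system -/
theorem spnt2_zel_eq_zz : C.zel = Cfsg.Agent.Lib.helper7.CED.zz C.S (Sum.inl C.i0) (Sum.inl C.i1) := rfl

/-- T2 [S-M]  `isMon_h` (`Helper16.STDH3`) for the two factors: `cj zel (x k m t) = x k m (d t)` with `d = 1` (the coefficients `dhs a b (-1) * dhs a (ng b) (-1)` are all `1`);
so `zel` commutes with the generators (`k = ng m`: `x = 1`); `Subgroup.closure_induction` with `C.gen`. -/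
theorem zel_central (g : G) : g * C.zel = C.zel * g := by
  rw [spnt2_zel_eq_zz]
  exact (Cfsg.Agent.Lib.helper7.CED.zz_central C.S C.gen C.spnt2_ab_ne g).symm

/-- T3 [S]  `h_comm`, `h_mul`, `h_one`. -/
theorem zel_sq : C.zel * C.zel = 1 := by
  rw [spnt2_zel_eq_zz]
  exact Cfsg.Agent.Lib.helper7.CED.zz_sq C.S C.spnt2_ab_ne

/-- T9 [S]  in characteristic two `-1 = 1` and `h a b 1 = 1` (`h_one`). -/
theorem zel_char_two (h2 : (2 : F) = 0) : C.zel = 1 := by
  have h1 : (-1 : F) = 1 := by linear_combination (-1 : F) * h2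
  unfold Cov.zel
  rw [h1, SysD.h_one, SysD.h_one, one_mul]

/-- T11 [S]  `QuotientGroup.eq_one_iff`. -/
theorem mem_ker_sig (g : G) : g ∈ C.sig.ker ↔ C.π g ∈ Subgroup.center ↥(Cfsg.Omega F (Cfsg.quadFormPlus l F)) := by
  rw [MonoidHom.mem_ker]
  unfold Cov.sig
  rw [MonoidHom.comp_apply, QuotientGroup.mk'_apply, QuotientGroup.eq_one_iff]

end Cov

end Cfsg.Agent.Lib.Lead.SPN
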