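import Mathlib
import Cfsg.Agent.Lib.Lead.STB.Defs
import Cfsg.Agent.Lib.Lead.STDB1

/-!
# Project STB (designer lead; family of S2094), row B4 (`SysB.cj_xs_x_comm`, `SysB.cj_x_xs_comm`), VERBATIM (helper23)

The conjugation forms of `comm_ls`.
-/

set_option autoImplicit false

namespace Cfsg.Agent.Lib.Lead.STB

open Cfsg.Agent.Lib.helper15.St2 Cfsg.Agent.Lib.helper3.STC Cfsg.Agent.Lib.Lead.STD

universe v w

namespace SysB

variable {K : Type*} [Field K] {ι : Type*} {G : Type*} [Group G] (S : SysB K ι G)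

/-- the commutation form of B4 (all `c d`) -/
theorem stbb4_comm {a c d : ι ⊕ ι} (hda : d ≠ a) (hca : c ≠ ng a) (t u : K) :
    S.xs a t * S.x c d u = S.x c d u * S.xs a t := by
  by_cases hcd : c = d
  · subst hcd
    rw [S.diag, mul_one, one_mul]
  · by_cases hcd' : c = ng d
    · subst hcd'
      rw [S.toSysD.x_opp', mul_one, one_mul]
    · exact S.comm_ls a c d hcd hcd' hda hca t u

/-- B4 [S]  conjugation forms of `comm_ls` (`cj g y = g * y * g⁻¹`).  If `c = d` or `c = ng d` the long element is `1` (`S.diag`, `S.opp`). -/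
theorem cj_xs_x_comm {a c d : ι ⊕ ι} (hda : d ≠ a) (hca : c ≠ ng a) (t u : K) : cj (S.xs a t) (S.x c d u) = S.x c d u := by
  unfold cj
  rw [S.stbb4_comm hda hca, mul_inv_cancel_right]

theorem cj_x_xs_comm {a c d : ι ⊕ ι} (hda : d ≠ a) (hca : c ≠ ng a) (t u : K) : cj (S.x c d u) (S.xs a t) = S.xs a t := by
  unfold cj
  rw [← S.stbb4_comm hda hca, mul_inv_cancel_right]

end SysB

end Cfsg.Agent.Lib.Lead.STB
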