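import Mathlib
import Cfsg.Agent.Lib.helper17.STM.Defs
import Cfsg.Agent.Lib.helper17.STM.Defs2
import Cfsg.Agent.Lib.Helper24.STCI1
import Cfsg.Agent.Lib.Helper21.STMF15a

/-!
# Project STM (designer helper17), row F15 `InD_w`, CORE (helper23): `InD` is stable under `w o k 1`, with the STATEMENTS of F11 `ww_same`, F12 `ww_gen`, F13 `ww_opp`,
F14b `w_ws` as hypotheses (F15a `NP_cell0` is on main: `Helper21.STMF15a`).  Port of `helper15.STBF15core`.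
-/

set_option autoImplicit false

namespace Cfsg.Agent.Lib.helper17.STM

open Cfsg.Agent.Lib.helper15.St2 Cfsg.Agent.Lib.helper3.STC Cfsg.Agent.Lib.Lead.STD

universe v w

namespace SysM

variable {F : Type*} [Field F] {A B : F} [Fact (∀ r : F, r ^ 2 ≠ -B + A * r)] {ι : Type*} [DecidableEq ι] {G : Type*} [Group G] (S : SysM F A B ι G)

section F
variable (o : ι ⊕ ι)

omit [DecidableEq ι] in
/-- F15 core. -/
theorem stmf15_core
    (hF11 : ∀ {k : ι ⊕ ι}, k ≠ o → k ≠ ng o → S.NP o (S.w o k 1 * S.w o k 1))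
    (hF12 : ∀ {k j : ι ⊕ ι}, k ≠ o → k ≠ ng o → j ≠ o → j ≠ ng o → k ≠ j → k ≠ ng j →
      ∃ n, S.NP o n ∧ S.w o k 1 * S.w o j 1 = S.w o j 1 * n)
    (hF13 : ∀ {k : ι ⊕ ι}, k ≠ o → k ≠ ng o → ∃ n, S.NP o n ∧ S.w o k 1 * S.w o (ng k) 1 = S.ws o 1 * n)
    (hF14b : ∀ {k : ι ⊕ ι}, k ≠ o → k ≠ ng o → ∃ n, S.NP o n ∧ S.w o k 1 * S.ws o 1 = S.w o (ng k) 1 * n)
    {k : ι ⊕ ι} (hk : k ≠ o) (hk' : k ≠ ng o) {g : G} (hg : S.InD o g) : S.InD o (S.w o k 1 * g) := by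
  rcases hg with ⟨y, hy, p, hp, rfl⟩ | ⟨j, hj, hj', y, hy, p, hp, rfl⟩ | ⟨y, hy, p, hp, rfl⟩
  · -- big cell
    exact Or.inr (Or.inl ⟨k, hk, hk', y, hy, p, hp, by rw [mul_assoc]⟩)
  · by_cases hjk : j = k
    · subst hjk
      obtain ⟨y₁, hy₁, p₁, hp₁, e⟩ := S.NP_cell0 o (hF11 hj hj') hy hp
      refine Or.inl ⟨y₁, hy₁, p₁, hp₁, ?_⟩
      rw [← e]
      group
    by_cases hjk' : j = ng k
    · subst hjk'
      obtain ⟨n, hn, e⟩ := hF13 hk hk'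
      obtain ⟨y₁, hy₁, p₁, hp₁, e₁⟩ := S.NP_cell0 o hn hy hp
      refine Or.inr (Or.inr ⟨y₁, hy₁, p₁, hp₁, ?_⟩)
      calc S.w o k 1 * (S.w o (ng k) 1 * y * p) = (S.w o k 1 * S.w o (ng k) 1) * (y * p) := by group
        _ = S.ws o 1 * (n * (y * p)) := by rw [e]; group
        _ = S.ws o 1 * y₁ * p₁ := by rw [e₁]; group
    · have hkj : k ≠ j := fun h => hjk h.symm
      have hkj' : k ≠ ng j := fun h => hjk' (by rw [h, ng_ng])
      obtain ⟨n, hn, e⟩ := hF12 hk hk' hj hj' hkj hkj'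
      obtain ⟨y₁, hy₁, p₁, hp₁, e₁⟩ := S.NP_cell0 o hn hy hp
      refine Or.inr (Or.inl ⟨j, hj, hj', y₁, hy₁, p₁, hp₁, ?_⟩)
      calc S.w o k 1 * (S.w o j 1 * y * p) = (S.w o k 1 * S.w o j 1) * (y * p) := by group
        _ = S.w o j 1 * (n * (y * p)) := by rw [e]; group
        _ = S.w o j 1 * y₁ * p₁ := by rw [e₁]; group
  · -- opposite cell
    obtain ⟨n, hn, e⟩ := hF14b hk hk'
    obtain ⟨y₁, hy₁, p₁, hp₁, e₁⟩ := S.NP_cell0 o hn hy hp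
    have h1 : ng k ≠ o := fun h => hk' (ng_eq_iff.1 h)
    have h2 : ng k ≠ ng o := fun h => hk (ng_inj.1 h)
    refine Or.inr (Or.inl ⟨ng k, h1, h2, y₁, hy₁, p₁, hp₁, ?_⟩)
    calc S.w o k 1 * (S.ws o 1 * y * p) = (S.w o k 1 * S.ws o 1) * (y * p) := by group
      _ = S.w o (ng k) 1 * (n * (y * p)) := by rw [e]; group
      _ = S.w o (ng k) 1 * y₁ * p₁ := by rw [e₁]; group

end F

end SysM

end Cfsg.Agent.Lib.helper17.STM
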