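import Mathlib
import Cfsg.Prelude.Def_ChevStructure
import Cfsg.Prelude.Def_LieTwisted
import Cfsg.Agent.Lib.helper8.TD4.Defs

/-!
# Project TD4 (S2376, designer helper8), row A2: `order_v0` (helper23).
-/

set_option autoImplicit false

namespace Cfsg.Agent.Lib.helper8.TD4

open Cfsg.Lie Cfsg.Lie.ChevalleyDatum Cfsg.Agent.Lib.helper8 Matrix

universe u v

/-- `a = r² + 3 r + 1` is odd -/
theorem td4a2_odd (r : ℕ) : ¬ 2 ∣ r ^ 2 + 3 * r + 1 := by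
  intro h
  obtain ⟨k, rfl | rfl⟩ := Nat.even_or_odd' r
  · have : (2 * k) ^ 2 + 3 * (2 * k) + 1 = 2 * (2 * (k * k) + 3 * k) + 1 := by ring
    omega
  · have : (2 * k + 1) ^ 2 + 3 * (2 * k + 1) + 1 = 2 * (2 * (k * k) + 5 * k + 2) + 1 := by ring
    omega

/-- `a` is coprime to `nT q` (with `q = r + 2`). -/
theorem td4a2_coprime (r : ℕ) :
    Nat.Coprime ((r + 1) * (r ^ 2 + 5 * r + 7) * (r + 3)) (r ^ 2 + 3 * r + 1) := by
  have h1 : Nat.Coprime (r + 1) (r ^ 2 + 3 * r + 1) := by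
    rw [← Nat.isCoprime_iff_coprime]
    exact ⟨(r : ℤ) + 2, -1, by push_cast; ring⟩
  have h2 : Nat.Coprime (r + 3) (r ^ 2 + 3 * r + 1) := by
    rw [← Nat.isCoprime_iff_coprime]
    exact ⟨-(r : ℤ), 1, by push_cast; ring⟩
  have h3 : Nat.Coprime (r ^ 2 + 5 * r + 7) (r ^ 2 + 3 * r + 1) := by
    have hd1 := Nat.gcd_dvd_left (r ^ 2 + 5 * r + 7) (r ^ 2 + 3 * r + 1)
    have hd2 := Nat.gcd_dvd_right (r ^ 2 + 5 * r + 7) (r ^ 2 + 3 * r + 1)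
    have hid : (r + 2) * (r ^ 2 + 3 * r + 1) = r * (r ^ 2 + 5 * r + 7) + 2 := by ring
    have h2' : Nat.gcd (r ^ 2 + 5 * r + 7) (r ^ 2 + 3 * r + 1) ∣ 2 := by
      have hA : Nat.gcd (r ^ 2 + 5 * r + 7) (r ^ 2 + 3 * r + 1) ∣ r * (r ^ 2 + 5 * r + 7) :=
        dvd_mul_of_dvd_right hd1 r
      have hB : Nat.gcd (r ^ 2 + 5 * r + 7) (r ^ 2 + 3 * r + 1) ∣
          r * (r ^ 2 + 5 * r + 7) + 2 := hid ▸ dvd_mul_of_dvd_right hd2 (r + 2)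
      exact (Nat.dvd_add_right hA).1 hB
    have hle : Nat.gcd (r ^ 2 + 5 * r + 7) (r ^ 2 + 3 * r + 1) ≤ 2 := Nat.le_of_dvd (by norm_num) h2'
    have hne : Nat.gcd (r ^ 2 + 5 * r + 7) (r ^ 2 + 3 * r + 1) ≠ 0 := by
      intro h0; rw [h0] at h2'; simp at h2'
    have hne2 : Nat.gcd (r ^ 2 + 5 * r + 7) (r ^ 2 + 3 * r + 1) ≠ 2 := by
      intro h0; rw [h0] at hd2; exact td4a2_odd r hd2
    unfold Nat.Coprime
    omega
  exact Nat.Coprime.mul_left (Nat.Coprime.mul_left h1 h3) h2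

/-- A2 [M]. -/
theorem order_v0 {E : Type v} [Field E] (q : ℕ) (hq : 2 ≤ q) (g : E) (hg : orderOf g = q ^ 6 - 1) :
    orderOf ((g ^ (q ^ 3 + 1)) ^ 2 * (g ^ (q ^ 4 + q ^ 2 + 1))⁻¹) = nT q := by
  obtain ⟨r, rfl⟩ := Nat.exists_eq_add_of_le hq
  have hN : (2 + r) ^ 6 - 1 =
      ((r + 1) * (r ^ 2 + 5 * r + 7) * (r + 3)) * (r ^ 2 + 3 * r + 3) := by
    apply Nat.sub_eq_of_eq_add
    ring
  have hnT : nT (2 + r) = (r + 1) * (r ^ 2 + 5 * r + 7) * (r + 3) := by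
    unfold nT
    have h3 : (2 + r) ^ 3 - 1 = (r + 1) * (r ^ 2 + 5 * r + 7) := by
      apply Nat.sub_eq_of_eq_add
      ring
    rw [h3]
    ring
  have hbpos : 0 < r ^ 2 + 3 * r + 3 := by positivity
  have hg0 : g ≠ 0 := by
    rintro rfl
    rw [orderOf_zero, hN] at hg
    have : 0 < ((r + 1) * (r ^ 2 + 5 * r + 7) * (r + 3)) * (r ^ 2 + 3 * r + 3) := by positivity
    omega
  have hexp : (2 + r) ^ 4 + (2 + r) ^ 2 + 1 =
      ((2 + r) ^ 3 + 1) * 2 + (r ^ 2 + 3 * r + 1) * (r ^ 2 + 3 * r + 3) := by ring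
  have hel : (g ^ ((2 + r) ^ 3 + 1)) ^ 2 * (g ^ ((2 + r) ^ 4 + (2 + r) ^ 2 + 1))⁻¹ =
      (((Units.mk0 g hg0) ^ ((r ^ 2 + 3 * r + 1) * (r ^ 2 + 3 * r + 3)))⁻¹ : Eˣ) := by
    rw [← pow_mul, hexp, pow_add _ (((2 + r) ^ 3 + 1) * 2)]
    have hx : g ^ (((2 + r) ^ 3 + 1) * 2) ≠ 0 := pow_ne_zero _ hg0
    have hy : g ^ ((r ^ 2 + 3 * r + 1) * (r ^ 2 + 3 * r + 3)) ≠ 0 := pow_ne_zero _ hg0
    rw [Units.val_inv_eq_inv_val, Units.val_pow_eq_pow_val, Units.val_mk0]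
    field_simp
  rw [hel, orderOf_units, orderOf_inv, orderOf_pow' _ (by positivity), ← orderOf_units,
    Units.val_mk0, hg, hN, hnT, Nat.gcd_mul_right, (td4a2_coprime r).gcd_eq_one, one_mul,
    Nat.mul_div_cancel _ hbpos]

end Cfsg.Agent.Lib.helper8.TD4
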