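import Mathlib
import Cfsg.Agent.Lib.helper23.TD4V.Defs
import Cfsg.Agent.S1025

/-!
# Project TD4V (S2462): the commutator formula S1025 for all pairs of roots of `chevD4`, in the units `X r t`
(machine generated from the tables, as Helper19.G2VComm).

`td4vc_c_r_s t u : X s u * X r t = X r t * X s u` when `r + s` is no root, and
`td4vc_c_r_s t u : X s u * X r t = X r t * X s u * X k (∓(t * u))` when `r + s = k` is a root (`D₄` is simply laced).
-/

set_option autoImplicit false

namespace Cfsg.Agent.Lib.helper23.TD4V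

open Cfsg.Lie Cfsg.Lie.ChevalleyDatum Matrix
open Cfsg.Agent.Lib.helper8

universe u

variable {F : Type u} [Field F]

/-- the commutator formula of S1025 for the units `X r t` -/
theorem td4vc_comm (r s : ℕ) (hr : r < 24) (hs : s < 24) (hrs : s ≠ r) (hneg : s ≠ chevD4.neg r)
    (t u : F) :
    X s u * X r t = X r t * X s u * h8wordU chevD4 hB (chevD4.commWord F r s t u) := by
  apply Units.ext
  rw [Units.val_mul, Units.val_mul, Units.val_mul, h8wordU_val]
  exact Cfsg.Agent.S1025.result chevD4 (by simp) r s hr hs hrs hneg t u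

theorem td4vc_word_cons (p : ℕ × F) (w : List (ℕ × F)) :
    h8wordU chevD4 hB (p :: w) = X p.1 p.2 * h8wordU chevD4 hB w := by
  unfold h8wordU
  rw [List.map_cons, List.prod_cons]
  rfl

theorem td4vc_word_nil : h8wordU chevD4 hB ([] : List (ℕ × F)) = 1 := by
  unfold h8wordU
  rfl

theorem td4vc_add (r : ℕ) (hr : r < 24) (a b : F) : X r a * X r b = X r (a + b) :=
  h8xU_add chevD4 hB r hr a b

theorem td4vc_add' (r : ℕ) (hr : r < 24) (a b : F) (z : GG F) :
    X r a * (X r b * z) = X r (a + b) * z := by
  rw [← mul_assoc, td4vc_add r hr]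

theorem td4vc_inv (r : ℕ) (a : F) : (X r a)⁻¹ = X r (-a) :=
  h8xU_inv chevD4 hB r a

theorem td4vc_terms_0_1 : chevD4.commTerms 0 1 = [] := by
  decide

theorem td4vc_c_0_1 (t u : F) : X 1 u * X 0 t = X 0 t * X 1 u := by
  have h := td4vc_comm (F := F) 0 1 (by decide) (by decide) (by decide) (by decide) t u
  unfold ChevalleyDatum.commWord at h
  rw [td4vc_terms_0_1] at h
  simp only [List.map_nil, td4vc_word_nil, mul_one] at h
  exact h

theorem td4vc_terms_0_2 : chevD4.commTerms 0 2 = [] := by
  decide

theorem td4vc_c_0_2 (t u : F) : X 2 u * X 0 t = X 0 t * X 2 u := by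
  have h := td4vc_comm (F := F) 0 2 (by decide) (by decide) (by decide) (by decide) t u
  unfold ChevalleyDatum.commWord at h
  rw [td4vc_terms_0_2] at h
  simp only [List.map_nil, td4vc_word_nil, mul_one] at h
  exact h

theorem td4vc_terms_0_3 : chevD4.commTerms 0 3 = [] := by
  decide

theorem td4vc_c_0_3 (t u : F) : X 3 u * X 0 t = X 0 t * X 3 u := by
  have h := td4vc_comm (F := F) 0 3 (by decide) (by decide) (by decide) (by decide) t u
  unfold ChevalleyDatum.commWord at h
  rw [td4vc_terms_0_3] at h
  simp only [List.map_nil, td4vc_word_nil, mul_one] at h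
  exact h

theorem td4vc_terms_0_4 : chevD4.commTerms 0 4 = [] := by
  decide

theorem td4vc_c_0_4 (t u : F) : X 4 u * X 0 t = X 0 t * X 4 u := by
  have h := td4vc_comm (F := F) 0 4 (by decide) (by decide) (by decide) (by decide) t u
  unfold ChevalleyDatum.commWord at h
  rw [td4vc_terms_0_4] at h
  simp only [List.map_nil, td4vc_word_nil, mul_one] at h
  exact h

theorem td4vc_terms_0_5 : chevD4.commTerms 0 5 = [] := by
  decide

theorem td4vc_c_0_5 (t u : F) : X 5 u * X 0 t = X 0 t * X 5 u := by
  have h := td4vc_comm (F := F) 0 5 (by decide) (by decide) (by decide) (by decide) t u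
  unfold ChevalleyDatum.commWord at h
  rw [td4vc_terms_0_5] at h
  simp only [List.map_nil, td4vc_word_nil, mul_one] at h
  exact h

theorem td4vc_terms_0_6 : chevD4.commTerms 0 6 = [] := by
  decide

theorem td4vc_c_0_6 (t u : F) : X 6 u * X 0 t = X 0 t * X 6 u := by
  have h := td4vc_comm (F := F) 0 6 (by decide) (by decide) (by decide) (by decide) t u
  unfold ChevalleyDatum.commWord at h
  rw [td4vc_terms_0_6] at h
  simp only [List.map_nil, td4vc_word_nil, mul_one] at h
  exact h

theorem td4vc_terms_0_7 : chevD4.commTerms 0 7 = [] := by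
  decide

theorem td4vc_c_0_7 (t u : F) : X 7 u * X 0 t = X 0 t * X 7 u := by
  have h := td4vc_comm (F := F) 0 7 (by decide) (by decide) (by decide) (by decide) t u
  unfold ChevalleyDatum.commWord at h
  rw [td4vc_terms_0_7] at h
  simp only [List.map_nil, td4vc_word_nil, mul_one] at h
  exact h

theorem td4vc_terms_0_8 : chevD4.commTerms 0 8 = [] := by
  decide

theorem td4vc_c_0_8 (t u : F) : X 8 u * X 0 t = X 0 t * X 8 u := by
  have h := td4vc_comm (F := F) 0 8 (by decide) (by decide) (by decide) (by decide) t u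
  unfold ChevalleyDatum.commWord at h
  rw [td4vc_terms_0_8] at h
  simp only [List.map_nil, td4vc_word_nil, mul_one] at h
  exact h

theorem td4vc_terms_0_9 : chevD4.commTerms 0 9 = [] := by
  decide

theorem td4vc_c_0_9 (t u : F) : X 9 u * X 0 t = X 0 t * X 9 u := by
  have h := td4vc_comm (F := F) 0 9 (by decide) (by decide) (by decide) (by decide) t u
  unfold ChevalleyDatum.commWord at h
  rw [td4vc_terms_0_9] at h
  simp only [List.map_nil, td4vc_word_nil, mul_one] at h
  exact h

theorem td4vc_terms_0_10 : chevD4.commTerms 0 10 = [] := by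
  decide

theorem td4vc_c_0_10 (t u : F) : X 10 u * X 0 t = X 0 t * X 10 u := by
  have h := td4vc_comm (F := F) 0 10 (by decide) (by decide) (by decide) (by decide) t u
  unfold ChevalleyDatum.commWord at h
  rw [td4vc_terms_0_10] at h
  simp only [List.map_nil, td4vc_word_nil, mul_one] at h
  exact h

theorem td4vc_terms_0_11 : chevD4.commTerms 0 11 = [] := by
  decide

theorem td4vc_c_0_11 (t u : F) : X 11 u * X 0 t = X 0 t * X 11 u := by
  have h := td4vc_comm (F := F) 0 11 (by decide) (by decide) (by decide) (by decide) t u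
  unfold ChevalleyDatum.commWord at h
  rw [td4vc_terms_0_11] at h
  simp only [List.map_nil, td4vc_word_nil, mul_one] at h
  exact h

theorem td4vc_terms_0_12 : chevD4.commTerms 0 12 = [] := by
  decide

theorem td4vc_c_0_12 (t u : F) : X 12 u * X 0 t = X 0 t * X 12 u := by
  have h := td4vc_comm (F := F) 0 12 (by decide) (by decide) (by decide) (by decide) t u
  unfold ChevalleyDatum.commWord at h
  rw [td4vc_terms_0_12] at h
  simp only [List.map_nil, td4vc_word_nil, mul_one] at h
  exact h

theorem td4vc_terms_0_13 : chevD4.commTerms 0 13 = [] := by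
  decide

theorem td4vc_c_0_13 (t u : F) : X 13 u * X 0 t = X 0 t * X 13 u := by
  have h := td4vc_comm (F := F) 0 13 (by decide) (by decide) (by decide) (by decide) t u
  unfold ChevalleyDatum.commWord at h
  rw [td4vc_terms_0_13] at h
  simp only [List.map_nil, td4vc_word_nil, mul_one] at h
  exact h

theorem td4vc_terms_0_14 : chevD4.commTerms 0 14 = [(1, 1, 1, 1)] := by
  decide

theorem td4vc_c_0_14 (t u : F) :
    X 14 u * X 0 t = X 0 t * X 14 u * X 1 (-(t * u)) := by
  have h := td4vc_comm (F := F) 0 14 (by decide) (by decide) (by decide) (by decide) t u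
  unfold ChevalleyDatum.commWord at h
  rw [td4vc_terms_0_14] at h
  simp only [List.map_cons, List.map_nil, td4vc_word_cons, td4vc_word_nil, mul_one] at h
  have a0 : ((1 : ℤ) : F) * (-t) ^ 1 * u ^ 1 = -(t * u) := by
    push_cast
    ring
  rw [a0] at h
  rw [h]

theorem td4vc_terms_0_15 : chevD4.commTerms 0 15 = [(2, -1, 1, 1)] := by
  decide

theorem td4vc_c_0_15 (t u : F) :
    X 15 u * X 0 t = X 0 t * X 15 u * X 2 (t * u) := by
  have h := td4vc_comm (F := F) 0 15 (by decide) (by decide) (by decide) (by decide) t u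
  unfold ChevalleyDatum.commWord at h
  rw [td4vc_terms_0_15] at h
  simp only [List.map_cons, List.map_nil, td4vc_word_cons, td4vc_word_nil, mul_one] at h
  have a0 : (((-1) : ℤ) : F) * (-t) ^ 1 * u ^ 1 = t * u := by
    push_cast
    ring
  rw [a0] at h
  rw [h]

theorem td4vc_terms_0_16 : chevD4.commTerms 0 16 = [(3, -1, 1, 1)] := by
  decide

theorem td4vc_c_0_16 (t u : F) :
    X 16 u * X 0 t = X 0 t * X 16 u * X 3 (t * u) := by
  have h := td4vc_comm (F := F) 0 16 (by decide) (by decide) (by decide) (by decide) t u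
  unfold ChevalleyDatum.commWord at h
  rw [td4vc_terms_0_16] at h
  simp only [List.map_cons, List.map_nil, td4vc_word_cons, td4vc_word_nil, mul_one] at h
  have a0 : (((-1) : ℤ) : F) * (-t) ^ 1 * u ^ 1 = t * u := by
    push_cast
    ring
  rw [a0] at h
  rw [h]

theorem td4vc_terms_0_17 : chevD4.commTerms 0 17 = [(4, 1, 1, 1)] := by
  decide

theorem td4vc_c_0_17 (t u : F) :
    X 17 u * X 0 t = X 0 t * X 17 u * X 4 (-(t * u)) := by
  have h := td4vc_comm (F := F) 0 17 (by decide) (by decide) (by decide) (by decide) t u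
  unfold ChevalleyDatum.commWord at h
  rw [td4vc_terms_0_17] at h
  simp only [List.map_cons, List.map_nil, td4vc_word_cons, td4vc_word_nil, mul_one] at h
  have a0 : ((1 : ℤ) : F) * (-t) ^ 1 * u ^ 1 = -(t * u) := by
    push_cast
    ring
  rw [a0] at h
  rw [h]

theorem td4vc_terms_0_18 : chevD4.commTerms 0 18 = [] := by
  decide

theorem td4vc_c_0_18 (t u : F) : X 18 u * X 0 t = X 0 t * X 18 u := by
  have h := td4vc_comm (F := F) 0 18 (by decide) (by decide) (by decide) (by decide) t u
  unfold ChevalleyDatum.commWord at h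
  rw [td4vc_terms_0_18] at h
  simp only [List.map_nil, td4vc_word_nil, mul_one] at h
  exact h

theorem td4vc_terms_0_19 : chevD4.commTerms 0 19 = [(6, -1, 1, 1)] := by
  decide

theorem td4vc_c_0_19 (t u : F) :
    X 19 u * X 0 t = X 0 t * X 19 u * X 6 (t * u) := by
  have h := td4vc_comm (F := F) 0 19 (by decide) (by decide) (by decide) (by decide) t u
  unfold ChevalleyDatum.commWord at h
  rw [td4vc_terms_0_19] at h
  simp only [List.map_cons, List.map_nil, td4vc_word_cons, td4vc_word_nil, mul_one] at h
  have a0 : (((-1) : ℤ) : F) * (-t) ^ 1 * u ^ 1 = t * u := by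
    push_cast
    ring
  rw [a0] at h
  rw [h]

theorem td4vc_terms_0_20 : chevD4.commTerms 0 20 = [(7, 1, 1, 1)] := by
  decide

theorem td4vc_c_0_20 (t u : F) :
    X 20 u * X 0 t = X 0 t * X 20 u * X 7 (-(t * u)) := by
  have h := td4vc_comm (F := F) 0 20 (by decide) (by decide) (by decide) (by decide) t u
  unfold ChevalleyDatum.commWord at h
  rw [td4vc_terms_0_20] at h
  simp only [List.map_cons, List.map_nil, td4vc_word_cons, td4vc_word_nil, mul_one] at h
  have a0 : ((1 : ℤ) : F) * (-t) ^ 1 * u ^ 1 = -(t * u) := by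
    push_cast
    ring
  rw [a0] at h
  rw [h]

theorem td4vc_terms_0_21 : chevD4.commTerms 0 21 = [(8, 1, 1, 1)] := by
  decide

theorem td4vc_c_0_21 (t u : F) :
    X 21 u * X 0 t = X 0 t * X 21 u * X 8 (-(t * u)) := by
  have h := td4vc_comm (F := F) 0 21 (by decide) (by decide) (by decide) (by decide) t u
  unfold ChevalleyDatum.commWord at h
  rw [td4vc_terms_0_21] at h
  simp only [List.map_cons, List.map_nil, td4vc_word_cons, td4vc_word_nil, mul_one] at h
  have a0 : ((1 : ℤ) : F) * (-t) ^ 1 * u ^ 1 = -(t * u) := by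
    push_cast
    ring
  rw [a0] at h
  rw [h]

theorem td4vc_terms_0_22 : chevD4.commTerms 0 22 = [(9, -1, 1, 1)] := by
  decide

theorem td4vc_c_0_22 (t u : F) :
    X 22 u * X 0 t = X 0 t * X 22 u * X 9 (t * u) := by
  have h := td4vc_comm (F := F) 0 22 (by decide) (by decide) (by decide) (by decide) t u
  unfold ChevalleyDatum.commWord at h
  rw [td4vc_terms_0_22] at h
  simp only [List.map_cons, List.map_nil, td4vc_word_cons, td4vc_word_nil, mul_one] at h
  have a0 : (((-1) : ℤ) : F) * (-t) ^ 1 * u ^ 1 = t * u := by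
    push_cast
    ring
  rw [a0] at h
  rw [h]

theorem td4vc_terms_1_0 : chevD4.commTerms 1 0 = [] := by
  decide

theorem td4vc_c_1_0 (t u : F) : X 0 u * X 1 t = X 1 t * X 0 u := by
  have h := td4vc_comm (F := F) 1 0 (by decide) (by decide) (by decide) (by decide) t u
  unfold ChevalleyDatum.commWord at h
  rw [td4vc_terms_1_0] at h
  simp only [List.map_nil, td4vc_word_nil, mul_one] at h
  exact h

theorem td4vc_terms_1_2 : chevD4.commTerms 1 2 = [] := by
  decide

theorem td4vc_c_1_2 (t u : F) : X 2 u * X 1 t = X 1 t * X 2 u := by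
  have h := td4vc_comm (F := F) 1 2 (by decide) (by decide) (by decide) (by decide) t u
  unfold ChevalleyDatum.commWord at h
  rw [td4vc_terms_1_2] at h
  simp only [List.map_nil, td4vc_word_nil, mul_one] at h
  exact h

theorem td4vc_terms_1_3 : chevD4.commTerms 1 3 = [] := by
  decide

theorem td4vc_c_1_3 (t u : F) : X 3 u * X 1 t = X 1 t * X 3 u := by
  have h := td4vc_comm (F := F) 1 3 (by decide) (by decide) (by decide) (by decide) t u
  unfold ChevalleyDatum.commWord at h
  rw [td4vc_terms_1_3] at h
  simp only [List.map_nil, td4vc_word_nil, mul_one] at h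
  exact h

theorem td4vc_terms_1_4 : chevD4.commTerms 1 4 = [] := by
  decide

theorem td4vc_c_1_4 (t u : F) : X 4 u * X 1 t = X 1 t * X 4 u := by
  have h := td4vc_comm (F := F) 1 4 (by decide) (by decide) (by decide) (by decide) t u
  unfold ChevalleyDatum.commWord at h
  rw [td4vc_terms_1_4] at h
  simp only [List.map_nil, td4vc_word_nil, mul_one] at h
  exact h

theorem td4vc_terms_1_5 : chevD4.commTerms 1 5 = [] := by
  decide

theorem td4vc_c_1_5 (t u : F) : X 5 u * X 1 t = X 1 t * X 5 u := by
  have h := td4vc_comm (F := F) 1 5 (by decide) (by decide) (by decide) (by decide) t u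
  unfold ChevalleyDatum.commWord at h
  rw [td4vc_terms_1_5] at h
  simp only [List.map_nil, td4vc_word_nil, mul_one] at h
  exact h

theorem td4vc_terms_1_6 : chevD4.commTerms 1 6 = [] := by
  decide

theorem td4vc_c_1_6 (t u : F) : X 6 u * X 1 t = X 1 t * X 6 u := by
  have h := td4vc_comm (F := F) 1 6 (by decide) (by decide) (by decide) (by decide) t u
  unfold ChevalleyDatum.commWord at h
  rw [td4vc_terms_1_6] at h
  simp only [List.map_nil, td4vc_word_nil, mul_one] at h
  exact h

theorem td4vc_terms_1_7 : chevD4.commTerms 1 7 = [] := by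
  decide

theorem td4vc_c_1_7 (t u : F) : X 7 u * X 1 t = X 1 t * X 7 u := by
  have h := td4vc_comm (F := F) 1 7 (by decide) (by decide) (by decide) (by decide) t u
  unfold ChevalleyDatum.commWord at h
  rw [td4vc_terms_1_7] at h
  simp only [List.map_nil, td4vc_word_nil, mul_one] at h
  exact h

theorem td4vc_terms_1_8 : chevD4.commTerms 1 8 = [] := by
  decide

theorem td4vc_c_1_8 (t u : F) : X 8 u * X 1 t = X 1 t * X 8 u := by
  have h := td4vc_comm (F := F) 1 8 (by decide) (by decide) (by decide) (by decide) t u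
  unfold ChevalleyDatum.commWord at h
  rw [td4vc_terms_1_8] at h
  simp only [List.map_nil, td4vc_word_nil, mul_one] at h
  exact h

theorem td4vc_terms_1_9 : chevD4.commTerms 1 9 = [(0, 1, 1, 1)] := by
  decide

theorem td4vc_c_1_9 (t u : F) :
    X 9 u * X 1 t = X 1 t * X 9 u * X 0 (-(t * u)) := by
  have h := td4vc_comm (F := F) 1 9 (by decide) (by decide) (by decide) (by decide) t u
  unfold ChevalleyDatum.commWord at h
  rw [td4vc_terms_1_9] at h
  simp only [List.map_cons, List.map_nil, td4vc_word_cons, td4vc_word_nil, mul_one] at h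
  have a0 : ((1 : ℤ) : F) * (-t) ^ 1 * u ^ 1 = -(t * u) := by
    push_cast
    ring
  rw [a0] at h
  rw [h]

theorem td4vc_terms_1_10 : chevD4.commTerms 1 10 = [] := by
  decide

theorem td4vc_c_1_10 (t u : F) : X 10 u * X 1 t = X 1 t * X 10 u := by
  have h := td4vc_comm (F := F) 1 10 (by decide) (by decide) (by decide) (by decide) t u
  unfold ChevalleyDatum.commWord at h
  rw [td4vc_terms_1_10] at h
  simp only [List.map_nil, td4vc_word_nil, mul_one] at h
  exact h

theorem td4vc_terms_1_11 : chevD4.commTerms 1 11 = [] := by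
  decide

theorem td4vc_c_1_11 (t u : F) : X 11 u * X 1 t = X 1 t * X 11 u := by
  have h := td4vc_comm (F := F) 1 11 (by decide) (by decide) (by decide) (by decide) t u
  unfold ChevalleyDatum.commWord at h
  rw [td4vc_terms_1_11] at h
  simp only [List.map_nil, td4vc_word_nil, mul_one] at h
  exact h

theorem td4vc_terms_1_12 : chevD4.commTerms 1 12 = [(2, 1, 1, 1)] := by
  decide

theorem td4vc_c_1_12 (t u : F) :
    X 12 u * X 1 t = X 1 t * X 12 u * X 2 (-(t * u)) := by
  have h := td4vc_comm (F := F) 1 12 (by decide) (by decide) (by decide) (by decide) t u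
  unfold ChevalleyDatum.commWord at h
  rw [td4vc_terms_1_12] at h
  simp only [List.map_cons, List.map_nil, td4vc_word_cons, td4vc_word_nil, mul_one] at h
  have a0 : ((1 : ℤ) : F) * (-t) ^ 1 * u ^ 1 = -(t * u) := by
    push_cast
    ring
  rw [a0] at h
  rw [h]

theorem td4vc_terms_1_13 : chevD4.commTerms 1 13 = [(3, 1, 1, 1)] := by
  decide

theorem td4vc_c_1_13 (t u : F) :
    X 13 u * X 1 t = X 1 t * X 13 u * X 3 (-(t * u)) := by
  have h := td4vc_comm (F := F) 1 13 (by decide) (by decide) (by decide) (by decide) t u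
  unfold ChevalleyDatum.commWord at h
  rw [td4vc_terms_1_13] at h
  simp only [List.map_cons, List.map_nil, td4vc_word_cons, td4vc_word_nil, mul_one] at h
  have a0 : ((1 : ℤ) : F) * (-t) ^ 1 * u ^ 1 = -(t * u) := by
    push_cast
    ring
  rw [a0] at h
  rw [h]

theorem td4vc_terms_1_14 : chevD4.commTerms 1 14 = [] := by
  decide

theorem td4vc_c_1_14 (t u : F) : X 14 u * X 1 t = X 1 t * X 14 u := by
  have h := td4vc_comm (F := F) 1 14 (by decide) (by decide) (by decide) (by decide) t u
  unfold ChevalleyDatum.commWord at h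
  rw [td4vc_terms_1_14] at h
  simp only [List.map_nil, td4vc_word_nil, mul_one] at h
  exact h

theorem td4vc_terms_1_15 : chevD4.commTerms 1 15 = [] := by
  decide

theorem td4vc_c_1_15 (t u : F) : X 15 u * X 1 t = X 1 t * X 15 u := by
  have h := td4vc_comm (F := F) 1 15 (by decide) (by decide) (by decide) (by decide) t u
  unfold ChevalleyDatum.commWord at h
  rw [td4vc_terms_1_15] at h
  simp only [List.map_nil, td4vc_word_nil, mul_one] at h
  exact h

theorem td4vc_terms_1_16 : chevD4.commTerms 1 16 = [] := by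
  decide

theorem td4vc_c_1_16 (t u : F) : X 16 u * X 1 t = X 1 t * X 16 u := by
  have h := td4vc_comm (F := F) 1 16 (by decide) (by decide) (by decide) (by decide) t u
  unfold ChevalleyDatum.commWord at h
  rw [td4vc_terms_1_16] at h
  simp only [List.map_nil, td4vc_word_nil, mul_one] at h
  exact h

theorem td4vc_terms_1_17 : chevD4.commTerms 1 17 = [(5, 1, 1, 1)] := by
  decide

theorem td4vc_c_1_17 (t u : F) :
    X 17 u * X 1 t = X 1 t * X 17 u * X 5 (-(t * u)) := by
  have h := td4vc_comm (F := F) 1 17 (by decide) (by decide) (by decide) (by decide) t u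
  unfold ChevalleyDatum.commWord at h
  rw [td4vc_terms_1_17] at h
  simp only [List.map_cons, List.map_nil, td4vc_word_cons, td4vc_word_nil, mul_one] at h
  have a0 : ((1 : ℤ) : F) * (-t) ^ 1 * u ^ 1 = -(t * u) := by
    push_cast
    ring
  rw [a0] at h
  rw [h]

theorem td4vc_terms_1_18 : chevD4.commTerms 1 18 = [(6, -1, 1, 1)] := by
  decide

theorem td4vc_c_1_18 (t u : F) :
    X 18 u * X 1 t = X 1 t * X 18 u * X 6 (t * u) := by
  have h := td4vc_comm (F := F) 1 18 (by decide) (by decide) (by decide) (by decide) t u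
  unfold ChevalleyDatum.commWord at h
  rw [td4vc_terms_1_18] at h
  simp only [List.map_cons, List.map_nil, td4vc_word_cons, td4vc_word_nil, mul_one] at h
  have a0 : (((-1) : ℤ) : F) * (-t) ^ 1 * u ^ 1 = t * u := by
    push_cast
    ring
  rw [a0] at h
  rw [h]

theorem td4vc_terms_1_19 : chevD4.commTerms 1 19 = [] := by
  decide

theorem td4vc_c_1_19 (t u : F) : X 19 u * X 1 t = X 1 t * X 19 u := by
  have h := td4vc_comm (F := F) 1 19 (by decide) (by decide) (by decide) (by decide) t u
  unfold ChevalleyDatum.commWord at h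
  rw [td4vc_terms_1_19] at h
  simp only [List.map_nil, td4vc_word_nil, mul_one] at h
  exact h

theorem td4vc_terms_1_20 : chevD4.commTerms 1 20 = [(10, -1, 1, 1)] := by
  decide

theorem td4vc_c_1_20 (t u : F) :
    X 20 u * X 1 t = X 1 t * X 20 u * X 10 (t * u) := by
  have h := td4vc_comm (F := F) 1 20 (by decide) (by decide) (by decide) (by decide) t u
  unfold ChevalleyDatum.commWord at h
  rw [td4vc_terms_1_20] at h
  simp only [List.map_cons, List.map_nil, td4vc_word_cons, td4vc_word_nil, mul_one] at h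
  have a0 : (((-1) : ℤ) : F) * (-t) ^ 1 * u ^ 1 = t * u := by
    push_cast
    ring
  rw [a0] at h
  rw [h]

theorem td4vc_terms_1_21 : chevD4.commTerms 1 21 = [(11, -1, 1, 1)] := by
  decide

theorem td4vc_c_1_21 (t u : F) :
    X 21 u * X 1 t = X 1 t * X 21 u * X 11 (t * u) := by
  have h := td4vc_comm (F := F) 1 21 (by decide) (by decide) (by decide) (by decide) t u
  unfold ChevalleyDatum.commWord at h
  rw [td4vc_terms_1_21] at h
  simp only [List.map_cons, List.map_nil, td4vc_word_cons, td4vc_word_nil, mul_one] at h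
  have a0 : (((-1) : ℤ) : F) * (-t) ^ 1 * u ^ 1 = t * u := by
    push_cast
    ring
  rw [a0] at h
  rw [h]

theorem td4vc_terms_1_23 : chevD4.commTerms 1 23 = [(14, -1, 1, 1)] := by
  decide

theorem td4vc_c_1_23 (t u : F) :
    X 23 u * X 1 t = X 1 t * X 23 u * X 14 (t * u) := by
  have h := td4vc_comm (F := F) 1 23 (by decide) (by decide) (by decide) (by decide) t u
  unfold ChevalleyDatum.commWord at h
  rw [td4vc_terms_1_23] at h
  simp only [List.map_cons, List.map_nil, td4vc_word_cons, td4vc_word_nil, mul_one] at h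
  have a0 : (((-1) : ℤ) : F) * (-t) ^ 1 * u ^ 1 = t * u := by
    push_cast
    ring
  rw [a0] at h
  rw [h]

theorem td4vc_terms_2_0 : chevD4.commTerms 2 0 = [] := by
  decide

theorem td4vc_c_2_0 (t u : F) : X 0 u * X 2 t = X 2 t * X 0 u := by
  have h := td4vc_comm (F := F) 2 0 (by decide) (by decide) (by decide) (by decide) t u
  unfold ChevalleyDatum.commWord at h
  rw [td4vc_terms_2_0] at h
  simp only [List.map_nil, td4vc_word_nil, mul_one] at h
  exact h

theorem td4vc_terms_2_1 : chevD4.commTerms 2 1 = [] := by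
  decide

theorem td4vc_c_2_1 (t u : F) : X 1 u * X 2 t = X 2 t * X 1 u := by
  have h := td4vc_comm (F := F) 2 1 (by decide) (by decide) (by decide) (by decide) t u
  unfold ChevalleyDatum.commWord at h
  rw [td4vc_terms_2_1] at h
  simp only [List.map_nil, td4vc_word_nil, mul_one] at h
  exact h

theorem td4vc_terms_2_3 : chevD4.commTerms 2 3 = [] := by
  decide

theorem td4vc_c_2_3 (t u : F) : X 3 u * X 2 t = X 2 t * X 3 u := by
  have h := td4vc_comm (F := F) 2 3 (by decide) (by decide) (by decide) (by decide) t u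
  unfold ChevalleyDatum.commWord at h
  rw [td4vc_terms_2_3] at h
  simp only [List.map_nil, td4vc_word_nil, mul_one] at h
  exact h

theorem td4vc_terms_2_4 : chevD4.commTerms 2 4 = [] := by
  decide

theorem td4vc_c_2_4 (t u : F) : X 4 u * X 2 t = X 2 t * X 4 u := by
  have h := td4vc_comm (F := F) 2 4 (by decide) (by decide) (by decide) (by decide) t u
  unfold ChevalleyDatum.commWord at h
  rw [td4vc_terms_2_4] at h
  simp only [List.map_nil, td4vc_word_nil, mul_one] at h
  exact h

theorem td4vc_terms_2_5 : chevD4.commTerms 2 5 = [] := by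
  decide

theorem td4vc_c_2_5 (t u : F) : X 5 u * X 2 t = X 2 t * X 5 u := by
  have h := td4vc_comm (F := F) 2 5 (by decide) (by decide) (by decide) (by decide) t u
  unfold ChevalleyDatum.commWord at h
  rw [td4vc_terms_2_5] at h
  simp only [List.map_nil, td4vc_word_nil, mul_one] at h
  exact h

theorem td4vc_terms_2_6 : chevD4.commTerms 2 6 = [] := by
  decide

theorem td4vc_c_2_6 (t u : F) : X 6 u * X 2 t = X 2 t * X 6 u := by
  have h := td4vc_comm (F := F) 2 6 (by decide) (by decide) (by decide) (by decide) t u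
  unfold ChevalleyDatum.commWord at h
  rw [td4vc_terms_2_6] at h
  simp only [List.map_nil, td4vc_word_nil, mul_one] at h
  exact h

theorem td4vc_terms_2_7 : chevD4.commTerms 2 7 = [] := by
  decide

theorem td4vc_c_2_7 (t u : F) : X 7 u * X 2 t = X 2 t * X 7 u := by
  have h := td4vc_comm (F := F) 2 7 (by decide) (by decide) (by decide) (by decide) t u
  unfold ChevalleyDatum.commWord at h
  rw [td4vc_terms_2_7] at h
  simp only [List.map_nil, td4vc_word_nil, mul_one] at h
  exact h

theorem td4vc_terms_2_8 : chevD4.commTerms 2 8 = [(0, -1, 1, 1)] := by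
  decide

theorem td4vc_c_2_8 (t u : F) :
    X 8 u * X 2 t = X 2 t * X 8 u * X 0 (t * u) := by
  have h := td4vc_comm (F := F) 2 8 (by decide) (by decide) (by decide) (by decide) t u
  unfold ChevalleyDatum.commWord at h
  rw [td4vc_terms_2_8] at h
  simp only [List.map_cons, List.map_nil, td4vc_word_cons, td4vc_word_nil, mul_one] at h
  have a0 : (((-1) : ℤ) : F) * (-t) ^ 1 * u ^ 1 = t * u := by
    push_cast
    ring
  rw [a0] at h
  rw [h]

theorem td4vc_terms_2_9 : chevD4.commTerms 2 9 = [] := by
  decide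

theorem td4vc_c_2_9 (t u : F) : X 9 u * X 2 t = X 2 t * X 9 u := by
  have h := td4vc_comm (F := F) 2 9 (by decide) (by decide) (by decide) (by decide) t u
  unfold ChevalleyDatum.commWord at h
  rw [td4vc_terms_2_9] at h
  simp only [List.map_nil, td4vc_word_nil, mul_one] at h
  exact h

theorem td4vc_terms_2_10 : chevD4.commTerms 2 10 = [] := by
  decide

theorem td4vc_c_2_10 (t u : F) : X 10 u * X 2 t = X 2 t * X 10 u := by
  have h := td4vc_comm (F := F) 2 10 (by decide) (by decide) (by decide) (by decide) t u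
  unfold ChevalleyDatum.commWord at h
  rw [td4vc_terms_2_10] at h
  simp only [List.map_nil, td4vc_word_nil, mul_one] at h
  exact h

theorem td4vc_terms_2_11 : chevD4.commTerms 2 11 = [(1, 1, 1, 1)] := by
  decide

theorem td4vc_c_2_11 (t u : F) :
    X 11 u * X 2 t = X 2 t * X 11 u * X 1 (-(t * u)) := by
  have h := td4vc_comm (F := F) 2 11 (by decide) (by decide) (by decide) (by decide) t u
  unfold ChevalleyDatum.commWord at h
  rw [td4vc_terms_2_11] at h
  simp only [List.map_cons, List.map_nil, td4vc_word_cons, td4vc_word_nil, mul_one] at h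
  have a0 : ((1 : ℤ) : F) * (-t) ^ 1 * u ^ 1 = -(t * u) := by
    push_cast
    ring
  rw [a0] at h
  rw [h]

theorem td4vc_terms_2_12 : chevD4.commTerms 2 12 = [] := by
  decide

theorem td4vc_c_2_12 (t u : F) : X 12 u * X 2 t = X 2 t * X 12 u := by
  have h := td4vc_comm (F := F) 2 12 (by decide) (by decide) (by decide) (by decide) t u
  unfold ChevalleyDatum.commWord at h
  rw [td4vc_terms_2_12] at h
  simp only [List.map_nil, td4vc_word_nil, mul_one] at h
  exact h

theorem td4vc_terms_2_13 : chevD4.commTerms 2 13 = [(4, 1, 1, 1)] := by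
  decide

theorem td4vc_c_2_13 (t u : F) :
    X 13 u * X 2 t = X 2 t * X 13 u * X 4 (-(t * u)) := by
  have h := td4vc_comm (F := F) 2 13 (by decide) (by decide) (by decide) (by decide) t u
  unfold ChevalleyDatum.commWord at h
  rw [td4vc_terms_2_13] at h
  simp only [List.map_cons, List.map_nil, td4vc_word_cons, td4vc_word_nil, mul_one] at h
  have a0 : ((1 : ℤ) : F) * (-t) ^ 1 * u ^ 1 = -(t * u) := by
    push_cast
    ring
  rw [a0] at h
  rw [h]

theorem td4vc_terms_2_14 : chevD4.commTerms 2 14 = [] := by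
  decide

theorem td4vc_c_2_14 (t u : F) : X 14 u * X 2 t = X 2 t * X 14 u := by
  have h := td4vc_comm (F := F) 2 14 (by decide) (by decide) (by decide) (by decide) t u
  unfold ChevalleyDatum.commWord at h
  rw [td4vc_terms_2_14] at h
  simp only [List.map_nil, td4vc_word_nil, mul_one] at h
  exact h

theorem td4vc_terms_2_15 : chevD4.commTerms 2 15 = [] := by
  decide

theorem td4vc_c_2_15 (t u : F) : X 15 u * X 2 t = X 2 t * X 15 u := by
  have h := td4vc_comm (F := F) 2 15 (by decide) (by decide) (by decide) (by decide) t u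
  unfold ChevalleyDatum.commWord at h
  rw [td4vc_terms_2_15] at h
  simp only [List.map_nil, td4vc_word_nil, mul_one] at h
  exact h

theorem td4vc_terms_2_16 : chevD4.commTerms 2 16 = [(5, 1, 1, 1)] := by
  decide

theorem td4vc_c_2_16 (t u : F) :
    X 16 u * X 2 t = X 2 t * X 16 u * X 5 (-(t * u)) := by
  have h := td4vc_comm (F := F) 2 16 (by decide) (by decide) (by decide) (by decide) t u
  unfold ChevalleyDatum.commWord at h
  rw [td4vc_terms_2_16] at h
  simp only [List.map_cons, List.map_nil, td4vc_word_cons, td4vc_word_nil, mul_one] at h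
  have a0 : ((1 : ℤ) : F) * (-t) ^ 1 * u ^ 1 = -(t * u) := by
    push_cast
    ring
  rw [a0] at h
  rw [h]

theorem td4vc_terms_2_17 : chevD4.commTerms 2 17 = [] := by
  decide

theorem td4vc_c_2_17 (t u : F) : X 17 u * X 2 t = X 2 t * X 17 u := by
  have h := td4vc_comm (F := F) 2 17 (by decide) (by decide) (by decide) (by decide) t u
  unfold ChevalleyDatum.commWord at h
  rw [td4vc_terms_2_17] at h
  simp only [List.map_nil, td4vc_word_nil, mul_one] at h
  exact h

theorem td4vc_terms_2_18 : chevD4.commTerms 2 18 = [(7, -1, 1, 1)] := by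
  decide

theorem td4vc_c_2_18 (t u : F) :
    X 18 u * X 2 t = X 2 t * X 18 u * X 7 (t * u) := by
  have h := td4vc_comm (F := F) 2 18 (by decide) (by decide) (by decide) (by decide) t u
  unfold ChevalleyDatum.commWord at h
  rw [td4vc_terms_2_18] at h
  simp only [List.map_cons, List.map_nil, td4vc_word_cons, td4vc_word_nil, mul_one] at h
  have a0 : (((-1) : ℤ) : F) * (-t) ^ 1 * u ^ 1 = t * u := by
    push_cast
    ring
  rw [a0] at h
  rw [h]

theorem td4vc_terms_2_19 : chevD4.commTerms 2 19 = [(10, -1, 1, 1)] := by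
  decide

theorem td4vc_c_2_19 (t u : F) :
    X 19 u * X 2 t = X 2 t * X 19 u * X 10 (t * u) := by
  have h := td4vc_comm (F := F) 2 19 (by decide) (by decide) (by decide) (by decide) t u
  unfold ChevalleyDatum.commWord at h
  rw [td4vc_terms_2_19] at h
  simp only [List.map_cons, List.map_nil, td4vc_word_cons, td4vc_word_nil, mul_one] at h
  have a0 : (((-1) : ℤ) : F) * (-t) ^ 1 * u ^ 1 = t * u := by
    push_cast
    ring
  rw [a0] at h
  rw [h]

theorem td4vc_terms_2_20 : chevD4.commTerms 2 20 = [] := by
  decide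

theorem td4vc_c_2_20 (t u : F) : X 20 u * X 2 t = X 2 t * X 20 u := by
  have h := td4vc_comm (F := F) 2 20 (by decide) (by decide) (by decide) (by decide) t u
  unfold ChevalleyDatum.commWord at h
  rw [td4vc_terms_2_20] at h
  simp only [List.map_nil, td4vc_word_nil, mul_one] at h
  exact h

theorem td4vc_terms_2_22 : chevD4.commTerms 2 22 = [(12, -1, 1, 1)] := by
  decide

theorem td4vc_c_2_22 (t u : F) :
    X 22 u * X 2 t = X 2 t * X 22 u * X 12 (t * u) := by
  have h := td4vc_comm (F := F) 2 22 (by decide) (by decide) (by decide) (by decide) t u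
  unfold ChevalleyDatum.commWord at h
  rw [td4vc_terms_2_22] at h
  simp only [List.map_cons, List.map_nil, td4vc_word_cons, td4vc_word_nil, mul_one] at h
  have a0 : (((-1) : ℤ) : F) * (-t) ^ 1 * u ^ 1 = t * u := by
    push_cast
    ring
  rw [a0] at h
  rw [h]

theorem td4vc_terms_2_23 : chevD4.commTerms 2 23 = [(15, 1, 1, 1)] := by
  decide

theorem td4vc_c_2_23 (t u : F) :
    X 23 u * X 2 t = X 2 t * X 23 u * X 15 (-(t * u)) := by
  have h := td4vc_comm (F := F) 2 23 (by decide) (by decide) (by decide) (by decide) t u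
  unfold ChevalleyDatum.commWord at h
  rw [td4vc_terms_2_23] at h
  simp only [List.map_cons, List.map_nil, td4vc_word_cons, td4vc_word_nil, mul_one] at h
  have a0 : ((1 : ℤ) : F) * (-t) ^ 1 * u ^ 1 = -(t * u) := by
    push_cast
    ring
  rw [a0] at h
  rw [h]

theorem td4vc_terms_3_0 : chevD4.commTerms 3 0 = [] := by
  decide

theorem td4vc_c_3_0 (t u : F) : X 0 u * X 3 t = X 3 t * X 0 u := by
  have h := td4vc_comm (F := F) 3 0 (by decide) (by decide) (by decide) (by decide) t u
  unfold ChevalleyDatum.commWord at h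
  rw [td4vc_terms_3_0] at h
  simp only [List.map_nil, td4vc_word_nil, mul_one] at h
  exact h

theorem td4vc_terms_3_1 : chevD4.commTerms 3 1 = [] := by
  decide

theorem td4vc_c_3_1 (t u : F) : X 1 u * X 3 t = X 3 t * X 1 u := by
  have h := td4vc_comm (F := F) 3 1 (by decide) (by decide) (by decide) (by decide) t u
  unfold ChevalleyDatum.commWord at h
  rw [td4vc_terms_3_1] at h
  simp only [List.map_nil, td4vc_word_nil, mul_one] at h
  exact h

theorem td4vc_terms_3_2 : chevD4.commTerms 3 2 = [] := by
  decide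

theorem td4vc_c_3_2 (t u : F) : X 2 u * X 3 t = X 3 t * X 2 u := by
  have h := td4vc_comm (F := F) 3 2 (by decide) (by decide) (by decide) (by decide) t u
  unfold ChevalleyDatum.commWord at h
  rw [td4vc_terms_3_2] at h
  simp only [List.map_nil, td4vc_word_nil, mul_one] at h
  exact h

theorem td4vc_terms_3_4 : chevD4.commTerms 3 4 = [] := by
  decide

theorem td4vc_c_3_4 (t u : F) : X 4 u * X 3 t = X 3 t * X 4 u := by
  have h := td4vc_comm (F := F) 3 4 (by decide) (by decide) (by decide) (by decide) t u
  unfold ChevalleyDatum.commWord at h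
  rw [td4vc_terms_3_4] at h
  simp only [List.map_nil, td4vc_word_nil, mul_one] at h
  exact h

theorem td4vc_terms_3_5 : chevD4.commTerms 3 5 = [] := by
  decide

theorem td4vc_c_3_5 (t u : F) : X 5 u * X 3 t = X 3 t * X 5 u := by
  have h := td4vc_comm (F := F) 3 5 (by decide) (by decide) (by decide) (by decide) t u
  unfold ChevalleyDatum.commWord at h
  rw [td4vc_terms_3_5] at h
  simp only [List.map_nil, td4vc_word_nil, mul_one] at h
  exact h

theorem td4vc_terms_3_6 : chevD4.commTerms 3 6 = [] := by
  decide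

theorem td4vc_c_3_6 (t u : F) : X 6 u * X 3 t = X 3 t * X 6 u := by
  have h := td4vc_comm (F := F) 3 6 (by decide) (by decide) (by decide) (by decide) t u
  unfold ChevalleyDatum.commWord at h
  rw [td4vc_terms_3_6] at h
  simp only [List.map_nil, td4vc_word_nil, mul_one] at h
  exact h

theorem td4vc_terms_3_7 : chevD4.commTerms 3 7 = [(0, -1, 1, 1)] := by
  decide

theorem td4vc_c_3_7 (t u : F) :
    X 7 u * X 3 t = X 3 t * X 7 u * X 0 (t * u) := by
  have h := td4vc_comm (F := F) 3 7 (by decide) (by decide) (by decide) (by decide) t u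
  unfold ChevalleyDatum.commWord at h
  rw [td4vc_terms_3_7] at h
  simp only [List.map_cons, List.map_nil, td4vc_word_cons, td4vc_word_nil, mul_one] at h
  have a0 : (((-1) : ℤ) : F) * (-t) ^ 1 * u ^ 1 = t * u := by
    push_cast
    ring
  rw [a0] at h
  rw [h]

theorem td4vc_terms_3_8 : chevD4.commTerms 3 8 = [] := by
  decide

theorem td4vc_c_3_8 (t u : F) : X 8 u * X 3 t = X 3 t * X 8 u := by
  have h := td4vc_comm (F := F) 3 8 (by decide) (by decide) (by decide) (by decide) t u
  unfold ChevalleyDatum.commWord at h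
  rw [td4vc_terms_3_8] at h
  simp only [List.map_nil, td4vc_word_nil, mul_one] at h
  exact h

theorem td4vc_terms_3_9 : chevD4.commTerms 3 9 = [] := by
  decide

theorem td4vc_c_3_9 (t u : F) : X 9 u * X 3 t = X 3 t * X 9 u := by
  have h := td4vc_comm (F := F) 3 9 (by decide) (by decide) (by decide) (by decide) t u
  unfold ChevalleyDatum.commWord at h
  rw [td4vc_terms_3_9] at h
  simp only [List.map_nil, td4vc_word_nil, mul_one] at h
  exact h

theorem td4vc_terms_3_10 : chevD4.commTerms 3 10 = [(1, 1, 1, 1)] := by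
  decide

theorem td4vc_c_3_10 (t u : F) :
    X 10 u * X 3 t = X 3 t * X 10 u * X 1 (-(t * u)) := by
  have h := td4vc_comm (F := F) 3 10 (by decide) (by decide) (by decide) (by decide) t u
  unfold ChevalleyDatum.commWord at h
  rw [td4vc_terms_3_10] at h
  simp only [List.map_cons, List.map_nil, td4vc_word_cons, td4vc_word_nil, mul_one] at h
  have a0 : ((1 : ℤ) : F) * (-t) ^ 1 * u ^ 1 = -(t * u) := by
    push_cast
    ring
  rw [a0] at h
  rw [h]

theorem td4vc_terms_3_11 : chevD4.commTerms 3 11 = [] := by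
  decide

theorem td4vc_c_3_11 (t u : F) : X 11 u * X 3 t = X 3 t * X 11 u := by
  have h := td4vc_comm (F := F) 3 11 (by decide) (by decide) (by decide) (by decide) t u
  unfold ChevalleyDatum.commWord at h
  rw [td4vc_terms_3_11] at h
  simp only [List.map_nil, td4vc_word_nil, mul_one] at h
  exact h

theorem td4vc_terms_3_12 : chevD4.commTerms 3 12 = [(4, 1, 1, 1)] := by
  decide

theorem td4vc_c_3_12 (t u : F) :
    X 12 u * X 3 t = X 3 t * X 12 u * X 4 (-(t * u)) := by
  have h := td4vc_comm (F := F) 3 12 (by decide) (by decide) (by decide) (by decide) t u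
  unfold ChevalleyDatum.commWord at h
  rw [td4vc_terms_3_12] at h
  simp only [List.map_cons, List.map_nil, td4vc_word_cons, td4vc_word_nil, mul_one] at h
  have a0 : ((1 : ℤ) : F) * (-t) ^ 1 * u ^ 1 = -(t * u) := by
    push_cast
    ring
  rw [a0] at h
  rw [h]

theorem td4vc_terms_3_13 : chevD4.commTerms 3 13 = [] := by
  decide

theorem td4vc_c_3_13 (t u : F) : X 13 u * X 3 t = X 3 t * X 13 u := by
  have h := td4vc_comm (F := F) 3 13 (by decide) (by decide) (by decide) (by decide) t u
  unfold ChevalleyDatum.commWord at h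
  rw [td4vc_terms_3_13] at h
  simp only [List.map_nil, td4vc_word_nil, mul_one] at h
  exact h

theorem td4vc_terms_3_14 : chevD4.commTerms 3 14 = [] := by
  decide

theorem td4vc_c_3_14 (t u : F) : X 14 u * X 3 t = X 3 t * X 14 u := by
  have h := td4vc_comm (F := F) 3 14 (by decide) (by decide) (by decide) (by decide) t u
  unfold ChevalleyDatum.commWord at h
  rw [td4vc_terms_3_14] at h
  simp only [List.map_nil, td4vc_word_nil, mul_one] at h
  exact h

theorem td4vc_terms_3_15 : chevD4.commTerms 3 15 = [(5, 1, 1, 1)] := by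
  decide

theorem td4vc_c_3_15 (t u : F) :
    X 15 u * X 3 t = X 3 t * X 15 u * X 5 (-(t * u)) := by
  have h := td4vc_comm (F := F) 3 15 (by decide) (by decide) (by decide) (by decide) t u
  unfold ChevalleyDatum.commWord at h
  rw [td4vc_terms_3_15] at h
  simp only [List.map_cons, List.map_nil, td4vc_word_cons, td4vc_word_nil, mul_one] at h
  have a0 : ((1 : ℤ) : F) * (-t) ^ 1 * u ^ 1 = -(t * u) := by
    push_cast
    ring
  rw [a0] at h
  rw [h]

theorem td4vc_terms_3_16 : chevD4.commTerms 3 16 = [] := by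
  decide

theorem td4vc_c_3_16 (t u : F) : X 16 u * X 3 t = X 3 t * X 16 u := by
  have h := td4vc_comm (F := F) 3 16 (by decide) (by decide) (by decide) (by decide) t u
  unfold ChevalleyDatum.commWord at h
  rw [td4vc_terms_3_16] at h
  simp only [List.map_nil, td4vc_word_nil, mul_one] at h
  exact h

theorem td4vc_terms_3_17 : chevD4.commTerms 3 17 = [] := by
  decide

theorem td4vc_c_3_17 (t u : F) : X 17 u * X 3 t = X 3 t * X 17 u := by
  have h := td4vc_comm (F := F) 3 17 (by decide) (by decide) (by decide) (by decide) t u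
  unfold ChevalleyDatum.commWord at h
  rw [td4vc_terms_3_17] at h
  simp only [List.map_nil, td4vc_word_nil, mul_one] at h
  exact h

theorem td4vc_terms_3_18 : chevD4.commTerms 3 18 = [(8, -1, 1, 1)] := by
  decide

theorem td4vc_c_3_18 (t u : F) :
    X 18 u * X 3 t = X 3 t * X 18 u * X 8 (t * u) := by
  have h := td4vc_comm (F := F) 3 18 (by decide) (by decide) (by decide) (by decide) t u
  unfold ChevalleyDatum.commWord at h
  rw [td4vc_terms_3_18] at h
  simp only [List.map_cons, List.map_nil, td4vc_word_cons, td4vc_word_nil, mul_one] at h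
  have a0 : (((-1) : ℤ) : F) * (-t) ^ 1 * u ^ 1 = t * u := by
    push_cast
    ring
  rw [a0] at h
  rw [h]

theorem td4vc_terms_3_19 : chevD4.commTerms 3 19 = [(11, -1, 1, 1)] := by
  decide

theorem td4vc_c_3_19 (t u : F) :
    X 19 u * X 3 t = X 3 t * X 19 u * X 11 (t * u) := by
  have h := td4vc_comm (F := F) 3 19 (by decide) (by decide) (by decide) (by decide) t u
  unfold ChevalleyDatum.commWord at h
  rw [td4vc_terms_3_19] at h
  simp only [List.map_cons, List.map_nil, td4vc_word_cons, td4vc_word_nil, mul_one] at h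
  have a0 : (((-1) : ℤ) : F) * (-t) ^ 1 * u ^ 1 = t * u := by
    push_cast
    ring
  rw [a0] at h
  rw [h]

theorem td4vc_terms_3_21 : chevD4.commTerms 3 21 = [] := by
  decide

theorem td4vc_c_3_21 (t u : F) : X 21 u * X 3 t = X 3 t * X 21 u := by
  have h := td4vc_comm (F := F) 3 21 (by decide) (by decide) (by decide) (by decide) t u
  unfold ChevalleyDatum.commWord at h
  rw [td4vc_terms_3_21] at h
  simp only [List.map_nil, td4vc_word_nil, mul_one] at h
  exact h

theorem td4vc_terms_3_22 : chevD4.commTerms 3 22 = [(13, -1, 1, 1)] := by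
  decide

theorem td4vc_c_3_22 (t u : F) :
    X 22 u * X 3 t = X 3 t * X 22 u * X 13 (t * u) := by
  have h := td4vc_comm (F := F) 3 22 (by decide) (by decide) (by decide) (by decide) t u
  unfold ChevalleyDatum.commWord at h
  rw [td4vc_terms_3_22] at h
  simp only [List.map_cons, List.map_nil, td4vc_word_cons, td4vc_word_nil, mul_one] at h
  have a0 : (((-1) : ℤ) : F) * (-t) ^ 1 * u ^ 1 = t * u := by
    push_cast
    ring
  rw [a0] at h
  rw [h]

theorem td4vc_terms_3_23 : chevD4.commTerms 3 23 = [(16, 1, 1, 1)] := by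
  decide

theorem td4vc_c_3_23 (t u : F) :
    X 23 u * X 3 t = X 3 t * X 23 u * X 16 (-(t * u)) := by
  have h := td4vc_comm (F := F) 3 23 (by decide) (by decide) (by decide) (by decide) t u
  unfold ChevalleyDatum.commWord at h
  rw [td4vc_terms_3_23] at h
  simp only [List.map_cons, List.map_nil, td4vc_word_cons, td4vc_word_nil, mul_one] at h
  have a0 : ((1 : ℤ) : F) * (-t) ^ 1 * u ^ 1 = -(t * u) := by
    push_cast
    ring
  rw [a0] at h
  rw [h]

theorem td4vc_terms_4_0 : chevD4.commTerms 4 0 = [] := by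
  decide

theorem td4vc_c_4_0 (t u : F) : X 0 u * X 4 t = X 4 t * X 0 u := by
  have h := td4vc_comm (F := F) 4 0 (by decide) (by decide) (by decide) (by decide) t u
  unfold ChevalleyDatum.commWord at h
  rw [td4vc_terms_4_0] at h
  simp only [List.map_nil, td4vc_word_nil, mul_one] at h
  exact h

theorem td4vc_terms_4_1 : chevD4.commTerms 4 1 = [] := by
  decide

theorem td4vc_c_4_1 (t u : F) : X 1 u * X 4 t = X 4 t * X 1 u := by
  have h := td4vc_comm (F := F) 4 1 (by decide) (by decide) (by decide) (by decide) t u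
  unfold ChevalleyDatum.commWord at h
  rw [td4vc_terms_4_1] at h
  simp only [List.map_nil, td4vc_word_nil, mul_one] at h
  exact h

theorem td4vc_terms_4_2 : chevD4.commTerms 4 2 = [] := by
  decide

theorem td4vc_c_4_2 (t u : F) : X 2 u * X 4 t = X 4 t * X 2 u := by
  have h := td4vc_comm (F := F) 4 2 (by decide) (by decide) (by decide) (by decide) t u
  unfold ChevalleyDatum.commWord at h
  rw [td4vc_terms_4_2] at h
  simp only [List.map_nil, td4vc_word_nil, mul_one] at h
  exact h

theorem td4vc_terms_4_3 : chevD4.commTerms 4 3 = [] := by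
  decide

theorem td4vc_c_4_3 (t u : F) : X 3 u * X 4 t = X 4 t * X 3 u := by
  have h := td4vc_comm (F := F) 4 3 (by decide) (by decide) (by decide) (by decide) t u
  unfold ChevalleyDatum.commWord at h
  rw [td4vc_terms_4_3] at h
  simp only [List.map_nil, td4vc_word_nil, mul_one] at h
  exact h

theorem td4vc_terms_4_5 : chevD4.commTerms 4 5 = [] := by
  decide

theorem td4vc_c_4_5 (t u : F) : X 5 u * X 4 t = X 4 t * X 5 u := by
  have h := td4vc_comm (F := F) 4 5 (by decide) (by decide) (by decide) (by decide) t u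
  unfold ChevalleyDatum.commWord at h
  rw [td4vc_terms_4_5] at h
  simp only [List.map_nil, td4vc_word_nil, mul_one] at h
  exact h

theorem td4vc_terms_4_6 : chevD4.commTerms 4 6 = [(0, 1, 1, 1)] := by
  decide

theorem td4vc_c_4_6 (t u : F) :
    X 6 u * X 4 t = X 4 t * X 6 u * X 0 (-(t * u)) := by
  have h := td4vc_comm (F := F) 4 6 (by decide) (by decide) (by decide) (by decide) t u
  unfold ChevalleyDatum.commWord at h
  rw [td4vc_terms_4_6] at h
  simp only [List.map_cons, List.map_nil, td4vc_word_cons, td4vc_word_nil, mul_one] at h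
  have a0 : ((1 : ℤ) : F) * (-t) ^ 1 * u ^ 1 = -(t * u) := by
    push_cast
    ring
  rw [a0] at h
  rw [h]

theorem td4vc_terms_4_7 : chevD4.commTerms 4 7 = [] := by
  decide

theorem td4vc_c_4_7 (t u : F) : X 7 u * X 4 t = X 4 t * X 7 u := by
  have h := td4vc_comm (F := F) 4 7 (by decide) (by decide) (by decide) (by decide) t u
  unfold ChevalleyDatum.commWord at h
  rw [td4vc_terms_4_7] at h
  simp only [List.map_nil, td4vc_word_nil, mul_one] at h
  exact h

theorem td4vc_terms_4_8 : chevD4.commTerms 4 8 = [] := by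
  decide

theorem td4vc_c_4_8 (t u : F) : X 8 u * X 4 t = X 4 t * X 8 u := by
  have h := td4vc_comm (F := F) 4 8 (by decide) (by decide) (by decide) (by decide) t u
  unfold ChevalleyDatum.commWord at h
  rw [td4vc_terms_4_8] at h
  simp only [List.map_nil, td4vc_word_nil, mul_one] at h
  exact h

theorem td4vc_terms_4_9 : chevD4.commTerms 4 9 = [] := by
  decide

theorem td4vc_c_4_9 (t u : F) : X 9 u * X 4 t = X 4 t * X 9 u := by
  have h := td4vc_comm (F := F) 4 9 (by decide) (by decide) (by decide) (by decide) t u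
  unfold ChevalleyDatum.commWord at h
  rw [td4vc_terms_4_9] at h
  simp only [List.map_nil, td4vc_word_nil, mul_one] at h
  exact h

theorem td4vc_terms_4_10 : chevD4.commTerms 4 10 = [(2, 1, 1, 1)] := by
  decide

theorem td4vc_c_4_10 (t u : F) :
    X 10 u * X 4 t = X 4 t * X 10 u * X 2 (-(t * u)) := by
  have h := td4vc_comm (F := F) 4 10 (by decide) (by decide) (by decide) (by decide) t u
  unfold ChevalleyDatum.commWord at h
  rw [td4vc_terms_4_10] at h
  simp only [List.map_cons, List.map_nil, td4vc_word_cons, td4vc_word_nil, mul_one] at h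
  have a0 : ((1 : ℤ) : F) * (-t) ^ 1 * u ^ 1 = -(t * u) := by
    push_cast
    ring
  rw [a0] at h
  rw [h]

theorem td4vc_terms_4_11 : chevD4.commTerms 4 11 = [(3, 1, 1, 1)] := by
  decide

theorem td4vc_c_4_11 (t u : F) :
    X 11 u * X 4 t = X 4 t * X 11 u * X 3 (-(t * u)) := by
  have h := td4vc_comm (F := F) 4 11 (by decide) (by decide) (by decide) (by decide) t u
  unfold ChevalleyDatum.commWord at h
  rw [td4vc_terms_4_11] at h
  simp only [List.map_cons, List.map_nil, td4vc_word_cons, td4vc_word_nil, mul_one] at h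
  have a0 : ((1 : ℤ) : F) * (-t) ^ 1 * u ^ 1 = -(t * u) := by
    push_cast
    ring
  rw [a0] at h
  rw [h]

theorem td4vc_terms_4_12 : chevD4.commTerms 4 12 = [] := by
  decide

theorem td4vc_c_4_12 (t u : F) : X 12 u * X 4 t = X 4 t * X 12 u := by
  have h := td4vc_comm (F := F) 4 12 (by decide) (by decide) (by decide) (by decide) t u
  unfold ChevalleyDatum.commWord at h
  rw [td4vc_terms_4_12] at h
  simp only [List.map_nil, td4vc_word_nil, mul_one] at h
  exact h

theorem td4vc_terms_4_13 : chevD4.commTerms 4 13 = [] := by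
  decide

theorem td4vc_c_4_13 (t u : F) : X 13 u * X 4 t = X 4 t * X 13 u := by
  have h := td4vc_comm (F := F) 4 13 (by decide) (by decide) (by decide) (by decide) t u
  unfold ChevalleyDatum.commWord at h
  rw [td4vc_terms_4_13] at h
  simp only [List.map_nil, td4vc_word_nil, mul_one] at h
  exact h

theorem td4vc_terms_4_14 : chevD4.commTerms 4 14 = [(5, 1, 1, 1)] := by
  decide

theorem td4vc_c_4_14 (t u : F) :
    X 14 u * X 4 t = X 4 t * X 14 u * X 5 (-(t * u)) := by
  have h := td4vc_comm (F := F) 4 14 (by decide) (by decide) (by decide) (by decide) t u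
  unfold ChevalleyDatum.commWord at h
  rw [td4vc_terms_4_14] at h
  simp only [List.map_cons, List.map_nil, td4vc_word_cons, td4vc_word_nil, mul_one] at h
  have a0 : ((1 : ℤ) : F) * (-t) ^ 1 * u ^ 1 = -(t * u) := by
    push_cast
    ring
  rw [a0] at h
  rw [h]

theorem td4vc_terms_4_15 : chevD4.commTerms 4 15 = [] := by
  decide

theorem td4vc_c_4_15 (t u : F) : X 15 u * X 4 t = X 4 t * X 15 u := by
  have h := td4vc_comm (F := F) 4 15 (by decide) (by decide) (by decide) (by decide) t u
  unfold ChevalleyDatum.commWord at h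
  rw [td4vc_terms_4_15] at h
  simp only [List.map_nil, td4vc_word_nil, mul_one] at h
  exact h

theorem td4vc_terms_4_16 : chevD4.commTerms 4 16 = [] := by
  decide

theorem td4vc_c_4_16 (t u : F) : X 16 u * X 4 t = X 4 t * X 16 u := by
  have h := td4vc_comm (F := F) 4 16 (by decide) (by decide) (by decide) (by decide) t u
  unfold ChevalleyDatum.commWord at h
  rw [td4vc_terms_4_16] at h
  simp only [List.map_nil, td4vc_word_nil, mul_one] at h
  exact h

theorem td4vc_terms_4_17 : chevD4.commTerms 4 17 = [] := by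
  decide

theorem td4vc_c_4_17 (t u : F) : X 17 u * X 4 t = X 4 t * X 17 u := by
  have h := td4vc_comm (F := F) 4 17 (by decide) (by decide) (by decide) (by decide) t u
  unfold ChevalleyDatum.commWord at h
  rw [td4vc_terms_4_17] at h
  simp only [List.map_nil, td4vc_word_nil, mul_one] at h
  exact h

theorem td4vc_terms_4_18 : chevD4.commTerms 4 18 = [(9, -1, 1, 1)] := by
  decide

theorem td4vc_c_4_18 (t u : F) :
    X 18 u * X 4 t = X 4 t * X 18 u * X 9 (t * u) := by
  have h := td4vc_comm (F := F) 4 18 (by decide) (by decide) (by decide) (by decide) t u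
  unfold ChevalleyDatum.commWord at h
  rw [td4vc_terms_4_18] at h
  simp only [List.map_cons, List.map_nil, td4vc_word_cons, td4vc_word_nil, mul_one] at h
  have a0 : (((-1) : ℤ) : F) * (-t) ^ 1 * u ^ 1 = t * u := by
    push_cast
    ring
  rw [a0] at h
  rw [h]

theorem td4vc_terms_4_20 : chevD4.commTerms 4 20 = [(12, -1, 1, 1)] := by
  decide

theorem td4vc_c_4_20 (t u : F) :
    X 20 u * X 4 t = X 4 t * X 20 u * X 12 (t * u) := by
  have h := td4vc_comm (F := F) 4 20 (by decide) (by decide) (by decide) (by decide) t u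
  unfold ChevalleyDatum.commWord at h
  rw [td4vc_terms_4_20] at h
  simp only [List.map_cons, List.map_nil, td4vc_word_cons, td4vc_word_nil, mul_one] at h
  have a0 : (((-1) : ℤ) : F) * (-t) ^ 1 * u ^ 1 = t * u := by
    push_cast
    ring
  rw [a0] at h
  rw [h]

theorem td4vc_terms_4_21 : chevD4.commTerms 4 21 = [(13, -1, 1, 1)] := by
  decide

theorem td4vc_c_4_21 (t u : F) :
    X 21 u * X 4 t = X 4 t * X 21 u * X 13 (t * u) := by
  have h := td4vc_comm (F := F) 4 21 (by decide) (by decide) (by decide) (by decide) t u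
  unfold ChevalleyDatum.commWord at h
  rw [td4vc_terms_4_21] at h
  simp only [List.map_cons, List.map_nil, td4vc_word_cons, td4vc_word_nil, mul_one] at h
  have a0 : (((-1) : ℤ) : F) * (-t) ^ 1 * u ^ 1 = t * u := by
    push_cast
    ring
  rw [a0] at h
  rw [h]

theorem td4vc_terms_4_22 : chevD4.commTerms 4 22 = [] := by
  decide

theorem td4vc_c_4_22 (t u : F) : X 22 u * X 4 t = X 4 t * X 22 u := by
  have h := td4vc_comm (F := F) 4 22 (by decide) (by decide) (by decide) (by decide) t u
  unfold ChevalleyDatum.commWord at h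
  rw [td4vc_terms_4_22] at h
  simp only [List.map_nil, td4vc_word_nil, mul_one] at h
  exact h

theorem td4vc_terms_4_23 : chevD4.commTerms 4 23 = [(17, -1, 1, 1)] := by
  decide

theorem td4vc_c_4_23 (t u : F) :
    X 23 u * X 4 t = X 4 t * X 23 u * X 17 (t * u) := by
  have h := td4vc_comm (F := F) 4 23 (by decide) (by decide) (by decide) (by decide) t u
  unfold ChevalleyDatum.commWord at h
  rw [td4vc_terms_4_23] at h
  simp only [List.map_cons, List.map_nil, td4vc_word_cons, td4vc_word_nil, mul_one] at h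
  have a0 : (((-1) : ℤ) : F) * (-t) ^ 1 * u ^ 1 = t * u := by
    push_cast
    ring
  rw [a0] at h
  rw [h]

theorem td4vc_terms_5_0 : chevD4.commTerms 5 0 = [] := by
  decide

theorem td4vc_c_5_0 (t u : F) : X 0 u * X 5 t = X 5 t * X 0 u := by
  have h := td4vc_comm (F := F) 5 0 (by decide) (by decide) (by decide) (by decide) t u
  unfold ChevalleyDatum.commWord at h
  rw [td4vc_terms_5_0] at h
  simp only [List.map_nil, td4vc_word_nil, mul_one] at h
  exact h

theorem td4vc_terms_5_1 : chevD4.commTerms 5 1 = [] := by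
  decide

theorem td4vc_c_5_1 (t u : F) : X 1 u * X 5 t = X 5 t * X 1 u := by
  have h := td4vc_comm (F := F) 5 1 (by decide) (by decide) (by decide) (by decide) t u
  unfold ChevalleyDatum.commWord at h
  rw [td4vc_terms_5_1] at h
  simp only [List.map_nil, td4vc_word_nil, mul_one] at h
  exact h

theorem td4vc_terms_5_2 : chevD4.commTerms 5 2 = [] := by
  decide

theorem td4vc_c_5_2 (t u : F) : X 2 u * X 5 t = X 5 t * X 2 u := by
  have h := td4vc_comm (F := F) 5 2 (by decide) (by decide) (by decide) (by decide) t u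
  unfold ChevalleyDatum.commWord at h
  rw [td4vc_terms_5_2] at h
  simp only [List.map_nil, td4vc_word_nil, mul_one] at h
  exact h

theorem td4vc_terms_5_3 : chevD4.commTerms 5 3 = [] := by
  decide

theorem td4vc_c_5_3 (t u : F) : X 3 u * X 5 t = X 5 t * X 3 u := by
  have h := td4vc_comm (F := F) 5 3 (by decide) (by decide) (by decide) (by decide) t u
  unfold ChevalleyDatum.commWord at h
  rw [td4vc_terms_5_3] at h
  simp only [List.map_nil, td4vc_word_nil, mul_one] at h
  exact h

theorem td4vc_terms_5_4 : chevD4.commTerms 5 4 = [] := by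
  decide

theorem td4vc_c_5_4 (t u : F) : X 4 u * X 5 t = X 5 t * X 4 u := by
  have h := td4vc_comm (F := F) 5 4 (by decide) (by decide) (by decide) (by decide) t u
  unfold ChevalleyDatum.commWord at h
  rw [td4vc_terms_5_4] at h
  simp only [List.map_nil, td4vc_word_nil, mul_one] at h
  exact h

theorem td4vc_terms_5_6 : chevD4.commTerms 5 6 = [(1, 1, 1, 1)] := by
  decide

theorem td4vc_c_5_6 (t u : F) :
    X 6 u * X 5 t = X 5 t * X 6 u * X 1 (-(t * u)) := by
  have h := td4vc_comm (F := F) 5 6 (by decide) (by decide) (by decide) (by decide) t u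
  unfold ChevalleyDatum.commWord at h
  rw [td4vc_terms_5_6] at h
  simp only [List.map_cons, List.map_nil, td4vc_word_cons, td4vc_word_nil, mul_one] at h
  have a0 : ((1 : ℤ) : F) * (-t) ^ 1 * u ^ 1 = -(t * u) := by
    push_cast
    ring
  rw [a0] at h
  rw [h]

theorem td4vc_terms_5_7 : chevD4.commTerms 5 7 = [(2, 1, 1, 1)] := by
  decide

theorem td4vc_c_5_7 (t u : F) :
    X 7 u * X 5 t = X 5 t * X 7 u * X 2 (-(t * u)) := by
  have h := td4vc_comm (F := F) 5 7 (by decide) (by decide) (by decide) (by decide) t u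
  unfold ChevalleyDatum.commWord at h
  rw [td4vc_terms_5_7] at h
  simp only [List.map_cons, List.map_nil, td4vc_word_cons, td4vc_word_nil, mul_one] at h
  have a0 : ((1 : ℤ) : F) * (-t) ^ 1 * u ^ 1 = -(t * u) := by
    push_cast
    ring
  rw [a0] at h
  rw [h]

theorem td4vc_terms_5_8 : chevD4.commTerms 5 8 = [(3, 1, 1, 1)] := by
  decide

theorem td4vc_c_5_8 (t u : F) :
    X 8 u * X 5 t = X 5 t * X 8 u * X 3 (-(t * u)) := by
  have h := td4vc_comm (F := F) 5 8 (by decide) (by decide) (by decide) (by decide) t u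
  unfold ChevalleyDatum.commWord at h
  rw [td4vc_terms_5_8] at h
  simp only [List.map_cons, List.map_nil, td4vc_word_cons, td4vc_word_nil, mul_one] at h
  have a0 : ((1 : ℤ) : F) * (-t) ^ 1 * u ^ 1 = -(t * u) := by
    push_cast
    ring
  rw [a0] at h
  rw [h]

theorem td4vc_terms_5_9 : chevD4.commTerms 5 9 = [(4, 1, 1, 1)] := by
  decide

theorem td4vc_c_5_9 (t u : F) :
    X 9 u * X 5 t = X 5 t * X 9 u * X 4 (-(t * u)) := by
  have h := td4vc_comm (F := F) 5 9 (by decide) (by decide) (by decide) (by decide) t u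
  unfold ChevalleyDatum.commWord at h
  rw [td4vc_terms_5_9] at h
  simp only [List.map_cons, List.map_nil, td4vc_word_cons, td4vc_word_nil, mul_one] at h
  have a0 : ((1 : ℤ) : F) * (-t) ^ 1 * u ^ 1 = -(t * u) := by
    push_cast
    ring
  rw [a0] at h
  rw [h]

theorem td4vc_terms_5_10 : chevD4.commTerms 5 10 = [] := by
  decide

theorem td4vc_c_5_10 (t u : F) : X 10 u * X 5 t = X 5 t * X 10 u := by
  have h := td4vc_comm (F := F) 5 10 (by decide) (by decide) (by decide) (by decide) t u
  unfold ChevalleyDatum.commWord at h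
  rw [td4vc_terms_5_10] at h
  simp only [List.map_nil, td4vc_word_nil, mul_one] at h
  exact h

theorem td4vc_terms_5_11 : chevD4.commTerms 5 11 = [] := by
  decide

theorem td4vc_c_5_11 (t u : F) : X 11 u * X 5 t = X 5 t * X 11 u := by
  have h := td4vc_comm (F := F) 5 11 (by decide) (by decide) (by decide) (by decide) t u
  unfold ChevalleyDatum.commWord at h
  rw [td4vc_terms_5_11] at h
  simp only [List.map_nil, td4vc_word_nil, mul_one] at h
  exact h

theorem td4vc_terms_5_12 : chevD4.commTerms 5 12 = [] := by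
  decide

theorem td4vc_c_5_12 (t u : F) : X 12 u * X 5 t = X 5 t * X 12 u := by
  have h := td4vc_comm (F := F) 5 12 (by decide) (by decide) (by decide) (by decide) t u
  unfold ChevalleyDatum.commWord at h
  rw [td4vc_terms_5_12] at h
  simp only [List.map_nil, td4vc_word_nil, mul_one] at h
  exact h

theorem td4vc_terms_5_13 : chevD4.commTerms 5 13 = [] := by
  decide

theorem td4vc_c_5_13 (t u : F) : X 13 u * X 5 t = X 5 t * X 13 u := by
  have h := td4vc_comm (F := F) 5 13 (by decide) (by decide) (by decide) (by decide) t u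
  unfold ChevalleyDatum.commWord at h
  rw [td4vc_terms_5_13] at h
  simp only [List.map_nil, td4vc_word_nil, mul_one] at h
  exact h

theorem td4vc_terms_5_14 : chevD4.commTerms 5 14 = [] := by
  decide

theorem td4vc_c_5_14 (t u : F) : X 14 u * X 5 t = X 5 t * X 14 u := by
  have h := td4vc_comm (F := F) 5 14 (by decide) (by decide) (by decide) (by decide) t u
  unfold ChevalleyDatum.commWord at h
  rw [td4vc_terms_5_14] at h
  simp only [List.map_nil, td4vc_word_nil, mul_one] at h
  exact h

theorem td4vc_terms_5_15 : chevD4.commTerms 5 15 = [] := by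
  decide

theorem td4vc_c_5_15 (t u : F) : X 15 u * X 5 t = X 5 t * X 15 u := by
  have h := td4vc_comm (F := F) 5 15 (by decide) (by decide) (by decide) (by decide) t u
  unfold ChevalleyDatum.commWord at h
  rw [td4vc_terms_5_15] at h
  simp only [List.map_nil, td4vc_word_nil, mul_one] at h
  exact h

theorem td4vc_terms_5_16 : chevD4.commTerms 5 16 = [] := by
  decide

theorem td4vc_c_5_16 (t u : F) : X 16 u * X 5 t = X 5 t * X 16 u := by
  have h := td4vc_comm (F := F) 5 16 (by decide) (by decide) (by decide) (by decide) t u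
  unfold ChevalleyDatum.commWord at h
  rw [td4vc_terms_5_16] at h
  simp only [List.map_nil, td4vc_word_nil, mul_one] at h
  exact h

theorem td4vc_terms_5_17 : chevD4.commTerms 5 17 = [] := by
  decide

theorem td4vc_c_5_17 (t u : F) : X 17 u * X 5 t = X 5 t * X 17 u := by
  have h := td4vc_comm (F := F) 5 17 (by decide) (by decide) (by decide) (by decide) t u
  unfold ChevalleyDatum.commWord at h
  rw [td4vc_terms_5_17] at h
  simp only [List.map_nil, td4vc_word_nil, mul_one] at h
  exact h

theorem td4vc_terms_5_19 : chevD4.commTerms 5 19 = [(14, -1, 1, 1)] := by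
  decide

theorem td4vc_c_5_19 (t u : F) :
    X 19 u * X 5 t = X 5 t * X 19 u * X 14 (t * u) := by
  have h := td4vc_comm (F := F) 5 19 (by decide) (by decide) (by decide) (by decide) t u
  unfold ChevalleyDatum.commWord at h
  rw [td4vc_terms_5_19] at h
  simp only [List.map_cons, List.map_nil, td4vc_word_cons, td4vc_word_nil, mul_one] at h
  have a0 : (((-1) : ℤ) : F) * (-t) ^ 1 * u ^ 1 = t * u := by
    push_cast
    ring
  rw [a0] at h
  rw [h]

theorem td4vc_terms_5_20 : chevD4.commTerms 5 20 = [(15, -1, 1, 1)] := by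
  decide

theorem td4vc_c_5_20 (t u : F) :
    X 20 u * X 5 t = X 5 t * X 20 u * X 15 (t * u) := by
  have h := td4vc_comm (F := F) 5 20 (by decide) (by decide) (by decide) (by decide) t u
  unfold ChevalleyDatum.commWord at h
  rw [td4vc_terms_5_20] at h
  simp only [List.map_cons, List.map_nil, td4vc_word_cons, td4vc_word_nil, mul_one] at h
  have a0 : (((-1) : ℤ) : F) * (-t) ^ 1 * u ^ 1 = t * u := by
    push_cast
    ring
  rw [a0] at h
  rw [h]

theorem td4vc_terms_5_21 : chevD4.commTerms 5 21 = [(16, -1, 1, 1)] := by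
  decide

theorem td4vc_c_5_21 (t u : F) :
    X 21 u * X 5 t = X 5 t * X 21 u * X 16 (t * u) := by
  have h := td4vc_comm (F := F) 5 21 (by decide) (by decide) (by decide) (by decide) t u
  unfold ChevalleyDatum.commWord at h
  rw [td4vc_terms_5_21] at h
  simp only [List.map_cons, List.map_nil, td4vc_word_cons, td4vc_word_nil, mul_one] at h
  have a0 : (((-1) : ℤ) : F) * (-t) ^ 1 * u ^ 1 = t * u := by
    push_cast
    ring
  rw [a0] at h
  rw [h]

theorem td4vc_terms_5_22 : chevD4.commTerms 5 22 = [(17, -1, 1, 1)] := by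
  decide

theorem td4vc_c_5_22 (t u : F) :
    X 22 u * X 5 t = X 5 t * X 22 u * X 17 (t * u) := by
  have h := td4vc_comm (F := F) 5 22 (by decide) (by decide) (by decide) (by decide) t u
  unfold ChevalleyDatum.commWord at h
  rw [td4vc_terms_5_22] at h
  simp only [List.map_cons, List.map_nil, td4vc_word_cons, td4vc_word_nil, mul_one] at h
  have a0 : (((-1) : ℤ) : F) * (-t) ^ 1 * u ^ 1 = t * u := by
    push_cast
    ring
  rw [a0] at h
  rw [h]

theorem td4vc_terms_5_23 : chevD4.commTerms 5 23 = [] := by
  decide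

theorem td4vc_c_5_23 (t u : F) : X 23 u * X 5 t = X 5 t * X 23 u := by
  have h := td4vc_comm (F := F) 5 23 (by decide) (by decide) (by decide) (by decide) t u
  unfold ChevalleyDatum.commWord at h
  rw [td4vc_terms_5_23] at h
  simp only [List.map_nil, td4vc_word_nil, mul_one] at h
  exact h

end Cfsg.Agent.Lib.helper23.TD4V
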