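import Mathlib
import Cfsg.Agent.Lib.helper23.TD4V.Defs
import Cfsg.Agent.Lib.helper23.TD4VComm0

/-!
# Project TD4V (S2462): the commutator formula S1025 for all pairs of roots of `chevD4`, in the units `X r t`
(machine generated from the tables, as Helper19.G2VComm).

`td4vc_c_r_s t u : X s u * X r t = X r t * X s u` when `r + s` is no root, and
`td4vc_c_r_s t u : X s u * X r t = X r t * X s u * X k (∓(t * u))` when `r + s = k` is a root (`D₄` is simply laced).
-/

set_option autoImplicit false

namespace Cfsg.Agent.Lib.helper23.TD4V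

open Cfsg.Lie Cfsg.Lie.ChevalleyDatum Matrix
open Cfsg.Agent.Lib.helper8

universe u

variable {F : Type u} [Field F]

theorem td4vc_terms_6_0 : chevD4.commTerms 6 0 = [] := by
  decide

theorem td4vc_c_6_0 (t u : F) : X 0 u * X 6 t = X 6 t * X 0 u := by
  have h := td4vc_comm (F := F) 6 0 (by decide) (by decide) (by decide) (by decide) t u
  unfold ChevalleyDatum.commWord at h
  rw [td4vc_terms_6_0] at h
  simp only [List.map_nil, td4vc_word_nil, mul_one] at h
  exact h

theorem td4vc_terms_6_1 : chevD4.commTerms 6 1 = [] := by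
  decide

theorem td4vc_c_6_1 (t u : F) : X 1 u * X 6 t = X 6 t * X 1 u := by
  have h := td4vc_comm (F := F) 6 1 (by decide) (by decide) (by decide) (by decide) t u
  unfold ChevalleyDatum.commWord at h
  rw [td4vc_terms_6_1] at h
  simp only [List.map_nil, td4vc_word_nil, mul_one] at h
  exact h

theorem td4vc_terms_6_2 : chevD4.commTerms 6 2 = [] := by
  decide

theorem td4vc_c_6_2 (t u : F) : X 2 u * X 6 t = X 6 t * X 2 u := by
  have h := td4vc_comm (F := F) 6 2 (by decide) (by decide) (by decide) (by decide) t u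
  unfold ChevalleyDatum.commWord at h
  rw [td4vc_terms_6_2] at h
  simp only [List.map_nil, td4vc_word_nil, mul_one] at h
  exact h

theorem td4vc_terms_6_3 : chevD4.commTerms 6 3 = [] := by
  decide

theorem td4vc_c_6_3 (t u : F) : X 3 u * X 6 t = X 6 t * X 3 u := by
  have h := td4vc_comm (F := F) 6 3 (by decide) (by decide) (by decide) (by decide) t u
  unfold ChevalleyDatum.commWord at h
  rw [td4vc_terms_6_3] at h
  simp only [List.map_nil, td4vc_word_nil, mul_one] at h
  exact h

theorem td4vc_terms_6_4 : chevD4.commTerms 6 4 = [(0, -1, 1, 1)] := by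
  decide

theorem td4vc_c_6_4 (t u : F) :
    X 4 u * X 6 t = X 6 t * X 4 u * X 0 (t * u) := by
  have h := td4vc_comm (F := F) 6 4 (by decide) (by decide) (by decide) (by decide) t u
  unfold ChevalleyDatum.commWord at h
  rw [td4vc_terms_6_4] at h
  simp only [List.map_cons, List.map_nil, td4vc_word_cons, td4vc_word_nil, mul_one] at h
  have a0 : (((-1) : ℤ) : F) * (-t) ^ 1 * u ^ 1 = t * u := by
    push_cast
    ring
  rw [a0] at h
  rw [h]

theorem td4vc_terms_6_5 : chevD4.commTerms 6 5 = [(1, -1, 1, 1)] := by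
  decide

theorem td4vc_c_6_5 (t u : F) :
    X 5 u * X 6 t = X 6 t * X 5 u * X 1 (t * u) := by
  have h := td4vc_comm (F := F) 6 5 (by decide) (by decide) (by decide) (by decide) t u
  unfold ChevalleyDatum.commWord at h
  rw [td4vc_terms_6_5] at h
  simp only [List.map_cons, List.map_nil, td4vc_word_cons, td4vc_word_nil, mul_one] at h
  have a0 : (((-1) : ℤ) : F) * (-t) ^ 1 * u ^ 1 = t * u := by
    push_cast
    ring
  rw [a0] at h
  rw [h]

theorem td4vc_terms_6_7 : chevD4.commTerms 6 7 = [] := by
  decide

theorem td4vc_c_6_7 (t u : F) : X 7 u * X 6 t = X 6 t * X 7 u := by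
  have h := td4vc_comm (F := F) 6 7 (by decide) (by decide) (by decide) (by decide) t u
  unfold ChevalleyDatum.commWord at h
  rw [td4vc_terms_6_7] at h
  simp only [List.map_nil, td4vc_word_nil, mul_one] at h
  exact h

theorem td4vc_terms_6_8 : chevD4.commTerms 6 8 = [] := by
  decide

theorem td4vc_c_6_8 (t u : F) : X 8 u * X 6 t = X 6 t * X 8 u := by
  have h := td4vc_comm (F := F) 6 8 (by decide) (by decide) (by decide) (by decide) t u
  unfold ChevalleyDatum.commWord at h
  rw [td4vc_terms_6_8] at h
  simp only [List.map_nil, td4vc_word_nil, mul_one] at h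
  exact h

theorem td4vc_terms_6_9 : chevD4.commTerms 6 9 = [] := by
  decide

theorem td4vc_c_6_9 (t u : F) : X 9 u * X 6 t = X 6 t * X 9 u := by
  have h := td4vc_comm (F := F) 6 9 (by decide) (by decide) (by decide) (by decide) t u
  unfold ChevalleyDatum.commWord at h
  rw [td4vc_terms_6_9] at h
  simp only [List.map_nil, td4vc_word_nil, mul_one] at h
  exact h

theorem td4vc_terms_6_10 : chevD4.commTerms 6 10 = [] := by
  decide

theorem td4vc_c_6_10 (t u : F) : X 10 u * X 6 t = X 6 t * X 10 u := by
  have h := td4vc_comm (F := F) 6 10 (by decide) (by decide) (by decide) (by decide) t u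
  unfold ChevalleyDatum.commWord at h
  rw [td4vc_terms_6_10] at h
  simp only [List.map_nil, td4vc_word_nil, mul_one] at h
  exact h

theorem td4vc_terms_6_11 : chevD4.commTerms 6 11 = [] := by
  decide

theorem td4vc_c_6_11 (t u : F) : X 11 u * X 6 t = X 6 t * X 11 u := by
  have h := td4vc_comm (F := F) 6 11 (by decide) (by decide) (by decide) (by decide) t u
  unfold ChevalleyDatum.commWord at h
  rw [td4vc_terms_6_11] at h
  simp only [List.map_nil, td4vc_word_nil, mul_one] at h
  exact h

theorem td4vc_terms_6_12 : chevD4.commTerms 6 12 = [(7, 1, 1, 1)] := by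
  decide

theorem td4vc_c_6_12 (t u : F) :
    X 12 u * X 6 t = X 6 t * X 12 u * X 7 (-(t * u)) := by
  have h := td4vc_comm (F := F) 6 12 (by decide) (by decide) (by decide) (by decide) t u
  unfold ChevalleyDatum.commWord at h
  rw [td4vc_terms_6_12] at h
  simp only [List.map_cons, List.map_nil, td4vc_word_cons, td4vc_word_nil, mul_one] at h
  have a0 : ((1 : ℤ) : F) * (-t) ^ 1 * u ^ 1 = -(t * u) := by
    push_cast
    ring
  rw [a0] at h
  rw [h]

theorem td4vc_terms_6_13 : chevD4.commTerms 6 13 = [(8, 1, 1, 1)] := by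
  decide

theorem td4vc_c_6_13 (t u : F) :
    X 13 u * X 6 t = X 6 t * X 13 u * X 8 (-(t * u)) := by
  have h := td4vc_comm (F := F) 6 13 (by decide) (by decide) (by decide) (by decide) t u
  unfold ChevalleyDatum.commWord at h
  rw [td4vc_terms_6_13] at h
  simp only [List.map_cons, List.map_nil, td4vc_word_cons, td4vc_word_nil, mul_one] at h
  have a0 : ((1 : ℤ) : F) * (-t) ^ 1 * u ^ 1 = -(t * u) := by
    push_cast
    ring
  rw [a0] at h
  rw [h]

theorem td4vc_terms_6_14 : chevD4.commTerms 6 14 = [] := by
  decide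

theorem td4vc_c_6_14 (t u : F) : X 14 u * X 6 t = X 6 t * X 14 u := by
  have h := td4vc_comm (F := F) 6 14 (by decide) (by decide) (by decide) (by decide) t u
  unfold ChevalleyDatum.commWord at h
  rw [td4vc_terms_6_14] at h
  simp only [List.map_nil, td4vc_word_nil, mul_one] at h
  exact h

theorem td4vc_terms_6_15 : chevD4.commTerms 6 15 = [(10, -1, 1, 1)] := by
  decide

theorem td4vc_c_6_15 (t u : F) :
    X 15 u * X 6 t = X 6 t * X 15 u * X 10 (t * u) := by
  have h := td4vc_comm (F := F) 6 15 (by decide) (by decide) (by decide) (by decide) t u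
  unfold ChevalleyDatum.commWord at h
  rw [td4vc_terms_6_15] at h
  simp only [List.map_cons, List.map_nil, td4vc_word_cons, td4vc_word_nil, mul_one] at h
  have a0 : (((-1) : ℤ) : F) * (-t) ^ 1 * u ^ 1 = t * u := by
    push_cast
    ring
  rw [a0] at h
  rw [h]

theorem td4vc_terms_6_16 : chevD4.commTerms 6 16 = [(11, -1, 1, 1)] := by
  decide

theorem td4vc_c_6_16 (t u : F) :
    X 16 u * X 6 t = X 6 t * X 16 u * X 11 (t * u) := by
  have h := td4vc_comm (F := F) 6 16 (by decide) (by decide) (by decide) (by decide) t u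
  unfold ChevalleyDatum.commWord at h
  rw [td4vc_terms_6_16] at h
  simp only [List.map_cons, List.map_nil, td4vc_word_cons, td4vc_word_nil, mul_one] at h
  have a0 : (((-1) : ℤ) : F) * (-t) ^ 1 * u ^ 1 = t * u := by
    push_cast
    ring
  rw [a0] at h
  rw [h]

theorem td4vc_terms_6_18 : chevD4.commTerms 6 18 = [] := by
  decide

theorem td4vc_c_6_18 (t u : F) : X 18 u * X 6 t = X 6 t * X 18 u := by
  have h := td4vc_comm (F := F) 6 18 (by decide) (by decide) (by decide) (by decide) t u
  unfold ChevalleyDatum.commWord at h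
  rw [td4vc_terms_6_18] at h
  simp only [List.map_nil, td4vc_word_nil, mul_one] at h
  exact h

theorem td4vc_terms_6_19 : chevD4.commTerms 6 19 = [] := by
  decide

theorem td4vc_c_6_19 (t u : F) : X 19 u * X 6 t = X 6 t * X 19 u := by
  have h := td4vc_comm (F := F) 6 19 (by decide) (by decide) (by decide) (by decide) t u
  unfold ChevalleyDatum.commWord at h
  rw [td4vc_terms_6_19] at h
  simp only [List.map_nil, td4vc_word_nil, mul_one] at h
  exact h

theorem td4vc_terms_6_20 : chevD4.commTerms 6 20 = [] := by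
  decide

theorem td4vc_c_6_20 (t u : F) : X 20 u * X 6 t = X 6 t * X 20 u := by
  have h := td4vc_comm (F := F) 6 20 (by decide) (by decide) (by decide) (by decide) t u
  unfold ChevalleyDatum.commWord at h
  rw [td4vc_terms_6_20] at h
  simp only [List.map_nil, td4vc_word_nil, mul_one] at h
  exact h

theorem td4vc_terms_6_21 : chevD4.commTerms 6 21 = [] := by
  decide

theorem td4vc_c_6_21 (t u : F) : X 21 u * X 6 t = X 6 t * X 21 u := by
  have h := td4vc_comm (F := F) 6 21 (by decide) (by decide) (by decide) (by decide) t u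
  unfold ChevalleyDatum.commWord at h
  rw [td4vc_terms_6_21] at h
  simp only [List.map_nil, td4vc_word_nil, mul_one] at h
  exact h

theorem td4vc_terms_6_22 : chevD4.commTerms 6 22 = [(18, 1, 1, 1)] := by
  decide

theorem td4vc_c_6_22 (t u : F) :
    X 22 u * X 6 t = X 6 t * X 22 u * X 18 (-(t * u)) := by
  have h := td4vc_comm (F := F) 6 22 (by decide) (by decide) (by decide) (by decide) t u
  unfold ChevalleyDatum.commWord at h
  rw [td4vc_terms_6_22] at h
  simp only [List.map_cons, List.map_nil, td4vc_word_cons, td4vc_word_nil, mul_one] at h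
  have a0 : ((1 : ℤ) : F) * (-t) ^ 1 * u ^ 1 = -(t * u) := by
    push_cast
    ring
  rw [a0] at h
  rw [h]

theorem td4vc_terms_6_23 : chevD4.commTerms 6 23 = [(19, 1, 1, 1)] := by
  decide

theorem td4vc_c_6_23 (t u : F) :
    X 23 u * X 6 t = X 6 t * X 23 u * X 19 (-(t * u)) := by
  have h := td4vc_comm (F := F) 6 23 (by decide) (by decide) (by decide) (by decide) t u
  unfold ChevalleyDatum.commWord at h
  rw [td4vc_terms_6_23] at h
  simp only [List.map_cons, List.map_nil, td4vc_word_cons, td4vc_word_nil, mul_one] at h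
  have a0 : ((1 : ℤ) : F) * (-t) ^ 1 * u ^ 1 = -(t * u) := by
    push_cast
    ring
  rw [a0] at h
  rw [h]

theorem td4vc_terms_7_0 : chevD4.commTerms 7 0 = [] := by
  decide

theorem td4vc_c_7_0 (t u : F) : X 0 u * X 7 t = X 7 t * X 0 u := by
  have h := td4vc_comm (F := F) 7 0 (by decide) (by decide) (by decide) (by decide) t u
  unfold ChevalleyDatum.commWord at h
  rw [td4vc_terms_7_0] at h
  simp only [List.map_nil, td4vc_word_nil, mul_one] at h
  exact h

theorem td4vc_terms_7_1 : chevD4.commTerms 7 1 = [] := by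
  decide

theorem td4vc_c_7_1 (t u : F) : X 1 u * X 7 t = X 7 t * X 1 u := by
  have h := td4vc_comm (F := F) 7 1 (by decide) (by decide) (by decide) (by decide) t u
  unfold ChevalleyDatum.commWord at h
  rw [td4vc_terms_7_1] at h
  simp only [List.map_nil, td4vc_word_nil, mul_one] at h
  exact h

theorem td4vc_terms_7_2 : chevD4.commTerms 7 2 = [] := by
  decide

theorem td4vc_c_7_2 (t u : F) : X 2 u * X 7 t = X 7 t * X 2 u := by
  have h := td4vc_comm (F := F) 7 2 (by decide) (by decide) (by decide) (by decide) t u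
  unfold ChevalleyDatum.commWord at h
  rw [td4vc_terms_7_2] at h
  simp only [List.map_nil, td4vc_word_nil, mul_one] at h
  exact h

theorem td4vc_terms_7_3 : chevD4.commTerms 7 3 = [(0, 1, 1, 1)] := by
  decide

theorem td4vc_c_7_3 (t u : F) :
    X 3 u * X 7 t = X 7 t * X 3 u * X 0 (-(t * u)) := by
  have h := td4vc_comm (F := F) 7 3 (by decide) (by decide) (by decide) (by decide) t u
  unfold ChevalleyDatum.commWord at h
  rw [td4vc_terms_7_3] at h
  simp only [List.map_cons, List.map_nil, td4vc_word_cons, td4vc_word_nil, mul_one] at h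
  have a0 : ((1 : ℤ) : F) * (-t) ^ 1 * u ^ 1 = -(t * u) := by
    push_cast
    ring
  rw [a0] at h
  rw [h]

theorem td4vc_terms_7_4 : chevD4.commTerms 7 4 = [] := by
  decide

theorem td4vc_c_7_4 (t u : F) : X 4 u * X 7 t = X 7 t * X 4 u := by
  have h := td4vc_comm (F := F) 7 4 (by decide) (by decide) (by decide) (by decide) t u
  unfold ChevalleyDatum.commWord at h
  rw [td4vc_terms_7_4] at h
  simp only [List.map_nil, td4vc_word_nil, mul_one] at h
  exact h

theorem td4vc_terms_7_5 : chevD4.commTerms 7 5 = [(2, -1, 1, 1)] := by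
  decide

theorem td4vc_c_7_5 (t u : F) :
    X 5 u * X 7 t = X 7 t * X 5 u * X 2 (t * u) := by
  have h := td4vc_comm (F := F) 7 5 (by decide) (by decide) (by decide) (by decide) t u
  unfold ChevalleyDatum.commWord at h
  rw [td4vc_terms_7_5] at h
  simp only [List.map_cons, List.map_nil, td4vc_word_cons, td4vc_word_nil, mul_one] at h
  have a0 : (((-1) : ℤ) : F) * (-t) ^ 1 * u ^ 1 = t * u := by
    push_cast
    ring
  rw [a0] at h
  rw [h]

theorem td4vc_terms_7_6 : chevD4.commTerms 7 6 = [] := by
  decide

theorem td4vc_c_7_6 (t u : F) : X 6 u * X 7 t = X 7 t * X 6 u := by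
  have h := td4vc_comm (F := F) 7 6 (by decide) (by decide) (by decide) (by decide) t u
  unfold ChevalleyDatum.commWord at h
  rw [td4vc_terms_7_6] at h
  simp only [List.map_nil, td4vc_word_nil, mul_one] at h
  exact h

theorem td4vc_terms_7_8 : chevD4.commTerms 7 8 = [] := by
  decide

theorem td4vc_c_7_8 (t u : F) : X 8 u * X 7 t = X 7 t * X 8 u := by
  have h := td4vc_comm (F := F) 7 8 (by decide) (by decide) (by decide) (by decide) t u
  unfold ChevalleyDatum.commWord at h
  rw [td4vc_terms_7_8] at h
  simp only [List.map_nil, td4vc_word_nil, mul_one] at h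
  exact h

theorem td4vc_terms_7_9 : chevD4.commTerms 7 9 = [] := by
  decide

theorem td4vc_c_7_9 (t u : F) : X 9 u * X 7 t = X 7 t * X 9 u := by
  have h := td4vc_comm (F := F) 7 9 (by decide) (by decide) (by decide) (by decide) t u
  unfold ChevalleyDatum.commWord at h
  rw [td4vc_terms_7_9] at h
  simp only [List.map_nil, td4vc_word_nil, mul_one] at h
  exact h

theorem td4vc_terms_7_10 : chevD4.commTerms 7 10 = [] := by
  decide

theorem td4vc_c_7_10 (t u : F) : X 10 u * X 7 t = X 7 t * X 10 u := by
  have h := td4vc_comm (F := F) 7 10 (by decide) (by decide) (by decide) (by decide) t u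
  unfold ChevalleyDatum.commWord at h
  rw [td4vc_terms_7_10] at h
  simp only [List.map_nil, td4vc_word_nil, mul_one] at h
  exact h

theorem td4vc_terms_7_11 : chevD4.commTerms 7 11 = [(6, 1, 1, 1)] := by
  decide

theorem td4vc_c_7_11 (t u : F) :
    X 11 u * X 7 t = X 7 t * X 11 u * X 6 (-(t * u)) := by
  have h := td4vc_comm (F := F) 7 11 (by decide) (by decide) (by decide) (by decide) t u
  unfold ChevalleyDatum.commWord at h
  rw [td4vc_terms_7_11] at h
  simp only [List.map_cons, List.map_nil, td4vc_word_cons, td4vc_word_nil, mul_one] at h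
  have a0 : ((1 : ℤ) : F) * (-t) ^ 1 * u ^ 1 = -(t * u) := by
    push_cast
    ring
  rw [a0] at h
  rw [h]

theorem td4vc_terms_7_12 : chevD4.commTerms 7 12 = [] := by
  decide

theorem td4vc_c_7_12 (t u : F) : X 12 u * X 7 t = X 7 t * X 12 u := by
  have h := td4vc_comm (F := F) 7 12 (by decide) (by decide) (by decide) (by decide) t u
  unfold ChevalleyDatum.commWord at h
  rw [td4vc_terms_7_12] at h
  simp only [List.map_nil, td4vc_word_nil, mul_one] at h
  exact h

theorem td4vc_terms_7_13 : chevD4.commTerms 7 13 = [(9, 1, 1, 1)] := by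
  decide

theorem td4vc_c_7_13 (t u : F) :
    X 13 u * X 7 t = X 7 t * X 13 u * X 9 (-(t * u)) := by
  have h := td4vc_comm (F := F) 7 13 (by decide) (by decide) (by decide) (by decide) t u
  unfold ChevalleyDatum.commWord at h
  rw [td4vc_terms_7_13] at h
  simp only [List.map_cons, List.map_nil, td4vc_word_cons, td4vc_word_nil, mul_one] at h
  have a0 : ((1 : ℤ) : F) * (-t) ^ 1 * u ^ 1 = -(t * u) := by
    push_cast
    ring
  rw [a0] at h
  rw [h]

theorem td4vc_terms_7_14 : chevD4.commTerms 7 14 = [(10, -1, 1, 1)] := by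
  decide

theorem td4vc_c_7_14 (t u : F) :
    X 14 u * X 7 t = X 7 t * X 14 u * X 10 (t * u) := by
  have h := td4vc_comm (F := F) 7 14 (by decide) (by decide) (by decide) (by decide) t u
  unfold ChevalleyDatum.commWord at h
  rw [td4vc_terms_7_14] at h
  simp only [List.map_cons, List.map_nil, td4vc_word_cons, td4vc_word_nil, mul_one] at h
  have a0 : (((-1) : ℤ) : F) * (-t) ^ 1 * u ^ 1 = t * u := by
    push_cast
    ring
  rw [a0] at h
  rw [h]

theorem td4vc_terms_7_15 : chevD4.commTerms 7 15 = [] := by
  decide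

theorem td4vc_c_7_15 (t u : F) : X 15 u * X 7 t = X 7 t * X 15 u := by
  have h := td4vc_comm (F := F) 7 15 (by decide) (by decide) (by decide) (by decide) t u
  unfold ChevalleyDatum.commWord at h
  rw [td4vc_terms_7_15] at h
  simp only [List.map_nil, td4vc_word_nil, mul_one] at h
  exact h

theorem td4vc_terms_7_17 : chevD4.commTerms 7 17 = [(12, -1, 1, 1)] := by
  decide

theorem td4vc_c_7_17 (t u : F) :
    X 17 u * X 7 t = X 7 t * X 17 u * X 12 (t * u) := by
  have h := td4vc_comm (F := F) 7 17 (by decide) (by decide) (by decide) (by decide) t u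
  unfold ChevalleyDatum.commWord at h
  rw [td4vc_terms_7_17] at h
  simp only [List.map_cons, List.map_nil, td4vc_word_cons, td4vc_word_nil, mul_one] at h
  have a0 : (((-1) : ℤ) : F) * (-t) ^ 1 * u ^ 1 = t * u := by
    push_cast
    ring
  rw [a0] at h
  rw [h]

theorem td4vc_terms_7_18 : chevD4.commTerms 7 18 = [] := by
  decide

theorem td4vc_c_7_18 (t u : F) : X 18 u * X 7 t = X 7 t * X 18 u := by
  have h := td4vc_comm (F := F) 7 18 (by decide) (by decide) (by decide) (by decide) t u
  unfold ChevalleyDatum.commWord at h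
  rw [td4vc_terms_7_18] at h
  simp only [List.map_nil, td4vc_word_nil, mul_one] at h
  exact h

theorem td4vc_terms_7_19 : chevD4.commTerms 7 19 = [] := by
  decide

theorem td4vc_c_7_19 (t u : F) : X 19 u * X 7 t = X 7 t * X 19 u := by
  have h := td4vc_comm (F := F) 7 19 (by decide) (by decide) (by decide) (by decide) t u
  unfold ChevalleyDatum.commWord at h
  rw [td4vc_terms_7_19] at h
  simp only [List.map_nil, td4vc_word_nil, mul_one] at h
  exact h

theorem td4vc_terms_7_20 : chevD4.commTerms 7 20 = [] := by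
  decide

theorem td4vc_c_7_20 (t u : F) : X 20 u * X 7 t = X 7 t * X 20 u := by
  have h := td4vc_comm (F := F) 7 20 (by decide) (by decide) (by decide) (by decide) t u
  unfold ChevalleyDatum.commWord at h
  rw [td4vc_terms_7_20] at h
  simp only [List.map_nil, td4vc_word_nil, mul_one] at h
  exact h

theorem td4vc_terms_7_21 : chevD4.commTerms 7 21 = [(18, 1, 1, 1)] := by
  decide

theorem td4vc_c_7_21 (t u : F) :
    X 21 u * X 7 t = X 7 t * X 21 u * X 18 (-(t * u)) := by
  have h := td4vc_comm (F := F) 7 21 (by decide) (by decide) (by decide) (by decide) t u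
  unfold ChevalleyDatum.commWord at h
  rw [td4vc_terms_7_21] at h
  simp only [List.map_cons, List.map_nil, td4vc_word_cons, td4vc_word_nil, mul_one] at h
  have a0 : ((1 : ℤ) : F) * (-t) ^ 1 * u ^ 1 = -(t * u) := by
    push_cast
    ring
  rw [a0] at h
  rw [h]

theorem td4vc_terms_7_22 : chevD4.commTerms 7 22 = [] := by
  decide

theorem td4vc_c_7_22 (t u : F) : X 22 u * X 7 t = X 7 t * X 22 u := by
  have h := td4vc_comm (F := F) 7 22 (by decide) (by decide) (by decide) (by decide) t u
  unfold ChevalleyDatum.commWord at h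
  rw [td4vc_terms_7_22] at h
  simp only [List.map_nil, td4vc_word_nil, mul_one] at h
  exact h

theorem td4vc_terms_7_23 : chevD4.commTerms 7 23 = [(20, -1, 1, 1)] := by
  decide

theorem td4vc_c_7_23 (t u : F) :
    X 23 u * X 7 t = X 7 t * X 23 u * X 20 (t * u) := by
  have h := td4vc_comm (F := F) 7 23 (by decide) (by decide) (by decide) (by decide) t u
  unfold ChevalleyDatum.commWord at h
  rw [td4vc_terms_7_23] at h
  simp only [List.map_cons, List.map_nil, td4vc_word_cons, td4vc_word_nil, mul_one] at h
  have a0 : (((-1) : ℤ) : F) * (-t) ^ 1 * u ^ 1 = t * u := by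
    push_cast
    ring
  rw [a0] at h
  rw [h]

theorem td4vc_terms_8_0 : chevD4.commTerms 8 0 = [] := by
  decide

theorem td4vc_c_8_0 (t u : F) : X 0 u * X 8 t = X 8 t * X 0 u := by
  have h := td4vc_comm (F := F) 8 0 (by decide) (by decide) (by decide) (by decide) t u
  unfold ChevalleyDatum.commWord at h
  rw [td4vc_terms_8_0] at h
  simp only [List.map_nil, td4vc_word_nil, mul_one] at h
  exact h

theorem td4vc_terms_8_1 : chevD4.commTerms 8 1 = [] := by
  decide

theorem td4vc_c_8_1 (t u : F) : X 1 u * X 8 t = X 8 t * X 1 u := by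
  have h := td4vc_comm (F := F) 8 1 (by decide) (by decide) (by decide) (by decide) t u
  unfold ChevalleyDatum.commWord at h
  rw [td4vc_terms_8_1] at h
  simp only [List.map_nil, td4vc_word_nil, mul_one] at h
  exact h

theorem td4vc_terms_8_2 : chevD4.commTerms 8 2 = [(0, 1, 1, 1)] := by
  decide

theorem td4vc_c_8_2 (t u : F) :
    X 2 u * X 8 t = X 8 t * X 2 u * X 0 (-(t * u)) := by
  have h := td4vc_comm (F := F) 8 2 (by decide) (by decide) (by decide) (by decide) t u
  unfold ChevalleyDatum.commWord at h
  rw [td4vc_terms_8_2] at h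
  simp only [List.map_cons, List.map_nil, td4vc_word_cons, td4vc_word_nil, mul_one] at h
  have a0 : ((1 : ℤ) : F) * (-t) ^ 1 * u ^ 1 = -(t * u) := by
    push_cast
    ring
  rw [a0] at h
  rw [h]

theorem td4vc_terms_8_3 : chevD4.commTerms 8 3 = [] := by
  decide

theorem td4vc_c_8_3 (t u : F) : X 3 u * X 8 t = X 8 t * X 3 u := by
  have h := td4vc_comm (F := F) 8 3 (by decide) (by decide) (by decide) (by decide) t u
  unfold ChevalleyDatum.commWord at h
  rw [td4vc_terms_8_3] at h
  simp only [List.map_nil, td4vc_word_nil, mul_one] at h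
  exact h

theorem td4vc_terms_8_4 : chevD4.commTerms 8 4 = [] := by
  decide

theorem td4vc_c_8_4 (t u : F) : X 4 u * X 8 t = X 8 t * X 4 u := by
  have h := td4vc_comm (F := F) 8 4 (by decide) (by decide) (by decide) (by decide) t u
  unfold ChevalleyDatum.commWord at h
  rw [td4vc_terms_8_4] at h
  simp only [List.map_nil, td4vc_word_nil, mul_one] at h
  exact h

theorem td4vc_terms_8_5 : chevD4.commTerms 8 5 = [(3, -1, 1, 1)] := by
  decide

theorem td4vc_c_8_5 (t u : F) :
    X 5 u * X 8 t = X 8 t * X 5 u * X 3 (t * u) := by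
  have h := td4vc_comm (F := F) 8 5 (by decide) (by decide) (by decide) (by decide) t u
  unfold ChevalleyDatum.commWord at h
  rw [td4vc_terms_8_5] at h
  simp only [List.map_cons, List.map_nil, td4vc_word_cons, td4vc_word_nil, mul_one] at h
  have a0 : (((-1) : ℤ) : F) * (-t) ^ 1 * u ^ 1 = t * u := by
    push_cast
    ring
  rw [a0] at h
  rw [h]

theorem td4vc_terms_8_6 : chevD4.commTerms 8 6 = [] := by
  decide

theorem td4vc_c_8_6 (t u : F) : X 6 u * X 8 t = X 8 t * X 6 u := by
  have h := td4vc_comm (F := F) 8 6 (by decide) (by decide) (by decide) (by decide) t u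
  unfold ChevalleyDatum.commWord at h
  rw [td4vc_terms_8_6] at h
  simp only [List.map_nil, td4vc_word_nil, mul_one] at h
  exact h

theorem td4vc_terms_8_7 : chevD4.commTerms 8 7 = [] := by
  decide

theorem td4vc_c_8_7 (t u : F) : X 7 u * X 8 t = X 8 t * X 7 u := by
  have h := td4vc_comm (F := F) 8 7 (by decide) (by decide) (by decide) (by decide) t u
  unfold ChevalleyDatum.commWord at h
  rw [td4vc_terms_8_7] at h
  simp only [List.map_nil, td4vc_word_nil, mul_one] at h
  exact h

theorem td4vc_terms_8_9 : chevD4.commTerms 8 9 = [] := by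
  decide

theorem td4vc_c_8_9 (t u : F) : X 9 u * X 8 t = X 8 t * X 9 u := by
  have h := td4vc_comm (F := F) 8 9 (by decide) (by decide) (by decide) (by decide) t u
  unfold ChevalleyDatum.commWord at h
  rw [td4vc_terms_8_9] at h
  simp only [List.map_nil, td4vc_word_nil, mul_one] at h
  exact h

theorem td4vc_terms_8_10 : chevD4.commTerms 8 10 = [(6, 1, 1, 1)] := by
  decide

theorem td4vc_c_8_10 (t u : F) :
    X 10 u * X 8 t = X 8 t * X 10 u * X 6 (-(t * u)) := by
  have h := td4vc_comm (F := F) 8 10 (by decide) (by decide) (by decide) (by decide) t u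
  unfold ChevalleyDatum.commWord at h
  rw [td4vc_terms_8_10] at h
  simp only [List.map_cons, List.map_nil, td4vc_word_cons, td4vc_word_nil, mul_one] at h
  have a0 : ((1 : ℤ) : F) * (-t) ^ 1 * u ^ 1 = -(t * u) := by
    push_cast
    ring
  rw [a0] at h
  rw [h]

theorem td4vc_terms_8_11 : chevD4.commTerms 8 11 = [] := by
  decide

theorem td4vc_c_8_11 (t u : F) : X 11 u * X 8 t = X 8 t * X 11 u := by
  have h := td4vc_comm (F := F) 8 11 (by decide) (by decide) (by decide) (by decide) t u
  unfold ChevalleyDatum.commWord at h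
  rw [td4vc_terms_8_11] at h
  simp only [List.map_nil, td4vc_word_nil, mul_one] at h
  exact h

theorem td4vc_terms_8_12 : chevD4.commTerms 8 12 = [(9, 1, 1, 1)] := by
  decide

theorem td4vc_c_8_12 (t u : F) :
    X 12 u * X 8 t = X 8 t * X 12 u * X 9 (-(t * u)) := by
  have h := td4vc_comm (F := F) 8 12 (by decide) (by decide) (by decide) (by decide) t u
  unfold ChevalleyDatum.commWord at h
  rw [td4vc_terms_8_12] at h
  simp only [List.map_cons, List.map_nil, td4vc_word_cons, td4vc_word_nil, mul_one] at h
  have a0 : ((1 : ℤ) : F) * (-t) ^ 1 * u ^ 1 = -(t * u) := by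
    push_cast
    ring
  rw [a0] at h
  rw [h]

theorem td4vc_terms_8_13 : chevD4.commTerms 8 13 = [] := by
  decide

theorem td4vc_c_8_13 (t u : F) : X 13 u * X 8 t = X 8 t * X 13 u := by
  have h := td4vc_comm (F := F) 8 13 (by decide) (by decide) (by decide) (by decide) t u
  unfold ChevalleyDatum.commWord at h
  rw [td4vc_terms_8_13] at h
  simp only [List.map_nil, td4vc_word_nil, mul_one] at h
  exact h

theorem td4vc_terms_8_14 : chevD4.commTerms 8 14 = [(11, -1, 1, 1)] := by
  decide

theorem td4vc_c_8_14 (t u : F) :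
    X 14 u * X 8 t = X 8 t * X 14 u * X 11 (t * u) := by
  have h := td4vc_comm (F := F) 8 14 (by decide) (by decide) (by decide) (by decide) t u
  unfold ChevalleyDatum.commWord at h
  rw [td4vc_terms_8_14] at h
  simp only [List.map_cons, List.map_nil, td4vc_word_cons, td4vc_word_nil, mul_one] at h
  have a0 : (((-1) : ℤ) : F) * (-t) ^ 1 * u ^ 1 = t * u := by
    push_cast
    ring
  rw [a0] at h
  rw [h]

theorem td4vc_terms_8_16 : chevD4.commTerms 8 16 = [] := by
  decide

theorem td4vc_c_8_16 (t u : F) : X 16 u * X 8 t = X 8 t * X 16 u := by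
  have h := td4vc_comm (F := F) 8 16 (by decide) (by decide) (by decide) (by decide) t u
  unfold ChevalleyDatum.commWord at h
  rw [td4vc_terms_8_16] at h
  simp only [List.map_nil, td4vc_word_nil, mul_one] at h
  exact h

theorem td4vc_terms_8_17 : chevD4.commTerms 8 17 = [(13, -1, 1, 1)] := by
  decide

theorem td4vc_c_8_17 (t u : F) :
    X 17 u * X 8 t = X 8 t * X 17 u * X 13 (t * u) := by
  have h := td4vc_comm (F := F) 8 17 (by decide) (by decide) (by decide) (by decide) t u
  unfold ChevalleyDatum.commWord at h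
  rw [td4vc_terms_8_17] at h
  simp only [List.map_cons, List.map_nil, td4vc_word_cons, td4vc_word_nil, mul_one] at h
  have a0 : (((-1) : ℤ) : F) * (-t) ^ 1 * u ^ 1 = t * u := by
    push_cast
    ring
  rw [a0] at h
  rw [h]

theorem td4vc_terms_8_18 : chevD4.commTerms 8 18 = [] := by
  decide

theorem td4vc_c_8_18 (t u : F) : X 18 u * X 8 t = X 8 t * X 18 u := by
  have h := td4vc_comm (F := F) 8 18 (by decide) (by decide) (by decide) (by decide) t u
  unfold ChevalleyDatum.commWord at h
  rw [td4vc_terms_8_18] at h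
  simp only [List.map_nil, td4vc_word_nil, mul_one] at h
  exact h

theorem td4vc_terms_8_19 : chevD4.commTerms 8 19 = [] := by
  decide

theorem td4vc_c_8_19 (t u : F) : X 19 u * X 8 t = X 8 t * X 19 u := by
  have h := td4vc_comm (F := F) 8 19 (by decide) (by decide) (by decide) (by decide) t u
  unfold ChevalleyDatum.commWord at h
  rw [td4vc_terms_8_19] at h
  simp only [List.map_nil, td4vc_word_nil, mul_one] at h
  exact h

theorem td4vc_terms_8_20 : chevD4.commTerms 8 20 = [(18, 1, 1, 1)] := by
  decide

theorem td4vc_c_8_20 (t u : F) :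
    X 20 u * X 8 t = X 8 t * X 20 u * X 18 (-(t * u)) := by
  have h := td4vc_comm (F := F) 8 20 (by decide) (by decide) (by decide) (by decide) t u
  unfold ChevalleyDatum.commWord at h
  rw [td4vc_terms_8_20] at h
  simp only [List.map_cons, List.map_nil, td4vc_word_cons, td4vc_word_nil, mul_one] at h
  have a0 : ((1 : ℤ) : F) * (-t) ^ 1 * u ^ 1 = -(t * u) := by
    push_cast
    ring
  rw [a0] at h
  rw [h]

theorem td4vc_terms_8_21 : chevD4.commTerms 8 21 = [] := by
  decide

theorem td4vc_c_8_21 (t u : F) : X 21 u * X 8 t = X 8 t * X 21 u := by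
  have h := td4vc_comm (F := F) 8 21 (by decide) (by decide) (by decide) (by decide) t u
  unfold ChevalleyDatum.commWord at h
  rw [td4vc_terms_8_21] at h
  simp only [List.map_nil, td4vc_word_nil, mul_one] at h
  exact h

theorem td4vc_terms_8_22 : chevD4.commTerms 8 22 = [] := by
  decide

theorem td4vc_c_8_22 (t u : F) : X 22 u * X 8 t = X 8 t * X 22 u := by
  have h := td4vc_comm (F := F) 8 22 (by decide) (by decide) (by decide) (by decide) t u
  unfold ChevalleyDatum.commWord at h
  rw [td4vc_terms_8_22] at h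
  simp only [List.map_nil, td4vc_word_nil, mul_one] at h
  exact h

theorem td4vc_terms_8_23 : chevD4.commTerms 8 23 = [(21, -1, 1, 1)] := by
  decide

theorem td4vc_c_8_23 (t u : F) :
    X 23 u * X 8 t = X 8 t * X 23 u * X 21 (t * u) := by
  have h := td4vc_comm (F := F) 8 23 (by decide) (by decide) (by decide) (by decide) t u
  unfold ChevalleyDatum.commWord at h
  rw [td4vc_terms_8_23] at h
  simp only [List.map_cons, List.map_nil, td4vc_word_cons, td4vc_word_nil, mul_one] at h
  have a0 : (((-1) : ℤ) : F) * (-t) ^ 1 * u ^ 1 = t * u := by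
    push_cast
    ring
  rw [a0] at h
  rw [h]

theorem td4vc_terms_9_0 : chevD4.commTerms 9 0 = [] := by
  decide

theorem td4vc_c_9_0 (t u : F) : X 0 u * X 9 t = X 9 t * X 0 u := by
  have h := td4vc_comm (F := F) 9 0 (by decide) (by decide) (by decide) (by decide) t u
  unfold ChevalleyDatum.commWord at h
  rw [td4vc_terms_9_0] at h
  simp only [List.map_nil, td4vc_word_nil, mul_one] at h
  exact h

theorem td4vc_terms_9_1 : chevD4.commTerms 9 1 = [(0, -1, 1, 1)] := by
  decide

theorem td4vc_c_9_1 (t u : F) :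
    X 1 u * X 9 t = X 9 t * X 1 u * X 0 (t * u) := by
  have h := td4vc_comm (F := F) 9 1 (by decide) (by decide) (by decide) (by decide) t u
  unfold ChevalleyDatum.commWord at h
  rw [td4vc_terms_9_1] at h
  simp only [List.map_cons, List.map_nil, td4vc_word_cons, td4vc_word_nil, mul_one] at h
  have a0 : (((-1) : ℤ) : F) * (-t) ^ 1 * u ^ 1 = t * u := by
    push_cast
    ring
  rw [a0] at h
  rw [h]

theorem td4vc_terms_9_2 : chevD4.commTerms 9 2 = [] := by
  decide

theorem td4vc_c_9_2 (t u : F) : X 2 u * X 9 t = X 9 t * X 2 u := by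
  have h := td4vc_comm (F := F) 9 2 (by decide) (by decide) (by decide) (by decide) t u
  unfold ChevalleyDatum.commWord at h
  rw [td4vc_terms_9_2] at h
  simp only [List.map_nil, td4vc_word_nil, mul_one] at h
  exact h

theorem td4vc_terms_9_3 : chevD4.commTerms 9 3 = [] := by
  decide

theorem td4vc_c_9_3 (t u : F) : X 3 u * X 9 t = X 9 t * X 3 u := by
  have h := td4vc_comm (F := F) 9 3 (by decide) (by decide) (by decide) (by decide) t u
  unfold ChevalleyDatum.commWord at h
  rw [td4vc_terms_9_3] at h
  simp only [List.map_nil, td4vc_word_nil, mul_one] at h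
  exact h

theorem td4vc_terms_9_4 : chevD4.commTerms 9 4 = [] := by
  decide

theorem td4vc_c_9_4 (t u : F) : X 4 u * X 9 t = X 9 t * X 4 u := by
  have h := td4vc_comm (F := F) 9 4 (by decide) (by decide) (by decide) (by decide) t u
  unfold ChevalleyDatum.commWord at h
  rw [td4vc_terms_9_4] at h
  simp only [List.map_nil, td4vc_word_nil, mul_one] at h
  exact h

theorem td4vc_terms_9_5 : chevD4.commTerms 9 5 = [(4, -1, 1, 1)] := by
  decide

theorem td4vc_c_9_5 (t u : F) :
    X 5 u * X 9 t = X 9 t * X 5 u * X 4 (t * u) := by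
  have h := td4vc_comm (F := F) 9 5 (by decide) (by decide) (by decide) (by decide) t u
  unfold ChevalleyDatum.commWord at h
  rw [td4vc_terms_9_5] at h
  simp only [List.map_cons, List.map_nil, td4vc_word_cons, td4vc_word_nil, mul_one] at h
  have a0 : (((-1) : ℤ) : F) * (-t) ^ 1 * u ^ 1 = t * u := by
    push_cast
    ring
  rw [a0] at h
  rw [h]

theorem td4vc_terms_9_6 : chevD4.commTerms 9 6 = [] := by
  decide

theorem td4vc_c_9_6 (t u : F) : X 6 u * X 9 t = X 9 t * X 6 u := by
  have h := td4vc_comm (F := F) 9 6 (by decide) (by decide) (by decide) (by decide) t u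
  unfold ChevalleyDatum.commWord at h
  rw [td4vc_terms_9_6] at h
  simp only [List.map_nil, td4vc_word_nil, mul_one] at h
  exact h

theorem td4vc_terms_9_7 : chevD4.commTerms 9 7 = [] := by
  decide

theorem td4vc_c_9_7 (t u : F) : X 7 u * X 9 t = X 9 t * X 7 u := by
  have h := td4vc_comm (F := F) 9 7 (by decide) (by decide) (by decide) (by decide) t u
  unfold ChevalleyDatum.commWord at h
  rw [td4vc_terms_9_7] at h
  simp only [List.map_nil, td4vc_word_nil, mul_one] at h
  exact h

theorem td4vc_terms_9_8 : chevD4.commTerms 9 8 = [] := by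
  decide

theorem td4vc_c_9_8 (t u : F) : X 8 u * X 9 t = X 9 t * X 8 u := by
  have h := td4vc_comm (F := F) 9 8 (by decide) (by decide) (by decide) (by decide) t u
  unfold ChevalleyDatum.commWord at h
  rw [td4vc_terms_9_8] at h
  simp only [List.map_nil, td4vc_word_nil, mul_one] at h
  exact h

theorem td4vc_terms_9_10 : chevD4.commTerms 9 10 = [(7, 1, 1, 1)] := by
  decide

theorem td4vc_c_9_10 (t u : F) :
    X 10 u * X 9 t = X 9 t * X 10 u * X 7 (-(t * u)) := by
  have h := td4vc_comm (F := F) 9 10 (by decide) (by decide) (by decide) (by decide) t u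
  unfold ChevalleyDatum.commWord at h
  rw [td4vc_terms_9_10] at h
  simp only [List.map_cons, List.map_nil, td4vc_word_cons, td4vc_word_nil, mul_one] at h
  have a0 : ((1 : ℤ) : F) * (-t) ^ 1 * u ^ 1 = -(t * u) := by
    push_cast
    ring
  rw [a0] at h
  rw [h]

theorem td4vc_terms_9_11 : chevD4.commTerms 9 11 = [(8, 1, 1, 1)] := by
  decide

theorem td4vc_c_9_11 (t u : F) :
    X 11 u * X 9 t = X 9 t * X 11 u * X 8 (-(t * u)) := by
  have h := td4vc_comm (F := F) 9 11 (by decide) (by decide) (by decide) (by decide) t u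
  unfold ChevalleyDatum.commWord at h
  rw [td4vc_terms_9_11] at h
  simp only [List.map_cons, List.map_nil, td4vc_word_cons, td4vc_word_nil, mul_one] at h
  have a0 : ((1 : ℤ) : F) * (-t) ^ 1 * u ^ 1 = -(t * u) := by
    push_cast
    ring
  rw [a0] at h
  rw [h]

theorem td4vc_terms_9_12 : chevD4.commTerms 9 12 = [] := by
  decide

theorem td4vc_c_9_12 (t u : F) : X 12 u * X 9 t = X 9 t * X 12 u := by
  have h := td4vc_comm (F := F) 9 12 (by decide) (by decide) (by decide) (by decide) t u
  unfold ChevalleyDatum.commWord at h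
  rw [td4vc_terms_9_12] at h
  simp only [List.map_nil, td4vc_word_nil, mul_one] at h
  exact h

theorem td4vc_terms_9_13 : chevD4.commTerms 9 13 = [] := by
  decide

theorem td4vc_c_9_13 (t u : F) : X 13 u * X 9 t = X 9 t * X 13 u := by
  have h := td4vc_comm (F := F) 9 13 (by decide) (by decide) (by decide) (by decide) t u
  unfold ChevalleyDatum.commWord at h
  rw [td4vc_terms_9_13] at h
  simp only [List.map_nil, td4vc_word_nil, mul_one] at h
  exact h

theorem td4vc_terms_9_15 : chevD4.commTerms 9 15 = [(12, -1, 1, 1)] := by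
  decide

theorem td4vc_c_9_15 (t u : F) :
    X 15 u * X 9 t = X 9 t * X 15 u * X 12 (t * u) := by
  have h := td4vc_comm (F := F) 9 15 (by decide) (by decide) (by decide) (by decide) t u
  unfold ChevalleyDatum.commWord at h
  rw [td4vc_terms_9_15] at h
  simp only [List.map_cons, List.map_nil, td4vc_word_cons, td4vc_word_nil, mul_one] at h
  have a0 : (((-1) : ℤ) : F) * (-t) ^ 1 * u ^ 1 = t * u := by
    push_cast
    ring
  rw [a0] at h
  rw [h]

theorem td4vc_terms_9_16 : chevD4.commTerms 9 16 = [(13, -1, 1, 1)] := by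
  decide

theorem td4vc_c_9_16 (t u : F) :
    X 16 u * X 9 t = X 9 t * X 16 u * X 13 (t * u) := by
  have h := td4vc_comm (F := F) 9 16 (by decide) (by decide) (by decide) (by decide) t u
  unfold ChevalleyDatum.commWord at h
  rw [td4vc_terms_9_16] at h
  simp only [List.map_cons, List.map_nil, td4vc_word_cons, td4vc_word_nil, mul_one] at h
  have a0 : (((-1) : ℤ) : F) * (-t) ^ 1 * u ^ 1 = t * u := by
    push_cast
    ring
  rw [a0] at h
  rw [h]

theorem td4vc_terms_9_17 : chevD4.commTerms 9 17 = [] := by
  decide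

theorem td4vc_c_9_17 (t u : F) : X 17 u * X 9 t = X 9 t * X 17 u := by
  have h := td4vc_comm (F := F) 9 17 (by decide) (by decide) (by decide) (by decide) t u
  unfold ChevalleyDatum.commWord at h
  rw [td4vc_terms_9_17] at h
  simp only [List.map_nil, td4vc_word_nil, mul_one] at h
  exact h

theorem td4vc_terms_9_18 : chevD4.commTerms 9 18 = [] := by
  decide

theorem td4vc_c_9_18 (t u : F) : X 18 u * X 9 t = X 9 t * X 18 u := by
  have h := td4vc_comm (F := F) 9 18 (by decide) (by decide) (by decide) (by decide) t u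
  unfold ChevalleyDatum.commWord at h
  rw [td4vc_terms_9_18] at h
  simp only [List.map_nil, td4vc_word_nil, mul_one] at h
  exact h

theorem td4vc_terms_9_19 : chevD4.commTerms 9 19 = [(18, 1, 1, 1)] := by
  decide

theorem td4vc_c_9_19 (t u : F) :
    X 19 u * X 9 t = X 9 t * X 19 u * X 18 (-(t * u)) := by
  have h := td4vc_comm (F := F) 9 19 (by decide) (by decide) (by decide) (by decide) t u
  unfold ChevalleyDatum.commWord at h
  rw [td4vc_terms_9_19] at h
  simp only [List.map_cons, List.map_nil, td4vc_word_cons, td4vc_word_nil, mul_one] at h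
  have a0 : ((1 : ℤ) : F) * (-t) ^ 1 * u ^ 1 = -(t * u) := by
    push_cast
    ring
  rw [a0] at h
  rw [h]

theorem td4vc_terms_9_20 : chevD4.commTerms 9 20 = [] := by
  decide

theorem td4vc_c_9_20 (t u : F) : X 20 u * X 9 t = X 9 t * X 20 u := by
  have h := td4vc_comm (F := F) 9 20 (by decide) (by decide) (by decide) (by decide) t u
  unfold ChevalleyDatum.commWord at h
  rw [td4vc_terms_9_20] at h
  simp only [List.map_nil, td4vc_word_nil, mul_one] at h
  exact h

theorem td4vc_terms_9_21 : chevD4.commTerms 9 21 = [] := by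
  decide

theorem td4vc_c_9_21 (t u : F) : X 21 u * X 9 t = X 9 t * X 21 u := by
  have h := td4vc_comm (F := F) 9 21 (by decide) (by decide) (by decide) (by decide) t u
  unfold ChevalleyDatum.commWord at h
  rw [td4vc_terms_9_21] at h
  simp only [List.map_nil, td4vc_word_nil, mul_one] at h
  exact h

theorem td4vc_terms_9_22 : chevD4.commTerms 9 22 = [] := by
  decide

theorem td4vc_c_9_22 (t u : F) : X 22 u * X 9 t = X 9 t * X 22 u := by
  have h := td4vc_comm (F := F) 9 22 (by decide) (by decide) (by decide) (by decide) t u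
  unfold ChevalleyDatum.commWord at h
  rw [td4vc_terms_9_22] at h
  simp only [List.map_nil, td4vc_word_nil, mul_one] at h
  exact h

theorem td4vc_terms_9_23 : chevD4.commTerms 9 23 = [(22, 1, 1, 1)] := by
  decide

theorem td4vc_c_9_23 (t u : F) :
    X 23 u * X 9 t = X 9 t * X 23 u * X 22 (-(t * u)) := by
  have h := td4vc_comm (F := F) 9 23 (by decide) (by decide) (by decide) (by decide) t u
  unfold ChevalleyDatum.commWord at h
  rw [td4vc_terms_9_23] at h
  simp only [List.map_cons, List.map_nil, td4vc_word_cons, td4vc_word_nil, mul_one] at h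
  have a0 : ((1 : ℤ) : F) * (-t) ^ 1 * u ^ 1 = -(t * u) := by
    push_cast
    ring
  rw [a0] at h
  rw [h]

theorem td4vc_terms_10_0 : chevD4.commTerms 10 0 = [] := by
  decide

theorem td4vc_c_10_0 (t u : F) : X 0 u * X 10 t = X 10 t * X 0 u := by
  have h := td4vc_comm (F := F) 10 0 (by decide) (by decide) (by decide) (by decide) t u
  unfold ChevalleyDatum.commWord at h
  rw [td4vc_terms_10_0] at h
  simp only [List.map_nil, td4vc_word_nil, mul_one] at h
  exact h

theorem td4vc_terms_10_1 : chevD4.commTerms 10 1 = [] := by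
  decide

theorem td4vc_c_10_1 (t u : F) : X 1 u * X 10 t = X 10 t * X 1 u := by
  have h := td4vc_comm (F := F) 10 1 (by decide) (by decide) (by decide) (by decide) t u
  unfold ChevalleyDatum.commWord at h
  rw [td4vc_terms_10_1] at h
  simp only [List.map_nil, td4vc_word_nil, mul_one] at h
  exact h

theorem td4vc_terms_10_2 : chevD4.commTerms 10 2 = [] := by
  decide

theorem td4vc_c_10_2 (t u : F) : X 2 u * X 10 t = X 10 t * X 2 u := by
  have h := td4vc_comm (F := F) 10 2 (by decide) (by decide) (by decide) (by decide) t u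
  unfold ChevalleyDatum.commWord at h
  rw [td4vc_terms_10_2] at h
  simp only [List.map_nil, td4vc_word_nil, mul_one] at h
  exact h

theorem td4vc_terms_10_3 : chevD4.commTerms 10 3 = [(1, -1, 1, 1)] := by
  decide

theorem td4vc_c_10_3 (t u : F) :
    X 3 u * X 10 t = X 10 t * X 3 u * X 1 (t * u) := by
  have h := td4vc_comm (F := F) 10 3 (by decide) (by decide) (by decide) (by decide) t u
  unfold ChevalleyDatum.commWord at h
  rw [td4vc_terms_10_3] at h
  simp only [List.map_cons, List.map_nil, td4vc_word_cons, td4vc_word_nil, mul_one] at h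
  have a0 : (((-1) : ℤ) : F) * (-t) ^ 1 * u ^ 1 = t * u := by
    push_cast
    ring
  rw [a0] at h
  rw [h]

theorem td4vc_terms_10_4 : chevD4.commTerms 10 4 = [(2, -1, 1, 1)] := by
  decide

theorem td4vc_c_10_4 (t u : F) :
    X 4 u * X 10 t = X 10 t * X 4 u * X 2 (t * u) := by
  have h := td4vc_comm (F := F) 10 4 (by decide) (by decide) (by decide) (by decide) t u
  unfold ChevalleyDatum.commWord at h
  rw [td4vc_terms_10_4] at h
  simp only [List.map_cons, List.map_nil, td4vc_word_cons, td4vc_word_nil, mul_one] at h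
  have a0 : (((-1) : ℤ) : F) * (-t) ^ 1 * u ^ 1 = t * u := by
    push_cast
    ring
  rw [a0] at h
  rw [h]

theorem td4vc_terms_10_5 : chevD4.commTerms 10 5 = [] := by
  decide

theorem td4vc_c_10_5 (t u : F) : X 5 u * X 10 t = X 10 t * X 5 u := by
  have h := td4vc_comm (F := F) 10 5 (by decide) (by decide) (by decide) (by decide) t u
  unfold ChevalleyDatum.commWord at h
  rw [td4vc_terms_10_5] at h
  simp only [List.map_nil, td4vc_word_nil, mul_one] at h
  exact h

theorem td4vc_terms_10_6 : chevD4.commTerms 10 6 = [] := by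
  decide

theorem td4vc_c_10_6 (t u : F) : X 6 u * X 10 t = X 10 t * X 6 u := by
  have h := td4vc_comm (F := F) 10 6 (by decide) (by decide) (by decide) (by decide) t u
  unfold ChevalleyDatum.commWord at h
  rw [td4vc_terms_10_6] at h
  simp only [List.map_nil, td4vc_word_nil, mul_one] at h
  exact h

theorem td4vc_terms_10_7 : chevD4.commTerms 10 7 = [] := by
  decide

theorem td4vc_c_10_7 (t u : F) : X 7 u * X 10 t = X 10 t * X 7 u := by
  have h := td4vc_comm (F := F) 10 7 (by decide) (by decide) (by decide) (by decide) t u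
  unfold ChevalleyDatum.commWord at h
  rw [td4vc_terms_10_7] at h
  simp only [List.map_nil, td4vc_word_nil, mul_one] at h
  exact h

theorem td4vc_terms_10_8 : chevD4.commTerms 10 8 = [(6, -1, 1, 1)] := by
  decide

theorem td4vc_c_10_8 (t u : F) :
    X 8 u * X 10 t = X 10 t * X 8 u * X 6 (t * u) := by
  have h := td4vc_comm (F := F) 10 8 (by decide) (by decide) (by decide) (by decide) t u
  unfold ChevalleyDatum.commWord at h
  rw [td4vc_terms_10_8] at h
  simp only [List.map_cons, List.map_nil, td4vc_word_cons, td4vc_word_nil, mul_one] at h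
  have a0 : (((-1) : ℤ) : F) * (-t) ^ 1 * u ^ 1 = t * u := by
    push_cast
    ring
  rw [a0] at h
  rw [h]

theorem td4vc_terms_10_9 : chevD4.commTerms 10 9 = [(7, -1, 1, 1)] := by
  decide

theorem td4vc_c_10_9 (t u : F) :
    X 9 u * X 10 t = X 10 t * X 9 u * X 7 (t * u) := by
  have h := td4vc_comm (F := F) 10 9 (by decide) (by decide) (by decide) (by decide) t u
  unfold ChevalleyDatum.commWord at h
  rw [td4vc_terms_10_9] at h
  simp only [List.map_cons, List.map_nil, td4vc_word_cons, td4vc_word_nil, mul_one] at h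
  have a0 : (((-1) : ℤ) : F) * (-t) ^ 1 * u ^ 1 = t * u := by
    push_cast
    ring
  rw [a0] at h
  rw [h]

theorem td4vc_terms_10_11 : chevD4.commTerms 10 11 = [] := by
  decide

theorem td4vc_c_10_11 (t u : F) : X 11 u * X 10 t = X 10 t * X 11 u := by
  have h := td4vc_comm (F := F) 10 11 (by decide) (by decide) (by decide) (by decide) t u
  unfold ChevalleyDatum.commWord at h
  rw [td4vc_terms_10_11] at h
  simp only [List.map_nil, td4vc_word_nil, mul_one] at h
  exact h

theorem td4vc_terms_10_12 : chevD4.commTerms 10 12 = [] := by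
  decide

theorem td4vc_c_10_12 (t u : F) : X 12 u * X 10 t = X 10 t * X 12 u := by
  have h := td4vc_comm (F := F) 10 12 (by decide) (by decide) (by decide) (by decide) t u
  unfold ChevalleyDatum.commWord at h
  rw [td4vc_terms_10_12] at h
  simp only [List.map_nil, td4vc_word_nil, mul_one] at h
  exact h

theorem td4vc_terms_10_14 : chevD4.commTerms 10 14 = [] := by
  decide

theorem td4vc_c_10_14 (t u : F) : X 14 u * X 10 t = X 10 t * X 14 u := by
  have h := td4vc_comm (F := F) 10 14 (by decide) (by decide) (by decide) (by decide) t u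
  unfold ChevalleyDatum.commWord at h
  rw [td4vc_terms_10_14] at h
  simp only [List.map_nil, td4vc_word_nil, mul_one] at h
  exact h

theorem td4vc_terms_10_15 : chevD4.commTerms 10 15 = [] := by
  decide

theorem td4vc_c_10_15 (t u : F) : X 15 u * X 10 t = X 10 t * X 15 u := by
  have h := td4vc_comm (F := F) 10 15 (by decide) (by decide) (by decide) (by decide) t u
  unfold ChevalleyDatum.commWord at h
  rw [td4vc_terms_10_15] at h
  simp only [List.map_nil, td4vc_word_nil, mul_one] at h
  exact h

theorem td4vc_terms_10_16 : chevD4.commTerms 10 16 = [(14, 1, 1, 1)] := by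
  decide

theorem td4vc_c_10_16 (t u : F) :
    X 16 u * X 10 t = X 10 t * X 16 u * X 14 (-(t * u)) := by
  have h := td4vc_comm (F := F) 10 16 (by decide) (by decide) (by decide) (by decide) t u
  unfold ChevalleyDatum.commWord at h
  rw [td4vc_terms_10_16] at h
  simp only [List.map_cons, List.map_nil, td4vc_word_cons, td4vc_word_nil, mul_one] at h
  have a0 : ((1 : ℤ) : F) * (-t) ^ 1 * u ^ 1 = -(t * u) := by
    push_cast
    ring
  rw [a0] at h
  rw [h]

theorem td4vc_terms_10_17 : chevD4.commTerms 10 17 = [(15, 1, 1, 1)] := by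
  decide

theorem td4vc_c_10_17 (t u : F) :
    X 17 u * X 10 t = X 10 t * X 17 u * X 15 (-(t * u)) := by
  have h := td4vc_comm (F := F) 10 17 (by decide) (by decide) (by decide) (by decide) t u
  unfold ChevalleyDatum.commWord at h
  rw [td4vc_terms_10_17] at h
  simp only [List.map_cons, List.map_nil, td4vc_word_cons, td4vc_word_nil, mul_one] at h
  have a0 : ((1 : ℤ) : F) * (-t) ^ 1 * u ^ 1 = -(t * u) := by
    push_cast
    ring
  rw [a0] at h
  rw [h]

theorem td4vc_terms_10_18 : chevD4.commTerms 10 18 = [] := by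
  decide

theorem td4vc_c_10_18 (t u : F) : X 18 u * X 10 t = X 10 t * X 18 u := by
  have h := td4vc_comm (F := F) 10 18 (by decide) (by decide) (by decide) (by decide) t u
  unfold ChevalleyDatum.commWord at h
  rw [td4vc_terms_10_18] at h
  simp only [List.map_nil, td4vc_word_nil, mul_one] at h
  exact h

theorem td4vc_terms_10_19 : chevD4.commTerms 10 19 = [] := by
  decide

theorem td4vc_c_10_19 (t u : F) : X 19 u * X 10 t = X 10 t * X 19 u := by
  have h := td4vc_comm (F := F) 10 19 (by decide) (by decide) (by decide) (by decide) t u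
  unfold ChevalleyDatum.commWord at h
  rw [td4vc_terms_10_19] at h
  simp only [List.map_nil, td4vc_word_nil, mul_one] at h
  exact h

theorem td4vc_terms_10_20 : chevD4.commTerms 10 20 = [] := by
  decide

theorem td4vc_c_10_20 (t u : F) : X 20 u * X 10 t = X 10 t * X 20 u := by
  have h := td4vc_comm (F := F) 10 20 (by decide) (by decide) (by decide) (by decide) t u
  unfold ChevalleyDatum.commWord at h
  rw [td4vc_terms_10_20] at h
  simp only [List.map_nil, td4vc_word_nil, mul_one] at h
  exact h

theorem td4vc_terms_10_21 : chevD4.commTerms 10 21 = [(19, 1, 1, 1)] := by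
  decide

theorem td4vc_c_10_21 (t u : F) :
    X 21 u * X 10 t = X 10 t * X 21 u * X 19 (-(t * u)) := by
  have h := td4vc_comm (F := F) 10 21 (by decide) (by decide) (by decide) (by decide) t u
  unfold ChevalleyDatum.commWord at h
  rw [td4vc_terms_10_21] at h
  simp only [List.map_cons, List.map_nil, td4vc_word_cons, td4vc_word_nil, mul_one] at h
  have a0 : ((1 : ℤ) : F) * (-t) ^ 1 * u ^ 1 = -(t * u) := by
    push_cast
    ring
  rw [a0] at h
  rw [h]

theorem td4vc_terms_10_22 : chevD4.commTerms 10 22 = [(20, 1, 1, 1)] := by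
  decide

theorem td4vc_c_10_22 (t u : F) :
    X 22 u * X 10 t = X 10 t * X 22 u * X 20 (-(t * u)) := by
  have h := td4vc_comm (F := F) 10 22 (by decide) (by decide) (by decide) (by decide) t u
  unfold ChevalleyDatum.commWord at h
  rw [td4vc_terms_10_22] at h
  simp only [List.map_cons, List.map_nil, td4vc_word_cons, td4vc_word_nil, mul_one] at h
  have a0 : ((1 : ℤ) : F) * (-t) ^ 1 * u ^ 1 = -(t * u) := by
    push_cast
    ring
  rw [a0] at h
  rw [h]

theorem td4vc_terms_10_23 : chevD4.commTerms 10 23 = [] := by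
  decide

theorem td4vc_c_10_23 (t u : F) : X 23 u * X 10 t = X 10 t * X 23 u := by
  have h := td4vc_comm (F := F) 10 23 (by decide) (by decide) (by decide) (by decide) t u
  unfold ChevalleyDatum.commWord at h
  rw [td4vc_terms_10_23] at h
  simp only [List.map_nil, td4vc_word_nil, mul_one] at h
  exact h

theorem td4vc_terms_11_0 : chevD4.commTerms 11 0 = [] := by
  decide

theorem td4vc_c_11_0 (t u : F) : X 0 u * X 11 t = X 11 t * X 0 u := by
  have h := td4vc_comm (F := F) 11 0 (by decide) (by decide) (by decide) (by decide) t u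
  unfold ChevalleyDatum.commWord at h
  rw [td4vc_terms_11_0] at h
  simp only [List.map_nil, td4vc_word_nil, mul_one] at h
  exact h

theorem td4vc_terms_11_1 : chevD4.commTerms 11 1 = [] := by
  decide

theorem td4vc_c_11_1 (t u : F) : X 1 u * X 11 t = X 11 t * X 1 u := by
  have h := td4vc_comm (F := F) 11 1 (by decide) (by decide) (by decide) (by decide) t u
  unfold ChevalleyDatum.commWord at h
  rw [td4vc_terms_11_1] at h
  simp only [List.map_nil, td4vc_word_nil, mul_one] at h
  exact h

theorem td4vc_terms_11_2 : chevD4.commTerms 11 2 = [(1, -1, 1, 1)] := by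
  decide

theorem td4vc_c_11_2 (t u : F) :
    X 2 u * X 11 t = X 11 t * X 2 u * X 1 (t * u) := by
  have h := td4vc_comm (F := F) 11 2 (by decide) (by decide) (by decide) (by decide) t u
  unfold ChevalleyDatum.commWord at h
  rw [td4vc_terms_11_2] at h
  simp only [List.map_cons, List.map_nil, td4vc_word_cons, td4vc_word_nil, mul_one] at h
  have a0 : (((-1) : ℤ) : F) * (-t) ^ 1 * u ^ 1 = t * u := by
    push_cast
    ring
  rw [a0] at h
  rw [h]

theorem td4vc_terms_11_3 : chevD4.commTerms 11 3 = [] := by
  decide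

theorem td4vc_c_11_3 (t u : F) : X 3 u * X 11 t = X 11 t * X 3 u := by
  have h := td4vc_comm (F := F) 11 3 (by decide) (by decide) (by decide) (by decide) t u
  unfold ChevalleyDatum.commWord at h
  rw [td4vc_terms_11_3] at h
  simp only [List.map_nil, td4vc_word_nil, mul_one] at h
  exact h

theorem td4vc_terms_11_4 : chevD4.commTerms 11 4 = [(3, -1, 1, 1)] := by
  decide

theorem td4vc_c_11_4 (t u : F) :
    X 4 u * X 11 t = X 11 t * X 4 u * X 3 (t * u) := by
  have h := td4vc_comm (F := F) 11 4 (by decide) (by decide) (by decide) (by decide) t u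
  unfold ChevalleyDatum.commWord at h
  rw [td4vc_terms_11_4] at h
  simp only [List.map_cons, List.map_nil, td4vc_word_cons, td4vc_word_nil, mul_one] at h
  have a0 : (((-1) : ℤ) : F) * (-t) ^ 1 * u ^ 1 = t * u := by
    push_cast
    ring
  rw [a0] at h
  rw [h]

theorem td4vc_terms_11_5 : chevD4.commTerms 11 5 = [] := by
  decide

theorem td4vc_c_11_5 (t u : F) : X 5 u * X 11 t = X 11 t * X 5 u := by
  have h := td4vc_comm (F := F) 11 5 (by decide) (by decide) (by decide) (by decide) t u
  unfold ChevalleyDatum.commWord at h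
  rw [td4vc_terms_11_5] at h
  simp only [List.map_nil, td4vc_word_nil, mul_one] at h
  exact h

theorem td4vc_terms_11_6 : chevD4.commTerms 11 6 = [] := by
  decide

theorem td4vc_c_11_6 (t u : F) : X 6 u * X 11 t = X 11 t * X 6 u := by
  have h := td4vc_comm (F := F) 11 6 (by decide) (by decide) (by decide) (by decide) t u
  unfold ChevalleyDatum.commWord at h
  rw [td4vc_terms_11_6] at h
  simp only [List.map_nil, td4vc_word_nil, mul_one] at h
  exact h

theorem td4vc_terms_11_7 : chevD4.commTerms 11 7 = [(6, -1, 1, 1)] := by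
  decide

theorem td4vc_c_11_7 (t u : F) :
    X 7 u * X 11 t = X 11 t * X 7 u * X 6 (t * u) := by
  have h := td4vc_comm (F := F) 11 7 (by decide) (by decide) (by decide) (by decide) t u
  unfold ChevalleyDatum.commWord at h
  rw [td4vc_terms_11_7] at h
  simp only [List.map_cons, List.map_nil, td4vc_word_cons, td4vc_word_nil, mul_one] at h
  have a0 : (((-1) : ℤ) : F) * (-t) ^ 1 * u ^ 1 = t * u := by
    push_cast
    ring
  rw [a0] at h
  rw [h]

theorem td4vc_terms_11_8 : chevD4.commTerms 11 8 = [] := by
  decide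

theorem td4vc_c_11_8 (t u : F) : X 8 u * X 11 t = X 11 t * X 8 u := by
  have h := td4vc_comm (F := F) 11 8 (by decide) (by decide) (by decide) (by decide) t u
  unfold ChevalleyDatum.commWord at h
  rw [td4vc_terms_11_8] at h
  simp only [List.map_nil, td4vc_word_nil, mul_one] at h
  exact h

theorem td4vc_terms_11_9 : chevD4.commTerms 11 9 = [(8, -1, 1, 1)] := by
  decide

theorem td4vc_c_11_9 (t u : F) :
    X 9 u * X 11 t = X 11 t * X 9 u * X 8 (t * u) := by
  have h := td4vc_comm (F := F) 11 9 (by decide) (by decide) (by decide) (by decide) t u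
  unfold ChevalleyDatum.commWord at h
  rw [td4vc_terms_11_9] at h
  simp only [List.map_cons, List.map_nil, td4vc_word_cons, td4vc_word_nil, mul_one] at h
  have a0 : (((-1) : ℤ) : F) * (-t) ^ 1 * u ^ 1 = t * u := by
    push_cast
    ring
  rw [a0] at h
  rw [h]

theorem td4vc_terms_11_10 : chevD4.commTerms 11 10 = [] := by
  decide

theorem td4vc_c_11_10 (t u : F) : X 10 u * X 11 t = X 11 t * X 10 u := by
  have h := td4vc_comm (F := F) 11 10 (by decide) (by decide) (by decide) (by decide) t u
  unfold ChevalleyDatum.commWord at h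
  rw [td4vc_terms_11_10] at h
  simp only [List.map_nil, td4vc_word_nil, mul_one] at h
  exact h

theorem td4vc_terms_11_13 : chevD4.commTerms 11 13 = [] := by
  decide

theorem td4vc_c_11_13 (t u : F) : X 13 u * X 11 t = X 11 t * X 13 u := by
  have h := td4vc_comm (F := F) 11 13 (by decide) (by decide) (by decide) (by decide) t u
  unfold ChevalleyDatum.commWord at h
  rw [td4vc_terms_11_13] at h
  simp only [List.map_nil, td4vc_word_nil, mul_one] at h
  exact h

theorem td4vc_terms_11_14 : chevD4.commTerms 11 14 = [] := by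
  decide

theorem td4vc_c_11_14 (t u : F) : X 14 u * X 11 t = X 11 t * X 14 u := by
  have h := td4vc_comm (F := F) 11 14 (by decide) (by decide) (by decide) (by decide) t u
  unfold ChevalleyDatum.commWord at h
  rw [td4vc_terms_11_14] at h
  simp only [List.map_nil, td4vc_word_nil, mul_one] at h
  exact h

theorem td4vc_terms_11_15 : chevD4.commTerms 11 15 = [(14, 1, 1, 1)] := by
  decide

theorem td4vc_c_11_15 (t u : F) :
    X 15 u * X 11 t = X 11 t * X 15 u * X 14 (-(t * u)) := by
  have h := td4vc_comm (F := F) 11 15 (by decide) (by decide) (by decide) (by decide) t u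
  unfold ChevalleyDatum.commWord at h
  rw [td4vc_terms_11_15] at h
  simp only [List.map_cons, List.map_nil, td4vc_word_cons, td4vc_word_nil, mul_one] at h
  have a0 : ((1 : ℤ) : F) * (-t) ^ 1 * u ^ 1 = -(t * u) := by
    push_cast
    ring
  rw [a0] at h
  rw [h]

theorem td4vc_terms_11_16 : chevD4.commTerms 11 16 = [] := by
  decide

theorem td4vc_c_11_16 (t u : F) : X 16 u * X 11 t = X 11 t * X 16 u := by
  have h := td4vc_comm (F := F) 11 16 (by decide) (by decide) (by decide) (by decide) t u
  unfold ChevalleyDatum.commWord at h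
  rw [td4vc_terms_11_16] at h
  simp only [List.map_nil, td4vc_word_nil, mul_one] at h
  exact h

theorem td4vc_terms_11_17 : chevD4.commTerms 11 17 = [(16, 1, 1, 1)] := by
  decide

theorem td4vc_c_11_17 (t u : F) :
    X 17 u * X 11 t = X 11 t * X 17 u * X 16 (-(t * u)) := by
  have h := td4vc_comm (F := F) 11 17 (by decide) (by decide) (by decide) (by decide) t u
  unfold ChevalleyDatum.commWord at h
  rw [td4vc_terms_11_17] at h
  simp only [List.map_cons, List.map_nil, td4vc_word_cons, td4vc_word_nil, mul_one] at h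
  have a0 : ((1 : ℤ) : F) * (-t) ^ 1 * u ^ 1 = -(t * u) := by
    push_cast
    ring
  rw [a0] at h
  rw [h]

theorem td4vc_terms_11_18 : chevD4.commTerms 11 18 = [] := by
  decide

theorem td4vc_c_11_18 (t u : F) : X 18 u * X 11 t = X 11 t * X 18 u := by
  have h := td4vc_comm (F := F) 11 18 (by decide) (by decide) (by decide) (by decide) t u
  unfold ChevalleyDatum.commWord at h
  rw [td4vc_terms_11_18] at h
  simp only [List.map_nil, td4vc_word_nil, mul_one] at h
  exact h

theorem td4vc_terms_11_19 : chevD4.commTerms 11 19 = [] := by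
  decide

theorem td4vc_c_11_19 (t u : F) : X 19 u * X 11 t = X 11 t * X 19 u := by
  have h := td4vc_comm (F := F) 11 19 (by decide) (by decide) (by decide) (by decide) t u
  unfold ChevalleyDatum.commWord at h
  rw [td4vc_terms_11_19] at h
  simp only [List.map_nil, td4vc_word_nil, mul_one] at h
  exact h

theorem td4vc_terms_11_20 : chevD4.commTerms 11 20 = [(19, 1, 1, 1)] := by
  decide

theorem td4vc_c_11_20 (t u : F) :
    X 20 u * X 11 t = X 11 t * X 20 u * X 19 (-(t * u)) := by
  have h := td4vc_comm (F := F) 11 20 (by decide) (by decide) (by decide) (by decide) t u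
  unfold ChevalleyDatum.commWord at h
  rw [td4vc_terms_11_20] at h
  simp only [List.map_cons, List.map_nil, td4vc_word_cons, td4vc_word_nil, mul_one] at h
  have a0 : ((1 : ℤ) : F) * (-t) ^ 1 * u ^ 1 = -(t * u) := by
    push_cast
    ring
  rw [a0] at h
  rw [h]

theorem td4vc_terms_11_21 : chevD4.commTerms 11 21 = [] := by
  decide

theorem td4vc_c_11_21 (t u : F) : X 21 u * X 11 t = X 11 t * X 21 u := by
  have h := td4vc_comm (F := F) 11 21 (by decide) (by decide) (by decide) (by decide) t u
  unfold ChevalleyDatum.commWord at h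
  rw [td4vc_terms_11_21] at h
  simp only [List.map_nil, td4vc_word_nil, mul_one] at h
  exact h

theorem td4vc_terms_11_22 : chevD4.commTerms 11 22 = [(21, 1, 1, 1)] := by
  decide

theorem td4vc_c_11_22 (t u : F) :
    X 22 u * X 11 t = X 11 t * X 22 u * X 21 (-(t * u)) := by
  have h := td4vc_comm (F := F) 11 22 (by decide) (by decide) (by decide) (by decide) t u
  unfold ChevalleyDatum.commWord at h
  rw [td4vc_terms_11_22] at h
  simp only [List.map_cons, List.map_nil, td4vc_word_cons, td4vc_word_nil, mul_one] at h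
  have a0 : ((1 : ℤ) : F) * (-t) ^ 1 * u ^ 1 = -(t * u) := by
    push_cast
    ring
  rw [a0] at h
  rw [h]

theorem td4vc_terms_11_23 : chevD4.commTerms 11 23 = [] := by
  decide

theorem td4vc_c_11_23 (t u : F) : X 23 u * X 11 t = X 11 t * X 23 u := by
  have h := td4vc_comm (F := F) 11 23 (by decide) (by decide) (by decide) (by decide) t u
  unfold ChevalleyDatum.commWord at h
  rw [td4vc_terms_11_23] at h
  simp only [List.map_nil, td4vc_word_nil, mul_one] at h
  exact h

end Cfsg.Agent.Lib.helper23.TD4V
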