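import Mathlib
import Cfsg.Agent.Lib.helper23.TD4V.Defs
import Cfsg.Agent.Lib.helper23.TD4VComm0

/-!
# Project TD4V (S2462): the commutator formula S1025 for all pairs of roots of `chevD4`, in the units `X r t`
(machine generated from the tables, as Helper19.G2VComm).

`td4vc_c_r_s t u : X s u * X r t = X r t * X s u` when `r + s` is no root, and
`td4vc_c_r_s t u : X s u * X r t = X r t * X s u * X k (∓(t * u))` when `r + s = k` is a root (`D₄` is simply laced).
-/

set_option autoImplicit false

namespace Cfsg.Agent.Lib.helper23.TD4V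

open Cfsg.Lie Cfsg.Lie.ChevalleyDatum Matrix
open Cfsg.Agent.Lib.helper8

universe u

variable {F : Type u} [Field F]

theorem td4vc_terms_12_0 : chevD4.commTerms 12 0 = [] := by
  decide

theorem td4vc_c_12_0 (t u : F) : X 0 u * X 12 t = X 12 t * X 0 u := by
  have h := td4vc_comm (F := F) 12 0 (by decide) (by decide) (by decide) (by decide) t u
  unfold ChevalleyDatum.commWord at h
  rw [td4vc_terms_12_0] at h
  simp only [List.map_nil, td4vc_word_nil, mul_one] at h
  exact h

theorem td4vc_terms_12_1 : chevD4.commTerms 12 1 = [(2, -1, 1, 1)] := by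
  decide

theorem td4vc_c_12_1 (t u : F) :
    X 1 u * X 12 t = X 12 t * X 1 u * X 2 (t * u) := by
  have h := td4vc_comm (F := F) 12 1 (by decide) (by decide) (by decide) (by decide) t u
  unfold ChevalleyDatum.commWord at h
  rw [td4vc_terms_12_1] at h
  simp only [List.map_cons, List.map_nil, td4vc_word_cons, td4vc_word_nil, mul_one] at h
  have a0 : (((-1) : ℤ) : F) * (-t) ^ 1 * u ^ 1 = t * u := by
    push_cast
    ring
  rw [a0] at h
  rw [h]

theorem td4vc_terms_12_2 : chevD4.commTerms 12 2 = [] := by
  decide

theorem td4vc_c_12_2 (t u : F) : X 2 u * X 12 t = X 12 t * X 2 u := by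
  have h := td4vc_comm (F := F) 12 2 (by decide) (by decide) (by decide) (by decide) t u
  unfold ChevalleyDatum.commWord at h
  rw [td4vc_terms_12_2] at h
  simp only [List.map_nil, td4vc_word_nil, mul_one] at h
  exact h

theorem td4vc_terms_12_3 : chevD4.commTerms 12 3 = [(4, -1, 1, 1)] := by
  decide

theorem td4vc_c_12_3 (t u : F) :
    X 3 u * X 12 t = X 12 t * X 3 u * X 4 (t * u) := by
  have h := td4vc_comm (F := F) 12 3 (by decide) (by decide) (by decide) (by decide) t u
  unfold ChevalleyDatum.commWord at h
  rw [td4vc_terms_12_3] at h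
  simp only [List.map_cons, List.map_nil, td4vc_word_cons, td4vc_word_nil, mul_one] at h
  have a0 : (((-1) : ℤ) : F) * (-t) ^ 1 * u ^ 1 = t * u := by
    push_cast
    ring
  rw [a0] at h
  rw [h]

theorem td4vc_terms_12_4 : chevD4.commTerms 12 4 = [] := by
  decide

theorem td4vc_c_12_4 (t u : F) : X 4 u * X 12 t = X 12 t * X 4 u := by
  have h := td4vc_comm (F := F) 12 4 (by decide) (by decide) (by decide) (by decide) t u
  unfold ChevalleyDatum.commWord at h
  rw [td4vc_terms_12_4] at h
  simp only [List.map_nil, td4vc_word_nil, mul_one] at h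
  exact h

theorem td4vc_terms_12_5 : chevD4.commTerms 12 5 = [] := by
  decide

theorem td4vc_c_12_5 (t u : F) : X 5 u * X 12 t = X 12 t * X 5 u := by
  have h := td4vc_comm (F := F) 12 5 (by decide) (by decide) (by decide) (by decide) t u
  unfold ChevalleyDatum.commWord at h
  rw [td4vc_terms_12_5] at h
  simp only [List.map_nil, td4vc_word_nil, mul_one] at h
  exact h

theorem td4vc_terms_12_6 : chevD4.commTerms 12 6 = [(7, -1, 1, 1)] := by
  decide

theorem td4vc_c_12_6 (t u : F) :
    X 6 u * X 12 t = X 12 t * X 6 u * X 7 (t * u) := by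
  have h := td4vc_comm (F := F) 12 6 (by decide) (by decide) (by decide) (by decide) t u
  unfold ChevalleyDatum.commWord at h
  rw [td4vc_terms_12_6] at h
  simp only [List.map_cons, List.map_nil, td4vc_word_cons, td4vc_word_nil, mul_one] at h
  have a0 : (((-1) : ℤ) : F) * (-t) ^ 1 * u ^ 1 = t * u := by
    push_cast
    ring
  rw [a0] at h
  rw [h]

theorem td4vc_terms_12_7 : chevD4.commTerms 12 7 = [] := by
  decide

theorem td4vc_c_12_7 (t u : F) : X 7 u * X 12 t = X 12 t * X 7 u := by
  have h := td4vc_comm (F := F) 12 7 (by decide) (by decide) (by decide) (by decide) t u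
  unfold ChevalleyDatum.commWord at h
  rw [td4vc_terms_12_7] at h
  simp only [List.map_nil, td4vc_word_nil, mul_one] at h
  exact h

theorem td4vc_terms_12_8 : chevD4.commTerms 12 8 = [(9, -1, 1, 1)] := by
  decide

theorem td4vc_c_12_8 (t u : F) :
    X 8 u * X 12 t = X 12 t * X 8 u * X 9 (t * u) := by
  have h := td4vc_comm (F := F) 12 8 (by decide) (by decide) (by decide) (by decide) t u
  unfold ChevalleyDatum.commWord at h
  rw [td4vc_terms_12_8] at h
  simp only [List.map_cons, List.map_nil, td4vc_word_cons, td4vc_word_nil, mul_one] at h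
  have a0 : (((-1) : ℤ) : F) * (-t) ^ 1 * u ^ 1 = t * u := by
    push_cast
    ring
  rw [a0] at h
  rw [h]

theorem td4vc_terms_12_9 : chevD4.commTerms 12 9 = [] := by
  decide

theorem td4vc_c_12_9 (t u : F) : X 9 u * X 12 t = X 12 t * X 9 u := by
  have h := td4vc_comm (F := F) 12 9 (by decide) (by decide) (by decide) (by decide) t u
  unfold ChevalleyDatum.commWord at h
  rw [td4vc_terms_12_9] at h
  simp only [List.map_nil, td4vc_word_nil, mul_one] at h
  exact h

theorem td4vc_terms_12_10 : chevD4.commTerms 12 10 = [] := by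
  decide

theorem td4vc_c_12_10 (t u : F) : X 10 u * X 12 t = X 12 t * X 10 u := by
  have h := td4vc_comm (F := F) 12 10 (by decide) (by decide) (by decide) (by decide) t u
  unfold ChevalleyDatum.commWord at h
  rw [td4vc_terms_12_10] at h
  simp only [List.map_nil, td4vc_word_nil, mul_one] at h
  exact h

theorem td4vc_terms_12_13 : chevD4.commTerms 12 13 = [] := by
  decide

theorem td4vc_c_12_13 (t u : F) : X 13 u * X 12 t = X 12 t * X 13 u := by
  have h := td4vc_comm (F := F) 12 13 (by decide) (by decide) (by decide) (by decide) t u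
  unfold ChevalleyDatum.commWord at h
  rw [td4vc_terms_12_13] at h
  simp only [List.map_nil, td4vc_word_nil, mul_one] at h
  exact h

theorem td4vc_terms_12_14 : chevD4.commTerms 12 14 = [(15, 1, 1, 1)] := by
  decide

theorem td4vc_c_12_14 (t u : F) :
    X 14 u * X 12 t = X 12 t * X 14 u * X 15 (-(t * u)) := by
  have h := td4vc_comm (F := F) 12 14 (by decide) (by decide) (by decide) (by decide) t u
  unfold ChevalleyDatum.commWord at h
  rw [td4vc_terms_12_14] at h
  simp only [List.map_cons, List.map_nil, td4vc_word_cons, td4vc_word_nil, mul_one] at h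
  have a0 : ((1 : ℤ) : F) * (-t) ^ 1 * u ^ 1 = -(t * u) := by
    push_cast
    ring
  rw [a0] at h
  rw [h]

theorem td4vc_terms_12_15 : chevD4.commTerms 12 15 = [] := by
  decide

theorem td4vc_c_12_15 (t u : F) : X 15 u * X 12 t = X 12 t * X 15 u := by
  have h := td4vc_comm (F := F) 12 15 (by decide) (by decide) (by decide) (by decide) t u
  unfold ChevalleyDatum.commWord at h
  rw [td4vc_terms_12_15] at h
  simp only [List.map_nil, td4vc_word_nil, mul_one] at h
  exact h

theorem td4vc_terms_12_16 : chevD4.commTerms 12 16 = [(17, 1, 1, 1)] := by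
  decide

theorem td4vc_c_12_16 (t u : F) :
    X 16 u * X 12 t = X 12 t * X 16 u * X 17 (-(t * u)) := by
  have h := td4vc_comm (F := F) 12 16 (by decide) (by decide) (by decide) (by decide) t u
  unfold ChevalleyDatum.commWord at h
  rw [td4vc_terms_12_16] at h
  simp only [List.map_cons, List.map_nil, td4vc_word_cons, td4vc_word_nil, mul_one] at h
  have a0 : ((1 : ℤ) : F) * (-t) ^ 1 * u ^ 1 = -(t * u) := by
    push_cast
    ring
  rw [a0] at h
  rw [h]

theorem td4vc_terms_12_17 : chevD4.commTerms 12 17 = [] := by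
  decide

theorem td4vc_c_12_17 (t u : F) : X 17 u * X 12 t = X 12 t * X 17 u := by
  have h := td4vc_comm (F := F) 12 17 (by decide) (by decide) (by decide) (by decide) t u
  unfold ChevalleyDatum.commWord at h
  rw [td4vc_terms_12_17] at h
  simp only [List.map_nil, td4vc_word_nil, mul_one] at h
  exact h

theorem td4vc_terms_12_18 : chevD4.commTerms 12 18 = [] := by
  decide

theorem td4vc_c_12_18 (t u : F) : X 18 u * X 12 t = X 12 t * X 18 u := by
  have h := td4vc_comm (F := F) 12 18 (by decide) (by decide) (by decide) (by decide) t u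
  unfold ChevalleyDatum.commWord at h
  rw [td4vc_terms_12_18] at h
  simp only [List.map_nil, td4vc_word_nil, mul_one] at h
  exact h

theorem td4vc_terms_12_19 : chevD4.commTerms 12 19 = [(20, 1, 1, 1)] := by
  decide

theorem td4vc_c_12_19 (t u : F) :
    X 19 u * X 12 t = X 12 t * X 19 u * X 20 (-(t * u)) := by
  have h := td4vc_comm (F := F) 12 19 (by decide) (by decide) (by decide) (by decide) t u
  unfold ChevalleyDatum.commWord at h
  rw [td4vc_terms_12_19] at h
  simp only [List.map_cons, List.map_nil, td4vc_word_cons, td4vc_word_nil, mul_one] at h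
  have a0 : ((1 : ℤ) : F) * (-t) ^ 1 * u ^ 1 = -(t * u) := by
    push_cast
    ring
  rw [a0] at h
  rw [h]

theorem td4vc_terms_12_20 : chevD4.commTerms 12 20 = [] := by
  decide

theorem td4vc_c_12_20 (t u : F) : X 20 u * X 12 t = X 12 t * X 20 u := by
  have h := td4vc_comm (F := F) 12 20 (by decide) (by decide) (by decide) (by decide) t u
  unfold ChevalleyDatum.commWord at h
  rw [td4vc_terms_12_20] at h
  simp only [List.map_nil, td4vc_word_nil, mul_one] at h
  exact h

theorem td4vc_terms_12_21 : chevD4.commTerms 12 21 = [(22, 1, 1, 1)] := by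
  decide

theorem td4vc_c_12_21 (t u : F) :
    X 21 u * X 12 t = X 12 t * X 21 u * X 22 (-(t * u)) := by
  have h := td4vc_comm (F := F) 12 21 (by decide) (by decide) (by decide) (by decide) t u
  unfold ChevalleyDatum.commWord at h
  rw [td4vc_terms_12_21] at h
  simp only [List.map_cons, List.map_nil, td4vc_word_cons, td4vc_word_nil, mul_one] at h
  have a0 : ((1 : ℤ) : F) * (-t) ^ 1 * u ^ 1 = -(t * u) := by
    push_cast
    ring
  rw [a0] at h
  rw [h]

theorem td4vc_terms_12_22 : chevD4.commTerms 12 22 = [] := by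
  decide

theorem td4vc_c_12_22 (t u : F) : X 22 u * X 12 t = X 12 t * X 22 u := by
  have h := td4vc_comm (F := F) 12 22 (by decide) (by decide) (by decide) (by decide) t u
  unfold ChevalleyDatum.commWord at h
  rw [td4vc_terms_12_22] at h
  simp only [List.map_nil, td4vc_word_nil, mul_one] at h
  exact h

theorem td4vc_terms_12_23 : chevD4.commTerms 12 23 = [] := by
  decide

theorem td4vc_c_12_23 (t u : F) : X 23 u * X 12 t = X 12 t * X 23 u := by
  have h := td4vc_comm (F := F) 12 23 (by decide) (by decide) (by decide) (by decide) t u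
  unfold ChevalleyDatum.commWord at h
  rw [td4vc_terms_12_23] at h
  simp only [List.map_nil, td4vc_word_nil, mul_one] at h
  exact h

theorem td4vc_terms_13_0 : chevD4.commTerms 13 0 = [] := by
  decide

theorem td4vc_c_13_0 (t u : F) : X 0 u * X 13 t = X 13 t * X 0 u := by
  have h := td4vc_comm (F := F) 13 0 (by decide) (by decide) (by decide) (by decide) t u
  unfold ChevalleyDatum.commWord at h
  rw [td4vc_terms_13_0] at h
  simp only [List.map_nil, td4vc_word_nil, mul_one] at h
  exact h

theorem td4vc_terms_13_1 : chevD4.commTerms 13 1 = [(3, -1, 1, 1)] := by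
  decide

theorem td4vc_c_13_1 (t u : F) :
    X 1 u * X 13 t = X 13 t * X 1 u * X 3 (t * u) := by
  have h := td4vc_comm (F := F) 13 1 (by decide) (by decide) (by decide) (by decide) t u
  unfold ChevalleyDatum.commWord at h
  rw [td4vc_terms_13_1] at h
  simp only [List.map_cons, List.map_nil, td4vc_word_cons, td4vc_word_nil, mul_one] at h
  have a0 : (((-1) : ℤ) : F) * (-t) ^ 1 * u ^ 1 = t * u := by
    push_cast
    ring
  rw [a0] at h
  rw [h]

theorem td4vc_terms_13_2 : chevD4.commTerms 13 2 = [(4, -1, 1, 1)] := by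
  decide

theorem td4vc_c_13_2 (t u : F) :
    X 2 u * X 13 t = X 13 t * X 2 u * X 4 (t * u) := by
  have h := td4vc_comm (F := F) 13 2 (by decide) (by decide) (by decide) (by decide) t u
  unfold ChevalleyDatum.commWord at h
  rw [td4vc_terms_13_2] at h
  simp only [List.map_cons, List.map_nil, td4vc_word_cons, td4vc_word_nil, mul_one] at h
  have a0 : (((-1) : ℤ) : F) * (-t) ^ 1 * u ^ 1 = t * u := by
    push_cast
    ring
  rw [a0] at h
  rw [h]

theorem td4vc_terms_13_3 : chevD4.commTerms 13 3 = [] := by
  decide

theorem td4vc_c_13_3 (t u : F) : X 3 u * X 13 t = X 13 t * X 3 u := by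
  have h := td4vc_comm (F := F) 13 3 (by decide) (by decide) (by decide) (by decide) t u
  unfold ChevalleyDatum.commWord at h
  rw [td4vc_terms_13_3] at h
  simp only [List.map_nil, td4vc_word_nil, mul_one] at h
  exact h

theorem td4vc_terms_13_4 : chevD4.commTerms 13 4 = [] := by
  decide

theorem td4vc_c_13_4 (t u : F) : X 4 u * X 13 t = X 13 t * X 4 u := by
  have h := td4vc_comm (F := F) 13 4 (by decide) (by decide) (by decide) (by decide) t u
  unfold ChevalleyDatum.commWord at h
  rw [td4vc_terms_13_4] at h
  simp only [List.map_nil, td4vc_word_nil, mul_one] at h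
  exact h

theorem td4vc_terms_13_5 : chevD4.commTerms 13 5 = [] := by
  decide

theorem td4vc_c_13_5 (t u : F) : X 5 u * X 13 t = X 13 t * X 5 u := by
  have h := td4vc_comm (F := F) 13 5 (by decide) (by decide) (by decide) (by decide) t u
  unfold ChevalleyDatum.commWord at h
  rw [td4vc_terms_13_5] at h
  simp only [List.map_nil, td4vc_word_nil, mul_one] at h
  exact h

theorem td4vc_terms_13_6 : chevD4.commTerms 13 6 = [(8, -1, 1, 1)] := by
  decide

theorem td4vc_c_13_6 (t u : F) :
    X 6 u * X 13 t = X 13 t * X 6 u * X 8 (t * u) := by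
  have h := td4vc_comm (F := F) 13 6 (by decide) (by decide) (by decide) (by decide) t u
  unfold ChevalleyDatum.commWord at h
  rw [td4vc_terms_13_6] at h
  simp only [List.map_cons, List.map_nil, td4vc_word_cons, td4vc_word_nil, mul_one] at h
  have a0 : (((-1) : ℤ) : F) * (-t) ^ 1 * u ^ 1 = t * u := by
    push_cast
    ring
  rw [a0] at h
  rw [h]

theorem td4vc_terms_13_7 : chevD4.commTerms 13 7 = [(9, -1, 1, 1)] := by
  decide

theorem td4vc_c_13_7 (t u : F) :
    X 7 u * X 13 t = X 13 t * X 7 u * X 9 (t * u) := by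
  have h := td4vc_comm (F := F) 13 7 (by decide) (by decide) (by decide) (by decide) t u
  unfold ChevalleyDatum.commWord at h
  rw [td4vc_terms_13_7] at h
  simp only [List.map_cons, List.map_nil, td4vc_word_cons, td4vc_word_nil, mul_one] at h
  have a0 : (((-1) : ℤ) : F) * (-t) ^ 1 * u ^ 1 = t * u := by
    push_cast
    ring
  rw [a0] at h
  rw [h]

theorem td4vc_terms_13_8 : chevD4.commTerms 13 8 = [] := by
  decide

theorem td4vc_c_13_8 (t u : F) : X 8 u * X 13 t = X 13 t * X 8 u := by
  have h := td4vc_comm (F := F) 13 8 (by decide) (by decide) (by decide) (by decide) t u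
  unfold ChevalleyDatum.commWord at h
  rw [td4vc_terms_13_8] at h
  simp only [List.map_nil, td4vc_word_nil, mul_one] at h
  exact h

theorem td4vc_terms_13_9 : chevD4.commTerms 13 9 = [] := by
  decide

theorem td4vc_c_13_9 (t u : F) : X 9 u * X 13 t = X 13 t * X 9 u := by
  have h := td4vc_comm (F := F) 13 9 (by decide) (by decide) (by decide) (by decide) t u
  unfold ChevalleyDatum.commWord at h
  rw [td4vc_terms_13_9] at h
  simp only [List.map_nil, td4vc_word_nil, mul_one] at h
  exact h

theorem td4vc_terms_13_11 : chevD4.commTerms 13 11 = [] := by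
  decide

theorem td4vc_c_13_11 (t u : F) : X 11 u * X 13 t = X 13 t * X 11 u := by
  have h := td4vc_comm (F := F) 13 11 (by decide) (by decide) (by decide) (by decide) t u
  unfold ChevalleyDatum.commWord at h
  rw [td4vc_terms_13_11] at h
  simp only [List.map_nil, td4vc_word_nil, mul_one] at h
  exact h

theorem td4vc_terms_13_12 : chevD4.commTerms 13 12 = [] := by
  decide

theorem td4vc_c_13_12 (t u : F) : X 12 u * X 13 t = X 13 t * X 12 u := by
  have h := td4vc_comm (F := F) 13 12 (by decide) (by decide) (by decide) (by decide) t u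
  unfold ChevalleyDatum.commWord at h
  rw [td4vc_terms_13_12] at h
  simp only [List.map_nil, td4vc_word_nil, mul_one] at h
  exact h

theorem td4vc_terms_13_14 : chevD4.commTerms 13 14 = [(16, 1, 1, 1)] := by
  decide

theorem td4vc_c_13_14 (t u : F) :
    X 14 u * X 13 t = X 13 t * X 14 u * X 16 (-(t * u)) := by
  have h := td4vc_comm (F := F) 13 14 (by decide) (by decide) (by decide) (by decide) t u
  unfold ChevalleyDatum.commWord at h
  rw [td4vc_terms_13_14] at h
  simp only [List.map_cons, List.map_nil, td4vc_word_cons, td4vc_word_nil, mul_one] at h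
  have a0 : ((1 : ℤ) : F) * (-t) ^ 1 * u ^ 1 = -(t * u) := by
    push_cast
    ring
  rw [a0] at h
  rw [h]

theorem td4vc_terms_13_15 : chevD4.commTerms 13 15 = [(17, 1, 1, 1)] := by
  decide

theorem td4vc_c_13_15 (t u : F) :
    X 15 u * X 13 t = X 13 t * X 15 u * X 17 (-(t * u)) := by
  have h := td4vc_comm (F := F) 13 15 (by decide) (by decide) (by decide) (by decide) t u
  unfold ChevalleyDatum.commWord at h
  rw [td4vc_terms_13_15] at h
  simp only [List.map_cons, List.map_nil, td4vc_word_cons, td4vc_word_nil, mul_one] at h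
  have a0 : ((1 : ℤ) : F) * (-t) ^ 1 * u ^ 1 = -(t * u) := by
    push_cast
    ring
  rw [a0] at h
  rw [h]

theorem td4vc_terms_13_16 : chevD4.commTerms 13 16 = [] := by
  decide

theorem td4vc_c_13_16 (t u : F) : X 16 u * X 13 t = X 13 t * X 16 u := by
  have h := td4vc_comm (F := F) 13 16 (by decide) (by decide) (by decide) (by decide) t u
  unfold ChevalleyDatum.commWord at h
  rw [td4vc_terms_13_16] at h
  simp only [List.map_nil, td4vc_word_nil, mul_one] at h
  exact h

theorem td4vc_terms_13_17 : chevD4.commTerms 13 17 = [] := by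
  decide

theorem td4vc_c_13_17 (t u : F) : X 17 u * X 13 t = X 13 t * X 17 u := by
  have h := td4vc_comm (F := F) 13 17 (by decide) (by decide) (by decide) (by decide) t u
  unfold ChevalleyDatum.commWord at h
  rw [td4vc_terms_13_17] at h
  simp only [List.map_nil, td4vc_word_nil, mul_one] at h
  exact h

theorem td4vc_terms_13_18 : chevD4.commTerms 13 18 = [] := by
  decide

theorem td4vc_c_13_18 (t u : F) : X 18 u * X 13 t = X 13 t * X 18 u := by
  have h := td4vc_comm (F := F) 13 18 (by decide) (by decide) (by decide) (by decide) t u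
  unfold ChevalleyDatum.commWord at h
  rw [td4vc_terms_13_18] at h
  simp only [List.map_nil, td4vc_word_nil, mul_one] at h
  exact h

theorem td4vc_terms_13_19 : chevD4.commTerms 13 19 = [(21, 1, 1, 1)] := by
  decide

theorem td4vc_c_13_19 (t u : F) :
    X 19 u * X 13 t = X 13 t * X 19 u * X 21 (-(t * u)) := by
  have h := td4vc_comm (F := F) 13 19 (by decide) (by decide) (by decide) (by decide) t u
  unfold ChevalleyDatum.commWord at h
  rw [td4vc_terms_13_19] at h
  simp only [List.map_cons, List.map_nil, td4vc_word_cons, td4vc_word_nil, mul_one] at h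
  have a0 : ((1 : ℤ) : F) * (-t) ^ 1 * u ^ 1 = -(t * u) := by
    push_cast
    ring
  rw [a0] at h
  rw [h]

theorem td4vc_terms_13_20 : chevD4.commTerms 13 20 = [(22, 1, 1, 1)] := by
  decide

theorem td4vc_c_13_20 (t u : F) :
    X 20 u * X 13 t = X 13 t * X 20 u * X 22 (-(t * u)) := by
  have h := td4vc_comm (F := F) 13 20 (by decide) (by decide) (by decide) (by decide) t u
  unfold ChevalleyDatum.commWord at h
  rw [td4vc_terms_13_20] at h
  simp only [List.map_cons, List.map_nil, td4vc_word_cons, td4vc_word_nil, mul_one] at h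
  have a0 : ((1 : ℤ) : F) * (-t) ^ 1 * u ^ 1 = -(t * u) := by
    push_cast
    ring
  rw [a0] at h
  rw [h]

theorem td4vc_terms_13_21 : chevD4.commTerms 13 21 = [] := by
  decide

theorem td4vc_c_13_21 (t u : F) : X 21 u * X 13 t = X 13 t * X 21 u := by
  have h := td4vc_comm (F := F) 13 21 (by decide) (by decide) (by decide) (by decide) t u
  unfold ChevalleyDatum.commWord at h
  rw [td4vc_terms_13_21] at h
  simp only [List.map_nil, td4vc_word_nil, mul_one] at h
  exact h

theorem td4vc_terms_13_22 : chevD4.commTerms 13 22 = [] := by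
  decide

theorem td4vc_c_13_22 (t u : F) : X 22 u * X 13 t = X 13 t * X 22 u := by
  have h := td4vc_comm (F := F) 13 22 (by decide) (by decide) (by decide) (by decide) t u
  unfold ChevalleyDatum.commWord at h
  rw [td4vc_terms_13_22] at h
  simp only [List.map_nil, td4vc_word_nil, mul_one] at h
  exact h

theorem td4vc_terms_13_23 : chevD4.commTerms 13 23 = [] := by
  decide

theorem td4vc_c_13_23 (t u : F) : X 23 u * X 13 t = X 13 t * X 23 u := by
  have h := td4vc_comm (F := F) 13 23 (by decide) (by decide) (by decide) (by decide) t u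
  unfold ChevalleyDatum.commWord at h
  rw [td4vc_terms_13_23] at h
  simp only [List.map_nil, td4vc_word_nil, mul_one] at h
  exact h

theorem td4vc_terms_14_0 : chevD4.commTerms 14 0 = [(1, -1, 1, 1)] := by
  decide

theorem td4vc_c_14_0 (t u : F) :
    X 0 u * X 14 t = X 14 t * X 0 u * X 1 (t * u) := by
  have h := td4vc_comm (F := F) 14 0 (by decide) (by decide) (by decide) (by decide) t u
  unfold ChevalleyDatum.commWord at h
  rw [td4vc_terms_14_0] at h
  simp only [List.map_cons, List.map_nil, td4vc_word_cons, td4vc_word_nil, mul_one] at h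
  have a0 : (((-1) : ℤ) : F) * (-t) ^ 1 * u ^ 1 = t * u := by
    push_cast
    ring
  rw [a0] at h
  rw [h]

theorem td4vc_terms_14_1 : chevD4.commTerms 14 1 = [] := by
  decide

theorem td4vc_c_14_1 (t u : F) : X 1 u * X 14 t = X 14 t * X 1 u := by
  have h := td4vc_comm (F := F) 14 1 (by decide) (by decide) (by decide) (by decide) t u
  unfold ChevalleyDatum.commWord at h
  rw [td4vc_terms_14_1] at h
  simp only [List.map_nil, td4vc_word_nil, mul_one] at h
  exact h

theorem td4vc_terms_14_2 : chevD4.commTerms 14 2 = [] := by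
  decide

theorem td4vc_c_14_2 (t u : F) : X 2 u * X 14 t = X 14 t * X 2 u := by
  have h := td4vc_comm (F := F) 14 2 (by decide) (by decide) (by decide) (by decide) t u
  unfold ChevalleyDatum.commWord at h
  rw [td4vc_terms_14_2] at h
  simp only [List.map_nil, td4vc_word_nil, mul_one] at h
  exact h

theorem td4vc_terms_14_3 : chevD4.commTerms 14 3 = [] := by
  decide

theorem td4vc_c_14_3 (t u : F) : X 3 u * X 14 t = X 14 t * X 3 u := by
  have h := td4vc_comm (F := F) 14 3 (by decide) (by decide) (by decide) (by decide) t u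
  unfold ChevalleyDatum.commWord at h
  rw [td4vc_terms_14_3] at h
  simp only [List.map_nil, td4vc_word_nil, mul_one] at h
  exact h

theorem td4vc_terms_14_4 : chevD4.commTerms 14 4 = [(5, -1, 1, 1)] := by
  decide

theorem td4vc_c_14_4 (t u : F) :
    X 4 u * X 14 t = X 14 t * X 4 u * X 5 (t * u) := by
  have h := td4vc_comm (F := F) 14 4 (by decide) (by decide) (by decide) (by decide) t u
  unfold ChevalleyDatum.commWord at h
  rw [td4vc_terms_14_4] at h
  simp only [List.map_cons, List.map_nil, td4vc_word_cons, td4vc_word_nil, mul_one] at h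
  have a0 : (((-1) : ℤ) : F) * (-t) ^ 1 * u ^ 1 = t * u := by
    push_cast
    ring
  rw [a0] at h
  rw [h]

theorem td4vc_terms_14_5 : chevD4.commTerms 14 5 = [] := by
  decide

theorem td4vc_c_14_5 (t u : F) : X 5 u * X 14 t = X 14 t * X 5 u := by
  have h := td4vc_comm (F := F) 14 5 (by decide) (by decide) (by decide) (by decide) t u
  unfold ChevalleyDatum.commWord at h
  rw [td4vc_terms_14_5] at h
  simp only [List.map_nil, td4vc_word_nil, mul_one] at h
  exact h

theorem td4vc_terms_14_6 : chevD4.commTerms 14 6 = [] := by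
  decide

theorem td4vc_c_14_6 (t u : F) : X 6 u * X 14 t = X 14 t * X 6 u := by
  have h := td4vc_comm (F := F) 14 6 (by decide) (by decide) (by decide) (by decide) t u
  unfold ChevalleyDatum.commWord at h
  rw [td4vc_terms_14_6] at h
  simp only [List.map_nil, td4vc_word_nil, mul_one] at h
  exact h

theorem td4vc_terms_14_7 : chevD4.commTerms 14 7 = [(10, 1, 1, 1)] := by
  decide

theorem td4vc_c_14_7 (t u : F) :
    X 7 u * X 14 t = X 14 t * X 7 u * X 10 (-(t * u)) := by
  have h := td4vc_comm (F := F) 14 7 (by decide) (by decide) (by decide) (by decide) t u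
  unfold ChevalleyDatum.commWord at h
  rw [td4vc_terms_14_7] at h
  simp only [List.map_cons, List.map_nil, td4vc_word_cons, td4vc_word_nil, mul_one] at h
  have a0 : ((1 : ℤ) : F) * (-t) ^ 1 * u ^ 1 = -(t * u) := by
    push_cast
    ring
  rw [a0] at h
  rw [h]

theorem td4vc_terms_14_8 : chevD4.commTerms 14 8 = [(11, 1, 1, 1)] := by
  decide

theorem td4vc_c_14_8 (t u : F) :
    X 8 u * X 14 t = X 14 t * X 8 u * X 11 (-(t * u)) := by
  have h := td4vc_comm (F := F) 14 8 (by decide) (by decide) (by decide) (by decide) t u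
  unfold ChevalleyDatum.commWord at h
  rw [td4vc_terms_14_8] at h
  simp only [List.map_cons, List.map_nil, td4vc_word_cons, td4vc_word_nil, mul_one] at h
  have a0 : ((1 : ℤ) : F) * (-t) ^ 1 * u ^ 1 = -(t * u) := by
    push_cast
    ring
  rw [a0] at h
  rw [h]

theorem td4vc_terms_14_10 : chevD4.commTerms 14 10 = [] := by
  decide

theorem td4vc_c_14_10 (t u : F) : X 10 u * X 14 t = X 14 t * X 10 u := by
  have h := td4vc_comm (F := F) 14 10 (by decide) (by decide) (by decide) (by decide) t u
  unfold ChevalleyDatum.commWord at h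
  rw [td4vc_terms_14_10] at h
  simp only [List.map_nil, td4vc_word_nil, mul_one] at h
  exact h

theorem td4vc_terms_14_11 : chevD4.commTerms 14 11 = [] := by
  decide

theorem td4vc_c_14_11 (t u : F) : X 11 u * X 14 t = X 14 t * X 11 u := by
  have h := td4vc_comm (F := F) 14 11 (by decide) (by decide) (by decide) (by decide) t u
  unfold ChevalleyDatum.commWord at h
  rw [td4vc_terms_14_11] at h
  simp only [List.map_nil, td4vc_word_nil, mul_one] at h
  exact h

theorem td4vc_terms_14_12 : chevD4.commTerms 14 12 = [(15, -1, 1, 1)] := by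
  decide

theorem td4vc_c_14_12 (t u : F) :
    X 12 u * X 14 t = X 14 t * X 12 u * X 15 (t * u) := by
  have h := td4vc_comm (F := F) 14 12 (by decide) (by decide) (by decide) (by decide) t u
  unfold ChevalleyDatum.commWord at h
  rw [td4vc_terms_14_12] at h
  simp only [List.map_cons, List.map_nil, td4vc_word_cons, td4vc_word_nil, mul_one] at h
  have a0 : (((-1) : ℤ) : F) * (-t) ^ 1 * u ^ 1 = t * u := by
    push_cast
    ring
  rw [a0] at h
  rw [h]

theorem td4vc_terms_14_13 : chevD4.commTerms 14 13 = [(16, -1, 1, 1)] := by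
  decide

theorem td4vc_c_14_13 (t u : F) :
    X 13 u * X 14 t = X 14 t * X 13 u * X 16 (t * u) := by
  have h := td4vc_comm (F := F) 14 13 (by decide) (by decide) (by decide) (by decide) t u
  unfold ChevalleyDatum.commWord at h
  rw [td4vc_terms_14_13] at h
  simp only [List.map_cons, List.map_nil, td4vc_word_cons, td4vc_word_nil, mul_one] at h
  have a0 : (((-1) : ℤ) : F) * (-t) ^ 1 * u ^ 1 = t * u := by
    push_cast
    ring
  rw [a0] at h
  rw [h]

theorem td4vc_terms_14_15 : chevD4.commTerms 14 15 = [] := by
  decide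

theorem td4vc_c_14_15 (t u : F) : X 15 u * X 14 t = X 14 t * X 15 u := by
  have h := td4vc_comm (F := F) 14 15 (by decide) (by decide) (by decide) (by decide) t u
  unfold ChevalleyDatum.commWord at h
  rw [td4vc_terms_14_15] at h
  simp only [List.map_nil, td4vc_word_nil, mul_one] at h
  exact h

theorem td4vc_terms_14_16 : chevD4.commTerms 14 16 = [] := by
  decide

theorem td4vc_c_14_16 (t u : F) : X 16 u * X 14 t = X 14 t * X 16 u := by
  have h := td4vc_comm (F := F) 14 16 (by decide) (by decide) (by decide) (by decide) t u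
  unfold ChevalleyDatum.commWord at h
  rw [td4vc_terms_14_16] at h
  simp only [List.map_nil, td4vc_word_nil, mul_one] at h
  exact h

theorem td4vc_terms_14_17 : chevD4.commTerms 14 17 = [] := by
  decide

theorem td4vc_c_14_17 (t u : F) : X 17 u * X 14 t = X 14 t * X 17 u := by
  have h := td4vc_comm (F := F) 14 17 (by decide) (by decide) (by decide) (by decide) t u
  unfold ChevalleyDatum.commWord at h
  rw [td4vc_terms_14_17] at h
  simp only [List.map_nil, td4vc_word_nil, mul_one] at h
  exact h

theorem td4vc_terms_14_18 : chevD4.commTerms 14 18 = [(19, 1, 1, 1)] := by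
  decide

theorem td4vc_c_14_18 (t u : F) :
    X 18 u * X 14 t = X 14 t * X 18 u * X 19 (-(t * u)) := by
  have h := td4vc_comm (F := F) 14 18 (by decide) (by decide) (by decide) (by decide) t u
  unfold ChevalleyDatum.commWord at h
  rw [td4vc_terms_14_18] at h
  simp only [List.map_cons, List.map_nil, td4vc_word_cons, td4vc_word_nil, mul_one] at h
  have a0 : ((1 : ℤ) : F) * (-t) ^ 1 * u ^ 1 = -(t * u) := by
    push_cast
    ring
  rw [a0] at h
  rw [h]

theorem td4vc_terms_14_19 : chevD4.commTerms 14 19 = [] := by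
  decide

theorem td4vc_c_14_19 (t u : F) : X 19 u * X 14 t = X 14 t * X 19 u := by
  have h := td4vc_comm (F := F) 14 19 (by decide) (by decide) (by decide) (by decide) t u
  unfold ChevalleyDatum.commWord at h
  rw [td4vc_terms_14_19] at h
  simp only [List.map_nil, td4vc_word_nil, mul_one] at h
  exact h

theorem td4vc_terms_14_20 : chevD4.commTerms 14 20 = [] := by
  decide

theorem td4vc_c_14_20 (t u : F) : X 20 u * X 14 t = X 14 t * X 20 u := by
  have h := td4vc_comm (F := F) 14 20 (by decide) (by decide) (by decide) (by decide) t u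
  unfold ChevalleyDatum.commWord at h
  rw [td4vc_terms_14_20] at h
  simp only [List.map_nil, td4vc_word_nil, mul_one] at h
  exact h

theorem td4vc_terms_14_21 : chevD4.commTerms 14 21 = [] := by
  decide

theorem td4vc_c_14_21 (t u : F) : X 21 u * X 14 t = X 14 t * X 21 u := by
  have h := td4vc_comm (F := F) 14 21 (by decide) (by decide) (by decide) (by decide) t u
  unfold ChevalleyDatum.commWord at h
  rw [td4vc_terms_14_21] at h
  simp only [List.map_nil, td4vc_word_nil, mul_one] at h
  exact h

theorem td4vc_terms_14_22 : chevD4.commTerms 14 22 = [(23, 1, 1, 1)] := by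
  decide

theorem td4vc_c_14_22 (t u : F) :
    X 22 u * X 14 t = X 14 t * X 22 u * X 23 (-(t * u)) := by
  have h := td4vc_comm (F := F) 14 22 (by decide) (by decide) (by decide) (by decide) t u
  unfold ChevalleyDatum.commWord at h
  rw [td4vc_terms_14_22] at h
  simp only [List.map_cons, List.map_nil, td4vc_word_cons, td4vc_word_nil, mul_one] at h
  have a0 : ((1 : ℤ) : F) * (-t) ^ 1 * u ^ 1 = -(t * u) := by
    push_cast
    ring
  rw [a0] at h
  rw [h]

theorem td4vc_terms_14_23 : chevD4.commTerms 14 23 = [] := by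
  decide

theorem td4vc_c_14_23 (t u : F) : X 23 u * X 14 t = X 14 t * X 23 u := by
  have h := td4vc_comm (F := F) 14 23 (by decide) (by decide) (by decide) (by decide) t u
  unfold ChevalleyDatum.commWord at h
  rw [td4vc_terms_14_23] at h
  simp only [List.map_nil, td4vc_word_nil, mul_one] at h
  exact h

theorem td4vc_terms_15_0 : chevD4.commTerms 15 0 = [(2, 1, 1, 1)] := by
  decide

theorem td4vc_c_15_0 (t u : F) :
    X 0 u * X 15 t = X 15 t * X 0 u * X 2 (-(t * u)) := by
  have h := td4vc_comm (F := F) 15 0 (by decide) (by decide) (by decide) (by decide) t u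
  unfold ChevalleyDatum.commWord at h
  rw [td4vc_terms_15_0] at h
  simp only [List.map_cons, List.map_nil, td4vc_word_cons, td4vc_word_nil, mul_one] at h
  have a0 : ((1 : ℤ) : F) * (-t) ^ 1 * u ^ 1 = -(t * u) := by
    push_cast
    ring
  rw [a0] at h
  rw [h]

theorem td4vc_terms_15_1 : chevD4.commTerms 15 1 = [] := by
  decide

theorem td4vc_c_15_1 (t u : F) : X 1 u * X 15 t = X 15 t * X 1 u := by
  have h := td4vc_comm (F := F) 15 1 (by decide) (by decide) (by decide) (by decide) t u
  unfold ChevalleyDatum.commWord at h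
  rw [td4vc_terms_15_1] at h
  simp only [List.map_nil, td4vc_word_nil, mul_one] at h
  exact h

theorem td4vc_terms_15_2 : chevD4.commTerms 15 2 = [] := by
  decide

theorem td4vc_c_15_2 (t u : F) : X 2 u * X 15 t = X 15 t * X 2 u := by
  have h := td4vc_comm (F := F) 15 2 (by decide) (by decide) (by decide) (by decide) t u
  unfold ChevalleyDatum.commWord at h
  rw [td4vc_terms_15_2] at h
  simp only [List.map_nil, td4vc_word_nil, mul_one] at h
  exact h

theorem td4vc_terms_15_3 : chevD4.commTerms 15 3 = [(5, -1, 1, 1)] := by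
  decide

theorem td4vc_c_15_3 (t u : F) :
    X 3 u * X 15 t = X 15 t * X 3 u * X 5 (t * u) := by
  have h := td4vc_comm (F := F) 15 3 (by decide) (by decide) (by decide) (by decide) t u
  unfold ChevalleyDatum.commWord at h
  rw [td4vc_terms_15_3] at h
  simp only [List.map_cons, List.map_nil, td4vc_word_cons, td4vc_word_nil, mul_one] at h
  have a0 : (((-1) : ℤ) : F) * (-t) ^ 1 * u ^ 1 = t * u := by
    push_cast
    ring
  rw [a0] at h
  rw [h]

theorem td4vc_terms_15_4 : chevD4.commTerms 15 4 = [] := by
  decide

theorem td4vc_c_15_4 (t u : F) : X 4 u * X 15 t = X 15 t * X 4 u := by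
  have h := td4vc_comm (F := F) 15 4 (by decide) (by decide) (by decide) (by decide) t u
  unfold ChevalleyDatum.commWord at h
  rw [td4vc_terms_15_4] at h
  simp only [List.map_nil, td4vc_word_nil, mul_one] at h
  exact h

theorem td4vc_terms_15_5 : chevD4.commTerms 15 5 = [] := by
  decide

theorem td4vc_c_15_5 (t u : F) : X 5 u * X 15 t = X 15 t * X 5 u := by
  have h := td4vc_comm (F := F) 15 5 (by decide) (by decide) (by decide) (by decide) t u
  unfold ChevalleyDatum.commWord at h
  rw [td4vc_terms_15_5] at h
  simp only [List.map_nil, td4vc_word_nil, mul_one] at h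
  exact h

theorem td4vc_terms_15_6 : chevD4.commTerms 15 6 = [(10, 1, 1, 1)] := by
  decide

theorem td4vc_c_15_6 (t u : F) :
    X 6 u * X 15 t = X 15 t * X 6 u * X 10 (-(t * u)) := by
  have h := td4vc_comm (F := F) 15 6 (by decide) (by decide) (by decide) (by decide) t u
  unfold ChevalleyDatum.commWord at h
  rw [td4vc_terms_15_6] at h
  simp only [List.map_cons, List.map_nil, td4vc_word_cons, td4vc_word_nil, mul_one] at h
  have a0 : ((1 : ℤ) : F) * (-t) ^ 1 * u ^ 1 = -(t * u) := by
    push_cast
    ring
  rw [a0] at h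
  rw [h]

theorem td4vc_terms_15_7 : chevD4.commTerms 15 7 = [] := by
  decide

theorem td4vc_c_15_7 (t u : F) : X 7 u * X 15 t = X 15 t * X 7 u := by
  have h := td4vc_comm (F := F) 15 7 (by decide) (by decide) (by decide) (by decide) t u
  unfold ChevalleyDatum.commWord at h
  rw [td4vc_terms_15_7] at h
  simp only [List.map_nil, td4vc_word_nil, mul_one] at h
  exact h

theorem td4vc_terms_15_9 : chevD4.commTerms 15 9 = [(12, 1, 1, 1)] := by
  decide

theorem td4vc_c_15_9 (t u : F) :
    X 9 u * X 15 t = X 15 t * X 9 u * X 12 (-(t * u)) := by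
  have h := td4vc_comm (F := F) 15 9 (by decide) (by decide) (by decide) (by decide) t u
  unfold ChevalleyDatum.commWord at h
  rw [td4vc_terms_15_9] at h
  simp only [List.map_cons, List.map_nil, td4vc_word_cons, td4vc_word_nil, mul_one] at h
  have a0 : ((1 : ℤ) : F) * (-t) ^ 1 * u ^ 1 = -(t * u) := by
    push_cast
    ring
  rw [a0] at h
  rw [h]

theorem td4vc_terms_15_10 : chevD4.commTerms 15 10 = [] := by
  decide

theorem td4vc_c_15_10 (t u : F) : X 10 u * X 15 t = X 15 t * X 10 u := by
  have h := td4vc_comm (F := F) 15 10 (by decide) (by decide) (by decide) (by decide) t u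
  unfold ChevalleyDatum.commWord at h
  rw [td4vc_terms_15_10] at h
  simp only [List.map_nil, td4vc_word_nil, mul_one] at h
  exact h

theorem td4vc_terms_15_11 : chevD4.commTerms 15 11 = [(14, -1, 1, 1)] := by
  decide

theorem td4vc_c_15_11 (t u : F) :
    X 11 u * X 15 t = X 15 t * X 11 u * X 14 (t * u) := by
  have h := td4vc_comm (F := F) 15 11 (by decide) (by decide) (by decide) (by decide) t u
  unfold ChevalleyDatum.commWord at h
  rw [td4vc_terms_15_11] at h
  simp only [List.map_cons, List.map_nil, td4vc_word_cons, td4vc_word_nil, mul_one] at h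
  have a0 : (((-1) : ℤ) : F) * (-t) ^ 1 * u ^ 1 = t * u := by
    push_cast
    ring
  rw [a0] at h
  rw [h]

theorem td4vc_terms_15_12 : chevD4.commTerms 15 12 = [] := by
  decide

theorem td4vc_c_15_12 (t u : F) : X 12 u * X 15 t = X 15 t * X 12 u := by
  have h := td4vc_comm (F := F) 15 12 (by decide) (by decide) (by decide) (by decide) t u
  unfold ChevalleyDatum.commWord at h
  rw [td4vc_terms_15_12] at h
  simp only [List.map_nil, td4vc_word_nil, mul_one] at h
  exact h

theorem td4vc_terms_15_13 : chevD4.commTerms 15 13 = [(17, -1, 1, 1)] := by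
  decide

theorem td4vc_c_15_13 (t u : F) :
    X 13 u * X 15 t = X 15 t * X 13 u * X 17 (t * u) := by
  have h := td4vc_comm (F := F) 15 13 (by decide) (by decide) (by decide) (by decide) t u
  unfold ChevalleyDatum.commWord at h
  rw [td4vc_terms_15_13] at h
  simp only [List.map_cons, List.map_nil, td4vc_word_cons, td4vc_word_nil, mul_one] at h
  have a0 : (((-1) : ℤ) : F) * (-t) ^ 1 * u ^ 1 = t * u := by
    push_cast
    ring
  rw [a0] at h
  rw [h]

theorem td4vc_terms_15_14 : chevD4.commTerms 15 14 = [] := by
  decide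

theorem td4vc_c_15_14 (t u : F) : X 14 u * X 15 t = X 15 t * X 14 u := by
  have h := td4vc_comm (F := F) 15 14 (by decide) (by decide) (by decide) (by decide) t u
  unfold ChevalleyDatum.commWord at h
  rw [td4vc_terms_15_14] at h
  simp only [List.map_nil, td4vc_word_nil, mul_one] at h
  exact h

theorem td4vc_terms_15_16 : chevD4.commTerms 15 16 = [] := by
  decide

theorem td4vc_c_15_16 (t u : F) : X 16 u * X 15 t = X 15 t * X 16 u := by
  have h := td4vc_comm (F := F) 15 16 (by decide) (by decide) (by decide) (by decide) t u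
  unfold ChevalleyDatum.commWord at h
  rw [td4vc_terms_15_16] at h
  simp only [List.map_nil, td4vc_word_nil, mul_one] at h
  exact h

theorem td4vc_terms_15_17 : chevD4.commTerms 15 17 = [] := by
  decide

theorem td4vc_c_15_17 (t u : F) : X 17 u * X 15 t = X 15 t * X 17 u := by
  have h := td4vc_comm (F := F) 15 17 (by decide) (by decide) (by decide) (by decide) t u
  unfold ChevalleyDatum.commWord at h
  rw [td4vc_terms_15_17] at h
  simp only [List.map_nil, td4vc_word_nil, mul_one] at h
  exact h

theorem td4vc_terms_15_18 : chevD4.commTerms 15 18 = [(20, 1, 1, 1)] := by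
  decide

theorem td4vc_c_15_18 (t u : F) :
    X 18 u * X 15 t = X 15 t * X 18 u * X 20 (-(t * u)) := by
  have h := td4vc_comm (F := F) 15 18 (by decide) (by decide) (by decide) (by decide) t u
  unfold ChevalleyDatum.commWord at h
  rw [td4vc_terms_15_18] at h
  simp only [List.map_cons, List.map_nil, td4vc_word_cons, td4vc_word_nil, mul_one] at h
  have a0 : ((1 : ℤ) : F) * (-t) ^ 1 * u ^ 1 = -(t * u) := by
    push_cast
    ring
  rw [a0] at h
  rw [h]

theorem td4vc_terms_15_19 : chevD4.commTerms 15 19 = [] := by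
  decide

theorem td4vc_c_15_19 (t u : F) : X 19 u * X 15 t = X 15 t * X 19 u := by
  have h := td4vc_comm (F := F) 15 19 (by decide) (by decide) (by decide) (by decide) t u
  unfold ChevalleyDatum.commWord at h
  rw [td4vc_terms_15_19] at h
  simp only [List.map_nil, td4vc_word_nil, mul_one] at h
  exact h

theorem td4vc_terms_15_20 : chevD4.commTerms 15 20 = [] := by
  decide

theorem td4vc_c_15_20 (t u : F) : X 20 u * X 15 t = X 15 t * X 20 u := by
  have h := td4vc_comm (F := F) 15 20 (by decide) (by decide) (by decide) (by decide) t u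
  unfold ChevalleyDatum.commWord at h
  rw [td4vc_terms_15_20] at h
  simp only [List.map_nil, td4vc_word_nil, mul_one] at h
  exact h

theorem td4vc_terms_15_21 : chevD4.commTerms 15 21 = [(23, -1, 1, 1)] := by
  decide

theorem td4vc_c_15_21 (t u : F) :
    X 21 u * X 15 t = X 15 t * X 21 u * X 23 (t * u) := by
  have h := td4vc_comm (F := F) 15 21 (by decide) (by decide) (by decide) (by decide) t u
  unfold ChevalleyDatum.commWord at h
  rw [td4vc_terms_15_21] at h
  simp only [List.map_cons, List.map_nil, td4vc_word_cons, td4vc_word_nil, mul_one] at h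
  have a0 : (((-1) : ℤ) : F) * (-t) ^ 1 * u ^ 1 = t * u := by
    push_cast
    ring
  rw [a0] at h
  rw [h]

theorem td4vc_terms_15_22 : chevD4.commTerms 15 22 = [] := by
  decide

theorem td4vc_c_15_22 (t u : F) : X 22 u * X 15 t = X 15 t * X 22 u := by
  have h := td4vc_comm (F := F) 15 22 (by decide) (by decide) (by decide) (by decide) t u
  unfold ChevalleyDatum.commWord at h
  rw [td4vc_terms_15_22] at h
  simp only [List.map_nil, td4vc_word_nil, mul_one] at h
  exact h

theorem td4vc_terms_15_23 : chevD4.commTerms 15 23 = [] := by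
  decide

theorem td4vc_c_15_23 (t u : F) : X 23 u * X 15 t = X 15 t * X 23 u := by
  have h := td4vc_comm (F := F) 15 23 (by decide) (by decide) (by decide) (by decide) t u
  unfold ChevalleyDatum.commWord at h
  rw [td4vc_terms_15_23] at h
  simp only [List.map_nil, td4vc_word_nil, mul_one] at h
  exact h

theorem td4vc_terms_16_0 : chevD4.commTerms 16 0 = [(3, 1, 1, 1)] := by
  decide

theorem td4vc_c_16_0 (t u : F) :
    X 0 u * X 16 t = X 16 t * X 0 u * X 3 (-(t * u)) := by
  have h := td4vc_comm (F := F) 16 0 (by decide) (by decide) (by decide) (by decide) t u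
  unfold ChevalleyDatum.commWord at h
  rw [td4vc_terms_16_0] at h
  simp only [List.map_cons, List.map_nil, td4vc_word_cons, td4vc_word_nil, mul_one] at h
  have a0 : ((1 : ℤ) : F) * (-t) ^ 1 * u ^ 1 = -(t * u) := by
    push_cast
    ring
  rw [a0] at h
  rw [h]

theorem td4vc_terms_16_1 : chevD4.commTerms 16 1 = [] := by
  decide

theorem td4vc_c_16_1 (t u : F) : X 1 u * X 16 t = X 16 t * X 1 u := by
  have h := td4vc_comm (F := F) 16 1 (by decide) (by decide) (by decide) (by decide) t u
  unfold ChevalleyDatum.commWord at h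
  rw [td4vc_terms_16_1] at h
  simp only [List.map_nil, td4vc_word_nil, mul_one] at h
  exact h

theorem td4vc_terms_16_2 : chevD4.commTerms 16 2 = [(5, -1, 1, 1)] := by
  decide

theorem td4vc_c_16_2 (t u : F) :
    X 2 u * X 16 t = X 16 t * X 2 u * X 5 (t * u) := by
  have h := td4vc_comm (F := F) 16 2 (by decide) (by decide) (by decide) (by decide) t u
  unfold ChevalleyDatum.commWord at h
  rw [td4vc_terms_16_2] at h
  simp only [List.map_cons, List.map_nil, td4vc_word_cons, td4vc_word_nil, mul_one] at h
  have a0 : (((-1) : ℤ) : F) * (-t) ^ 1 * u ^ 1 = t * u := by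
    push_cast
    ring
  rw [a0] at h
  rw [h]

theorem td4vc_terms_16_3 : chevD4.commTerms 16 3 = [] := by
  decide

theorem td4vc_c_16_3 (t u : F) : X 3 u * X 16 t = X 16 t * X 3 u := by
  have h := td4vc_comm (F := F) 16 3 (by decide) (by decide) (by decide) (by decide) t u
  unfold ChevalleyDatum.commWord at h
  rw [td4vc_terms_16_3] at h
  simp only [List.map_nil, td4vc_word_nil, mul_one] at h
  exact h

theorem td4vc_terms_16_4 : chevD4.commTerms 16 4 = [] := by
  decide

theorem td4vc_c_16_4 (t u : F) : X 4 u * X 16 t = X 16 t * X 4 u := by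
  have h := td4vc_comm (F := F) 16 4 (by decide) (by decide) (by decide) (by decide) t u
  unfold ChevalleyDatum.commWord at h
  rw [td4vc_terms_16_4] at h
  simp only [List.map_nil, td4vc_word_nil, mul_one] at h
  exact h

theorem td4vc_terms_16_5 : chevD4.commTerms 16 5 = [] := by
  decide

theorem td4vc_c_16_5 (t u : F) : X 5 u * X 16 t = X 16 t * X 5 u := by
  have h := td4vc_comm (F := F) 16 5 (by decide) (by decide) (by decide) (by decide) t u
  unfold ChevalleyDatum.commWord at h
  rw [td4vc_terms_16_5] at h
  simp only [List.map_nil, td4vc_word_nil, mul_one] at h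
  exact h

theorem td4vc_terms_16_6 : chevD4.commTerms 16 6 = [(11, 1, 1, 1)] := by
  decide

theorem td4vc_c_16_6 (t u : F) :
    X 6 u * X 16 t = X 16 t * X 6 u * X 11 (-(t * u)) := by
  have h := td4vc_comm (F := F) 16 6 (by decide) (by decide) (by decide) (by decide) t u
  unfold ChevalleyDatum.commWord at h
  rw [td4vc_terms_16_6] at h
  simp only [List.map_cons, List.map_nil, td4vc_word_cons, td4vc_word_nil, mul_one] at h
  have a0 : ((1 : ℤ) : F) * (-t) ^ 1 * u ^ 1 = -(t * u) := by
    push_cast
    ring
  rw [a0] at h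
  rw [h]

theorem td4vc_terms_16_8 : chevD4.commTerms 16 8 = [] := by
  decide

theorem td4vc_c_16_8 (t u : F) : X 8 u * X 16 t = X 16 t * X 8 u := by
  have h := td4vc_comm (F := F) 16 8 (by decide) (by decide) (by decide) (by decide) t u
  unfold ChevalleyDatum.commWord at h
  rw [td4vc_terms_16_8] at h
  simp only [List.map_nil, td4vc_word_nil, mul_one] at h
  exact h

theorem td4vc_terms_16_9 : chevD4.commTerms 16 9 = [(13, 1, 1, 1)] := by
  decide

theorem td4vc_c_16_9 (t u : F) :
    X 9 u * X 16 t = X 16 t * X 9 u * X 13 (-(t * u)) := by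
  have h := td4vc_comm (F := F) 16 9 (by decide) (by decide) (by decide) (by decide) t u
  unfold ChevalleyDatum.commWord at h
  rw [td4vc_terms_16_9] at h
  simp only [List.map_cons, List.map_nil, td4vc_word_cons, td4vc_word_nil, mul_one] at h
  have a0 : ((1 : ℤ) : F) * (-t) ^ 1 * u ^ 1 = -(t * u) := by
    push_cast
    ring
  rw [a0] at h
  rw [h]

theorem td4vc_terms_16_10 : chevD4.commTerms 16 10 = [(14, -1, 1, 1)] := by
  decide

theorem td4vc_c_16_10 (t u : F) :
    X 10 u * X 16 t = X 16 t * X 10 u * X 14 (t * u) := by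
  have h := td4vc_comm (F := F) 16 10 (by decide) (by decide) (by decide) (by decide) t u
  unfold ChevalleyDatum.commWord at h
  rw [td4vc_terms_16_10] at h
  simp only [List.map_cons, List.map_nil, td4vc_word_cons, td4vc_word_nil, mul_one] at h
  have a0 : (((-1) : ℤ) : F) * (-t) ^ 1 * u ^ 1 = t * u := by
    push_cast
    ring
  rw [a0] at h
  rw [h]

theorem td4vc_terms_16_11 : chevD4.commTerms 16 11 = [] := by
  decide

theorem td4vc_c_16_11 (t u : F) : X 11 u * X 16 t = X 16 t * X 11 u := by
  have h := td4vc_comm (F := F) 16 11 (by decide) (by decide) (by decide) (by decide) t u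
  unfold ChevalleyDatum.commWord at h
  rw [td4vc_terms_16_11] at h
  simp only [List.map_nil, td4vc_word_nil, mul_one] at h
  exact h

theorem td4vc_terms_16_12 : chevD4.commTerms 16 12 = [(17, -1, 1, 1)] := by
  decide

theorem td4vc_c_16_12 (t u : F) :
    X 12 u * X 16 t = X 16 t * X 12 u * X 17 (t * u) := by
  have h := td4vc_comm (F := F) 16 12 (by decide) (by decide) (by decide) (by decide) t u
  unfold ChevalleyDatum.commWord at h
  rw [td4vc_terms_16_12] at h
  simp only [List.map_cons, List.map_nil, td4vc_word_cons, td4vc_word_nil, mul_one] at h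
  have a0 : (((-1) : ℤ) : F) * (-t) ^ 1 * u ^ 1 = t * u := by
    push_cast
    ring
  rw [a0] at h
  rw [h]

theorem td4vc_terms_16_13 : chevD4.commTerms 16 13 = [] := by
  decide

theorem td4vc_c_16_13 (t u : F) : X 13 u * X 16 t = X 16 t * X 13 u := by
  have h := td4vc_comm (F := F) 16 13 (by decide) (by decide) (by decide) (by decide) t u
  unfold ChevalleyDatum.commWord at h
  rw [td4vc_terms_16_13] at h
  simp only [List.map_nil, td4vc_word_nil, mul_one] at h
  exact h

theorem td4vc_terms_16_14 : chevD4.commTerms 16 14 = [] := by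
  decide

theorem td4vc_c_16_14 (t u : F) : X 14 u * X 16 t = X 16 t * X 14 u := by
  have h := td4vc_comm (F := F) 16 14 (by decide) (by decide) (by decide) (by decide) t u
  unfold ChevalleyDatum.commWord at h
  rw [td4vc_terms_16_14] at h
  simp only [List.map_nil, td4vc_word_nil, mul_one] at h
  exact h

theorem td4vc_terms_16_15 : chevD4.commTerms 16 15 = [] := by
  decide

theorem td4vc_c_16_15 (t u : F) : X 15 u * X 16 t = X 16 t * X 15 u := by
  have h := td4vc_comm (F := F) 16 15 (by decide) (by decide) (by decide) (by decide) t u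
  unfold ChevalleyDatum.commWord at h
  rw [td4vc_terms_16_15] at h
  simp only [List.map_nil, td4vc_word_nil, mul_one] at h
  exact h

theorem td4vc_terms_16_17 : chevD4.commTerms 16 17 = [] := by
  decide

theorem td4vc_c_16_17 (t u : F) : X 17 u * X 16 t = X 16 t * X 17 u := by
  have h := td4vc_comm (F := F) 16 17 (by decide) (by decide) (by decide) (by decide) t u
  unfold ChevalleyDatum.commWord at h
  rw [td4vc_terms_16_17] at h
  simp only [List.map_nil, td4vc_word_nil, mul_one] at h
  exact h

theorem td4vc_terms_16_18 : chevD4.commTerms 16 18 = [(21, 1, 1, 1)] := by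
  decide

theorem td4vc_c_16_18 (t u : F) :
    X 18 u * X 16 t = X 16 t * X 18 u * X 21 (-(t * u)) := by
  have h := td4vc_comm (F := F) 16 18 (by decide) (by decide) (by decide) (by decide) t u
  unfold ChevalleyDatum.commWord at h
  rw [td4vc_terms_16_18] at h
  simp only [List.map_cons, List.map_nil, td4vc_word_cons, td4vc_word_nil, mul_one] at h
  have a0 : ((1 : ℤ) : F) * (-t) ^ 1 * u ^ 1 = -(t * u) := by
    push_cast
    ring
  rw [a0] at h
  rw [h]

theorem td4vc_terms_16_19 : chevD4.commTerms 16 19 = [] := by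
  decide

theorem td4vc_c_16_19 (t u : F) : X 19 u * X 16 t = X 16 t * X 19 u := by
  have h := td4vc_comm (F := F) 16 19 (by decide) (by decide) (by decide) (by decide) t u
  unfold ChevalleyDatum.commWord at h
  rw [td4vc_terms_16_19] at h
  simp only [List.map_nil, td4vc_word_nil, mul_one] at h
  exact h

theorem td4vc_terms_16_20 : chevD4.commTerms 16 20 = [(23, -1, 1, 1)] := by
  decide

theorem td4vc_c_16_20 (t u : F) :
    X 20 u * X 16 t = X 16 t * X 20 u * X 23 (t * u) := by
  have h := td4vc_comm (F := F) 16 20 (by decide) (by decide) (by decide) (by decide) t u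
  unfold ChevalleyDatum.commWord at h
  rw [td4vc_terms_16_20] at h
  simp only [List.map_cons, List.map_nil, td4vc_word_cons, td4vc_word_nil, mul_one] at h
  have a0 : (((-1) : ℤ) : F) * (-t) ^ 1 * u ^ 1 = t * u := by
    push_cast
    ring
  rw [a0] at h
  rw [h]

theorem td4vc_terms_16_21 : chevD4.commTerms 16 21 = [] := by
  decide

theorem td4vc_c_16_21 (t u : F) : X 21 u * X 16 t = X 16 t * X 21 u := by
  have h := td4vc_comm (F := F) 16 21 (by decide) (by decide) (by decide) (by decide) t u
  unfold ChevalleyDatum.commWord at h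
  rw [td4vc_terms_16_21] at h
  simp only [List.map_nil, td4vc_word_nil, mul_one] at h
  exact h

theorem td4vc_terms_16_22 : chevD4.commTerms 16 22 = [] := by
  decide

theorem td4vc_c_16_22 (t u : F) : X 22 u * X 16 t = X 16 t * X 22 u := by
  have h := td4vc_comm (F := F) 16 22 (by decide) (by decide) (by decide) (by decide) t u
  unfold ChevalleyDatum.commWord at h
  rw [td4vc_terms_16_22] at h
  simp only [List.map_nil, td4vc_word_nil, mul_one] at h
  exact h

theorem td4vc_terms_16_23 : chevD4.commTerms 16 23 = [] := by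
  decide

theorem td4vc_c_16_23 (t u : F) : X 23 u * X 16 t = X 16 t * X 23 u := by
  have h := td4vc_comm (F := F) 16 23 (by decide) (by decide) (by decide) (by decide) t u
  unfold ChevalleyDatum.commWord at h
  rw [td4vc_terms_16_23] at h
  simp only [List.map_nil, td4vc_word_nil, mul_one] at h
  exact h

theorem td4vc_terms_17_0 : chevD4.commTerms 17 0 = [(4, -1, 1, 1)] := by
  decide

theorem td4vc_c_17_0 (t u : F) :
    X 0 u * X 17 t = X 17 t * X 0 u * X 4 (t * u) := by
  have h := td4vc_comm (F := F) 17 0 (by decide) (by decide) (by decide) (by decide) t u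
  unfold ChevalleyDatum.commWord at h
  rw [td4vc_terms_17_0] at h
  simp only [List.map_cons, List.map_nil, td4vc_word_cons, td4vc_word_nil, mul_one] at h
  have a0 : (((-1) : ℤ) : F) * (-t) ^ 1 * u ^ 1 = t * u := by
    push_cast
    ring
  rw [a0] at h
  rw [h]

theorem td4vc_terms_17_1 : chevD4.commTerms 17 1 = [(5, -1, 1, 1)] := by
  decide

theorem td4vc_c_17_1 (t u : F) :
    X 1 u * X 17 t = X 17 t * X 1 u * X 5 (t * u) := by
  have h := td4vc_comm (F := F) 17 1 (by decide) (by decide) (by decide) (by decide) t u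
  unfold ChevalleyDatum.commWord at h
  rw [td4vc_terms_17_1] at h
  simp only [List.map_cons, List.map_nil, td4vc_word_cons, td4vc_word_nil, mul_one] at h
  have a0 : (((-1) : ℤ) : F) * (-t) ^ 1 * u ^ 1 = t * u := by
    push_cast
    ring
  rw [a0] at h
  rw [h]

theorem td4vc_terms_17_2 : chevD4.commTerms 17 2 = [] := by
  decide

theorem td4vc_c_17_2 (t u : F) : X 2 u * X 17 t = X 17 t * X 2 u := by
  have h := td4vc_comm (F := F) 17 2 (by decide) (by decide) (by decide) (by decide) t u
  unfold ChevalleyDatum.commWord at h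
  rw [td4vc_terms_17_2] at h
  simp only [List.map_nil, td4vc_word_nil, mul_one] at h
  exact h

theorem td4vc_terms_17_3 : chevD4.commTerms 17 3 = [] := by
  decide

theorem td4vc_c_17_3 (t u : F) : X 3 u * X 17 t = X 17 t * X 3 u := by
  have h := td4vc_comm (F := F) 17 3 (by decide) (by decide) (by decide) (by decide) t u
  unfold ChevalleyDatum.commWord at h
  rw [td4vc_terms_17_3] at h
  simp only [List.map_nil, td4vc_word_nil, mul_one] at h
  exact h

theorem td4vc_terms_17_4 : chevD4.commTerms 17 4 = [] := by
  decide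

theorem td4vc_c_17_4 (t u : F) : X 4 u * X 17 t = X 17 t * X 4 u := by
  have h := td4vc_comm (F := F) 17 4 (by decide) (by decide) (by decide) (by decide) t u
  unfold ChevalleyDatum.commWord at h
  rw [td4vc_terms_17_4] at h
  simp only [List.map_nil, td4vc_word_nil, mul_one] at h
  exact h

theorem td4vc_terms_17_5 : chevD4.commTerms 17 5 = [] := by
  decide

theorem td4vc_c_17_5 (t u : F) : X 5 u * X 17 t = X 17 t * X 5 u := by
  have h := td4vc_comm (F := F) 17 5 (by decide) (by decide) (by decide) (by decide) t u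
  unfold ChevalleyDatum.commWord at h
  rw [td4vc_terms_17_5] at h
  simp only [List.map_nil, td4vc_word_nil, mul_one] at h
  exact h

theorem td4vc_terms_17_7 : chevD4.commTerms 17 7 = [(12, 1, 1, 1)] := by
  decide

theorem td4vc_c_17_7 (t u : F) :
    X 7 u * X 17 t = X 17 t * X 7 u * X 12 (-(t * u)) := by
  have h := td4vc_comm (F := F) 17 7 (by decide) (by decide) (by decide) (by decide) t u
  unfold ChevalleyDatum.commWord at h
  rw [td4vc_terms_17_7] at h
  simp only [List.map_cons, List.map_nil, td4vc_word_cons, td4vc_word_nil, mul_one] at h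
  have a0 : ((1 : ℤ) : F) * (-t) ^ 1 * u ^ 1 = -(t * u) := by
    push_cast
    ring
  rw [a0] at h
  rw [h]

theorem td4vc_terms_17_8 : chevD4.commTerms 17 8 = [(13, 1, 1, 1)] := by
  decide

theorem td4vc_c_17_8 (t u : F) :
    X 8 u * X 17 t = X 17 t * X 8 u * X 13 (-(t * u)) := by
  have h := td4vc_comm (F := F) 17 8 (by decide) (by decide) (by decide) (by decide) t u
  unfold ChevalleyDatum.commWord at h
  rw [td4vc_terms_17_8] at h
  simp only [List.map_cons, List.map_nil, td4vc_word_cons, td4vc_word_nil, mul_one] at h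
  have a0 : ((1 : ℤ) : F) * (-t) ^ 1 * u ^ 1 = -(t * u) := by
    push_cast
    ring
  rw [a0] at h
  rw [h]

theorem td4vc_terms_17_9 : chevD4.commTerms 17 9 = [] := by
  decide

theorem td4vc_c_17_9 (t u : F) : X 9 u * X 17 t = X 17 t * X 9 u := by
  have h := td4vc_comm (F := F) 17 9 (by decide) (by decide) (by decide) (by decide) t u
  unfold ChevalleyDatum.commWord at h
  rw [td4vc_terms_17_9] at h
  simp only [List.map_nil, td4vc_word_nil, mul_one] at h
  exact h

theorem td4vc_terms_17_10 : chevD4.commTerms 17 10 = [(15, -1, 1, 1)] := by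
  decide

theorem td4vc_c_17_10 (t u : F) :
    X 10 u * X 17 t = X 17 t * X 10 u * X 15 (t * u) := by
  have h := td4vc_comm (F := F) 17 10 (by decide) (by decide) (by decide) (by decide) t u
  unfold ChevalleyDatum.commWord at h
  rw [td4vc_terms_17_10] at h
  simp only [List.map_cons, List.map_nil, td4vc_word_cons, td4vc_word_nil, mul_one] at h
  have a0 : (((-1) : ℤ) : F) * (-t) ^ 1 * u ^ 1 = t * u := by
    push_cast
    ring
  rw [a0] at h
  rw [h]

theorem td4vc_terms_17_11 : chevD4.commTerms 17 11 = [(16, -1, 1, 1)] := by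
  decide

theorem td4vc_c_17_11 (t u : F) :
    X 11 u * X 17 t = X 17 t * X 11 u * X 16 (t * u) := by
  have h := td4vc_comm (F := F) 17 11 (by decide) (by decide) (by decide) (by decide) t u
  unfold ChevalleyDatum.commWord at h
  rw [td4vc_terms_17_11] at h
  simp only [List.map_cons, List.map_nil, td4vc_word_cons, td4vc_word_nil, mul_one] at h
  have a0 : (((-1) : ℤ) : F) * (-t) ^ 1 * u ^ 1 = t * u := by
    push_cast
    ring
  rw [a0] at h
  rw [h]

theorem td4vc_terms_17_12 : chevD4.commTerms 17 12 = [] := by
  decide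

theorem td4vc_c_17_12 (t u : F) : X 12 u * X 17 t = X 17 t * X 12 u := by
  have h := td4vc_comm (F := F) 17 12 (by decide) (by decide) (by decide) (by decide) t u
  unfold ChevalleyDatum.commWord at h
  rw [td4vc_terms_17_12] at h
  simp only [List.map_nil, td4vc_word_nil, mul_one] at h
  exact h

theorem td4vc_terms_17_13 : chevD4.commTerms 17 13 = [] := by
  decide

theorem td4vc_c_17_13 (t u : F) : X 13 u * X 17 t = X 17 t * X 13 u := by
  have h := td4vc_comm (F := F) 17 13 (by decide) (by decide) (by decide) (by decide) t u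
  unfold ChevalleyDatum.commWord at h
  rw [td4vc_terms_17_13] at h
  simp only [List.map_nil, td4vc_word_nil, mul_one] at h
  exact h

theorem td4vc_terms_17_14 : chevD4.commTerms 17 14 = [] := by
  decide

theorem td4vc_c_17_14 (t u : F) : X 14 u * X 17 t = X 17 t * X 14 u := by
  have h := td4vc_comm (F := F) 17 14 (by decide) (by decide) (by decide) (by decide) t u
  unfold ChevalleyDatum.commWord at h
  rw [td4vc_terms_17_14] at h
  simp only [List.map_nil, td4vc_word_nil, mul_one] at h
  exact h

theorem td4vc_terms_17_15 : chevD4.commTerms 17 15 = [] := by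
  decide

theorem td4vc_c_17_15 (t u : F) : X 15 u * X 17 t = X 17 t * X 15 u := by
  have h := td4vc_comm (F := F) 17 15 (by decide) (by decide) (by decide) (by decide) t u
  unfold ChevalleyDatum.commWord at h
  rw [td4vc_terms_17_15] at h
  simp only [List.map_nil, td4vc_word_nil, mul_one] at h
  exact h

theorem td4vc_terms_17_16 : chevD4.commTerms 17 16 = [] := by
  decide

theorem td4vc_c_17_16 (t u : F) : X 16 u * X 17 t = X 17 t * X 16 u := by
  have h := td4vc_comm (F := F) 17 16 (by decide) (by decide) (by decide) (by decide) t u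
  unfold ChevalleyDatum.commWord at h
  rw [td4vc_terms_17_16] at h
  simp only [List.map_nil, td4vc_word_nil, mul_one] at h
  exact h

theorem td4vc_terms_17_18 : chevD4.commTerms 17 18 = [(22, 1, 1, 1)] := by
  decide

theorem td4vc_c_17_18 (t u : F) :
    X 18 u * X 17 t = X 17 t * X 18 u * X 22 (-(t * u)) := by
  have h := td4vc_comm (F := F) 17 18 (by decide) (by decide) (by decide) (by decide) t u
  unfold ChevalleyDatum.commWord at h
  rw [td4vc_terms_17_18] at h
  simp only [List.map_cons, List.map_nil, td4vc_word_cons, td4vc_word_nil, mul_one] at h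
  have a0 : ((1 : ℤ) : F) * (-t) ^ 1 * u ^ 1 = -(t * u) := by
    push_cast
    ring
  rw [a0] at h
  rw [h]

theorem td4vc_terms_17_19 : chevD4.commTerms 17 19 = [(23, 1, 1, 1)] := by
  decide

theorem td4vc_c_17_19 (t u : F) :
    X 19 u * X 17 t = X 17 t * X 19 u * X 23 (-(t * u)) := by
  have h := td4vc_comm (F := F) 17 19 (by decide) (by decide) (by decide) (by decide) t u
  unfold ChevalleyDatum.commWord at h
  rw [td4vc_terms_17_19] at h
  simp only [List.map_cons, List.map_nil, td4vc_word_cons, td4vc_word_nil, mul_one] at h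
  have a0 : ((1 : ℤ) : F) * (-t) ^ 1 * u ^ 1 = -(t * u) := by
    push_cast
    ring
  rw [a0] at h
  rw [h]

theorem td4vc_terms_17_20 : chevD4.commTerms 17 20 = [] := by
  decide

theorem td4vc_c_17_20 (t u : F) : X 20 u * X 17 t = X 17 t * X 20 u := by
  have h := td4vc_comm (F := F) 17 20 (by decide) (by decide) (by decide) (by decide) t u
  unfold ChevalleyDatum.commWord at h
  rw [td4vc_terms_17_20] at h
  simp only [List.map_nil, td4vc_word_nil, mul_one] at h
  exact h

theorem td4vc_terms_17_21 : chevD4.commTerms 17 21 = [] := by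
  decide

theorem td4vc_c_17_21 (t u : F) : X 21 u * X 17 t = X 17 t * X 21 u := by
  have h := td4vc_comm (F := F) 17 21 (by decide) (by decide) (by decide) (by decide) t u
  unfold ChevalleyDatum.commWord at h
  rw [td4vc_terms_17_21] at h
  simp only [List.map_nil, td4vc_word_nil, mul_one] at h
  exact h

theorem td4vc_terms_17_22 : chevD4.commTerms 17 22 = [] := by
  decide

theorem td4vc_c_17_22 (t u : F) : X 22 u * X 17 t = X 17 t * X 22 u := by
  have h := td4vc_comm (F := F) 17 22 (by decide) (by decide) (by decide) (by decide) t u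
  unfold ChevalleyDatum.commWord at h
  rw [td4vc_terms_17_22] at h
  simp only [List.map_nil, td4vc_word_nil, mul_one] at h
  exact h

theorem td4vc_terms_17_23 : chevD4.commTerms 17 23 = [] := by
  decide

theorem td4vc_c_17_23 (t u : F) : X 23 u * X 17 t = X 17 t * X 23 u := by
  have h := td4vc_comm (F := F) 17 23 (by decide) (by decide) (by decide) (by decide) t u
  unfold ChevalleyDatum.commWord at h
  rw [td4vc_terms_17_23] at h
  simp only [List.map_nil, td4vc_word_nil, mul_one] at h
  exact h

end Cfsg.Agent.Lib.helper23.TD4V
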