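import Mathlib
import Cfsg.Agent.Lib.helper23.TD4V.Defs
import Cfsg.Agent.Lib.helper23.TD4VComm0

/-!
# Project TD4V (S2462): the commutator formula S1025 for all pairs of roots of `chevD4`, in the units `X r t`
(machine generated from the tables, as Helper19.G2VComm).

`td4vc_c_r_s t u : X s u * X r t = X r t * X s u` when `r + s` is no root, and
`td4vc_c_r_s t u : X s u * X r t = X r t * X s u * X k (∓(t * u))` when `r + s = k` is a root (`D₄` is simply laced).
-/

set_option autoImplicit false

namespace Cfsg.Agent.Lib.helper23.TD4V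

open Cfsg.Lie Cfsg.Lie.ChevalleyDatum Matrix
open Cfsg.Agent.Lib.helper8

universe u

variable {F : Type u} [Field F]

theorem td4vc_terms_18_0 : chevD4.commTerms 18 0 = [] := by
  decide

theorem td4vc_c_18_0 (t u : F) : X 0 u * X 18 t = X 18 t * X 0 u := by
  have h := td4vc_comm (F := F) 18 0 (by decide) (by decide) (by decide) (by decide) t u
  unfold ChevalleyDatum.commWord at h
  rw [td4vc_terms_18_0] at h
  simp only [List.map_nil, td4vc_word_nil, mul_one] at h
  exact h

theorem td4vc_terms_18_1 : chevD4.commTerms 18 1 = [(6, 1, 1, 1)] := by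
  decide

theorem td4vc_c_18_1 (t u : F) :
    X 1 u * X 18 t = X 18 t * X 1 u * X 6 (-(t * u)) := by
  have h := td4vc_comm (F := F) 18 1 (by decide) (by decide) (by decide) (by decide) t u
  unfold ChevalleyDatum.commWord at h
  rw [td4vc_terms_18_1] at h
  simp only [List.map_cons, List.map_nil, td4vc_word_cons, td4vc_word_nil, mul_one] at h
  have a0 : ((1 : ℤ) : F) * (-t) ^ 1 * u ^ 1 = -(t * u) := by
    push_cast
    ring
  rw [a0] at h
  rw [h]

theorem td4vc_terms_18_2 : chevD4.commTerms 18 2 = [(7, 1, 1, 1)] := by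
  decide

theorem td4vc_c_18_2 (t u : F) :
    X 2 u * X 18 t = X 18 t * X 2 u * X 7 (-(t * u)) := by
  have h := td4vc_comm (F := F) 18 2 (by decide) (by decide) (by decide) (by decide) t u
  unfold ChevalleyDatum.commWord at h
  rw [td4vc_terms_18_2] at h
  simp only [List.map_cons, List.map_nil, td4vc_word_cons, td4vc_word_nil, mul_one] at h
  have a0 : ((1 : ℤ) : F) * (-t) ^ 1 * u ^ 1 = -(t * u) := by
    push_cast
    ring
  rw [a0] at h
  rw [h]

theorem td4vc_terms_18_3 : chevD4.commTerms 18 3 = [(8, 1, 1, 1)] := by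
  decide

theorem td4vc_c_18_3 (t u : F) :
    X 3 u * X 18 t = X 18 t * X 3 u * X 8 (-(t * u)) := by
  have h := td4vc_comm (F := F) 18 3 (by decide) (by decide) (by decide) (by decide) t u
  unfold ChevalleyDatum.commWord at h
  rw [td4vc_terms_18_3] at h
  simp only [List.map_cons, List.map_nil, td4vc_word_cons, td4vc_word_nil, mul_one] at h
  have a0 : ((1 : ℤ) : F) * (-t) ^ 1 * u ^ 1 = -(t * u) := by
    push_cast
    ring
  rw [a0] at h
  rw [h]

theorem td4vc_terms_18_4 : chevD4.commTerms 18 4 = [(9, 1, 1, 1)] := by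
  decide

theorem td4vc_c_18_4 (t u : F) :
    X 4 u * X 18 t = X 18 t * X 4 u * X 9 (-(t * u)) := by
  have h := td4vc_comm (F := F) 18 4 (by decide) (by decide) (by decide) (by decide) t u
  unfold ChevalleyDatum.commWord at h
  rw [td4vc_terms_18_4] at h
  simp only [List.map_cons, List.map_nil, td4vc_word_cons, td4vc_word_nil, mul_one] at h
  have a0 : ((1 : ℤ) : F) * (-t) ^ 1 * u ^ 1 = -(t * u) := by
    push_cast
    ring
  rw [a0] at h
  rw [h]

theorem td4vc_terms_18_6 : chevD4.commTerms 18 6 = [] := by
  decide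

theorem td4vc_c_18_6 (t u : F) : X 6 u * X 18 t = X 18 t * X 6 u := by
  have h := td4vc_comm (F := F) 18 6 (by decide) (by decide) (by decide) (by decide) t u
  unfold ChevalleyDatum.commWord at h
  rw [td4vc_terms_18_6] at h
  simp only [List.map_nil, td4vc_word_nil, mul_one] at h
  exact h

theorem td4vc_terms_18_7 : chevD4.commTerms 18 7 = [] := by
  decide

theorem td4vc_c_18_7 (t u : F) : X 7 u * X 18 t = X 18 t * X 7 u := by
  have h := td4vc_comm (F := F) 18 7 (by decide) (by decide) (by decide) (by decide) t u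
  unfold ChevalleyDatum.commWord at h
  rw [td4vc_terms_18_7] at h
  simp only [List.map_nil, td4vc_word_nil, mul_one] at h
  exact h

theorem td4vc_terms_18_8 : chevD4.commTerms 18 8 = [] := by
  decide

theorem td4vc_c_18_8 (t u : F) : X 8 u * X 18 t = X 18 t * X 8 u := by
  have h := td4vc_comm (F := F) 18 8 (by decide) (by decide) (by decide) (by decide) t u
  unfold ChevalleyDatum.commWord at h
  rw [td4vc_terms_18_8] at h
  simp only [List.map_nil, td4vc_word_nil, mul_one] at h
  exact h

theorem td4vc_terms_18_9 : chevD4.commTerms 18 9 = [] := by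
  decide

theorem td4vc_c_18_9 (t u : F) : X 9 u * X 18 t = X 18 t * X 9 u := by
  have h := td4vc_comm (F := F) 18 9 (by decide) (by decide) (by decide) (by decide) t u
  unfold ChevalleyDatum.commWord at h
  rw [td4vc_terms_18_9] at h
  simp only [List.map_nil, td4vc_word_nil, mul_one] at h
  exact h

theorem td4vc_terms_18_10 : chevD4.commTerms 18 10 = [] := by
  decide

theorem td4vc_c_18_10 (t u : F) : X 10 u * X 18 t = X 18 t * X 10 u := by
  have h := td4vc_comm (F := F) 18 10 (by decide) (by decide) (by decide) (by decide) t u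
  unfold ChevalleyDatum.commWord at h
  rw [td4vc_terms_18_10] at h
  simp only [List.map_nil, td4vc_word_nil, mul_one] at h
  exact h

theorem td4vc_terms_18_11 : chevD4.commTerms 18 11 = [] := by
  decide

theorem td4vc_c_18_11 (t u : F) : X 11 u * X 18 t = X 18 t * X 11 u := by
  have h := td4vc_comm (F := F) 18 11 (by decide) (by decide) (by decide) (by decide) t u
  unfold ChevalleyDatum.commWord at h
  rw [td4vc_terms_18_11] at h
  simp only [List.map_nil, td4vc_word_nil, mul_one] at h
  exact h

theorem td4vc_terms_18_12 : chevD4.commTerms 18 12 = [] := by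
  decide

theorem td4vc_c_18_12 (t u : F) : X 12 u * X 18 t = X 18 t * X 12 u := by
  have h := td4vc_comm (F := F) 18 12 (by decide) (by decide) (by decide) (by decide) t u
  unfold ChevalleyDatum.commWord at h
  rw [td4vc_terms_18_12] at h
  simp only [List.map_nil, td4vc_word_nil, mul_one] at h
  exact h

theorem td4vc_terms_18_13 : chevD4.commTerms 18 13 = [] := by
  decide

theorem td4vc_c_18_13 (t u : F) : X 13 u * X 18 t = X 18 t * X 13 u := by
  have h := td4vc_comm (F := F) 18 13 (by decide) (by decide) (by decide) (by decide) t u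
  unfold ChevalleyDatum.commWord at h
  rw [td4vc_terms_18_13] at h
  simp only [List.map_nil, td4vc_word_nil, mul_one] at h
  exact h

theorem td4vc_terms_18_14 : chevD4.commTerms 18 14 = [(19, -1, 1, 1)] := by
  decide

theorem td4vc_c_18_14 (t u : F) :
    X 14 u * X 18 t = X 18 t * X 14 u * X 19 (t * u) := by
  have h := td4vc_comm (F := F) 18 14 (by decide) (by decide) (by decide) (by decide) t u
  unfold ChevalleyDatum.commWord at h
  rw [td4vc_terms_18_14] at h
  simp only [List.map_cons, List.map_nil, td4vc_word_cons, td4vc_word_nil, mul_one] at h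
  have a0 : (((-1) : ℤ) : F) * (-t) ^ 1 * u ^ 1 = t * u := by
    push_cast
    ring
  rw [a0] at h
  rw [h]

theorem td4vc_terms_18_15 : chevD4.commTerms 18 15 = [(20, -1, 1, 1)] := by
  decide

theorem td4vc_c_18_15 (t u : F) :
    X 15 u * X 18 t = X 18 t * X 15 u * X 20 (t * u) := by
  have h := td4vc_comm (F := F) 18 15 (by decide) (by decide) (by decide) (by decide) t u
  unfold ChevalleyDatum.commWord at h
  rw [td4vc_terms_18_15] at h
  simp only [List.map_cons, List.map_nil, td4vc_word_cons, td4vc_word_nil, mul_one] at h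
  have a0 : (((-1) : ℤ) : F) * (-t) ^ 1 * u ^ 1 = t * u := by
    push_cast
    ring
  rw [a0] at h
  rw [h]

theorem td4vc_terms_18_16 : chevD4.commTerms 18 16 = [(21, -1, 1, 1)] := by
  decide

theorem td4vc_c_18_16 (t u : F) :
    X 16 u * X 18 t = X 18 t * X 16 u * X 21 (t * u) := by
  have h := td4vc_comm (F := F) 18 16 (by decide) (by decide) (by decide) (by decide) t u
  unfold ChevalleyDatum.commWord at h
  rw [td4vc_terms_18_16] at h
  simp only [List.map_cons, List.map_nil, td4vc_word_cons, td4vc_word_nil, mul_one] at h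
  have a0 : (((-1) : ℤ) : F) * (-t) ^ 1 * u ^ 1 = t * u := by
    push_cast
    ring
  rw [a0] at h
  rw [h]

theorem td4vc_terms_18_17 : chevD4.commTerms 18 17 = [(22, -1, 1, 1)] := by
  decide

theorem td4vc_c_18_17 (t u : F) :
    X 17 u * X 18 t = X 18 t * X 17 u * X 22 (t * u) := by
  have h := td4vc_comm (F := F) 18 17 (by decide) (by decide) (by decide) (by decide) t u
  unfold ChevalleyDatum.commWord at h
  rw [td4vc_terms_18_17] at h
  simp only [List.map_cons, List.map_nil, td4vc_word_cons, td4vc_word_nil, mul_one] at h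
  have a0 : (((-1) : ℤ) : F) * (-t) ^ 1 * u ^ 1 = t * u := by
    push_cast
    ring
  rw [a0] at h
  rw [h]

theorem td4vc_terms_18_19 : chevD4.commTerms 18 19 = [] := by
  decide

theorem td4vc_c_18_19 (t u : F) : X 19 u * X 18 t = X 18 t * X 19 u := by
  have h := td4vc_comm (F := F) 18 19 (by decide) (by decide) (by decide) (by decide) t u
  unfold ChevalleyDatum.commWord at h
  rw [td4vc_terms_18_19] at h
  simp only [List.map_nil, td4vc_word_nil, mul_one] at h
  exact h

theorem td4vc_terms_18_20 : chevD4.commTerms 18 20 = [] := by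
  decide

theorem td4vc_c_18_20 (t u : F) : X 20 u * X 18 t = X 18 t * X 20 u := by
  have h := td4vc_comm (F := F) 18 20 (by decide) (by decide) (by decide) (by decide) t u
  unfold ChevalleyDatum.commWord at h
  rw [td4vc_terms_18_20] at h
  simp only [List.map_nil, td4vc_word_nil, mul_one] at h
  exact h

theorem td4vc_terms_18_21 : chevD4.commTerms 18 21 = [] := by
  decide

theorem td4vc_c_18_21 (t u : F) : X 21 u * X 18 t = X 18 t * X 21 u := by
  have h := td4vc_comm (F := F) 18 21 (by decide) (by decide) (by decide) (by decide) t u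
  unfold ChevalleyDatum.commWord at h
  rw [td4vc_terms_18_21] at h
  simp only [List.map_nil, td4vc_word_nil, mul_one] at h
  exact h

theorem td4vc_terms_18_22 : chevD4.commTerms 18 22 = [] := by
  decide

theorem td4vc_c_18_22 (t u : F) : X 22 u * X 18 t = X 18 t * X 22 u := by
  have h := td4vc_comm (F := F) 18 22 (by decide) (by decide) (by decide) (by decide) t u
  unfold ChevalleyDatum.commWord at h
  rw [td4vc_terms_18_22] at h
  simp only [List.map_nil, td4vc_word_nil, mul_one] at h
  exact h

theorem td4vc_terms_18_23 : chevD4.commTerms 18 23 = [] := by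
  decide

theorem td4vc_c_18_23 (t u : F) : X 23 u * X 18 t = X 18 t * X 23 u := by
  have h := td4vc_comm (F := F) 18 23 (by decide) (by decide) (by decide) (by decide) t u
  unfold ChevalleyDatum.commWord at h
  rw [td4vc_terms_18_23] at h
  simp only [List.map_nil, td4vc_word_nil, mul_one] at h
  exact h

theorem td4vc_terms_19_0 : chevD4.commTerms 19 0 = [(6, 1, 1, 1)] := by
  decide

theorem td4vc_c_19_0 (t u : F) :
    X 0 u * X 19 t = X 19 t * X 0 u * X 6 (-(t * u)) := by
  have h := td4vc_comm (F := F) 19 0 (by decide) (by decide) (by decide) (by decide) t u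
  unfold ChevalleyDatum.commWord at h
  rw [td4vc_terms_19_0] at h
  simp only [List.map_cons, List.map_nil, td4vc_word_cons, td4vc_word_nil, mul_one] at h
  have a0 : ((1 : ℤ) : F) * (-t) ^ 1 * u ^ 1 = -(t * u) := by
    push_cast
    ring
  rw [a0] at h
  rw [h]

theorem td4vc_terms_19_1 : chevD4.commTerms 19 1 = [] := by
  decide

theorem td4vc_c_19_1 (t u : F) : X 1 u * X 19 t = X 19 t * X 1 u := by
  have h := td4vc_comm (F := F) 19 1 (by decide) (by decide) (by decide) (by decide) t u
  unfold ChevalleyDatum.commWord at h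
  rw [td4vc_terms_19_1] at h
  simp only [List.map_nil, td4vc_word_nil, mul_one] at h
  exact h

theorem td4vc_terms_19_2 : chevD4.commTerms 19 2 = [(10, 1, 1, 1)] := by
  decide

theorem td4vc_c_19_2 (t u : F) :
    X 2 u * X 19 t = X 19 t * X 2 u * X 10 (-(t * u)) := by
  have h := td4vc_comm (F := F) 19 2 (by decide) (by decide) (by decide) (by decide) t u
  unfold ChevalleyDatum.commWord at h
  rw [td4vc_terms_19_2] at h
  simp only [List.map_cons, List.map_nil, td4vc_word_cons, td4vc_word_nil, mul_one] at h
  have a0 : ((1 : ℤ) : F) * (-t) ^ 1 * u ^ 1 = -(t * u) := by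
    push_cast
    ring
  rw [a0] at h
  rw [h]

theorem td4vc_terms_19_3 : chevD4.commTerms 19 3 = [(11, 1, 1, 1)] := by
  decide

theorem td4vc_c_19_3 (t u : F) :
    X 3 u * X 19 t = X 19 t * X 3 u * X 11 (-(t * u)) := by
  have h := td4vc_comm (F := F) 19 3 (by decide) (by decide) (by decide) (by decide) t u
  unfold ChevalleyDatum.commWord at h
  rw [td4vc_terms_19_3] at h
  simp only [List.map_cons, List.map_nil, td4vc_word_cons, td4vc_word_nil, mul_one] at h
  have a0 : ((1 : ℤ) : F) * (-t) ^ 1 * u ^ 1 = -(t * u) := by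
    push_cast
    ring
  rw [a0] at h
  rw [h]

theorem td4vc_terms_19_5 : chevD4.commTerms 19 5 = [(14, 1, 1, 1)] := by
  decide

theorem td4vc_c_19_5 (t u : F) :
    X 5 u * X 19 t = X 19 t * X 5 u * X 14 (-(t * u)) := by
  have h := td4vc_comm (F := F) 19 5 (by decide) (by decide) (by decide) (by decide) t u
  unfold ChevalleyDatum.commWord at h
  rw [td4vc_terms_19_5] at h
  simp only [List.map_cons, List.map_nil, td4vc_word_cons, td4vc_word_nil, mul_one] at h
  have a0 : ((1 : ℤ) : F) * (-t) ^ 1 * u ^ 1 = -(t * u) := by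
    push_cast
    ring
  rw [a0] at h
  rw [h]

theorem td4vc_terms_19_6 : chevD4.commTerms 19 6 = [] := by
  decide

theorem td4vc_c_19_6 (t u : F) : X 6 u * X 19 t = X 19 t * X 6 u := by
  have h := td4vc_comm (F := F) 19 6 (by decide) (by decide) (by decide) (by decide) t u
  unfold ChevalleyDatum.commWord at h
  rw [td4vc_terms_19_6] at h
  simp only [List.map_nil, td4vc_word_nil, mul_one] at h
  exact h

theorem td4vc_terms_19_7 : chevD4.commTerms 19 7 = [] := by
  decide

theorem td4vc_c_19_7 (t u : F) : X 7 u * X 19 t = X 19 t * X 7 u := by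
  have h := td4vc_comm (F := F) 19 7 (by decide) (by decide) (by decide) (by decide) t u
  unfold ChevalleyDatum.commWord at h
  rw [td4vc_terms_19_7] at h
  simp only [List.map_nil, td4vc_word_nil, mul_one] at h
  exact h

theorem td4vc_terms_19_8 : chevD4.commTerms 19 8 = [] := by
  decide

theorem td4vc_c_19_8 (t u : F) : X 8 u * X 19 t = X 19 t * X 8 u := by
  have h := td4vc_comm (F := F) 19 8 (by decide) (by decide) (by decide) (by decide) t u
  unfold ChevalleyDatum.commWord at h
  rw [td4vc_terms_19_8] at h
  simp only [List.map_nil, td4vc_word_nil, mul_one] at h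
  exact h

theorem td4vc_terms_19_9 : chevD4.commTerms 19 9 = [(18, -1, 1, 1)] := by
  decide

theorem td4vc_c_19_9 (t u : F) :
    X 9 u * X 19 t = X 19 t * X 9 u * X 18 (t * u) := by
  have h := td4vc_comm (F := F) 19 9 (by decide) (by decide) (by decide) (by decide) t u
  unfold ChevalleyDatum.commWord at h
  rw [td4vc_terms_19_9] at h
  simp only [List.map_cons, List.map_nil, td4vc_word_cons, td4vc_word_nil, mul_one] at h
  have a0 : (((-1) : ℤ) : F) * (-t) ^ 1 * u ^ 1 = t * u := by
    push_cast
    ring
  rw [a0] at h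
  rw [h]

theorem td4vc_terms_19_10 : chevD4.commTerms 19 10 = [] := by
  decide

theorem td4vc_c_19_10 (t u : F) : X 10 u * X 19 t = X 19 t * X 10 u := by
  have h := td4vc_comm (F := F) 19 10 (by decide) (by decide) (by decide) (by decide) t u
  unfold ChevalleyDatum.commWord at h
  rw [td4vc_terms_19_10] at h
  simp only [List.map_nil, td4vc_word_nil, mul_one] at h
  exact h

theorem td4vc_terms_19_11 : chevD4.commTerms 19 11 = [] := by
  decide

theorem td4vc_c_19_11 (t u : F) : X 11 u * X 19 t = X 19 t * X 11 u := by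
  have h := td4vc_comm (F := F) 19 11 (by decide) (by decide) (by decide) (by decide) t u
  unfold ChevalleyDatum.commWord at h
  rw [td4vc_terms_19_11] at h
  simp only [List.map_nil, td4vc_word_nil, mul_one] at h
  exact h

theorem td4vc_terms_19_12 : chevD4.commTerms 19 12 = [(20, -1, 1, 1)] := by
  decide

theorem td4vc_c_19_12 (t u : F) :
    X 12 u * X 19 t = X 19 t * X 12 u * X 20 (t * u) := by
  have h := td4vc_comm (F := F) 19 12 (by decide) (by decide) (by decide) (by decide) t u
  unfold ChevalleyDatum.commWord at h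
  rw [td4vc_terms_19_12] at h
  simp only [List.map_cons, List.map_nil, td4vc_word_cons, td4vc_word_nil, mul_one] at h
  have a0 : (((-1) : ℤ) : F) * (-t) ^ 1 * u ^ 1 = t * u := by
    push_cast
    ring
  rw [a0] at h
  rw [h]

theorem td4vc_terms_19_13 : chevD4.commTerms 19 13 = [(21, -1, 1, 1)] := by
  decide

theorem td4vc_c_19_13 (t u : F) :
    X 13 u * X 19 t = X 19 t * X 13 u * X 21 (t * u) := by
  have h := td4vc_comm (F := F) 19 13 (by decide) (by decide) (by decide) (by decide) t u
  unfold ChevalleyDatum.commWord at h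
  rw [td4vc_terms_19_13] at h
  simp only [List.map_cons, List.map_nil, td4vc_word_cons, td4vc_word_nil, mul_one] at h
  have a0 : (((-1) : ℤ) : F) * (-t) ^ 1 * u ^ 1 = t * u := by
    push_cast
    ring
  rw [a0] at h
  rw [h]

theorem td4vc_terms_19_14 : chevD4.commTerms 19 14 = [] := by
  decide

theorem td4vc_c_19_14 (t u : F) : X 14 u * X 19 t = X 19 t * X 14 u := by
  have h := td4vc_comm (F := F) 19 14 (by decide) (by decide) (by decide) (by decide) t u
  unfold ChevalleyDatum.commWord at h
  rw [td4vc_terms_19_14] at h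
  simp only [List.map_nil, td4vc_word_nil, mul_one] at h
  exact h

theorem td4vc_terms_19_15 : chevD4.commTerms 19 15 = [] := by
  decide

theorem td4vc_c_19_15 (t u : F) : X 15 u * X 19 t = X 19 t * X 15 u := by
  have h := td4vc_comm (F := F) 19 15 (by decide) (by decide) (by decide) (by decide) t u
  unfold ChevalleyDatum.commWord at h
  rw [td4vc_terms_19_15] at h
  simp only [List.map_nil, td4vc_word_nil, mul_one] at h
  exact h

theorem td4vc_terms_19_16 : chevD4.commTerms 19 16 = [] := by
  decide

theorem td4vc_c_19_16 (t u : F) : X 16 u * X 19 t = X 19 t * X 16 u := by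
  have h := td4vc_comm (F := F) 19 16 (by decide) (by decide) (by decide) (by decide) t u
  unfold ChevalleyDatum.commWord at h
  rw [td4vc_terms_19_16] at h
  simp only [List.map_nil, td4vc_word_nil, mul_one] at h
  exact h

theorem td4vc_terms_19_17 : chevD4.commTerms 19 17 = [(23, -1, 1, 1)] := by
  decide

theorem td4vc_c_19_17 (t u : F) :
    X 17 u * X 19 t = X 19 t * X 17 u * X 23 (t * u) := by
  have h := td4vc_comm (F := F) 19 17 (by decide) (by decide) (by decide) (by decide) t u
  unfold ChevalleyDatum.commWord at h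
  rw [td4vc_terms_19_17] at h
  simp only [List.map_cons, List.map_nil, td4vc_word_cons, td4vc_word_nil, mul_one] at h
  have a0 : (((-1) : ℤ) : F) * (-t) ^ 1 * u ^ 1 = t * u := by
    push_cast
    ring
  rw [a0] at h
  rw [h]

theorem td4vc_terms_19_18 : chevD4.commTerms 19 18 = [] := by
  decide

theorem td4vc_c_19_18 (t u : F) : X 18 u * X 19 t = X 19 t * X 18 u := by
  have h := td4vc_comm (F := F) 19 18 (by decide) (by decide) (by decide) (by decide) t u
  unfold ChevalleyDatum.commWord at h
  rw [td4vc_terms_19_18] at h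
  simp only [List.map_nil, td4vc_word_nil, mul_one] at h
  exact h

theorem td4vc_terms_19_20 : chevD4.commTerms 19 20 = [] := by
  decide

theorem td4vc_c_19_20 (t u : F) : X 20 u * X 19 t = X 19 t * X 20 u := by
  have h := td4vc_comm (F := F) 19 20 (by decide) (by decide) (by decide) (by decide) t u
  unfold ChevalleyDatum.commWord at h
  rw [td4vc_terms_19_20] at h
  simp only [List.map_nil, td4vc_word_nil, mul_one] at h
  exact h

theorem td4vc_terms_19_21 : chevD4.commTerms 19 21 = [] := by
  decide

theorem td4vc_c_19_21 (t u : F) : X 21 u * X 19 t = X 19 t * X 21 u := by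
  have h := td4vc_comm (F := F) 19 21 (by decide) (by decide) (by decide) (by decide) t u
  unfold ChevalleyDatum.commWord at h
  rw [td4vc_terms_19_21] at h
  simp only [List.map_nil, td4vc_word_nil, mul_one] at h
  exact h

theorem td4vc_terms_19_22 : chevD4.commTerms 19 22 = [] := by
  decide

theorem td4vc_c_19_22 (t u : F) : X 22 u * X 19 t = X 19 t * X 22 u := by
  have h := td4vc_comm (F := F) 19 22 (by decide) (by decide) (by decide) (by decide) t u
  unfold ChevalleyDatum.commWord at h
  rw [td4vc_terms_19_22] at h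
  simp only [List.map_nil, td4vc_word_nil, mul_one] at h
  exact h

theorem td4vc_terms_19_23 : chevD4.commTerms 19 23 = [] := by
  decide

theorem td4vc_c_19_23 (t u : F) : X 23 u * X 19 t = X 19 t * X 23 u := by
  have h := td4vc_comm (F := F) 19 23 (by decide) (by decide) (by decide) (by decide) t u
  unfold ChevalleyDatum.commWord at h
  rw [td4vc_terms_19_23] at h
  simp only [List.map_nil, td4vc_word_nil, mul_one] at h
  exact h

theorem td4vc_terms_20_0 : chevD4.commTerms 20 0 = [(7, -1, 1, 1)] := by
  decide

theorem td4vc_c_20_0 (t u : F) :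
    X 0 u * X 20 t = X 20 t * X 0 u * X 7 (t * u) := by
  have h := td4vc_comm (F := F) 20 0 (by decide) (by decide) (by decide) (by decide) t u
  unfold ChevalleyDatum.commWord at h
  rw [td4vc_terms_20_0] at h
  simp only [List.map_cons, List.map_nil, td4vc_word_cons, td4vc_word_nil, mul_one] at h
  have a0 : (((-1) : ℤ) : F) * (-t) ^ 1 * u ^ 1 = t * u := by
    push_cast
    ring
  rw [a0] at h
  rw [h]

theorem td4vc_terms_20_1 : chevD4.commTerms 20 1 = [(10, 1, 1, 1)] := by
  decide

theorem td4vc_c_20_1 (t u : F) :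
    X 1 u * X 20 t = X 20 t * X 1 u * X 10 (-(t * u)) := by
  have h := td4vc_comm (F := F) 20 1 (by decide) (by decide) (by decide) (by decide) t u
  unfold ChevalleyDatum.commWord at h
  rw [td4vc_terms_20_1] at h
  simp only [List.map_cons, List.map_nil, td4vc_word_cons, td4vc_word_nil, mul_one] at h
  have a0 : ((1 : ℤ) : F) * (-t) ^ 1 * u ^ 1 = -(t * u) := by
    push_cast
    ring
  rw [a0] at h
  rw [h]

theorem td4vc_terms_20_2 : chevD4.commTerms 20 2 = [] := by
  decide

theorem td4vc_c_20_2 (t u : F) : X 2 u * X 20 t = X 20 t * X 2 u := by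
  have h := td4vc_comm (F := F) 20 2 (by decide) (by decide) (by decide) (by decide) t u
  unfold ChevalleyDatum.commWord at h
  rw [td4vc_terms_20_2] at h
  simp only [List.map_nil, td4vc_word_nil, mul_one] at h
  exact h

theorem td4vc_terms_20_4 : chevD4.commTerms 20 4 = [(12, 1, 1, 1)] := by
  decide

theorem td4vc_c_20_4 (t u : F) :
    X 4 u * X 20 t = X 20 t * X 4 u * X 12 (-(t * u)) := by
  have h := td4vc_comm (F := F) 20 4 (by decide) (by decide) (by decide) (by decide) t u
  unfold ChevalleyDatum.commWord at h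
  rw [td4vc_terms_20_4] at h
  simp only [List.map_cons, List.map_nil, td4vc_word_cons, td4vc_word_nil, mul_one] at h
  have a0 : ((1 : ℤ) : F) * (-t) ^ 1 * u ^ 1 = -(t * u) := by
    push_cast
    ring
  rw [a0] at h
  rw [h]

theorem td4vc_terms_20_5 : chevD4.commTerms 20 5 = [(15, 1, 1, 1)] := by
  decide

theorem td4vc_c_20_5 (t u : F) :
    X 5 u * X 20 t = X 20 t * X 5 u * X 15 (-(t * u)) := by
  have h := td4vc_comm (F := F) 20 5 (by decide) (by decide) (by decide) (by decide) t u
  unfold ChevalleyDatum.commWord at h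
  rw [td4vc_terms_20_5] at h
  simp only [List.map_cons, List.map_nil, td4vc_word_cons, td4vc_word_nil, mul_one] at h
  have a0 : ((1 : ℤ) : F) * (-t) ^ 1 * u ^ 1 = -(t * u) := by
    push_cast
    ring
  rw [a0] at h
  rw [h]

theorem td4vc_terms_20_6 : chevD4.commTerms 20 6 = [] := by
  decide

theorem td4vc_c_20_6 (t u : F) : X 6 u * X 20 t = X 20 t * X 6 u := by
  have h := td4vc_comm (F := F) 20 6 (by decide) (by decide) (by decide) (by decide) t u
  unfold ChevalleyDatum.commWord at h
  rw [td4vc_terms_20_6] at h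
  simp only [List.map_nil, td4vc_word_nil, mul_one] at h
  exact h

theorem td4vc_terms_20_7 : chevD4.commTerms 20 7 = [] := by
  decide

theorem td4vc_c_20_7 (t u : F) : X 7 u * X 20 t = X 20 t * X 7 u := by
  have h := td4vc_comm (F := F) 20 7 (by decide) (by decide) (by decide) (by decide) t u
  unfold ChevalleyDatum.commWord at h
  rw [td4vc_terms_20_7] at h
  simp only [List.map_nil, td4vc_word_nil, mul_one] at h
  exact h

theorem td4vc_terms_20_8 : chevD4.commTerms 20 8 = [(18, -1, 1, 1)] := by
  decide

theorem td4vc_c_20_8 (t u : F) :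
    X 8 u * X 20 t = X 20 t * X 8 u * X 18 (t * u) := by
  have h := td4vc_comm (F := F) 20 8 (by decide) (by decide) (by decide) (by decide) t u
  unfold ChevalleyDatum.commWord at h
  rw [td4vc_terms_20_8] at h
  simp only [List.map_cons, List.map_nil, td4vc_word_cons, td4vc_word_nil, mul_one] at h
  have a0 : (((-1) : ℤ) : F) * (-t) ^ 1 * u ^ 1 = t * u := by
    push_cast
    ring
  rw [a0] at h
  rw [h]

theorem td4vc_terms_20_9 : chevD4.commTerms 20 9 = [] := by
  decide

theorem td4vc_c_20_9 (t u : F) : X 9 u * X 20 t = X 20 t * X 9 u := by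
  have h := td4vc_comm (F := F) 20 9 (by decide) (by decide) (by decide) (by decide) t u
  unfold ChevalleyDatum.commWord at h
  rw [td4vc_terms_20_9] at h
  simp only [List.map_nil, td4vc_word_nil, mul_one] at h
  exact h

theorem td4vc_terms_20_10 : chevD4.commTerms 20 10 = [] := by
  decide

theorem td4vc_c_20_10 (t u : F) : X 10 u * X 20 t = X 20 t * X 10 u := by
  have h := td4vc_comm (F := F) 20 10 (by decide) (by decide) (by decide) (by decide) t u
  unfold ChevalleyDatum.commWord at h
  rw [td4vc_terms_20_10] at h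
  simp only [List.map_nil, td4vc_word_nil, mul_one] at h
  exact h

theorem td4vc_terms_20_11 : chevD4.commTerms 20 11 = [(19, -1, 1, 1)] := by
  decide

theorem td4vc_c_20_11 (t u : F) :
    X 11 u * X 20 t = X 20 t * X 11 u * X 19 (t * u) := by
  have h := td4vc_comm (F := F) 20 11 (by decide) (by decide) (by decide) (by decide) t u
  unfold ChevalleyDatum.commWord at h
  rw [td4vc_terms_20_11] at h
  simp only [List.map_cons, List.map_nil, td4vc_word_cons, td4vc_word_nil, mul_one] at h
  have a0 : (((-1) : ℤ) : F) * (-t) ^ 1 * u ^ 1 = t * u := by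
    push_cast
    ring
  rw [a0] at h
  rw [h]

theorem td4vc_terms_20_12 : chevD4.commTerms 20 12 = [] := by
  decide

theorem td4vc_c_20_12 (t u : F) : X 12 u * X 20 t = X 20 t * X 12 u := by
  have h := td4vc_comm (F := F) 20 12 (by decide) (by decide) (by decide) (by decide) t u
  unfold ChevalleyDatum.commWord at h
  rw [td4vc_terms_20_12] at h
  simp only [List.map_nil, td4vc_word_nil, mul_one] at h
  exact h

theorem td4vc_terms_20_13 : chevD4.commTerms 20 13 = [(22, -1, 1, 1)] := by
  decide

theorem td4vc_c_20_13 (t u : F) :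
    X 13 u * X 20 t = X 20 t * X 13 u * X 22 (t * u) := by
  have h := td4vc_comm (F := F) 20 13 (by decide) (by decide) (by decide) (by decide) t u
  unfold ChevalleyDatum.commWord at h
  rw [td4vc_terms_20_13] at h
  simp only [List.map_cons, List.map_nil, td4vc_word_cons, td4vc_word_nil, mul_one] at h
  have a0 : (((-1) : ℤ) : F) * (-t) ^ 1 * u ^ 1 = t * u := by
    push_cast
    ring
  rw [a0] at h
  rw [h]

theorem td4vc_terms_20_14 : chevD4.commTerms 20 14 = [] := by
  decide

theorem td4vc_c_20_14 (t u : F) : X 14 u * X 20 t = X 20 t * X 14 u := by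
  have h := td4vc_comm (F := F) 20 14 (by decide) (by decide) (by decide) (by decide) t u
  unfold ChevalleyDatum.commWord at h
  rw [td4vc_terms_20_14] at h
  simp only [List.map_nil, td4vc_word_nil, mul_one] at h
  exact h

theorem td4vc_terms_20_15 : chevD4.commTerms 20 15 = [] := by
  decide

theorem td4vc_c_20_15 (t u : F) : X 15 u * X 20 t = X 20 t * X 15 u := by
  have h := td4vc_comm (F := F) 20 15 (by decide) (by decide) (by decide) (by decide) t u
  unfold ChevalleyDatum.commWord at h
  rw [td4vc_terms_20_15] at h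
  simp only [List.map_nil, td4vc_word_nil, mul_one] at h
  exact h

theorem td4vc_terms_20_16 : chevD4.commTerms 20 16 = [(23, 1, 1, 1)] := by
  decide

theorem td4vc_c_20_16 (t u : F) :
    X 16 u * X 20 t = X 20 t * X 16 u * X 23 (-(t * u)) := by
  have h := td4vc_comm (F := F) 20 16 (by decide) (by decide) (by decide) (by decide) t u
  unfold ChevalleyDatum.commWord at h
  rw [td4vc_terms_20_16] at h
  simp only [List.map_cons, List.map_nil, td4vc_word_cons, td4vc_word_nil, mul_one] at h
  have a0 : ((1 : ℤ) : F) * (-t) ^ 1 * u ^ 1 = -(t * u) := by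
    push_cast
    ring
  rw [a0] at h
  rw [h]

theorem td4vc_terms_20_17 : chevD4.commTerms 20 17 = [] := by
  decide

theorem td4vc_c_20_17 (t u : F) : X 17 u * X 20 t = X 20 t * X 17 u := by
  have h := td4vc_comm (F := F) 20 17 (by decide) (by decide) (by decide) (by decide) t u
  unfold ChevalleyDatum.commWord at h
  rw [td4vc_terms_20_17] at h
  simp only [List.map_nil, td4vc_word_nil, mul_one] at h
  exact h

theorem td4vc_terms_20_18 : chevD4.commTerms 20 18 = [] := by
  decide

theorem td4vc_c_20_18 (t u : F) : X 18 u * X 20 t = X 20 t * X 18 u := by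
  have h := td4vc_comm (F := F) 20 18 (by decide) (by decide) (by decide) (by decide) t u
  unfold ChevalleyDatum.commWord at h
  rw [td4vc_terms_20_18] at h
  simp only [List.map_nil, td4vc_word_nil, mul_one] at h
  exact h

theorem td4vc_terms_20_19 : chevD4.commTerms 20 19 = [] := by
  decide

theorem td4vc_c_20_19 (t u : F) : X 19 u * X 20 t = X 20 t * X 19 u := by
  have h := td4vc_comm (F := F) 20 19 (by decide) (by decide) (by decide) (by decide) t u
  unfold ChevalleyDatum.commWord at h
  rw [td4vc_terms_20_19] at h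
  simp only [List.map_nil, td4vc_word_nil, mul_one] at h
  exact h

theorem td4vc_terms_20_21 : chevD4.commTerms 20 21 = [] := by
  decide

theorem td4vc_c_20_21 (t u : F) : X 21 u * X 20 t = X 20 t * X 21 u := by
  have h := td4vc_comm (F := F) 20 21 (by decide) (by decide) (by decide) (by decide) t u
  unfold ChevalleyDatum.commWord at h
  rw [td4vc_terms_20_21] at h
  simp only [List.map_nil, td4vc_word_nil, mul_one] at h
  exact h

theorem td4vc_terms_20_22 : chevD4.commTerms 20 22 = [] := by
  decide

theorem td4vc_c_20_22 (t u : F) : X 22 u * X 20 t = X 20 t * X 22 u := by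
  have h := td4vc_comm (F := F) 20 22 (by decide) (by decide) (by decide) (by decide) t u
  unfold ChevalleyDatum.commWord at h
  rw [td4vc_terms_20_22] at h
  simp only [List.map_nil, td4vc_word_nil, mul_one] at h
  exact h

theorem td4vc_terms_20_23 : chevD4.commTerms 20 23 = [] := by
  decide

theorem td4vc_c_20_23 (t u : F) : X 23 u * X 20 t = X 20 t * X 23 u := by
  have h := td4vc_comm (F := F) 20 23 (by decide) (by decide) (by decide) (by decide) t u
  unfold ChevalleyDatum.commWord at h
  rw [td4vc_terms_20_23] at h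
  simp only [List.map_nil, td4vc_word_nil, mul_one] at h
  exact h

theorem td4vc_terms_21_0 : chevD4.commTerms 21 0 = [(8, -1, 1, 1)] := by
  decide

theorem td4vc_c_21_0 (t u : F) :
    X 0 u * X 21 t = X 21 t * X 0 u * X 8 (t * u) := by
  have h := td4vc_comm (F := F) 21 0 (by decide) (by decide) (by decide) (by decide) t u
  unfold ChevalleyDatum.commWord at h
  rw [td4vc_terms_21_0] at h
  simp only [List.map_cons, List.map_nil, td4vc_word_cons, td4vc_word_nil, mul_one] at h
  have a0 : (((-1) : ℤ) : F) * (-t) ^ 1 * u ^ 1 = t * u := by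
    push_cast
    ring
  rw [a0] at h
  rw [h]

theorem td4vc_terms_21_1 : chevD4.commTerms 21 1 = [(11, 1, 1, 1)] := by
  decide

theorem td4vc_c_21_1 (t u : F) :
    X 1 u * X 21 t = X 21 t * X 1 u * X 11 (-(t * u)) := by
  have h := td4vc_comm (F := F) 21 1 (by decide) (by decide) (by decide) (by decide) t u
  unfold ChevalleyDatum.commWord at h
  rw [td4vc_terms_21_1] at h
  simp only [List.map_cons, List.map_nil, td4vc_word_cons, td4vc_word_nil, mul_one] at h
  have a0 : ((1 : ℤ) : F) * (-t) ^ 1 * u ^ 1 = -(t * u) := by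
    push_cast
    ring
  rw [a0] at h
  rw [h]

theorem td4vc_terms_21_3 : chevD4.commTerms 21 3 = [] := by
  decide

theorem td4vc_c_21_3 (t u : F) : X 3 u * X 21 t = X 21 t * X 3 u := by
  have h := td4vc_comm (F := F) 21 3 (by decide) (by decide) (by decide) (by decide) t u
  unfold ChevalleyDatum.commWord at h
  rw [td4vc_terms_21_3] at h
  simp only [List.map_nil, td4vc_word_nil, mul_one] at h
  exact h

theorem td4vc_terms_21_4 : chevD4.commTerms 21 4 = [(13, 1, 1, 1)] := by
  decide

theorem td4vc_c_21_4 (t u : F) :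
    X 4 u * X 21 t = X 21 t * X 4 u * X 13 (-(t * u)) := by
  have h := td4vc_comm (F := F) 21 4 (by decide) (by decide) (by decide) (by decide) t u
  unfold ChevalleyDatum.commWord at h
  rw [td4vc_terms_21_4] at h
  simp only [List.map_cons, List.map_nil, td4vc_word_cons, td4vc_word_nil, mul_one] at h
  have a0 : ((1 : ℤ) : F) * (-t) ^ 1 * u ^ 1 = -(t * u) := by
    push_cast
    ring
  rw [a0] at h
  rw [h]

theorem td4vc_terms_21_5 : chevD4.commTerms 21 5 = [(16, 1, 1, 1)] := by
  decide

theorem td4vc_c_21_5 (t u : F) :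
    X 5 u * X 21 t = X 21 t * X 5 u * X 16 (-(t * u)) := by
  have h := td4vc_comm (F := F) 21 5 (by decide) (by decide) (by decide) (by decide) t u
  unfold ChevalleyDatum.commWord at h
  rw [td4vc_terms_21_5] at h
  simp only [List.map_cons, List.map_nil, td4vc_word_cons, td4vc_word_nil, mul_one] at h
  have a0 : ((1 : ℤ) : F) * (-t) ^ 1 * u ^ 1 = -(t * u) := by
    push_cast
    ring
  rw [a0] at h
  rw [h]

theorem td4vc_terms_21_6 : chevD4.commTerms 21 6 = [] := by
  decide

theorem td4vc_c_21_6 (t u : F) : X 6 u * X 21 t = X 21 t * X 6 u := by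
  have h := td4vc_comm (F := F) 21 6 (by decide) (by decide) (by decide) (by decide) t u
  unfold ChevalleyDatum.commWord at h
  rw [td4vc_terms_21_6] at h
  simp only [List.map_nil, td4vc_word_nil, mul_one] at h
  exact h

theorem td4vc_terms_21_7 : chevD4.commTerms 21 7 = [(18, -1, 1, 1)] := by
  decide

theorem td4vc_c_21_7 (t u : F) :
    X 7 u * X 21 t = X 21 t * X 7 u * X 18 (t * u) := by
  have h := td4vc_comm (F := F) 21 7 (by decide) (by decide) (by decide) (by decide) t u
  unfold ChevalleyDatum.commWord at h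
  rw [td4vc_terms_21_7] at h
  simp only [List.map_cons, List.map_nil, td4vc_word_cons, td4vc_word_nil, mul_one] at h
  have a0 : (((-1) : ℤ) : F) * (-t) ^ 1 * u ^ 1 = t * u := by
    push_cast
    ring
  rw [a0] at h
  rw [h]

theorem td4vc_terms_21_8 : chevD4.commTerms 21 8 = [] := by
  decide

theorem td4vc_c_21_8 (t u : F) : X 8 u * X 21 t = X 21 t * X 8 u := by
  have h := td4vc_comm (F := F) 21 8 (by decide) (by decide) (by decide) (by decide) t u
  unfold ChevalleyDatum.commWord at h
  rw [td4vc_terms_21_8] at h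
  simp only [List.map_nil, td4vc_word_nil, mul_one] at h
  exact h

theorem td4vc_terms_21_9 : chevD4.commTerms 21 9 = [] := by
  decide

theorem td4vc_c_21_9 (t u : F) : X 9 u * X 21 t = X 21 t * X 9 u := by
  have h := td4vc_comm (F := F) 21 9 (by decide) (by decide) (by decide) (by decide) t u
  unfold ChevalleyDatum.commWord at h
  rw [td4vc_terms_21_9] at h
  simp only [List.map_nil, td4vc_word_nil, mul_one] at h
  exact h

theorem td4vc_terms_21_10 : chevD4.commTerms 21 10 = [(19, -1, 1, 1)] := by
  decide

theorem td4vc_c_21_10 (t u : F) :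
    X 10 u * X 21 t = X 21 t * X 10 u * X 19 (t * u) := by
  have h := td4vc_comm (F := F) 21 10 (by decide) (by decide) (by decide) (by decide) t u
  unfold ChevalleyDatum.commWord at h
  rw [td4vc_terms_21_10] at h
  simp only [List.map_cons, List.map_nil, td4vc_word_cons, td4vc_word_nil, mul_one] at h
  have a0 : (((-1) : ℤ) : F) * (-t) ^ 1 * u ^ 1 = t * u := by
    push_cast
    ring
  rw [a0] at h
  rw [h]

theorem td4vc_terms_21_11 : chevD4.commTerms 21 11 = [] := by
  decide

theorem td4vc_c_21_11 (t u : F) : X 11 u * X 21 t = X 21 t * X 11 u := by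
  have h := td4vc_comm (F := F) 21 11 (by decide) (by decide) (by decide) (by decide) t u
  unfold ChevalleyDatum.commWord at h
  rw [td4vc_terms_21_11] at h
  simp only [List.map_nil, td4vc_word_nil, mul_one] at h
  exact h

theorem td4vc_terms_21_12 : chevD4.commTerms 21 12 = [(22, -1, 1, 1)] := by
  decide

theorem td4vc_c_21_12 (t u : F) :
    X 12 u * X 21 t = X 21 t * X 12 u * X 22 (t * u) := by
  have h := td4vc_comm (F := F) 21 12 (by decide) (by decide) (by decide) (by decide) t u
  unfold ChevalleyDatum.commWord at h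
  rw [td4vc_terms_21_12] at h
  simp only [List.map_cons, List.map_nil, td4vc_word_cons, td4vc_word_nil, mul_one] at h
  have a0 : (((-1) : ℤ) : F) * (-t) ^ 1 * u ^ 1 = t * u := by
    push_cast
    ring
  rw [a0] at h
  rw [h]

theorem td4vc_terms_21_13 : chevD4.commTerms 21 13 = [] := by
  decide

theorem td4vc_c_21_13 (t u : F) : X 13 u * X 21 t = X 21 t * X 13 u := by
  have h := td4vc_comm (F := F) 21 13 (by decide) (by decide) (by decide) (by decide) t u
  unfold ChevalleyDatum.commWord at h
  rw [td4vc_terms_21_13] at h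
  simp only [List.map_nil, td4vc_word_nil, mul_one] at h
  exact h

theorem td4vc_terms_21_14 : chevD4.commTerms 21 14 = [] := by
  decide

theorem td4vc_c_21_14 (t u : F) : X 14 u * X 21 t = X 21 t * X 14 u := by
  have h := td4vc_comm (F := F) 21 14 (by decide) (by decide) (by decide) (by decide) t u
  unfold ChevalleyDatum.commWord at h
  rw [td4vc_terms_21_14] at h
  simp only [List.map_nil, td4vc_word_nil, mul_one] at h
  exact h

theorem td4vc_terms_21_15 : chevD4.commTerms 21 15 = [(23, 1, 1, 1)] := by
  decide

theorem td4vc_c_21_15 (t u : F) :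
    X 15 u * X 21 t = X 21 t * X 15 u * X 23 (-(t * u)) := by
  have h := td4vc_comm (F := F) 21 15 (by decide) (by decide) (by decide) (by decide) t u
  unfold ChevalleyDatum.commWord at h
  rw [td4vc_terms_21_15] at h
  simp only [List.map_cons, List.map_nil, td4vc_word_cons, td4vc_word_nil, mul_one] at h
  have a0 : ((1 : ℤ) : F) * (-t) ^ 1 * u ^ 1 = -(t * u) := by
    push_cast
    ring
  rw [a0] at h
  rw [h]

theorem td4vc_terms_21_16 : chevD4.commTerms 21 16 = [] := by
  decide

theorem td4vc_c_21_16 (t u : F) : X 16 u * X 21 t = X 21 t * X 16 u := by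
  have h := td4vc_comm (F := F) 21 16 (by decide) (by decide) (by decide) (by decide) t u
  unfold ChevalleyDatum.commWord at h
  rw [td4vc_terms_21_16] at h
  simp only [List.map_nil, td4vc_word_nil, mul_one] at h
  exact h

theorem td4vc_terms_21_17 : chevD4.commTerms 21 17 = [] := by
  decide

theorem td4vc_c_21_17 (t u : F) : X 17 u * X 21 t = X 21 t * X 17 u := by
  have h := td4vc_comm (F := F) 21 17 (by decide) (by decide) (by decide) (by decide) t u
  unfold ChevalleyDatum.commWord at h
  rw [td4vc_terms_21_17] at h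
  simp only [List.map_nil, td4vc_word_nil, mul_one] at h
  exact h

theorem td4vc_terms_21_18 : chevD4.commTerms 21 18 = [] := by
  decide

theorem td4vc_c_21_18 (t u : F) : X 18 u * X 21 t = X 21 t * X 18 u := by
  have h := td4vc_comm (F := F) 21 18 (by decide) (by decide) (by decide) (by decide) t u
  unfold ChevalleyDatum.commWord at h
  rw [td4vc_terms_21_18] at h
  simp only [List.map_nil, td4vc_word_nil, mul_one] at h
  exact h

theorem td4vc_terms_21_19 : chevD4.commTerms 21 19 = [] := by
  decide

theorem td4vc_c_21_19 (t u : F) : X 19 u * X 21 t = X 21 t * X 19 u := by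
  have h := td4vc_comm (F := F) 21 19 (by decide) (by decide) (by decide) (by decide) t u
  unfold ChevalleyDatum.commWord at h
  rw [td4vc_terms_21_19] at h
  simp only [List.map_nil, td4vc_word_nil, mul_one] at h
  exact h

theorem td4vc_terms_21_20 : chevD4.commTerms 21 20 = [] := by
  decide

theorem td4vc_c_21_20 (t u : F) : X 20 u * X 21 t = X 21 t * X 20 u := by
  have h := td4vc_comm (F := F) 21 20 (by decide) (by decide) (by decide) (by decide) t u
  unfold ChevalleyDatum.commWord at h
  rw [td4vc_terms_21_20] at h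
  simp only [List.map_nil, td4vc_word_nil, mul_one] at h
  exact h

theorem td4vc_terms_21_22 : chevD4.commTerms 21 22 = [] := by
  decide

theorem td4vc_c_21_22 (t u : F) : X 22 u * X 21 t = X 21 t * X 22 u := by
  have h := td4vc_comm (F := F) 21 22 (by decide) (by decide) (by decide) (by decide) t u
  unfold ChevalleyDatum.commWord at h
  rw [td4vc_terms_21_22] at h
  simp only [List.map_nil, td4vc_word_nil, mul_one] at h
  exact h

theorem td4vc_terms_21_23 : chevD4.commTerms 21 23 = [] := by
  decide

theorem td4vc_c_21_23 (t u : F) : X 23 u * X 21 t = X 21 t * X 23 u := by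
  have h := td4vc_comm (F := F) 21 23 (by decide) (by decide) (by decide) (by decide) t u
  unfold ChevalleyDatum.commWord at h
  rw [td4vc_terms_21_23] at h
  simp only [List.map_nil, td4vc_word_nil, mul_one] at h
  exact h

theorem td4vc_terms_22_0 : chevD4.commTerms 22 0 = [(9, 1, 1, 1)] := by
  decide

theorem td4vc_c_22_0 (t u : F) :
    X 0 u * X 22 t = X 22 t * X 0 u * X 9 (-(t * u)) := by
  have h := td4vc_comm (F := F) 22 0 (by decide) (by decide) (by decide) (by decide) t u
  unfold ChevalleyDatum.commWord at h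
  rw [td4vc_terms_22_0] at h
  simp only [List.map_cons, List.map_nil, td4vc_word_cons, td4vc_word_nil, mul_one] at h
  have a0 : ((1 : ℤ) : F) * (-t) ^ 1 * u ^ 1 = -(t * u) := by
    push_cast
    ring
  rw [a0] at h
  rw [h]

theorem td4vc_terms_22_2 : chevD4.commTerms 22 2 = [(12, 1, 1, 1)] := by
  decide

theorem td4vc_c_22_2 (t u : F) :
    X 2 u * X 22 t = X 22 t * X 2 u * X 12 (-(t * u)) := by
  have h := td4vc_comm (F := F) 22 2 (by decide) (by decide) (by decide) (by decide) t u
  unfold ChevalleyDatum.commWord at h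
  rw [td4vc_terms_22_2] at h
  simp only [List.map_cons, List.map_nil, td4vc_word_cons, td4vc_word_nil, mul_one] at h
  have a0 : ((1 : ℤ) : F) * (-t) ^ 1 * u ^ 1 = -(t * u) := by
    push_cast
    ring
  rw [a0] at h
  rw [h]

theorem td4vc_terms_22_3 : chevD4.commTerms 22 3 = [(13, 1, 1, 1)] := by
  decide

theorem td4vc_c_22_3 (t u : F) :
    X 3 u * X 22 t = X 22 t * X 3 u * X 13 (-(t * u)) := by
  have h := td4vc_comm (F := F) 22 3 (by decide) (by decide) (by decide) (by decide) t u
  unfold ChevalleyDatum.commWord at h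
  rw [td4vc_terms_22_3] at h
  simp only [List.map_cons, List.map_nil, td4vc_word_cons, td4vc_word_nil, mul_one] at h
  have a0 : ((1 : ℤ) : F) * (-t) ^ 1 * u ^ 1 = -(t * u) := by
    push_cast
    ring
  rw [a0] at h
  rw [h]

theorem td4vc_terms_22_4 : chevD4.commTerms 22 4 = [] := by
  decide

theorem td4vc_c_22_4 (t u : F) : X 4 u * X 22 t = X 22 t * X 4 u := by
  have h := td4vc_comm (F := F) 22 4 (by decide) (by decide) (by decide) (by decide) t u
  unfold ChevalleyDatum.commWord at h
  rw [td4vc_terms_22_4] at h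
  simp only [List.map_nil, td4vc_word_nil, mul_one] at h
  exact h

theorem td4vc_terms_22_5 : chevD4.commTerms 22 5 = [(17, 1, 1, 1)] := by
  decide

theorem td4vc_c_22_5 (t u : F) :
    X 5 u * X 22 t = X 22 t * X 5 u * X 17 (-(t * u)) := by
  have h := td4vc_comm (F := F) 22 5 (by decide) (by decide) (by decide) (by decide) t u
  unfold ChevalleyDatum.commWord at h
  rw [td4vc_terms_22_5] at h
  simp only [List.map_cons, List.map_nil, td4vc_word_cons, td4vc_word_nil, mul_one] at h
  have a0 : ((1 : ℤ) : F) * (-t) ^ 1 * u ^ 1 = -(t * u) := by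
    push_cast
    ring
  rw [a0] at h
  rw [h]

theorem td4vc_terms_22_6 : chevD4.commTerms 22 6 = [(18, -1, 1, 1)] := by
  decide

theorem td4vc_c_22_6 (t u : F) :
    X 6 u * X 22 t = X 22 t * X 6 u * X 18 (t * u) := by
  have h := td4vc_comm (F := F) 22 6 (by decide) (by decide) (by decide) (by decide) t u
  unfold ChevalleyDatum.commWord at h
  rw [td4vc_terms_22_6] at h
  simp only [List.map_cons, List.map_nil, td4vc_word_cons, td4vc_word_nil, mul_one] at h
  have a0 : (((-1) : ℤ) : F) * (-t) ^ 1 * u ^ 1 = t * u := by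
    push_cast
    ring
  rw [a0] at h
  rw [h]

theorem td4vc_terms_22_7 : chevD4.commTerms 22 7 = [] := by
  decide

theorem td4vc_c_22_7 (t u : F) : X 7 u * X 22 t = X 22 t * X 7 u := by
  have h := td4vc_comm (F := F) 22 7 (by decide) (by decide) (by decide) (by decide) t u
  unfold ChevalleyDatum.commWord at h
  rw [td4vc_terms_22_7] at h
  simp only [List.map_nil, td4vc_word_nil, mul_one] at h
  exact h

theorem td4vc_terms_22_8 : chevD4.commTerms 22 8 = [] := by
  decide

theorem td4vc_c_22_8 (t u : F) : X 8 u * X 22 t = X 22 t * X 8 u := by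
  have h := td4vc_comm (F := F) 22 8 (by decide) (by decide) (by decide) (by decide) t u
  unfold ChevalleyDatum.commWord at h
  rw [td4vc_terms_22_8] at h
  simp only [List.map_nil, td4vc_word_nil, mul_one] at h
  exact h

theorem td4vc_terms_22_9 : chevD4.commTerms 22 9 = [] := by
  decide

theorem td4vc_c_22_9 (t u : F) : X 9 u * X 22 t = X 22 t * X 9 u := by
  have h := td4vc_comm (F := F) 22 9 (by decide) (by decide) (by decide) (by decide) t u
  unfold ChevalleyDatum.commWord at h
  rw [td4vc_terms_22_9] at h
  simp only [List.map_nil, td4vc_word_nil, mul_one] at h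
  exact h

theorem td4vc_terms_22_10 : chevD4.commTerms 22 10 = [(20, -1, 1, 1)] := by
  decide

theorem td4vc_c_22_10 (t u : F) :
    X 10 u * X 22 t = X 22 t * X 10 u * X 20 (t * u) := by
  have h := td4vc_comm (F := F) 22 10 (by decide) (by decide) (by decide) (by decide) t u
  unfold ChevalleyDatum.commWord at h
  rw [td4vc_terms_22_10] at h
  simp only [List.map_cons, List.map_nil, td4vc_word_cons, td4vc_word_nil, mul_one] at h
  have a0 : (((-1) : ℤ) : F) * (-t) ^ 1 * u ^ 1 = t * u := by
    push_cast
    ring
  rw [a0] at h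
  rw [h]

theorem td4vc_terms_22_11 : chevD4.commTerms 22 11 = [(21, -1, 1, 1)] := by
  decide

theorem td4vc_c_22_11 (t u : F) :
    X 11 u * X 22 t = X 22 t * X 11 u * X 21 (t * u) := by
  have h := td4vc_comm (F := F) 22 11 (by decide) (by decide) (by decide) (by decide) t u
  unfold ChevalleyDatum.commWord at h
  rw [td4vc_terms_22_11] at h
  simp only [List.map_cons, List.map_nil, td4vc_word_cons, td4vc_word_nil, mul_one] at h
  have a0 : (((-1) : ℤ) : F) * (-t) ^ 1 * u ^ 1 = t * u := by
    push_cast
    ring
  rw [a0] at h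
  rw [h]

theorem td4vc_terms_22_12 : chevD4.commTerms 22 12 = [] := by
  decide

theorem td4vc_c_22_12 (t u : F) : X 12 u * X 22 t = X 22 t * X 12 u := by
  have h := td4vc_comm (F := F) 22 12 (by decide) (by decide) (by decide) (by decide) t u
  unfold ChevalleyDatum.commWord at h
  rw [td4vc_terms_22_12] at h
  simp only [List.map_nil, td4vc_word_nil, mul_one] at h
  exact h

theorem td4vc_terms_22_13 : chevD4.commTerms 22 13 = [] := by
  decide

theorem td4vc_c_22_13 (t u : F) : X 13 u * X 22 t = X 22 t * X 13 u := by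
  have h := td4vc_comm (F := F) 22 13 (by decide) (by decide) (by decide) (by decide) t u
  unfold ChevalleyDatum.commWord at h
  rw [td4vc_terms_22_13] at h
  simp only [List.map_nil, td4vc_word_nil, mul_one] at h
  exact h

theorem td4vc_terms_22_14 : chevD4.commTerms 22 14 = [(23, -1, 1, 1)] := by
  decide

theorem td4vc_c_22_14 (t u : F) :
    X 14 u * X 22 t = X 22 t * X 14 u * X 23 (t * u) := by
  have h := td4vc_comm (F := F) 22 14 (by decide) (by decide) (by decide) (by decide) t u
  unfold ChevalleyDatum.commWord at h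
  rw [td4vc_terms_22_14] at h
  simp only [List.map_cons, List.map_nil, td4vc_word_cons, td4vc_word_nil, mul_one] at h
  have a0 : (((-1) : ℤ) : F) * (-t) ^ 1 * u ^ 1 = t * u := by
    push_cast
    ring
  rw [a0] at h
  rw [h]

theorem td4vc_terms_22_15 : chevD4.commTerms 22 15 = [] := by
  decide

theorem td4vc_c_22_15 (t u : F) : X 15 u * X 22 t = X 22 t * X 15 u := by
  have h := td4vc_comm (F := F) 22 15 (by decide) (by decide) (by decide) (by decide) t u
  unfold ChevalleyDatum.commWord at h
  rw [td4vc_terms_22_15] at h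
  simp only [List.map_nil, td4vc_word_nil, mul_one] at h
  exact h

theorem td4vc_terms_22_16 : chevD4.commTerms 22 16 = [] := by
  decide

theorem td4vc_c_22_16 (t u : F) : X 16 u * X 22 t = X 22 t * X 16 u := by
  have h := td4vc_comm (F := F) 22 16 (by decide) (by decide) (by decide) (by decide) t u
  unfold ChevalleyDatum.commWord at h
  rw [td4vc_terms_22_16] at h
  simp only [List.map_nil, td4vc_word_nil, mul_one] at h
  exact h

theorem td4vc_terms_22_17 : chevD4.commTerms 22 17 = [] := by
  decide

theorem td4vc_c_22_17 (t u : F) : X 17 u * X 22 t = X 22 t * X 17 u := by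
  have h := td4vc_comm (F := F) 22 17 (by decide) (by decide) (by decide) (by decide) t u
  unfold ChevalleyDatum.commWord at h
  rw [td4vc_terms_22_17] at h
  simp only [List.map_nil, td4vc_word_nil, mul_one] at h
  exact h

theorem td4vc_terms_22_18 : chevD4.commTerms 22 18 = [] := by
  decide

theorem td4vc_c_22_18 (t u : F) : X 18 u * X 22 t = X 22 t * X 18 u := by
  have h := td4vc_comm (F := F) 22 18 (by decide) (by decide) (by decide) (by decide) t u
  unfold ChevalleyDatum.commWord at h
  rw [td4vc_terms_22_18] at h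
  simp only [List.map_nil, td4vc_word_nil, mul_one] at h
  exact h

theorem td4vc_terms_22_19 : chevD4.commTerms 22 19 = [] := by
  decide

theorem td4vc_c_22_19 (t u : F) : X 19 u * X 22 t = X 22 t * X 19 u := by
  have h := td4vc_comm (F := F) 22 19 (by decide) (by decide) (by decide) (by decide) t u
  unfold ChevalleyDatum.commWord at h
  rw [td4vc_terms_22_19] at h
  simp only [List.map_nil, td4vc_word_nil, mul_one] at h
  exact h

theorem td4vc_terms_22_20 : chevD4.commTerms 22 20 = [] := by
  decide

theorem td4vc_c_22_20 (t u : F) : X 20 u * X 22 t = X 22 t * X 20 u := by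
  have h := td4vc_comm (F := F) 22 20 (by decide) (by decide) (by decide) (by decide) t u
  unfold ChevalleyDatum.commWord at h
  rw [td4vc_terms_22_20] at h
  simp only [List.map_nil, td4vc_word_nil, mul_one] at h
  exact h

theorem td4vc_terms_22_21 : chevD4.commTerms 22 21 = [] := by
  decide

theorem td4vc_c_22_21 (t u : F) : X 21 u * X 22 t = X 22 t * X 21 u := by
  have h := td4vc_comm (F := F) 22 21 (by decide) (by decide) (by decide) (by decide) t u
  unfold ChevalleyDatum.commWord at h
  rw [td4vc_terms_22_21] at h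
  simp only [List.map_nil, td4vc_word_nil, mul_one] at h
  exact h

theorem td4vc_terms_22_23 : chevD4.commTerms 22 23 = [] := by
  decide

theorem td4vc_c_22_23 (t u : F) : X 23 u * X 22 t = X 22 t * X 23 u := by
  have h := td4vc_comm (F := F) 22 23 (by decide) (by decide) (by decide) (by decide) t u
  unfold ChevalleyDatum.commWord at h
  rw [td4vc_terms_22_23] at h
  simp only [List.map_nil, td4vc_word_nil, mul_one] at h
  exact h

theorem td4vc_terms_23_1 : chevD4.commTerms 23 1 = [(14, 1, 1, 1)] := by
  decide

theorem td4vc_c_23_1 (t u : F) :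
    X 1 u * X 23 t = X 23 t * X 1 u * X 14 (-(t * u)) := by
  have h := td4vc_comm (F := F) 23 1 (by decide) (by decide) (by decide) (by decide) t u
  unfold ChevalleyDatum.commWord at h
  rw [td4vc_terms_23_1] at h
  simp only [List.map_cons, List.map_nil, td4vc_word_cons, td4vc_word_nil, mul_one] at h
  have a0 : ((1 : ℤ) : F) * (-t) ^ 1 * u ^ 1 = -(t * u) := by
    push_cast
    ring
  rw [a0] at h
  rw [h]

theorem td4vc_terms_23_2 : chevD4.commTerms 23 2 = [(15, -1, 1, 1)] := by
  decide

theorem td4vc_c_23_2 (t u : F) :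
    X 2 u * X 23 t = X 23 t * X 2 u * X 15 (t * u) := by
  have h := td4vc_comm (F := F) 23 2 (by decide) (by decide) (by decide) (by decide) t u
  unfold ChevalleyDatum.commWord at h
  rw [td4vc_terms_23_2] at h
  simp only [List.map_cons, List.map_nil, td4vc_word_cons, td4vc_word_nil, mul_one] at h
  have a0 : (((-1) : ℤ) : F) * (-t) ^ 1 * u ^ 1 = t * u := by
    push_cast
    ring
  rw [a0] at h
  rw [h]

theorem td4vc_terms_23_3 : chevD4.commTerms 23 3 = [(16, -1, 1, 1)] := by
  decide

theorem td4vc_c_23_3 (t u : F) :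
    X 3 u * X 23 t = X 23 t * X 3 u * X 16 (t * u) := by
  have h := td4vc_comm (F := F) 23 3 (by decide) (by decide) (by decide) (by decide) t u
  unfold ChevalleyDatum.commWord at h
  rw [td4vc_terms_23_3] at h
  simp only [List.map_cons, List.map_nil, td4vc_word_cons, td4vc_word_nil, mul_one] at h
  have a0 : (((-1) : ℤ) : F) * (-t) ^ 1 * u ^ 1 = t * u := by
    push_cast
    ring
  rw [a0] at h
  rw [h]

theorem td4vc_terms_23_4 : chevD4.commTerms 23 4 = [(17, 1, 1, 1)] := by
  decide

theorem td4vc_c_23_4 (t u : F) :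
    X 4 u * X 23 t = X 23 t * X 4 u * X 17 (-(t * u)) := by
  have h := td4vc_comm (F := F) 23 4 (by decide) (by decide) (by decide) (by decide) t u
  unfold ChevalleyDatum.commWord at h
  rw [td4vc_terms_23_4] at h
  simp only [List.map_cons, List.map_nil, td4vc_word_cons, td4vc_word_nil, mul_one] at h
  have a0 : ((1 : ℤ) : F) * (-t) ^ 1 * u ^ 1 = -(t * u) := by
    push_cast
    ring
  rw [a0] at h
  rw [h]

theorem td4vc_terms_23_5 : chevD4.commTerms 23 5 = [] := by
  decide

theorem td4vc_c_23_5 (t u : F) : X 5 u * X 23 t = X 23 t * X 5 u := by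
  have h := td4vc_comm (F := F) 23 5 (by decide) (by decide) (by decide) (by decide) t u
  unfold ChevalleyDatum.commWord at h
  rw [td4vc_terms_23_5] at h
  simp only [List.map_nil, td4vc_word_nil, mul_one] at h
  exact h

theorem td4vc_terms_23_6 : chevD4.commTerms 23 6 = [(19, -1, 1, 1)] := by
  decide

theorem td4vc_c_23_6 (t u : F) :
    X 6 u * X 23 t = X 23 t * X 6 u * X 19 (t * u) := by
  have h := td4vc_comm (F := F) 23 6 (by decide) (by decide) (by decide) (by decide) t u
  unfold ChevalleyDatum.commWord at h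
  rw [td4vc_terms_23_6] at h
  simp only [List.map_cons, List.map_nil, td4vc_word_cons, td4vc_word_nil, mul_one] at h
  have a0 : (((-1) : ℤ) : F) * (-t) ^ 1 * u ^ 1 = t * u := by
    push_cast
    ring
  rw [a0] at h
  rw [h]

theorem td4vc_terms_23_7 : chevD4.commTerms 23 7 = [(20, 1, 1, 1)] := by
  decide

theorem td4vc_c_23_7 (t u : F) :
    X 7 u * X 23 t = X 23 t * X 7 u * X 20 (-(t * u)) := by
  have h := td4vc_comm (F := F) 23 7 (by decide) (by decide) (by decide) (by decide) t u
  unfold ChevalleyDatum.commWord at h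
  rw [td4vc_terms_23_7] at h
  simp only [List.map_cons, List.map_nil, td4vc_word_cons, td4vc_word_nil, mul_one] at h
  have a0 : ((1 : ℤ) : F) * (-t) ^ 1 * u ^ 1 = -(t * u) := by
    push_cast
    ring
  rw [a0] at h
  rw [h]

theorem td4vc_terms_23_8 : chevD4.commTerms 23 8 = [(21, 1, 1, 1)] := by
  decide

theorem td4vc_c_23_8 (t u : F) :
    X 8 u * X 23 t = X 23 t * X 8 u * X 21 (-(t * u)) := by
  have h := td4vc_comm (F := F) 23 8 (by decide) (by decide) (by decide) (by decide) t u
  unfold ChevalleyDatum.commWord at h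
  rw [td4vc_terms_23_8] at h
  simp only [List.map_cons, List.map_nil, td4vc_word_cons, td4vc_word_nil, mul_one] at h
  have a0 : ((1 : ℤ) : F) * (-t) ^ 1 * u ^ 1 = -(t * u) := by
    push_cast
    ring
  rw [a0] at h
  rw [h]

theorem td4vc_terms_23_9 : chevD4.commTerms 23 9 = [(22, -1, 1, 1)] := by
  decide

theorem td4vc_c_23_9 (t u : F) :
    X 9 u * X 23 t = X 23 t * X 9 u * X 22 (t * u) := by
  have h := td4vc_comm (F := F) 23 9 (by decide) (by decide) (by decide) (by decide) t u
  unfold ChevalleyDatum.commWord at h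
  rw [td4vc_terms_23_9] at h
  simp only [List.map_cons, List.map_nil, td4vc_word_cons, td4vc_word_nil, mul_one] at h
  have a0 : (((-1) : ℤ) : F) * (-t) ^ 1 * u ^ 1 = t * u := by
    push_cast
    ring
  rw [a0] at h
  rw [h]

theorem td4vc_terms_23_10 : chevD4.commTerms 23 10 = [] := by
  decide

theorem td4vc_c_23_10 (t u : F) : X 10 u * X 23 t = X 23 t * X 10 u := by
  have h := td4vc_comm (F := F) 23 10 (by decide) (by decide) (by decide) (by decide) t u
  unfold ChevalleyDatum.commWord at h
  rw [td4vc_terms_23_10] at h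
  simp only [List.map_nil, td4vc_word_nil, mul_one] at h
  exact h

theorem td4vc_terms_23_11 : chevD4.commTerms 23 11 = [] := by
  decide

theorem td4vc_c_23_11 (t u : F) : X 11 u * X 23 t = X 23 t * X 11 u := by
  have h := td4vc_comm (F := F) 23 11 (by decide) (by decide) (by decide) (by decide) t u
  unfold ChevalleyDatum.commWord at h
  rw [td4vc_terms_23_11] at h
  simp only [List.map_nil, td4vc_word_nil, mul_one] at h
  exact h

theorem td4vc_terms_23_12 : chevD4.commTerms 23 12 = [] := by
  decide

theorem td4vc_c_23_12 (t u : F) : X 12 u * X 23 t = X 23 t * X 12 u := by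
  have h := td4vc_comm (F := F) 23 12 (by decide) (by decide) (by decide) (by decide) t u
  unfold ChevalleyDatum.commWord at h
  rw [td4vc_terms_23_12] at h
  simp only [List.map_nil, td4vc_word_nil, mul_one] at h
  exact h

theorem td4vc_terms_23_13 : chevD4.commTerms 23 13 = [] := by
  decide

theorem td4vc_c_23_13 (t u : F) : X 13 u * X 23 t = X 23 t * X 13 u := by
  have h := td4vc_comm (F := F) 23 13 (by decide) (by decide) (by decide) (by decide) t u
  unfold ChevalleyDatum.commWord at h
  rw [td4vc_terms_23_13] at h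
  simp only [List.map_nil, td4vc_word_nil, mul_one] at h
  exact h

theorem td4vc_terms_23_14 : chevD4.commTerms 23 14 = [] := by
  decide

theorem td4vc_c_23_14 (t u : F) : X 14 u * X 23 t = X 23 t * X 14 u := by
  have h := td4vc_comm (F := F) 23 14 (by decide) (by decide) (by decide) (by decide) t u
  unfold ChevalleyDatum.commWord at h
  rw [td4vc_terms_23_14] at h
  simp only [List.map_nil, td4vc_word_nil, mul_one] at h
  exact h

theorem td4vc_terms_23_15 : chevD4.commTerms 23 15 = [] := by
  decide

theorem td4vc_c_23_15 (t u : F) : X 15 u * X 23 t = X 23 t * X 15 u := by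
  have h := td4vc_comm (F := F) 23 15 (by decide) (by decide) (by decide) (by decide) t u
  unfold ChevalleyDatum.commWord at h
  rw [td4vc_terms_23_15] at h
  simp only [List.map_nil, td4vc_word_nil, mul_one] at h
  exact h

theorem td4vc_terms_23_16 : chevD4.commTerms 23 16 = [] := by
  decide

theorem td4vc_c_23_16 (t u : F) : X 16 u * X 23 t = X 23 t * X 16 u := by
  have h := td4vc_comm (F := F) 23 16 (by decide) (by decide) (by decide) (by decide) t u
  unfold ChevalleyDatum.commWord at h
  rw [td4vc_terms_23_16] at h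
  simp only [List.map_nil, td4vc_word_nil, mul_one] at h
  exact h

theorem td4vc_terms_23_17 : chevD4.commTerms 23 17 = [] := by
  decide

theorem td4vc_c_23_17 (t u : F) : X 17 u * X 23 t = X 23 t * X 17 u := by
  have h := td4vc_comm (F := F) 23 17 (by decide) (by decide) (by decide) (by decide) t u
  unfold ChevalleyDatum.commWord at h
  rw [td4vc_terms_23_17] at h
  simp only [List.map_nil, td4vc_word_nil, mul_one] at h
  exact h

theorem td4vc_terms_23_18 : chevD4.commTerms 23 18 = [] := by
  decide

theorem td4vc_c_23_18 (t u : F) : X 18 u * X 23 t = X 23 t * X 18 u := by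
  have h := td4vc_comm (F := F) 23 18 (by decide) (by decide) (by decide) (by decide) t u
  unfold ChevalleyDatum.commWord at h
  rw [td4vc_terms_23_18] at h
  simp only [List.map_nil, td4vc_word_nil, mul_one] at h
  exact h

theorem td4vc_terms_23_19 : chevD4.commTerms 23 19 = [] := by
  decide

theorem td4vc_c_23_19 (t u : F) : X 19 u * X 23 t = X 23 t * X 19 u := by
  have h := td4vc_comm (F := F) 23 19 (by decide) (by decide) (by decide) (by decide) t u
  unfold ChevalleyDatum.commWord at h
  rw [td4vc_terms_23_19] at h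
  simp only [List.map_nil, td4vc_word_nil, mul_one] at h
  exact h

theorem td4vc_terms_23_20 : chevD4.commTerms 23 20 = [] := by
  decide

theorem td4vc_c_23_20 (t u : F) : X 20 u * X 23 t = X 23 t * X 20 u := by
  have h := td4vc_comm (F := F) 23 20 (by decide) (by decide) (by decide) (by decide) t u
  unfold ChevalleyDatum.commWord at h
  rw [td4vc_terms_23_20] at h
  simp only [List.map_nil, td4vc_word_nil, mul_one] at h
  exact h

theorem td4vc_terms_23_21 : chevD4.commTerms 23 21 = [] := by
  decide

theorem td4vc_c_23_21 (t u : F) : X 21 u * X 23 t = X 23 t * X 21 u := by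
  have h := td4vc_comm (F := F) 23 21 (by decide) (by decide) (by decide) (by decide) t u
  unfold ChevalleyDatum.commWord at h
  rw [td4vc_terms_23_21] at h
  simp only [List.map_nil, td4vc_word_nil, mul_one] at h
  exact h

theorem td4vc_terms_23_22 : chevD4.commTerms 23 22 = [] := by
  decide

theorem td4vc_c_23_22 (t u : F) : X 22 u * X 23 t = X 23 t * X 22 u := by
  have h := td4vc_comm (F := F) 23 22 (by decide) (by decide) (by decide) (by decide) t u
  unfold ChevalleyDatum.commWord at h
  rw [td4vc_terms_23_22] at h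
  simp only [List.map_nil, td4vc_word_nil, mul_one] at h
  exact h

end Cfsg.Agent.Lib.helper23.TD4V
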