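import Mathlib
import Cfsg.Agent.Lib.helper23.TD4V.Defs
import Cfsg.Agent.Lib.helper23.TD4VComm0
import Cfsg.Agent.Lib.helper23.TD4VComm1
import Cfsg.Agent.Lib.helper23.TD4VComm2
import Cfsg.Agent.Lib.helper23.TD4VComm3

/-!
# Project TD4V (S2462), row JH (`ident_H`), verbatim; and the membership of the root elements in `QK`, `QmK`.
-/

set_option autoImplicit false

namespace Cfsg.Agent.Lib.helper23.TD4V

open Cfsg.Lie Cfsg.Lie.ChevalleyDatum Matrix
open Cfsg.Agent.Lib.helper8

universe u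

variable {K : Type u} [Field K]

/-- `X r t ∈ QK` for the eleven roots of `QK` -/
theorem td4vjh_X_mem_QK (r : ℕ) (hr : r ∈ [12, 13, 15, 16, 17, 18, 19, 20, 21, 22, 23]) (t : K) :
    X r t ∈ QK K := by
  unfold QK ChevalleyDatum.unipotentRadical
  apply Subgroup.subset_closure
  refine ⟨r, t, ?_, ?_, rfl⟩
  · simp only [List.mem_cons, List.mem_nil_iff, or_false] at hr
    rcases hr with rfl | rfl | rfl | rfl | rfl | rfl | rfl | rfl | rfl | rfl | rfl <;> decide
  · simp only [List.mem_cons, List.mem_nil_iff, or_false] at hr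
    unfold ChevalleyDatum.InRootSub
    rcases hr with rfl | rfl | rfl | rfl | rfl | rfl | rfl | rfl | rfl | rfl | rfl
    all_goals
      intro h
      first
        | (have := h.2 0 (by decide) (by simp); revert this; decide)
        | (have := h.2 2 (by decide) (by simp); revert this; decide)
        | (have := h.2 3 (by decide) (by simp); revert this; decide)

/-- `X r t ∈ QmK` for the eleven roots of `QmK` -/
theorem td4vjh_X_mem_QmK (r : ℕ) (hr : r ∈ [0, 1, 2, 3, 4, 5, 6, 7, 8, 10, 11]) (t : K) :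
    X r t ∈ QmK K := by
  unfold QmK
  apply Subgroup.subset_closure
  refine ⟨r, t, ?_, ?_, rfl⟩
  · simp only [List.mem_cons, List.mem_nil_iff, or_false] at hr
    rcases hr with rfl | rfl | rfl | rfl | rfl | rfl | rfl | rfl | rfl | rfl | rfl <;> decide
  · simp only [List.mem_cons, List.mem_nil_iff, or_false] at hr
    unfold ChevalleyDatum.InRootSub
    rcases hr with rfl | rfl | rfl | rfl | rfl | rfl | rfl | rfl | rfl | rfl | rfl
    all_goals
      intro h
      first
        | (have := h.2 0 (by decide) (by simp); revert this; decide)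
        | (have := h.2 2 (by decide) (by simp); revert this; decide)
        | (have := h.2 3 (by decide) (by simp); revert this; decide)

/-- **JH**. -/
theorem ident_H (s r1 r2 r3 : K) :
    ∃ u ∈ QK K, X 22 s * XmA r1 r2 r3 = XmA r1 r2 r3 * X 14 (s * r1 * r2 * r3) * u := by
  -- tail forms of the commutation rules
  have c5_22 : ∀ (t u : K) (z : GG K),
      X 22 u * (X 5 t * z) = X 5 t * (X 22 u * (X 17 (t * u) * z)) := by
    intro t u z
    rw [← mul_assoc, td4vc_c_5_22, mul_assoc, mul_assoc]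
  have c10_17 : ∀ (t u : K) (z : GG K),
      X 17 u * (X 10 t * z) = X 10 t * (X 17 u * (X 15 (-(t * u)) * z)) := by
    intro t u z
    rw [← mul_assoc, td4vc_c_10_17, mul_assoc, mul_assoc]
  have c10_22 : ∀ (t u : K) (z : GG K),
      X 22 u * (X 10 t * z) = X 10 t * (X 22 u * (X 20 (-(t * u)) * z)) := by
    intro t u z
    rw [← mul_assoc, td4vc_c_10_22, mul_assoc, mul_assoc]
  have c11_15 : ∀ (t u : K) (z : GG K),
      X 15 u * (X 11 t * z) = X 11 t * (X 15 u * (X 14 (-(t * u)) * z)) := by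
    intro t u z
    rw [← mul_assoc, td4vc_c_11_15, mul_assoc, mul_assoc]
  have c11_17 : ∀ (t u : K) (z : GG K),
      X 17 u * (X 11 t * z) = X 11 t * (X 17 u * (X 16 (-(t * u)) * z)) := by
    intro t u z
    rw [← mul_assoc, td4vc_c_11_17, mul_assoc, mul_assoc]
  have c11_20 : ∀ (t u : K) (z : GG K),
      X 20 u * (X 11 t * z) = X 11 t * (X 20 u * (X 19 (-(t * u)) * z)) := by
    intro t u z
    rw [← mul_assoc, td4vc_c_11_20, mul_assoc, mul_assoc]
  have c11_22 : ∀ (t u : K) (z : GG K),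
      X 22 u * (X 11 t * z) = X 11 t * (X 22 u * (X 21 (-(t * u)) * z)) := by
    intro t u z
    rw [← mul_assoc, td4vc_c_11_22, mul_assoc, mul_assoc]
  have c14_15 : ∀ (t u : K) (z : GG K), X 15 u * (X 14 t * z) = X 14 t * (X 15 u * z) := by
    intro t u z
    rw [← mul_assoc, td4vc_c_14_15, mul_assoc]
  have c14_16 : ∀ (t u : K) (z : GG K), X 16 u * (X 14 t * z) = X 14 t * (X 16 u * z) := by
    intro t u z
    rw [← mul_assoc, td4vc_c_14_16, mul_assoc]
  have c14_17 : ∀ (t u : K) (z : GG K), X 17 u * (X 14 t * z) = X 14 t * (X 17 u * z) := by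
    intro t u z
    rw [← mul_assoc, td4vc_c_14_17, mul_assoc]
  have c14_19 : ∀ (t u : K) (z : GG K), X 19 u * (X 14 t * z) = X 14 t * (X 19 u * z) := by
    intro t u z
    rw [← mul_assoc, td4vc_c_14_19, mul_assoc]
  have c14_20 : ∀ (t u : K) (z : GG K), X 20 u * (X 14 t * z) = X 14 t * (X 20 u * z) := by
    intro t u z
    rw [← mul_assoc, td4vc_c_14_20, mul_assoc]
  have c14_21 : ∀ (t u : K) (z : GG K), X 21 u * (X 14 t * z) = X 14 t * (X 21 u * z) := by
    intro t u z
    rw [← mul_assoc, td4vc_c_14_21, mul_assoc]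
  have c14_22 : ∀ (t u : K) (z : GG K),
      X 22 u * (X 14 t * z) = X 14 t * (X 22 u * (X 23 (-(t * u)) * z)) := by
    intro t u z
    rw [← mul_assoc, td4vc_c_14_22, mul_assoc, mul_assoc]
  -- the computation
  obtain ⟨w, hw⟩ : ∃ w, X 22 s * (X 5 r1 * (X 10 r2 * (X 11 r3 * 1))) = w := ⟨_, rfl⟩
  have hw0 := hw
  rw [c5_22, c10_17, c10_22, c11_15, c11_17, c11_20, c11_22] at hw
  rw [c14_15, c14_16, c14_17, c14_19, c14_20, c14_21, c14_22] at hw
  have m : ∀ (r : ℕ) (_ : r ∈ [12, 13, 15, 16, 17, 18, 19, 20, 21, 22, 23]) (t : K), X r t ∈ QK K :=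
    fun r hr t => td4vjh_X_mem_QK r hr t
  refine ⟨X 22 s * (X 23 (-(-(r3 * -(r2 * (r1 * s))) * s)) * (X 21 (-(r3 * s)) * (X 20 (-(r2 * s)) *
    (X 19 (-(r3 * -(r2 * s))) * (X 17 (r1 * s) * (X 16 (-(r3 * (r1 * s))) *
      (X 15 (-(r2 * (r1 * s))) * 1))))))), ?_, ?_⟩
  · exact Subgroup.mul_mem _ (m 22 (by simp) _) (Subgroup.mul_mem _ (m 23 (by simp) _)
      (Subgroup.mul_mem _ (m 21 (by simp) _) (Subgroup.mul_mem _ (m 20 (by simp) _)
        (Subgroup.mul_mem _ (m 19 (by simp) _) (Subgroup.mul_mem _ (m 17 (by simp) _)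
          (Subgroup.mul_mem _ (m 16 (by simp) _) (Subgroup.mul_mem _ (m 15 (by simp) _)
            (Subgroup.one_mem _))))))))
  · have e1 : X 22 s * XmA r1 r2 r3 = X 22 s * (X 5 r1 * (X 10 r2 * (X 11 r3 * 1))) := by
      unfold XmA
      rw [mul_one, mul_assoc]
    have e2 : (s * r1 * r2 * r3 : K) = -(r3 * -(r2 * (r1 * s))) := by ring
    rw [e1, hw0, ← hw, e2]
    unfold XmA
    simp only [mul_assoc]

end Cfsg.Agent.Lib.helper23.TD4V
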