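import Mathlib
import Cfsg.Agent.Lib.helper23.TD4V.Defs
import Cfsg.Agent.Lib.helper23.TD4VComm0
import Cfsg.Agent.Lib.helper23.TD4VComm1
import Cfsg.Agent.Lib.helper23.TD4VComm2
import Cfsg.Agent.Lib.helper23.TD4VComm3
import Cfsg.Agent.Lib.helper23.TD4VJH
import Cfsg.Agent.Lib.helper8.ChevLvl6

/-!
# Project TD4V (S2462), row Q2 (`norm_QmK`), verbatim: the Levi subgroup `LK` normalises the opposite radical `QmK`.
-/

set_option autoImplicit false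

namespace Cfsg.Agent.Lib.helper23.TD4V

open Cfsg.Lie Cfsg.Lie.ChevalleyDatum Matrix
open Cfsg.Agent.Lib.helper8

universe u

variable {K : Type u} [Field K]

theorem td4vq2_9_0 (a b : K) : (X 9 a)⁻¹ * X 0 b * X 9 a ∈ QmK K := by
  rw [mul_assoc, td4vc_c_9_0, inv_mul_cancel_left]
  exact td4vjh_X_mem_QmK 0 (by simp) _

theorem td4vq2_9_1 (a b : K) : (X 9 a)⁻¹ * X 1 b * X 9 a ∈ QmK K := by
  rw [mul_assoc, td4vc_c_9_1, mul_assoc, inv_mul_cancel_left]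
  exact Subgroup.mul_mem _ (td4vjh_X_mem_QmK 1 (by simp) _) (td4vjh_X_mem_QmK 0 (by simp) _)

theorem td4vq2_9_2 (a b : K) : (X 9 a)⁻¹ * X 2 b * X 9 a ∈ QmK K := by
  rw [mul_assoc, td4vc_c_9_2, inv_mul_cancel_left]
  exact td4vjh_X_mem_QmK 2 (by simp) _

theorem td4vq2_9_3 (a b : K) : (X 9 a)⁻¹ * X 3 b * X 9 a ∈ QmK K := by
  rw [mul_assoc, td4vc_c_9_3, inv_mul_cancel_left]
  exact td4vjh_X_mem_QmK 3 (by simp) _

theorem td4vq2_9_4 (a b : K) : (X 9 a)⁻¹ * X 4 b * X 9 a ∈ QmK K := by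
  rw [mul_assoc, td4vc_c_9_4, inv_mul_cancel_left]
  exact td4vjh_X_mem_QmK 4 (by simp) _

theorem td4vq2_9_5 (a b : K) : (X 9 a)⁻¹ * X 5 b * X 9 a ∈ QmK K := by
  rw [mul_assoc, td4vc_c_9_5, mul_assoc, inv_mul_cancel_left]
  exact Subgroup.mul_mem _ (td4vjh_X_mem_QmK 5 (by simp) _) (td4vjh_X_mem_QmK 4 (by simp) _)

theorem td4vq2_9_6 (a b : K) : (X 9 a)⁻¹ * X 6 b * X 9 a ∈ QmK K := by
  rw [mul_assoc, td4vc_c_9_6, inv_mul_cancel_left]
  exact td4vjh_X_mem_QmK 6 (by simp) _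

theorem td4vq2_9_7 (a b : K) : (X 9 a)⁻¹ * X 7 b * X 9 a ∈ QmK K := by
  rw [mul_assoc, td4vc_c_9_7, inv_mul_cancel_left]
  exact td4vjh_X_mem_QmK 7 (by simp) _

theorem td4vq2_9_8 (a b : K) : (X 9 a)⁻¹ * X 8 b * X 9 a ∈ QmK K := by
  rw [mul_assoc, td4vc_c_9_8, inv_mul_cancel_left]
  exact td4vjh_X_mem_QmK 8 (by simp) _

theorem td4vq2_9_10 (a b : K) : (X 9 a)⁻¹ * X 10 b * X 9 a ∈ QmK K := by
  rw [mul_assoc, td4vc_c_9_10, mul_assoc, inv_mul_cancel_left]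
  exact Subgroup.mul_mem _ (td4vjh_X_mem_QmK 10 (by simp) _) (td4vjh_X_mem_QmK 7 (by simp) _)

theorem td4vq2_9_11 (a b : K) : (X 9 a)⁻¹ * X 11 b * X 9 a ∈ QmK K := by
  rw [mul_assoc, td4vc_c_9_11, mul_assoc, inv_mul_cancel_left]
  exact Subgroup.mul_mem _ (td4vjh_X_mem_QmK 11 (by simp) _) (td4vjh_X_mem_QmK 8 (by simp) _)

theorem td4vq2_14_0 (a b : K) : (X 14 a)⁻¹ * X 0 b * X 14 a ∈ QmK K := by
  rw [mul_assoc, td4vc_c_14_0, mul_assoc, inv_mul_cancel_left]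
  exact Subgroup.mul_mem _ (td4vjh_X_mem_QmK 0 (by simp) _) (td4vjh_X_mem_QmK 1 (by simp) _)

theorem td4vq2_14_1 (a b : K) : (X 14 a)⁻¹ * X 1 b * X 14 a ∈ QmK K := by
  rw [mul_assoc, td4vc_c_14_1, inv_mul_cancel_left]
  exact td4vjh_X_mem_QmK 1 (by simp) _

theorem td4vq2_14_2 (a b : K) : (X 14 a)⁻¹ * X 2 b * X 14 a ∈ QmK K := by
  rw [mul_assoc, td4vc_c_14_2, inv_mul_cancel_left]
  exact td4vjh_X_mem_QmK 2 (by simp) _

theorem td4vq2_14_3 (a b : K) : (X 14 a)⁻¹ * X 3 b * X 14 a ∈ QmK K := by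
  rw [mul_assoc, td4vc_c_14_3, inv_mul_cancel_left]
  exact td4vjh_X_mem_QmK 3 (by simp) _

theorem td4vq2_14_4 (a b : K) : (X 14 a)⁻¹ * X 4 b * X 14 a ∈ QmK K := by
  rw [mul_assoc, td4vc_c_14_4, mul_assoc, inv_mul_cancel_left]
  exact Subgroup.mul_mem _ (td4vjh_X_mem_QmK 4 (by simp) _) (td4vjh_X_mem_QmK 5 (by simp) _)

theorem td4vq2_14_5 (a b : K) : (X 14 a)⁻¹ * X 5 b * X 14 a ∈ QmK K := by
  rw [mul_assoc, td4vc_c_14_5, inv_mul_cancel_left]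
  exact td4vjh_X_mem_QmK 5 (by simp) _

theorem td4vq2_14_6 (a b : K) : (X 14 a)⁻¹ * X 6 b * X 14 a ∈ QmK K := by
  rw [mul_assoc, td4vc_c_14_6, inv_mul_cancel_left]
  exact td4vjh_X_mem_QmK 6 (by simp) _

theorem td4vq2_14_7 (a b : K) : (X 14 a)⁻¹ * X 7 b * X 14 a ∈ QmK K := by
  rw [mul_assoc, td4vc_c_14_7, mul_assoc, inv_mul_cancel_left]
  exact Subgroup.mul_mem _ (td4vjh_X_mem_QmK 7 (by simp) _) (td4vjh_X_mem_QmK 10 (by simp) _)

theorem td4vq2_14_8 (a b : K) : (X 14 a)⁻¹ * X 8 b * X 14 a ∈ QmK K := by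
  rw [mul_assoc, td4vc_c_14_8, mul_assoc, inv_mul_cancel_left]
  exact Subgroup.mul_mem _ (td4vjh_X_mem_QmK 8 (by simp) _) (td4vjh_X_mem_QmK 11 (by simp) _)

theorem td4vq2_14_10 (a b : K) : (X 14 a)⁻¹ * X 10 b * X 14 a ∈ QmK K := by
  rw [mul_assoc, td4vc_c_14_10, inv_mul_cancel_left]
  exact td4vjh_X_mem_QmK 10 (by simp) _

theorem td4vq2_14_11 (a b : K) : (X 14 a)⁻¹ * X 11 b * X 14 a ∈ QmK K := by
  rw [mul_assoc, td4vc_c_14_11, inv_mul_cancel_left]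
  exact td4vjh_X_mem_QmK 11 (by simp) _

/-- the roots of the Levi subgroup are `9` and `14` -/
theorem td4vq2_levi_roots (r : ℕ) (h : chevD4.InRootSub ({1} : Set ℕ) r) : r = 9 ∨ r = 14 := by
  obtain ⟨hr, h⟩ := h
  have h0 := h 0 (by decide) (by simp)
  have h2 := h 2 (by decide) (by simp)
  have h3 := h 3 (by decide) (by simp)
  have key : ∀ r < 24, (chevD4.coroot.getD r #[]).getD 0 0 = 0 → (chevD4.coroot.getD r #[]).getD 2 0 = 0 →
      (chevD4.coroot.getD r #[]).getD 3 0 = 0 → r = 9 ∨ r = 14 := by decide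
  exact key r hr h0 h2 h3

/-- the roots of `QmK` -/
theorem td4vq2_neg_roots (r : ℕ) (h : chevD4.IsNegRoot r) (h' : ¬ chevD4.InRootSub ({1} : Set ℕ) r) :
    r ∈ [0, 1, 2, 3, 4, 5, 6, 7, 8, 10, 11] := by
  have key : ∀ r < 24, chevD4.IsNegRoot r → r ≠ 9 → r ∈ [0, 1, 2, 3, 4, 5, 6, 7, 8, 10, 11] := by decide
  refine key r h.1 h ?_
  rintro rfl
  apply h'
  refine ⟨by decide, ?_⟩
  intro i hi hiJ
  have hi4 : i < 4 := hi
  have hi1 : i ≠ 1 := by simpa using hiJ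
  interval_cases i
  · decide
  · exact absurd rfl hi1
  · decide
  · decide

theorem td4vq2_conj (s : ℕ) (hs : s = 9 ∨ s = 14) (r : ℕ) (hr : r ∈ [0, 1, 2, 3, 4, 5, 6, 7, 8, 10, 11])
    (a b : K) : (X s a)⁻¹ * X r b * X s a ∈ QmK K := by
  simp only [List.mem_cons, List.mem_nil_iff, or_false] at hr
  rcases hs with rfl | rfl
  · rcases hr with rfl | rfl | rfl | rfl | rfl | rfl | rfl | rfl | rfl | rfl | rfl
    · exact td4vq2_9_0 a b
    · exact td4vq2_9_1 a b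
    · exact td4vq2_9_2 a b
    · exact td4vq2_9_3 a b
    · exact td4vq2_9_4 a b
    · exact td4vq2_9_5 a b
    · exact td4vq2_9_6 a b
    · exact td4vq2_9_7 a b
    · exact td4vq2_9_8 a b
    · exact td4vq2_9_10 a b
    · exact td4vq2_9_11 a b
  · rcases hr with rfl | rfl | rfl | rfl | rfl | rfl | rfl | rfl | rfl | rfl | rfl
    · exact td4vq2_14_0 a b
    · exact td4vq2_14_1 a b
    · exact td4vq2_14_2 a b
    · exact td4vq2_14_3 a b
    · exact td4vq2_14_4 a b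
    · exact td4vq2_14_5 a b
    · exact td4vq2_14_6 a b
    · exact td4vq2_14_7 a b
    · exact td4vq2_14_8 a b
    · exact td4vq2_14_10 a b
    · exact td4vq2_14_11 a b

theorem td4vq2_LK_le : LK K ≤ Subgroup.normalizer (QmK K : Set (GG K)) := by
  unfold LK ChevalleyDatum.leviSubgroup
  have hgen : ∀ (h : GG K), h ∈ chevD4.diagonalSubgroup K → ∀ x ∈ {g : GG K |
      ∃ (r : ℕ) (t : K), chevD4.IsNegRoot r ∧ ¬ chevD4.InRootSub ({1} : Set ℕ) r ∧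
        (g : Matrix chevD4.Idx chevD4.Idx K) = chevD4.x K r t}, h * x * h⁻¹ ∈ QmK K := by
    rintro h hh x ⟨r, t, hr, hrJ, hx⟩
    have hx' : x = h8xU chevD4 hB r t := Units.ext (by rw [hx, h8xU_val])
    obtain ⟨c, _, hact⟩ := h8perm_H_id chevD4 hB h hh r hr.1
    rw [hx', hact t]
    unfold QmK
    apply Subgroup.subset_closure
    exact ⟨r, c * t, hr, hrJ, h8xU_val chevD4 hB r _⟩
  have hgen2 : ∀ (s : ℕ) (a : K), (s = 9 ∨ s = 14) → ∀ x ∈ {g : GG K |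
      ∃ (r : ℕ) (t : K), chevD4.IsNegRoot r ∧ ¬ chevD4.InRootSub ({1} : Set ℕ) r ∧
        (g : Matrix chevD4.Idx chevD4.Idx K) = chevD4.x K r t},
      (X s a)⁻¹ * x * X s a ∈ QmK K := by
    rintro s a hs x ⟨r, t, hr, hrJ, hx⟩
    have hx' : x = X r t := Units.ext (by rw [hx]; unfold X; rw [h8xU_val])
    rw [hx']
    exact td4vq2_conj s hs r (td4vq2_neg_roots r hr hrJ) a t
  apply sup_le
  · intro h hh
    unfold QmK
    apply h8mem_normalizer_of_conj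
    · exact hgen h hh
    · intro x hx
      have := hgen h⁻¹ (Subgroup.inv_mem _ hh) x hx
      rwa [inv_inv] at this
  · rw [Subgroup.closure_le]
    rintro g ⟨s, a, hsJ, hg⟩
    have hg' : g = X s a := Units.ext (by rw [hg]; unfold X; rw [h8xU_val])
    have hs := td4vq2_levi_roots s hsJ
    rw [hg']
    unfold QmK
    apply h8mem_normalizer_of_conj
    · intro x hx
      have := hgen2 s (-a) hs x hx
      rw [td4vc_inv, neg_neg] at this
      rw [td4vc_inv]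
      exact this
    · exact hgen2 s a hs

/-- Q2 without the finiteness assumption -/
theorem td4vq2_norm (g : GG K) (hg : g ∈ LK K) (v : GG K) (hv : v ∈ QmK K) : g * v * g⁻¹ ∈ QmK K := by
  have h := td4vq2_LK_le hg
  rw [Subgroup.mem_normalizer_iff] at h
  exact (h v).mp hv

/-- **Q2** (verbatim: the skeleton's section carries `[Fintype K]`). -/
theorem norm_QmK [Fintype K] (g : GG K) (hg : g ∈ LK K) (v : GG K) (hv : v ∈ QmK K) :
    g * v * g⁻¹ ∈ QmK K :=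
  td4vq2_norm g hg v hv

end Cfsg.Agent.Lib.helper23.TD4V
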