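import Mathlib
import Cfsg.Prelude.Def_ChevStructure
import Cfsg.Agent.Lib.helper14.INV.Defs

/-!
# Project INV, piece SAMEPERM: two elements of `N` acting in the same way on the root subgroups
differ by an element of `H`
-/

set_option autoImplicit false
set_option linter.unusedVariables false

namespace Cfsg.Agent.Lib.helper14.INV

open Cfsg.Lie Cfsg.Lie.ChevalleyDatum Cfsg.Agent.Lib.helper8 Cfsg.Agent.Lib.helper14

universe u

variable {F : Type u} [Field F]

/-- the number of inversions of the identity vanishes -/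
theorem h23inv_Ninv_one (D : ChevalleyDatum) : h8Ninv D (1 : Equiv.Perm (Fin D.nroots)) = 0 := by
  unfold h8Ninv
  rw [Finset.card_eq_zero, Finset.filter_eq_empty_iff]
  intro r _ h
  exact h.2 h.1

/-- an element of `N` acting trivially on the root subgroups lies in `H` -/
theorem h23inv_N_triv_act (D : ChevalleyDatum) (hB : H8Base.{u} D) (hA : H8ReflAll D) (hBN : H8BN D)
    (hW : H8BN2 D) (hO2 : H8Ord2 D) (n : GL D.Idx F) (hn : n ∈ D.monomialSubgroup F)
    (ha : ∀ r < D.nroots, H8Act D hB n r r) : n ∈ D.diagonalSubgroup F := by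
  obtain ⟨dep, par, horb⟩ := hBN.orb
  have hP : H8Perm D hB n := h8perm_N D hB hA dep par horb n hn
  have h1 : h8permOf D hB n hP = 1 := by
    apply Equiv.ext
    intro r
    rw [Equiv.Perm.one_apply]
    exact h8permOf_eq D hB hA hBN hW hO2 n hP r r (ha r.val r.2)
  apply h8perm_kernel D hB hA hBN hW hO2 n hn hP
  rw [h1]
  exact h23inv_Ninv_one D

/-- SAMEPERM : two elements of `N` acting in the same way on the root subgroups differ by `H` -/
theorem N_same_perm (D : ChevalleyDatum) (hB : H8Base.{u} D) (hA : H8ReflAll D) (hBN : H8BN D)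
    (hW : H8BN2 D) (hO2 : H8Ord2 D) (n₁ n₂ : GL D.Idx F) (h₁ : n₁ ∈ D.monomialSubgroup F)
    (h₂ : n₂ ∈ D.monomialSubgroup F) (σ : ℕ → ℕ)
    (ha₁ : ∀ r < D.nroots, H8Act D hB n₁ r (σ r)) (ha₂ : ∀ r < D.nroots, H8Act D hB n₂ r (σ r)) :
    n₁⁻¹ * n₂ ∈ D.diagonalSubgroup F := by
  apply h23inv_N_triv_act D hB hA hBN hW hO2 _ (Subgroup.mul_mem _ (Subgroup.inv_mem _ h₁) h₂)
  intro r hr
  exact h8act_mul D hB n₁⁻¹ n₂ r (σ r) r (ha₂ r hr) (h8act_inv D hB n₁ r (σ r) (ha₁ r hr))

end Cfsg.Agent.Lib.helper14.INV
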