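import Mathlib
import Cfsg.Prelude.Def_GeometricClasses
import Cfsg.Agent.Lib.Helper27.ASC.Defs
import Cfsg.Agent.Lib.Helper19.ASG.Defs
import Cfsg.Agent.Lib.Helper18.ASP.Defs
import Cfsg.Agent.Lib.Lead.ASCU.Defs
import Cfsg.Agent.Lib.Helper29.ASCGRAM
import Cfsg.Agent.Lib.Helper22.ASCONORMS
import Cfsg.Agent.Lib.Helper22.ASCODESC
import Cfsg.Agent.Lib.helper23.ASCOBIU

set_option autoImplicit false
set_option linter.unusedVariables false
set_option linter.unusedSectionVars false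

/-!
# Project ASP, block D2S, piece BIU (helper23)

An absolutely irreducible group fixing a non-degenerate bilinear form (Gram matrix `A`) and a non-degenerate
`σ`-sesquilinear form (Gram matrix `B`), `σ` an involution, is realisable over the fixed field of `σ`.
-/

namespace Cfsg.Agent.Lib.Helper18.ASP

open Cfsg Cfsg.Geo Cfsg.Agent.Lib.Helper27.ASC Cfsg.Agent.Lib.Helper19.ASG Cfsg.Agent.Lib.Lead.ASCU
open Cfsg.Agent.Lib.helper23.ASCO
open scoped MatrixGroups Matrix

variable {n : ℕ} {F : Type*} [Field F] [Fintype F]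

/-- the matrix form of BIU: invariant invertible Gram matrices `A` (bilinear) and `B` (`σ`-sesquilinear) -/
theorem aspd2sbiu_matrix_core {P : Subgroup (GL (Fin n) F)} (hA : AbsIrr P) (σ : F ≃+* F)
    (hσ1 : σ ≠ RingEquiv.refl F) (hσ : ∀ a : F, σ (σ a) = a)
    (A B : Matrix (Fin n) (Fin n) F) (hAu : IsUnit A.det) (hBu : IsUnit B.det)
    (hinvA : ∀ s ∈ P, (s : Matrix (Fin n) (Fin n) F)ᵀ * A * (s : Matrix (Fin n) (Fin n) F) = A)
    (hinvB : ∀ s ∈ P, (s : Matrix (Fin n) (Fin n) F)ᵀ * B * (s : Matrix (Fin n) (Fin n) F).map σ = B) :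
    ∃ F₀ : Subfield F, F₀ ≠ ⊤ ∧ RealisableOver F₀ (matrixSet P) := by
  classical
  refine ⟨ascobiuFix σ, ascobiu_fix_ne_top σ hσ1, ?_⟩
  rcases Nat.eq_zero_or_pos n with hn0 | hnpos
  · subst hn0
    exact ⟨1, fun s _ i => i.elim0⟩
  have hN : ∀ c : F, σ c = c → ∃ d : F, d * σ d = c :=
    fun c hc => norm_surjective_of_involution σ hσ1 hσ c hc
  have hD : ∀ S : Matrix (Fin n) (Fin n) F, S * S.map σ = 1 →
      ∃ M : GL (Fin n) F, S * (M : Matrix (Fin n) (Fin n) F).map σ = (M : Matrix (Fin n) (Fin n) F) :=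
    fun S hS => semilinear_descent σ hσ1 hσ S hS
  -- the intertwiner `T = B⁻¹ A`
  have hBB : B⁻¹ * B = 1 := Matrix.nonsing_inv_mul B hBu
  have hBB' : B * B⁻¹ = 1 := Matrix.mul_nonsing_inv B hBu
  obtain ⟨T, hT⟩ : ∃ T : Matrix (Fin n) (Fin n) F, T = B⁻¹ * A := ⟨_, rfl⟩
  have hTdet : T.det ≠ 0 := by
    rw [hT, Matrix.det_mul]
    have h1 : (B⁻¹).det ≠ 0 := by
      intro h0
      have := congrArg Matrix.det hBB
      rw [Matrix.det_mul, h0, zero_mul, Matrix.det_one] at this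
      exact zero_ne_one this
    exact mul_ne_zero h1 hAu.ne_zero
  have hint : ∀ s ∈ P, (s : Matrix (Fin n) (Fin n) F).map σ * T = T * (s : Matrix (Fin n) (Fin n) F) := by
    intro s hs
    have hs' : s⁻¹ ∈ P := P.inv_mem hs
    obtain ⟨R, hR⟩ : ∃ R : Matrix (Fin n) (Fin n) F, R = ((s⁻¹ : GL (Fin n) F) : Matrix (Fin n) (Fin n) F)ᵀ :=
      ⟨_, rfl⟩
    have hss : ((s⁻¹ : GL (Fin n) F) : Matrix (Fin n) (Fin n) F) * (s : Matrix (Fin n) (Fin n) F) = 1 := by
      rw [← Units.val_mul, inv_mul_cancel, Units.val_one]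
    have e1 : R * A = A * (s : Matrix (Fin n) (Fin n) F) := by
      have := hinvA _ hs'
      rw [← hR] at this
      calc R * A = R * A * (((s⁻¹ : GL (Fin n) F) : Matrix (Fin n) (Fin n) F) * (s : Matrix (Fin n) (Fin n) F)) := by
            rw [hss, Matrix.mul_one]
        _ = (R * A * ((s⁻¹ : GL (Fin n) F) : Matrix (Fin n) (Fin n) F)) * (s : Matrix (Fin n) (Fin n) F) := by
            rw [Matrix.mul_assoc (R * A)]
        _ = A * (s : Matrix (Fin n) (Fin n) F) := by rw [this]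
    have e2 : R * B = B * (s : Matrix (Fin n) (Fin n) F).map σ := by
      have := hinvB _ hs'
      rw [← hR] at this
      have hss' : ((s⁻¹ : GL (Fin n) F) : Matrix (Fin n) (Fin n) F).map σ * (s : Matrix (Fin n) (Fin n) F).map σ = 1 := by
        rw [← ascobiu_map_mul, hss, ascobiu_map_one]
      calc R * B = R * B * (((s⁻¹ : GL (Fin n) F) : Matrix (Fin n) (Fin n) F).map σ * (s : Matrix (Fin n) (Fin n) F).map σ) := by
            rw [hss', Matrix.mul_one]
        _ = (R * B * ((s⁻¹ : GL (Fin n) F) : Matrix (Fin n) (Fin n) F).map σ) * (s : Matrix (Fin n) (Fin n) F).map σ := by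
            rw [Matrix.mul_assoc (R * B)]
        _ = B * (s : Matrix (Fin n) (Fin n) F).map σ := by rw [this]
    have e3 : (s : Matrix (Fin n) (Fin n) F).map σ = B⁻¹ * R * B := by
      rw [Matrix.mul_assoc, e2, ← Matrix.mul_assoc, hBB, Matrix.one_mul]
    rw [hT, e3]
    calc B⁻¹ * R * B * (B⁻¹ * A) = B⁻¹ * R * (B * B⁻¹) * A := by
          simp only [Matrix.mul_assoc]
      _ = B⁻¹ * (R * A) := by rw [hBB', Matrix.mul_one, Matrix.mul_assoc]
      _ = B⁻¹ * A * (s : Matrix (Fin n) (Fin n) F) := by rw [e1, Matrix.mul_assoc]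
  have hint' : ∀ s ∈ P, (s : Matrix (Fin n) (Fin n) F) * T.map σ = T.map σ * (s : Matrix (Fin n) (Fin n) F).map σ := by
    intro s hs
    have := congrArg (fun X : Matrix (Fin n) (Fin n) F => X.map σ) (hint s hs)
    simp only [ascobiu_map_mul, ascobiu_map_map σ hσ] at this
    exact this
  -- `σ(T) T` is a scalar
  obtain ⟨c, hc⟩ : ∃ c : F, T.map σ * T = c • (1 : Matrix (Fin n) (Fin n) F) := by
    apply hA.2
    rintro _ ⟨s, hs, rfl⟩
    show T.map σ * T * (s : Matrix (Fin n) (Fin n) F) = (s : Matrix (Fin n) (Fin n) F) * (T.map σ * T)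
    rw [Matrix.mul_assoc, ← hint s hs, ← Matrix.mul_assoc, ← hint' s hs, Matrix.mul_assoc]
  have hc0 : c ≠ 0 := by
    intro h0
    have : Nonempty (Fin n) := ⟨⟨0, hnpos⟩⟩
    have := congrArg Matrix.det hc
    rw [Matrix.det_mul, ascobiu_det_map, h0, zero_smul, Matrix.det_zero] at this
    rcases mul_eq_zero.mp this with h | h
    · exact hTdet ((map_eq_zero σ).mp h)
    · exact hTdet h
  have hc' : T * T.map σ = c • (1 : Matrix (Fin n) (Fin n) F) := by
    have h1 : (c⁻¹ • T.map σ) * T = 1 := by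
      rw [Matrix.smul_mul, hc, smul_smul, inv_mul_cancel₀ hc0, one_smul]
    have h2 := mul_eq_one_comm.mp h1
    rw [Matrix.mul_smul] at h2
    have := congrArg (fun X : Matrix (Fin n) (Fin n) F => c • X) h2
    simp only [smul_smul, mul_inv_cancel₀ hc0, one_smul] at this
    exact this
  have hσc : σ c = c := by
    have := congrArg (fun X : Matrix (Fin n) (Fin n) F => X.map σ) hc
    simp only [ascobiu_map_mul, ascobiu_map_map σ hσ, ascobiu_map_smul, ascobiu_map_one] at this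
    rw [hc'] at this
    have := congrFun (congrFun this ⟨0, hnpos⟩) ⟨0, hnpos⟩
    simpa using this.symm
  obtain ⟨e, he⟩ := hN c hσc
  have he0 : e ≠ 0 := by
    intro h0
    rw [h0, zero_mul] at he
    exact hc0 he.symm
  obtain ⟨S, hS⟩ : ∃ S : Matrix (Fin n) (Fin n) F, S = (e * c⁻¹) • T.map σ := ⟨_, rfl⟩
  have hSS : S * S.map σ = 1 := by
    rw [hS, ascobiu_map_smul, ascobiu_map_map σ hσ, Matrix.smul_mul, Matrix.mul_smul, hc, smul_smul, smul_smul,
      map_mul, map_inv₀, hσc]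
    have : e * c⁻¹ * (σ e * c⁻¹) * c = 1 := by
      have h4 : e * c⁻¹ * (σ e * c⁻¹) * c = (e * σ e) * c⁻¹ * (c⁻¹ * c) := by ring
      rw [h4, he, inv_mul_cancel₀ hc0, mul_one, mul_inv_cancel₀ hc0]
    rw [this, one_smul]
  obtain ⟨M, hM⟩ := hD S hSS
  refine ⟨M⁻¹, ?_⟩
  rintro _ ⟨s, hs, rfl⟩ i j
  rw [inv_inv]
  obtain ⟨X, hX⟩ : ∃ X : Matrix (Fin n) (Fin n) F,
      X = ((M⁻¹ : GL (Fin n) F) : Matrix (Fin n) (Fin n) F) * (s : Matrix (Fin n) (Fin n) F) *
        (M : Matrix (Fin n) (Fin n) F) := ⟨_, rfl⟩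
  rw [← hX]
  have hMM : (M : Matrix (Fin n) (Fin n) F) * ((M⁻¹ : GL (Fin n) F) : Matrix (Fin n) (Fin n) F) = 1 := by
    rw [← Units.val_mul, mul_inv_cancel, Units.val_one]
  have hMM' : ((M⁻¹ : GL (Fin n) F) : Matrix (Fin n) (Fin n) F) * (M : Matrix (Fin n) (Fin n) F) = 1 := by
    rw [← Units.val_mul, inv_mul_cancel, Units.val_one]
  have hMX : (M : Matrix (Fin n) (Fin n) F) * X = (s : Matrix (Fin n) (Fin n) F) * (M : Matrix (Fin n) (Fin n) F) := by
    rw [hX, ← Matrix.mul_assoc, ← Matrix.mul_assoc, hMM, Matrix.one_mul]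
  have hMX' : (M : Matrix (Fin n) (Fin n) F) * X.map σ = (s : Matrix (Fin n) (Fin n) F) * (M : Matrix (Fin n) (Fin n) F) := by
    have h1 := congrArg (fun Y : Matrix (Fin n) (Fin n) F => S * Y.map σ) hMX
    simp only [ascobiu_map_mul] at h1
    rw [← Matrix.mul_assoc, hM] at h1
    rw [h1, hS, Matrix.smul_mul, ← Matrix.mul_assoc, ← hint' s hs, Matrix.mul_assoc, ← Matrix.mul_smul,
      ← Matrix.smul_mul, ← hS, hM]
  have hXX : X.map σ = X := by
    have := hMX'.trans hMX.symm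
    have h3 := congrArg (fun Y : Matrix (Fin n) (Fin n) F => ((M⁻¹ : GL (Fin n) F) : Matrix (Fin n) (Fin n) F) * Y) this
    simp only [← Matrix.mul_assoc, hMM', Matrix.one_mul] at h3
    exact h3
  rw [ascobiu_mem_fix]
  have := congrFun (congrFun hXX i) j
  simpa using this

/-- D2S-BIU : an absolutely irreducible group fixing `f` and a unitary form is realisable over the fixed field of `σ` -/
theorem sp_realisable_of_unitary {P : Subgroup (GL (Fin n) F)} (hA : AbsIrr P)
    (f : (Fin n → F) → (Fin n → F) → F) (hf : IsSymplecticForm f) (hfix : FixesForm (matrixSet P) f)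
    (σ : F ≃+* F) (g : (Fin n → F) → (Fin n → F) → F) (hg : IsUnitaryForm σ g)
    (hfixg : FixesForm (matrixSet P) g) : ∃ F₀ : Subfield F, F₀ ≠ ⊤ ∧ RealisableOver F₀ (matrixSet P) := by
  classical
  -- the Gram matrix of `f`
  have hBbil : IsBilinearForm f := hf.bilinear
  obtain ⟨A, hAdef⟩ : ∃ A : Matrix (Fin n) (Fin n) F, A = ascformGram f := ⟨_, rfl⟩
  have hgramA : ∀ u v : Fin n → F, f u v = u ⬝ᵥ (A *ᵥ (fun j => (RingHom.id F) (v j))) := by
    intro u v
    rw [hAdef]
    exact ascform_gram (RingHom.id F) f hBbil.add_left hBbil.smul_left hBbil.add_right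
      (fun c v x => by simpa using hBbil.smul_right c v x) u v
  have hgramA' : ∀ u v : Fin n → F, f u v = u ⬝ᵥ (A *ᵥ v) := by
    intro u v
    have := hgramA u v
    simpa using this
  have hAu : IsUnit A.det := by
    apply ascform_gram_isUnit_det (RingEquiv.refl F) A
    intro v hv
    obtain ⟨x, hx⟩ := (hf.nondegenerate v hv).1
    refine ⟨x, ?_⟩
    have := hgramA' x v
    simpa [this] using hx
  have hinvA : ∀ s ∈ P, (s : Matrix (Fin n) (Fin n) F)ᵀ * A * (s : Matrix (Fin n) (Fin n) F) = A := by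
    intro s hs
    have key : (s : Matrix (Fin n) (Fin n) F)ᵀ * A *
        (s : Matrix (Fin n) (Fin n) F).map (RingHom.id F) = A := by
      apply ascform_ext (RingHom.id F)
      intro u v
      rw [← ascform_transport (RingHom.id F) A (s : Matrix (Fin n) (Fin n) F) u v]
      have hsm : (s : Matrix (Fin n) (Fin n) F) ∈ matrixSet P := ⟨s, hs, rfl⟩
      rw [← hgramA, ← hgramA, hfix _ hsm]
    have e : (s : Matrix (Fin n) (Fin n) F).map (RingHom.id F) = (s : Matrix (Fin n) (Fin n) F) := by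
      ext i j; simp
    rw [e] at key
    exact key
  -- the Gram matrix of the unitary form
  obtain ⟨τ, hτ⟩ : ∃ τ : F →+* F, τ = (σ : F →+* F) := ⟨_, rfl⟩
  have hτa : ∀ a : F, τ a = σ a := fun a => by rw [hτ]; rfl
  have har : ∀ v x y : Fin n → F, g v (x + y) = g v x + g v y := by
    intro v x y
    rw [hg.herm v (x + y), hg.add_left, map_add, ← hg.herm, ← hg.herm]
  have hsr : ∀ (c : F) (v x : Fin n → F), g v (c • x) = τ c * g v x := by
    intro c v x
    rw [hg.herm v (c • x), hg.smul_left, map_mul, ← hg.herm, hτa]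
  obtain ⟨B, hBdef⟩ : ∃ B : Matrix (Fin n) (Fin n) F, B = ascformGram g := ⟨_, rfl⟩
  have hgramB : ∀ u v : Fin n → F, g u v = u ⬝ᵥ (B *ᵥ (fun j => τ (v j))) := by
    intro u v
    rw [hBdef]
    exact ascform_gram τ g hg.add_left hg.smul_left har hsr u v
  have hBu : IsUnit B.det := by
    apply ascform_gram_isUnit_det σ B
    intro v hv
    obtain ⟨x, hx⟩ := (hg.nondegenerate v hv).1
    refine ⟨x, ?_⟩
    have h1 := hgramB x v
    have e : (fun j => τ (v j)) = (fun j => σ (v j)) := by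
      ext j; exact hτa _
    rw [e] at h1
    rw [← h1]
    exact hx
  have hinvB : ∀ s ∈ P, (s : Matrix (Fin n) (Fin n) F)ᵀ * B * (s : Matrix (Fin n) (Fin n) F).map σ = B := by
    intro s hs
    have key : (s : Matrix (Fin n) (Fin n) F)ᵀ * B * (s : Matrix (Fin n) (Fin n) F).map τ = B := by
      apply ascform_ext τ
      intro u v
      rw [← ascform_transport τ B (s : Matrix (Fin n) (Fin n) F) u v]
      have hsm : (s : Matrix (Fin n) (Fin n) F) ∈ matrixSet P := ⟨s, hs, rfl⟩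
      rw [← hgramB, ← hgramB, hfixg _ hsm]
    have e : (s : Matrix (Fin n) (Fin n) F).map τ = (s : Matrix (Fin n) (Fin n) F).map σ := by
      ext i j; simp [hτa]
    rw [e] at key
    exact key
  exact aspd2sbiu_matrix_core hA σ hg.ne_refl hg.involutive A B hAu hBu hinvA hinvB

end Cfsg.Agent.Lib.Helper18.ASP
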