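import Mathlib
import Cfsg.Prelude.Def_GeometricClasses
import Cfsg.Agent.Lib.Helper27.ASC.Defs
import Cfsg.Agent.Lib.Helper19.ASG.Defs
import Cfsg.Agent.Lib.Helper26.ASGD1.Defs

set_option autoImplicit false
set_option linter.unusedVariables false
set_option linter.unusedSectionVars false

/-!
# Project ASG, block D1, piece NSUP (helper23)
-/

namespace Cfsg.Agent.Lib.Helper19.ASG

open Cfsg Cfsg.Geo Cfsg.Agent.Lib.Helper27.ASC
open scoped MatrixGroups Matrix

variable {n : ℕ} {F : Type*} [Field F] [Fintype F]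

theorem asgd1nsup_le_normalizer {H R : Subgroup (GL (Fin n) F)} (hRH : D1NormBy R H) :
    H ≤ Subgroup.normalizer (R : Set (GL (Fin n) F)) := by
  intro h hh
  rw [Subgroup.mem_normalizer_iff]
  intro y
  constructor
  · intro hy
    exact hRH h hh y hy
  · intro hy
    have := hRH h⁻¹ (H.inv_mem hh) _ hy
    have e : h⁻¹ * (h * y * h⁻¹) * h⁻¹⁻¹ = y := by group
    rwa [e] at this

/-- D1-NSUP : `R` normalised by `H` is normal in `H ⊔ R`, and `H` is inside the normaliser of `R` -/
theorem d1_normalIn_sup {H R : Subgroup (GL (Fin n) F)} (hRH : D1NormBy R H) :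
    NormalIn R (H ⊔ R) ∧ H ≤ subgroupNormalizer R := by
  have h1 := asgd1nsup_le_normalizer hRH
  refine ⟨⟨le_sup_right, ?_⟩, h1⟩
  have h2 : H ⊔ R ≤ Subgroup.normalizer (R : Set (GL (Fin n) F)) := sup_le h1 Subgroup.le_normalizer
  intro h hh x hx
  have := h2 hh
  rw [Subgroup.mem_normalizer_iff] at this
  exact (this x).mp hx

end Cfsg.Agent.Lib.Helper19.ASG
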