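import Mathlib
import Cfsg.Agent.Lib.Helper10.BGL.FldDefs

/-!
# Project BGL (designer Helper10; S2189 / S2190), block FLD, row FL4 (`aset_negroot`), verbatim from `SkelFLD.lean.txt` (helper23)
-/

set_option autoImplicit false

namespace Cfsg.Agent.Lib.Helper10.BGL

open Cfsg.Lie Cfsg.Lie.ChevalleyDatum Cfsg.Agent.Lib.helper8

universe u

variable {K : Type u} [Field K] [Finite K]

omit [Finite K] in
/-- the Weyl element of `SL(2, K)` exchanges the two root groups -/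
theorem bglfl04_weyl (t : K) : sx (1 : K) * sy (-1) * sx 1 * sx t = sy (-t) * (sx (1 : K) * sy (-1) * sx 1) := by
  apply Subtype.ext
  show (sx (1 : K)).1 * (sy (-1 : K)).1 * (sx (1 : K)).1 * (sx t).1 =
    (sy (-t)).1 * ((sx (1 : K)).1 * (sy (-1 : K)).1 * (sx (1 : K)).1)
  simp only [sx, sy, Matrix.mul_fin_two]
  ext i j
  fin_cases i <;> fin_cases j <;> simp

/-- FL4 [S].  `aset_sl2`: `w = sx 1 * sy (-1) * sx 1`, `φ w ∈ Lq ≤ H`, and
`w * sx t * w⁻¹ = sy (-t)` in `SL(2, K)`. -/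
theorem aset_negroot (p : ℕ) [Fact p.Prime] [CharP K p] (D : ChevalleyDatum)
    (hD : D ∈ [chevG2, chevB2, chevD4, chevF4, chevE6, chevE7, chevE8]) (a : ℕ)
    (H : Subgroup (GL D.Idx K)) (hL : Lq D K (p ^ a) ≤ H) (s : ℕ) (hs : s < D.nroots) :
    Aset D H (D.neg s) = Aset D H s := by
  have hB := h8base_all.{u} D hD
  obtain ⟨φ, hφx, hφy⟩ := aset_sl2 (K := K) D hD s hs
  have h1 : (1 : K) ^ (p ^ a) = 1 := one_pow _
  have hm1 : (-1 : K) ^ (p ^ a) = -1 := neg_one_pow_char_pow K p a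
  have hw : φ (sx (1 : K) * sy (-1) * sx 1) ∈ H := by
    rw [map_mul, map_mul, hφx, hφy]
    exact mul_mem (mul_mem (hL (x_mem_Lq D _ s 1 h1 _ (h8xU_val D hB s 1)))
      (hL (x_mem_Lq D _ (D.neg s) (-1) hm1 _ (h8xU_val D hB (D.neg s) (-1)))))
      (hL (x_mem_Lq D _ s 1 h1 _ (h8xU_val D hB s 1)))
  have hconj : ∀ t : K, φ (sx (1 : K) * sy (-1) * sx 1) * h8xU D hB s t =
      h8xU D hB (D.neg s) (-t) * φ (sx (1 : K) * sy (-1) * sx 1) := by
    intro t
    rw [← hφx, ← hφy, ← map_mul, ← map_mul, bglfl04_weyl]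
  ext t
  rw [aset_iff D hB, aset_iff D hB]
  constructor
  · intro h
    have e : h8xU D hB s (-t) = (φ (sx (1 : K) * sy (-1) * sx 1))⁻¹ * h8xU D hB (D.neg s) t *
        φ (sx (1 : K) * sy (-1) * sx 1) := by
      have := hconj (-t)
      rw [neg_neg] at this
      rw [mul_assoc, ← this, inv_mul_cancel_left]
    have h2 : h8xU D hB s (-t) ∈ H := by
      rw [e]
      exact mul_mem (mul_mem (inv_mem hw) h) hw
    have h3 := aset_neg D hB H s (-t) ((aset_iff D hB H s (-t)).2 h2)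
    rw [neg_neg] at h3
    exact (aset_iff D hB H s t).1 h3
  · intro h
    have e : h8xU D hB (D.neg s) (-t) = φ (sx (1 : K) * sy (-1) * sx 1) * h8xU D hB s t *
        (φ (sx (1 : K) * sy (-1) * sx 1))⁻¹ := by
      rw [hconj t, mul_inv_cancel_right]
    have h2 : h8xU D hB (D.neg s) (-t) ∈ H := by
      rw [e]
      exact mul_mem (mul_mem hw h) (inv_mem hw)
    have h3 := aset_neg D hB H (D.neg s) (-t) ((aset_iff D hB H (D.neg s) (-t)).2 h2)
    rw [neg_neg] at h3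
    exact (aset_iff D hB H (D.neg s) t).1 h3

end Cfsg.Agent.Lib.Helper10.BGL
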