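import Mathlib
import Cfsg.Agent.Lib.Helper10.BGL.FldDefs

/-!
# Project BGL (designer Helper10; S2189 / S2190), block FLD, row FL6 (`sl2_conj_two`), verbatim from `SkelFLD.lean.txt` (helper23)

The dihedral trick in characteristic 2: `σ₁ = sx t`, `σ₂ = sy 1` are involutions, `σ₁ σ₂` has odd order `2m + 1`, and
`ρ = (σ₁ σ₂)^m` conjugates `σ₁` to `σ₂`; then `ρ (sx u) ρ⁻¹ = sy (u / t)`.
-/

set_option autoImplicit false

namespace Cfsg.Agent.Lib.Helper10.BGL

open Cfsg.Lie Cfsg.Lie.ChevalleyDatum Cfsg.Agent.Lib.helper8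

universe u

variable {K : Type u} [Field K] [Finite K]

/-- an involution inverts its product with another involution -/
theorem bglfl06_conj_inv {G : Type*} [Group G] {A B : G} (hA : A * A = 1) (hB : B * B = 1) :
    A * (A * B) * A⁻¹ = (A * B)⁻¹ := by
  have eA : A⁻¹ = A := inv_eq_of_mul_eq_one_left hA
  have eB : B⁻¹ = B := inv_eq_of_mul_eq_one_left hB
  rw [mul_inv_rev, eA, eB, ← mul_assoc, hA, one_mul]

theorem bglfl06_conj_inv' {G : Type*} [Group G] {A B : G} (hA : A * A = 1) (hB : B * B = 1) :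
    B * (A * B) * B⁻¹ = (A * B)⁻¹ := by
  have eA : A⁻¹ = A := inv_eq_of_mul_eq_one_left hA
  have eB : B⁻¹ = B := inv_eq_of_mul_eq_one_left hB
  rw [mul_inv_rev, eA, eB, mul_assoc, mul_assoc, hB, mul_one]

/-- the dihedral conjugation for odd order -/
theorem bglfl06_dihedral {G : Type*} [Group G] {A B : G} (hA : A * A = 1) (hB : B * B = 1) (m : ℕ)
    (hc : (A * B) ^ (2 * m + 1) = 1) : (A * B) ^ m * A * ((A * B) ^ m)⁻¹ = B := by
  have eA : A⁻¹ = A := inv_eq_of_mul_eq_one_left hA
  have eB : B⁻¹ = B := inv_eq_of_mul_eq_one_left hB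
  have h1 : ((A * B) ^ m)⁻¹ = A * (A * B) ^ m * A⁻¹ := by
    rw [← conj_pow, bglfl06_conj_inv hA hB, inv_pow]
  have h2 : (A * B) ^ (2 * m) = (A * B)⁻¹ := by
    apply eq_inv_of_mul_eq_one_left
    rw [← pow_succ]
    exact hc
  calc (A * B) ^ m * A * ((A * B) ^ m)⁻¹ = (A * B) ^ m * A * (A * (A * B) ^ m * A⁻¹) := by rw [h1]
    _ = (A * B) ^ m * (A * A) * (A * B) ^ m * A⁻¹ := by group
    _ = (A * B) ^ (2 * m) * A := by rw [hA, mul_one, ← pow_add, eA, two_mul]
    _ = B := by rw [h2, mul_inv_rev, eA, eB, mul_assoc, hA, mul_one]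

omit [Finite K] in
/-- an element of `SL(2, K)`, `K` of characteristic 2, commuting with `sx t` (`t ≠ 0`) and `sy 1` is trivial -/
theorem bglfl06_cent [CharP K 2] (t : K) (ht : t ≠ 0) (z : Matrix.SpecialLinearGroup (Fin 2) K)
    (h1 : z * sx t = sx t * z) (h2 : z * sy (1 : K) = sy 1 * z) : z = 1 := by
  have e1 : z.1 * (sx t).1 = (sx t).1 * z.1 := congrArg Subtype.val h1
  have e2 : z.1 * (sy (1 : K)).1 = (sy (1 : K)).1 * z.1 := congrArg Subtype.val h2
  have hdet : z.1 0 0 * z.1 1 1 - z.1 0 1 * z.1 1 0 = 1 := by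
    have := z.2
    rwa [Matrix.det_fin_two] at this
  have e100 := congrFun (congrFun e1 0) 0
  have e101 := congrFun (congrFun e1 0) 1
  have e200 := congrFun (congrFun e2 0) 0
  simp only [sx, sy, Matrix.mul_apply, Fin.sum_univ_two, Matrix.of_apply, Matrix.cons_val_zero, Matrix.cons_val_one,
    Matrix.cons_val', Matrix.cons_val_fin_one] at e100 e101 e200
  have hc : z.1 1 0 = 0 := by
    have : t * z.1 1 0 = 0 := by linear_combination -e100
    exact (mul_eq_zero.1 this).resolve_left ht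
  have hb : z.1 0 1 = 0 := by linear_combination e200
  have had : z.1 0 0 = z.1 1 1 := by
    have : t * (z.1 0 0 - z.1 1 1) = 0 := by linear_combination e101
    exact sub_eq_zero.1 ((mul_eq_zero.1 this).resolve_left ht)
  have ha : z.1 0 0 = 1 := by
    have h2' : (2 : K) = 0 := by
      have := CharP.cast_eq_zero K 2
      exact_mod_cast this
    have : (z.1 0 0 - 1) * (z.1 0 0 - 1) = 0 := by
      rw [hb, ← had] at hdet
      linear_combination hdet + (1 - z.1 0 0) * h2'
    exact sub_eq_zero.1 (mul_self_eq_zero.1 this)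
  apply Subtype.ext
  ext i j
  fin_cases i <;> fin_cases j
  · simpa using ha
  · simpa using hb
  · simpa using hc
  · simpa using (had.symm.trans ha)

omit [Finite K] in
/-- conjugation is linear: an element conjugating `sx t` to `sy 1` conjugates `sx u` to `sy (u / t)` -/
theorem bglfl06_lin (t u : K) (ht : t ≠ 0) (ρ : Matrix.SpecialLinearGroup (Fin 2) K)
    (h : ρ * sx t = sy (1 : K) * ρ) : ρ * sx u = sy (u / t) * ρ := by
  have e1 : ρ.1 * (sx t).1 = (sy (1 : K)).1 * ρ.1 := congrArg Subtype.val h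
  have e01 := congrFun (congrFun e1 0) 1
  have e11 := congrFun (congrFun e1 1) 1
  simp only [sx, sy, Matrix.mul_apply, Fin.sum_univ_two, Matrix.of_apply, Matrix.cons_val_zero, Matrix.cons_val_one,
    Matrix.cons_val', Matrix.cons_val_fin_one] at e01 e11
  have ha : ρ.1 0 0 = 0 := by
    have : t * ρ.1 0 0 = 0 := by linear_combination e01
    exact (mul_eq_zero.1 this).resolve_left ht
  have hb : ρ.1 0 1 = ρ.1 1 0 * t := by linear_combination -e11
  apply Subtype.ext
  show ρ.1 * (sx u).1 = (sy (u / t)).1 * ρ.1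
  ext i j
  fin_cases i <;> fin_cases j <;>
    simp only [sx, sy, Matrix.mul_apply, Fin.sum_univ_two, Matrix.of_apply, Matrix.cons_val_zero, Matrix.cons_val_one,
      Matrix.cons_val', Matrix.cons_val_fin_one, Fin.zero_eta, Fin.mk_one, Fin.isValue]
  · ring
  · rw [ha]; ring
  · rw [ha]; ring
  · rw [hb]
    field_simp

/-- FL6 [M].  See the header (dihedral trick in characteristic 2). -/
theorem sl2_conj_two [CharP K 2] (S : Subgroup (Matrix.SpecialLinearGroup (Fin 2) K)) (t u : K)
    (ht : t ≠ 0) (hx : sx t ∈ S) (hu : sx u ∈ S) (hy : sy (1 : K) ∈ S) : sy (u / t) ∈ S := by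
  have h2' : (2 : K) = 0 := by
    have := CharP.cast_eq_zero K 2
    exact_mod_cast this
  have hA : sx t * sx t = 1 := by
    apply Subtype.ext
    show (sx t).1 * (sx t).1 = 1
    ext i j
    fin_cases i <;> fin_cases j <;>
      simp only [sx, Matrix.mul_apply, Fin.sum_univ_two, Matrix.of_apply, Matrix.cons_val_zero, Matrix.cons_val_one,
        Matrix.cons_val', Matrix.cons_val_fin_one, Fin.zero_eta, Fin.mk_one, Fin.isValue, Matrix.one_apply_eq,
        Matrix.one_apply_ne, ne_eq, zero_ne_one, one_ne_zero, not_false_eq_true]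
    · ring
    · linear_combination t * h2'
    · ring
    · ring
  have hB : sy (1 : K) * sy 1 = 1 := by
    apply Subtype.ext
    show (sy (1 : K)).1 * (sy (1 : K)).1 = 1
    ext i j
    fin_cases i <;> fin_cases j <;>
      simp only [sy, Matrix.mul_apply, Fin.sum_univ_two, Matrix.of_apply, Matrix.cons_val_zero, Matrix.cons_val_one,
        Matrix.cons_val', Matrix.cons_val_fin_one, Fin.zero_eta, Fin.mk_one, Fin.isValue, Matrix.one_apply_eq,
        Matrix.one_apply_ne, ne_eq, zero_ne_one, one_ne_zero, not_false_eq_true]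
    · ring
    · ring
    · linear_combination h2'
    · ring
  have hfin : Finite (Matrix.SpecialLinearGroup (Fin 2) K) := by
    unfold Matrix.SpecialLinearGroup
    infer_instance
  set c := sx t * sy (1 : K) with hc
  have hn : 0 < orderOf c := orderOf_pos c
  have hodd : ∃ m, orderOf c = 2 * m + 1 := by
    rcases Nat.even_or_odd' (orderOf c) with ⟨m, hm | hm⟩
    · exfalso
      have hm0 : m ≠ 0 := by omega
      have hz1 : c ^ m ≠ 1 := pow_ne_one_of_lt_orderOf hm0 (by omega)
      have hzz : (c ^ m)⁻¹ = c ^ m := by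
        apply inv_eq_of_mul_eq_one_left
        rw [← pow_add, ← two_mul, ← hm]
        exact pow_orderOf_eq_one c
      have hzA : c ^ m * sx t = sx t * c ^ m := by
        have h1 : sx t * c ^ m * (sx t)⁻¹ = c ^ m := by
          rw [← conj_pow, hc, bglfl06_conj_inv hA hB, inv_pow, ← hc, hzz]
        exact (mul_inv_eq_iff_eq_mul.1 h1).symm
      have hzB : c ^ m * sy (1 : K) = sy 1 * c ^ m := by
        have h1 : sy (1 : K) * c ^ m * (sy (1 : K))⁻¹ = c ^ m := by
          rw [← conj_pow, hc, bglfl06_conj_inv' hA hB, inv_pow, ← hc, hzz]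
        exact (mul_inv_eq_iff_eq_mul.1 h1).symm
      exact hz1 (bglfl06_cent t ht (c ^ m) hzA hzB)
    · exact ⟨m, hm⟩
  obtain ⟨m, hm⟩ := hodd
  have hcm : c ^ (2 * m + 1) = 1 := by
    rw [← hm]
    exact pow_orderOf_eq_one c
  have hρ := bglfl06_dihedral hA hB m hcm
  have hρS : c ^ m ∈ S := pow_mem (mul_mem hx hy) m
  have h1 : c ^ m * sx t = sy (1 : K) * c ^ m := mul_inv_eq_iff_eq_mul.1 hρ
  have h2 := bglfl06_lin t u ht (c ^ m) h1
  have h3 : sy (u / t) = c ^ m * sx u * (c ^ m)⁻¹ := by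
    rw [h2]
    group
  rw [h3]
  exact mul_mem (mul_mem hρS hu) (inv_mem hρS)

end Cfsg.Agent.Lib.Helper10.BGL
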