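import Mathlib
import Cfsg.Agent.Lib.Helper10.BGL.FldDefs
import Cfsg.Agent.Lib.helper6.Dickson801

/-!
# Project BGL (designer Helper10; S2189 / S2190), block FLD, row FL7 (`sl2_dickson`), verbatim from `SkelFLD.lean.txt` (helper23)

Dickson's generation theorem (S0801, helper6 `dickson_gen`) for the finite field `Subfield.closure {t}`, transported along
`SL(2, F) → SL(2, K)`.
-/

set_option autoImplicit false

namespace Cfsg.Agent.Lib.Helper10.BGL

open Cfsg.Lie Cfsg.Lie.ChevalleyDatum Cfsg.Agent.Lib.helper8

universe u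

variable {K : Type u} [Field K] [Finite K]

omit [Finite K] in
/-- a generator of a subfield generates it as a field of its own -/
theorem bglfl07_closure_top (t : K) :
    Subfield.closure ({(⟨t, Subfield.subset_closure (Set.mem_singleton t)⟩ : Subfield.closure ({t} : Set K))} :
      Set (Subfield.closure ({t} : Set K))) = ⊤ := by
  set F' : Subfield K := Subfield.closure ({t} : Set K) with hF'
  set t' : F' := ⟨t, Subfield.subset_closure (Set.mem_singleton t)⟩ with ht'
  rw [eq_top_iff]
  intro x _
  have hle : F' ≤ (Subfield.closure ({t'} : Set F')).map F'.subtype := by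
    refine Subfield.closure_le.2 ?_
    intro y hy
    rw [Set.mem_singleton_iff] at hy
    subst hy
    exact ⟨t', Subfield.subset_closure (Set.mem_singleton t'), rfl⟩
  obtain ⟨y, hy, hyx⟩ := hle x.2
  have : y = x := Subtype.ext hyx
  rw [← this]
  exact hy

/-- FL7 [M].  See the header (S0801 for `F = Subfield.closure {t}`, transported along
`SL(2, F) → SL(2, K)`).  (Also used by block PA.) -/
theorem sl2_dickson (p : ℕ) [Fact p.Prime] [CharP K p] (hp : p ≠ 2)
    (S : Subgroup (Matrix.SpecialLinearGroup (Fin 2) K)) (t : K) (ht : t ≠ 0) (hx : sx t ∈ S)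
    (hy : sy (1 : K) ∈ S) :
    (∀ g : Matrix.SpecialLinearGroup (Fin 2) K,
      (∀ i j, (g : Matrix (Fin 2) (Fin 2) K) i j ∈ Subfield.closure ({t} : Set K)) → g ∈ S) ∨
    (t ^ 2 = -1 ∧ Nat.card (Subfield.closure ({t} : Set K)) = 9) := by
  classical
  set F' : Subfield K := Subfield.closure ({t} : Set K) with hF'
  set t' : F' := ⟨t, Subfield.subset_closure (Set.mem_singleton t)⟩ with ht'
  have : Fintype F' := Fintype.ofFinite F'
  have h2K : (2 : K) ≠ 0 := by
    intro h
    have h' : ((2 : ℕ) : K) = 0 := by exact_mod_cast h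
    have hd := (CharP.cast_eq_zero_iff K p 2).1 h'
    have hp' : p.Prime := Fact.out
    rcases (Nat.dvd_prime Nat.prime_two).1 hd with h1 | h1
    · exact hp'.one_lt.ne' h1
    · exact hp h1
  have h2 : (2 : F') ≠ 0 := by
    intro h
    apply h2K
    have h' : ((2 : F') : K) = ((0 : F') : K) := congrArg (Subtype.val) h
    rw [Subfield.coe_zero] at h'
    rw [← h']
    norm_cast
  have ht0 : t' ≠ 0 := by
    intro h
    exact ht (congrArg Subtype.val h)
  rcases Cfsg.Agent.Lib.helper6.Dickson801.dickson_gen h2 t' ht0 (bglfl07_closure_top t) with ⟨htop, -⟩ | ⟨h9, hsq, -⟩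
  · left
    intro g hg
    set φ : Matrix.SpecialLinearGroup (Fin 2) F' →* Matrix.SpecialLinearGroup (Fin 2) K :=
      Matrix.SpecialLinearGroup.map (F'.subtype : F' →+* K) with hφ
    have hφy : φ (Cfsg.Agent.Lib.helper6.SL2Conc.yl (1 : F')) = sy (1 : K) := by
      apply Subtype.ext
      ext i j
      fin_cases i <;> fin_cases j <;> rfl
    have hφx : φ (Cfsg.Agent.Lib.helper6.SL2Conc.xu t') = sx t := by
      apply Subtype.ext
      ext i j
      fin_cases i <;> fin_cases j <;> rfl
    have hle : (⊤ : Subgroup (Matrix.SpecialLinearGroup (Fin 2) F')) ≤ S.comap φ := by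
      rw [← htop, Subgroup.closure_le]
      intro x hx'
      rcases hx' with rfl | rfl
      · show φ _ ∈ S
        rw [hφy]
        exact hy
      · show φ _ ∈ S
        rw [hφx]
        exact hx
    set M' : Matrix (Fin 2) (Fin 2) F' := Matrix.of fun i j => ⟨(g : Matrix (Fin 2) (Fin 2) K) i j, hg i j⟩ with hM'
    have hmap : (F'.subtype : F' →+* K).mapMatrix M' = (g : Matrix (Fin 2) (Fin 2) K) := by
      ext i j
      rfl
    have hdet : M'.det = 1 := by
      have h1 : (F'.subtype : F' →+* K) M'.det = 1 := by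
        rw [RingHom.map_det, hmap]
        exact g.2
      apply Subtype.val_injective
      exact h1
    have hg' : g = φ ⟨M', hdet⟩ := Subtype.ext hmap.symm
    rw [hg']
    exact hle (Subgroup.mem_top _)
  · right
    refine ⟨?_, ?_⟩
    · have := congrArg Subtype.val hsq
      simpa using this
    · rw [Nat.card_eq_fintype_card]
      convert h9

end Cfsg.Agent.Lib.Helper10.BGL
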