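import Mathlib
import Cfsg.Agent.Lib.helper14.BGL.UKDefs

/-!
# Project BGL, block UK (designer helper14), row UKB1 (`uk_Psi_V`) and row UKB3 (`uk_x_mem`), VERBATIM (helper23)

The Frobenius maps the filtration subgroup `V_m` into itself; a root element with rational parameter lies in
`Lq` and is rational.
-/

set_option autoImplicit false

namespace Cfsg.Agent.Lib.helper14.BGLUK

open Cfsg.Lie Cfsg.Lie.ChevalleyDatum Cfsg.Agent.Lib.helper8 Cfsg.Agent.Lib.helper14
  Cfsg.Agent.Lib.Helper10.BGL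

universe u

variable {K : Type u} [Field K]

section B

variable [Finite K] (p : ℕ) [Fact p.Prime] [CharP K p] (D : ChevalleyDatum) (hB : H8Base.{u} D)

/-- UKB1 [S].  the Frobenius maps `V_m` into itself (`h8x_map`). -/
theorem uk_Psi_V (a m : ℕ) (v : GL D.Idx K) (hv : v ∈ ukV D K m) :
    h8Psi D ((sig (K := K) p a : K ≃+* K) : K →+* K) v ∈ ukV D K m := by
  have h1 : (ukV D K m).map (h8Psi D ((sig (K := K) p a : K ≃+* K) : K →+* K)) ≤ ukV D K m := by
    unfold ukV
    rw [MonoidHom.map_closure, Subgroup.closure_le]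
    rintro g ⟨g', ⟨r, t, hr, hmr, hg'⟩, rfl⟩
    apply Subgroup.subset_closure
    refine ⟨r, ((sig (K := K) p a : K ≃+* K) : K →+* K) t, hr, hmr, ?_⟩
    rw [h8Psi_val, hg', h8x_map]
  exact h1 (Subgroup.mem_map_of_mem _ hv)

/-- UKB3 [S].  a root element with rational parameter lies in `Lq` and is rational. -/
theorem uk_x_mem (a r : ℕ) (t : K) (ht : t ^ p ^ a = t) :
    h8xU D hB r t ∈ Lq D K (p ^ a) ∧ h8xU D hB r t ∈ ratS (K := K) p D a := by
  have h1 : h8xU D hB r t ∈ Lq D K (p ^ a) := x_mem_Lq D (p ^ a) r t ht _ (h8xU_val D hB r t)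
  exact ⟨h1, Lq_le_ratS p D a h1⟩

end B

end Cfsg.Agent.Lib.helper14.BGLUK
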