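import Mathlib
import Cfsg.Agent.Lib.helper14.BGL.UKDefs
import Cfsg.Agent.Lib.helper23.BGLUKB1

/-!
# Project BGL, block UK (designer helper14), row UKB2 (`uk_rat_lead`), VERBATIM (helper23)

The leading coefficient of a rational element of `x_m(t) V_{m+1}` is rational.
-/

set_option autoImplicit false

namespace Cfsg.Agent.Lib.helper14.BGLUK

open Cfsg.Lie Cfsg.Lie.ChevalleyDatum Cfsg.Agent.Lib.helper8 Cfsg.Agent.Lib.helper14
  Cfsg.Agent.Lib.Helper10.BGL

universe u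

variable {K : Type u} [Field K]

section B

variable [Finite K] (p : ℕ) [Fact p.Prime] [CharP K p] (D : ChevalleyDatum) (hB : H8Base.{u} D)

/-- UKB2 [S-M].  the leading coefficient of a rational element of `x_m(t) V_{m+1}` is rational
(`uk_Psi_V`, `h8x_not_mem_Vk`). -/
theorem uk_rat_lead (hO2 : H8Ord2 D) (a m : ℕ) (hm : D.IsPosRoot m) (t : K) (v : GL D.Idx K)
    (hv : v ∈ ukV D K (m + 1)) (h : h8xU D hB m t * v ∈ ratS (K := K) p D a) :
    t ^ p ^ a = t := by
  have h1 : h8Psi D ((sig (K := K) p a : K ≃+* K) : K →+* K) (h8xU D hB m t * v) = h8xU D hB m t * v := h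
  rw [map_mul, h8Psi_xU D hB hB, sig_coe_apply] at h1
  have hPv := uk_Psi_V p D a (m + 1) v hv
  set w := h8Psi D ((sig (K := K) p a : K ≃+* K) : K →+* K) v with hw
  have hinv : (h8xU D hB m t)⁻¹ = h8xU D hB m (-t) := Units.ext rfl
  have h2 : h8xU D hB m (-t + t ^ p ^ a) = v * w⁻¹ := by
    rw [← h8xU_add D hB m hm.1, ← hinv]
    calc (h8xU D hB m t)⁻¹ * h8xU D hB m (t ^ p ^ a)
        = (h8xU D hB m t)⁻¹ * (h8xU D hB m (t ^ p ^ a) * w) * w⁻¹ := by group
      _ = (h8xU D hB m t)⁻¹ * (h8xU D hB m t * v) * w⁻¹ := by rw [h1]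
      _ = v * w⁻¹ := by group
  have h3 : h8xU D hB m (-t + t ^ p ^ a) ∈ ukV D K (m + 1) := by
    rw [h2]
    exact (ukV D K (m + 1)).mul_mem hv ((ukV D K (m + 1)).inv_mem hPv)
  have h4 := h8x_not_mem_Vk D hB hO2 m hm _ h3
  linear_combination h4

end B

end Cfsg.Agent.Lib.helper14.BGLUK
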