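import Mathlib
import Cfsg.Agent.Lib.Helper10.C3Q.Defs

set_option autoImplicit false
set_option linter.unusedVariables false
set_option linter.unusedSectionVars false

/-!
# Project C3Q (designer helper10), rows NCOMM, SSCAL, NEVEN, NRANK (helper23).
-/

namespace Cfsg.Agent.Lib.Helper10.C3Q

open Matrix Module Cfsg.Agent.Lib.Helper13.OTS

universe u

variable {F : Type u} [Field F] {ι : Type} [Fintype ι] [DecidableEq ι]

theorem c3qncomm_pow (A Y : Matrix ι ι F) (h : Y * A = -(A * Y)) (n : ℕ) :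
    Y ^ n * A = (-1 : F) ^ n • (A * Y ^ n) := by
  induction n with
  | zero => simp
  | succ n ih =>
    rw [pow_succ, Matrix.mul_assoc, h, Matrix.mul_neg, ← Matrix.mul_assoc, ih, Matrix.smul_mul,
      Matrix.mul_assoc, ← pow_succ, pow_succ (-1 : F), mul_smul, neg_one_smul, smul_neg]

/-- NCOMM [S]. -/
theorem n_comm (h2 : (2 : F) ≠ 0) (A : Matrix ι ι F) (y : GL ι F) (hy : NrmA A y) (r : ℕ)
    (hr : Odd r) (z : F) (hz : ((y ^ r : GL ι F) : Matrix ι ι F) = z • (1 : Matrix ι ι F)) :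
    (y : Matrix ι ι F) * A = A * (y : Matrix ι ι F) := by
  rcases hy with hy | hy
  · exact hy
  · have h1 := c3qncomm_pow A (y : Matrix ι ι F) hy r
    rw [← Units.val_pow_eq_pow_val, hz, hr.neg_one_pow, neg_one_smul, Matrix.smul_mul, Matrix.one_mul,
      Matrix.mul_smul, Matrix.mul_one] at h1
    have h3 : (2 * z) • A = 0 := by
      rw [mul_smul, two_smul]
      nth_rewrite 1 [h1]
      rw [neg_add_cancel]
    have hA0 : A = 0 := by
      rcases smul_eq_zero.mp h3 with h | h
      · have hz0 : z = 0 := by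
          rcases mul_eq_zero.mp h with h' | h'
          · exact absurd h' h2
          · exact h'
        -- the unit `y ^ r` is the zero matrix: all matrices vanish
        rw [hz0, zero_smul] at hz
        have h4 : ((y ^ r : GL ι F) : Matrix ι ι F) * (((y ^ r)⁻¹ : GL ι F) : Matrix ι ι F) = 1 := by
          rw [← Units.val_mul, mul_inv_cancel, Units.val_one]
        rw [hz, Matrix.zero_mul] at h4
        calc A = A * 1 := (Matrix.mul_one A).symm
          _ = A * 0 := by rw [h4]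
          _ = 0 := Matrix.mul_zero A
      · exact h
    rw [hA0, Matrix.mul_zero, Matrix.zero_mul]

/-- SSCAL [S]. -/
theorem s_scal (Q : QuadraticForm F (ι → F)) (hne : ∃ v, Q v ≠ 0) (x : GL ι F)
    (hx : x ∈ Cfsg.isometryGroup F (⇑Q)) (z : F)
    (hz : ((x ^ 2 : GL ι F) : Matrix ι ι F) = z • (1 : Matrix ι ι F)) : z = 1 ∨ z = -1 := by
  obtain ⟨v, hv⟩ := hne
  have hx2 : x ^ 2 ∈ Cfsg.isometryGroup F (⇑Q) := Subgroup.pow_mem _ hx 2
  have h1 : Q (((x ^ 2 : GL ι F) : Matrix ι ι F) *ᵥ v) = Q v := hx2 v v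
  rw [hz, Matrix.smul_mulVec, Matrix.one_mulVec, QuadraticMap.map_smul, smul_eq_mul] at h1
  have h2 : (z - 1) * (z + 1) * Q v = 0 := by linear_combination h1
  rcases mul_eq_zero.mp h2 with h | h
  · rcases mul_eq_zero.mp h with h' | h'
    · left; linear_combination h'
    · right; linear_combination h'
  · exact absurd h hv

/-- NEVEN [M]. -/
theorem n_even (δ : F) (hns : ¬ IsSquare δ) (A : Matrix ι ι F) (hA2 : A * A = δ • (1 : Matrix ι ι F))
    (W : Submodule F (ι → F)) (hW : ∀ w ∈ W, A *ᵥ w ∈ W) : Even (Module.finrank F W) := by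
  by_contra hodd
  rw [Nat.not_even_iff_odd] at hodd
  obtain ⟨k, hk⟩ := hodd
  have hδ0 : δ ≠ 0 := by
    rintro rfl
    exact hns ⟨0, by ring⟩
  let a : W →ₗ[F] W := (Matrix.mulVecLin A).restrict hW
  have haa : a ∘ₗ a = δ • (LinearMap.id : W →ₗ[F] W) := by
    apply LinearMap.ext
    intro w
    apply Subtype.ext
    show A *ᵥ (A *ᵥ (w : ι → F)) = δ • (w : ι → F)
    rw [Matrix.mulVec_mulVec, hA2, Matrix.smul_mulVec, Matrix.one_mulVec]
  have hdet := congrArg LinearMap.det haa
  rw [LinearMap.det_comp, LinearMap.det_smul, LinearMap.det_id, mul_one, hk] at hdet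
  apply hns
  refine ⟨LinearMap.det a / δ ^ k, ?_⟩
  have hδk : δ ^ k ≠ 0 := pow_ne_zero _ hδ0
  field_simp
  linear_combination -hdet

/-- NRANK [S]. -/
theorem n_rank (δ : F) (hns : ¬ IsSquare δ) (A : Matrix ι ι F) (hA2 : A * A = δ • (1 : Matrix ι ι F))
    (M : Matrix ι ι F) (hM : M * A = A * M) : Even M.rank := by
  have h := n_even δ hns A hA2 (LinearMap.range M.mulVecLin) (by
    rintro _ ⟨v, rfl⟩
    refine ⟨A *ᵥ v, ?_⟩
    rw [Matrix.mulVecLin_apply, Matrix.mulVecLin_apply, Matrix.mulVec_mulVec, Matrix.mulVec_mulVec, hM])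
  exact h

end Cfsg.Agent.Lib.Helper10.C3Q
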