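import Mathlib
import Cfsg.Agent.Lib.Helper10.C3Q.Defs

set_option autoImplicit false
set_option linter.unusedVariables false
set_option linter.unusedSectionVars false

/-!
# Project C3Q (designer helper10), row KODDFIX (helper23): an isometry of odd order of an odd-dimensional space fixes a vector.
-/

namespace Cfsg.Agent.Lib.Helper10.C3Q

open Matrix Module Cfsg.Agent.Lib.Helper13.OTS

universe u

variable {F : Type u} [Field F] {ι : Type} [Fintype ι] [DecidableEq ι]

/-- KODDFIX [M-L]. -/
theorem k_odd_fix {K : Type*} [Field K] (h2 : (2 : K) ≠ 0) {W : Type*} [AddCommGroup W] [Module K W]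
    [FiniteDimensional K W] (β : LinearMap.BilinForm K W) (hn : β.Nondegenerate) (y : W →ₗ[K] W)
    (hy : ∀ u v, β (y u) (y v) = β u v) (r : ℕ) (hr : Odd r) (hyr : y ^ r = 1)
    (hodd : Odd (Module.finrank K W)) : ∃ w : W, w ≠ 0 ∧ y w = w := by
  classical
  let b := Module.finBasis K W
  have hG : (LinearMap.BilinForm.toMatrix b β).det ≠ 0 :=
    (LinearMap.BilinForm.nondegenerate_iff_det_ne_zero b).mp hn
  obtain ⟨G, hGdef⟩ : ∃ G, G = LinearMap.BilinForm.toMatrix b β := ⟨_, rfl⟩
  obtain ⟨Y, hYdef⟩ : ∃ Y, Y = LinearMap.toMatrix b b y := ⟨_, rfl⟩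
  rw [← hGdef] at hG
  have hcomp : β.comp y y = β := by
    apply LinearMap.ext
    intro u
    apply LinearMap.ext
    intro v
    exact hy u v
  have hYG : Yᵀ * G * Y = G := by
    have h := LinearMap.BilinForm.toMatrix_comp b b β y y
    rw [hcomp] at h
    rw [hYdef, hGdef]
    exact h.symm
  -- `det Y = 1`
  have hdet2 : Y.det * Y.det = 1 := by
    have h := congrArg Matrix.det hYG
    rw [Matrix.det_mul, Matrix.det_mul, Matrix.det_transpose] at h
    have h' : (Y.det * Y.det - 1) * G.det = 0 := by linear_combination h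
    rcases mul_eq_zero.mp h' with h'' | h''
    · linear_combination h''
    · exact absurd h'' hG
  have hdetr : Y.det ^ r = 1 := by
    have h1 : Y ^ r = 1 := by
      rw [hYdef, LinearMap.toMatrix_pow, hyr, LinearMap.toMatrix_one]
    rw [← Matrix.det_pow, h1, Matrix.det_one]
  have hdet1 : Y.det = 1 := by
    obtain ⟨k, hk⟩ := hr
    rw [hk, pow_succ, pow_mul, sq, hdet2, one_pow, one_mul] at hdetr
    exact hdetr
  -- `Yᵀ G (Y - 1) = -((Y - 1)ᵀ G)`
  have hkey : Yᵀ * G * (Y - 1) = -((Y - 1)ᵀ * G) := by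
    rw [Matrix.mul_sub, hYG, Matrix.mul_one, Matrix.transpose_sub, Matrix.transpose_one,
      Matrix.sub_mul, Matrix.one_mul, neg_sub]
  have hdetk := congrArg Matrix.det hkey
  rw [Matrix.det_mul, Matrix.det_mul, Matrix.det_transpose, hdet1, one_mul, Matrix.det_neg,
    Matrix.det_mul, Matrix.det_transpose, Fintype.card_fin, hodd.neg_one_pow] at hdetk
  have hzero : (Y - 1).det = 0 := by
    have h' : (2 * (Y - 1).det) * G.det = 0 := by linear_combination hdetk
    rcases mul_eq_zero.mp h' with h'' | h''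
    · rcases mul_eq_zero.mp h'' with h3 | h3
      · exact absurd h3 h2
      · exact h3
    · exact absurd h'' hG
  have hdetL : LinearMap.det (y - 1) = 0 := by
    rw [← LinearMap.det_toMatrix b, map_sub, LinearMap.toMatrix_one, ← hYdef]
    exact hzero
  have hker := LinearMap.bot_lt_ker_of_det_eq_zero hdetL
  obtain ⟨w, hw, hw0⟩ := Submodule.exists_mem_ne_zero_of_ne_bot (ne_of_gt hker)
  refine ⟨w, hw0, ?_⟩
  rw [LinearMap.mem_ker, LinearMap.sub_apply, Module.End.one_apply, sub_eq_zero] at hw
  exact hw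

end Cfsg.Agent.Lib.Helper10.C3Q
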