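import Mathlib
import Cfsg.Agent.Lib.Helper10.C6P.Defs
import Cfsg.Agent.Lib.helper6.SSCONJDET
import Cfsg.Agent.Lib.helper6.SSCONJIRR

set_option autoImplicit false
set_option linter.unusedVariables false
set_option linter.unusedSectionVars false

/-!
# Project C6P (designer helper10), rows LCHAR1 + LCHAR2 (helper23): the characteristic polynomial of a matrix killed by
a product of irreducible polynomials.
-/

namespace Cfsg.Agent.Lib.Helper10.C6P

open Polynomial Matrix

variable {F : Type*} [Field F]

/-- every normalized factor of `charpoly x` divides any polynomial killing `x`. -/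
theorem c6plchar1_factor_dvd [DecidableEq F] {n : ℕ} (x : Matrix (Fin n) (Fin n) F) (P : F[X]) (hx : aeval x P = 0)
    (g : F[X]) (hg : g ∈ UniqueFactorizationMonoid.normalizedFactors x.charpoly) : g ∣ P := by
  have hgi : Irreducible g := UniqueFactorizationMonoid.irreducible_of_normalized_factor g hg
  have hgd : g ∣ x.charpoly := UniqueFactorizationMonoid.dvd_of_mem_normalizedFactors hg
  exact (Cfsg.Agent.Lib.helper6.SSCONJ.ssconjirr_matrix x g hgi hgd).trans (minpoly.dvd F x hx)

/-- a normalized irreducible polynomial dividing a monic irreducible one is equal to it. -/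
theorem c6plchar1_eq_of_dvd [DecidableEq F] {χ g f : F[X]} (hg : g ∈ UniqueFactorizationMonoid.normalizedFactors χ)
    (hm : f.Monic) (hf : Irreducible f) (hgf : g ∣ f) : g = f := by
  have hgi : Irreducible g := UniqueFactorizationMonoid.irreducible_of_normalized_factor g hg
  have hassoc : Associated g f := hgi.associated_of_dvd hf hgf
  have hgn : normalize g = g := UniqueFactorizationMonoid.normalize_normalized_factor g hg
  have hfn : normalize f = f := hm.normalize_eq_self
  rw [← hgn, ← hfn]
  exact normalize_eq_normalize hassoc.dvd hassoc.symm.dvd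

/-- LCHAR1 [M]. -/
theorem lchar_one {n : ℕ} (x : Matrix (Fin n) (Fin n) F) (f : F[X]) (hm : f.Monic) (hf : Irreducible f)
    (hx : aeval x f = 0) : ∃ k : ℕ, x.charpoly = f ^ k := by
  classical
  have hχm : x.charpoly.Monic := Matrix.charpoly_monic x
  have hχ0 : x.charpoly ≠ 0 := hχm.ne_zero
  have hall : ∀ g ∈ UniqueFactorizationMonoid.normalizedFactors x.charpoly, g = f := by
    intro g hg
    exact c6plchar1_eq_of_dvd hg hm hf (c6plchar1_factor_dvd x f hx g hg)
  have hrep := Multiset.eq_replicate_of_mem hall
  have hprod := UniqueFactorizationMonoid.prod_normalizedFactors_eq hχ0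
  rw [hrep, Multiset.prod_replicate, hχm.normalize_eq_self] at hprod
  exact ⟨_, hprod.symm⟩

/-- LCHAR2 [M] : the same with two irreducible factors. -/
theorem lchar_two {n : ℕ} (x : Matrix (Fin n) (Fin n) F) (f g : F[X]) (hfm : f.Monic) (hgm : g.Monic)
    (hf : Irreducible f) (hg : Irreducible g) (hx : aeval x (f * g) = 0) :
    ∃ j k : ℕ, x.charpoly = f ^ j * g ^ k := by
  classical
  have hχm : x.charpoly.Monic := Matrix.charpoly_monic x
  have hχ0 : x.charpoly ≠ 0 := hχm.ne_zero
  have hall : ∀ h ∈ UniqueFactorizationMonoid.normalizedFactors x.charpoly, h = f ∨ h = g := by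
    intro h hh
    have hd := c6plchar1_factor_dvd x (f * g) hx h hh
    have hp : Prime h := UniqueFactorizationMonoid.prime_of_normalized_factor h hh
    rcases hp.dvd_or_dvd hd with h1 | h1
    · exact Or.inl (c6plchar1_eq_of_dvd hh hfm hf h1)
    · exact Or.inr (c6plchar1_eq_of_dvd hh hgm hg h1)
  obtain ⟨s, hs⟩ : ∃ s, s = UniqueFactorizationMonoid.normalizedFactors x.charpoly := ⟨_, rfl⟩
  rw [← hs] at hall
  have hsplit : s = s.filter (fun h => h = f) + s.filter (fun h => ¬ h = f) :=
    (Multiset.filter_add_not _ s).symm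
  have h1 : s.filter (fun h => h = f) = Multiset.replicate (s.filter (fun h => h = f)).card f :=
    Multiset.eq_replicate_of_mem (fun h hh => (Multiset.mem_filter.mp hh).2)
  have h2 : s.filter (fun h => ¬ h = f) =
      Multiset.replicate (s.filter (fun h => ¬ h = f)).card g := by
    apply Multiset.eq_replicate_of_mem
    intro h hh
    obtain ⟨hh1, hh2⟩ := Multiset.mem_filter.mp hh
    exact (hall h hh1).resolve_left hh2
  have hprod := UniqueFactorizationMonoid.prod_normalizedFactors_eq hχ0
  rw [← hs, hsplit, Multiset.prod_add, h1, h2, Multiset.prod_replicate, Multiset.prod_replicate,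
    hχm.normalize_eq_self] at hprod
  exact ⟨_, _, hprod.symm⟩

end Cfsg.Agent.Lib.Helper10.C6P
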