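import Mathlib
import Cfsg.Agent.Lib.Helper10.C6P.Defs

set_option autoImplicit false
set_option linter.unusedVariables false
set_option linter.unusedSectionVars false

/-!
# Project C6P (designer helper10), rows LONE + LROOT (helper23).
-/

namespace Cfsg.Agent.Lib.Helper10.C6P

open Polynomial Matrix

variable {F : Type*} [Field F]

/-- LONE [S-M] : `u^r = 1`, `r ≠ 0` in `F`, `u ≠ 1`: `charpoly u ≠ (X - 1)^n`. -/
theorem lone {n : ℕ} (u : Matrix (Fin n) (Fin n) F) (r : ℕ) (hr : (r : F) ≠ 0) (hu : u ^ r = 1) (hne : u ≠ 1) :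
    u.charpoly ≠ (X - C (1 : F)) ^ n := by
  intro hχ
  apply hne
  have hint : IsIntegral F u := Matrix.isIntegral u
  have h0 : minpoly F u ≠ 0 := minpoly.ne_zero hint
  have hd1 : minpoly F u ∣ (X - C (1 : F)) ^ n := by
    rw [← hχ]
    exact Matrix.minpoly_dvd_charpoly u
  have hd2 : minpoly F u ∣ X ^ r - C (1 : F) := by
    apply minpoly.dvd
    rw [map_sub, map_pow, aeval_X, aeval_C, hu, map_one, sub_self]
  have hsep : (X ^ r - C (1 : F)).Separable := separable_X_pow_sub_C 1 hr one_ne_zero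
  have hsq : Squarefree (minpoly F u) := hsep.squarefree.squarefree_of_dvd hd2
  have hrad : IsRadical (minpoly F u) := (isRadical_iff_squarefree_of_ne_zero h0).mpr hsq
  obtain ⟨g, hg⟩ := hrad n _ hd1
  have h1 : aeval u (X - C (1 : F)) = 0 := by
    rw [hg, map_mul, minpoly.aeval, zero_mul]
  rw [map_sub, aeval_X, aeval_C, map_one, sub_eq_zero] at h1
  exact h1

/-- LROOT [S-M] : a singular `u - c` gives the factor `X - c`. -/
theorem lroot {n : ℕ} (u : Matrix (Fin n) (Fin n) F) (c : F) (hdet : (u - c • (1 : Matrix (Fin n) (Fin n) F)).det = 0) :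
    (X - C c) ∣ u.charpoly := by
  rw [Polynomial.dvd_iff_isRoot, IsRoot.def, Matrix.eval_charpoly]
  have h1 : Matrix.scalar (Fin n) c - u = -(u - c • (1 : Matrix (Fin n) (Fin n) F)) := by
    rw [neg_sub]
    congr 1
    ext i j
    simp [Matrix.scalar_apply, Matrix.one_apply, Matrix.diagonal_apply]
  rw [h1, Matrix.det_neg, hdet, mul_zero]

end Cfsg.Agent.Lib.Helper10.C6P
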