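import Mathlib
import Cfsg.Agent.Lib.Helper10.C6P.Defs
import Cfsg.Agent.Lib.helper23.C6PLCHAR1

set_option autoImplicit false
set_option linter.unusedVariables false
set_option linter.unusedSectionVars false

/-!
# Project C6P (designer helper10), row E2SQ (`sq_of_sq`, helper23): `x ∈ SL_4`, `x² = z` ⇒ `z` is a square.
-/

namespace Cfsg.Agent.Lib.Helper10.C6P

open Polynomial Matrix

variable {F : Type*} [Field F]

section fin

variable [Fintype F] {p : ℕ} [Fact p.Prime] [CharP F p]

/-- E2SQ [M] : `x ∈ SL_4`, `x² = z`: `z` is a square. -/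
theorem sq_of_sq (hF : Fintype.card F = p) (i : F) (hi : i * i = -1) (x : GL (Fin 4) F)
    (hx : x ∈ Cfsg.Geo.specialLinear (Fin 4) F) (z : F) (hx2 : (x : M4 F) * (x : M4 F) = z • (1 : M4 F)) :
    ∃ a : F, a * a = z := by
  by_contra hcon
  push Not at hcon
  have hdet : (x : M4 F).det = 1 := by
    have h1 : Matrix.GeneralLinearGroup.det x = 1 := hx
    have := congrArg Units.val h1
    rwa [Matrix.GeneralLinearGroup.val_det_apply, Units.val_one] at this
  -- `f = X² - z` is monic irreducible
  have hfm : (X ^ 2 - C z : F[X]).Monic := monic_X_pow_sub_C z (by norm_num)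
  have hfd : (X ^ 2 - C z : F[X]).natDegree = 2 := natDegree_X_pow_sub_C
  have hfi : Irreducible (X ^ 2 - C z : F[X]) := by
    rw [hfm.irreducible_iff_roots_eq_zero_of_degree_le_three (by rw [hfd]) (by rw [hfd]; norm_num)]
    rw [Multiset.eq_zero_iff_forall_notMem]
    intro a ha
    rw [mem_roots hfm.ne_zero, IsRoot.def, eval_sub, eval_pow, eval_X, eval_C, sub_eq_zero, sq] at ha
    exact hcon a ha
  have hkill : aeval (x : M4 F) (X ^ 2 - C z : F[X]) = 0 := by
    rw [map_sub, map_pow, aeval_X, aeval_C, sq, hx2, Algebra.algebraMap_eq_smul_one, sub_self]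
  obtain ⟨k, hk⟩ := lchar_one (x : M4 F) _ hfm hfi hkill
  have hk2 : k = 2 := by
    have h1 := congrArg Polynomial.natDegree hk
    rw [Matrix.charpoly_natDegree_eq_dim, natDegree_pow, hfd, Fintype.card_fin] at h1
    omega
  have h2 := Matrix.det_eq_sign_charpoly_coeff (x : M4 F)
  rw [hdet, hk, hk2, Fintype.card_fin, coeff_zero_eq_eval_zero, eval_pow, eval_sub, eval_pow, eval_X,
    eval_C] at h2
  have h3 : z * z = 1 := by
    have : (1 : F) = (-1) ^ 4 * (0 ^ 2 - z) ^ 2 := h2
    rw [this]
    ring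
  rcases mul_self_eq_one_iff.mp h3 with h4 | h4
  · exact hcon 1 (by rw [h4, one_mul])
  · exact hcon i (by rw [h4, hi])

end fin

end Cfsg.Agent.Lib.Helper10.C6P
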