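import Mathlib
import Cfsg.Agent.Lib.Helper18.PRL.Defs
import Cfsg.Agent.Lib.Helper21.MaxClassP

set_option autoImplicit false

namespace Cfsg.Agent.Lib.Helper18.PRL

open scoped commutatorElement

universe u

/-- Auxiliary form of `card_Z`, by induction on the level. -/
theorem h23_card_Z_aux (p : ℕ) [hp : Fact p.Prime] :
    ∀ (i n : ℕ) (X : Type u) [Group X] [Finite X], MC p X n → 3 ≤ n → i ≤ n - 2 →
      Nat.card (Z X i) = p ^ i := by
  intro i
  induction i with
  | zero =>
    intro n X _ _ _ _ _
    simp [Z]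
  | succ i ih =>
    intro n X _ _ h hn hi
    obtain ⟨hZ, hq, hcq⟩ := Cfsg.Agent.Lib.Helper21.mc_center_card p n hn X h.1 h.2
    have hQi : Nat.card (Z (X ⧸ Subgroup.center X) i) = p ^ i := by
      rcases Nat.eq_zero_or_pos i with rfl | hpos
      · simp [Z]
      · exact ih (n - 1) (X ⧸ Subgroup.center X) ⟨hq, by rw [hcq]; omega⟩ (by omega) (by omega)
    have hcomap := Subgroup.comap_upperCentralSeries_quotient_center (G := X) i
    have hidx : ((Subgroup.upperCentralSeries (X ⧸ Subgroup.center X) i).comap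
        (QuotientGroup.mk' (Subgroup.center X))).index =
        (Subgroup.upperCentralSeries (X ⧸ Subgroup.center X) i).index :=
      Subgroup.index_comap_of_surjective _ (QuotientGroup.mk'_surjective _)
    rw [hcomap] at hidx
    have h1 := Subgroup.card_mul_index (Subgroup.upperCentralSeries (X ⧸ Subgroup.center X) i)
    have h2 := Subgroup.card_mul_index (Subgroup.upperCentralSeries X i.succ)
    rw [hidx, h.1] at h2
    rw [hq] at h1
    change Nat.card (Z (X ⧸ Subgroup.center X) i) * _ = _ at h1
    rw [hQi] at h1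
    have hp0 : 0 < p := hp.out.pos
    have hsplit : p ^ (n - 1) = p ^ i * p ^ (n - 1 - i) := by
      rw [← pow_add]
      congr 1
      omega
    have hI : (Subgroup.upperCentralSeries (X ⧸ Subgroup.center X) i).index = p ^ (n - 1 - i) := by
      rw [hsplit] at h1
      exact Nat.eq_of_mul_eq_mul_left (pow_pos hp0 i) h1
    rw [hI] at h2
    have hsplit2 : p ^ n = p ^ (i + 1) * p ^ (n - 1 - i) := by
      rw [← pow_add]
      congr 1
      omega
    rw [hsplit2] at h2
    exact Nat.eq_of_mul_eq_mul_right (pow_pos hp0 _) h2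

section chain
variable {p : ℕ} [Fact p.Prime] {G : Type u} [Group G] [Finite G] {n : ℕ}

/-- PRL-CH1 -/
theorem card_Z (h : MC p G n) (hn : 3 ≤ n) (i : ℕ) (hi : i ≤ n - 2) :
    Nat.card (Z G i) = p ^ i :=
  h23_card_Z_aux p i n G h hn hi

/-- PRL-CH1 (second half) -/
theorem Z_top (h : MC p G n) (hn : 3 ≤ n) : Z G (n - 1) = ⊤ := by
  have hpg : IsPGroup p G := IsPGroup.of_card h.1
  haveI : Group.IsNilpotent G := hpg.isNilpotent
  have := Subgroup.upperCentralSeries_nilpotencyClass (G := G)
  rw [h.2] at this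
  exact this

end chain

end Cfsg.Agent.Lib.Helper18.PRL
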