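import Mathlib
import Cfsg.Agent.Lib.Helper18.PRL.Defs
import Cfsg.Agent.Lib.helper23.PRLCH1

set_option autoImplicit false

namespace Cfsg.Agent.Lib.Helper18.PRL

open scoped commutatorElement

universe u

/-- In a nilpotent group, `[N, X] < N` for a nontrivial normal subgroup `N`. -/
theorem h23_comm_top_lt {X : Type*} [Group X] [Group.IsNilpotent X] (N : Subgroup X) [N.Normal]
    (hN : N ≠ ⊥) : ⁅N, (⊤ : Subgroup X)⁆ < N := by
  have hle : ⁅N, (⊤ : Subgroup X)⁆ ≤ N := Subgroup.commutator_le_left N ⊤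
  refine lt_of_le_of_ne hle ?_
  intro heq
  have hall : ∀ k : ℕ, N ≤ (⊤ : Subgroup X).lowerCentralSeries k := by
    intro k
    induction k with
    | zero => simp
    | succ k ih =>
      rw [Subgroup.lowerCentralSeries_succ]
      calc N = ⁅N, (⊤ : Subgroup X)⁆ := heq.symm
        _ ≤ ⁅(⊤ : Subgroup X).lowerCentralSeries k, (⊤ : Subgroup X)⁆ :=
          Subgroup.commutator_mono ih le_rfl
  have h1 := hall (Group.nilpotencyClass X)
  rw [Subgroup.lowerCentralSeries_nilpotencyClass] at h1
  exact hN (eq_bot_iff.mpr h1)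

/-- In a finite `p`-group a normal subgroup of order `p ^ i` lies in `Z_i`. -/
theorem h23_normal_le_Z (p : ℕ) [hp : Fact p.Prime] {X : Type*} [Group X] [Finite X]
    (hX : IsPGroup p X) :
    ∀ (i : ℕ) (N : Subgroup X) [N.Normal], Nat.card N = p ^ i → N ≤ Z X i := by
  haveI := hX.isNilpotent
  intro i
  induction i using Nat.strong_induction_on with
  | _ i ih =>
    intro N _ hN
    rcases Nat.eq_zero_or_pos i with rfl | hpos
    · rw [pow_zero] at hN
      have : N = ⊥ := Subgroup.card_eq_one.mp hN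
      rw [this]
      exact bot_le
    · have hNne : N ≠ ⊥ := by
        rintro rfl
        rw [Subgroup.card_bot] at hN
        exact (Nat.one_lt_pow hpos.ne' hp.out.one_lt).ne hN
      have hlt := h23_comm_top_lt N hNne
      haveI : (⁅N, (⊤ : Subgroup X)⁆).Normal := Subgroup.commutator_normal N ⊤
      obtain ⟨j, hj⟩ := (hX.to_subgroup ⁅N, (⊤ : Subgroup X)⁆).exists_card_eq
      have hcardlt : Nat.card (⁅N, (⊤ : Subgroup X)⁆ : Subgroup X) < Nat.card N := by
        by_contra h
        push Not at h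
        exact hlt.ne (Subgroup.eq_of_le_of_card_ge hlt.le h)
      have hji : j < i := by
        apply (Nat.pow_lt_pow_iff_right hp.out.one_lt).mp
        rw [← hj, ← hN]
        exact hcardlt
      have hK := ih j hji ⁅N, (⊤ : Subgroup X)⁆ hj
      obtain ⟨i', rfl⟩ : ∃ i', i = i' + 1 := ⟨i - 1, by omega⟩
      have hK' : ⁅N, (⊤ : Subgroup X)⁆ ≤ Z X i' :=
        hK.trans (Subgroup.upperCentralSeries_mono X (by omega))
      intro x hx
      change x ∈ Subgroup.upperCentralSeries X (i' + 1)
      rw [Subgroup.mem_upperCentralSeries_succ_iff]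
      intro y
      apply hK'
      exact Subgroup.commutator_mem_commutator hx (Subgroup.mem_top y)

section chain
variable {p : ℕ} [Fact p.Prime] {G : Type u} [Group G] [Finite G] {n : ℕ}

/-- PRL-CH2 -/
theorem normal_eq_Z (h : MC p G n) (hn : 3 ≤ n) (N : Subgroup G) [N.Normal] (i : ℕ)
    (hi : i ≤ n - 2) (hN : Nat.card N = p ^ i) : N = Z G i := by
  have hpg : IsPGroup p G := IsPGroup.of_card h.1
  apply Subgroup.eq_of_le_of_card_ge (h23_normal_le_Z p hpg i N hN)
  rw [card_Z h hn i hi, hN]

end chain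

end Cfsg.Agent.Lib.Helper18.PRL
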