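import Mathlib
import Cfsg.Agent.Lib.Helper18.PRL.Defs
import Cfsg.Agent.Lib.helper23.PRLCH2

set_option autoImplicit false

namespace Cfsg.Agent.Lib.Helper18.PRL

open scoped commutatorElement

universe u

section chain
variable {p : ℕ} [hp : Fact p.Prime] {G : Type u} [Group G] [Finite G] {n : ℕ}

/-- `|G'| = p ^ (n - 2)` in a group of maximal class. -/
theorem h23_card_commutator (h : MC p G n) (hn : 3 ≤ n) :
    Nat.card (commutator G) = p ^ (n - 2) := by
  obtain ⟨hidx, -⟩ := Cfsg.Agent.Lib.Helper21.mc_p_index p n G hn h.1 h.2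
  have h1 := Subgroup.card_mul_index (commutator G)
  rw [hidx, h.1] at h1
  have hsplit : p ^ n = p ^ (n - 2) * p ^ 2 := by
    rw [← pow_add]
    congr 1
    omega
  rw [hsplit] at h1
  exact Nat.eq_of_mul_eq_mul_right (pow_pos hp.out.pos 2) h1

/-- PRL-CH3 -/
theorem commutator_eq_Z (h : MC p G n) (hn : 3 ≤ n) : commutator G = Z G (n - 2) :=
  normal_eq_Z h hn (commutator G) (n - 2) le_rfl (h23_card_commutator h hn)

end chain

end Cfsg.Agent.Lib.Helper18.PRL
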