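import Mathlib
import Cfsg.Agent.Lib.Helper18.PRL.Defs

set_option autoImplicit false

namespace Cfsg.Agent.Lib.Helper18.PRL

open scoped commutatorElement

/-- `[Z_2, X] ≤ Z_1`. -/
theorem h23_comm_Z2_le_center (X : Type*) [Group X] :
    ⁅Subgroup.upperCentralSeries X 2, (⊤ : Subgroup X)⁆ ≤ Subgroup.center X := by
  rw [Subgroup.commutator_le]
  intro x hx y _
  have h := (Subgroup.mem_upperCentralSeries_succ_iff (n := 1)).mp hx y
  rw [Subgroup.upperCentralSeries_one] at h
  exact h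

/-- PRL-CH4 (any group): `G' ≤ C_G(Z_2)`. -/
theorem commutator_le_G1 (X : Type*) [Group X] : commutator X ≤ G1 X := by
  unfold G1
  rw [← Subgroup.commutator_eq_bot_iff_le_centralizer]
  have h1 : ⁅⁅Subgroup.upperCentralSeries X 2, (⊤ : Subgroup X)⁆, (⊤ : Subgroup X)⁆ = ⊥ := by
    rw [eq_bot_iff]
    calc ⁅⁅Subgroup.upperCentralSeries X 2, (⊤ : Subgroup X)⁆, (⊤ : Subgroup X)⁆
        ≤ ⁅Subgroup.center X, (⊤ : Subgroup X)⁆ :=
          Subgroup.commutator_mono (h23_comm_Z2_le_center X) le_rfl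
      _ = ⊥ := by
          rw [Subgroup.commutator_eq_bot_iff_le_centralizer, Subgroup.coe_top,
            Subgroup.centralizer_univ]
  have h2 : ⁅⁅(⊤ : Subgroup X), Subgroup.upperCentralSeries X 2⁆, (⊤ : Subgroup X)⁆ = ⊥ := by
    rw [Subgroup.commutator_comm (⊤ : Subgroup X) (Subgroup.upperCentralSeries X 2)]
    exact h1
  exact Subgroup.commutator_commutator_eq_bot_of_rotate h2 h1

end Cfsg.Agent.Lib.Helper18.PRL
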