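import Mathlib
import Cfsg.Agent.Lib.Helper18.PRL.Defs

set_option autoImplicit false

namespace Cfsg.Agent.Lib.Helper18.PRL

open scoped commutatorElement

universe u

/-- In a group of order `p ^ n`, a subgroup of index `p` contains the commutator subgroup. -/
theorem h23_commutator_le_of_index_card {p : ℕ} [hp : Fact p.Prime] {G : Type*} [Group G]
    [Finite G] {n : ℕ} (hG : Nat.card G = p ^ n) (H : Subgroup G) (hH : H.index = p) :
    commutator G ≤ H := by
  have hn : n ≠ 0 := by
    rintro rfl
    rw [pow_zero] at hG
    have h1 : H.index ∣ Nat.card G := Subgroup.index_dvd_card H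
    rw [hG, hH] at h1
    exact hp.out.one_lt.ne' (Nat.dvd_one.mp h1)
  haveI hN : H.Normal := by
    apply Subgroup.normal_of_index_eq_minFac_card
    rw [hH, hG, hp.out.pow_minFac hn]
  rw [← Subgroup.Normal.quotient_commutative_iff_commutator_le]
  have hc : Nat.card (G ⧸ H) = p := by
    rw [← Subgroup.index_eq_card, hH]
  haveI : IsCyclic (G ⧸ H) := isCyclic_of_prime_card hc
  exact ⟨⟨fun a b => IsCyclic.commGroup.mul_comm a b⟩⟩

section chain
variable {p : ℕ} [Fact p.Prime] {G : Type u} [Group G] [Finite G] {n : ℕ}

/-- PRL-CH5: a subgroup of index `p` contains `G'`. -/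
theorem commutator_le_of_index (h : MC p G n) (H : Subgroup G) (hH : H.index = p) :
    commutator G ≤ H :=
  h23_commutator_le_of_index_card h.1 H hH

end chain

end Cfsg.Agent.Lib.Helper18.PRL
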