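import Mathlib
import Cfsg.Agent.Lib.helper7.BR.Defs
import Cfsg.Agent.Lib.helper23.BRSUMH

/-!
# Project BR, piece CONG: degree congruences modulo `p`
-/

set_option autoImplicit false
set_option linter.unusedVariables false
set_option linter.unusedSectionVars false

namespace Cfsg.Agent.Lib.helper7.BR

open Classical
open Cfsg.Agent.Lib.Helper25

universe u

variable {G : Type u} [Group G] [Fintype G] {p : ℕ} [Fact p.Prime]

/-- the sum over a subgroup `H` of a function with constant value `c` on `H ∖ 1` -/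
theorem brcong_sum_const (H : Subgroup G) (χ : G → ℂ) (c : ℂ)
    (hval : ∀ x ∈ H, x ≠ 1 → χ x = c) :
    ∑ x : ↥H, χ (x : G) = χ 1 + ((Nat.card ↥H : ℂ) - 1) * c := by
  have h1 : ∀ x : ↥H, χ (x : G) = c + (if x = 1 then (χ 1 - c) else 0) := by
    intro x
    by_cases hx : x = 1
    · rw [if_pos hx, hx]
      simp
    · rw [if_neg hx, add_zero]
      exact hval x x.2 (fun h => hx (Subtype.ext h))
  rw [Finset.sum_congr rfl (fun x _ => h1 x), Finset.sum_add_distrib, Finset.sum_const,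
    Finset.sum_ite_eq' Finset.univ (1 : ↥H) (fun _ => χ 1 - c), if_pos (Finset.mem_univ _),
    Finset.card_univ, nsmul_eq_mul, Nat.card_eq_fintype_card]
  ring

/-- CONG1 : a character with constant integer value `a` on `P ∖ 1` has degree `≡ a mod p` (SUMH). -/
theorem deg_congr_of_const (P : Sylow p G) (hP : Nat.card ↥(P : Subgroup G) = p)
    (χ : G → ℂ) (hχ : Cfsg.IsCharacter G χ) (a : ℤ)
    (hval : ∀ x ∈ (P : Subgroup G), x ≠ 1 → χ x = (a : ℂ)) (d : ℕ) (hd : χ 1 = (d : ℂ)) :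
    (p : ℤ) ∣ (d : ℤ) - a := by
  obtain ⟨m, hm⟩ := sum_subgroup_nat (P : Subgroup G) χ hχ
  rw [brcong_sum_const (P : Subgroup G) χ (a : ℂ) hval, hP, hd] at hm
  refine ⟨(m : ℤ) - a, ?_⟩
  have h2 : ((d : ℤ) : ℂ) - (a : ℂ) = (p : ℂ) * ((m : ℂ) - (a : ℂ)) := by
    push_cast
    linear_combination hm
  have h3 : (((d : ℤ) - a : ℤ) : ℂ) = (((p : ℤ) * ((m : ℤ) - a) : ℤ) : ℂ) := by
    push_cast
    push_cast at h2
    exact h2
  exact_mod_cast h3

/-- CONG2 : a character `η` of degree `z` with `∑_{x ∈ P} η x = z - ε f` has `z ≡ ε f mod p` (SUMH). -/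
theorem deg_congr_of_sum (P : Sylow p G) (hP : Nat.card ↥(P : Subgroup G) = p)
    (η : G → ℂ) (hη : Cfsg.IsCharacter G η) (ε : ℤ) (f z : ℕ) (hz : η 1 = (z : ℂ))
    (hsum : ∑ x : ↥(P : Subgroup G), η (x : G) = η 1 - (ε : ℂ) * (f : ℂ)) :
    (p : ℤ) ∣ (z : ℤ) - ε * (f : ℤ) := by
  obtain ⟨m, hm⟩ := sum_subgroup_nat (P : Subgroup G) η hη
  rw [hsum, hP, hz] at hm
  refine ⟨(m : ℤ), ?_⟩
  have h3 : (((z : ℤ) - ε * (f : ℤ) : ℤ) : ℂ) = (((p : ℤ) * (m : ℤ) : ℤ) : ℂ) := by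
    push_cast
    exact hm
  exact_mod_cast h3

end Cfsg.Agent.Lib.helper7.BR
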