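import Mathlib
import Cfsg.Agent.Lib.helper7.BR.Defs
import Cfsg.Agent.Lib.Helper25.CharOrth
import Cfsg.Agent.Lib.Helper25.CharBasic

/-!
# Project BR, piece SQ: the squares of the degrees of any set of irreducible characters sum to at most `|G|`
-/

set_option autoImplicit false
set_option linter.unusedVariables false
set_option linter.unusedSectionVars false

namespace Cfsg.Agent.Lib.helper7.BR

open Classical
open Cfsg.Agent.Lib.Helper25
open scoped ComplexConjugate

universe u

variable {G : Type u} [Group G] [Fintype G] {p : ℕ} [Fact p.Prime]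

/-- the sum of the squares of all the degrees is `|G|` -/
theorem brsq_sum_all [Fintype (Cfsg.IrrCharacter G)] (n : Cfsg.IrrCharacter G → ℕ)
    (hn : ∀ χ : Cfsg.IrrCharacter G, (χ : G → ℂ) 1 = (n χ : ℂ)) :
    ∑ χ : Cfsg.IrrCharacter G, (n χ) ^ 2 = Nat.card G := by
  have h := irr_column_orthogonality (G := G) (1 : G) (1 : G)
  rw [if_pos (IsConj.refl 1)] at h
  have hc : Nat.card (Subgroup.centralizer ({(1 : G)} : Set G)) = Nat.card G := by
    have : Subgroup.centralizer ({(1 : G)} : Set G) = ⊤ := by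
      rw [eq_top_iff]
      intro g _
      rw [Subgroup.mem_centralizer_singleton_iff]
      simp
    rw [this, Subgroup.card_top]
  rw [hc] at h
  have h2 : ∑ χ : Cfsg.IrrCharacter G, (χ : G → ℂ) 1 * conj ((χ : G → ℂ) 1) =
      ((∑ χ : Cfsg.IrrCharacter G, (n χ) ^ 2 : ℕ) : ℂ) := by
    push_cast
    apply Finset.sum_congr rfl
    intro χ _
    rw [hn χ, Complex.conj_natCast]
    ring
  rw [h2] at h
  exact_mod_cast h

/-- SQ : the squares of the degrees of any set of irreducible characters sum to at most `|G|`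
(`irr_column_orthogonality` at `(1,1)`). -/
theorem sum_sq_le (S : Finset (Cfsg.IrrCharacter G)) (d : Cfsg.IrrCharacter G → ℕ)
    (hd : ∀ χ ∈ S, (χ : G → ℂ) 1 = (d χ : ℂ)) : ∑ χ ∈ S, (d χ) ^ 2 ≤ Nat.card G := by
  haveI := Fintype.ofFinite (Cfsg.IrrCharacter G)
  have hex : ∀ χ : Cfsg.IrrCharacter G, ∃ n : ℕ, (χ : G → ℂ) 1 = (n : ℂ) := fun χ => by
    obtain ⟨n, _, h⟩ := irr_one_eq_finrank χ
    exact ⟨n, h⟩
  choose n hn using hex
  rw [← brsq_sum_all n hn]
  calc ∑ χ ∈ S, (d χ) ^ 2 = ∑ χ ∈ S, (n χ) ^ 2 := by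
        apply Finset.sum_congr rfl
        intro χ hχ
        have : (d χ : ℂ) = (n χ : ℂ) := by rw [← hd χ hχ, hn χ]
        have : d χ = n χ := by exact_mod_cast this
        rw [this]
    _ ≤ ∑ χ : Cfsg.IrrCharacter G, (n χ) ^ 2 :=
        Finset.sum_le_sum_of_subset (Finset.subset_univ S)

end Cfsg.Agent.Lib.helper7.BR
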