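import Mathlib
import Cfsg.Agent.Lib.helper7.BR.Defs
import Cfsg.Agent.Lib.helper2.CharInt
import Cfsg.Agent.Lib.Helper25.CharOrth
import Cfsg.Agent.Lib.helper23.BRCLS

/-!
# Project BR, piece DIV: degrees dividing `|G : C_G(P)|` via the integral central characters
-/

set_option autoImplicit false
set_option linter.unusedVariables false
set_option linter.unusedSectionVars false

namespace Cfsg.Agent.Lib.helper7.BR

open Classical
open Cfsg.Agent.Lib.Helper25 Cfsg.Agent.Lib.helper2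

universe u

variable {G : Type u} [Group G] [Fintype G] {p : ℕ} [Fact p.Prime]

/-- DIV1 : an irreducible character with value `±1` at `x ∈ P ∖ 1` has degree dividing `|G : C_G(P)|`
(`irr_central_char_integral`, `nat_dvd_of_isIntegral_div` of `helper2/CharInt`, and CLS). -/
theorem deg_dvd_of_pm_one (P : Sylow p G) (hP : Nat.card ↥(P : Subgroup G) = p)
    (χ : Cfsg.IrrCharacter G) (a : ℤ) (ha : a = 1 ∨ a = -1) (x : G) (hx : x ∈ (P : Subgroup G))
    (hx1 : x ≠ 1) (hχ : (χ : G → ℂ) x = (a : ℂ)) (d : ℕ) (hd : (χ : G → ℂ) 1 = (d : ℂ)) :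
    d ∣ (cen P).index := by
  have hd0 : d ≠ 0 := by
    intro h0
    apply irr_one_ne_zero χ
    rw [hd, h0, Nat.cast_zero]
  apply nat_dvd_of_isIntegral_div _ _ hd0
  have h1 := irr_central_char_integral χ x
  rw [centralizer_eq_cen P hP x hx hx1, hχ, hd] at h1
  have ha' : IsIntegral ℤ ((a : ℤ) : ℂ) := isIntegral_algebraMap (R := ℤ) (A := ℂ) (x := a)
  have h2 := h1.mul ha'
  have haa : (a : ℂ) * (a : ℂ) = 1 := by
    rcases ha with h | h <;> rw [h] <;> norm_num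
  have e : ((cen P).index : ℂ) * (a : ℂ) / (d : ℂ) * ((a : ℤ) : ℂ) =
      ((cen P).index : ℂ) / (d : ℂ) := by
    rw [div_mul_eq_mul_div, mul_assoc, haa, mul_one]
  rw [e] at h2
  exact h2

/-- DIV2 : if all `η ∈ Y` have degree `z` and `∑_{η ∈ Y} η x = -ε` at some `x ∈ P ∖ 1`, then
`z ∣ |G : C_G(P)|` (sum of the integral central characters `ω_η(x)`). -/
theorem exc_deg_dvd (P : Sylow p G) (hP : Nat.card ↥(P : Subgroup G) = p)
    (Y : Finset (Cfsg.IrrCharacter G)) (z : ℕ) (hz : ∀ η ∈ Y, (η : G → ℂ) 1 = (z : ℂ))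
    (ε : ℤ) (hε : ε = 1 ∨ ε = -1) (x : G) (hx : x ∈ (P : Subgroup G)) (hx1 : x ≠ 1)
    (hsum : ∑ η ∈ Y, (η : G → ℂ) x = -(ε : ℂ)) : z ∣ (cen P).index := by
  have hε0 : (ε : ℂ) ≠ 0 := by
    rcases hε with h | h <;> rw [h] <;> norm_num
  have hYne : Y.Nonempty := by
    rw [Finset.nonempty_iff_ne_empty]
    intro h0
    rw [h0, Finset.sum_empty] at hsum
    exact hε0 (by rw [← neg_eq_zero]; exact hsum.symm)
  obtain ⟨η0, hη0⟩ := hYne
  have hz0 : z ≠ 0 := by
    intro h0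
    apply irr_one_ne_zero η0
    rw [hz η0 hη0, h0, Nat.cast_zero]
  apply nat_dvd_of_isIntegral_div _ _ hz0
  have h1 : IsIntegral ℤ (∑ η ∈ Y, ((cen P).index : ℂ) * (η : G → ℂ) x / (z : ℂ)) := by
    apply IsIntegral.sum
    intro η hη
    have := irr_central_char_integral η x
    rwa [centralizer_eq_cen P hP x hx hx1, hz η hη] at this
  have e1 : ∑ η ∈ Y, ((cen P).index : ℂ) * (η : G → ℂ) x / (z : ℂ) =
      ((cen P).index : ℂ) * (-(ε : ℂ)) / (z : ℂ) := by
    rw [← Finset.sum_div, ← Finset.mul_sum, hsum]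
  rw [e1] at h1
  have ha' : IsIntegral ℤ ((-ε : ℤ) : ℂ) := isIntegral_algebraMap (R := ℤ) (A := ℂ) (x := -ε)
  have h2 := h1.mul ha'
  have hee : (-(ε : ℂ)) * (-(ε : ℂ)) = 1 := by
    rcases hε with h | h <;> rw [h] <;> norm_num
  have e : ((cen P).index : ℂ) * (-(ε : ℂ)) / (z : ℂ) * ((-ε : ℤ) : ℂ) =
      ((cen P).index : ℂ) / (z : ℂ) := by
    push_cast
    rw [div_mul_eq_mul_div, mul_assoc, hee, mul_one]
  rw [e] at h2
  exact h2

end Cfsg.Agent.Lib.helper7.BR
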