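import Cfsg.Agent.Lib.helper23.PgA

set_option autoImplicit false

/-!
# Verified stabiliser chains: the computational layer

Permutations of `Fin n` are given by pairs of functions `ℕ → ℕ` (forward and inverse lookups),
a chain is a list of levels; `pgChk n C = true` (a kernel computation) implies that the group
generated by the generators of `C` has the order `pgOrd n C`, and that the stabiliser of the first
base point is generated by the generators of the tail of `C`.
-/

namespace Cfsg.Agent.Lib.helper23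

open Subgroup

/-! ### kernel friendly loops -/

/-- bounded universal quantifier -/
def pgAll (n : ℕ) (p : ℕ → Bool) : Bool :=
  @Nat.rec (fun _ => Bool) true (fun k ih => cond (p k) ih false) n

theorem pgAll_iff (n : ℕ) (p : ℕ → Bool) : pgAll n p = true ↔ ∀ k < n, p k = true := by
  induction n with
  | zero => exact ⟨fun _ k hk => absurd hk (Nat.not_lt_zero k), fun _ => rfl⟩
  | succ n ih =>
    have e : pgAll (n+1) p = cond (p n) (pgAll n p) false := rfl
    rw [e]
    constructor
    · intro h k hk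
      cases hp : p n with
      | false => rw [hp] at h; exact absurd h (by simp)
      | true =>
        rw [hp] at h
        rcases Nat.lt_succ_iff_lt_or_eq.mp hk with h1 | h1
        · exact ih.mp h k h1
        · rw [h1]; exact hp
    · intro h
      rw [h n (Nat.lt_succ_self n)]
      exact ih.mpr (fun k hk => h k (Nat.lt_succ_of_lt hk))

/-- evaluate the number `e` first, then continue with its value -/
def pgForce {β : Sort*} (e : ℕ) (k : ℕ → β) : β :=
  @Nat.rec (fun _ => β) (k 0) (fun n _ => k (Nat.succ n)) e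

theorem pgForce_eq {β : Sort*} (e : ℕ) (k : ℕ → β) : pgForce e k = k e := by
  cases e <;> rfl

/-- universal quantifier over a list -/
def pgAllL {α : Type} (l : List α) (p : α → Bool) : Bool :=
  @List.rec α (fun _ => Bool) true (fun a _ ih => cond (p a) ih false) l

theorem pgAllL_iff {α : Type} (l : List α) (p : α → Bool) :
    pgAllL l p = true ↔ ∀ a ∈ l, p a = true := by
  induction l with
  | nil => exact ⟨fun _ a ha => absurd ha (List.not_mem_nil), fun _ => rfl⟩
  | cons a l ih =>
    have e : pgAllL (a :: l) p = cond (p a) (pgAllL l p) false := rfl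
    rw [e]
    constructor
    · intro h x hx
      cases hp : p a with
      | false => rw [hp] at h; exact absurd h (by simp)
      | true =>
        rw [hp] at h
        rcases List.mem_cons.mp hx with h1 | h1
        · rw [h1]; exact hp
        · exact ih.mp h x h1
    · intro h
      rw [h a List.mem_cons_self]
      exact ih.mpr (fun x hx => h x (List.mem_cons_of_mem a hx))

/-- number of `k < n` with `p k` -/
def pgCount (n : ℕ) (p : ℕ → Bool) : ℕ :=
  @Nat.rec (fun _ => ℕ) 0 (fun k ih => cond (p k) (Nat.succ ih) ih) n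

theorem pgCount_eq (n : ℕ) (p : ℕ → Bool) :
    pgCount n p = ((Finset.range n).filter (fun k => p k = true)).card := by
  induction n with
  | zero => rfl
  | succ n ih =>
    have e : pgCount (n+1) p = cond (p n) (Nat.succ (pgCount n p)) (pgCount n p) := rfl
    rw [e, Finset.range_add_one, Finset.filter_insert]
    cases hp : p n with
    | false => simp [ih]
    | true =>
      rw [if_pos rfl, Finset.card_insert_of_notMem (by simp), ih]
      rfl

theorem pgCount_fin (n : ℕ) (p : ℕ → Bool) :
    (Finset.univ.filter (fun z : Fin n => p z.1 = true)).card = pgCount n p := by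
  rw [pgCount_eq]
  apply Finset.card_bij (fun z _ => z.1)
  · intro z hz
    simp only [Finset.mem_filter, Finset.mem_univ, true_and] at hz
    simp [hz]
  · intro a _ c _ h
    exact Fin.ext h
  · intro k hk
    simp only [Finset.mem_filter, Finset.mem_range] at hk
    exact ⟨⟨k, hk.1⟩, by simp [hk.2], rfl⟩

/-! ### permutations from lookup functions -/

/-- forward and inverse lookup -/
structure PFun where
  /-- forward -/
  f : ℕ → ℕ
  /-- inverse -/
  g : ℕ → ℕ

/-- the two lookups are mutually inverse bijections of `{0, …, n-1}` -/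
def PFun.ok (n : ℕ) (P : PFun) : Bool :=
  pgAll n (fun i => (Nat.blt (P.f i) n && Nat.beq (P.g (P.f i)) i) &&
    (Nat.blt (P.g i) n && Nat.beq (P.f (P.g i)) i))

theorem PFun.ok_spec {n : ℕ} {P : PFun} (h : P.ok n = true) (i : ℕ) (hi : i < n) :
    (P.f i < n ∧ P.g (P.f i) = i) ∧ (P.g i < n ∧ P.f (P.g i) = i) := by
  have := (pgAll_iff _ _).1 h i hi
  simp only [Bool.and_eq_true, Nat.blt_eq, Nat.beq_eq] at this
  exact this

/-- the swapped pair -/
def PFun.swap (P : PFun) : PFun := ⟨P.g, P.f⟩

theorem PFun.swap_ok {n : ℕ} {P : PFun} (h : P.ok n = true) : P.swap.ok n = true := by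
  rw [PFun.ok, pgAll_iff]
  intro i hi
  obtain ⟨⟨h1, h2⟩, h3, h4⟩ := PFun.ok_spec h i hi
  simp only [PFun.swap, Bool.and_eq_true, Nat.blt_eq, Nat.beq_eq]
  exact ⟨⟨h3, h4⟩, h1, h2⟩

/-- the permutation of `Fin n` (the identity when the check fails) -/
def PFun.perm (n : ℕ) (P : PFun) : Equiv.Perm (Fin n) :=
  if h : P.ok n = true then
    { toFun := fun i => ⟨P.f i.1, (PFun.ok_spec h i.1 i.2).1.1⟩
      invFun := fun i => ⟨P.g i.1, (PFun.ok_spec h i.1 i.2).2.1⟩
      left_inv := fun i => Fin.ext (PFun.ok_spec h i.1 i.2).1.2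
      right_inv := fun i => Fin.ext (PFun.ok_spec h i.1 i.2).2.2 }
  else 1

theorem PFun.perm_apply {n : ℕ} {P : PFun} (h : P.ok n = true) (i : Fin n) :
    ((P.perm n) i).1 = P.f i.1 := by
  rw [PFun.perm, dif_pos h]
  rfl

theorem PFun.perm_inv_apply {n : ℕ} {P : PFun} (h : P.ok n = true) (i : Fin n) :
    ((P.perm n)⁻¹ i).1 = P.g i.1 := by
  rw [PFun.perm, dif_pos h]
  rfl

theorem PFun.swap_perm {n : ℕ} {P : PFun} (h : P.ok n = true) :
    P.swap.perm n = (P.perm n)⁻¹ := by
  ext i
  rw [PFun.perm_apply (PFun.swap_ok h), PFun.perm_inv_apply h]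
  rfl

/-- the identity pair -/
def PFun.one : PFun := ⟨fun i => i, fun i => i⟩

theorem PFun.one_ok (n : ℕ) : PFun.one.ok n = true := by
  rw [PFun.ok, pgAll_iff]
  intro i hi
  simp [PFun.one, hi]

theorem PFun.one_perm (n : ℕ) : PFun.one.perm n = 1 := by
  ext i
  rw [PFun.perm_apply (PFun.one_ok n)]
  rfl

/-! ### words -/

/-- the letter `j`: the generator `j` for `j < m`, the inverse of the generator `j - m` else -/
def pgLetter (gs : List PFun) (j : ℕ) : PFun :=
  cond (Nat.blt j gs.length) (gs.getD j PFun.one) (gs.getD (Nat.sub j gs.length) PFun.one).swap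

/-- the image of the point `p` under the word `w` (a product, the last letter acts first) -/
def pgEvalW (gs : List PFun) (w : List ℕ) (p : ℕ) : ℕ :=
  @List.rec ℕ (fun _ => ℕ) p (fun j _ ih => (pgLetter gs j).f ih) w

/-- the set of generators -/
def pgSet (n : ℕ) (gs : List PFun) : Set (Equiv.Perm (Fin n)) :=
  {x | ∃ P ∈ gs, x = P.perm n}

/-- the permutation of a word -/
def pgWordPerm (n : ℕ) (gs : List PFun) (w : List ℕ) : Equiv.Perm (Fin n) :=
  (w.map (fun j => (pgLetter gs j).perm n)).prod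

theorem pgGetD_ok {n : ℕ} {gs : List PFun} (hgs : ∀ P ∈ gs, P.ok n = true) (j : ℕ) :
    (gs.getD j PFun.one).ok n = true := by
  rw [List.getD_eq_getElem?_getD]
  cases h : gs[j]? with
  | none => exact PFun.one_ok n
  | some P => exact hgs P (List.mem_of_getElem? h)

theorem pgGetD_mem {n : ℕ} {gs : List PFun} (j : ℕ) :
    (gs.getD j PFun.one).perm n ∈ closure (pgSet n gs) := by
  rw [List.getD_eq_getElem?_getD]
  cases h : gs[j]? with
  | none =>
    simp only [Option.getD_none]
    rw [PFun.one_perm]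
    exact one_mem _
  | some P => exact subset_closure ⟨P, List.mem_of_getElem? h, rfl⟩

theorem pgLetter_ok {n : ℕ} {gs : List PFun} (hgs : ∀ P ∈ gs, P.ok n = true) (j : ℕ) :
    (pgLetter gs j).ok n = true := by
  unfold pgLetter
  cases Nat.blt j gs.length with
  | true => exact pgGetD_ok hgs j
  | false => exact PFun.swap_ok (pgGetD_ok hgs _)

theorem pgLetter_mem {n : ℕ} {gs : List PFun} (hgs : ∀ P ∈ gs, P.ok n = true) (j : ℕ) :
    (pgLetter gs j).perm n ∈ closure (pgSet n gs) := by
  unfold pgLetter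
  cases Nat.blt j gs.length with
  | true => exact pgGetD_mem j
  | false =>
    simp only [cond_false]
    rw [PFun.swap_perm (pgGetD_ok hgs _)]
    exact inv_mem (pgGetD_mem _)

theorem pgWordPerm_mem {n : ℕ} {gs : List PFun} (hgs : ∀ P ∈ gs, P.ok n = true) (w : List ℕ) :
    pgWordPerm n gs w ∈ closure (pgSet n gs) := by
  unfold pgWordPerm
  apply Subgroup.list_prod_mem
  intro x hx
  obtain ⟨j, -, rfl⟩ := List.mem_map.1 hx
  exact pgLetter_mem hgs j

theorem pgWordPerm_apply {n : ℕ} {gs : List PFun} (hgs : ∀ P ∈ gs, P.ok n = true)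
    (w : List ℕ) (i : Fin n) : ((pgWordPerm n gs w) i).1 = pgEvalW gs w i.1 := by
  induction w with
  | nil => rfl
  | cons j w ih =>
    have e : pgEvalW gs (j :: w) i.1 = (pgLetter gs j).f (pgEvalW gs w i.1) := rfl
    rw [e, ← ih]
    unfold pgWordPerm
    rw [List.map_cons, List.prod_cons, Equiv.Perm.mul_apply, PFun.perm_apply (pgLetter_ok hgs j)]

theorem pgWordPerm_append (n : ℕ) (gs : List PFun) (w v : List ℕ) :
    pgWordPerm n gs (w ++ v) = pgWordPerm n gs w * pgWordPerm n gs v := by
  unfold pgWordPerm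
  rw [List.map_append, List.prod_append]

/-! ### chains -/

/-- one level of a chain -/
structure PgLvl where
  /-- base point -/
  b : ℕ
  /-- the orbit of the base point -/
  inO : ℕ → Bool
  /-- the transversal -/
  u : ℕ → PFun
  /-- the transversal elements as words in the generators of this and the deeper levels -/
  path : ℕ → List ℕ
  /-- the generators added at this level -/
  own : List PFun

/-- all generators of a chain -/
def pgGens (C : List PgLvl) : List PFun :=
  @List.rec PgLvl (fun _ => List PFun) [] (fun L _ ih => L.own ++ ih) C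

theorem pgGens_cons (L : PgLvl) (C : List PgLvl) : pgGens (L :: C) = L.own ++ pgGens C := rfl

/-- sifting: `f` is the lookup function of a permutation -/
def pgSift (n : ℕ) (C : List PgLvl) : (ℕ → ℕ) → Bool :=
  @List.rec PgLvl (fun _ => (ℕ → ℕ) → Bool)
    (fun f => pgAll n (fun p => Nat.beq (f p) p))
    (fun L _ ih f => pgForce (f L.b)
      (fun z => cond (L.inO z) (ih (fun p => (L.u z).g (f p))) false))
    C

theorem pgSift_nil (n : ℕ) (f : ℕ → ℕ) :
    pgSift n [] f = pgAll n (fun p => Nat.beq (f p) p) := rfl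

theorem pgSift_cons (n : ℕ) (L : PgLvl) (C : List PgLvl) (f : ℕ → ℕ) :
    pgSift n (L :: C) f =
      cond (L.inO (f L.b)) (pgSift n C (fun p => (L.u (f L.b)).g (f p))) false := by
  have e : pgSift n (L :: C) f = pgForce (f L.b)
      (fun z => cond (L.inO z) (pgSift n C (fun p => (L.u z).g (f p))) false) := rfl
  rw [e, pgForce_eq]

/-- the closure check for one generator -/
def pgChkGen (n : ℕ) (L : PgLvl) (Ls : List PgLvl) (s : PFun) : Bool :=
  pgAll n (fun z => cond (L.inO z)
    (pgForce (s.f z) (fun y => L.inO y &&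
      pgSift n Ls (fun p => (L.u y).g (s.f ((L.u z).f p)))))
    true)

/-- the transversal check -/
def pgChkU (n : ℕ) (L : PgLvl) (gs : List PFun) : Bool :=
  pgAll n (fun z => cond (L.inO z)
    (((L.u z).ok n && Nat.beq ((L.u z).f L.b) z) &&
      pgAll n (fun p => Nat.beq ((L.u z).f p) (pgEvalW gs (L.path z) p)))
    true)

/-- the check of one level -/
def pgChkLvl (n : ℕ) (L : PgLvl) (Ls : List PgLvl) : Bool :=
  ((Nat.blt L.b n && pgAllL (pgGens Ls) (fun s => Nat.beq (s.f L.b) L.b)) &&
    (pgAllL L.own (fun s => s.ok n) &&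
      (L.inO L.b && pgAll n (fun p => Nat.beq ((L.u L.b).f p) p)))) &&
  (pgChkU n L (pgGens (L :: Ls)) &&
    pgAllL (pgGens (L :: Ls)) (fun s => pgChkGen n L Ls s))

/-- the check of a chain -/
def pgChk (n : ℕ) (C : List PgLvl) : Bool :=
  @List.rec PgLvl (fun _ => Bool) true (fun L Ls ih => pgChkLvl n L Ls && ih) C

theorem pgChk_cons (n : ℕ) (L : PgLvl) (C : List PgLvl) :
    pgChk n (L :: C) = (pgChkLvl n L C && pgChk n C) := rfl

/-- the claimed order -/
def pgOrd (n : ℕ) (C : List PgLvl) : ℕ :=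
  @List.rec PgLvl (fun _ => ℕ) 1 (fun L _ ih => Nat.mul (pgCount n L.inO) ih) C

theorem pgOrd_cons (n : ℕ) (L : PgLvl) (C : List PgLvl) :
    pgOrd n (L :: C) = pgCount n L.inO * pgOrd n C := rfl

/-- the group of a chain -/
def pgGrp (n : ℕ) (C : List PgLvl) : Subgroup (Equiv.Perm (Fin n)) :=
  closure (pgSet n (pgGens C))

theorem pgGrp_mono (n : ℕ) (L : PgLvl) (C : List PgLvl) : pgGrp n C ≤ pgGrp n (L :: C) := by
  apply Subgroup.closure_mono
  rintro x ⟨P, hP, rfl⟩
  exact ⟨P, by rw [pgGens_cons]; exact List.mem_append_right _ hP, rfl⟩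

theorem pgChk_gens_ok (n : ℕ) : ∀ C : List PgLvl, pgChk n C = true →
    ∀ P ∈ pgGens C, P.ok n = true := by
  intro C
  induction C with
  | nil => intro _ P hP; exact absurd hP List.not_mem_nil
  | cons L C ih =>
    intro h P hP
    rw [pgChk_cons, Bool.and_eq_true] at h
    rw [pgGens_cons, List.mem_append] at hP
    rcases hP with hP | hP
    · have h1 := h.1
      unfold pgChkLvl at h1
      simp only [Bool.and_eq_true] at h1
      exact (pgAllL_iff _ _).1 h1.1.2.1 P hP
    · exact ih h.2 P hP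

/-- facts extracted from the check of a level -/
theorem pgChkLvl_spec {n : ℕ} {L : PgLvl} {Ls : List PgLvl} (h : pgChkLvl n L Ls = true)
    (hgs : ∀ P ∈ pgGens (L :: Ls), P.ok n = true) :
    L.b < n ∧ (∀ s ∈ pgGens Ls, s.f L.b = L.b) ∧ L.inO L.b = true ∧
    (∀ p < n, (L.u L.b).f p = p) ∧
    (∀ z < n, L.inO z = true → (L.u z).ok n = true ∧ (L.u z).f L.b = z ∧
      ∃ hz : (L.u z).ok n = true, (L.u z).perm n = pgWordPerm n (pgGens (L :: Ls)) (L.path z)) ∧
    (∀ s ∈ pgGens (L :: Ls), ∀ z < n, L.inO z = true → L.inO (s.f z) = true ∧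
      pgSift n Ls (fun p => (L.u (s.f z)).g (s.f ((L.u z).f p))) = true) := by
  unfold pgChkLvl at h
  simp only [Bool.and_eq_true, Nat.blt_eq] at h
  obtain ⟨⟨⟨h1, h2⟩, h3, h4, h5⟩, h6, h7⟩ := h
  refine ⟨h1, ?_, h4, ?_, ?_, ?_⟩
  · intro s hs
    simpa using (pgAllL_iff _ _).1 h2 s hs
  · intro p hp
    simpa using (pgAll_iff _ _).1 h5 p hp
  · intro z hz hO
    have := (pgAll_iff _ _).1 h6 z hz
    rw [hO] at this
    simp only [cond_true, Bool.and_eq_true, Nat.beq_eq] at this
    obtain ⟨⟨a1, a2⟩, a3⟩ := this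
    refine ⟨a1, a2, a1, ?_⟩
    ext i
    rw [PFun.perm_apply a1, pgWordPerm_apply hgs]
    simpa using (pgAll_iff _ _).1 a3 i.1 i.2
  · intro s hs z hz hO
    have := (pgAll_iff _ _).1 ((pgAllL_iff _ _).1 h7 s hs) z hz
    rw [hO] at this
    simp only [cond_true, pgForce_eq, Bool.and_eq_true] at this
    exact this

theorem pgSift_sound (n : ℕ) : ∀ C : List PgLvl, pgChk n C = true →
    ∀ (f : ℕ → ℕ) (g : Equiv.Perm (Fin n)), (∀ p : Fin n, f p.1 = (g p).1) →
      pgSift n C f = true → g ∈ pgGrp n C := by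
  intro C
  induction C with
  | nil =>
    intro _ f g hfg hs
    rw [pgSift_nil, pgAll_iff] at hs
    have : g = 1 := by
      ext p
      have := hs p.1 p.2
      rw [Nat.beq_eq, hfg] at this
      simpa using this
    rw [this]
    exact one_mem _
  | cons L C ih =>
    intro h f g hfg hs
    have hgs := pgChk_gens_ok n _ h
    rw [pgChk_cons, Bool.and_eq_true] at h
    obtain ⟨hb, -, -, -, hU, -⟩ := pgChkLvl_spec h.1 hgs
    rw [pgSift_cons] at hs
    have hO : L.inO (f L.b) = true := by
      cases hh : L.inO (f L.b) with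
      | true => rfl
      | false => rw [hh] at hs; exact absurd hs (by simp)
    rw [hO] at hs
    simp only [cond_true] at hs
    have hfb : f L.b = (g ⟨L.b, hb⟩).1 := hfg ⟨L.b, hb⟩
    have hzn : f L.b < n := by rw [hfb]; exact (g ⟨L.b, hb⟩).2
    obtain ⟨hok, -, -, hw⟩ := hU (f L.b) hzn hO
    have hv : (L.u (f L.b)).perm n ∈ pgGrp n (L :: C) := by
      rw [hw]
      exact pgWordPerm_mem hgs _
    have h2 : ((L.u (f L.b)).perm n)⁻¹ * g ∈ pgGrp n C := by
      apply ih h.2 _ _ _ hs
      intro p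
      rw [Equiv.Perm.mul_apply, PFun.perm_inv_apply hok, ← hfg]
    have : g = (L.u (f L.b)).perm n * (((L.u (f L.b)).perm n)⁻¹ * g) := by simp
    rw [this]
    exact mul_mem hv (pgGrp_mono n L C h2)

theorem pgGrp_fix {n : ℕ} {C : List PgLvl} {b : Fin n} (h : ∀ s ∈ pgGens C, s.f b.1 = b.1)
    (hgs : ∀ P ∈ pgGens C, P.ok n = true) : ∀ k ∈ pgGrp n C, k b = b := by
  intro k hk
  have : pgGrp n C ≤ MulAction.stabilizer (Equiv.Perm (Fin n)) b := by
    apply (closure_le _).2
    rintro x ⟨P, hP, rfl⟩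
    rw [SetLike.mem_coe, MulAction.mem_stabilizer_iff]
    apply Fin.ext
    rw [Equiv.Perm.smul_def, PFun.perm_apply (hgs P hP), h P hP]
  exact MulAction.mem_stabilizer_iff.1 (this hk)

/-- the main theorem for one level -/
theorem pgLvl_main {n : ℕ} {L : PgLvl} {C : List PgLvl} (h : pgChk n (L :: C) = true) :
    ∃ hb : L.b < n, (∀ g ∈ pgGrp n (L :: C), g ⟨L.b, hb⟩ = ⟨L.b, hb⟩ → g ∈ pgGrp n C) ∧
      Nat.card (pgGrp n (L :: C)) = pgCount n L.inO * Nat.card (pgGrp n C) ∧
      ∀ z : Fin n, L.inO z.1 = true → ∃ g ∈ pgGrp n (L :: C), g ⟨L.b, hb⟩ = z := by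
  have hgs := pgChk_gens_ok n _ h
  have h' := h
  rw [pgChk_cons, Bool.and_eq_true] at h'
  have hgs' := pgChk_gens_ok n _ h'.2
  obtain ⟨hb, hfix, hOb, hub, hU, hcl⟩ := pgChkLvl_spec h'.1 hgs
  refine ⟨hb, ?_⟩
  have key := pg_step (pgSet n (pgGens (L :: C))) (pgGrp n C) ⟨L.b, hb⟩
    (Finset.univ.filter (fun z : Fin n => L.inO z.1 = true)) (fun z => (L.u z.1).perm n)
    (by simpa using hOb)
    (by
      obtain ⟨hok, -, -, -⟩ := hU L.b hb hOb
      ext p
      rw [PFun.perm_apply hok, hub p.1 p.2]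
      rfl)
    (by
      intro z hz
      simp only [Finset.mem_filter, Finset.mem_univ, true_and] at hz
      obtain ⟨hok, hz2, -, -⟩ := hU z.1 z.2 hz
      apply Fin.ext
      rw [PFun.perm_apply hok]
      exact hz2)
    (pgGrp_mono n L C)
    (pgGrp_fix (b := ⟨L.b, hb⟩) hfix hgs')
    (by
      intro z hz
      simp only [Finset.mem_filter, Finset.mem_univ, true_and] at hz
      obtain ⟨-, -, hok, hw⟩ := hU z.1 z.2 hz
      rw [hw]
      exact pgWordPerm_mem hgs _)
    (by
      rintro s ⟨P, hP, rfl⟩ z hz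
      simp only [Finset.mem_filter, Finset.mem_univ, true_and] at hz
      obtain ⟨c1, c2⟩ := hcl P hP z.1 z.2 hz
      have hPz : ((P.perm n) z).1 = P.f z.1 := PFun.perm_apply (hgs P hP) z
      have hyn : P.f z.1 < n := by rw [← hPz]; exact ((P.perm n) z).2
      obtain ⟨hoky, -, -, -⟩ := hU (P.f z.1) hyn c1
      obtain ⟨hokz, -, -, -⟩ := hU z.1 z.2 hz
      refine ⟨?_, ?_⟩
      · simp only [Finset.mem_filter, Finset.mem_univ, true_and]
        rw [hPz]
        exact c1
      · apply pgSift_sound n C h'.2 _ _ _ c2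
        intro p
        rw [Equiv.Perm.mul_apply, Equiv.Perm.mul_apply, hPz, PFun.perm_inv_apply hoky,
          PFun.perm_apply (hgs P hP), PFun.perm_apply hokz])
  refine ⟨key.1, ?_, ?_⟩
  · rw [← pgCount_fin]
    exact key.2
  · intro z hz
    obtain ⟨hok, hz2, -, hw⟩ := hU z.1 z.2 hz
    refine ⟨(L.u z.1).perm n, ?_, ?_⟩
    · rw [hw]
      exact pgWordPerm_mem hgs _
    · apply Fin.ext
      rw [PFun.perm_apply hok]
      exact hz2

theorem pgGrp_nil (n : ℕ) : pgGrp n [] = ⊥ := by
  unfold pgGrp pgSet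
  have : pgGens [] = [] := rfl
  rw [this]
  simp

/-- the order of the group of a checked chain -/
theorem pgCard (n : ℕ) : ∀ C : List PgLvl, pgChk n C = true →
    Nat.card (pgGrp n C) = pgOrd n C := by
  intro C
  induction C with
  | nil =>
    intro _
    rw [pgGrp_nil]
    simp [pgOrd]
  | cons L C ih =>
    intro h
    obtain ⟨hb, -, h2, -⟩ := pgLvl_main h
    rw [pgChk_cons, Bool.and_eq_true] at h
    rw [h2, ih h.2, pgOrd_cons]

end Cfsg.Agent.Lib.helper23
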