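import Mathlib.GroupTheory.Sylow

set_option autoImplicit false

namespace Cfsg.Agent.Lib.helper23

open scoped Pointwise

variable {G : Type*} [Group G]

theorem mem_smul_sylow_iff {p : ℕ} (g : G) (P : Sylow p G) (y : G) :
    y ∈ ((g • P : Sylow p G) : Subgroup G) ↔ g⁻¹ * y * g ∈ (P : Subgroup G) := by
  rw [Sylow.coe_subgroup_smul, Subgroup.mem_pointwise_smul_iff_inv_smul_mem]
  simp [MulAut.smul_def]

theorem mem_smul_sylow_iff' {p : ℕ} (g : G) (P : Sylow p G) (y : G) :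
    g * y * g⁻¹ ∈ ((g • P : Sylow p G) : Subgroup G) ↔ y ∈ (P : Subgroup G) := by
  rw [mem_smul_sylow_iff]
  have : g⁻¹ * (g * y * g⁻¹) * g = y := by group
  rw [this]

theorem orderOf_conj_eq (g y : G) : orderOf (g * y * g⁻¹) = orderOf y :=
  (MulAut.conj g).orderOf_eq y

theorem isPGroup_zpowers_of_orderOf {p : ℕ} {x : G} {k : ℕ} (hk : orderOf x = p ^ k) :
    IsPGroup p (Subgroup.zpowers x) := by
  intro y
  obtain ⟨n, hn⟩ := y.2
  refine ⟨k, ?_⟩
  apply Subtype.ext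
  simp only [Subgroup.coe_pow, Subgroup.coe_one, ← hn]
  rw [← zpow_natCast, ← zpow_mul, mul_comm, zpow_mul, zpow_natCast, ← hk, pow_orderOf_eq_one, one_zpow]

theorem exists_sylow_mem_of_orderOf {p : ℕ} [Fact p.Prime] {x : G} {k : ℕ}
    (hk : orderOf x = p ^ k) : ∃ P : Sylow p G, x ∈ P := by
  obtain ⟨Q, hQ⟩ := (isPGroup_zpowers_of_orderOf hk).exists_le_sylow
  exact ⟨Q, hQ (Subgroup.mem_zpowers x)⟩

theorem orderOf_eq_prime_pow_of_mem_sylow {p : ℕ} [Fact p.Prime] (P : Sylow p G) {x : G}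
    (hx : x ∈ P) : ∃ k : ℕ, orderOf x = p ^ k := by
  obtain ⟨k, hk⟩ := P.isPGroup' ⟨x, hx⟩
  have hk' : x ^ (p ^ k) = 1 := by
    have := congrArg Subtype.val hk
    simpa using this
  have hd : orderOf x ∣ p ^ k := orderOf_dvd_of_pow_eq_one hk'
  obtain ⟨j, -, hj⟩ := (Nat.dvd_prime_pow Fact.out).mp hd
  exact ⟨j, hj⟩

end Cfsg.Agent.Lib.helper23
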