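import Mathlib
import Cfsg.Agent.Lib.helper3.T2E.Defs3
import Cfsg.Agent.Lib.helper8.ChevTwE6H16
import Cfsg.Agent.Lib.Helper22.T2ED1
import Cfsg.Agent.Lib.Helper28.T2ED2
import Cfsg.Agent.Lib.helper4.T2ED5

/-!
# T2E row C5, core (helper23): `CLm_tor` with the statement of C4 (`chi_ne_one` at `r`) as a hypothesis.
Also an own proof of the statement of D6 (`T1_act`): `t2ec5h23_T1_act` (through `h8chi_spec`, `h8chi_sig`, `sig_fix`; no D4 needed).
-/

set_option autoImplicit false

namespace Cfsg.Agent.Lib.helper3.T2E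

open Cfsg.Lie Cfsg.Lie.ChevalleyDatum Matrix
open Cfsg.Agent.Lib.helper8 Cfsg.Agent.Lib.Helper10.TEM Cfsg.Agent.Lib.helper7.Ce
  Cfsg.Agent.Lib.helper15.St2

universe u

variable {K : Type u} [Field K] {q : ℕ} {f : K ≃+* K} {Γ : Type u} [Group Γ]
  {π : Γ →* ↥(twistedE6 K q)}

/-- the characters of an element of `T¹` are compatible with the twist -/
theorem t2ec5h23_chi_sig (hF : Frob q f) (h : GG K) (hh : h ∈ T1 K q) (r : ℕ) (hr : r < 72) :
    h8chi chevE6 hB h (h8sE6 r) = (h8chi chevE6 hB h r) ^ q := by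
  have hrn : r < chevE6.nroots := (root_data r hr).1
  have h1 := h8chi_sig chevE6 hB hA hW h8sE6 h8tE6 h8pE6 h8qE6 h8eE6 hAut f h hh.1 (sig_fix hF h hh.2) r hrn
  rw [h1, hF.pow]

/-- own copy of D6 (`T1_act`) -/
theorem t2ec5h23_T1_act (hF : Frob q f) (h : GG K) (hh : h ∈ T1 K q) (r : ℕ) (hr : r < 72) (t : K)
    (ht : Adm q r t) :
    Adm q r (h8chi chevE6 hB h r * t) ∧
      h * XT q r t * h⁻¹ = XT q r (h8chi chevE6 hB h r * t) := by
  obtain ⟨hrn, -, hr', -, -, -, -, -, -, -⟩ := root_data r hr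
  have hr'n : h8sE6 r < chevE6.nroots := (root_data _ hr').1
  have hsig := t2ec5h23_chi_sig hF h hh r hr
  constructor
  · intro hσ
    rw [hσ] at hsig
    rw [mul_pow, ← hsig, ht hσ]
  · unfold XT
    by_cases hσ : h8sE6 r = r
    · rw [if_pos hσ, if_pos hσ]
      exact (h8chi_spec chevE6 hB h hh.1 r hrn).2 t
    · rw [if_neg hσ, if_neg hσ]
      unfold XS
      have e : h * (X r t * X (h8sE6 r) (((h8eE6 r : ℤ) : K) * t ^ q)) * h⁻¹ =
          (h * X r t * h⁻¹) * (h * X (h8sE6 r) (((h8eE6 r : ℤ) : K) * t ^ q) * h⁻¹) := by group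
      rw [e]
      have e1 := (h8chi_spec chevE6 hB h hh.1 r hrn).2 t
      have e2 := (h8chi_spec chevE6 hB h hh.1 (h8sE6 r) hr'n).2 (((h8eE6 r : ℤ) : K) * t ^ q)
      unfold X
      rw [e1, e2, hsig]
      congr 2
      ring

/-- `f t = t` iff `t ^ q = t` -/
theorem t2ec5h23_mem_kF (hF : Frob q f) (t : K) : t ∈ kF f ↔ t ^ q = t := by
  show f t = t ↔ t ^ q = t
  rw [hF.pow]

/-- [C5] core: the statement of C4 at `r` is a hypothesis -/
theorem t2ec5h23_CLm_tor_core (hF : Frob q f) (hπ : IsCE π) (r : ℕ) (hr : r < 72)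
    (hC4 : ∃ h' ∈ T1 K q, h8chi chevE6 hB h' r ≠ 1)
    (h : GG K) (hh : h ∈ T1 K q)
    (h1 : h8chi chevE6 hB h r = 1) : ∀ t, Adm q r t → CLm π h (XT q r t) := by
  obtain ⟨h', hh', hc⟩ := hC4
  -- elements of `G¹`
  let w : ↥(twistedE6 K q) := ⟨h, hh.2⟩
  let g : ↥(twistedE6 K q) := ⟨h', hh'.2⟩
  have hgw : cj g w = w := by
    apply Subtype.ext
    show h' * h * h'⁻¹ = h
    rw [T1_comm h' h hh' hh, mul_inv_cancel_right]
  -- `h` centralizes the root group
  have hcomm : ∀ t, Adm q r t → XT q r t * h = h * XT q r t := by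
    intro t ht
    have := (t2ec5h23_T1_act hF h hh r hr t ht).2
    rw [h1, one_mul] at this
    calc XT q r t * h = (h * XT q r t * h⁻¹) * h := by rw [this]
      _ = h * XT q r t := by group
  by_cases hσ : h8sE6 r = r
  · -- fixed root: the root group is parametrized by the subfield `kF f`
    have hadm : ∀ t : ↥(kF f), Adm q r (t : K) := fun t _ => (t2ec5h23_mem_kF hF _).1 t.2
    let x : ↥(kF f) → ↥(twistedE6 K q) := fun t => ⟨XT q r (t : K), XT_mem hF r hr _ (hadm t)⟩
    have hadd : ∀ s t, x (s + t) = x s * x t := by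
      intro s t
      apply Subtype.ext
      exact XT_add hF r hr (s : K) (t : K)
    have hcK : h8chi chevE6 hB h' r ∈ kF f := by
      have := (t2ec5h23_T1_act hF h' hh' r hr 1 (fun _ => one_pow q)).1 hσ
      rw [mul_one] at this
      exact (t2ec5h23_mem_kF hF _).2 this
    let c : ↥(kF f) := ⟨h8chi chevE6 hB h' r, hcK⟩
    have hc1 : c ≠ 1 := by
      intro hc'
      apply hc
      exact congrArg Subtype.val hc'
    have hxw : ∀ t, x t * w = w * x t := by
      intro t
      apply Subtype.ext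
      exact hcomm _ (hadm t)
    have hg : ∀ t, cj g (x t) = x (c * t) := by
      intro t
      apply Subtype.ext
      exact (t2ec5h23_T1_act hF h' hh' r hr _ (hadm t)).2
    have hCL := hπ.torus x hadd w g c hc1 hxw hg hgw
    intro t ht a b ha hb
    have htK : t ∈ kF f := (t2ec5h23_mem_kF hF t).2 (ht hσ)
    have hb' : π b = x ⟨t, htK⟩ := Subtype.ext hb
    have ha' : π a = w := Subtype.ext ha
    exact (hCL ⟨t, htK⟩ b a hb' ha').symm
  · -- a root that is not fixed: the root group is parametrized by `K`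
    have hadm : ∀ t : K, Adm q r t := fun t hσ' => absurd hσ' hσ
    let x : K → ↥(twistedE6 K q) := fun t => ⟨XT q r t, XT_mem hF r hr _ (hadm t)⟩
    have hadd : ∀ s t, x (s + t) = x s * x t := by
      intro s t
      apply Subtype.ext
      exact XT_add hF r hr s t
    have hxw : ∀ t, x t * w = w * x t := by
      intro t
      apply Subtype.ext
      exact hcomm _ (hadm t)
    have hg : ∀ t, cj g (x t) = x (h8chi chevE6 hB h' r * t) := by
      intro t
      apply Subtype.ext
      exact (t2ec5h23_T1_act hF h' hh' r hr _ (hadm t)).2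
    have hCL := hπ.torus x hadd w g _ hc hxw hg hgw
    intro t ht a b ha hb
    have hb' : π b = x t := Subtype.ext hb
    have ha' : π a = w := Subtype.ext ha
    exact (hCL t b a hb' ha').symm

end Cfsg.Agent.Lib.helper3.T2E
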