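import Mathlib
import Cfsg.Agent.Lib.helper7.CEU.Defs
import Cfsg.Agent.Lib.Helper27.STU.Defs3
import Cfsg.Agent.Lib.helper3.SU5StHom

/-!
# Project CEU (designer helper7; S2089, `n ≥ 4`), row E1 `lift_sl2_of_st`, VERBATIM (helper23)

A rank one Steinberg system over a finite field `K` in `Δ` gives a homomorphism from `SL₂(K)`: this is helper3's
`su5st_exists_hom` (`helper3/SU5StHom.lean`, through the presented group and helper15's `St.injective_of`, `surjective_of`).
-/

set_option autoImplicit false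

namespace Cfsg.Agent.Lib.helper7.CEU

open Cfsg.Agent.Lib.helper15.St2 Cfsg.Agent.Lib.helper7.Ce Cfsg.Agent.Lib.helper3.STC Cfsg.Agent.Lib.Helper27.STU

open Cfsg.Agent.Lib.helper7.CEC (I2 I3 I4 U2 U3)

section E

open Matrix

/-- E1 [M]  a rank one Steinberg system over a finite field `K` in `Δ` gives a homomorphism from `SL₂(K)`. -/
theorem lift_sl2_of_st {K : Type*} [Field K] [Finite K] {Δ : Type*} [Group Δ] (T : St K Δ) :
    ∃ ρ : SpecialLinearGroup (Fin 2) K →* Δ, ∀ t : K, ρ (xm t) = T.x t ∧ ρ (ym t) = T.y t := by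
  obtain ⟨φ, h1, h2⟩ := Cfsg.Agent.Lib.helper3.SU5.su5st_exists_hom T
  exact ⟨φ, fun t => ⟨h1 t, h2 t⟩⟩

end E

end Cfsg.Agent.Lib.helper7.CEU
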