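import Mathlib
import Cfsg.Prelude.Def_ChevStructure
import Cfsg.Agent.Lib.helper14.INV.Defs

/-!
# Project INV, piece INVOL: if `h n_w u` is an involution then `w` acts on the roots as an involution
-/

set_option autoImplicit false
set_option linter.unusedVariables false

namespace Cfsg.Agent.Lib.helper14.INV

open Cfsg.Lie Cfsg.Lie.ChevalleyDatum Cfsg.Agent.Lib.helper8 Cfsg.Agent.Lib.helper14

universe u

variable {F : Type u} [Field F]

/-- `h n_w` acts on the root subgroups through `w` -/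
theorem h23inv_act_hn (D : ChevalleyDatum) (hB : H8Base.{u} D) (hA : H8ReflAll D)
    (w : List ℕ) (hw : ValidW D w) (h0 : GL D.Idx F) (hh : h0 ∈ D.diagonalSubgroup F)
    (r : ℕ) (hr : r < D.nroots) :
    H8Act D hB (h0 * (h8nWU D hB w : GL D.Idx F)) r (h8sW D w r) :=
  h8act_mul D hB h0 _ r _ _ (h8nWU_act D hB hA w hw r hr)
    (h8perm_H_id D hB h0 hh _ (h8sW_lt D hA w hw r hr))

/-- if `(n u)^2 = 1` with `n ∈ N`, `u ∈ U`, then `n^2 ∈ H` -/
theorem h23inv_sq_mem_H (D : ChevalleyDatum) (hB : H8Base.{u} D) (hA : H8ReflAll D)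
    (hC : H8CommAll.{u} D) (hBN : H8BN D) (n u : GL D.Idx F) (hn : n ∈ D.monomialSubgroup F)
    (hu : u ∈ D.posUnipotent F) (hsq : (n * u) * (n * u) = 1) :
    n * n ∈ D.diagonalSubgroup F := by
  have huB : u⁻¹ ∈ D.borelSubgroup F := h8U_le_B D (Subgroup.inv_mem _ hu)
  have e : n = u⁻¹ * n⁻¹ * u⁻¹ := by
    have h1 : n * (u * n * u) = 1 := by rw [← hsq]; group
    calc n = (u * n * u)⁻¹ := eq_inv_of_mul_eq_one_left h1
      _ = u⁻¹ * n⁻¹ * u⁻¹ := by group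
  have hH := h8cell_disjoint D hB hA hC hBN n n⁻¹ hn (Subgroup.inv_mem _ hn)
    ⟨u⁻¹, huB, u⁻¹, huB, e⟩
  have : n * n = (n⁻¹ * n⁻¹)⁻¹ := by rw [mul_inv_rev, inv_inv]
  rw [this]
  exact Subgroup.inv_mem _ hH

/-- INVOL : if `h n_w u` is an involution then `w` acts on the roots as an involution -/
theorem invol_sq (D : ChevalleyDatum) (hB : H8Base.{u} D) (hA : H8ReflAll D)
    (hC : H8CommAll.{u} D) (hBN : H8BN D) (hW : H8BN2 D) (hO2 : H8Ord2 D)
    (w : List ℕ) (hw : ValidW D w) (h0 u : GL D.Idx F) (hh : h0 ∈ D.diagonalSubgroup F)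
    (hu : u ∈ D.posUnipotent F)
    (hsq : (h0 * (h8nWU D hB w : GL D.Idx F) * u) * (h0 * (h8nWU D hB w : GL D.Idx F) * u) = 1) :
    ∀ r < D.nroots, h8sW D w (h8sW D w r) = r := by
  intro r hr
  have hnN : h0 * (h8nWU D hB w : GL D.Idx F) ∈ D.monomialSubgroup F :=
    Subgroup.mul_mem _ (h8H_le_N D hh) (h8nWU_mem_N D hB hA w hw)
  have hH := h23inv_sq_mem_H D hB hA hC hBN _ u hnN hu hsq
  have hr1 := h8sW_lt D hA w hw r hr
  have hr2 := h8sW_lt D hA w hw _ hr1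
  have a1 := h23inv_act_hn D hB hA w hw h0 hh r hr
  have a2 := h23inv_act_hn D hB hA w hw h0 hh _ hr1
  have a3 := h8act_mul D hB _ _ _ _ _ a1 a2
  have a4 := h8perm_H_id D hB _ hH r hr
  exact h8act_unique D hB hA hBN hW hO2 _ r _ _ hr2 hr a3 a4

end Cfsg.Agent.Lib.helper14.INV
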