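import Mathlib
import Cfsg.Prelude.Def_ChevStructure
import Cfsg.Agent.Lib.helper14.INV.Defs

/-!
# Project INV, piece NF: normal form of an element of a Bruhat cell under `B`-conjugation
-/

set_option autoImplicit false
set_option linter.unusedVariables false

namespace Cfsg.Agent.Lib.helper14.INV

open Cfsg.Lie Cfsg.Lie.ChevalleyDatum Cfsg.Agent.Lib.helper8 Cfsg.Agent.Lib.helper14

universe u

variable {F : Type u} [Field F]

/-- every element of `B` is `u * h` -/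
theorem h23inv_B_decomp (D : ChevalleyDatum) (hB : H8Base.{u} D) (b : GL D.Idx F)
    (hb : b ∈ D.borelSubgroup F) :
    ∃ u ∈ D.posUnipotent F, ∃ h ∈ D.diagonalSubgroup F, b = u * h := by
  have hmemB : b ∈ ((D.posUnipotent F ⊔ D.diagonalSubgroup F : Subgroup (GL D.Idx F)) :
      Set (GL D.Idx F)) := hb
  rw [Subgroup.coe_mul_of_right_le_normalizer_left _ _ (h8_H_le_normalizer_U D hB)] at hmemB
  obtain ⟨u, hu, h, hh, rfl⟩ := hmemB
  exact ⟨u, hu, h, hh, rfl⟩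

/-- NF : an element of the cell of `w` is `B`-conjugate to some `h n_w u` -/
theorem cell_normal_form (D : ChevalleyDatum) (hB : H8Base.{u} D) (y : GL D.Idx F) (w : List ℕ)
    (h : InCell D hB y w) :
    ∃ b ∈ D.borelSubgroup F, ∃ h0 ∈ D.diagonalSubgroup F, ∃ u ∈ D.posUnipotent F,
      b * y * b⁻¹ = h0 * (h8nWU D hB w : GL D.Idx F) * u := by
  obtain ⟨b1, hb1, b2, hb2, rfl⟩ := h
  obtain ⟨u1, hu1, h1, hh1, rfl⟩ := h23inv_B_decomp D hB b1 hb1
  have hb3 : b2 * u1 ∈ D.borelSubgroup F := Subgroup.mul_mem _ hb2 (h8U_le_B D hu1)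
  obtain ⟨u3, hu3, h3, hh3, e3⟩ := h23inv_B_decomp D hB _ hb3
  refine ⟨h3 * u1⁻¹, Subgroup.mul_mem _ (h8H_le_B D hh3) (h8U_le_B D (Subgroup.inv_mem _ hu1)),
    h3 * h1, Subgroup.mul_mem _ hh3 hh1, u3, hu3, ?_⟩
  have : h3 * u1⁻¹ * (u1 * h1 * (h8nWU D hB w : GL D.Idx F) * b2) * (h3 * u1⁻¹)⁻¹ =
      h3 * h1 * (h8nWU D hB w : GL D.Idx F) * (b2 * u1) * h3⁻¹ := by group
  rw [this, e3]
  group

end Cfsg.Agent.Lib.helper14.INV
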