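import Mathlib
import Cfsg.Agent.Lib.Lead.W2P.Defs

/-! W2P-SDEGINV (helper23): the subdegree depends on the orbital only -/

set_option autoImplicit false
set_option linter.unusedVariables false
set_option linter.unusedSectionVars false
open scoped ComplexConjugate
open Classical

namespace Cfsg.Agent.Lib.Lead.W2P

open MulAction Cfsg.Agent.Lib.helper6.PermChar Cfsg.Agent.Lib.Helper25

universe u v

section E

variable {G : Type u} [Group G] [Fintype G] {Ω : Type v} [Fintype Ω] [DecidableEq Ω] [MulAction G Ω]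
  {p : ℕ} [Fact p.Prime] {P : Sylow p G}

/-- translating base point and point by `g` does not change the subdegree -/
theorem w2psdeginv_smul (g : G) (a b : Ω) : sdeg G (g • a) (g • b) = sdeg G a b := by
  unfold sdeg
  refine Nat.card_congr (Equiv.subtypeEquiv (MulAction.toPerm g⁻¹) (fun c => ?_))
  simp only [MulAction.mem_orbit_iff, MulAction.toPerm_apply]
  constructor
  · rintro ⟨⟨k, hk⟩, hc⟩
    have hk' : k • g • a = g • a := hk
    have hc' : k • g • b = c := hc
    refine ⟨⟨g⁻¹ * k * g, ?_⟩, ?_⟩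
    · show (g⁻¹ * k * g) • a = a
      rw [mul_smul, mul_smul, hk', inv_smul_smul]
    · show (g⁻¹ * k * g) • b = g⁻¹ • c
      rw [mul_smul, mul_smul, hc']
  · rintro ⟨⟨k, hk⟩, hc⟩
    have hk' : k • a = a := hk
    have hc' : k • b = g⁻¹ • c := hc
    refine ⟨⟨g * k * g⁻¹, ?_⟩, ?_⟩
    · show (g * k * g⁻¹) • g • a = g • a
      rw [mul_smul, mul_smul, inv_smul_smul, hk']
    · show (g * k * g⁻¹) • g • b = c
      rw [mul_smul, mul_smul, inv_smul_smul, hc', smul_inv_smul]

/-- SDEGINV : the subdegree depends on the orbital only -/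
theorem sdeg_eq_of_orbRel [IsPretransitive G Ω] (a b x y : Ω) (h : orbRel G a b x y) :
    sdeg G x y = sdeg G a b := by
  obtain ⟨g, rfl, rfl⟩ := h
  exact w2psdeginv_smul g a b

end E

end Cfsg.Agent.Lib.Lead.W2P
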