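import Mathlib
import Cfsg.Prelude.Def_GeometricClasses
import Cfsg.Agent.Lib.Helper27.ASC.Defs

/-!
# Project ASC, piece SCHURA : `schur_comm_inv`

The centraliser algebra of an irreducible group of matrices over a finite field is a
commutative division algebra (Schur's lemma and Wedderburn's little theorem).
-/

set_option autoImplicit false
set_option linter.unusedVariables false

namespace Cfsg.Agent.Lib.Helper27.ASC

open Cfsg Cfsg.Geo
open scoped MatrixGroups Matrix

variable {n : ℕ} {F : Type*} [Field F] [Fintype F]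

/-- two-sided inverses inside the centraliser algebra of an irreducible group (no finiteness needed) -/
theorem ascschura_inv {F : Type*} [Field F] {N : Subgroup (GL (Fin n) F)} (hN : Irr N) :
    ∀ x ∈ centAlg N, x ≠ 0 → ∃ y ∈ centAlg N, x * y = 1 ∧ y * x = 1 := by
  intro x hx hx0
  have hcomm : ∀ s ∈ matrixSet N, s * x = x * s := fun s hs =>
    (Subalgebra.mem_centralizer_iff F).1 hx s hs
  have hker : LinearMap.ker (Matrix.toLin' x) = ⊥ ∨ LinearMap.ker (Matrix.toLin' x) = ⊤ := by
    apply hN
    intro s hs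
    rintro _ ⟨v, hv, rfl⟩
    have hv' : x *ᵥ v = 0 := by
      have := LinearMap.mem_ker.1 hv
      simpa [Matrix.toLin'_apply] using this
    rw [LinearMap.mem_ker, Matrix.toLin'_apply, Matrix.toLin'_apply, Matrix.mulVec_mulVec,
      ← hcomm s hs, ← Matrix.mulVec_mulVec, hv', Matrix.mulVec_zero]
  have hbot : LinearMap.ker (Matrix.toLin' x) = ⊥ := by
    rcases hker with h | h
    · exact h
    · exfalso
      apply hx0
      have h0 : Matrix.toLin' x = 0 := LinearMap.ker_eq_top.1 h
      have : Matrix.toLin' x = Matrix.toLin' (0 : Matrix (Fin n) (Fin n) F) := by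
        rw [h0, map_zero]
      exact Matrix.toLin'.injective this
  have hinj : Function.Injective x.mulVec := by
    have h1 : Function.Injective (Matrix.toLin' x) := LinearMap.ker_eq_bot.1 hbot
    intro a b hab
    apply h1
    simpa [Matrix.toLin'_apply] using hab
  have hunit : IsUnit x := Matrix.mulVec_injective_iff_isUnit.1 hinj
  have hdet : IsUnit x.det := (Matrix.isUnit_iff_isUnit_det x).1 hunit
  have h1 : x * x⁻¹ = 1 := Matrix.mul_nonsing_inv x hdet
  have h2 : x⁻¹ * x = 1 := Matrix.nonsing_inv_mul x hdet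
  refine ⟨x⁻¹, ?_, h1, h2⟩
  refine (Subalgebra.mem_centralizer_iff F).2 (fun s hs => ?_)
  calc s * x⁻¹ = (x⁻¹ * x) * (s * x⁻¹) := by rw [h2, one_mul]
    _ = x⁻¹ * (x * s) * x⁻¹ := by simp only [mul_assoc]
    _ = x⁻¹ * (s * x) * x⁻¹ := by rw [hcomm s hs]
    _ = x⁻¹ * s * (x * x⁻¹) := by simp only [mul_assoc]
    _ = x⁻¹ * s := by rw [h1, mul_one]

/-- SCHUR-A -/
theorem schur_comm_inv (hn : 0 < n) {N : Subgroup (GL (Fin n) F)} (hN : Irr N) :
    (∀ x ∈ centAlg N, ∀ y ∈ centAlg N, x * y = y * x) ∧
    (∀ x ∈ centAlg N, x ≠ 0 → ∃ y ∈ centAlg N, x * y = 1) := by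
  classical
  have hinv := ascschura_inv (n := n) (F := F) hN
  refine ⟨?_, fun x hx hx0 => ?_⟩
  · have : NeZero n := ⟨hn.ne'⟩
    have : Nontrivial (Matrix (Fin n) (Fin n) F) := inferInstance
    have : Nontrivial (centAlg N) := inferInstance
    have : NoZeroDivisors (centAlg N) := by
      refine ⟨fun {a b} hab => ?_⟩
      by_cases ha : a = 0
      · exact Or.inl ha
      · right
        have ha' : (a : Matrix (Fin n) (Fin n) F) ≠ 0 := fun h => ha (Subtype.ext h)
        obtain ⟨y, hy, h1, h2⟩ := hinv a a.2 ha'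
        have hab' : (a : Matrix (Fin n) (Fin n) F) * (b : Matrix (Fin n) (Fin n) F) = 0 := by
          have := congrArg Subtype.val hab
          simpa using this
        apply Subtype.ext
        calc (b : Matrix (Fin n) (Fin n) F) = (y * a) * b := by rw [h2, one_mul]
          _ = y * (a * b) := by rw [mul_assoc]
          _ = 0 := by rw [hab', mul_zero]
    have : IsDomain (centAlg N) := NoZeroDivisors.to_isDomain _
    have : Finite (centAlg N) := inferInstance
    have hfield : IsField (centAlg N) := Finite.isDomain_to_isField _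
    intro x hx y hy
    have := hfield.mul_comm ⟨x, hx⟩ ⟨y, hy⟩
    exact congrArg Subtype.val this
  · obtain ⟨y, hy, h1, _⟩ := hinv x hx hx0
    exact ⟨y, hy, h1⟩

end Cfsg.Agent.Lib.Helper27.ASC
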