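import Mathlib
import Cfsg.Prelude.Def_GeometricClasses
import Cfsg.Agent.Lib.Helper27.ASC.Defs
import Cfsg.Agent.Lib.Helper19.ASG.Defs
import Cfsg.Agent.Lib.Helper9.ASGD2T.Defs
import Cfsg.Agent.Lib.Helper20.ASGALG
import Cfsg.Agent.Lib.helper23.ASGD2TPTPERM

set_option autoImplicit false
set_option linter.unusedVariables false

/-!
# Project ASG, block D2T, piece TSTD (helper23): core of `wreath_std`

The statements of PTMUL and CENTSTD are hypotheses.
-/

namespace Cfsg.Agent.Lib.Helper19.ASG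

open Cfsg Cfsg.Geo Cfsg.Agent.Lib.Helper27.ASC
open scoped MatrixGroups Matrix

variable {n : ℕ} {F : Type*} [Field F]

theorem asgd2ttstd_single_comp {m t : ℕ} (π : Equiv.Perm (Fin t)) (i : Fin t) (a : Matrix (Fin m) (Fin m) F) :
    (fun j => (Pi.mulSingle i a : Fin t → Matrix (Fin m) (Fin m) F) (π.symm j)) = Pi.mulSingle (π i) a := by
  funext j
  by_cases hj : j = π i
  · subst hj
    simp
  · have : π.symm j ≠ i := by
      intro h
      apply hj
      rw [← h]
      simp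
    rw [Pi.mulSingle_eq_of_ne this, Pi.mulSingle_eq_of_ne hj]

theorem asgd2ttstd_conj_single {m t : ℕ} (P Pi' : Fin t → Matrix (Fin m) (Fin m) F)
    (hP : ∀ j, P j * Pi' j = 1) (i : Fin t) (a : Matrix (Fin m) (Fin m) F) :
    P * Pi.mulSingle i a * Pi' = Pi.mulSingle i (P i * a * Pi' i) := by
  funext j
  by_cases hj : j = i
  · subst hj
    simp
  · rw [Pi.mul_apply, Pi.mul_apply, Pi.mulSingle_eq_of_ne hj, Pi.mulSingle_eq_of_ne hj, mul_one, hP]

theorem asgd2ttstd_prod_scale {t : ℕ} (i0 : Fin t) (c : F) (f f' : Fin t → F) (h0 : f' i0 = c * f i0)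
    (h1 : ∀ i, i ≠ i0 → f' i = f i) : ∏ i, f' i = c * ∏ i, f i := by
  classical
  rw [← Finset.mul_prod_erase Finset.univ f' (Finset.mem_univ i0),
    ← Finset.mul_prod_erase Finset.univ f (Finset.mem_univ i0), h0, mul_assoc]
  have : ∏ x ∈ Finset.univ.erase i0, f' x = ∏ x ∈ Finset.univ.erase i0, f x := by
    apply Finset.prod_congr rfl
    intro i hi
    exact h1 i (Finset.ne_of_mem_erase hi)
  rw [this]

/-- the scalar multiple of an invertible matrix, as an element of `GL` -/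
def asgd2ttstdScale {m : ℕ} (c : F) (hc : c ≠ 0) (P : GL (Fin m) F) : GL (Fin m) F where
  val := c • (P : Matrix (Fin m) (Fin m) F)
  inv := c⁻¹ • ((P⁻¹ : GL (Fin m) F) : Matrix (Fin m) (Fin m) F)
  val_inv := by
    rw [Matrix.smul_mul, Matrix.mul_smul, smul_smul, mul_inv_cancel₀ hc, one_smul, ← Units.val_mul,
      mul_inv_cancel, Units.val_one]
  inv_val := by
    rw [Matrix.smul_mul, Matrix.mul_smul, smul_smul, inv_mul_cancel₀ hc, one_smul, ← Units.val_mul,
      inv_mul_cancel, Units.val_one]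

/-- D2T-TSTD, with the statements of PTMUL and CENTSTD as hypotheses -/
theorem asgd2ttstd_core {m t : ℕ}
    (hmul : ∀ c c' : Fin t → Matrix (Fin m) (Fin m) F, ptMat (c * c') = ptMat c * ptMat c')
    (hone : ptMat (1 : Fin t → Matrix (Fin m) (Fin m) F) = 1)
    (hadd : ∀ (i : Fin t) (a b : Matrix (Fin m) (Fin m) F),
      ptMat (Pi.mulSingle i (a + b)) = ptMat (Pi.mulSingle i a) + ptMat (Pi.mulSingle i b))
    (hsmul : ∀ (i : Fin t) (r : F) (a : Matrix (Fin m) (Fin m) F),
      ptMat (Pi.mulSingle i (r • a)) = r • ptMat (Pi.mulSingle i a))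
    (hinj : ∀ (i : Fin t) (a b : Matrix (Fin m) (Fin m) F),
      ptMat (Pi.mulSingle i a) = ptMat (Pi.mulSingle i b) → a = b)
    (hcent : ∀ X : Matrix (Fin t → Fin m) (Fin t → Fin m) F,
      (∀ (i : Fin t) (a : Matrix (Fin m) (Fin m) F),
        X * ptMat (Pi.mulSingle i a) = ptMat (Pi.mulSingle i a) * X) → ∃ c : F, X = c • 1)
    (ht : 0 < t) (u : GL (Fin t → Fin m) F) (π : Equiv.Perm (Fin t))
    (h : ∀ (i : Fin t) (a : Matrix (Fin m) (Fin m) F), ∃ a' : Matrix (Fin m) (Fin m) F,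
      (u : Matrix (Fin t → Fin m) (Fin t → Fin m) F) * ptMat (Pi.mulSingle i a) *
        ((u⁻¹ : GL (Fin t → Fin m) F) : Matrix (Fin t → Fin m) (Fin t → Fin m) F) = ptMat (Pi.mulSingle (π i) a')) :
    u ∈ tensorWreathStandard m t F := by
  classical
  -- notation
  obtain ⟨g, hg⟩ : ∃ g : GL (Fin t → Fin m) F, g = asgd2tptpermGL m t F π := ⟨_, rfl⟩
  have hgmem : g ∈ tensorWreathStandard m t F := by
    rw [hg]
    exact Subgroup.subset_closure (Or.inr (asgd2tptperm_isFactorPermutation π))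
  have hgc : ∀ (i : Fin t) (a : Matrix (Fin m) (Fin m) F),
      (g : Matrix (Fin t → Fin m) (Fin t → Fin m) F) * ptMat (Pi.mulSingle i a) =
        ptMat (Pi.mulSingle (π i) a) * (g : Matrix (Fin t → Fin m) (Fin t → Fin m) F) := by
    intro i a
    rw [hg, asgd2tptperm_coe, asgd2tptperm_comm, asgd2ttstd_single_comp]
  obtain ⟨v, hv⟩ : ∃ v : GL (Fin t → Fin m) F, v = g⁻¹ * u := ⟨_, rfl⟩
  have huv : u = g * v := by rw [hv]; group
  rw [huv]
  refine Subgroup.mul_mem _ hgmem ?_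
  have hgg : ((g⁻¹ : GL (Fin t → Fin m) F) : Matrix (Fin t → Fin m) (Fin t → Fin m) F) *
      (g : Matrix (Fin t → Fin m) (Fin t → Fin m) F) = 1 := by
    rw [← Units.val_mul, inv_mul_cancel, Units.val_one]
  have hgg' : (g : Matrix (Fin t → Fin m) (Fin t → Fin m) F) *
      ((g⁻¹ : GL (Fin t → Fin m) F) : Matrix (Fin t → Fin m) (Fin t → Fin m) F) = 1 := by
    rw [← Units.val_mul, mul_inv_cancel, Units.val_one]
  have huu : ((u⁻¹ : GL (Fin t → Fin m) F) : Matrix (Fin t → Fin m) (Fin t → Fin m) F) *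
      (u : Matrix (Fin t → Fin m) (Fin t → Fin m) F) = 1 := by
    rw [← Units.val_mul, inv_mul_cancel, Units.val_one]
  -- `g⁻¹` moves the factor `π i` back to `i`
  have hgc' : ∀ (i : Fin t) (a : Matrix (Fin m) (Fin m) F),
      ((g⁻¹ : GL (Fin t → Fin m) F) : Matrix (Fin t → Fin m) (Fin t → Fin m) F) * ptMat (Pi.mulSingle (π i) a) =
        ptMat (Pi.mulSingle i a) * ((g⁻¹ : GL (Fin t → Fin m) F) : Matrix (Fin t → Fin m) (Fin t → Fin m) F) := by
    intro i a
    have h1 := hgc i a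
    calc ((g⁻¹ : GL (Fin t → Fin m) F) : Matrix (Fin t → Fin m) (Fin t → Fin m) F) * ptMat (Pi.mulSingle (π i) a)
        = ((g⁻¹ : GL (Fin t → Fin m) F) : Matrix (Fin t → Fin m) (Fin t → Fin m) F) *
            (ptMat (Pi.mulSingle (π i) a) * (g : Matrix (Fin t → Fin m) (Fin t → Fin m) F)) *
            ((g⁻¹ : GL (Fin t → Fin m) F) : Matrix (Fin t → Fin m) (Fin t → Fin m) F) := by
          rw [Matrix.mul_assoc, Matrix.mul_assoc, hgg', Matrix.mul_one]
      _ = (((g⁻¹ : GL (Fin t → Fin m) F) : Matrix (Fin t → Fin m) (Fin t → Fin m) F) *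
            (g : Matrix (Fin t → Fin m) (Fin t → Fin m) F)) * ptMat (Pi.mulSingle i a) *
            ((g⁻¹ : GL (Fin t → Fin m) F) : Matrix (Fin t → Fin m) (Fin t → Fin m) F) := by
          rw [← h1]; simp only [Matrix.mul_assoc]
      _ = _ := by rw [hgg, Matrix.one_mul]
  -- `v` normalises every factor
  obtain ⟨V, hV⟩ : ∃ V : Matrix (Fin t → Fin m) (Fin t → Fin m) F,
      V = (v : Matrix (Fin t → Fin m) (Fin t → Fin m) F) := ⟨_, rfl⟩
  have hVu : V = ((g⁻¹ : GL (Fin t → Fin m) F) : Matrix (Fin t → Fin m) (Fin t → Fin m) F) *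
      (u : Matrix (Fin t → Fin m) (Fin t → Fin m) F) := by
    rw [hV, hv]; rfl
  have hVex : ∀ (i : Fin t) (a : Matrix (Fin m) (Fin m) F), ∃ a' : Matrix (Fin m) (Fin m) F,
      V * ptMat (Pi.mulSingle i a) = ptMat (Pi.mulSingle i a') * V := by
    intro i a
    obtain ⟨a', ha'⟩ := h i a
    refine ⟨a', ?_⟩
    have h1 : (u : Matrix (Fin t → Fin m) (Fin t → Fin m) F) * ptMat (Pi.mulSingle i a) =
        ptMat (Pi.mulSingle (π i) a') * (u : Matrix (Fin t → Fin m) (Fin t → Fin m) F) := by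
      rw [← ha', Matrix.mul_assoc, huu, Matrix.mul_one]
    rw [hVu, Matrix.mul_assoc, h1, ← Matrix.mul_assoc, hgc', Matrix.mul_assoc]
  choose φ hφ using hVex
  have hVV : V * ((v⁻¹ : GL (Fin t → Fin m) F) : Matrix (Fin t → Fin m) (Fin t → Fin m) F) = 1 := by
    rw [hV, ← Units.val_mul, mul_inv_cancel, Units.val_one]
  have hcancel : ∀ A B : Matrix (Fin t → Fin m) (Fin t → Fin m) F, A * V = B * V → A = B := by
    intro A B hAB
    have := congrArg (fun Y => Y * ((v⁻¹ : GL (Fin t → Fin m) F) : Matrix (Fin t → Fin m) (Fin t → Fin m) F)) hAB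
    simp only [Matrix.mul_assoc, hVV, Matrix.mul_one] at this
    exact this
  have hφadd : ∀ i a b, φ i (a + b) = φ i a + φ i b := by
    intro i a b
    apply hinj i
    apply hcancel
    rw [← hφ, hadd, hadd, Matrix.mul_add, Matrix.add_mul, hφ, hφ]
  have hφsmul : ∀ i (r : F) a, φ i (r • a) = r • φ i a := by
    intro i r a
    apply hinj i
    apply hcancel
    rw [← hφ, hsmul, hsmul, Matrix.mul_smul, Matrix.smul_mul, hφ]
  have hsm : ∀ (i : Fin t) (a b : Matrix (Fin m) (Fin m) F),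
      ptMat (Pi.mulSingle i (a * b)) = ptMat (Pi.mulSingle i a) * ptMat (Pi.mulSingle i b) := by
    intro i a b
    rw [← hmul, Pi.mulSingle_mul]
  have hs1 : ∀ i : Fin t, ptMat (Pi.mulSingle i (1 : Matrix (Fin m) (Fin m) F)) = 1 := by
    intro i
    rw [Pi.mulSingle_one, hone]
  have hφmul : ∀ i a b, φ i (a * b) = φ i a * φ i b := by
    intro i a b
    apply hinj i
    apply hcancel
    rw [← hφ, hsm, hsm, ← Matrix.mul_assoc, hφ, Matrix.mul_assoc, hφ, Matrix.mul_assoc]
  have hφone : ∀ i, φ i 1 = 1 := by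
    intro i
    apply hinj i
    apply hcancel
    rw [← hφ, hs1, Matrix.mul_one, Matrix.one_mul]
  -- the algebra endomorphisms
  let Φ : Fin t → (Matrix (Fin m) (Fin m) F →ₐ[F] Matrix (Fin m) (Fin m) F) := fun i =>
    { toFun := φ i
      map_one' := hφone i
      map_mul' := hφmul i
      map_zero' := by
        have := hφsmul i 0 0
        rw [zero_smul, zero_smul] at this
        exact this
      map_add' := hφadd i
      commutes' := fun r => by
        rw [Algebra.algebraMap_eq_smul_one, hφsmul, hφone] }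
  have hΦ : ∀ i a, Φ i a = φ i a := fun i a => rfl
  have hSN : ∀ i, ∃ P : GL (Fin m) F, ∀ A : Matrix (Fin m) (Fin m) F,
      Φ i A = (P : Matrix (Fin m) (Fin m) F) * A * ((P⁻¹ : GL (Fin m) F) : Matrix (Fin m) (Fin m) F) :=
    fun i => Cfsg.Agent.Lib.Helper20.ASGALG.asgalg_aut_inner (Φ i)
  choose P hP using hSN
  obtain ⟨W, hW⟩ : ∃ W : Matrix (Fin t → Fin m) (Fin t → Fin m) F,
      W = ptMat (fun i => (P i : Matrix (Fin m) (Fin m) F)) := ⟨_, rfl⟩
  obtain ⟨W', hW'⟩ : ∃ W' : Matrix (Fin t → Fin m) (Fin t → Fin m) F,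
      W' = ptMat (fun i => (((P i)⁻¹ : GL (Fin m) F) : Matrix (Fin m) (Fin m) F)) := ⟨_, rfl⟩
  have hPP : ∀ j, (P j : Matrix (Fin m) (Fin m) F) * (((P j)⁻¹ : GL (Fin m) F) : Matrix (Fin m) (Fin m) F) = 1 := by
    intro j
    rw [← Units.val_mul, mul_inv_cancel, Units.val_one]
  have hPP' : ∀ j, (((P j)⁻¹ : GL (Fin m) F) : Matrix (Fin m) (Fin m) F) * (P j : Matrix (Fin m) (Fin m) F) = 1 := by
    intro j
    rw [← Units.val_mul, inv_mul_cancel, Units.val_one]
  have hWW : W * W' = 1 := by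
    rw [hW, hW', ← hmul, ← hone]
    congr 1
    funext j
    exact hPP j
  have hWW' : W' * W = 1 := by
    rw [hW, hW', ← hmul, ← hone]
    congr 1
    funext j
    exact hPP' j
  have hWc : ∀ (i : Fin t) (a : Matrix (Fin m) (Fin m) F),
      W * ptMat (Pi.mulSingle i a) = ptMat (Pi.mulSingle i (φ i a)) * W := by
    intro i a
    have e1 : W * ptMat (Pi.mulSingle i a) * W' = ptMat (Pi.mulSingle i (φ i a)) := by
      rw [hW, hW', ← hmul, ← hmul,
        asgd2ttstd_conj_single (fun i => (P i : Matrix (Fin m) (Fin m) F))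
          (fun i => (((P i)⁻¹ : GL (Fin m) F) : Matrix (Fin m) (Fin m) F)) hPP i a, ← hΦ, hP]
    rw [← e1, Matrix.mul_assoc, hWW', Matrix.mul_one]
  have hW'c : ∀ (i : Fin t) (a : Matrix (Fin m) (Fin m) F),
      W' * ptMat (Pi.mulSingle i (φ i a)) = ptMat (Pi.mulSingle i a) * W' := by
    intro i a
    calc W' * ptMat (Pi.mulSingle i (φ i a)) = W' * (ptMat (Pi.mulSingle i (φ i a)) * W) * W' := by
          rw [Matrix.mul_assoc, Matrix.mul_assoc, hWW, Matrix.mul_one]
      _ = (W' * W) * ptMat (Pi.mulSingle i a) * W' := by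
          rw [← hWc]; simp only [Matrix.mul_assoc]
      _ = _ := by rw [hWW', Matrix.one_mul]
  obtain ⟨c, hc⟩ := hcent (W' * V) (by
    intro i a
    rw [Matrix.mul_assoc, hφ, ← Matrix.mul_assoc, hW'c, Matrix.mul_assoc])
  have hVW : V = c • W := by
    calc V = (W * W') * V := by rw [hWW, Matrix.one_mul]
      _ = W * (W' * V) := by rw [Matrix.mul_assoc]
      _ = c • W := by rw [hc, Matrix.mul_smul, Matrix.mul_one]
  rcases eq_or_ne c 0 with hc0 | hc0
  · -- the matrix ring is trivial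
    have h10 : (1 : Matrix (Fin t → Fin m) (Fin t → Fin m) F) = 0 := by
      rw [← hVV, hVW, hc0, zero_smul, Matrix.zero_mul]
    have hv1 : v = 1 := by
      apply Units.ext
      have : ∀ A : Matrix (Fin t → Fin m) (Fin t → Fin m) F, A = 0 := by
        intro A
        rw [← Matrix.mul_one A, h10, Matrix.mul_zero]
      rw [this (v : Matrix (Fin t → Fin m) (Fin t → Fin m) F), this ((1 : GL (Fin t → Fin m) F) : Matrix _ _ F)]
    rw [hv1]
    exact Subgroup.one_mem _
  · apply Subgroup.subset_closure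
    left
    refine ⟨Function.update P ⟨0, ht⟩ (asgd2ttstdScale c hc0 (P ⟨0, ht⟩)), fun x y => ?_⟩
    rw [← hV, hVW, hW, Matrix.smul_apply, ptMat_apply, smul_eq_mul]
    symm
    apply asgd2ttstd_prod_scale ⟨0, ht⟩ c
    · rw [Function.update_self]
      rfl
    · intro i hi
      rw [Function.update_of_ne hi]

end Cfsg.Agent.Lib.Helper19.ASG
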