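import Mathlib
import Cfsg.Prelude.Def_GeometricClasses
import Cfsg.Agent.Lib.Helper27.ASC.Defs
import Cfsg.Agent.Lib.Helper19.ASG.Defs
import Cfsg.Agent.Lib.Helper9.ASGD2T.Defs
import Cfsg.Agent.Lib.Helper11.ASGD2TPTMUL
import Cfsg.Agent.Lib.Helper1.ASGD2TCENTSTD
import Cfsg.Agent.Lib.helper23.ASGD2TTSTDcore

set_option autoImplicit false
set_option linter.unusedVariables false

/-!
# Project ASG, block D2T, piece TSTD (helper23): `wreath_std`
-/

namespace Cfsg.Agent.Lib.Helper19.ASG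

open Cfsg Cfsg.Geo Cfsg.Agent.Lib.Helper27.ASC
open scoped MatrixGroups Matrix

variable {n : ℕ} {F : Type*} [Field F]

/-- D2T-TSTD : an invertible matrix permuting the `t` tensor factors `1 ⊗ ⋯ ⊗ M_m(F) ⊗ ⋯ ⊗ 1` lies in the standard
tensor-wreath group -/
theorem wreath_std {m t : ℕ} (ht : 0 < t) (u : GL (Fin t → Fin m) F) (π : Equiv.Perm (Fin t))
    (h : ∀ (i : Fin t) (a : Matrix (Fin m) (Fin m) F), ∃ a' : Matrix (Fin m) (Fin m) F,
      (u : Matrix (Fin t → Fin m) (Fin t → Fin m) F) * ptMat (Pi.mulSingle i a) *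
        ((u⁻¹ : GL (Fin t → Fin m) F) : Matrix (Fin t → Fin m) (Fin t → Fin m) F) = ptMat (Pi.mulSingle (π i) a')) :
    u ∈ tensorWreathStandard m t F :=
  asgd2ttstd_core (fun c c' => ptMat_mul c c') ptMat_one (fun i a b => ptMat_single_add i a b)
    (fun i r a => ptMat_single_smul i r a) (fun i a b hab => ptMat_single_injective i a b hab)
    (fun X hX => ptMat_cent X hX) ht u π h

end Cfsg.Agent.Lib.Helper19.ASG
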