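import Mathlib
import Cfsg.Prelude.Def_GeometricClasses
import Cfsg.Agent.Lib.Helper27.ASC.Defs
import Cfsg.Agent.Lib.Helper19.ASG.Defs
import Cfsg.Agent.Lib.Helper18.ASP.Defs
import Cfsg.Agent.Lib.Helper18.ASPADJ
import Cfsg.Agent.Lib.Helper18.ASPABGEN

set_option autoImplicit false
set_option linter.unusedVariables false
set_option linter.unusedSectionVars false

/-!
# Project ASP, block AB, piece QUAD (helper23): the quadratic form `Q v = f (ω v) v` in even characteristic
-/

namespace Cfsg.Agent.Lib.Helper18.ASP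

open Cfsg Cfsg.Geo Cfsg.Agent.Lib.Helper27.ASC Cfsg.Agent.Lib.Helper19.ASG
open scoped MatrixGroups Matrix

variable {n : ℕ} {F : Type*} [Field F] [Fintype F]

/-- a finite field of even order has `2 = 0` -/
theorem aspabquad_two (hF : ¬ Odd (Fintype.card F)) : (2 : F) = 0 := by
  have hev : Even (Fintype.card F) := Nat.not_odd_iff_even.mp hF
  have hch : ringChar F = 2 := FiniteField.even_card_iff_char_two.mpr (Nat.even_iff.mp hev)
  have : CharP F 2 := hch ▸ ringChar.charP F
  exact CharTwo.two_eq_zero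

/-- the polar form of `Q v = f (ω v) v` when `ω + ω* = 1` and `2 = 0` -/
theorem aspabquad_polar (two0 : (2 : F) = 0) (f : (Fin n → F) → (Fin n → F) → F)
    (hf : IsSymplecticForm f) (ω : Matrix (Fin n) (Fin n) F) (hω : ω + aspAdj f ω = 1) (u v : Fin n → F) :
    QuadraticMap.polar (fun w => f (ω *ᵥ w) w) u v = f u v := by
  have hneg : ∀ x : F, -x = x := by
    intro x
    have : x + x = 0 := by rw [← two_mul, two0, zero_mul]
    exact neg_eq_of_add_eq_zero_left this
  unfold QuadraticMap.polar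
  simp only
  rw [Matrix.mulVec_add, hf.bilinear.add_left, hf.bilinear.add_right, hf.bilinear.add_right]
  have h1 : f (ω *ᵥ v) u = f (aspAdj f ω *ᵥ u) v := by
    rw [hf.skew, hneg, aspadj_spec' hf]
  have h2 : f u v = f (ω *ᵥ u) v + f (aspAdj f ω *ᵥ u) v := by
    rw [← hf.bilinear.add_left, ← Matrix.add_mulVec, hω, Matrix.one_mulVec]
  rw [h1, h2]
  ring

/-- AB-QUAD -/
theorem ab_quad {m : ℕ} (hF : ¬ Odd (Fintype.card F)) (f : (Fin n → F) → (Fin n → F) → F)
    (hf : IsSymplecticForm f) {H : Subgroup (GL (Fin n) F)} (hI : H ≤ isoGL f)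
    (ω : Matrix (Fin n) (Fin n) F) (hω : ω + aspAdj f ω = 1)
    (hinv : ∀ h ∈ H, ∀ v, f (asgConj h ω *ᵥ v) v = f (ω *ᵥ v) v) : InSp m f H := by
  have two0 := aspabquad_two hF
  have hpol : ∀ u v, QuadraticMap.polar (fun w => f (ω *ᵥ w) w) u v = f u v :=
    aspabquad_polar two0 f hf ω hω
  have hpolf : QuadraticMap.polar (fun w => f (ω *ᵥ w) w) = f := by
    funext u v
    exact hpol u v
  refine inSp_of_quad hI (fun w => f (ω *ᵥ w) w) hF ⟨?_, ?_, ?_⟩ hpol ?_
  · intro c v
    rw [Matrix.mulVec_smul, hf.bilinear.smul_left, hf.bilinear.smul_right]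
    ring
  · rw [hpolf]; exact hf.bilinear
  · rw [hpolf]; exact hf.nondegenerate
  · intro h hh
    refine ⟨1, fun v => ?_⟩
    simp only [Units.val_one, one_mul]
    have hiso := (mem_isoGL_iff f h⁻¹).mp ((isoGL f).inv_mem (hI hh))
    have e2 : ((h⁻¹ : GL (Fin n) F) : Matrix (Fin n) (Fin n) F) * (h : Matrix (Fin n) (Fin n) F) = 1 := by
      rw [← Units.val_mul, inv_mul_cancel, Units.val_one]
    rw [← hiso, Matrix.mulVec_mulVec, Matrix.mulVec_mulVec, Matrix.mulVec_mulVec, e2, Matrix.one_mulVec,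
      ← hinv h⁻¹ (H.inv_mem hh) v]
    unfold asgConj
    rw [inv_inv, Matrix.mul_assoc]

end Cfsg.Agent.Lib.Helper18.ASP
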