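import Mathlib
import Cfsg.Agent.Lib.helper7.CEC.Defs
import Cfsg.Agent.Lib.Helper24.STCI1

/-!
# Project CEC (designer helper7; S2092), row L1 (`Zl_map`, `Zl_eq`, `Zl_cj`), VERBATIM (helper23)
-/

set_option autoImplicit false

namespace Cfsg.Agent.Lib.helper7.CEC

open Cfsg.Agent.Lib.helper15.St2 Cfsg.Agent.Lib.helper7.Ce Cfsg.Agent.Lib.helper3.STC

section L

variable {K : Type*} [Field K] {ι : Type*} {Γ G : Type*} [Group Γ] [Group G] {S : SysC K ι G} {σ : Γ →* G} {h : IsCE σ}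

/-- `ab a ≠ ab b` says that `a ≠ b` and `a ≠ ng b` -/
theorem cecl1_unpack {a b : ι ⊕ ι} (hab : ab a ≠ ab b) : a ≠ b ∧ a ≠ ng b := by
  constructor
  · intro e
    exact hab (ab_eq_iff.2 (Or.inl e))
  · intro e
    exact hab (ab_eq_iff.2 (Or.inr e))

/-- L1 [S] -/
theorem Zl_map (h : IsCE σ) {a b : ι ⊕ ι} (hab : ab a ≠ ab b) (t u : K) :
    σ (Zl S h a b t u) = S.x a b (t * u) * S.x (ng b) b (sg a * sg b * t * u ^ 2) := by
  obtain ⟨h1, h2⟩ := cecl1_unpack hab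
  unfold Zl
  rw [map_cm, map_lf, map_lf]
  exact S.ls a b h1 h2 t u

theorem Zl_eq (h : IsCE σ) {a b : ι ⊕ ι} {t u : K} {p q : Γ} (hp : σ p = S.x a (ng a) t) (hq : σ q = S.x (ng a) b u) :
    cm p q = Zl S h a b t u := by
  unfold Zl
  exact h.cm_congr (by rw [hp, map_lf]) (by rw [hq, map_lf])

/-- L1 [S]  `cj_cm`, `Zl_eq`; `hπ` to rewrite `π (ng a) = ng (π a)`. -/
theorem Zl_cj (h : IsCE σ) {g : G} {π : Equiv.Perm (ι ⊕ ι)} {d : ι ⊕ ι → K} (hg : S.IsMon g π d) (hπ : ∀ k, π (ng k) = ng (π k))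
    {e : Γ} (he : σ e = g) {a b : ι ⊕ ι} (hab : ab a ≠ ab b) (t u : K) :
    cj e (Zl S h a b t u) = Zl S h (π a) (π b) (d a * (d (ng a))⁻¹ * t) (d (ng a) * (d b)⁻¹ * u) := by
  obtain ⟨h1, h2⟩ := cecl1_unpack hab
  have hna : a ≠ ng a := ne_ng a
  have hnab : ng a ≠ b := fun e' => h2 (by rw [← e', ng_ng])
  unfold Zl
  rw [cj_cm]
  refine Zl_eq h ?_ ?_
  · rw [map_cj, he, map_lf, hg.2 a (ng a) hna t, hπ a]
  · rw [map_cj, he, map_lf, hg.2 (ng a) b hnab u, hπ a]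

end L

end Cfsg.Agent.Lib.helper7.CEC
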