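import Mathlib
import Cfsg.Agent.Lib.Helper20.GLO.Defs

/-!
# Project GLO (designer helper20; block of PSU, S2291), row C1 (`PMon.p1`, `PMon.p2`, `PMon.p4`), VERBATIM (helper23)

Transport of the commutator families by a monomial element (port of GLE C1 `Helper22/GLEC1.lean`, itself a port of `helper23.SPMC1`).
-/

set_option autoImplicit false
set_option linter.unusedSectionVars false

namespace Cfsg.Agent.Lib.Helper20.GLO

open Cfsg.Agent.Lib.helper3.STC (ng ab)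
open Cfsg.Agent.Lib.helper3.SPM (Pts pe sgm sn sig2 ptsFin pe2)
open Cfsg.Agent.Lib.Helper27.STU
open Cfsg.Agent.Lib.helper17.SLP (cm)
open Cfsg.Agent.Lib.Helper20.GLE (lamC lamP)

universe u v w x v' y

section aux
variable {F : Type u} [Field F] [StarRing F] {ι : Type w} {G : Type v} [Group G]

/-- the coefficients of a monomial element do not vanish (own-name copy of STU M0 `MonData.d_ne`) -/
theorem gloc1_d_ne {π : Equiv.Perm (ι ⊕ ι)} {d : ι ⊕ ι → F} {d0 : F} (h : SysU.MonData π d d0) (k : ι ⊕ ι) : d k ≠ 0 := by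
  intro h0
  have h1 := h.d_ng k
  rw [h0, star_zero, mul_zero] at h1
  exact zero_ne_one h1

theorem gloc1_cm_conj (g x y : G) : cm (g * x * g⁻¹) (g * y * g⁻¹) = g * cm x y * g⁻¹ := by
  unfold cm
  group

theorem gloc1_commute_conj (g : G) {x y : G} (h : Commute x y) : Commute (g * x * g⁻¹) (g * y * g⁻¹) := by
  show g * x * g⁻¹ * (g * y * g⁻¹) = g * y * g⁻¹ * (g * x * g⁻¹)
  calc g * x * g⁻¹ * (g * y * g⁻¹) = g * (x * y) * g⁻¹ := by group
    _ = g * (y * x) * g⁻¹ := by rw [h.eq]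
    _ = _ := by group

end aux

section main
variable {F : Type u} [Field F] [StarRing F] {L : Type x} [Group L] {ι : Type w} [Fintype ι] [DecidableEq ι] {G : Type v} [Group G]
  (S₂ : SysU F True (Fin 2) L) (swL : L) (p : Pts ι) (ν : Equiv.Perm ι →* G) (lam : L →* G)

/-- a root element of the transported pair is the conjugate of a root element of the pair -/
theorem gloc1_conj {g : G} {π : Equiv.Perm (ι ⊕ ι)} {d : ι ⊕ ι → F} {d0 : F} (hg : PMon S₂ p ν lam g π d d0) {a b : ι ⊕ ι}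
    (hab : ab a ≠ ab b) (t : F) :
    xrs S₂ p ν lam (π a) (π b) t = g * xrs S₂ p ν lam a b ((d a * (d b)⁻¹)⁻¹ * t) * g⁻¹ := by
  rw [hg.2.1 a b hab]
  congr 1
  have ha := gloc1_d_ne hg.1 a
  have hb := gloc1_d_ne hg.1 b
  field_simp

/-- C1 [S-M]  model GLE C1 (`Helper22/GLEC1.lean`, mechanical: `PMon` has the extra argument `d0`, unused here): transport of the families by a monomial element: conjugate the identity by `g` (`hg.2.1`; `g * cm x y * g⁻¹ = cm (g x g⁻¹) (g y g⁻¹)`), substitute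
`t ↦ (d a * (d b)⁻¹)⁻¹ * t` etc.; the coefficients telescope (`field_simp`; `d k ≠ 0` from `hg.1.d_ng`). -/
theorem PMon.p1 {g : G} {π : Equiv.Perm (ι ⊕ ι)} {d : ι ⊕ ι → F} {d0 : F} (hg : PMon S₂ p ν lam g π d d0) {a b c : ι ⊕ ι}
    (hab : ab a ≠ ab b) (hbc : ab b ≠ ab c) (hac : ab a ≠ ab c) (h : P1 S₂ p ν lam a b c) : P1 S₂ p ν lam (π a) (π b) (π c) := by
  intro t u
  rw [gloc1_conj S₂ p ν lam hg hab t, gloc1_conj S₂ p ν lam hg hbc u, gloc1_cm_conj, h, hg.2.1 a c hac]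
  congr 1
  have ha := gloc1_d_ne hg.1 a
  have hb := gloc1_d_ne hg.1 b
  have hc := gloc1_d_ne hg.1 c
  field_simp

theorem PMon.p2 {g : G} {π : Equiv.Perm (ι ⊕ ι)} {d : ι ⊕ ι → F} {d0 : F} (hg : PMon S₂ p ν lam g π d d0) {a b c : ι ⊕ ι}
    (hab : ab a ≠ ab b) (hac : ab a ≠ ab c) (h : P2 S₂ p ν lam a b c) : P2 S₂ p ν lam (π a) (π b) (π c) := by
  intro t u
  rw [gloc1_conj S₂ p ν lam hg hab t, gloc1_conj S₂ p ν lam hg hac u]
  exact gloc1_commute_conj g (h _ _)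

theorem PMon.p4 {g : G} {π : Equiv.Perm (ι ⊕ ι)} {d : ι ⊕ ι → F} {d0 : F} (hg : PMon S₂ p ν lam g π d d0) {a b c e : ι ⊕ ι}
    (hab : ab a ≠ ab b) (hce : ab c ≠ ab e) (h : P4 S₂ p ν lam a b c e) : P4 S₂ p ν lam (π a) (π b) (π c) (π e) := by
  intro t u
  rw [gloc1_conj S₂ p ν lam hg hab t, gloc1_conj S₂ p ν lam hg hce u]
  exact gloc1_commute_conj g (h _ _)

end main

end Cfsg.Agent.Lib.Helper20.GLO
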