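import Mathlib
import Cfsg.Prelude.Def_GeometricClasses
import Cfsg.Agent.Lib.Helper27.ASC.Defs

/-!
# Project ASC, piece PR8U : `pr_unit`

For `n ≥ 3` the special linear group is not contained in the similarity group of a
non-degenerate unitary form.  In fact any form `f`, additive in the first argument, with
`f e_i e_j ≠ 0` for some standard basis vectors, and any index `k ≠ i, j` give an elementary
transvection `1 + E_ik` of determinant one that is not a similarity of `f`.
-/

set_option autoImplicit false
set_option linter.unusedVariables false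
set_option linter.unusedSectionVars false

namespace Cfsg.Agent.Lib.Helper27.ASC

open Cfsg Cfsg.Geo
open scoped MatrixGroups Matrix

/-- the elementary transvection `1 + E_ik` is not a similarity of a form `f`, additive in the first
argument, with `f e_i e_j ≠ 0`, `k ≠ i, j`. -/
theorem ascpr8u_core {n : ℕ} {F : Type*} [Field F] (f : (Fin n → F) → (Fin n → F) → F)
    (hadd : ∀ x y v, f (x + y) v = f x v + f y v)
    (i j k : Fin n) (hki : k ≠ i) (hkj : k ≠ j)
    (hij : f (Pi.single i 1) (Pi.single j 1) ≠ 0) :
    ¬ specialLinear (Fin n) F ≤ similarityGroup f := by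
  intro hle
  have hdet : (Matrix.transvection i k (1 : F)).det = 1 :=
    Matrix.det_transvection_of_ne i k hki.symm 1
  obtain ⟨g, hg⟩ : ∃ g : GL (Fin n) F,
      (g : Matrix (Fin n) (Fin n) F) = Matrix.transvection i k 1 :=
    ⟨Matrix.GeneralLinearGroup.mkOfDetNeZero (Matrix.transvection i k 1)
      (hdet.symm ▸ one_ne_zero), rfl⟩
  have hgSL : g ∈ specialLinear (Fin n) F := by
    unfold specialLinear
    rw [MonoidHom.mem_ker]
    apply Units.ext
    rw [Matrix.GeneralLinearGroup.val_det_apply, hg, hdet]
    rfl
  obtain ⟨c, hc⟩ := hle hgSL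
  have hfix : ∀ m : Fin n, m ≠ k →
      (g : Matrix (Fin n) (Fin n) F) *ᵥ Pi.single m 1 = Pi.single m 1 := by
    intro m hm
    rw [hg, Matrix.mulVec_single_one]
    ext a
    have hkm : ¬ (k = m) := fun h => hm h.symm
    simp [Matrix.transvection, Matrix.col_apply, Matrix.one_apply, Pi.single_apply, hkm]
  have hk : (g : Matrix (Fin n) (Fin n) F) *ᵥ Pi.single k 1 = Pi.single k 1 + Pi.single i 1 := by
    rw [hg, Matrix.mulVec_single_one]
    ext a
    simp [Matrix.transvection, Matrix.col_apply, Matrix.single_apply, Matrix.one_apply,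
      Pi.single_apply, eq_comm]
  have h1 := hc (Pi.single i 1) (Pi.single j 1)
  rw [hfix i hki.symm, hfix j hkj.symm] at h1
  have hc1 : (c : F) = 1 := by
    have h3 : (c : F) * f (Pi.single i 1) (Pi.single j 1) = 1 * f (Pi.single i 1) (Pi.single j 1) := by
      rw [one_mul]; exact h1.symm
    exact mul_right_cancel₀ hij h3
  have h2 := hc (Pi.single k 1) (Pi.single j 1)
  rw [hk, hfix j hkj.symm, hadd, hc1, one_mul] at h2
  exact hij (by simpa using h2)

/-- a form that is linear in the first argument and does not vanish identically against `v`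
does not vanish on some standard basis vector against `v`. -/
theorem ascpr8u_basis {n : ℕ} {F : Type*} [Field F] (f : (Fin n → F) → (Fin n → F) → F)
    (hadd : ∀ x y v, f (x + y) v = f x v + f y v)
    (hsmul : ∀ (c : F) (x v : Fin n → F), f (c • x) v = c * f x v)
    (v x : Fin n → F) (hx : f x v ≠ 0) : ∃ i : Fin n, f (Pi.single i 1) v ≠ 0 := by
  by_contra hcon
  push Not at hcon
  let L : (Fin n → F) →ₗ[F] F :=
    { toFun := fun y => f y v
      map_add' := fun a b => hadd a b v
      map_smul' := fun c a => by simpa using hsmul c a v }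
  have hL : L x = ∑ i, x i • L (fun j => if i = j then 1 else 0) := LinearMap.pi_apply_eq_sum_univ L x
  apply hx
  change L x = 0
  rw [hL]
  refine Finset.sum_eq_zero (fun i _ => ?_)
  have hsi : (fun j => if i = j then (1 : F) else 0) = Pi.single i 1 := by
    funext j
    simp [Pi.single_apply, eq_comm]
  rw [hsi]
  change x i • f (Pi.single i 1) v = 0
  rw [hcon i, smul_zero]

variable {n : ℕ} {F : Type*} [Field F] [Fintype F]

/-- PR8U -/
theorem pr_unit (hn : 3 ≤ n) (σ : F ≃+* F) (f : (Fin n → F) → (Fin n → F) → F) (hf : IsUnitaryForm σ f) :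
    ¬ specialLinear (Fin n) F ≤ similarityGroup f := by
  classical
  let j : Fin n := ⟨0, by omega⟩
  have hj0 : (Pi.single j (1 : F) : Fin n → F) ≠ 0 := by
    intro h
    have := congrFun h j
    simp at this
  obtain ⟨⟨x, hx⟩, _⟩ := hf.nondegenerate _ hj0
  obtain ⟨i, hi⟩ := ascpr8u_basis f hf.add_left hf.smul_left _ x hx
  obtain ⟨k, hki, hkj⟩ := Fin.exists_ne_and_ne_of_two_lt i j (by omega)
  exact ascpr8u_core f hf.add_left i j k hki hkj hi

end Cfsg.Agent.Lib.Helper27.ASC
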