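import Mathlib
import Cfsg.Prelude.Def_Characters
import Cfsg.Agent.Lib.Helper25.CharLinear
import Cfsg.Agent.Lib.Helper25.CharAbelian
import Cfsg.Agent.Lib.helper2.CharNat
import Cfsg.Agent.Lib.helper2.Burnside
import Cfsg.Agent.Lib.helper7.CharCentral
import Cfsg.Agent.S0138

set_option autoImplicit false
set_option linter.style.haveILetI false

namespace Cfsg.Agent.Lib.helper23

open Cfsg.Agent.Lib.helper2 Cfsg.Agent.Lib.Helper25 Cfsg.Agent.Lib.helper7
open scoped commutatorElement

/-- a character vanishing off the identity of a subgroup has degree divisible by its order -/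
theorem pdc_vanish_dvd {G : Type*} [Group G] [Finite G] (H : Subgroup G) (χ : G → ℂ)
    (hχ : Cfsg.IsCharacter G χ) (hvan : ∀ g : G, g ∈ H → g ≠ 1 → χ g = 0) :
    ∃ k : ℕ, χ 1 = (Nat.card H : ℂ) * k := by
  classical
  have : Fintype H := Fintype.ofFinite _
  have h1 := isCharacter_restrict hχ H
  obtain ⟨m, hm⟩ := classInner_character_nat h1 (isCharacter_of_irr (trivIrr H))
  refine ⟨m, ?_⟩
  rw [← hm]
  unfold Cfsg.classInner
  have hne : (Nat.card H : ℂ) ≠ 0 := by exact_mod_cast Nat.card_pos.ne'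
  rw [Finset.sum_eq_single (1 : H)]
  · simp only [trivIrr_apply, map_one, mul_one, Subgroup.coe_one]
    change χ 1 = (Nat.card H : ℂ) * ((Nat.card H : ℂ)⁻¹ * χ 1)
    rw [← mul_assoc, mul_inv_cancel₀ hne, one_mul]
  · intro b _ hb
    have hb' : (b : G) ≠ 1 := fun h => hb (Subtype.ext h)
    simp only [trivIrr_apply, map_one, mul_one]
    exact hvan b b.2 hb'
  · intro h
    exact absurd (Finset.mem_univ _) h

/-- a finite group with a faithful irreducible character of prime degree `p` and order divisible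
by `p ^ 2` has nontrivial centre -/
theorem pdc_main {G : Type*} [Group G] [Finite G] (p : ℕ) (hp : p.Prime)
    (χ : Cfsg.IrrCharacter G) (hdeg : χ.1 1 = p) (hfaith : ∀ g : G, χ.1 g = χ.1 1 → g = 1)
    (hdiv : p ^ 2 ∣ Nat.card G) : Subgroup.center G ≠ ⊥ := by
  classical
  haveI : Fact p.Prime := ⟨hp⟩
  intro hZ
  obtain ⟨n, ρ, hρ, hχ⟩ := χ.2
  haveI := hρ
  have hfr : Module.finrank ℂ (Fin n → ℂ) = n := Module.finrank_fin_fun ℂ
  have hχ1 : χ.1 1 = (n : ℂ) := by rw [← hχ, Representation.char_one, hfr]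
  have hn : n = p := by
    rw [hdeg] at hχ1
    exact_mod_cast hχ1.symm
  have hker : ∀ g : G, ρ g = 1 → g = 1 := by
    intro g hg
    apply hfaith
    rw [← hχ]
    show LinearMap.trace ℂ _ (ρ g) = LinearMap.trace ℂ _ (ρ 1)
    rw [hg, map_one ρ]
  obtain ⟨P⟩ : Nonempty (Sylow p G) := inferInstance
  have hPcard : p ^ 2 ∣ Nat.card P := by
    rw [Sylow.card_eq_multiplicity]
    exact pow_dvd_pow p ((hp.pow_dvd_iff_le_factorization Nat.card_pos.ne').mp hdiv)
  -- (a) vanishing on the centre of `P`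
  have hvanish : ∀ x : P, x ∈ Subgroup.center P → x ≠ 1 → χ.1 (x : G) = 0 := by
    intro x hx hx1
    have hle : (P : Subgroup G) ≤ Subgroup.centralizer ({(x : G)} : Set G) := by
      intro y hy
      rw [Subgroup.mem_centralizer_iff]
      intro h hh
      rw [Set.mem_singleton_iff] at hh
      subst hh
      have h1 := Subgroup.mem_center_iff.mp hx ⟨y, hy⟩
      have h2 := congrArg Subtype.val h1
      exact h2.symm
    have hcop : Nat.Coprime (Module.finrank ℂ (Fin n → ℂ))
        (Subgroup.centralizer ({(x : G)} : Set G)).index := by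
      rw [hfr, hn]
      apply (Nat.Prime.coprime_iff_not_dvd hp).mpr
      intro hd
      exact P.not_dvd_index (hd.trans (Subgroup.index_dvd_of_le hle))
    rcases burnside_coprime ρ (x : G) hcop with h0 | h1
    · rw [← hχ]; exact h0
    · exfalso
      obtain ⟨ω, hω⟩ := (Cfsg.Agent.S0138.result ρ (x : G)).mp h1
      have hcen : (x : G) ∈ Subgroup.center G := by
        rw [Subgroup.mem_center_iff]
        intro g
        have h3 : ρ (g * (x : G)) = ρ ((x : G) * g) := by
          rw [map_mul, map_mul, hω]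
          apply LinearMap.ext
          intro v
          simp
        have h4 : ρ (g * (x : G) * ((x : G) * g)⁻¹) = 1 := by
          rw [map_mul, h3, ← map_mul, mul_inv_cancel, map_one]
        have h5 := hker _ h4
        exact mul_inv_eq_one.mp h5
      rw [hZ, Subgroup.mem_bot] at hcen
      exact hx1 (Subtype.ext hcen)
  have hχP : Cfsg.IsCharacter P (fun h : P => χ.1 h) :=
    isCharacter_restrict (isCharacter_of_irr χ) (P : Subgroup G)
  have hPnt : Nontrivial P := by
    have h1 : 1 < Nat.card P := by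
      have := Nat.le_of_dvd Nat.card_pos hPcard
      have h2 : 2 ≤ p := hp.two_le
      nlinarith
    exact Finite.one_lt_card_iff_nontrivial.mp h1
  have hZnt : Nontrivial (Subgroup.center P) := IsPGroup.center_nontrivial P.isPGroup'
  -- (b) the centre of `P` has order `p`
  have hZP : Nat.card (Subgroup.center P) = p := by
    obtain ⟨k, hk⟩ := pdc_vanish_dvd (Subgroup.center P) (fun h : P => χ.1 h) hχP
      (fun g hg hg1 => hvanish g hg hg1)
    have h1 : (p : ℂ) = ((Nat.card (Subgroup.center P) * k : ℕ) : ℂ) := by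
      push_cast
      rw [← hk]
      show (p : ℂ) = χ.1 ((1 : P) : G)
      rw [Subgroup.coe_one, hdeg]
    have h2 : p = Nat.card (Subgroup.center P) * k := by exact_mod_cast h1
    have h3 : Nat.card (Subgroup.center P) ∣ p := ⟨k, h2⟩
    rcases (Nat.dvd_prime hp).mp h3 with h | h
    · exfalso
      have : 1 < Nat.card (Subgroup.center P) := Finite.one_lt_card
      omega
    · exact h
  obtain ⟨z, hz1⟩ := exists_ne (1 : Subgroup.center P)
  have hzP : (z : P) ≠ 1 := fun h => hz1 (Subtype.ext h)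
  have hχz : χ.1 ((z : P) : G) = 0 := hvanish z z.2 hzP
  -- (c) decomposition of the restriction to `P`
  haveI : Fintype P := Fintype.ofFinite _
  haveI : Fintype (Cfsg.IrrCharacter P) := Fintype.ofFinite _
  obtain ⟨m, hm, hexp⟩ := isCharacter_expansion hχP
  have hval : ∀ h : P, χ.1 (h : G) = ∑ ψ : Cfsg.IrrCharacter P, (m ψ : ℂ) * (ψ : P → ℂ) h := by
    intro h
    have h1 := congrFun hexp h
    simp only [Finset.sum_apply, Pi.smul_apply, smul_eq_mul] at h1
    exact h1
  set d : Cfsg.IrrCharacter P → ℕ := fun ψ => Cfsg.charDegree (ψ : P → ℂ) with hddef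
  have hd : ∀ ψ : Cfsg.IrrCharacter P, ((d ψ : ℕ) : ℂ) = (ψ : P → ℂ) 1 := fun ψ =>
    (charDegree_irr ψ).1
  have hdpos : ∀ ψ : Cfsg.IrrCharacter P, 0 < d ψ := fun ψ => (charDegree_irr ψ).2
  have hsum : p = ∑ ψ : Cfsg.IrrCharacter P, m ψ * d ψ := by
    have h1 := hval 1
    rw [Subgroup.coe_one, hdeg] at h1
    have h2 : (p : ℂ) = ((∑ ψ : Cfsg.IrrCharacter P, m ψ * d ψ : ℕ) : ℂ) := by
      push_cast
      rw [h1]
      apply Finset.sum_congr rfl
      intro ψ _
      rw [hd]
    exact_mod_cast h2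
  have hddvd : ∀ ψ : Cfsg.IrrCharacter P, d ψ ∣ Nat.card P := by
    intro ψ
    obtain ⟨n', ρ', hρ', hψ⟩ := ψ.2
    haveI := hρ'
    have h1 := degree_dvd_card ρ'
    have h2 : ((d ψ : ℕ) : ℂ) = ((Module.finrank ℂ (Fin n' → ℂ) : ℕ) : ℂ) := by
      rw [hd, ← hψ, Representation.char_one]
    have h3 : d ψ = Module.finrank ℂ (Fin n' → ℂ) := by exact_mod_cast h2
    rw [h3]
    exact h1
  by_cases hcase : ∃ ψ₀ : Cfsg.IrrCharacter P, m ψ₀ ≠ 0 ∧ d ψ₀ ≠ 1
  · -- the restriction is irreducible
    obtain ⟨ψ₀, hm0, hd0⟩ := hcase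
    have hpd : p ∣ d ψ₀ := by
      have h1 := hddvd ψ₀
      rw [Sylow.card_eq_multiplicity] at h1
      obtain ⟨j, _, hj⟩ := (Nat.dvd_prime_pow hp).mp h1
      rw [hj]
      apply dvd_pow_self
      intro hj0
      rw [hj0, pow_zero] at hj
      exact hd0 hj
    have hple : p ≤ d ψ₀ := Nat.le_of_dvd (hdpos ψ₀) hpd
    have hterm : m ψ₀ * d ψ₀ ≤ p := by
      rw [hsum]
      exact Finset.single_le_sum (f := fun ψ => m ψ * d ψ) (fun _ _ => Nat.zero_le _)
        (Finset.mem_univ ψ₀)
    have hm1 : m ψ₀ = 1 := by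
      have h1 : 1 ≤ m ψ₀ := Nat.one_le_iff_ne_zero.mpr hm0
      by_contra hne
      have h2 : 2 ≤ m ψ₀ := by omega
      have h3 : 2 * d ψ₀ ≤ m ψ₀ * d ψ₀ := Nat.mul_le_mul_right _ h2
      have := hdpos ψ₀
      omega
    have hdp : d ψ₀ = p := by
      rw [hm1, one_mul] at hterm
      omega
    have hothers : ∀ ψ : Cfsg.IrrCharacter P, ψ ≠ ψ₀ → m ψ = 0 := by
      intro ψ hψ
      by_contra hne
      have h1 : m ψ₀ * d ψ₀ + m ψ * d ψ ≤ p := by
        rw [hsum]
        have h2 : ∑ ψ' ∈ ({ψ₀, ψ} : Finset (Cfsg.IrrCharacter P)), m ψ' * d ψ' ≤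
            ∑ ψ' : Cfsg.IrrCharacter P, m ψ' * d ψ' :=
          Finset.sum_le_sum_of_subset (Finset.subset_univ _)
        rwa [Finset.sum_pair hψ.symm] at h2
      rw [hm1, one_mul, hdp] at h1
      have h3 : 0 < m ψ * d ψ := Nat.mul_pos (Nat.pos_of_ne_zero hne) (hdpos ψ)
      omega
    have hχψ : ∀ h : P, χ.1 (h : G) = (ψ₀ : P → ℂ) h := by
      intro h
      rw [hval h, Finset.sum_eq_single ψ₀]
      · rw [hm1, Nat.cast_one, one_mul]
      · intro ψ _ hψ
        rw [hothers ψ hψ, Nat.cast_zero, zero_mul]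
      · intro h'
        exact absurd (Finset.mem_univ _) h'
    obtain ⟨c, hc⟩ := h7_central_char ψ₀.2 (z : P) z.2
    have h1 := hc (z : P)⁻¹
    rw [mul_inv_cancel] at h1
    have hψ1 : (ψ₀ : P → ℂ) 1 ≠ 0 := irr_one_ne_zero ψ₀
    have hc0 : c ≠ 0 := by
      intro h0
      rw [h0, zero_mul] at h1
      exact hψ1 h1
    have h2 := hc 1
    rw [mul_one] at h2
    have h3 : (ψ₀ : P → ℂ) (z : P) ≠ 0 := by
      rw [h2]
      exact mul_ne_zero hc0 hψ1
    rw [hχψ] at hχz
    exact h3 hχz
  · -- all constituents are linear: `P` is abelian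
    have hcase' : ∀ ψ : Cfsg.IrrCharacter P, m ψ ≠ 0 → d ψ = 1 := by
      intro ψ hmψ
      by_contra h
      exact hcase ⟨ψ, hmψ, h⟩
    have hcomm : ∀ w : P, w ∈ commutator P → w = 1 := by
      intro w hw
      have h1 : χ.1 (w : G) = χ.1 1 := by
        have h2 := hval w
        have h3 := hval 1
        rw [Subgroup.coe_one] at h3
        rw [h2, h3]
        apply Finset.sum_congr rfl
        intro ψ _
        by_cases hmψ : m ψ = 0
        · rw [hmψ, Nat.cast_zero, zero_mul, zero_mul]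
        · have hdψ : d ψ = 1 := hcase' ψ hmψ
          have hψ1 : (ψ : P → ℂ) 1 = 1 := by
            rw [← hd, hdψ, Nat.cast_one]
          rw [irr_linear_commutator ψ hψ1 hw, hψ1]
      have h4 := hfaith _ h1
      exact Subtype.ext h4
    have hab : ∀ a b : P, a * b = b * a := by
      intro a b
      have h1 : ⁅a, b⁆ ∈ commutator P := Subgroup.commutator_mem_commutator
        (Subgroup.mem_top a) (Subgroup.mem_top b)
      have h2 := hcomm _ h1
      exact commutatorElement_eq_one_iff_mul_comm.mp h2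
    have hcen : Subgroup.center P = ⊤ := by
      rw [eq_top_iff]
      intro a _
      rw [Subgroup.mem_center_iff]
      intro g
      exact hab g a
    rw [hcen, Subgroup.card_top] at hZP
    rw [hZP] at hPcard
    have h1 : p ^ 2 ≤ p := Nat.le_of_dvd hp.pos hPcard
    have h2 : 2 ≤ p := hp.two_le
    nlinarith

end Cfsg.Agent.Lib.helper23
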