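import Mathlib
import Cfsg.Agent.Lib.Helper22.S6002.Defs
import Cfsg.Agent.Lib.Helper24.ElB

set_option autoImplicit false
set_option linter.unusedVariables false
set_option linter.unusedSectionVars false
open scoped MatrixGroups

/-!
# Project S6002 (designer helper22), row L1 (`ord5_cyc`, helper23): an element of order 5 of `GL_4`
when `Φ₅` is irreducible.
-/

namespace Cfsg.Agent.Lib.Helper22.S6002

open Polynomial Module

variable {ι : Type} [Fintype ι] [DecidableEq ι] {F : Type*} [Field F]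

/-- a matrix `Y ≠ 1` with `Y ^ 5 = 1` is killed by `Φ₅` (`Φ₅` irreducible, dimension `4`). -/
theorem s6002l1_kill (hι : Fintype.card ι = 4) (hirr : Irreducible (Polynomial.cyclotomic 5 F))
    (Y : Matrix ι ι F) (hY5 : Y ^ 5 = 1) (hY1 : Y ≠ 1) :
    Polynomial.aeval Y (Polynomial.cyclotomic 5 F) = 0 := by
  have : Fact (Nat.Prime 5) := ⟨Nat.prime_five⟩
  have hint : IsIntegral F Y := Matrix.isIntegral Y
  have hmm : (minpoly F Y).Monic := minpoly.monic hint
  have hd1 : minpoly F Y ∣ cyclotomic 5 F * (X - 1) := by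
    rw [cyclotomic_prime_mul_X_sub_one]
    apply minpoly.dvd
    rw [map_sub, map_pow, aeval_X, map_one, hY5, sub_self]
  have hdvd : cyclotomic 5 F ∣ minpoly F Y := by
    by_contra hnd
    have hcop : IsCoprime (cyclotomic 5 F) (minpoly F Y) :=
      (hirr.coprime_iff_not_dvd).mpr hnd
    have h2 : minpoly F Y ∣ X - 1 := hcop.symm.dvd_of_dvd_mul_left hd1
    obtain ⟨g, hg⟩ := h2
    have h3 : aeval Y (X - 1 : F[X]) = 0 := by
      rw [hg, map_mul, minpoly.aeval, zero_mul]
    rw [map_sub, aeval_X, map_one, sub_eq_zero] at h3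
    exact hY1 h3
  have hdeg : (minpoly F Y).natDegree ≤ (cyclotomic 5 F).natDegree := by
    rw [natDegree_cyclotomic]
    have h4 : (minpoly F Y).natDegree ≤ Y.charpoly.natDegree :=
      natDegree_le_of_dvd (Matrix.minpoly_dvd_charpoly Y) (Matrix.charpoly_monic Y).ne_zero
    rw [Matrix.charpoly_natDegree_eq_dim, hι] at h4
    exact h4
  have heq : minpoly F Y = cyclotomic 5 F :=
    eq_of_monic_of_dvd_of_natDegree_le (cyclotomic.monic 5 F) hmm hdvd hdeg
  rw [← heq]
  exact minpoly.aeval F Y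

/-- L1 [M]. -/
theorem ord5_cyc (hι : Fintype.card ι = 4) (hirr : Irreducible (Polynomial.cyclotomic 5 F))
    (y : GL ι F) (hy5 : y ^ 5 = 1) (hy1 : y ≠ 1) :
    Polynomial.aeval (y : Matrix ι ι F) (Polynomial.cyclotomic 5 F) = 0 ∧
    ∀ W : Submodule F (ι → F), W.map (Matrix.toLin' (y : Matrix ι ι F)) ≤ W → W = ⊥ ∨ W = ⊤ := by
  have hY5 : (y : Matrix ι ι F) ^ 5 = 1 := by
    rw [← Units.val_pow_eq_pow_val, hy5, Units.val_one]
  have hY1 : (y : Matrix ι ι F) ≠ 1 := by
    intro h
    apply hy1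
    apply Units.ext
    rw [h, Units.val_one]
  have hkill := s6002l1_kill hι hirr (y : Matrix ι ι F) hY5 hY1
  refine ⟨hkill, ?_⟩
  intro W hW
  have hinv : Cfsg.Agent.Lib.Helper24.ElInv (Matrix.toLin' (y : Matrix ι ι F)) W := by
    intro w hw
    exact hW (Submodule.mem_map_of_mem hw)
  have hkill' : aeval (Matrix.toLin' (y : Matrix ι ι F)) (cyclotomic 5 F) = 0 := by
    have h := Polynomial.aeval_algHom_apply (Matrix.toLinAlgEquiv' (R := F) (n := ι)).toAlgHom
      (y : Matrix ι ι F) (cyclotomic 5 F)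
    have h4 : (Matrix.toLinAlgEquiv' (R := F) (n := ι)).toAlgHom (y : Matrix ι ι F) =
        Matrix.toLin' (y : Matrix ι ι F) := rfl
    rw [h4] at h
    rw [h, hkill, map_zero]
  have hdvd : 4 ∣ finrank F W := by
    apply Cfsg.Agent.Lib.Helper24.el_dvd_dim (Matrix.toLin' (y : Matrix ι ι F)) W hinv
      (cyclotomic 5 F) (cyclotomic_ne_zero 5 F)
      (fun u _ => by rw [hkill', LinearMap.zero_apply]) 4 (by norm_num)
    intro P hP hPd
    have hassoc : Associated P (cyclotomic 5 F) := hP.associated_of_dvd hirr hPd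
    rw [natDegree_eq_of_degree_eq (degree_eq_degree_of_associated hassoc), natDegree_cyclotomic]
    rfl
  have hle : finrank F W ≤ 4 := by
    have := Submodule.finrank_le W
    rw [Module.finrank_fintype_fun_eq_card, hι] at this
    exact this
  obtain ⟨t, ht⟩ := hdvd
  have ht' : t = 0 ∨ t = 1 := by omega
  rcases ht' with rfl | rfl
  · left
    rw [mul_zero] at ht
    exact Submodule.finrank_eq_zero.mp ht
  · right
    apply Submodule.eq_top_of_finrank_eq
    rw [ht, Module.finrank_fintype_fun_eq_card, hι]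

end Cfsg.Agent.Lib.Helper22.S6002
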