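import Mathlib
import Cfsg.Agent.Lib.Helper22.S6002.Defs
import Cfsg.Agent.Lib.helper23.S6002L1

set_option autoImplicit false
set_option linter.unusedVariables false
set_option linter.unusedSectionVars false
open scoped MatrixGroups

/-!
# Project S6002 (designer helper22), row L2 (`ord5_pow`, helper23): commuting elements of order 5.
-/

namespace Cfsg.Agent.Lib.Helper22.S6002

open Polynomial Module

variable {ι : Type} [Fintype ι] [DecidableEq ι] {F : Type*} [Field F]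

/-- the polynomial identity behind L2 (in a commutative ring). -/
theorem s6002l2_ident {R : Type*} [CommRing R] (a b : R) :
    (b - 1) * (b - a) * (b - a ^ 2) * (b - a ^ 3) * (b - a ^ 4) =
      (b ^ 5 - 1) + (1 + a + a ^ 2 + a ^ 3 + a ^ 4) * (-b ^ 4 + 2 * b ^ 3 - 2 * b ^ 2 + a ^ 6 * b) +
        (a ^ 5 - 1) * ((2 + a + a ^ 2) * b ^ 3 - (2 + 2 * a + 2 * a ^ 2 + a ^ 3 + a ^ 4) * b ^ 2 -
          (a ^ 5 + 1)) := by
  ring

/-- polynomials in `A` commute with everything commuting with `A`. -/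
theorem s6002l2_comm {n : Type*} [Fintype n] [DecidableEq n] (A B : Matrix n n F) (h : Commute A B)
    (f : F[X]) : Commute (aeval A f) B := by
  induction f using Polynomial.induction_on' with
  | add f g hf hg =>
    rw [map_add]
    exact hf.add_left hg
  | monomial k c =>
    rw [aeval_monomial]
    exact (Algebra.commute_algebraMap_left c B).mul_left (h.pow_left k)

/-- the product `∏ (B - A ^ k)` vanishes for commuting `A`, `B` with `A ^ 5 = B ^ 5 = 1`, `Φ₅(A) = 0`. -/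
theorem s6002l2_prod {n : Type*} [Fintype n] [DecidableEq n] (A B : Matrix n n F) (h : Commute A B)
    (hA : A ^ 5 = 1) (hB : B ^ 5 = 1) (hΦ : 1 + A + A ^ 2 + A ^ 3 + A ^ 4 = 0) :
    (B - 1) * (B - A) * (B - A ^ 2) * (B - A ^ 3) * (B - A ^ 4) = 0 := by
  let ψ : F[X] →+* Matrix n n F := (aeval A : F[X] →ₐ[F] Matrix n n F).toRingHom
  have hψX : ψ X = A := aeval_X A
  let φ : F[X][X] →+* Matrix n n F :=
    Polynomial.eval₂RingHom' ψ B (fun f => s6002l2_comm A B h f)
  have hφb : φ X = B := Polynomial.eval₂_X ψ B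
  have hφa : φ (C X) = A := by
    show Polynomial.eval₂ ψ B (C X) = A
    rw [Polynomial.eval₂_C, hψX]
  have key := congrArg φ (s6002l2_ident (C X : F[X][X]) (X : F[X][X]))
  simp only [map_mul, map_sub, map_add, map_pow, map_one, map_neg, map_ofNat, hφa, hφb] at key
  rw [key, hA, hB, hΦ]
  simp

/-- L2 [M]. -/
theorem ord5_pow (hι : Fintype.card ι = 4) (hirr : Irreducible (Polynomial.cyclotomic 5 F))
    (y₁ y₂ : GL ι F) (hc : y₁ * y₂ = y₂ * y₁) (h1 : y₁ ^ 5 = 1) (h2 : y₂ ^ 5 = 1) (hne : y₁ ≠ 1) :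
    y₂ ∈ Subgroup.zpowers y₁ := by
  have : Fact (Nat.Prime 5) := ⟨Nat.prime_five⟩
  obtain ⟨hkill, hirr'⟩ := ord5_cyc hι hirr y₁ h1 hne
  have hA : (y₁ : Matrix ι ι F) ^ 5 = 1 := by
    rw [← Units.val_pow_eq_pow_val, h1, Units.val_one]
  have hB : (y₂ : Matrix ι ι F) ^ 5 = 1 := by
    rw [← Units.val_pow_eq_pow_val, h2, Units.val_one]
  have hcomm : Commute (y₁ : Matrix ι ι F) (y₂ : Matrix ι ι F) := by
    show (y₁ : Matrix ι ι F) * (y₂ : Matrix ι ι F) = (y₂ : Matrix ι ι F) * (y₁ : Matrix ι ι F)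
    rw [← Units.val_mul, ← Units.val_mul, hc]
  have hΦ : 1 + (y₁ : Matrix ι ι F) + (y₁ : Matrix ι ι F) ^ 2 + (y₁ : Matrix ι ι F) ^ 3 +
      (y₁ : Matrix ι ι F) ^ 4 = 0 := by
    rw [cyclotomic_prime] at hkill
    simpa [Finset.sum_range_succ] using hkill
  have hprod := s6002l2_prod (y₁ : Matrix ι ι F) (y₂ : Matrix ι ι F) hcomm hA hB hΦ
  -- one of the factors is singular
  have hdet : ∃ k : ℕ, ((y₂ : Matrix ι ι F) - (y₁ : Matrix ι ι F) ^ k).det = 0 := by
    have : Nonempty ι := Fintype.card_pos_iff.mp (by rw [hι]; norm_num)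
    have h0 := congrArg Matrix.det hprod
    rw [Matrix.det_mul, Matrix.det_mul, Matrix.det_mul, Matrix.det_mul, Matrix.det_zero] at h0
    rcases mul_eq_zero.mp h0 with h0 | h0
    · rcases mul_eq_zero.mp h0 with h0 | h0
      · rcases mul_eq_zero.mp h0 with h0 | h0
        · rcases mul_eq_zero.mp h0 with h0 | h0
          · exact ⟨0, by rw [pow_zero]; exact h0⟩
          · exact ⟨1, by rw [pow_one]; exact h0⟩
        · exact ⟨2, h0⟩
      · exact ⟨3, h0⟩
    · exact ⟨4, h0⟩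
  obtain ⟨k, hk⟩ := hdet
  obtain ⟨v, hv0, hv⟩ := Matrix.exists_mulVec_eq_zero_iff.mpr hk
  -- the kernel is `y₁`-invariant
  obtain ⟨M, hM⟩ : ∃ M : Matrix ι ι F, M = (y₂ : Matrix ι ι F) - (y₁ : Matrix ι ι F) ^ k := ⟨_, rfl⟩
  rw [← hM] at hv
  have hMc : (y₁ : Matrix ι ι F) * M = M * (y₁ : Matrix ι ι F) := by
    rw [hM, mul_sub, sub_mul, hcomm.eq, ← pow_succ', ← pow_succ]
  have hW : (LinearMap.ker (Matrix.toLin' M)).map (Matrix.toLin' (y₁ : Matrix ι ι F)) ≤
      LinearMap.ker (Matrix.toLin' M) := by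
    rintro _ ⟨w, hw, rfl⟩
    rw [SetLike.mem_coe, LinearMap.mem_ker] at hw
    rw [LinearMap.mem_ker, Matrix.toLin'_apply, Matrix.toLin'_apply, Matrix.mulVec_mulVec, ← hMc,
      ← Matrix.mulVec_mulVec, ← Matrix.toLin'_apply M, hw, Matrix.mulVec_zero]
  rcases hirr' _ hW with hbot | htop
  · exfalso
    apply hv0
    have : v ∈ LinearMap.ker (Matrix.toLin' M) := by
      rw [LinearMap.mem_ker, Matrix.toLin'_apply]
      exact hv
    rw [hbot] at this
    exact (Submodule.mem_bot F).mp this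
  · have hM0 : M = 0 := by
      have h3 : Matrix.toLin' M = 0 := LinearMap.ker_eq_top.mp htop
      have h4 : Matrix.toLin' M = Matrix.toLin' (0 : Matrix ι ι F) := by rw [h3, map_zero]
      exact Matrix.toLin'.injective h4
    rw [hM, sub_eq_zero] at hM0
    refine ⟨(k : ℤ), ?_⟩
    apply Units.ext
    show ((y₁ ^ (k : ℤ) : GL ι F) : Matrix ι ι F) = _
    rw [zpow_natCast, Units.val_pow_eq_pow_val, hM0]

end Cfsg.Agent.Lib.Helper22.S6002
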