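import Mathlib
import Cfsg.Agent.Lib.Helper22.S6002.Defs
import Cfsg.Agent.Lib.helper23.S6002L2

set_option autoImplicit false
set_option linter.unusedVariables false
set_option linter.unusedSectionVars false
open scoped MatrixGroups

/-!
# Project S6002 (designer helper22), row L3 (`five_conj`, helper23): Sylow, one class of subgroups of order 5.
-/

namespace Cfsg.Agent.Lib.Helper22.S6002

open scoped Pointwise

variable {ι : Type} [Fintype ι] [DecidableEq ι] {F : Type*} [Field F]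

/-- a cyclic group generated by an element killed by `5` is a `5`-group. -/
theorem s6002l3_pgroup {G : Type*} [Group G] (z : G) (hz : z ^ 5 = 1) :
    IsPGroup 5 (Subgroup.zpowers z) := by
  rintro ⟨w, hw⟩
  obtain ⟨n, rfl⟩ := Subgroup.mem_zpowers_iff.mp hw
  refine ⟨1, ?_⟩
  apply Subtype.ext
  rw [pow_one, Subgroup.coe_pow, Subgroup.coe_one]
  show (z ^ n) ^ 5 = 1
  rw [← zpow_natCast, ← zpow_mul, mul_comm, zpow_mul, zpow_natCast, hz, one_zpow]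

/-- a nontrivial finite `5`-group has a central element of order 5. -/
theorem s6002l3_central {G : Type*} [Group G] [Finite G] [Nontrivial G] (hG : IsPGroup 5 G) :
    ∃ x : G, (∀ q : G, q * x = x * q) ∧ orderOf x = 5 := by
  have : Fact (Nat.Prime 5) := ⟨Nat.prime_five⟩
  have hcn : Nontrivial (Subgroup.center G) := hG.center_nontrivial
  have hZ : IsPGroup 5 (Subgroup.center G) := hG.to_subgroup _
  have hdvd : 5 ∣ Nat.card (Subgroup.center G) := by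
    rcases hZ.card_eq_or_dvd with h | h
    · have := Finite.one_lt_card_iff_nontrivial.mpr hcn
      omega
    · exact h
  obtain ⟨x, hx⟩ := exists_prime_orderOf_dvd_card' 5 hdvd
  refine ⟨(x : G), fun q => Subgroup.mem_center_iff.mp x.2 q, ?_⟩
  rw [Subgroup.orderOf_coe, hx]

/-- L3 [M]. -/
theorem five_conj (hι : Fintype.card ι = 4) (hirr : Irreducible (Polynomial.cyclotomic 5 F))
    (T : Subgroup (GL ι F)) [Finite T] (y y₀ : GL ι F) (hy : y ∈ T) (hy₀ : y₀ ∈ T)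
    (h1 : y ^ 5 = 1) (h2 : y₀ ^ 5 = 1) (hne : y₀ ≠ 1) :
    ∃ g ∈ T, g⁻¹ * y * g ∈ Subgroup.zpowers y₀ := by
  have : Fact (Nat.Prime 5) := ⟨Nat.prime_five⟩
  obtain ⟨yT, hyT⟩ : ∃ yT : T, (yT : GL ι F) = y := ⟨⟨y, hy⟩, rfl⟩
  obtain ⟨y₀T, hy₀T⟩ : ∃ y₀T : T, (y₀T : GL ι F) = y₀ := ⟨⟨y₀, hy₀⟩, rfl⟩
  have h1T : yT ^ 5 = 1 := by
    apply Subtype.ext
    rw [Subgroup.coe_pow, hyT, h1, Subgroup.coe_one]
  have h2T : y₀T ^ 5 = 1 := by
    apply Subtype.ext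
    rw [Subgroup.coe_pow, hy₀T, h2, Subgroup.coe_one]
  obtain ⟨P₀, hP₀⟩ := (s6002l3_pgroup y₀T h2T).exists_le_sylow
  obtain ⟨Q, hQ⟩ := (s6002l3_pgroup yT h1T).exists_le_sylow
  obtain ⟨g, hg⟩ := MulAction.exists_smul_eq T P₀ Q
  have hyQ : yT ∈ (Q : Subgroup T) := hQ (Subgroup.mem_zpowers yT)
  have hy₀P : y₀T ∈ (P₀ : Subgroup T) := hP₀ (Subgroup.mem_zpowers y₀T)
  have hwP : g⁻¹ * yT * g ∈ (P₀ : Subgroup T) := by
    rw [← hg, Sylow.smul_def, Sylow.pointwise_smul_def,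
      Subgroup.mem_pointwise_smul_iff_inv_smul_mem] at hyQ
    have hconj : (MulAut.conj g)⁻¹ • yT = g⁻¹ * yT * g := by
      rw [← map_inv, MulAut.smul_def, MulAut.conj_apply, inv_inv]
    rw [hconj] at hyQ
    exact hyQ
  have : Nontrivial P₀ := by
    refine ⟨⟨⟨y₀T, hy₀P⟩, 1, ?_⟩⟩
    intro h
    apply hne
    have h' := congrArg (fun z : P₀ => ((z : T) : GL ι F)) h
    simp only [Subgroup.coe_one] at h'
    rw [← hy₀T]
    exact h'
  obtain ⟨x, hxc, hx5⟩ := s6002l3_central P₀.isPGroup'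
  obtain ⟨y₁, hy₁⟩ : ∃ y₁ : GL ι F, y₁ = ((x : T) : GL ι F) := ⟨_, rfl⟩
  have hord : orderOf y₁ = 5 := by
    rw [hy₁, Subgroup.orderOf_coe, Subgroup.orderOf_coe, hx5]
  have hy₁5 : y₁ ^ 5 = 1 := by
    rw [← hord]
    exact pow_orderOf_eq_one y₁
  have hy₁ne : y₁ ≠ 1 := by
    intro h
    rw [← orderOf_eq_one_iff, hord] at h
    norm_num at h
  -- `y₁` commutes with the elements of `P₀`
  have hcomm : ∀ q : T, q ∈ (P₀ : Subgroup T) → y₁ * (q : GL ι F) = (q : GL ι F) * y₁ := by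
    intro q hq
    have h := hxc ⟨q, hq⟩
    have h' := congrArg (fun z : P₀ => ((z : T) : GL ι F)) h
    simp only [Subgroup.coe_mul] at h'
    rw [hy₁]
    exact h'.symm
  have hw5 : (g⁻¹ * yT * g : T) ^ 5 = 1 := by
    rw [show g⁻¹ * yT * g = g⁻¹ * yT * g⁻¹⁻¹ by rw [inv_inv], conj_pow, h1T, mul_one,
      mul_inv_cancel]
  have hw5' : (((g⁻¹ * yT * g : T) : GL ι F)) ^ 5 = 1 := by
    rw [← Subgroup.coe_pow, hw5, Subgroup.coe_one]
  have hm0 : y₀ ∈ Subgroup.zpowers y₁ := by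
    have := ord5_pow hι hirr y₁ (y₀T : GL ι F) (hcomm y₀T hy₀P) hy₁5
      (by rw [hy₀T]; exact h2) hy₁ne
    rwa [hy₀T] at this
  have hmw : ((g⁻¹ * yT * g : T) : GL ι F) ∈ Subgroup.zpowers y₁ :=
    ord5_pow hι hirr y₁ _ (hcomm _ hwP) hy₁5 hw5' hy₁ne
  obtain ⟨a, ha⟩ := Subgroup.mem_zpowers_iff.mp hm0
  obtain ⟨b, hb⟩ := Subgroup.mem_zpowers_iff.mp hmw
  have hc : y₀ * ((g⁻¹ * yT * g : T) : GL ι F) = ((g⁻¹ * yT * g : T) : GL ι F) * y₀ := by
    rw [← ha, ← hb]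
    exact (Commute.zpow_zpow_self y₁ a b).eq
  have hfin := ord5_pow hι hirr y₀ _ hc h2 hw5' hne
  refine ⟨(g : GL ι F), g.2, ?_⟩
  have hcoe : ((g⁻¹ * yT * g : T) : GL ι F) = (g : GL ι F)⁻¹ * y * (g : GL ι F) := by
    rw [Subgroup.coe_mul, Subgroup.coe_mul, Subgroup.coe_inv, hyT]
  rw [← hcoe]
  exact hfin

end Cfsg.Agent.Lib.Helper22.S6002
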