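import Mathlib
import Cfsg.Prelude.Def_Classical
import Cfsg.Agent.Lib.Helper19.SO8.Defs

set_option autoImplicit false

/-!
# Project SO8 (designer helper19), row ASM (helper23): the core.  Every `N ∈ T8 q` is `OReal F 4 (-1) N`, from the statements of
SUM and of the piece rows (as hypotheses).
-/

namespace Cfsg.Agent.Lib.Helper19.SO8

open Polynomial Cfsg.Agent.Lib.Helper13.OTS

theorem so8asm_cast {F : Type*} [Field F] [Fintype F] {d d' : ℕ} {s s' : ℤ} {N N' : ℕ}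
    (h : OReal F d s N) (hd : d = d') (hs : s = s') (hN : N = N') : OReal F d' s' N' := by
  subst hd hs hN
  exact h

theorem so8asm_cop (a b : ℕ) (u v : ℤ) (h : u * (a : ℤ) + v * (b : ℤ) = 1) : Nat.Coprime a b :=
  Nat.isCoprime_iff_coprime.mp ⟨u, v, h⟩

/-- the coprimality facts for `q = 2 t`, `t ≥ 1` -/
theorem so8asm_arith (t : ℕ) (ht : 1 ≤ t) :
    Nat.Coprime ((2 * t) ^ 2 - 1) ((2 * t) ^ 2 + 1) ∧
    Nat.Coprime ((2 * t) ^ 3 - 1) (2 * t + 1) ∧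
    Nat.Coprime ((2 * t) ^ 3 + 1) (2 * t - 1) ∧
    Nat.Coprime 2 ((2 * t) ^ 3 - 1) ∧
    Nat.Coprime 2 ((2 * t) ^ 3 + 1) ∧
    Nat.Coprime ((2 * t) ^ 2 + 1) (2 * t - 1) ∧
    Nat.Coprime 2 (((2 * t) ^ 2 + 1) * (2 * t - 1)) ∧
    Nat.Coprime ((2 * t) ^ 2 + 1) (2 * t + 1) ∧
    Nat.Coprime 2 (((2 * t) ^ 2 + 1) * (2 * t + 1)) ∧
    Nat.Coprime 4 ((2 * t) ^ 2 + 1) ∧
    Nat.Coprime (2 * t - 1) (2 * t + 1) ∧
    Nat.Coprime 4 ((2 * t) ^ 2 - 1) ∧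
    Nat.Coprime 8 (2 * t - 1) ∧
    Nat.Coprime 8 (2 * t + 1) := by
  have h1 : 1 ≤ 2 * t := by omega
  have h2 : 1 ≤ (2 * t) ^ 2 := Nat.one_le_pow _ _ (by omega)
  have h3 : 1 ≤ (2 * t) ^ 3 := Nat.one_le_pow _ _ (by omega)
  have c1 : ((2 * t - 1 : ℕ) : ℤ) = 2 * (t : ℤ) - 1 := by
    rw [Nat.cast_sub h1]; push_cast; ring
  have c2 : (((2 * t) ^ 2 - 1 : ℕ) : ℤ) = (2 * (t : ℤ)) ^ 2 - 1 := by
    rw [Nat.cast_sub h2]; push_cast; ring
  have c3 : (((2 * t) ^ 3 - 1 : ℕ) : ℤ) = (2 * (t : ℤ)) ^ 3 - 1 := by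
    rw [Nat.cast_sub h3]; push_cast; ring
  have e2m : Nat.Coprime 2 (2 * t - 1) := by
    apply so8asm_cop _ _ (t : ℤ) (-1)
    rw [c1]; push_cast; ring
  have e2p : Nat.Coprime 2 (2 * t + 1) := by
    apply so8asm_cop _ _ (-(t : ℤ)) 1
    push_cast; ring
  have e2q2 : Nat.Coprime 2 ((2 * t) ^ 2 + 1) := by
    apply so8asm_cop _ _ (-(2 * (t : ℤ) ^ 2)) 1
    push_cast; ring
  have eA : Nat.Coprime ((2 * t) ^ 2 + 1) (2 * t - 1) := by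
    apply so8asm_cop _ _ (t : ℤ) (-(t : ℤ) * (2 * t + 1) - 1)
    rw [c1]; push_cast; ring
  have eB : Nat.Coprime ((2 * t) ^ 2 + 1) (2 * t + 1) := by
    apply so8asm_cop _ _ (-(t : ℤ)) (1 + (t : ℤ) * (2 * t - 1))
    push_cast; ring
  refine ⟨?_, ?_, ?_, ?_, ?_, eA, ?_, eB, ?_, ?_, ?_, ?_, ?_, ?_⟩
  · apply so8asm_cop _ _ (2 * (t : ℤ) ^ 2) (1 - 2 * (t : ℤ) ^ 2)
    rw [c2]; push_cast; ring
  · apply so8asm_cop _ _ (t : ℤ) (1 - (t : ℤ) * ((2 * t) ^ 2 - 2 * t + 1))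
    rw [c3]; push_cast; ring
  · apply so8asm_cop _ _ (t : ℤ) (-(t : ℤ) * ((2 * t) ^ 2 + 2 * t + 1) - 1)
    rw [c1]; push_cast; ring
  · apply so8asm_cop _ _ (4 * (t : ℤ) ^ 3) (-1)
    rw [c3]; push_cast; ring
  · apply so8asm_cop _ _ (-(4 * (t : ℤ) ^ 3)) 1
    push_cast; ring
  · exact Nat.Coprime.mul_right e2q2 e2m
  · exact Nat.Coprime.mul_right e2q2 e2p
  · apply so8asm_cop _ _ (-((t : ℤ) ^ 2)) 1
    push_cast; ring
  · apply so8asm_cop _ _ (t : ℤ) (1 - (t : ℤ))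
    rw [c1]; push_cast; ring
  · apply so8asm_cop _ _ ((t : ℤ) ^ 2) (-1)
    rw [c2]; push_cast; ring
  · have : Nat.Coprime (2 ^ 3) (2 * t - 1) := Nat.Coprime.pow_left 3 e2m
    simpa using this
  · have : Nat.Coprime (2 ^ 3) (2 * t + 1) := Nat.Coprime.pow_left 3 e2p
    simpa using this

theorem so8asm_even_card {F : Type*} [Field F] [Fintype F] [CharP F 2] :
    ∃ t : ℕ, 1 ≤ t ∧ Fintype.card F = 2 * t := by
  have h := FiniteField.even_card_of_char_two (F := F) (ringChar.eq F 2)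
  have h1 : 1 < Fintype.card F := Fintype.one_lt_card
  exact ⟨Fintype.card F / 2, by omega, by omega⟩

/-- ASM, with the statements of SUM and of the pieces as hypotheses -/
theorem so8asm_core {F : Type*} [Field F] [Fintype F] [CharP F 2]
    (hsum : ∀ (d₁ d₂ : ℕ), 1 ≤ d₁ → ∀ (s₁ s₂ : ℤ) (N₁ N₂ : ℕ), OReal F d₁ s₁ N₁ → OReal F d₂ s₂ N₂ →
      OReal F (d₁ + d₂) (s₁ * s₂) (Nat.lcm N₁ N₂))
    (hsp : ∀ k : ℕ, 1 ≤ k → OReal F k 1 (Fintype.card F ^ k - 1))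
    (hsm : ∀ n : ℕ, 1 ≤ n → OReal F n (-1) (Fintype.card F ^ n + 1))
    (hip : OReal F 1 1 2) (him : OReal F 1 (-1) 2) (hu4 : OReal F 2 1 4)
    (hu8m : OReal F 3 (-1) 8) (hu8p : OReal F 3 1 8) :
    ∀ N ∈ T8 (Fintype.card F), OReal F 4 (-1) N := by
  obtain ⟨t, ht, hq⟩ := so8asm_even_card (F := F)
  rw [hq] at hsp hsm ⊢
  obtain ⟨a1, a2, a3, a4, a5, a6, a7, a8, a9, a10, a11, a12, a13, a14⟩ := so8asm_arith t ht
  have hsp1 : OReal F 1 1 (2 * t - 1) := by simpa using hsp 1 le_rfl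
  have hsm1 : OReal F 1 (-1) (2 * t + 1) := by simpa using hsm 1 le_rfl
  have g1 : 1 ≤ 2 * t := by omega
  have g2 : 1 ≤ (2 * t) ^ 2 := Nat.one_le_pow _ _ (by omega)
  have g4 : 1 ≤ (2 * t) ^ 4 := Nat.one_le_pow _ _ (by omega)
  have i2 : (2 * t - 1) * (2 * t + 1) = (2 * t) ^ 2 - 1 := by
    zify [g1, g2]; ring
  have i4 : ((2 * t) ^ 2 - 1) * ((2 * t) ^ 2 + 1) = (2 * t) ^ 4 - 1 := by
    zify [g2, g4]; ring
  intro N hN
  unfold T8 at hN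
  simp only [List.mem_cons, List.not_mem_nil, or_false] at hN
  rcases hN with rfl | rfl | rfl | rfl | rfl | rfl | rfl | rfl | rfl | rfl | rfl | rfl
  · exact hsm 4 (by norm_num)
  · exact so8asm_cast (hsum 2 2 (by norm_num) 1 (-1) _ _ (hsp 2 (by norm_num)) (hsm 2 (by norm_num)))
      (by norm_num) (by norm_num) (by rw [a1.lcm_eq_mul, i4])
  · exact so8asm_cast (hsum 3 1 (by norm_num) 1 (-1) _ _ (hsp 3 (by norm_num)) hsm1)
      (by norm_num) (by norm_num) a2.lcm_eq_mul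
  · exact so8asm_cast (hsum 3 1 (by norm_num) (-1) 1 _ _ (hsm 3 (by norm_num)) hsp1)
      (by norm_num) (by norm_num) a3.lcm_eq_mul
  · exact so8asm_cast (hsum 1 3 (by norm_num) (-1) 1 _ _ him (hsp 3 (by norm_num)))
      (by norm_num) (by norm_num) a4.lcm_eq_mul
  · exact so8asm_cast (hsum 1 3 (by norm_num) 1 (-1) _ _ hip (hsm 3 (by norm_num)))
      (by norm_num) (by norm_num) a5.lcm_eq_mul
  · have h21 := so8asm_cast (hsum 2 1 (by norm_num) (-1) 1 _ _ (hsm 2 (by norm_num)) hsp1)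
      (rfl : 2 + 1 = 3) (by norm_num : (-1 : ℤ) * 1 = -1) a6.lcm_eq_mul
    exact so8asm_cast (hsum 1 3 (by norm_num) 1 (-1) _ _ hip h21)
      (by norm_num) (by norm_num) a7.lcm_eq_mul
  · have h21 := so8asm_cast (hsum 2 1 (by norm_num) (-1) (-1) _ _ (hsm 2 (by norm_num)) hsm1)
      (rfl : 2 + 1 = 3) (by norm_num : (-1 : ℤ) * (-1) = 1) a8.lcm_eq_mul
    exact so8asm_cast (hsum 1 3 (by norm_num) (-1) 1 _ _ him h21)
      (by norm_num) (by norm_num) a9.lcm_eq_mul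
  · exact so8asm_cast (hsum 2 2 (by norm_num) 1 (-1) _ _ hu4 (hsm 2 (by norm_num)))
      (by norm_num) (by norm_num) a10.lcm_eq_mul
  · have h11 := so8asm_cast (hsum 1 1 (by norm_num) 1 (-1) _ _ hsp1 hsm1)
      (rfl : 1 + 1 = 2) (by norm_num : (1 : ℤ) * (-1) = -1) (by rw [a11.lcm_eq_mul, i2])
    exact so8asm_cast (hsum 2 2 (by norm_num) 1 (-1) _ _ hu4 h11)
      (by norm_num) (by norm_num) a12.lcm_eq_mul
  · exact so8asm_cast (hsum 3 1 (by norm_num) (-1) 1 _ _ hu8m hsp1)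
      (by norm_num) (by norm_num) a13.lcm_eq_mul
  · exact so8asm_cast (hsum 3 1 (by norm_num) 1 (-1) _ _ hu8p hsm1)
      (by norm_num) (by norm_num) a14.lcm_eq_mul

end Cfsg.Agent.Lib.Helper19.SO8
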