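import Mathlib
import Cfsg.Prelude.Def_Classical
import Cfsg.Agent.Lib.Helper19.SO8.Defs
import Cfsg.Agent.Lib.helper4.OTSSTDP

set_option autoImplicit false

/-!
# Project SO8 (designer helper19), row U8P (helper23): a regular unipotent isometry of order `8` of `quadFormPlus 3 F`, `char F = 2`.
-/

namespace Cfsg.Agent.Lib.Helper19.SO8

open Polynomial Matrix Cfsg.Agent.Lib.Helper13.OTS

/-- the matrix of `(x₁,x₂,x₃,y₁,y₂,y₃) ↦ (x₁+x₂+y₃, x₂+y₃, y₃, y₁, y₁+y₂, x₃+y₂)` over `ZMod 2` -/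
def so8u8p_M0 : Matrix (Fin 3 ⊕ Fin 3) (Fin 3 ⊕ Fin 3) (ZMod 2) :=
  Matrix.of fun i j =>
    match i, j with
    | Sum.inl 0, Sum.inl 0 => 1
    | Sum.inl 0, Sum.inl 1 => 1
    | Sum.inl 0, Sum.inr 2 => 1
    | Sum.inl 1, Sum.inl 1 => 1
    | Sum.inl 1, Sum.inr 2 => 1
    | Sum.inl 2, Sum.inr 2 => 1
    | Sum.inr 0, Sum.inr 0 => 1
    | Sum.inr 1, Sum.inr 0 => 1
    | Sum.inr 1, Sum.inr 1 => 1
    | Sum.inr 2, Sum.inl 2 => 1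
    | Sum.inr 2, Sum.inr 1 => 1
    | _, _ => 0

theorem so8u8p_M0_pow8 : so8u8p_M0 ^ 8 = 1 := by decide +kernel

theorem so8u8p_M0_pow4 : so8u8p_M0 ^ 4 ≠ 1 := by decide +kernel

/-- the same matrix over a field of characteristic `2` -/
noncomputable def so8u8p_M (F : Type*) [Field F] [CharP F 2] :
    Matrix (Fin 3 ⊕ Fin 3) (Fin 3 ⊕ Fin 3) F :=
  (ZMod.castHom (dvd_refl 2) F).mapMatrix so8u8p_M0

theorem so8u8p_M_pow8 (F : Type*) [Field F] [CharP F 2] : so8u8p_M F ^ 8 = 1 := by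
  unfold so8u8p_M
  rw [← map_pow, so8u8p_M0_pow8, map_one]

theorem so8u8p_M_pow4 (F : Type*) [Field F] [CharP F 2] : so8u8p_M F ^ 4 ≠ 1 := by
  unfold so8u8p_M
  rw [← map_pow]
  intro h
  apply so8u8p_M0_pow4
  have hinj : Function.Injective ((ZMod.castHom (dvd_refl 2) F).mapMatrix :
      Matrix (Fin 3 ⊕ Fin 3) (Fin 3 ⊕ Fin 3) (ZMod 2) → Matrix (Fin 3 ⊕ Fin 3) (Fin 3 ⊕ Fin 3) F) := by
    intro A B hAB
    ext i j
    have := congrFun (congrFun hAB i) j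
    simp only [RingHom.mapMatrix_apply, Matrix.map_apply] at this
    exact (ZMod.castHom (dvd_refl 2) F).injective this
  apply hinj
  rw [h, map_one]

theorem so8u8p_mulVec (F : Type*) [Field F] [CharP F 2] (v : Fin 3 ⊕ Fin 3 → F) :
    (so8u8p_M F *ᵥ v) (Sum.inl 0) = v (Sum.inl 0) + v (Sum.inl 1) + v (Sum.inr 2) ∧
    (so8u8p_M F *ᵥ v) (Sum.inl 1) = v (Sum.inl 1) + v (Sum.inr 2) ∧
    (so8u8p_M F *ᵥ v) (Sum.inl 2) = v (Sum.inr 2) ∧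
    (so8u8p_M F *ᵥ v) (Sum.inr 0) = v (Sum.inr 0) ∧
    (so8u8p_M F *ᵥ v) (Sum.inr 1) = v (Sum.inr 0) + v (Sum.inr 1) ∧
    (so8u8p_M F *ᵥ v) (Sum.inr 2) = v (Sum.inl 2) + v (Sum.inr 1) := by
  refine ⟨?_, ?_, ?_, ?_, ?_, ?_⟩ <;>
  simp [so8u8p_M, so8u8p_M0, Matrix.mulVec, dotProduct, Fintype.sum_sum_type, Fin.sum_univ_three,
    RingHom.mapMatrix_apply, Matrix.map_apply]

theorem so8u8p_isom (F : Type*) [Field F] [CharP F 2] (v : Fin 3 ⊕ Fin 3 → F) :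
    Cfsg.quadFormPlus 3 F (so8u8p_M F *ᵥ v) = Cfsg.quadFormPlus 3 F v := by
  obtain ⟨h0, h1, h2, h3, h4, h5⟩ := so8u8p_mulVec F v
  have h2F : (2 : F) = 0 := CharTwo.two_eq_zero
  unfold Cfsg.quadFormPlus
  rw [Fin.sum_univ_three, Fin.sum_univ_three, h0, h1, h2, h3, h4, h5]
  linear_combination (v (Sum.inl 1) * v (Sum.inr 0) + v (Sum.inr 2) * v (Sum.inr 0) +
    v (Sum.inr 2) * v (Sum.inr 1)) * h2F

/-- U8P -/
theorem oreal_u8p {F : Type*} [Field F] [Fintype F] [CharP F 2] : OReal F 3 1 8 := by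
  classical
  refine ⟨Fin 3 ⊕ Fin 3, inferInstance, inferInstance, Cfsg.Agent.Lib.Helper16.qfPlus 3 F,
    q_std_plus 3, ?_⟩
  let u : GL (Fin 3 ⊕ Fin 3) F := Units.ofPowEqOne (so8u8p_M F) 8 (so8u8p_M_pow8 F) (by norm_num)
  have hu : (u : Matrix (Fin 3 ⊕ Fin 3) (Fin 3 ⊕ Fin 3) F) = so8u8p_M F := rfl
  have hmem : u ∈ Cfsg.isometryGroup F (⇑(Cfsg.Agent.Lib.Helper16.qfPlus 3 F)) := by
    intro a _
    rw [Cfsg.Agent.Lib.Helper16.qfPlus_coe]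
    exact so8u8p_isom F a
  refine ⟨⟨u, hmem⟩, ?_⟩
  have : Fact (Nat.Prime 2) := ⟨Nat.prime_two⟩
  have h8 : (⟨u, hmem⟩ : ↥(Cfsg.isometryGroup F (⇑(Cfsg.Agent.Lib.Helper16.qfPlus 3 F)))) ^ 2 ^ (2 + 1) = 1 := by
    apply Subtype.ext
    apply Units.ext
    simp only [Subgroup.coe_pow, Units.val_pow_eq_pow_val, Subgroup.coe_one, Units.val_one, hu]
    exact so8u8p_M_pow8 F
  have h4 : ¬ (⟨u, hmem⟩ : ↥(Cfsg.isometryGroup F (⇑(Cfsg.Agent.Lib.Helper16.qfPlus 3 F)))) ^ 2 ^ 2 = 1 := by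
    intro h
    apply so8u8p_M_pow4 F
    have := congrArg (fun g : ↥(Cfsg.isometryGroup F (⇑(Cfsg.Agent.Lib.Helper16.qfPlus 3 F))) =>
      ((g : GL (Fin 3 ⊕ Fin 3) F) : Matrix (Fin 3 ⊕ Fin 3) (Fin 3 ⊕ Fin 3) F)) h
    simp only [Subgroup.coe_pow, Units.val_pow_eq_pow_val, Subgroup.coe_one, Units.val_one, hu] at this
    exact this
  exact orderOf_eq_prime_pow h4 h8

end Cfsg.Agent.Lib.Helper19.SO8
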