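import Mathlib
import Cfsg.Prelude.Def_Classical
import Cfsg.Agent.Lib.Helper19.SO8.Defs
import Cfsg.Agent.Lib.helper23.SO8ASMcore
import Cfsg.Agent.Lib.helper23.SO8U8P
import Cfsg.Agent.Lib.Helper16.SO8SUM
import Cfsg.Agent.Lib.helper15.SO8SPLUS
import Cfsg.Agent.Lib.helper6.SO8SMINUS
import Cfsg.Agent.Lib.helper7.SO8IPLUS
import Cfsg.Agent.Lib.helper7.SO8IMINUS
import Cfsg.Agent.Lib.Helper28.SO8U4
import Cfsg.Agent.Lib.Helper28.SO8U8M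

set_option autoImplicit false

/-!
# Project SO8 (designer helper19), row ASM (helper23): every `N ∈ T8 q` is `OReal F 4 (-1) N`.
-/

namespace Cfsg.Agent.Lib.Helper19.SO8

open Polynomial Cfsg.Agent.Lib.Helper13.OTS

/-- ASM -/
theorem oreal_asm {F : Type*} [Field F] [Fintype F] [CharP F 2] (c : F)
    (hc : ∀ z₁ z₂ : F, z₁ ^ 2 + 1 * z₁ * z₂ + c * z₂ ^ 2 = 0 → z₁ = 0 ∧ z₂ = 0) :
    ∀ N ∈ T8 (Fintype.card F), OReal F 4 (-1) N :=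
  so8asm_core (fun d₁ d₂ hd₁ s₁ s₂ N₁ N₂ h₁ h₂ => oreal_sum d₁ d₂ hd₁ s₁ s₂ N₁ N₂ h₁ h₂)
    (fun k hk => oreal_splus k hk) (fun n hn => oreal_sminus n hn c hc) oreal_iplus
    (oreal_iminus c hc) oreal_u4 (oreal_u8m c hc) oreal_u8p

end Cfsg.Agent.Lib.Helper19.SO8
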