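import Mathlib
import Cfsg.Agent.Lib.helper7.BR.Defs
import Cfsg.Agent.Lib.helper23.BRCONG

/-!
# Project BR, piece CARDY: `|Y| f = p - 1` and the disjointness of `X` and `Y`
-/

set_option autoImplicit false
set_option linter.unusedVariables false
set_option linter.unusedSectionVars false

namespace Cfsg.Agent.Lib.helper7.BR

open Classical
open Cfsg.Agent.Lib.Helper25

universe u

variable {G : Type u} [Group G] [Fintype G] {p : ℕ} [Fact p.Prime]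

/-- CARDY : `|Y| f = p - 1` (sum `∑_{η ∈ Y} ∑_{x ∈ P} η x` in two ways). -/
theorem card_Y_mul (P : Sylow p G) (hP : Nat.card ↥(P : Subgroup G) = p)
    (Y : Finset (Cfsg.IrrCharacter G)) (ε : ℤ) (hε : ε = 1 ∨ ε = -1) (f : ℕ)
    (hsumP : ∀ η ∈ Y, ∑ x : ↥(P : Subgroup G), (η : G → ℂ) (x : G) =
      (η : G → ℂ) 1 - (ε : ℂ) * (f : ℂ))
    (hsumY : ∀ x ∈ (P : Subgroup G), x ≠ 1 → ∑ η ∈ Y, (η : G → ℂ) x = -(ε : ℂ)) :
    Y.card * f = p - 1 := by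
  have hp : p.Prime := Fact.out
  -- the function `x ↦ ∑_{η ∈ Y} η x` is constant on `P ∖ 1`
  have h1 := brcong_sum_const (P : Subgroup G) (fun x => ∑ η ∈ Y, (η : G → ℂ) x) (-(ε : ℂ)) hsumY
  rw [hP] at h1
  have h2 : ∑ x : ↥(P : Subgroup G), ∑ η ∈ Y, (η : G → ℂ) (x : G) =
      ∑ η ∈ Y, ((η : G → ℂ) 1 - (ε : ℂ) * (f : ℂ)) := by
    rw [Finset.sum_comm]
    exact Finset.sum_congr rfl hsumP
  rw [h2, Finset.sum_sub_distrib, Finset.sum_const, nsmul_eq_mul] at h1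
  have hε0 : (ε : ℂ) ≠ 0 := by
    rcases hε with h | h <;> rw [h] <;> norm_num
  have h3 : (Y.card : ℂ) * (f : ℂ) = (p : ℂ) - 1 := by
    have : (ε : ℂ) * ((Y.card : ℂ) * (f : ℂ)) = (ε : ℂ) * ((p : ℂ) - 1) := by
      linear_combination -h1
    exact mul_left_cancel₀ hε0 this
  have h4 : ((Y.card * f : ℕ) : ℂ) = ((p - 1 : ℕ) : ℂ) := by
    rw [Nat.cast_sub hp.one_le]
    push_cast
    exact h3
  exact_mod_cast h4

/-- DISJ : a function with constant value `a = ±1` on `P ∖ 1` cannot satisfy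
`∑_{x ∈ P} χ x = χ 1 - ε f` with `f + 1 < p` (it would force `(p - 1) a = - ε f`). -/
theorem not_const_of_sum (P : Sylow p G) (hP : Nat.card ↥(P : Subgroup G) = p)
    (χ : G → ℂ) (a : ℤ) (ha : a = 1 ∨ a = -1)
    (hval : ∀ x ∈ (P : Subgroup G), x ≠ 1 → χ x = (a : ℂ)) (ε : ℤ) (hε : ε = 1 ∨ ε = -1)
    (f : ℕ) (hf : f + 1 < p)
    (hsumP : ∑ x : ↥(P : Subgroup G), χ (x : G) = χ 1 - (ε : ℂ) * (f : ℂ)) : False := by
  have h1 := brcong_sum_const (P : Subgroup G) χ (a : ℂ) hval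
  rw [hP, hsumP] at h1
  have h2 : ((((p : ℤ) - 1) * a : ℤ) : ℂ) = ((-(ε * (f : ℤ)) : ℤ) : ℂ) := by
    push_cast
    linear_combination -h1
  have h3 : ((p : ℤ) - 1) * a = -(ε * (f : ℤ)) := by exact_mod_cast h2
  have hf' : (f : ℤ) + 1 < (p : ℤ) := by exact_mod_cast hf
  have hf0 : (0 : ℤ) ≤ (f : ℤ) := Int.natCast_nonneg f
  rcases ha with rfl | rfl <;> rcases hε with rfl | rfl <;> omega

end Cfsg.Agent.Lib.helper7.BR
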