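import Mathlib

set_option autoImplicit false

namespace Cfsg.Agent.Lib.helper23

open scoped commutatorElement

universe u

/-- central factors do not change commutators -/
theorem uce_comm_central {E : Type*} [Group E] (a b z w : E) (hz : z ∈ Subgroup.center E)
    (hw : w ∈ Subgroup.center E) : ⁅a * z, b * w⁆ = ⁅a, b⁆ := by
  have h1 : z * (b * w) = (b * w) * z := ((Subgroup.mem_center_iff.mp hz) (b * w)).symm
  have h2 : w * a⁻¹ = a⁻¹ * w := ((Subgroup.mem_center_iff.mp hw) a⁻¹).symm
  calc ⁅a * z, b * w⁆ = a * (z * (b * w)) * z⁻¹ * a⁻¹ * w⁻¹ * b⁻¹ := by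
        rw [commutatorElement_def]; group
    _ = a * ((b * w) * z) * z⁻¹ * a⁻¹ * w⁻¹ * b⁻¹ := by rw [h1]
    _ = a * b * (w * a⁻¹) * w⁻¹ * b⁻¹ := by group
    _ = a * b * (a⁻¹ * w) * w⁻¹ * b⁻¹ := by rw [h2]
    _ = ⁅a, b⁆ := by rw [commutatorElement_def]; group

/-- a central extension of a finite group has finitely many commutators -/
theorem uce_finite_commutatorSet {E Q : Type*} [Group E] [Group Q] [Finite Q] (ψ : E →* Q)
    (hψ : Function.Surjective ψ) (hker : ψ.ker ≤ Subgroup.center E) :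
    Finite (commutatorSet E) := by
  set s : Q → E := Function.surjInv hψ with hs
  have hsub : commutatorSet E ⊆ Set.range (fun p : Q × Q => ⁅s p.1, s p.2⁆) := by
    rintro _ ⟨e₁, e₂, rfl⟩
    refine ⟨(ψ e₁, ψ e₂), ?_⟩
    have hz : ∀ e : E, (s (ψ e))⁻¹ * e ∈ Subgroup.center E := by
      intro e
      apply hker
      rw [MonoidHom.mem_ker, map_mul, map_inv, hs, Function.surjInv_eq hψ, inv_mul_cancel]
    have h1 := uce_comm_central (s (ψ e₁)) (s (ψ e₂)) _ _ (hz e₁) (hz e₂)
    simp only [mul_inv_cancel_left] at h1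
    exact h1.symm
  exact (Set.Finite.subset (Set.finite_range _) hsub).to_subtype

/-- for a central extension `ψ : E → Q` of a perfect group, `E = E' · ker ψ` -/
theorem uce_exists_comm {E Q : Type*} [Group E] [Group Q] [hQ : Group.IsPerfect Q] (ψ : E →* Q)
    (hψ : Function.Surjective ψ) (e : E) : ∃ g ∈ commutator E, ψ g = ψ e := by
  have h1 : (commutator E).map ψ = commutator Q := by
    rw [commutator_def, Subgroup.map_commutator, ← MonoidHom.range_eq_map,
      MonoidHom.range_eq_top_of_surjective ψ hψ, commutator_def]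
  have h2 : ψ e ∈ (commutator E).map ψ := by
    rw [h1, hQ.commutator_eq_top]; exact Subgroup.mem_top _
  obtain ⟨g, hg, hge⟩ := h2
  exact ⟨g, hg, hge⟩

/-- the commutator subgroup of a central extension of a perfect group is perfect -/
theorem uce_perfect {E Q : Type*} [Group E] [Group Q] [hQ : Group.IsPerfect Q] (ψ : E →* Q)
    (hψ : Function.Surjective ψ) (hker : ψ.ker ≤ Subgroup.center E) :
    Group.IsPerfect (commutator E) := by
  rw [Subgroup.isPerfect_iff]
  apply le_antisymm (Subgroup.commutator_le_left _ _)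
  rw [commutator_eq_closure, Subgroup.closure_le]
  rintro _ ⟨e₁, e₂, rfl⟩
  obtain ⟨g₁, hg₁, h1⟩ := uce_exists_comm ψ hψ e₁
  obtain ⟨g₂, hg₂, h2⟩ := uce_exists_comm ψ hψ e₂
  have hz : ∀ g e : E, ψ g = ψ e → g⁻¹ * e ∈ Subgroup.center E := by
    intro g e h
    apply hker
    rw [MonoidHom.mem_ker, map_mul, map_inv, h, inv_mul_cancel]
  have h3 := uce_comm_central g₁ g₂ _ _ (hz g₁ e₁ h1) (hz g₂ e₂ h2)
  simp only [mul_inv_cancel_left] at h3
  rw [SetLike.mem_coe, h3, ← commutator_eq_closure]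
  exact Subgroup.commutator_mem_commutator hg₁ hg₂

/-- uniqueness of lifts out of a perfect group into a central extension -/
theorem uce_unique {G X Q : Type*} [Group G] [Group X] [Group Q] [hG : Group.IsPerfect G]
    (ξ : X →* Q) (hker : ξ.ker ≤ Subgroup.center X) (η₁ η₂ : G →* X)
    (h : ξ.comp η₁ = ξ.comp η₂) : η₁ = η₂ := by
  have hz : ∀ g : G, (η₂ g)⁻¹ * η₁ g ∈ Subgroup.center X := by
    intro g
    apply hker
    have h1 : ξ (η₁ g) = ξ (η₂ g) := DFunLike.congr_fun h g
    rw [MonoidHom.mem_ker, map_mul, map_inv, h1, inv_mul_cancel]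
  have hle : commutator G ≤ MonoidHom.eqLocus η₁ η₂ := by
    rw [commutator_eq_closure, Subgroup.closure_le]
    rintro _ ⟨a, b, rfl⟩
    show η₁ ⁅a, b⁆ = η₂ ⁅a, b⁆
    rw [map_commutatorElement, map_commutatorElement]
    have h3 := uce_comm_central (η₂ a) (η₂ b) _ _ (hz a) (hz b)
    simp only [mul_inv_cancel_left] at h3
    exact h3
  ext g
  have hg : g ∈ commutator G := by
    rw [hG.commutator_eq_top]; exact Subgroup.mem_top g
  exact hle hg

/-- the relation subgroup of the free presentation of `Q` on all its elements -/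
def uceRel (Q : Type u) [Group Q] : Subgroup (FreeGroup Q) :=
  ⁅(⊤ : Subgroup (FreeGroup Q)), (FreeGroup.lift (id : Q → Q)).ker⁆

instance uceRel_normal (Q : Type u) [Group Q] : (uceRel Q).Normal := by
  unfold uceRel
  infer_instance

theorem uceRel_le_ker (Q : Type u) [Group Q] : uceRel Q ≤ (FreeGroup.lift (id : Q → Q)).ker := by
  unfold uceRel
  exact Subgroup.commutator_le_right _ _

/-- the free central extension `F/[F,R]` of `Q` -/
def uceMap (Q : Type u) [Group Q] : FreeGroup Q ⧸ uceRel Q →* Q :=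
  QuotientGroup.lift (uceRel Q) (FreeGroup.lift (id : Q → Q)) (uceRel_le_ker Q)

theorem uceMap_surjective (Q : Type u) [Group Q] : Function.Surjective (uceMap Q) := by
  intro q
  refine ⟨QuotientGroup.mk' (uceRel Q) (FreeGroup.of q), ?_⟩
  show QuotientGroup.lift (uceRel Q) (FreeGroup.lift (id : Q → Q)) (uceRel_le_ker Q)
    ((FreeGroup.of q : FreeGroup Q) : FreeGroup Q ⧸ uceRel Q) = q
  rw [QuotientGroup.lift_mk, FreeGroup.lift_apply_of]
  rfl

theorem uceMap_ker_le_center (Q : Type u) [Group Q] :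
    (uceMap Q).ker ≤ Subgroup.center (FreeGroup Q ⧸ uceRel Q) := by
  intro e he
  obtain ⟨f, rfl⟩ := QuotientGroup.mk'_surjective (uceRel Q) e
  have hf : f ∈ (FreeGroup.lift (id : Q → Q)).ker := by
    rw [MonoidHom.mem_ker] at he ⊢
    have h1 : uceMap Q (QuotientGroup.mk' (uceRel Q) f) = FreeGroup.lift (id : Q → Q) f :=
      QuotientGroup.lift_mk (uceRel Q) (uceRel_le_ker Q) f
    rw [← h1]; exact he
  rw [Subgroup.mem_center_iff]
  intro e'
  obtain ⟨f', rfl⟩ := QuotientGroup.mk'_surjective (uceRel Q) e'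
  have h2 : ⁅f', f⁆ ∈ uceRel Q :=
    Subgroup.commutator_mem_commutator (Subgroup.mem_top f') hf
  have h3 : QuotientGroup.mk' (uceRel Q) ⁅f', f⁆ = 1 := (QuotientGroup.eq_one_iff _).mpr h2
  rw [map_commutatorElement, commutatorElement_eq_one_iff_mul_comm] at h3
  exact h3

/-- lifting the free central extension to any central extension -/
theorem uce_lift (Q : Type u) [Group Q] {X : Type*} [Group X] (ξ : X →* Q)
    (hξ : Function.Surjective ξ) (hker : ξ.ker ≤ Subgroup.center X) :
    ∃ θ : FreeGroup Q ⧸ uceRel Q →* X, ξ.comp θ = uceMap Q := by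
  set s : Q → X := Function.surjInv hξ with hs
  set θ₀ : FreeGroup Q →* X := FreeGroup.lift s with hθ₀
  have hcomp : ξ.comp θ₀ = FreeGroup.lift (id : Q → Q) := by
    apply FreeGroup.ext_hom
    intro q
    rw [MonoidHom.comp_apply, hθ₀, FreeGroup.lift_apply_of, FreeGroup.lift_apply_of, hs,
      Function.surjInv_eq hξ]
    rfl
  have hle : uceRel Q ≤ θ₀.ker := by
    unfold uceRel
    rw [Subgroup.commutator_le]
    intro f _ r hr
    rw [MonoidHom.mem_ker, map_commutatorElement, commutatorElement_eq_one_iff_mul_comm]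
    have hr' : θ₀ r ∈ Subgroup.center X := by
      apply hker
      rw [MonoidHom.mem_ker] at hr ⊢
      rw [← MonoidHom.comp_apply, hcomp]
      exact hr
    exact (Subgroup.mem_center_iff.mp hr' (θ₀ f))
  refine ⟨QuotientGroup.lift (uceRel Q) θ₀ hle, ?_⟩
  apply QuotientGroup.monoidHom_ext
  apply MonoidHom.ext
  intro f
  simp only [MonoidHom.comp_apply, QuotientGroup.mk'_apply, QuotientGroup.lift_mk]
  have h1 : uceMap Q ((f : FreeGroup Q) : FreeGroup Q ⧸ uceRel Q) = FreeGroup.lift (id : Q → Q) f :=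
    QuotientGroup.lift_mk (uceRel Q) (uceRel_le_ker Q) f
  rw [h1, ← hcomp]
  rfl

/-- **Universal central extension** of a finite perfect group. -/
theorem uce_main {Q : Type u} [Group Q] [Finite Q] (hQ : Group.IsPerfect Q) :
    ∃ (G : Type u) (_ : Group G) (_ : Finite G) (π : G →* Q), Group.IsPerfect G ∧
      Function.Surjective π ∧ π.ker ≤ Subgroup.center G ∧
      ∀ (X : Type u) [Group X] (ξ : X →* Q), Function.Surjective ξ →
        ξ.ker ≤ Subgroup.center X → ∃! η : G →* X, ξ.comp η = π := by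
  have hψs := uceMap_surjective Q
  have hψk := uceMap_ker_le_center Q
  have hfinset : Finite (commutatorSet (FreeGroup Q ⧸ uceRel Q)) :=
    uce_finite_commutatorSet (uceMap Q) hψs hψk
  have hfin : Finite (commutator (FreeGroup Q ⧸ uceRel Q)) := inferInstance
  have hperf : Group.IsPerfect (commutator (FreeGroup Q ⧸ uceRel Q)) :=
    uce_perfect (uceMap Q) hψs hψk
  refine ⟨commutator (FreeGroup Q ⧸ uceRel Q), inferInstance, hfin,
    (uceMap Q).comp (commutator (FreeGroup Q ⧸ uceRel Q)).subtype, hperf, ?_, ?_, ?_⟩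
  · intro q
    obtain ⟨e, rfl⟩ := hψs q
    obtain ⟨g, hg, hge⟩ := uce_exists_comm (uceMap Q) hψs e
    exact ⟨⟨g, hg⟩, hge⟩
  · intro g hg
    rw [Subgroup.mem_center_iff]
    intro g'
    have h1 : (g : FreeGroup Q ⧸ uceRel Q) ∈ (uceMap Q).ker := hg
    have h2 := Subgroup.mem_center_iff.mp (hψk h1) (g' : FreeGroup Q ⧸ uceRel Q)
    exact Subtype.ext h2
  · intro X _ ξ hξ hker
    obtain ⟨θ, hθ⟩ := uce_lift Q ξ hξ hker
    refine ⟨θ.comp (commutator (FreeGroup Q ⧸ uceRel Q)).subtype, ?_, ?_⟩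
    · show ξ.comp (θ.comp _) = _
      rw [← MonoidHom.comp_assoc, hθ]
    · intro η hη
      apply uce_unique ξ hker
      rw [hη, ← MonoidHom.comp_assoc, hθ]

end Cfsg.Agent.Lib.helper23
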