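import Mathlib
import Cfsg.Prelude.Def_KGroupFacts
import Cfsg.Agent.Lib.helper23.UnivCentExt

set_option autoImplicit false

namespace Cfsg.Agent.Lib.helper23

open scoped commutatorElement

universe u v

/-- a stem extension of a perfect group is perfect -/
theorem pcv_perfect_of_stem {Γ G : Type*} [Group Γ] [Group G] [hG : Group.IsPerfect G]
    (σ : Γ →* G) (hσ : Cfsg.IsStemExtension σ) : commutator Γ = ⊤ := by
  rw [eq_top_iff]
  intro γ _
  obtain ⟨c, hc, hcγ⟩ := uce_exists_comm σ hσ.1 γ
  have h1 : c⁻¹ * γ ∈ σ.ker := by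
    rw [MonoidHom.mem_ker, map_mul, map_inv, hcγ, inv_mul_cancel]
  have h2 : γ = c * (c⁻¹ * γ) := by group
  rw [h2]
  exact Subgroup.mul_mem _ hc (hσ.2.2 h1)

/-- an element whose commutators with everything are central centralizes the commutator subgroup;
in a perfect group it is central -/
theorem pcv_central_of_comm_central {Γ : Type*} [Group Γ] (hΓ : commutator Γ = ⊤) (x : Γ)
    (hx : ∀ g : Γ, ⁅g, x⁆ ∈ Subgroup.center Γ) : x ∈ Subgroup.center Γ := by
  have hconj : ∀ a : Γ, ∃ z ∈ Subgroup.center Γ, x * a * x⁻¹ = a * z := by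
    intro a
    refine ⟨⁅a⁻¹, x⁆, hx a⁻¹, ?_⟩
    rw [commutatorElement_def]
    group
  have hcomm : ∀ a b : Γ, x * ⁅a, b⁆ * x⁻¹ = ⁅a, b⁆ := by
    intro a b
    obtain ⟨z, hz, hza⟩ := hconj a
    obtain ⟨w, hw, hwb⟩ := hconj b
    have h1 : x * ⁅a, b⁆ * x⁻¹ = ⁅x * a * x⁻¹, x * b * x⁻¹⁆ := by
      rw [commutatorElement_def, commutatorElement_def]; group
    rw [h1, hza, hwb, uce_comm_central a b z w hz hw]
  have hle : commutator Γ ≤ Subgroup.centralizer ({x} : Set Γ) := by
    rw [commutator_eq_closure, Subgroup.closure_le]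
    rintro _ ⟨a, b, rfl⟩
    rw [SetLike.mem_coe, Subgroup.mem_centralizer_iff]
    intro y hy
    rw [Set.mem_singleton_iff] at hy
    subst hy
    have h2 := hcomm a b
    calc y * ⁅a, b⁆ = (y * ⁅a, b⁆ * y⁻¹) * y := by group
      _ = ⁅a, b⁆ * y := by rw [h2]
  rw [Subgroup.mem_center_iff]
  intro g
  have hg : g ∈ Subgroup.centralizer ({x} : Set Γ) := hle (by rw [hΓ]; exact Subgroup.mem_top g)
  rw [Subgroup.mem_centralizer_iff] at hg
  exact (hg x rfl).symm

/-- a central extension of a perfect central extension is central over the base -/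
theorem pcv_comp_central {Γ G Q : Type*} [Group Γ] [Group G] [Group Q] [hG : Group.IsPerfect G]
    (σ : Γ →* G) (hσ : Cfsg.IsStemExtension σ) (π : G →* Q) (hπ : π.ker ≤ Subgroup.center G) :
    (π.comp σ).ker ≤ Subgroup.center Γ := by
  intro x hx
  apply pcv_central_of_comm_central (pcv_perfect_of_stem σ hσ) x
  intro g
  apply hσ.2.1
  rw [MonoidHom.mem_ker, map_commutatorElement, commutatorElement_eq_one_iff_mul_comm]
  have h1 : σ x ∈ Subgroup.center G := hπ hx
  exact Subgroup.mem_center_iff.mp h1 (σ g)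

/-- a split stem extension of a perfect group is trivial -/
theorem pcv_ker_trivial_of_section {Γ G : Type*} [Group Γ] [Group G] [hG : Group.IsPerfect G]
    (σ : Γ →* G) (hσ : Cfsg.IsStemExtension σ) (η : G →* Γ) (hη : σ.comp η = MonoidHom.id G) :
    ∀ x ∈ σ.ker, x = 1 := by
  have hση : ∀ g : G, σ (η g) = g := fun g => DFunLike.congr_fun hη g
  have hle : commutator Γ ≤ η.range := by
    rw [commutator_eq_closure, Subgroup.closure_le]
    rintro _ ⟨a, b, rfl⟩
    have hz : ∀ a : Γ, (η (σ a))⁻¹ * a ∈ Subgroup.center Γ := by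
      intro a
      apply hσ.2.1
      rw [MonoidHom.mem_ker, map_mul, map_inv, hση, inv_mul_cancel]
    have h3 := uce_comm_central (η (σ a)) (η (σ b)) _ _ (hz a) (hz b)
    simp only [mul_inv_cancel_left] at h3
    rw [SetLike.mem_coe, h3, ← map_commutatorElement]
    exact ⟨_, rfl⟩
  intro x hx
  have hxr : x ∈ η.range := hle (by rw [pcv_perfect_of_stem σ hσ]; exact Subgroup.mem_top x)
  obtain ⟨g, rfl⟩ := hxr
  rw [MonoidHom.mem_ker, hση] at hx
  rw [hx, map_one]

/-- trivial multiplier, unfolded -/
theorem pcv_trivial_mult_iff {G : Type u} [Group G] [Finite G] :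
    Cfsg.HasCyclicSchurMultiplier G 1 ↔
      ∀ (Γ : Type u) [Group Γ] [Finite Γ] (σ : Γ →* G), Cfsg.IsStemExtension σ →
        ∀ x ∈ σ.ker, x = 1 := by
  constructor
  · intro h Γ _ _ σ hσ x hx
    obtain ⟨π', hπ'⟩ := h.2 Γ σ hσ
    obtain ⟨t, ht⟩ := hπ' ⟨x, hx⟩
    have ht1 : t = 1 := Subsingleton.elim _ _
    rw [ht1, map_one] at ht
    exact (congrArg Subtype.val ht).symm
  · intro h
    refine ⟨⟨G, inferInstance, inferInstance, MonoidHom.id G, ⟨Function.surjective_id, ?_, ?_⟩, ?_⟩, ?_⟩
    · intro x hx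
      rw [MonoidHom.mem_ker, MonoidHom.id_apply] at hx
      rw [hx]; exact Subgroup.one_mem _
    · intro x hx
      rw [MonoidHom.mem_ker, MonoidHom.id_apply] at hx
      rw [hx]; exact Subgroup.one_mem _
    · refine ⟨{ toFun := fun _ => 1, invFun := fun _ => 1, left_inv := ?_, right_inv := ?_,
                map_mul' := ?_ }⟩
      · intro x
        have hx := x.2
        rw [MonoidHom.mem_ker, MonoidHom.id_apply] at hx
        exact (Subtype.ext hx).symm
      · intro x
        exact Subsingleton.elim _ _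
      · intro x y
        exact Subsingleton.elim _ _
    · intro Γ _ _ σ hσ
      refine ⟨1, ?_⟩
      intro x
      refine ⟨1, ?_⟩
      rw [map_one]
      exact (Subtype.ext (h Γ σ hσ x.1 x.2)).symm

/-- a perfect cover is universal iff its Schur multiplier is trivial -/
theorem pcv_main {G : Type u} {Q : Type v} [Group G] [Group Q] [Finite G]
    (hG : Group.IsPerfect G) (π : G →* Q) (hπ : Function.Surjective π)
    (hker : π.ker ≤ Subgroup.center G) :
    (∀ (X : Type u) [Group X] (ξ : X →* Q), Function.Surjective ξ → ξ.ker ≤ Subgroup.center X →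
      ∃ η : G →* X, ξ.comp η = π) ↔ Cfsg.HasCyclicSchurMultiplier G 1 := by
  rw [pcv_trivial_mult_iff]
  constructor
  · intro univ Γ _ _ σ hσ
    have hc := pcv_comp_central σ hσ π hker
    obtain ⟨η, hη⟩ := univ Γ (π.comp σ) (hπ.comp hσ.1) hc
    have hid : σ.comp η = MonoidHom.id G := by
      apply uce_unique π hker
      rw [← MonoidHom.comp_assoc, hη, MonoidHom.comp_id]
    exact pcv_ker_trivial_of_section σ hσ η hid
  · intro hmult X _ ξ hξ hξker
    set P : Subgroup (G × X) :=
      (π.comp (MonoidHom.fst G X)).eqLocus (ξ.comp (MonoidHom.snd G X)) with hP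
    set ψ : P →* G := (MonoidHom.fst G X).comp P.subtype with hψ
    have hψs : Function.Surjective ψ := by
      intro g
      obtain ⟨x, hx⟩ := hξ (π g)
      exact ⟨⟨(g, x), by show π g = ξ x; exact hx.symm⟩, rfl⟩
    have hψk : ψ.ker ≤ Subgroup.center P := by
      intro p hp
      rw [Subgroup.mem_center_iff]
      intro p'
      obtain ⟨⟨g, x⟩, hgx⟩ := p
      obtain ⟨⟨g', x'⟩, hgx'⟩ := p'
      have hg1 : g = 1 := hp
      have hgx2 : π g = ξ x := hgx
      have hxk : x ∈ ξ.ker := by
        rw [MonoidHom.mem_ker, ← hgx2, hg1, map_one]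
      have hxc := Subgroup.mem_center_iff.mp (hξker hxk) x'
      apply Subtype.ext
      show (g' * g, x' * x) = (g * g', x * x')
      rw [hg1, mul_one, one_mul, hxc]
    have hfinset : Finite (commutatorSet P) := uce_finite_commutatorSet ψ hψs hψk
    have hfin : Finite (commutator P) := inferInstance
    have hperf : Group.IsPerfect (commutator P) := uce_perfect ψ hψs hψk
    set σ : commutator P →* G := ψ.comp (commutator P).subtype with hσ
    have hσstem : Cfsg.IsStemExtension σ := by
      refine ⟨?_, ?_, ?_⟩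
      · intro g
        obtain ⟨e, rfl⟩ := hψs g
        obtain ⟨c, hc, hce⟩ := uce_exists_comm ψ hψs e
        exact ⟨⟨c, hc⟩, hce⟩
      · intro c hc
        rw [Subgroup.mem_center_iff]
        intro c'
        have h1 : (c : P) ∈ ψ.ker := hc
        have h2 := Subgroup.mem_center_iff.mp (hψk h1) (c' : P)
        exact Subtype.ext h2
      · intro c _
        rw [hperf.commutator_eq_top]
        exact Subgroup.mem_top c
    have hinj : Function.Injective σ := by
      rw [injective_iff_map_eq_one]
      intro c hc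
      exact hmult _ σ hσstem c hc
    let e : commutator P ≃* G := MulEquiv.ofBijective σ ⟨hinj, hσstem.1⟩
    refine ⟨((MonoidHom.snd G X).comp P.subtype).comp
      ((commutator P).subtype.comp e.symm.toMonoidHom), ?_⟩
    ext g
    have h1 : σ (e.symm g) = g := e.apply_symm_apply g
    have h2 : π (((e.symm g : commutator P) : P) : G × X).1 =
        ξ (((e.symm g : commutator P) : P) : G × X).2 := ((e.symm g : commutator P) : P).2
    show ξ (((e.symm g : commutator P) : P) : G × X).2 = π g
    rw [← h2]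
    exact congrArg π h1

end Cfsg.Agent.Lib.helper23
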