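import Mathlib

set_option autoImplicit false

namespace Cfsg.Agent.Lib.helper23

open scoped commutatorElement

/-- splitting off a pure subgroup with finitely generated (hence free) quotient in an abelian
group -/
theorem scv_split {A : Type*} [CommGroup A] [Group.FG A] (T : Subgroup A)
    (hT : ∀ (a : A) (n : ℕ), 0 < n → a ^ n ∈ T → a ∈ T) :
    ∃ S : Subgroup A, S ⊓ T = ⊥ ∧ S ⊔ T = ⊤ := by
  have hsurj : Function.Surjective (QuotientGroup.mk' T) := QuotientGroup.mk'_surjective T
  have hfgB : Group.FG (A ⧸ T) := Group.fg_of_surjective hsurj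
  have hfin : Module.Finite ℤ (Additive (A ⧸ T)) :=
    Module.Finite.iff_addGroup_fg.mpr (GroupFG.iff_add_fg.mp hfgB)
  have htf : Module.IsTorsionFree ℤ (Additive (A ⧸ T)) := by
    apply Module.IsTorsionFree.of_smul_eq_zero
    intro r m hrm
    by_cases hr : r = 0
    · exact Or.inl hr
    right
    obtain ⟨a, ha⟩ := hsurj (Additive.toMul m)
    have h1 : (Additive.toMul m) ^ r = 1 := by
      have := congrArg Additive.toMul hrm
      simpa using this
    have h2 : (Additive.toMul m) ^ r.natAbs = 1 := by
      rcases Int.natAbs_eq r with h | h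
      · rw [h, zpow_natCast] at h1; exact h1
      · rw [h, zpow_neg, zpow_natCast, inv_eq_one] at h1; exact h1
    have h3 : a ^ r.natAbs ∈ T := by
      rw [← QuotientGroup.eq_one_iff, QuotientGroup.mk_pow]
      have : ((a : A ⧸ T)) = Additive.toMul m := ha
      rw [this, h2]
    have h4 := hT a r.natAbs (Int.natAbs_pos.mpr hr) h3
    have h5 : Additive.toMul m = 1 := by
      rw [← ha]
      exact (QuotientGroup.eq_one_iff a).mpr h4
    exact Additive.toMul.injective h5
  have hfree : Module.Free ℤ (Additive (A ⧸ T)) := Module.free_of_finite_type_torsion_free'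
  set f : Additive A →ₗ[ℤ] Additive (A ⧸ T) :=
    (MonoidHom.toAdditive (QuotientGroup.mk' T)).toIntLinearMap with hf
  have hfs : Function.Surjective f := fun b => hsurj b
  obtain ⟨h, hh⟩ := Module.projective_lifting_property f LinearMap.id hfs
  have hfh : ∀ m, f (h m) = m := fun m => by
    have := LinearMap.congr_fun hh m
    simpa using this
  have hfmk : ∀ a : A, Additive.toMul (f (Additive.ofMul a)) = (a : A ⧸ T) := fun a => rfl
  refine ⟨AddSubgroup.toSubgroup' h.toAddMonoidHom.range, ?_, ?_⟩
  · rw [eq_bot_iff]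
    rintro a ⟨⟨m, hm⟩, haT⟩
    rw [Subgroup.mem_bot]
    have hm' : h m = Additive.ofMul a := hm
    have h1 : f (Additive.ofMul a) = 0 := by
      apply Additive.toMul.injective
      rw [hfmk]
      exact (QuotientGroup.eq_one_iff a).mpr haT
    rw [← hm', hfh] at h1
    rw [h1, map_zero] at hm'
    exact (Additive.ofMul.injective hm').symm
  · rw [eq_top_iff]
    intro a _
    set s : A := Additive.toMul (h (f (Additive.ofMul a))) with hs
    have hsS : s ∈ AddSubgroup.toSubgroup' h.toAddMonoidHom.range := ⟨f (Additive.ofMul a), rfl⟩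
    have hst : s⁻¹ * a ∈ T := by
      rw [← QuotientGroup.eq_one_iff, QuotientGroup.mk_mul, QuotientGroup.mk_inv]
      have h1 : ((s : A) : A ⧸ T) = (a : A ⧸ T) := by
        have h2 := hfh (f (Additive.ofMul a))
        have h3 := congrArg Additive.toMul h2
        rw [← hfmk a, ← h3]
        rfl
      rw [h1, inv_mul_cancel]
    have : a = s * (s⁻¹ * a) := by group
    rw [this]
    exact Subgroup.mul_mem _ (Subgroup.mem_sup_left hsS) (Subgroup.mem_sup_right hst)

end Cfsg.Agent.Lib.helper23
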