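import Mathlib
import Cfsg.Prelude.Def_KGroupFacts
import Cfsg.Agent.Lib.helper23.UnivCentExt
import Cfsg.Agent.Lib.helper23.SchurCoverA

set_option autoImplicit false

namespace Cfsg.Agent.Lib.helper23

open scoped commutatorElement

/-- the abelianization of a free group is torsion-free -/
theorem scv_free_ab_torsionfree {ι : Type*} (f : FreeGroup ι) (n : ℕ) (hn : 0 < n)
    (h : f ^ n ∈ commutator (FreeGroup ι)) : f ∈ commutator (FreeGroup ι) := by
  rw [← Abelianization.ker_of, MonoidHom.mem_ker] at h ⊢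
  rw [map_pow] at h
  have key : ∀ z : FreeAbelianGroup ι, n • z = 0 → z = 0 := by
    intro z hz
    have h2 : n • (FreeAbelianGroup.equivFinsupp ι z) = 0 := by
      rw [← map_nsmul, hz, map_zero]
    have h3 : FreeAbelianGroup.equivFinsupp ι z = 0 := by
      rcases smul_eq_zero.mp h2 with h | h
      · omega
      · exact h
    have := congrArg (FreeAbelianGroup.equivFinsupp ι).symm h3
    simpa using this
  have h1 : n • (show FreeAbelianGroup ι from Additive.ofMul (Abelianization.of f)) = 0 := by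
    show (n • (Additive.ofMul (Abelianization.of f)) :
      Additive (Abelianization (FreeGroup ι))) = 0
    rw [← ofMul_pow, h]
    rfl
  have h4 := key _ h1
  exact congrArg Additive.toMul h4

section lift

variable {ι : Type*} {Q Δ : Type*} [Group Q] [Group Δ]

/-- lifting a free presentation of `Q` to a central extension of `Q` -/
theorem scv_lift (φ : FreeGroup ι →* Q) (τ : Δ →* Q) (hτ : Function.Surjective τ)
    (hker : τ.ker ≤ Subgroup.center Δ) :
    ∃ θ : FreeGroup ι →* Δ, τ.comp θ = φ ∧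
      ⁅(⊤ : Subgroup (FreeGroup ι)), φ.ker⁆ ≤ θ.ker := by
  set s : Q → Δ := Function.surjInv hτ with hs
  set θ : FreeGroup ι →* Δ := FreeGroup.lift (fun i => s (φ (FreeGroup.of i))) with hθ
  have hcomp : τ.comp θ = φ := by
    apply FreeGroup.ext_hom
    intro i
    rw [MonoidHom.comp_apply, hθ, FreeGroup.lift_apply_of, hs, Function.surjInv_eq hτ]
  refine ⟨θ, hcomp, ?_⟩
  rw [Subgroup.commutator_le]
  intro f _ r hr
  rw [MonoidHom.mem_ker, map_commutatorElement, commutatorElement_eq_one_iff_mul_comm]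
  have hr' : θ r ∈ Subgroup.center Δ := by
    apply hker
    rw [MonoidHom.mem_ker] at hr ⊢
    rw [← MonoidHom.comp_apply, hcomp]
    exact hr
  exact (Subgroup.mem_center_iff.mp hr' (θ f))

/-- a lift to a stem extension is surjective -/
theorem scv_lift_surjective (φ : FreeGroup ι →* Q) (hφ : Function.Surjective φ) (τ : Δ →* Q)
    (hτ : Cfsg.IsStemExtension τ) (θ : FreeGroup ι →* Δ) (hθ : τ.comp θ = φ) :
    Function.Surjective θ := by
  have hθ' : ∀ f, τ (θ f) = φ f := fun f => DFunLike.congr_fun hθ f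
  -- every element is θ f · z with z in the kernel
  have hdec : ∀ d : Δ, ∃ f : FreeGroup ι, (θ f)⁻¹ * d ∈ τ.ker := by
    intro d
    obtain ⟨f, hf⟩ := hφ (τ d)
    refine ⟨f, ?_⟩
    rw [MonoidHom.mem_ker, map_mul, map_inv, hθ', hf, inv_mul_cancel]
  have hcomm : commutator Δ ≤ θ.range := by
    rw [commutator_eq_closure, Subgroup.closure_le]
    rintro _ ⟨a, b, rfl⟩
    obtain ⟨fa, hfa⟩ := hdec a
    obtain ⟨fb, hfb⟩ := hdec b
    have h3 := uce_comm_central (θ fa) (θ fb) _ _ (hτ.2.1 hfa) (hτ.2.1 hfb)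
    simp only [mul_inv_cancel_left] at h3
    rw [SetLike.mem_coe, h3, ← map_commutatorElement]
    exact ⟨_, rfl⟩
  intro d
  obtain ⟨f, hf⟩ := hdec d
  obtain ⟨f', hf'⟩ := hcomm (hτ.2.2 hf)
  refine ⟨f * f', ?_⟩
  rw [map_mul, hf']
  group

end lift

section cover

variable {ι : Type*} {Q Γ Δ : Type*} [Group Q] [Group Γ] [Group Δ]

/-- **Cover property.** If `Γ = F/S` is a stem extension of `Q = F/R` with `S ∩ F' ≤ [F,R]`, then
the kernel of `Γ → Q` maps onto the kernel of every stem extension of `Q`. -/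
theorem scv_cover (φΓ : FreeGroup ι →* Γ) (hφΓ : Function.Surjective φΓ) (σ : Γ →* Q)
    (hσ : Cfsg.IsStemExtension σ)
    (hS : φΓ.ker ⊓ commutator (FreeGroup ι) ≤ ⁅(⊤ : Subgroup (FreeGroup ι)), (σ.comp φΓ).ker⁆)
    (τ : Δ →* Q) (hτ : Cfsg.IsStemExtension τ) :
    ∃ π : σ.ker →* τ.ker, Function.Surjective π := by
  set φ : FreeGroup ι →* Q := σ.comp φΓ with hφdef
  have hφ : Function.Surjective φ := hσ.1.comp hφΓ
  obtain ⟨θ, hθ, hNθ⟩ := scv_lift φ τ hτ.1 hτ.2.1
  have hθs := scv_lift_surjective φ hφ τ hτ θ hθ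
  have hθ' : ∀ f, τ (θ f) = φ f := fun f => DFunLike.congr_fun hθ f
  set RF : Subgroup (FreeGroup ι) := φ.ker ⊓ commutator (FreeGroup ι) with hRF
  -- the two maps
  let α : RF →* τ.ker := (θ.comp RF.subtype).codRestrict τ.ker (by
    intro x
    rw [MonoidHom.mem_ker, MonoidHom.comp_apply, hθ']
    exact x.2.1)
  let β : RF →* σ.ker := (φΓ.comp RF.subtype).codRestrict σ.ker (by
    intro x
    rw [MonoidHom.mem_ker, MonoidHom.comp_apply]
    exact x.2.1)
  have hβs : Function.Surjective β := by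
    rintro ⟨x, hx⟩
    -- x ∈ ker σ ≤ commutator Γ = φΓ (commutator F)
    have h1 : x ∈ (commutator (FreeGroup ι)).map φΓ := by
      rw [commutator_def, Subgroup.map_commutator, ← MonoidHom.range_eq_map,
        MonoidHom.range_eq_top_of_surjective φΓ hφΓ, ← commutator_def]
      exact hσ.2.2 hx
    obtain ⟨m, hm, hmx⟩ := h1
    have hmR : m ∈ φ.ker := by
      rw [MonoidHom.mem_ker, hφdef, MonoidHom.comp_apply, hmx]
      exact hx
    exact ⟨⟨m, hmR, hm⟩, Subtype.ext hmx⟩
  have hαs : Function.Surjective α := by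
    rintro ⟨y, hy⟩
    have h1 : y ∈ (commutator (FreeGroup ι)).map θ := by
      rw [commutator_def, Subgroup.map_commutator, ← MonoidHom.range_eq_map,
        MonoidHom.range_eq_top_of_surjective θ hθs, ← commutator_def]
      exact hτ.2.2 hy
    obtain ⟨m, hm, hmy⟩ := h1
    have hmR : m ∈ φ.ker := by
      rw [MonoidHom.mem_ker, ← hθ', hmy]
      exact hy
    exact ⟨⟨m, hmR, hm⟩, Subtype.ext hmy⟩
  have hker : β.ker ≤ α.ker := by
    intro x hx
    rw [MonoidHom.mem_ker] at hx ⊢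
    have h1 : φΓ (x : FreeGroup ι) = 1 := congrArg Subtype.val hx
    have h2 : (x : FreeGroup ι) ∈ φΓ.ker ⊓ commutator (FreeGroup ι) := ⟨h1, x.2.2⟩
    have h3 : θ (x : FreeGroup ι) = 1 := hNθ (hS h2)
    exact Subtype.ext h3
  refine ⟨MonoidHom.liftOfSurjective β hβs ⟨α, hker⟩, ?_⟩
  intro y
  obtain ⟨x, rfl⟩ := hαs y
  refine ⟨β x, ?_⟩
  exact MonoidHom.liftOfRightInverse_comp_apply β _ _ ⟨α, hker⟩ x

end cover

end Cfsg.Agent.Lib.helper23
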