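import Mathlib
import Cfsg.Prelude.Def_KGroupFacts
import Cfsg.Agent.Lib.helper23.SchurCoverB

set_option autoImplicit false

namespace Cfsg.Agent.Lib.helper23

open scoped commutatorElement

section exist

variable {ι : Type*} [Finite ι] {Q : Type*} [Group Q]

/-- **Existence of a Schur complement.** Given a free presentation `φ : F → Q` with kernel `R` and
a normal subgroup `R₁` of finite index with `[F,R] ≤ R₁ ≤ R` and `R = (R ∩ F') R₁`, there is a normal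
subgroup `S₁` with `[F,R] ≤ S₁ ≤ R₁`, `S₁ ∩ F' ≤ [F,R]` and `R = (R ∩ F') S₁`. -/
theorem scv_exists (φ : FreeGroup ι →* Q)
    (R₁ : Subgroup (FreeGroup ι)) [hR₁n : R₁.Normal] [R₁.FiniteIndex]
    (hN : ⁅(⊤ : Subgroup (FreeGroup ι)), φ.ker⁆ ≤ R₁) (hR₁ : R₁ ≤ φ.ker)
    (hstem : ∀ r ∈ φ.ker, ∃ m ∈ φ.ker ⊓ commutator (FreeGroup ι), ∃ r₁ ∈ R₁, r = m * r₁) :
    ∃ S₁ : Subgroup (FreeGroup ι), S₁.Normal ∧
      ⁅(⊤ : Subgroup (FreeGroup ι)), φ.ker⁆ ≤ S₁ ∧ S₁ ≤ R₁ ∧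
      S₁ ⊓ commutator (FreeGroup ι) ≤ ⁅(⊤ : Subgroup (FreeGroup ι)), φ.ker⁆ ∧
      ∀ r ∈ φ.ker, ∃ m ∈ φ.ker ⊓ commutator (FreeGroup ι), ∃ s ∈ S₁, r = m * s := by
  set N : Subgroup (FreeGroup ι) := ⁅(⊤ : Subgroup (FreeGroup ι)), φ.ker⁆ with hNdef
  have hNn : N.Normal := by rw [hNdef]; infer_instance
  have hNF' : N ≤ commutator (FreeGroup ι) := by
    rw [hNdef, commutator_def]
    exact Subgroup.commutator_mono le_rfl le_top
  set mk : FreeGroup ι →* FreeGroup ι ⧸ N := QuotientGroup.mk' N with hmk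
  have hmks : Function.Surjective mk := QuotientGroup.mk'_surjective N
  have hmk1 : ∀ x, mk x = 1 ↔ x ∈ N := fun x => QuotientGroup.eq_one_iff x
  set Z₁ : Subgroup (FreeGroup ι ⧸ N) := R₁.map mk with hZ₁
  have hZ₁c : Z₁ ≤ Subgroup.center (FreeGroup ι ⧸ N) := by
    rintro _ ⟨r, hr, rfl⟩
    rw [Subgroup.mem_center_iff]
    intro e
    obtain ⟨f, rfl⟩ := hmks e
    have h2 : ⁅f, r⁆ ∈ N := Subgroup.commutator_mem_commutator (Subgroup.mem_top f) (hR₁ hr)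
    have h3 : mk ⁅f, r⁆ = 1 := (hmk1 _).mpr h2
    rw [map_commutatorElement, commutatorElement_eq_one_iff_mul_comm] at h3
    exact h3
  have hcomE : commutator (FreeGroup ι ⧸ N) = (commutator (FreeGroup ι)).map mk := by
    rw [commutator_def, commutator_def, Subgroup.map_commutator, ← MonoidHom.range_eq_map,
      MonoidHom.range_eq_top_of_surjective mk hmks]
  let instC : CommGroup Z₁ :=
    { (inferInstance : Group Z₁) with
      mul_comm := fun a b => Subtype.ext (Subgroup.mem_center_iff.mp (hZ₁c b.2) a) }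
  have hfgR₁ : Group.FG R₁ := Subgroup.fg_of_index_ne_zero R₁
  have hfg : Group.FG Z₁ :=
    Group.fg_of_surjective (f := mk.subgroupMap R₁) (mk.subgroupMap_surjective R₁)
  set T : Subgroup Z₁ := (commutator (FreeGroup ι ⧸ N)).subgroupOf Z₁ with hT
  have hpure : ∀ (a : Z₁) (n : ℕ), 0 < n → a ^ n ∈ T → a ∈ T := by
    intro a n hn han
    obtain ⟨f, hf, hfa⟩ := a.2
    rw [hT, Subgroup.mem_subgroupOf] at han ⊢
    have han' : (a : FreeGroup ι ⧸ N) ^ n ∈ commutator (FreeGroup ι ⧸ N) := by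
      simpa using han
    rw [hcomE] at han' ⊢
    obtain ⟨c, hc, hcn⟩ := han'
    rw [← hfa, ← map_pow] at hcn
    have h1 : (f ^ n)⁻¹ * c ∈ N := by
      rw [← hmk1, map_mul, map_inv, hcn, inv_mul_cancel]
    have h2 : f ^ n ∈ commutator (FreeGroup ι) := by
      have h3 : f ^ n = c * ((f ^ n)⁻¹ * c)⁻¹ := by group
      rw [h3]
      exact Subgroup.mul_mem _ hc (Subgroup.inv_mem _ (hNF' h1))
    have h4 := scv_free_ab_torsionfree f n hn h2
    rw [← hfa]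
    exact Subgroup.mem_map_of_mem _ h4
  obtain ⟨Sb, hSbT, hSbsup⟩ := @scv_split Z₁ instC hfg T hpure
  set Sb' : Subgroup (FreeGroup ι ⧸ N) := Sb.map Z₁.subtype with hSb'
  have hSb'Z : Sb' ≤ Z₁ := by
    rintro _ ⟨x, -, rfl⟩
    exact x.2
  have hSb'n : Sb'.Normal := by
    constructor
    intro x hx g
    have hxc := Subgroup.mem_center_iff.mp (hZ₁c (hSb'Z hx)) g
    have h1 : g * x * g⁻¹ = x := by rw [hxc]; group
    rw [h1]; exact hx
  have hmemSb' : ∀ z : Z₁, (z : FreeGroup ι ⧸ N) ∈ Sb' ↔ z ∈ Sb := by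
    intro z
    constructor
    · rintro ⟨x, hx, hxz⟩
      have : x = z := Subtype.ext hxz
      rw [← this]; exact hx
    · intro hz
      exact ⟨z, hz, rfl⟩
  refine ⟨Sb'.comap mk, hSb'n.comap mk, ?_, ?_, ?_, ?_⟩
  · intro n hn
    rw [Subgroup.mem_comap, (hmk1 n).mpr hn]
    exact Subgroup.one_mem _
  · intro x hx
    rw [Subgroup.mem_comap] at hx
    obtain ⟨r, hr, hrx⟩ := hSb'Z hx
    have h1 : r⁻¹ * x ∈ N := by
      rw [← hmk1, map_mul, map_inv, hrx, inv_mul_cancel]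
    have h2 : x = r * (r⁻¹ * x) := by group
    rw [h2]
    exact Subgroup.mul_mem _ hr (hN h1)
  · intro x hx
    obtain ⟨hxS, hxF⟩ := Subgroup.mem_inf.mp hx
    rw [Subgroup.mem_comap] at hxS
    have hxZ : mk x ∈ Z₁ := hSb'Z hxS
    have h1 : (⟨mk x, hxZ⟩ : Z₁) ∈ Sb ⊓ T := by
      refine ⟨(hmemSb' ⟨mk x, hxZ⟩).mp hxS, ?_⟩
      show (⟨mk x, hxZ⟩ : Z₁) ∈ T
      rw [hT, Subgroup.mem_subgroupOf, hcomE]
      exact Subgroup.mem_map_of_mem _ hxF
    rw [hSbT, Subgroup.mem_bot] at h1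
    have h2 : mk x = 1 := congrArg Subtype.val h1
    exact (hmk1 x).mp h2
  · intro r hr
    obtain ⟨m, hm, r₁, hr₁, rfl⟩ := hstem r hr
    have hTn : T.Normal := by
      constructor
      intro x hx g
      have : g * x * g⁻¹ = x := by rw [mul_comm g x]; group
      rw [this]; exact hx
    have hz : (⟨mk r₁, Subgroup.mem_map_of_mem _ hr₁⟩ : Z₁) ∈ Sb ⊔ T := by
      rw [hSbsup]; exact Subgroup.mem_top _
    rw [Subgroup.mem_sup_of_normal_right] at hz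
    obtain ⟨sb, hsb, tb, htb, hst⟩ := hz
    rw [hT, Subgroup.mem_subgroupOf, hcomE] at htb
    obtain ⟨t₂, ht₂, ht₂b⟩ := htb
    have hst' : (sb : FreeGroup ι ⧸ N) * (tb : FreeGroup ι ⧸ N) = mk r₁ := congrArg Subtype.val hst
    -- t₂⁻¹ * r₁ ∈ S₁
    have h1 : mk (t₂⁻¹ * r₁) = (sb : FreeGroup ι ⧸ N) := by
      rw [map_mul, map_inv, ht₂b, ← hst']
      have hc := Subgroup.mem_center_iff.mp (hZ₁c tb.2) (sb : FreeGroup ι ⧸ N)
      rw [hc]; group
    have hS : t₂⁻¹ * r₁ ∈ Sb'.comap mk := by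
      rw [Subgroup.mem_comap, h1]
      exact (hmemSb' sb).mpr hsb
    -- t₂ ∈ R
    have hSR₁ : t₂⁻¹ * r₁ ∈ R₁ := by
      obtain ⟨r', hr', hrx⟩ := hSb'Z ((Subgroup.mem_comap).mp hS)
      have h2 : r'⁻¹ * (t₂⁻¹ * r₁) ∈ N := by
        rw [← hmk1, map_mul, map_inv, hrx, inv_mul_cancel]
      have h3 : t₂⁻¹ * r₁ = r' * (r'⁻¹ * (t₂⁻¹ * r₁)) := by group
      rw [h3]
      exact Subgroup.mul_mem _ hr' (hN h2)
    have ht₂R : t₂ ∈ φ.ker := by
      have h4 : t₂ = r₁ * (t₂⁻¹ * r₁)⁻¹ := by group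
      rw [h4]
      exact Subgroup.mul_mem _ (hR₁ hr₁) (Subgroup.inv_mem _ (hR₁ hSR₁))
    refine ⟨m * t₂, ⟨Subgroup.mul_mem _ hm.1 ht₂R, Subgroup.mul_mem _ hm.2 ht₂⟩,
      t₂⁻¹ * r₁, hS, ?_⟩
    group

end exist

section quot

variable {ι : Type*} {Q : Type*} [Group Q] [Finite Q]

/-- the quotient `F/S₁` by a Schur complement is a finite stem extension of `Q` -/
theorem scv_quot_stem (φ : FreeGroup ι →* Q) (hφ : Function.Surjective φ)
    (S₁ : Subgroup (FreeGroup ι)) [hS₁n : S₁.Normal]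
    (hN : ⁅(⊤ : Subgroup (FreeGroup ι)), φ.ker⁆ ≤ S₁) (hS₁ : S₁ ≤ φ.ker)
    (hdec : ∀ r ∈ φ.ker, ∃ m ∈ φ.ker ⊓ commutator (FreeGroup ι), ∃ s ∈ S₁, r = m * s) :
    Cfsg.IsStemExtension (QuotientGroup.lift S₁ φ hS₁) ∧ Finite (FreeGroup ι ⧸ S₁) := by
  set σ : FreeGroup ι ⧸ S₁ →* Q := QuotientGroup.lift S₁ φ hS₁ with hσ
  have hσmk : ∀ f : FreeGroup ι, σ (QuotientGroup.mk' S₁ f) = φ f :=
    fun f => QuotientGroup.lift_mk S₁ hS₁ f
  have hmks : Function.Surjective (QuotientGroup.mk' S₁) := QuotientGroup.mk'_surjective S₁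
  have hsurj : Function.Surjective σ := by
    intro q
    obtain ⟨f, rfl⟩ := hφ q
    exact ⟨QuotientGroup.mk' S₁ f, hσmk f⟩
  have hcent : σ.ker ≤ Subgroup.center (FreeGroup ι ⧸ S₁) := by
    intro x hx
    obtain ⟨f, rfl⟩ := hmks x
    rw [MonoidHom.mem_ker, hσmk] at hx
    rw [Subgroup.mem_center_iff]
    intro e
    obtain ⟨g, rfl⟩ := hmks e
    have h2 : ⁅g, f⁆ ∈ S₁ :=
      hN (Subgroup.commutator_mem_commutator (Subgroup.mem_top g) hx)
    have h3 : QuotientGroup.mk' S₁ ⁅g, f⁆ = 1 := (QuotientGroup.eq_one_iff _).mpr h2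
    rw [map_commutatorElement, commutatorElement_eq_one_iff_mul_comm] at h3
    exact h3
  have hcomm : σ.ker ≤ commutator (FreeGroup ι ⧸ S₁) := by
    intro x hx
    obtain ⟨f, rfl⟩ := hmks x
    rw [MonoidHom.mem_ker, hσmk] at hx
    obtain ⟨m, hm, s, hs, rfl⟩ := hdec f hx
    have h1 : QuotientGroup.mk' S₁ (m * s) = QuotientGroup.mk' S₁ m := by
      have hs1 : QuotientGroup.mk' S₁ s = 1 := (QuotientGroup.eq_one_iff s).mpr hs
      rw [map_mul, hs1, mul_one]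
    rw [h1]
    have h2 : (commutator (FreeGroup ι)).map (QuotientGroup.mk' S₁) ≤
        commutator (FreeGroup ι ⧸ S₁) := by
      rw [commutator_def, commutator_def, Subgroup.map_commutator]
      exact Subgroup.commutator_mono le_top le_top
    exact h2 (Subgroup.mem_map_of_mem _ hm.2)
  refine ⟨⟨hsurj, hcent, hcomm⟩, ?_⟩
  have hfinset : Finite (commutatorSet (FreeGroup ι ⧸ S₁)) :=
    uce_finite_commutatorSet σ hsurj hcent
  have hfinc : Finite (commutator (FreeGroup ι ⧸ S₁)) := inferInstance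
  have hfink : Finite σ.ker := Finite.of_injective _ (Subgroup.inclusion_injective hcomm)
  have h1 := Subgroup.card_eq_card_quotient_mul_card_subgroup σ.ker
  have h2 : Nat.card ((FreeGroup ι ⧸ S₁) ⧸ σ.ker) = Nat.card Q :=
    Nat.card_congr (QuotientGroup.quotientKerEquivOfSurjective σ hsurj).toEquiv
  have h3 : Nat.card (FreeGroup ι ⧸ S₁) ≠ 0 := by
    rw [h1, h2]
    exact Nat.mul_ne_zero Nat.card_pos.ne' Nat.card_pos.ne'
  exact Nat.finite_of_card_ne_zero h3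

end quot

end Cfsg.Agent.Lib.helper23
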