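import Mathlib
import Cfsg.Prelude.Def_KGroupFacts
import Cfsg.Agent.Lib.helper23.SchurCoverC
import Cfsg.Agent.Lib.helper23.PerfectCover

set_option autoImplicit false

namespace Cfsg.Agent.Lib.helper23

open scoped commutatorElement

universe u v

/-- every finite stem extension is an image of a Schur covering group -/
theorem scv_image_of_cover {Q : Type u} [Group Q] [Finite Q] {A : Type v} [CommGroup A]
    (hA : Cfsg.HasSchurMultiplier Q A) {Δ : Type u} [Group Δ] [Finite Δ] (τ : Δ →* Q)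
    (hτ : Cfsg.IsStemExtension τ) :
    ∃ (Γ : Type u) (_ : Group Γ) (_ : Finite Γ) (σ : Γ →* Q), Cfsg.IsStemExtension σ ∧
      Nonempty (σ.ker ≃* A) ∧ ∃ β : Γ →* Δ, Function.Surjective β ∧ τ.comp β = σ := by
  set φ : FreeGroup Q →* Q := FreeGroup.lift (id : Q → Q) with hφdef
  have hφ : Function.Surjective φ := by
    intro q
    exact ⟨FreeGroup.of q, by rw [hφdef, FreeGroup.lift_apply_of]; rfl⟩
  obtain ⟨θ, hθ, hNθ⟩ := scv_lift φ τ hτ.1 hτ.2.1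
  have hθs := scv_lift_surjective φ hφ τ hτ θ hθ
  have hθ' : ∀ f, τ (θ f) = φ f := fun f => DFunLike.congr_fun hθ f
  have hR₁ : θ.ker ≤ φ.ker := by
    intro x hx
    rw [MonoidHom.mem_ker] at hx ⊢
    rw [← hθ', hx, map_one]
  have hstem : ∀ r ∈ φ.ker, ∃ m ∈ φ.ker ⊓ commutator (FreeGroup Q), ∃ r₁ ∈ θ.ker, r = m * r₁ := by
    intro r hr
    have h0 : θ r ∈ τ.ker := by
      rw [MonoidHom.mem_ker, hθ']; exact hr
    have h1 : θ r ∈ (commutator (FreeGroup Q)).map θ := by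
      rw [commutator_def, Subgroup.map_commutator, ← MonoidHom.range_eq_map,
        MonoidHom.range_eq_top_of_surjective θ hθs, ← commutator_def]
      exact hτ.2.2 h0
    obtain ⟨m, hm, hmr⟩ := h1
    refine ⟨m, ⟨?_, hm⟩, m⁻¹ * r, ?_, by group⟩
    · show m ∈ φ.ker
      rw [MonoidHom.mem_ker, ← hθ', hmr, hθ']; exact hr
    · rw [MonoidHom.mem_ker, map_mul, map_inv, hmr, inv_mul_cancel]
  have hfi : θ.ker.FiniteIndex := Subgroup.finiteIndex_ker θ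
  obtain ⟨S₁, hS₁n, hNS₁, hS₁R₁, hS₁F, hdec⟩ := scv_exists φ θ.ker hNθ hR₁ hstem
  have hS₁R : S₁ ≤ φ.ker := hS₁R₁.trans hR₁
  obtain ⟨hstemσ, hfin⟩ := scv_quot_stem φ hφ S₁ hNS₁ hS₁R hdec
  set σ : FreeGroup Q ⧸ S₁ →* Q := QuotientGroup.lift S₁ φ hS₁R with hσ
  have hσmk : σ.comp (QuotientGroup.mk' S₁) = φ := by
    apply MonoidHom.ext
    intro f
    exact QuotientGroup.lift_mk S₁ hS₁R f
  have hmks : Function.Surjective (QuotientGroup.mk' S₁) := QuotientGroup.mk'_surjective S₁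
  have hS : (QuotientGroup.mk' S₁).ker ⊓ commutator (FreeGroup Q) ≤
      ⁅(⊤ : Subgroup (FreeGroup Q)), (σ.comp (QuotientGroup.mk' S₁)).ker⁆ := by
    rw [hσmk, QuotientGroup.ker_mk']
    exact hS₁F
  -- kernel is isomorphic to A
  obtain ⟨⟨Γ₀, instG₀, instF₀, σ₀, hσ₀, ⟨e₀⟩⟩, hA2⟩ := hA
  obtain ⟨π₂, hπ₂⟩ := scv_cover (QuotientGroup.mk' S₁) hmks σ hstemσ hS σ₀ hσ₀
  obtain ⟨π₁, hπ₁⟩ := hA2 (FreeGroup Q ⧸ S₁) σ hstemσ
  have hfinA : Finite A := Finite.of_equiv _ e₀.toEquiv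
  have hcard : Nat.card A ≤ Nat.card σ.ker := by
    have h1 : Nat.card A = Nat.card σ₀.ker := (Nat.card_congr e₀.toEquiv).symm
    rw [h1]
    exact Nat.card_le_card_of_surjective π₂ hπ₂
  have hbij : Function.Bijective π₁ := hπ₁.bijective_of_nat_card_le hcard
  refine ⟨FreeGroup Q ⧸ S₁, inferInstance, hfin, σ, hstemσ,
    ⟨(MulEquiv.ofBijective π₁ hbij).symm⟩, QuotientGroup.lift S₁ θ hS₁R₁, ?_, ?_⟩
  · intro d
    obtain ⟨f, rfl⟩ := hθs d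
    exact ⟨QuotientGroup.mk' S₁ f, QuotientGroup.lift_mk S₁ hS₁R₁ f⟩
  · apply QuotientGroup.monoidHom_ext
    apply MonoidHom.ext
    intro f
    show τ (QuotientGroup.lift S₁ θ hS₁R₁ (QuotientGroup.mk' S₁ f)) = σ (QuotientGroup.mk' S₁ f)
    have h1 : QuotientGroup.lift S₁ θ hS₁R₁ (QuotientGroup.mk' S₁ f) = θ f :=
      QuotientGroup.lift_mk S₁ hS₁R₁ f
    have h2 : σ (QuotientGroup.mk' S₁ f) = φ f := QuotientGroup.lift_mk S₁ hS₁R f
    rw [h1, h2, hθ']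

/-- a stem extension by a group with trivial multiplier is a Schur cover -/
theorem scv_cover_of_trivial {Q : Type u} [Group Q] [Finite Q] {Γ : Type v} [Group Γ] [Finite Γ]
    (σ : Γ →* Q) (hσ : Cfsg.IsStemExtension σ) (hΓ : Cfsg.HasCyclicSchurMultiplier Γ 1)
    (Δ : Type u) [Group Δ] [Finite Δ] (τ : Δ →* Q) (hτ : Cfsg.IsStemExtension τ) :
    ∃ π : σ.ker →* τ.ker, Function.Surjective π := by
  set φΓ : FreeGroup Γ →* Γ := FreeGroup.lift (id : Γ → Γ) with hφdef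
  have hφΓ : Function.Surjective φΓ := by
    intro q
    exact ⟨FreeGroup.of q, by rw [hφdef, FreeGroup.lift_apply_of]; rfl⟩
  have hfi : φΓ.ker.FiniteIndex := Subgroup.finiteIndex_ker φΓ
  have hN : ⁅(⊤ : Subgroup (FreeGroup Γ)), φΓ.ker⁆ ≤ φΓ.ker := Subgroup.commutator_le_right _ _
  have hstem : ∀ r ∈ φΓ.ker, ∃ m ∈ φΓ.ker ⊓ commutator (FreeGroup Γ), ∃ r₁ ∈ φΓ.ker, r = m * r₁ :=
    fun r hr => ⟨1, Subgroup.one_mem _, r, hr, (one_mul r).symm⟩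
  obtain ⟨S₂, hS₂n, hNS₂, hS₂S, hS₂F, hdec⟩ := scv_exists φΓ φΓ.ker hN le_rfl hstem
  obtain ⟨hstem₂, hfin₂⟩ := scv_quot_stem φΓ hφΓ S₂ hNS₂ hS₂S hdec
  have htriv := (pcv_trivial_mult_iff (G := Γ)).mp hΓ (FreeGroup Γ ⧸ S₂)
    (QuotientGroup.lift S₂ φΓ hS₂S) hstem₂
  have hSS₂ : φΓ.ker ≤ S₂ := by
    intro r hr
    have h1 : QuotientGroup.mk' S₂ r ∈ (QuotientGroup.lift S₂ φΓ hS₂S).ker := by
      rw [MonoidHom.mem_ker]
      have : QuotientGroup.lift S₂ φΓ hS₂S (QuotientGroup.mk' S₂ r) = φΓ r :=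
        QuotientGroup.lift_mk S₂ hS₂S r
      rw [this]; exact hr
    exact (QuotientGroup.eq_one_iff r).mp (htriv _ h1)
  have hS : φΓ.ker ⊓ commutator (FreeGroup Γ) ≤
      ⁅(⊤ : Subgroup (FreeGroup Γ)), (σ.comp φΓ).ker⁆ := by
    refine le_trans (inf_le_inf_right _ hSS₂) (hS₂F.trans ?_)
    apply Subgroup.commutator_mono le_rfl
    intro x hx
    rw [MonoidHom.mem_ker] at hx ⊢
    rw [MonoidHom.comp_apply, hx, map_one]
  exact scv_cover φΓ hφΓ σ hσ hS τ hτ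

end Cfsg.Agent.Lib.helper23
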