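import Mathlib
import Cfsg.Prelude.Def_Classical
import Cfsg.Prelude.Def_KGroupFacts
import Cfsg.Agent.Lib.helper3.SPB.Defs
import Cfsg.Agent.Lib.helper7.CeG

/-!
# Project SPB (designer helper3), row M1 CORE (helper23): `CovB.spbm1_core` = M1 `CovB.mult_trivial` with the conclusion of T8 `CovB.finite`
as hypothesis `hT8 : Finite G` (then `hstb` is not needed).  Port of `Cov.spnm1_core` (`helper4/SPNM1core.lean`).
-/

set_option autoImplicit false

namespace Cfsg.Agent.Lib.helper3.SPB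

open Cfsg.Agent.Lib.helper15.St2 Cfsg.Agent.Lib.helper3.STC Cfsg.Agent.Lib.Lead.STD Cfsg.Agent.Lib.Lead.STB
  Cfsg.Agent.Lib.Lead.SPN Cfsg.Agent.Lib.Helper16 Cfsg.Agent.Lib.Helper12.OMB

universe u v w

/-- M1 core -/
theorem CovB.spbm1_core {l : ℕ} {F : Type u} [Field F] [Fintype F] {G : Type v} [Group G] (C : CovB l F G) (hz : C.zel ≠ 1)
    (hceb : CebSplitAt l F G) (hT8 : Finite G) : Cfsg.HasCyclicSchurMultiplier G 1 := by
  have := hT8
  apply Cfsg.Agent.Lib.helper7.Ce.trivial_mult_of_ker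
  intro Γ _ _ σ hσ
  obtain ⟨s, hs⟩ := hceb C.S C.rep C.gen (Sum.inl C.i0) hz Γ σ hσ.1 hσ.2.1
  exact Cfsg.Agent.Lib.helper7.Ce.ker_eq_bot_of_section hσ s hs

end Cfsg.Agent.Lib.helper3.SPB
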