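import Mathlib
import Cfsg.Agent.Lib.helper15.St2
import Cfsg.Agent.Lib.helper7.StA
import Cfsg.Agent.Lib.helper3.STC.Defs
import Cfsg.Agent.Lib.helper3.STC.Defs2

/-!
# Project STC (designer helper3, S2292), rows H1 + H2 (helper23), VERBATIM:
`h_mul h_inv w_mul_w w_eq_w_one_mul_h lu lu0` (H1), `h_swap h_sym` (H2).

Own-name copies `stch_w_swap` (= B1 `w_swap`), `stch_w_sym` (= B2 `w_sym`), `stch_w_neg`, so that the file
depends on `Defs` only.
-/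

set_option autoImplicit false

namespace Cfsg.Agent.Lib.helper3.STC

open Cfsg.Agent.Lib.helper15.St2 Cfsg.Agent.Lib.helper7.St

namespace SysC

variable {K : Type*} [Field K] {ι : Type*} {G : Type*} [Group G] (S : SysC K ι G)

theorem stch_st_w {a b : ι ⊕ ι} (hab : a ≠ b) (t : K) : (S.st a b hab).w t = S.w a b t := rfl

theorem stch_st_h {a b : ι ⊕ ι} (hab : a ≠ b) (t : K) : (S.st a b hab).h t = S.h a b t := rfl

/-- copy of B1 `w_swap` -/
theorem stch_w_swap {a b : ι ⊕ ι} (hab : a ≠ b) (t : K) (ht : t ≠ 0) :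
    S.w b a t = S.w a b (-t⁻¹) := by
  have h := (S.st a b hab).W_swap false t ht
  exact h

theorem stch_w_neg {a b : ι ⊕ ι} (hab : a ≠ b) (t : K) : S.w a b (-t) = (S.w a b t)⁻¹ :=
  (S.st a b hab).w_neg t

theorem stch_sg_mul_sg (a b : ι ⊕ ι) : (sg a * sg b : K) = 1 ∨ (sg a * sg b : K) = -1 := by
  rcases a with a | a <;> rcases b with b | b <;> simp [sg]

theorem stch_ng_ne {a b : ι ⊕ ι} (hab : a ≠ b) : ng b ≠ ng a := by
  intro h
  apply hab
  have := congrArg Sum.swap h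
  simpa [ng] using this.symm

theorem stch_ng_ng (a : ι ⊕ ι) : ng (ng a) = a := by
  simp [ng]

/-- copy of B2 `w_sym` -/
theorem stch_w_sym {a b : ι ⊕ ι} (hab : a ≠ b) (t : K) :
    S.w a b t = S.w (ng b) (ng a) (-(sg a * sg b * t)) := by
  unfold w
  rw [S.sym a b hab t, S.sym b a hab.symm (-t⁻¹)]
  have e : (-(sg a * sg b * t) : K)⁻¹ = -(sg a * sg b * t⁻¹) := by
    rcases stch_sg_mul_sg (K := K) a b with h | h <;> rw [h] <;> simp [inv_neg]
  have e2 : (-(sg b * sg a * -t⁻¹) : K) = -(-(sg a * sg b * t))⁻¹ := by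
    rw [e]; ring
  rw [e2]

variable [Finite K]

/-- H1 [S] -/
theorem h_mul {a b : ι ⊕ ι} (hab : a ≠ b) (t u : K) (ht : t ≠ 0) (hu : u ≠ 0) :
    S.h a b t * S.h a b u = S.h a b (t * u) :=
  h_mul' (S.st a b hab) t u ht hu

theorem h_inv {a b : ι ⊕ ι} (hab : a ≠ b) (t : K) (ht : t ≠ 0) : (S.h a b t)⁻¹ = S.h a b t⁻¹ :=
  h_inv' (S.st a b hab) t ht

theorem w_mul_w {a b : ι ⊕ ι} (hab : a ≠ b) (c d : K) (hc : c ≠ 0) (hd : d ≠ 0) :
    S.w a b c * S.w a b d = S.h a b (-(c * d⁻¹)) :=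
  w_mul_w'' (S.st a b hab) c d hc hd

theorem w_eq_w_one_mul_h {a b : ι ⊕ ι} (hab : a ≠ b) (u : K) (hu : u ≠ 0) :
    S.w a b u = S.w a b 1 * S.h a b u⁻¹ :=
  Cfsg.Agent.Lib.helper7.St.w_eq_w_one_mul_h (S.st a b hab) u hu

theorem lu {a b : ι ⊕ ι} (hab : a ≠ b) (t u : K) (hd : 1 + t * u ≠ 0) :
    S.x a b t * S.x b a u =
      S.x b a (u / (1 + t * u)) * S.h a b (1 + t * u) * S.x a b (t / (1 + t * u)) :=
  Cfsg.Agent.Lib.helper7.St.lu (S.st a b hab) t u hd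

omit [Finite K] in
theorem lu0 {a b : ι ⊕ ι} (hab : a ≠ b) (t : K) :
    S.x a b t * S.x b a (-t⁻¹) = S.w a b t * S.x a b (-t) :=
  Cfsg.Agent.Lib.helper7.St.lu0 (S.st a b hab) t

/-- H2 [S] -/
theorem h_swap {a b : ι ⊕ ι} (hab : a ≠ b) (u : K) (hu : u ≠ 0) : S.h b a u = S.h a b u⁻¹ := by
  unfold h
  rw [S.stch_w_swap hab u hu, S.stch_w_swap hab (-1) (by simp)]
  have e : -(-1 : K)⁻¹ = 1 := by
    rw [inv_neg, inv_one, neg_neg]
  rw [e, S.w_mul_w hab _ _ (neg_ne_zero.2 (inv_ne_zero hu)) one_ne_zero]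
  show S.h a b _ = S.h a b _
  congr 1
  simp

theorem h_sym {a b : ι ⊕ ι} (hab : a ≠ b) (hab' : a ≠ ng b) (t : K) (ht : t ≠ 0) :
    S.h a b t = S.h (ng b) (ng a) t := by
  have hn : ng b ≠ ng a := stch_ng_ne hab
  show S.w a b t * S.w a b (-1) = S.w (ng b) (ng a) t * S.w (ng b) (ng a) (-1)
  rw [S.stch_w_sym hab t, S.stch_w_sym hab (-1)]
  rcases stch_sg_mul_sg (K := K) a b with h | h
  · -- product of signs `1`: `w(-t) * w(1) = h t`
    rw [h]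
    simp only [one_mul, neg_neg]
    rw [S.w_mul_w hn (-t) 1 (neg_ne_zero.2 ht) one_ne_zero,
      S.w_mul_w hn t (-1) ht (by simp)]
    congr 1
    simp
  · rw [h]
    simp only [neg_mul, one_mul, neg_neg]

end SysC

end Cfsg.Agent.Lib.helper3.STC
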