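import Mathlib
import Cfsg.Agent.Lib.helper15.St2
import Cfsg.Agent.Lib.helper7.StA
import Cfsg.Agent.Lib.helper7.StC
import Cfsg.Agent.Lib.helper7.StE
import Cfsg.Agent.Lib.helper3.STC.Defs
import Cfsg.Agent.Lib.helper3.STC.Defs2
import Cfsg.Agent.Lib.helper3.STC.Defs3
import Cfsg.Agent.Lib.Helper24.STCI1
import Cfsg.Agent.Lib.Helper24.STCB1
import Cfsg.Agent.Lib.helper2.STCX1

/-!
# STC (designer helper3), row F6 (helper23), VERBATIM: splitting an element of the Heisenberg group `Yg o`

`YT_empty`, `YT_le_Yj`, `YT_le_Zg`, `YT_decomp` (the proof of N4 again), `Yg_split` (induction on the number of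
indices outside `T`).
-/

set_option autoImplicit false

namespace Cfsg.Agent.Lib.helper3.STC

open Cfsg.Agent.Lib.helper15.St2 Cfsg.Agent.Lib.helper7.St

namespace SysC

variable {K : Type*} [Field K] {ι : Type*} {G : Type*} [Group G] (S : SysC K ι G)

section F
variable [DecidableEq ι] (o : ι ⊕ ι)

/-- F6 [M]  splitting an element of the Heisenberg group: it is central or has a nonzero coordinate. -/
theorem YT_empty : S.YT o ∅ = S.Yg o := by
  apply le_antisymm
  · exact S.XQ_mono (fun a b _ h => h.1)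
  · exact S.XQ_mono (fun a b _ h => ⟨h, Finset.notMem_empty a⟩)

theorem YT_le_Yj {T : Finset (ι ⊕ ι)} {j : ι ⊕ ι} (hjT : j ∈ T) : S.YT o T ≤ S.Yj o j :=
  S.XQ_mono (fun a b _ h => ⟨h.1, fun haj => h.2 (haj ▸ hjT)⟩)

theorem YT_le_Zg {T : Finset (ι ⊕ ι)} (hT : ∀ a, a ≠ o → a ≠ ng o → a ∈ T) : S.YT o T ≤ S.Zg o := by
  refine S.XQ_mono (fun a b hab h => ⟨h.1, ?_⟩)
  by_contra hne
  exact h.2 (hT a (h.1 ▸ hab) hne)

theorem YT_decomp {T : Finset (ι ⊕ ι)} {j : ι ⊕ ι} (hj : j ≠ o) (hj' : j ≠ ng o) (hT : ng o ∉ T) :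
    ∀ y ∈ S.YT o T, ∃ u : K, ∃ y' ∈ S.YT o (insert j T), y = S.x j o u * y' := by
  have hoo : ng o ≠ o := ng_ne o
  refine closure_left_induction'
    (p := fun y => ∃ u : K, ∃ y' ∈ S.YT o (insert j T), y = S.x j o u * y') (S.XQ_gens_inv _) ?_ ?_
  · exact ⟨0, 1, one_mem _, by rw [S.x_zero, one_mul]⟩
  · rintro _ ⟨a, b, t, hab, ⟨rfl, haT⟩, rfl⟩ g ⟨u, y', hy', rfl⟩
    by_cases haj : a = j
    · subst haj
      exact ⟨t + u, y', hy', by rw [← mul_assoc, S.add a b hab]⟩
    by_cases haj' : a = ng j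
    · -- the commutator is a long root element
      subst haj'
      set t' : K := -(sg (ng j) * sg b * t) with ht'
      have hsym : S.x (ng j) b t = S.x (ng b) j t' := by
        rw [S.sym (ng j) b hab t, ng_ng]
      have hbj : ng b ≠ j := fun h => hj' h.symm
      have hbj' : ng b ≠ ng j := fun h => hj (ng_inj.1 h).symm
      have hssl := S.ssl (ng b) j hbj hbj' t' u
      rw [ng_ng] at hssl
      -- `A * B * A⁻¹ * B⁻¹ = C`, so `A * B = C * B * A`
      have hAB : S.x (ng b) j t' * S.x j b u =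
          S.x (ng b) b (2 * t' * u) * S.x j b u * S.x (ng b) j t' := by
        rw [← hssl]; group
      have hcomm : S.x (ng b) b (2 * t' * u) * S.x j b u =
          S.x j b u * S.x (ng b) b (2 * t' * u) :=
        S.comm (ng b) b j b (ng_ne b) hj (Ne.symm hj) (ng_ne b) (ng_ne b).symm
          hbj' _ _
      have hm1 : ng b ∉ insert j T := by
        rw [Finset.mem_insert]
        rintro (h | h)
        · exact hbj h
        · exact hT h
      have hm2 : ng j ∉ insert j T := by
        rw [Finset.mem_insert]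
        rintro (h | h)
        · exact ng_ne j h
        · exact haT h
      refine ⟨u, S.x (ng b) b (2 * t' * u) * S.x (ng j) b t * y',
        mul_mem (mul_mem (S.x_mem_XQ (ng_ne b) ⟨rfl, hm1⟩ _)
          (S.x_mem_XQ hab ⟨rfl, hm2⟩ _)) hy', ?_⟩
      rw [← mul_assoc, hsym, hAB, hcomm]
      simp only [mul_assoc]
    · have hm : a ∉ insert j T := by
        rw [Finset.mem_insert]
        rintro (h | h)
        · exact haj h
        · exact haT h
      refine ⟨u, S.x a b t * y', mul_mem (S.x_mem_XQ hab ⟨rfl, hm⟩ t) hy', ?_⟩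
      rw [← mul_assoc, S.comm a b j b hab hj (Ne.symm hj) hab (ng_ne b).symm haj', mul_assoc]

theorem Yg_split [Finite ι] :
    ∀ y ∈ S.Yg o, y ∈ S.Zg o ∨
      ∃ j, j ≠ o ∧ j ≠ ng o ∧ ∃ u : K, u ≠ 0 ∧ ∃ y' ∈ S.Yj o j, y = S.x j o u * y' := by
  haveI : Fintype ι := Fintype.ofFinite ι
  have key : ∀ (n : ℕ) (T : Finset (ι ⊕ ι)), ng o ∉ T → (Finset.univ \ T).card ≤ n →
      ∀ y ∈ S.YT o T, y ∈ S.Zg o ∨
        ∃ j, j ≠ o ∧ j ≠ ng o ∧ ∃ u : K, u ≠ 0 ∧ ∃ y' ∈ S.Yj o j, y = S.x j o u * y' := by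
    intro n
    induction n with
    | zero =>
      intro T _ hcard y hy
      left
      refine S.YT_le_Zg o (fun a _ _ => ?_) hy
      by_contra haT
      have : a ∈ Finset.univ \ T := Finset.mem_sdiff.2 ⟨Finset.mem_univ a, haT⟩
      have hpos := Finset.card_pos.2 ⟨a, this⟩
      omega
    | succ n ih =>
      intro T hT hcard y hy
      by_cases hall : ∀ a, a ≠ o → a ≠ ng o → a ∈ T
      · exact Or.inl (S.YT_le_Zg o hall hy)
      · push_neg at hall
        obtain ⟨j, hj, hj', hjT⟩ := hall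
        obtain ⟨u, y', hy', rfl⟩ := S.YT_decomp o hj hj' hT y hy
        by_cases hu : u = 0
        · subst hu
          rw [S.x_zero, one_mul]
          have hT' : ng o ∉ insert j T := by
            rw [Finset.mem_insert]
            rintro (h | h)
            · exact hj' h.symm
            · exact hT h
          refine ih (insert j T) hT' ?_ y' hy'
          have hlt : (Finset.univ \ insert j T).card < (Finset.univ \ T).card := by
            apply Finset.card_lt_card
            rw [Finset.ssubset_iff_of_subset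
              (Finset.sdiff_subset_sdiff (Finset.Subset.refl _) (Finset.subset_insert j T))]
            exact ⟨j, Finset.mem_sdiff.2 ⟨Finset.mem_univ j, hjT⟩,
              fun h => (Finset.mem_sdiff.1 h).2 (Finset.mem_insert_self j T)⟩
          omega
        · exact Or.inr ⟨j, hj, hj', u, hu, y', S.YT_le_Yj o (Finset.mem_insert_self j T) hy', rfl⟩
  intro y hy
  rw [← S.YT_empty o] at hy
  exact key _ ∅ (Finset.notMem_empty _) le_rfl y hy

end F

end SysC

end Cfsg.Agent.Lib.helper3.STC
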