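import Mathlib
import Cfsg.Agent.Lib.helper17.T3.Defs
import Cfsg.Agent.Lib.Helper19.T3A.Defs

/-!
# T3A row B1, core (helper23): `Bor = Tor * U`, with the statement of row T7 (`Tor_normalizes_UU` at `U`) as a hypothesis.
-/

set_option autoImplicit false

namespace Cfsg.Agent.Lib.helper17.T3

open Matrix Cfsg.Agent.Lib.helper15.St2 Cfsg.Agent.Lib.helper7.Ce Cfsg.Agent.Lib.Helper19.T3A

variable {F K : Type*} [Field F] [Field K] [Algebra F K]

namespace SysT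

variable {C : Cub F K} {Γ : Type*} [Group Γ] (Q : SysT C Γ)

/-- general: if `H` normalizes `N` (through `cj`), then `H ⊔ N = H * N` elementwise -/
theorem t3ab1h23_mem_sup {Γ : Type*} [Group Γ] (H N : Subgroup Γ) (hn : ∀ h ∈ H, ∀ x ∈ N, cj h x ∈ N) (g : Γ) :
    g ∈ H ⊔ N ↔ ∃ h ∈ H, ∃ u ∈ N, g = h * u := by
  constructor
  · intro hg
    let M : Subgroup Γ :=
      { carrier := {g | ∃ h ∈ H, ∃ u ∈ N, g = h * u}
        one_mem' := ⟨1, H.one_mem, 1, N.one_mem, (mul_one 1).symm⟩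
        mul_mem' := by
          rintro a b ⟨h, hh, u, hu, rfl⟩ ⟨h', hh', u', hu', rfl⟩
          refine ⟨h * h', H.mul_mem hh hh', cj h'⁻¹ u * u', N.mul_mem (hn _ (H.inv_mem hh') _ hu) hu', ?_⟩
          unfold cj
          group
        inv_mem' := by
          rintro a ⟨h, hh, u, hu, rfl⟩
          refine ⟨h⁻¹, H.inv_mem hh, cj h u⁻¹, hn _ hh _ (N.inv_mem hu), ?_⟩
          unfold cj
          group }
    have hle : H ⊔ N ≤ M := by
      apply sup_le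
      · intro h hh
        exact ⟨h, hh, 1, N.one_mem, (mul_one h).symm⟩
      · intro u hu
        exact ⟨1, H.one_mem, u, hu, (one_mul u).symm⟩
    exact hle hg
  · rintro ⟨h, hh, u, hu, rfl⟩
    exact (H ⊔ N).mul_mem ((le_sup_left : H ≤ H ⊔ N) hh) ((le_sup_right : N ≤ H ⊔ N) hu)

/-- [B1] core: `T7` as a hypothesis -/
theorem t3ab1h23_mem_Bor_iff_core (hT7 : ∀ {h : Γ}, h ∈ Q.Tor → ∀ x ∈ Q.U, cj h x ∈ Q.U) (g : Γ) :
    g ∈ Q.Bor ↔ ∃ h ∈ Q.Tor, ∃ u ∈ Q.U, g = h * u :=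
  t3ab1h23_mem_sup Q.Tor Q.U (fun _ hh x hx => hT7 hh x hx) g

theorem t3ab1h23_Tor_le_Bor : Q.Tor ≤ Q.Bor := le_sup_left

theorem t3ab1h23_U_le_Bor : Q.U ≤ Q.Bor := le_sup_right

end SysT

end Cfsg.Agent.Lib.helper17.T3
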