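import Mathlib
import Cfsg.Agent.Lib.helper17.T3.Defs
import Cfsg.Agent.Lib.Helper19.T3A.Defs
import Cfsg.Agent.Lib.Helper19.T3A.Comb
import Cfsg.Agent.Lib.helper14.T3AD1
import Cfsg.Agent.Lib.helper14.T3AD4
import Cfsg.Agent.Lib.Helper26.T3AD6core
import Cfsg.Agent.Lib.helper23.T3AB1core

/-!
# T3A row B1 (helper23): `Bor = Tor * U` — `mem_Bor_iff`, `Tor_le_Bor`, `U_le_Bor` VERBATIM from `Helper19/T3A/Skel.lean.txt`.
Self-contained on the landed rows D1–D5 (helper14) and the D6 cores (helper26): own copies (names `t3ab1h23_*`) of the statements of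
T3 (`isMon_of_mem_Tor`), D9 at `W.one` and T7 (`Tor_normalizes_UU`).
-/

set_option autoImplicit false

namespace Cfsg.Agent.Lib.helper17.T3

open Matrix Cfsg.Agent.Lib.helper15.St2 Cfsg.Agent.Lib.helper7.Ce Cfsg.Agent.Lib.Helper19.T3A

variable {F K : Type*} [Field F] [Field K] [Algebra F K]

namespace SysT

variable {C : Cub F K} {Γ : Type*} [Group Γ] (Q : SysT C Γ)

/-- own copy of D6 -/
theorem t3ab1h23_isMon_hs (k : ZMod 6) {t : K} (ht : t ≠ 0) : Q.IsMon (Q.hs k t) W.one :=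
  Q.t3ad6h26_hs_core (fun h h' => IsMon.mul Q h h') (fun h => IsMon.inv Q h) (fun k _ ht => Q.isMon_ws k ht) k ht

theorem t3ab1h23_isMon_hl (k : ZMod 6) {c : F} (hc : c ≠ 0) : Q.IsMon (Q.hl k c) W.one :=
  Q.t3ad6h26_hl_core (fun h h' => IsMon.mul Q h h') (fun h => IsMon.inv Q h) (fun k _ hc => Q.isMon_wl k hc) k hc

/-- own copy of T3 -/
theorem t3ab1h23_isMon_of_mem_Tor {h : Γ} (hh : h ∈ Q.Tor) : Q.IsMon h W.one := by
  unfold Tor at hh
  induction hh using Subgroup.closure_induction with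
  | mem x hx =>
    obtain ⟨t, c, ht, hc, rfl⟩ := hx
    have h1 := IsMon.mul Q (Q.t3ab1h23_isMon_hs 0 ht) (Q.t3ab1h23_isMon_hl 2 hc)
    rw [(W_mul_one W.one).1] at h1
    exact h1
  | one => exact Q.isMon_one
  | mul x y _ _ hx hy =>
    have h1 := IsMon.mul Q hx hy
    rw [(W_mul_one W.one).1] at h1
    exact h1
  | inv x _ hx =>
    have h1 := IsMon.inv Q hx
    have e : W.inv W.one = W.one := by decide
    rw [e] at h1
    exact h1

/-- own copy of D9 at `W.one` -/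
theorem t3ab1h23_cj_mem_UU {g : Γ} (h : Q.IsMon g W.one) (Ps Pl : ZMod 6 → Prop) :
    ∀ x ∈ Q.UU Ps Pl, cj g x ∈ Q.UU Ps Pl := by
  obtain ⟨a, b, _, _, _, _, hS, hL⟩ := h
  intro x hx
  unfold UU at hx
  induction hx using Subgroup.closure_induction with
  | mem y hy =>
    rcases hy with ⟨k, t, hk, rfl⟩ | ⟨k, c, hk, rfl⟩
    · rw [hS k t, actS_one]
      exact Subgroup.subset_closure (Or.inl ⟨k, _, hk, rfl⟩)
    · rw [hL k c, actL_one]
      exact Subgroup.subset_closure (Or.inr ⟨k, _, hk, rfl⟩)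
  | one => rw [cj_one]; exact Subgroup.one_mem _
  | mul y z _ _ hy hz => rw [cj_mul]; exact Subgroup.mul_mem _ hy hz
  | inv y _ hy => rw [cj_inv]; exact Subgroup.inv_mem _ hy

/-- own copy of T7 -/
theorem t3ab1h23_Tor_normalizes_UU {Ps Pl : ZMod 6 → Prop} {h : Γ} (hh : h ∈ Q.Tor) :
    ∀ x ∈ Q.UU Ps Pl, cj h x ∈ Q.UU Ps Pl :=
  Q.t3ab1h23_cj_mem_UU (Q.t3ab1h23_isMon_of_mem_Tor hh) Ps Pl

-- ROW B1  [S-M]  `{h * u}` is a subgroup by T7, it contains `Tor` and `U`.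
theorem mem_Bor_iff (g : Γ) : g ∈ Q.Bor ↔ ∃ h ∈ Q.Tor, ∃ u ∈ Q.U, g = h * u :=
  Q.t3ab1h23_mem_Bor_iff_core (fun hh x hx => Q.t3ab1h23_Tor_normalizes_UU hh x hx) g

theorem Tor_le_Bor : Q.Tor ≤ Q.Bor := Q.t3ab1h23_Tor_le_Bor

theorem U_le_Bor : Q.U ≤ Q.Bor := Q.t3ab1h23_U_le_Bor

end SysT

end Cfsg.Agent.Lib.helper17.T3
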