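import Mathlib
import Cfsg.Agent.Lib.helper23.TD4V.Defs
import Cfsg.Agent.Lib.helper23.TD4VComm0
import Cfsg.Agent.Lib.helper23.TD4VComm1
import Cfsg.Agent.Lib.helper23.TD4VComm2
import Cfsg.Agent.Lib.helper23.TD4VComm3
import Cfsg.Agent.Lib.helper23.TD4VJH

/-!
# Project TD4V (S2462), row JE (`ident_E`), verbatim.
-/

set_option autoImplicit false

namespace Cfsg.Agent.Lib.helper23.TD4V

open Cfsg.Lie Cfsg.Lie.ChevalleyDatum Matrix
open Cfsg.Agent.Lib.helper8

universe u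

variable {K : Type u} [Field K]

/-- **JE**. -/
theorem ident_E (B1 B2 B3 r : K) :
    ∃ u ∈ QK K, X2AB B1 B2 B3 * X 1 r =
      XmA (-(B3 * r)) (B1 * r) (B2 * r) * X 1 r * X 14 (B1 * B2 * B3 * r ^ 2) * u := by
  -- tail forms of the commutation rules
  have c1_17 : ∀ (t u : K) (z : GG K),
      X 17 u * (X 1 t * z) = X 1 t * (X 17 u * (X 5 (-(t * u)) * z)) := by
    intro t u z
    rw [← mul_assoc, td4vc_c_1_17, mul_assoc, mul_assoc]
  have c1_21 : ∀ (t u : K) (z : GG K),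
      X 21 u * (X 1 t * z) = X 1 t * (X 21 u * (X 11 (t * u) * z)) := by
    intro t u z
    rw [← mul_assoc, td4vc_c_1_21, mul_assoc, mul_assoc]
  have c1_20 : ∀ (t u : K) (z : GG K),
      X 20 u * (X 1 t * z) = X 1 t * (X 20 u * (X 10 (t * u) * z)) := by
    intro t u z
    rw [← mul_assoc, td4vc_c_1_20, mul_assoc, mul_assoc]
  have c11_20 : ∀ (t u : K) (z : GG K),
      X 20 u * (X 11 t * z) = X 11 t * (X 20 u * (X 19 (-(t * u)) * z)) := by
    intro t u z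
    rw [← mul_assoc, td4vc_c_11_20, mul_assoc, mul_assoc]
  have c5_21 : ∀ (t u : K) (z : GG K),
      X 21 u * (X 5 t * z) = X 5 t * (X 21 u * (X 16 (t * u) * z)) := by
    intro t u z
    rw [← mul_assoc, td4vc_c_5_21, mul_assoc, mul_assoc]
  have c5_19 : ∀ (t u : K) (z : GG K),
      X 19 u * (X 5 t * z) = X 5 t * (X 19 u * (X 14 (t * u) * z)) := by
    intro t u z
    rw [← mul_assoc, td4vc_c_5_19, mul_assoc, mul_assoc]
  have c5_20 : ∀ (t u : K) (z : GG K),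
      X 20 u * (X 5 t * z) = X 5 t * (X 20 u * (X 15 (t * u) * z)) := by
    intro t u z
    rw [← mul_assoc, td4vc_c_5_20, mul_assoc, mul_assoc]
  have c10_20 : ∀ (t u : K) (z : GG K), X 20 u * (X 10 t * z) = X 10 t * (X 20 u * z) := by
    intro t u z
    rw [← mul_assoc, td4vc_c_10_20, mul_assoc]
  have c11_21 : ∀ (t u : K) (z : GG K), X 21 u * (X 11 t * z) = X 11 t * (X 21 u * z) := by
    intro t u z
    rw [← mul_assoc, td4vc_c_11_21, mul_assoc]
  have c5_17 : ∀ (t u : K) (z : GG K), X 17 u * (X 5 t * z) = X 5 t * (X 17 u * z) := by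
    intro t u z
    rw [← mul_assoc, td4vc_c_5_17, mul_assoc]
  have c5_11 : ∀ (t u : K) (z : GG K), X 11 u * (X 5 t * z) = X 5 t * (X 11 u * z) := by
    intro t u z
    rw [← mul_assoc, td4vc_c_5_11, mul_assoc]
  have c5_10 : ∀ (t u : K) (z : GG K), X 10 u * (X 5 t * z) = X 5 t * (X 10 u * z) := by
    intro t u z
    rw [← mul_assoc, td4vc_c_5_10, mul_assoc]
  have c5_1 : ∀ (t u : K) (z : GG K), X 1 u * (X 5 t * z) = X 5 t * (X 1 u * z) := by
    intro t u z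
    rw [← mul_assoc, td4vc_c_5_1, mul_assoc]
  have c10_1 : ∀ (t u : K) (z : GG K), X 1 u * (X 10 t * z) = X 10 t * (X 1 u * z) := by
    intro t u z
    rw [← mul_assoc, td4vc_c_10_1, mul_assoc]
  have c11_1 : ∀ (t u : K) (z : GG K), X 1 u * (X 11 t * z) = X 11 t * (X 1 u * z) := by
    intro t u z
    rw [← mul_assoc, td4vc_c_11_1, mul_assoc]
  have c14_19 : ∀ (t u : K) (z : GG K), X 19 u * (X 14 t * z) = X 14 t * (X 19 u * z) := by
    intro t u z
    rw [← mul_assoc, td4vc_c_14_19, mul_assoc]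
  have c14_15 : ∀ (t u : K) (z : GG K), X 15 u * (X 14 t * z) = X 14 t * (X 15 u * z) := by
    intro t u z
    rw [← mul_assoc, td4vc_c_14_15, mul_assoc]
  have c14_20 : ∀ (t u : K) (z : GG K), X 20 u * (X 14 t * z) = X 14 t * (X 20 u * z) := by
    intro t u z
    rw [← mul_assoc, td4vc_c_14_20, mul_assoc]
  -- the computation
  obtain ⟨w, hw⟩ : ∃ w, X 20 B1 * (X 21 B2 * (X 17 B3 * (X 1 r * 1))) = w := ⟨_, rfl⟩
  have hw0 := hw
  rw [c1_17, c1_21, c1_20] at hw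
  rw [c10_20, c11_21, c11_20] at hw
  rw [c5_17, c5_21, c5_19, c5_20] at hw
  rw [c5_11, c5_10, c5_1, c10_1, c11_1] at hw
  rw [c14_19, c14_15, c14_20] at hw
  have m : ∀ (r : ℕ) (_ : r ∈ [12, 13, 15, 16, 17, 18, 19, 20, 21, 22, 23]) (t : K), X r t ∈ QK K :=
    fun r hr t => td4vjh_X_mem_QK r hr t
  refine ⟨X 20 B1 * (X 15 (-(r * B3) * B1) * (X 19 (-(r * B2 * B1)) * (X 21 B2 *
    (X 16 (-(r * B3) * B2) * (X 17 B3 * 1))))), ?_, ?_⟩
  · exact Subgroup.mul_mem _ (m 20 (by simp) _) (Subgroup.mul_mem _ (m 15 (by simp) _)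
      (Subgroup.mul_mem _ (m 19 (by simp) _) (Subgroup.mul_mem _ (m 21 (by simp) _)
        (Subgroup.mul_mem _ (m 16 (by simp) _) (Subgroup.mul_mem _ (m 17 (by simp) _)
          (Subgroup.one_mem _))))))
  · have e1 : X2AB B1 B2 B3 * X 1 r = X 20 B1 * (X 21 B2 * (X 17 B3 * (X 1 r * 1))) := by
      unfold X2AB
      rw [mul_one, mul_assoc, mul_assoc]
    have e2 : (B1 * B2 * B3 * r ^ 2 : K) = -(r * B3) * -(r * B2 * B1) := by ring
    have e3 : (B3 * r : K) = r * B3 := mul_comm _ _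
    have e4 : (B1 * r : K) = r * B1 := mul_comm _ _
    have e5 : (B2 * r : K) = r * B2 := mul_comm _ _
    rw [e1, hw0, ← hw, e2, e3, e4, e5]
    unfold XmA
    simp only [mul_assoc]

end Cfsg.Agent.Lib.helper23.TD4V
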