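import Mathlib
import Cfsg.Agent.Lib.helper23.TD4V.Defs
import Cfsg.Agent.Lib.helper23.TD4VComm0
import Cfsg.Agent.Lib.helper23.TD4VJH
import Cfsg.Agent.Lib.helper23.TD4VJE
import Cfsg.Agent.Lib.helper23.TD4VQ2
import Cfsg.Agent.Lib.Helper9.TD4VQ1
import Cfsg.Agent.Lib.Helper26.TD4VN1
import Cfsg.Agent.Lib.Helper5.TD4VN2
import Cfsg.Agent.Lib.helper15.TD4VJA
import Cfsg.Agent.Lib.Helper26.TD4VJB
import Cfsg.Agent.Lib.Helper12.TD4VJA2
import Cfsg.Agent.Lib.Helper12.TD4VJD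
import Cfsg.Agent.Lib.helper4.TD4VJG
import Cfsg.Agent.Lib.helper4.TD4VJ2
import Cfsg.Agent.Lib.helper2.TD4VJCcore
import Cfsg.Agent.Lib.Helper16.TD4VM3

/-!
# Project TD4V (S2462), block T (`move_A`, `move_B`, `move_E`, `move_A2`, `move_A0`, `move_G`, `move_H`, `move_d2`), verbatim.
-/

set_option autoImplicit false
set_option linter.unusedSectionVars false
set_option linter.unusedVariables false

namespace Cfsg.Agent.Lib.helper23.TD4V

open Cfsg.Lie Cfsg.Lie.ChevalleyDatum Matrix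
open Cfsg.Agent.Lib.helper8 Cfsg.Agent.Lib.helper8.TD4

universe u

section T

variable {K : Type u} [Field K] [Fintype K] (q : ℕ)

theorem td4vt_pow_q2 (x : K) : x ^ (q ^ 2) = (x ^ q) ^ q := by
  rw [← pow_mul, sq]

theorem td4vt_frob_add2 (hq : IsPrimePow q) (hK : Fintype.card K = q ^ 3) (x y : K) :
    (x + y) ^ (q ^ 2) = x ^ (q ^ 2) + y ^ (q ^ 2) := by
  rw [td4vt_pow_q2, td4vt_pow_q2, td4vt_pow_q2, frob_add q hq hK, frob_add q hq hK]

theorem td4vt_LK_le_PK : LK K ≤ PK K := td4vq1_LK_le_PK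

theorem td4vt_XA_comm_X0 (s1 s2 s3 c : K) : XA s1 s2 s3 * X 0 c = X 0 c * XA s1 s2 s3 :=
  (td4vjc_core (fun r s hr hs h hne t u => X_comm r s hr hs h hne t u)
    (fun r s hr hs h h' hne hne' c u => hh_comm r s hr hs h h' hne hne' c u)).1 s1 s2 s3 c

theorem td4vt_XmA_comm_X0 (s1 s2 s3 c : K) : XmA s1 s2 s3 * X 0 c = X 0 c * XmA s1 s2 s3 :=
  (td4vjc_core (fun r s hr hs h hne t u => X_comm r s hr hs h hne t u)
    (fun r s hr hs h h' hne hne' c u => hh_comm r s hr hs h h' hne hne' c u)).2.1 s1 s2 s3 c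

theorem td4vt_hJ3_comm_X0 (d1 d2 d3 c : K) : hJ3 d1 d2 d3 * X 0 c = X 0 c * hJ3 d1 d2 d3 :=
  (td4vjc_core (fun r s hr hs h hne t u => X_comm r s hr hs h hne t u)
    (fun r s hr hs h h' hne hne' c u => hh_comm r s hr hs h h' hne hne' c u)).2.2.1 d1 d2 d3 c

theorem td4vt_X_mem_LK (r : ℕ) (hr : r = 9 ∨ r = 14) (t : K) : X r t ∈ LK K := by
  unfold LK ChevalleyDatum.leviSubgroup
  apply Subgroup.mem_sup_right
  apply Subgroup.subset_closure
  refine ⟨r, t, ?_, rfl⟩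
  have key : ∀ i < 4, i ≠ 1 → (chevD4.coroot.getD 9 #[]).getD i 0 = 0 ∧
      (chevD4.coroot.getD 14 #[]).getD i 0 = 0 := by decide
  rcases hr with rfl | rfl
  · refine ⟨by decide, ?_⟩
    intro i hi hiJ
    exact (key i hi (by simpa using hiJ)).1
  · refine ⟨by decide, ?_⟩
    intro i hi hiJ
    exact (key i hi (by simpa using hiJ)).2

theorem td4vt_XA_mem (s1 s2 s3 : K) : XA s1 s2 s3 ∈ QK K := by
  unfold XA
  exact Subgroup.mul_mem _ (Subgroup.mul_mem _ (td4vjh_X_mem_QK 18 (by simp) _)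
    (td4vjh_X_mem_QK 13 (by simp) _)) (td4vjh_X_mem_QK 12 (by simp) _)

theorem td4vt_XmA_mem (s1 s2 s3 : K) : XmA s1 s2 s3 ∈ QmK K := by
  unfold XmA
  exact Subgroup.mul_mem _ (Subgroup.mul_mem _ (td4vjh_X_mem_QmK 5 (by simp) _)
    (td4vjh_X_mem_QmK 10 (by simp) _)) (td4vjh_X_mem_QmK 11 (by simp) _)

/-- **T1**. -/
theorem move_A (hq : IsPrimePow q) (hK : Fintype.card K = q ^ 3) (s r : K) (hd : 1 + s * r ≠ 0) :
    Xa q s * Xma q r =
      Xma q (r / (1 + s * r)) * hJ hB q (1 + s * r) * Xa q (s / (1 + s * r)) := by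
  have e2 : 1 + s ^ q * r ^ q = (1 + s * r) ^ q := by
    rw [frob_add q hq hK, one_pow, mul_pow]
  have e3 : 1 + s ^ (q ^ 2) * r ^ (q ^ 2) = (1 + s * r) ^ (q ^ 2) := by
    rw [td4vt_frob_add2 q hq hK, one_pow, mul_pow]
  have h2 : 1 + s ^ q * r ^ q ≠ 0 := by
    rw [e2]
    exact pow_ne_zero _ hd
  have h3 : 1 + s ^ (q ^ 2) * r ^ (q ^ 2) ≠ 0 := by
    rw [e3]
    exact pow_ne_zero _ hd
  have h := ident_A s (s ^ q) (s ^ (q ^ 2)) r (r ^ q) (r ^ (q ^ 2)) hd h2 h3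
  unfold Xa Xma hJ
  rw [h, e2, e3, div_pow, div_pow, div_pow, div_pow]
  rfl

/-- **T2**. -/
theorem move_B (s r : K) : Xab q s * Xma q r = Xma q r * X 14 (Tr3 q (s * r)) * Xab q s := by
  have h := ident_B s (-(s ^ q)) (-(s ^ (q ^ 2))) r (r ^ q) (r ^ (q ^ 2))
  unfold Xab Xma
  rw [h]
  have e : s * r - -(s ^ q) * r ^ q - -(s ^ (q ^ 2)) * r ^ (q ^ 2) = Tr3 q (s * r) := by
    unfold Tr3
    rw [mul_pow, mul_pow]
    ring
  rw [e]

/-- **T3**. -/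
theorem move_E (hq : IsPrimePow q) (hK : Fintype.card K = q ^ 3) (B r : K) (hr : r ^ q = r) :
    ∃ u ∈ QK K, X2ab q B * X 1 r =
      Xma q (B ^ (q ^ 2) * r) * X 1 r * X 14 (-(Nm q B * r ^ 2)) * u := by
  obtain ⟨u, hu, h⟩ := ident_E B (B ^ q) (-(B ^ (q ^ 2))) r
  refine ⟨u, hu, ?_⟩
  unfold X2ab Xma
  rw [h]
  have e1 : -(-(B ^ (q ^ 2)) * r) = B ^ (q ^ 2) * r := by ring
  have e2 : (B ^ (q ^ 2) * r) ^ q = B * r := by
    rw [mul_pow, pow_q_q2 q hK, hr]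
  have e3 : (B ^ (q ^ 2) * r) ^ (q ^ 2) = B ^ q * r := by
    rw [td4vt_pow_q2, e2, mul_pow, hr]
  have e4 : B * B ^ q * -(B ^ (q ^ 2)) * r ^ 2 = -(Nm q B * r ^ 2) := by
    unfold Nm
    ring
  rw [e1, e2, e3, e4]

/-- **T4**. -/
theorem move_A2 (s r : K) : ∃ v ∈ QmK K, Xa q s * X 1 r = v * X 9 (Nm q s * r) * Xa q s := by
  obtain ⟨v, hv, h⟩ := ident_A2 s (s ^ q) (s ^ (q ^ 2)) r
  exact ⟨v, hv, h⟩

/-- **T5**. -/
theorem move_A0 (hq : IsPrimePow q) (hK : Fintype.card K = q ^ 3) (s r c : K)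
    (hd : 1 + s * r ≠ 0) :
    Xa q s * (Xma q r * X 0 c) =
      (Xma q (r / (1 + s * r)) * X 0 c) * hJ hB q (1 + s * r) * Xa q (s / (1 + s * r)) := by
  have h := move_A q hq hK s r hd
  have c1 : Xa q (s / (1 + s * r)) * X 0 c = X 0 c * Xa q (s / (1 + s * r)) := by
    unfold Xa
    exact td4vt_XA_comm_X0 _ _ _ c
  have c2 : hJ hB q (1 + s * r) * X 0 c = X 0 c * hJ hB q (1 + s * r) := by
    exact td4vt_hJ3_comm_X0 _ _ _ c
  calc Xa q s * (Xma q r * X 0 c) = (Xa q s * Xma q r) * X 0 c := by rw [mul_assoc]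
    _ = Xma q (r / (1 + s * r)) * hJ hB q (1 + s * r) * (Xa q (s / (1 + s * r)) * X 0 c) := by
        rw [h, mul_assoc]
    _ = Xma q (r / (1 + s * r)) * (hJ hB q (1 + s * r) * X 0 c) * Xa q (s / (1 + s * r)) := by
        rw [c1]
        simp only [mul_assoc]
    _ = _ := by
        rw [c2]
        simp only [mul_assoc]

/-- **T6**. -/
theorem move_G (s r c : K) :
    ∃ v ∈ QmK K, ∃ u ∈ QK K,
      Xab q s * (Xma q r * X 0 c) = v * X 14 (Tr3 q (s * r) - Nm q s * c) * u := by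
  obtain ⟨v', hv', u', hu', hG⟩ := ident_G s (-(s ^ q)) (-(s ^ (q ^ 2))) c
  have hB2 := move_B q s r
  have e : -(s * -(s ^ q) * -(s ^ (q ^ 2)) * c) = -(Nm q s * c) := by
    unfold Nm
    ring
  rw [e] at hG
  have hG' : Xab q s * X 0 c = v' * X 14 (-(Nm q s * c)) * u' := hG
  refine ⟨Xma q r * (X 14 (Tr3 q (s * r)) * v' * (X 14 (Tr3 q (s * r)))⁻¹), ?_, u', hu', ?_⟩
  · apply Subgroup.mul_mem
    · unfold Xma
      exact td4vt_XmA_mem _ _ _
    · exact norm_QmK _ (td4vt_X_mem_LK 14 (Or.inr rfl) _) _ hv'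
  · have ha : X 14 (Tr3 q (s * r) - Nm q s * c) = X 14 (Tr3 q (s * r)) * X 14 (-(Nm q s * c)) := by
      rw [td4vc_add 14 (by decide), sub_eq_add_neg]
    calc Xab q s * (Xma q r * X 0 c) = (Xab q s * Xma q r) * X 0 c := by rw [mul_assoc]
      _ = Xma q r * X 14 (Tr3 q (s * r)) * (Xab q s * X 0 c) := by rw [hB2, mul_assoc]
      _ = _ := by
          rw [hG', ha]
          simp only [mul_assoc, inv_mul_cancel_left]

/-- **T7**. -/
theorem move_H (s r c : K) :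
    ∃ v ∈ QmK K, ∃ u ∈ QK K,
      X 22 s * (Xma q r * X 0 c) = v * (X 9 (s * c) * X 14 (s * Nm q r)) * u := by
  obtain ⟨u, hu, hH⟩ := ident_H s r (r ^ q) (r ^ (q ^ 2))
  have e : s * r * r ^ q * r ^ (q ^ 2) = s * Nm q r := by
    unfold Nm
    ring
  rw [e] at hH
  have hH' : X 22 s * Xma q r = Xma q r * X 14 (s * Nm q r) * u := hH
  have hD := ident_D' s c
  have hC : Xma q r * X 0 c = X 0 c * Xma q r := by
    unfold Xma
    exact td4vt_XmA_comm_X0 _ _ _ c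
  refine ⟨X 0 c * (X 9 (s * c) * Xma q r * (X 9 (s * c))⁻¹), ?_, u, hu, ?_⟩
  · apply Subgroup.mul_mem
    · exact td4vjh_X_mem_QmK 0 (by simp) _
    · apply norm_QmK _ (td4vt_X_mem_LK 9 (Or.inl rfl) _)
      unfold Xma
      exact td4vt_XmA_mem _ _ _
  · calc X 22 s * (Xma q r * X 0 c) = (X 22 s * X 0 c) * Xma q r := by rw [hC, mul_assoc]
      _ = X 0 c * X 9 (s * c) * (X 22 s * Xma q r) := by rw [hD, mul_assoc]
      _ = _ := by
          rw [hH']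
          simp only [mul_assoc, inv_mul_cancel_left]

/-- **T8**. -/
theorem move_d2 (hq : IsPrimePow q) (hK : Fintype.card K = q ^ 3) (s B s0 r : K) (hr : r ^ q = r)
    (hd : 1 + s * (B ^ (q ^ 2) * r) ≠ 0) :
    ∃ v ∈ QmK K, ∃ u ∈ QK K,
      Xa q s * X2ab q B * X 23 s0 * X 1 r =
        v * (hJ hB q (1 + s * (B ^ (q ^ 2) * r)) *
          X 9 (Nm q (s / (1 + s * (B ^ (q ^ 2) * r))) * r) *
          X 14 (-(Nm q B * r ^ 2) + s0 * r)) * u := by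
  obtain ⟨uE, huE, hE⟩ := move_E q hq hK B r hr
  obtain ⟨v2, hv2, h4⟩ := move_A2 q (s / (1 + s * (B ^ (q ^ 2) * r))) r
  have h1 := move_A q hq hK s (B ^ (q ^ 2) * r) hd
  have hD := ident_D s0 r
  obtain ⟨d, hdd⟩ : ∃ d, d = 1 + s * (B ^ (q ^ 2) * r) := ⟨_, rfl⟩
  obtain ⟨a, haa⟩ : ∃ a, a = -(Nm q B * r ^ 2) := ⟨_, rfl⟩
  obtain ⟨b, hbb⟩ : ∃ b, b = s0 * r := ⟨_, rfl⟩
  rw [← hdd] at h1 h4 hd ⊢
  rw [← haa] at hE ⊢
  rw [← hbb] at hD ⊢
  have hdL : hJ hB q d ∈ LK K := (hJ_mem q hq hK d hd).2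
  have m14 : ∀ t : K, X 14 t ∈ PK K := fun t => td4vt_LK_le_PK (td4vt_X_mem_LK 14 (Or.inr rfl) t)
  refine ⟨Xma q (B ^ (q ^ 2) * r / d) * (hJ hB q d * v2 * (hJ hB q d)⁻¹), ?_,
    (X 14 (-b) * ((X 14 (-a) * Xa q (s / d) * (X 14 (-a))⁻¹) * uE) * (X 14 (-b))⁻¹) * X 23 s0, ?_, ?_⟩
  · apply Subgroup.mul_mem
    · unfold Xma
      exact td4vt_XmA_mem _ _ _
    · exact norm_QmK _ hdL _ hv2
  · apply Subgroup.mul_mem
    · apply norm_QK _ (m14 _)
      apply Subgroup.mul_mem _ _ huE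
      apply norm_QK _ (m14 _)
      unfold Xa
      exact td4vt_XA_mem _ _ _
    · exact td4vjh_X_mem_QK 23 (by simp) _
  · have ha : X 14 (a + b) = X 14 a * X 14 b := by
      rw [td4vc_add 14 (by decide)]
    have n1 : X 14 (-a) = (X 14 a : GG K)⁻¹ := (td4vc_inv 14 a).symm
    have n2 : X 14 (-b) = (X 14 b : GG K)⁻¹ := (td4vc_inv 14 b).symm
    calc Xa q s * X2ab q B * X 23 s0 * X 1 r
        = Xa q s * X2ab q B * (X 23 s0 * X 1 r) := by rw [mul_assoc]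
      _ = Xa q s * (X2ab q B * X 1 r) * X 14 b * X 23 s0 := by
          rw [hD]
          simp only [mul_assoc]
      _ = (Xa q s * Xma q (B ^ (q ^ 2) * r)) * X 1 r * X 14 a * uE * X 14 b * X 23 s0 := by
          rw [hE]
          simp only [mul_assoc]
      _ = Xma q (B ^ (q ^ 2) * r / d) * hJ hB q d * (Xa q (s / d) * X 1 r) * X 14 a * uE * X 14 b *
            X 23 s0 := by
          rw [h1]
          simp only [mul_assoc]
      _ = _ := by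
          rw [h4, ha, n1, n2]
          simp only [mul_assoc, inv_mul_cancel_left, mul_inv_cancel_left, inv_inv]

end T

end Cfsg.Agent.Lib.helper23.TD4V
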