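import Mathlib
import Cfsg.Prelude.Def_ChevStructure
import Cfsg.Agent.Lib.Helper12.INVE8.Defs
import Cfsg.Agent.Lib.Helper12.INVSTDCG

/-! INVE8-STDC (helper23): `∏ n_r(1)` is conjugate to `∏ x_r(1)` for the nine standard sets of `E8` -/

set_option autoImplicit false
set_option linter.unusedVariables false

namespace Cfsg.Agent.Lib.Helper12.INVE8

open Cfsg.Lie Cfsg.Lie.ChevalleyDatum Cfsg.Agent.Lib.helper8 Cfsg.Agent.Lib.helper14
  Cfsg.Agent.Lib.helper14.INV

universe u

variable {F : Type u} [Field F]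

set_option maxRecDepth 100000 in
/-- the Boolean check of STDC for the nine standard sets -/
theorem inve8stdc_chk : ∀ k < 9, stdcChk chevE8 (e8Std.getD k []) = true := by
  decide +kernel

/-- STDC : `∏ n_r(1)` is conjugate to `∏ x_r(1)` (by `∏ x_{-r}(1)`) -/
theorem e8_std_cj [CharP F 2] (hB : H8Base.{u} chevE8) (k : ℕ) (hk : k < 9) :
    Cj chevE8 (n1 chevE8 hB (e8Std.getD k []) : GL chevE8.Idx F) (w1 chevE8 hB (e8Std.getD k [])) :=
  std_cj_gen chevE8 (by simp) hB _ (inve8stdc_chk k hk)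

end Cfsg.Agent.Lib.Helper12.INVE8
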