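import Mathlib

set_option autoImplicit false

/-!
# Simplicity of a primitive permutation group from a normal closure certificate
-/

namespace Cfsg.Agent.Lib.helper23

open Subgroup MulAction

theorem pg_simple {n : ℕ} (S : Set (Equiv.Perm (Fin n)))
    [hprim : IsPreprimitive (closure S) (Fin n)] (m p : ℕ) (hp : p.Prime)
    (hcard : Nat.card (closure S) = n * m) (hpm : ¬ p ∣ m) (hn : 2 ≤ n)
    (t : Equiv.Perm (Fin n)) (ht : t ∈ closure S) (htp : t ^ p = 1)
    (hS : ∀ s ∈ S, ∃ l : List (Equiv.Perm (Fin n)), (∀ w ∈ l, w ∈ closure S) ∧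
      s = (l.map (fun w => w * t * w⁻¹)).prod) :
    IsSimpleGroup (closure S) := by
  have hm : m ≠ 0 := by
    rintro rfl
    rw [mul_zero] at hcard
    exact (Nat.card_pos (α := closure S)).ne' hcard
  have : Nontrivial (closure S) := by
    apply (Finite.one_lt_card_iff_nontrivial).1
    rw [hcard]
    have : 1 ≤ m := Nat.one_le_iff_ne_zero.2 hm
    nlinarith
  refine ⟨fun N hN => ?_⟩
  by_cases hbot : N = ⊥
  · exact Or.inl hbot
  right
  -- `N` acts without a global fixed point set
  have hfix : fixedPoints N (Fin n) ≠ Set.univ := by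
    intro h
    apply hbot
    rw [Subgroup.eq_bot_iff_forall]
    intro x hx
    apply Subtype.ext
    ext i
    have : i ∈ fixedPoints N (Fin n) := by rw [h]; exact Set.mem_univ i
    have := this ⟨x, hx⟩
    exact congrArg Fin.val this
  have := IsQuasiPreprimitive.isPretransitive_of_normal (G := closure S) (X := Fin n) hfix
  -- `n` divides the order of `N`
  have hdvd : n ∣ Nat.card N := by
    have h1 := MulAction.index_stabilizer_of_transitive N (⟨0, by omega⟩ : Fin n) (X := Fin n)
    have h2 := Subgroup.card_mul_index (stabilizer N (⟨0, by omega⟩ : Fin n))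
    rw [h1, Nat.card_fin] at h2
    exact ⟨_, by rw [← h2, mul_comm]⟩
  have hidx : N.index ∣ m := by
    obtain ⟨k, hk⟩ := hdvd
    have h2 := Subgroup.card_mul_index N
    rw [hcard, hk, mul_assoc] at h2
    have : k * N.index = m := Nat.eq_of_mul_eq_mul_left (by omega) h2
    exact ⟨k, by rw [← this, mul_comm]⟩
  -- the element `t` lies in `N`
  have htN : (⟨t, ht⟩ : closure S) ∈ N := by
    rw [← QuotientGroup.eq_one_iff]
    have h1 : ((⟨t, ht⟩ : closure S) : closure S ⧸ N) ^ p = 1 := by
      rw [← QuotientGroup.mk_pow]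
      have : (⟨t, ht⟩ : closure S) ^ p = 1 := Subtype.ext (by simpa using htp)
      rw [this]
      rfl
    have h2 : orderOf ((⟨t, ht⟩ : closure S) : closure S ⧸ N) ∣ p := orderOf_dvd_of_pow_eq_one h1
    have h3 : orderOf ((⟨t, ht⟩ : closure S) : closure S ⧸ N) ∣ m := by
      refine dvd_trans (orderOf_dvd_natCard _) ?_
      rw [← Subgroup.index_eq_card]
      exact hidx
    rcases (Nat.dvd_prime hp).1 h2 with h | h
    · exact orderOf_eq_one_iff.1 h
    · exact absurd (h ▸ h3) hpm
  -- the image of `N`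
  have hN' : ∀ s ∈ S, s ∈ N.map (closure S).subtype := by
    intro s hs
    obtain ⟨l, hl, rfl⟩ := hS s hs
    apply Subgroup.list_prod_mem
    intro x hx
    obtain ⟨w, hw, rfl⟩ := List.mem_map.1 hx
    refine ⟨⟨w, hl w hw⟩ * ⟨t, ht⟩ * ⟨w, hl w hw⟩⁻¹, hN.conj_mem _ htN _, rfl⟩
  rw [eq_top_iff]
  rintro ⟨x, hx⟩ -
  have : closure S ≤ N.map (closure S).subtype := (closure_le _).2 hN'
  obtain ⟨y, hy, hxy⟩ := this hx
  have : y = ⟨x, hx⟩ := Subtype.ext hxy
  rw [← this]
  exact hy

end Cfsg.Agent.Lib.helper23
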