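import Cfsg.Agent.Lib.helper23.PgB
import Cfsg.Agent.Lib.helper23.PgC

set_option autoImplicit false

/-!
# Certificates for normal closures and element orders (words in the generators)
-/

namespace Cfsg.Agent.Lib.helper23

open Subgroup

/-- the word of a product of conjugates of the word `tw` -/
def pgConjW (tw : List ℕ) (cert : List (List ℕ × List ℕ)) : List ℕ :=
  @List.rec (List ℕ × List ℕ) (fun _ => List ℕ) []
    (fun a _ ih => a.1 ++ (tw ++ (a.2 ++ ih))) cert

theorem pgConjW_cons (tw : List ℕ) (a : List ℕ × List ℕ) (cert : List (List ℕ × List ℕ)) :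
    pgConjW tw (a :: cert) = a.1 ++ (tw ++ (a.2 ++ pgConjW tw cert)) := rfl

/-- check that `s` is the product of the conjugates of `tw` by the words in `cert` -/
def pgChkConj (n : ℕ) (gs : List PFun) (tw : List ℕ) (s : PFun)
    (cert : List (List ℕ × List ℕ)) : Bool :=
  pgAllL cert (fun a => pgAll n (fun p => Nat.beq (pgEvalW gs (a.1 ++ a.2) p) p)) &&
    pgAll n (fun p => Nat.beq (s.f p) (pgEvalW gs (pgConjW tw cert) p))

theorem pgWordPerm_eq_one {n : ℕ} {gs : List PFun} (hgs : ∀ P ∈ gs, P.ok n = true)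
    {w : List ℕ} (h : pgAll n (fun p => Nat.beq (pgEvalW gs w p) p) = true) :
    pgWordPerm n gs w = 1 := by
  ext i
  rw [pgWordPerm_apply hgs]
  simpa using (pgAll_iff _ _).1 h i.1 i.2

theorem pgConjW_perm {n : ℕ} {gs : List PFun} (hgs : ∀ P ∈ gs, P.ok n = true) (tw : List ℕ) :
    ∀ cert : List (List ℕ × List ℕ),
      pgAllL cert (fun a => pgAll n (fun p => Nat.beq (pgEvalW gs (a.1 ++ a.2) p) p)) = true →
      pgWordPerm n gs (pgConjW tw cert) =
        ((cert.map (fun a => pgWordPerm n gs a.1)).map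
          (fun w => w * pgWordPerm n gs tw * w⁻¹)).prod := by
  intro cert
  induction cert with
  | nil => intro _; rfl
  | cons a cert ih =>
    intro h
    rw [pgAllL_iff] at h
    have h1 := pgWordPerm_eq_one hgs (h a List.mem_cons_self)
    rw [pgWordPerm_append] at h1
    have h2 : pgWordPerm n gs a.2 = (pgWordPerm n gs a.1)⁻¹ := by
      rw [eq_comm, inv_eq_iff_mul_eq_one]
      exact h1
    rw [pgConjW_cons, pgWordPerm_append, pgWordPerm_append, pgWordPerm_append,
      ih ((pgAllL_iff _ _).2 (fun x hx => h x (List.mem_cons_of_mem a hx))), h2]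
    simp [mul_assoc]

theorem pgChkConj_sound {n : ℕ} {gs : List PFun} (hgs : ∀ P ∈ gs, P.ok n = true)
    {tw : List ℕ} {s : PFun} (hs : s.ok n = true) {cert : List (List ℕ × List ℕ)}
    (h : pgChkConj n gs tw s cert = true) :
    ∃ l : List (Equiv.Perm (Fin n)), (∀ w ∈ l, w ∈ closure (pgSet n gs)) ∧
      s.perm n = (l.map (fun w => w * pgWordPerm n gs tw * w⁻¹)).prod := by
  unfold pgChkConj at h
  rw [Bool.and_eq_true] at h
  refine ⟨cert.map (fun a => pgWordPerm n gs a.1), ?_, ?_⟩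
  · intro w hw
    obtain ⟨a, -, rfl⟩ := List.mem_map.1 hw
    exact pgWordPerm_mem hgs _
  · rw [← pgConjW_perm hgs tw cert h.1]
    ext i
    rw [PFun.perm_apply hs, pgWordPerm_apply hgs]
    simpa using (pgAll_iff _ _).1 h.2 i.1 i.2

/-- the check of the certificates for all generators -/
def pgChkNC (n : ℕ) (gs : List PFun) (tw : List ℕ) (certs : List (List (List ℕ × List ℕ))) :
    Bool :=
  pgAll gs.length (fun j => pgChkConj n gs tw (gs.getD j PFun.one) (certs.getD j []))

theorem pgChkNC_sound {n : ℕ} {gs : List PFun} (hgs : ∀ P ∈ gs, P.ok n = true)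
    {tw : List ℕ} {certs : List (List (List ℕ × List ℕ))} (h : pgChkNC n gs tw certs = true) :
    ∀ s ∈ pgSet n gs, ∃ l : List (Equiv.Perm (Fin n)), (∀ w ∈ l, w ∈ closure (pgSet n gs)) ∧
      s = (l.map (fun w => w * pgWordPerm n gs tw * w⁻¹)).prod := by
  rintro _ ⟨P, hP, rfl⟩
  obtain ⟨j, hj, rfl⟩ := List.mem_iff_getElem.1 hP
  have := (pgAll_iff _ _).1 h j hj
  rw [List.getD_eq_getElem _ _ hj] at this
  exact pgChkConj_sound hgs (hgs _ hP) this

/-- the `k`-th power of a word -/
def pgPowW (tw : List ℕ) (k : ℕ) : List ℕ :=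
  @Nat.rec (fun _ => List ℕ) [] (fun _ ih => tw ++ ih) k

theorem pgPowW_perm (n : ℕ) (gs : List PFun) (tw : List ℕ) (k : ℕ) :
    pgWordPerm n gs (pgPowW tw k) = pgWordPerm n gs tw ^ k := by
  induction k with
  | zero => rfl
  | succ k ih =>
    have e : pgPowW tw (k+1) = tw ++ pgPowW tw k := rfl
    rw [e, pgWordPerm_append, ih, pow_succ']

theorem pgPow_eq_one {n : ℕ} {gs : List PFun} (hgs : ∀ P ∈ gs, P.ok n = true)
    {tw : List ℕ} {k : ℕ} (h : pgAll n (fun p => Nat.beq (pgEvalW gs (pgPowW tw k) p) p) = true) :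
    pgWordPerm n gs tw ^ k = 1 := by
  rw [← pgPowW_perm]
  exact pgWordPerm_eq_one hgs h

end Cfsg.Agent.Lib.helper23
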