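import Mathlib
import Cfsg.Prelude.Def_KGroupFacts
import Cfsg.Agent.Lib.helper23.SchurCoverD

set_option autoImplicit false

namespace Cfsg.Agent.Lib.helper23

open scoped commutatorElement

universe u v

section central

variable {ι : Type*} {Q Γ Δ : Type*} [Group Q] [Group Γ] [Group Δ]

/-- the commutator subgroup of a central extension is the image of `F'` under any lift -/
theorem scv_comm_le_map (φ : FreeGroup ι →* Q) (hφ : Function.Surjective φ) (τ : Δ →* Q)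
    (hker : τ.ker ≤ Subgroup.center Δ) (θ : FreeGroup ι →* Δ) (hθ : τ.comp θ = φ) :
    commutator Δ ≤ (commutator (FreeGroup ι)).map θ := by
  have hθ' : ∀ f, τ (θ f) = φ f := fun f => DFunLike.congr_fun hθ f
  have hdec : ∀ d : Δ, ∃ f : FreeGroup ι, (θ f)⁻¹ * d ∈ τ.ker := by
    intro d
    obtain ⟨f, hf⟩ := hφ (τ d)
    refine ⟨f, ?_⟩
    rw [MonoidHom.mem_ker, map_mul, map_inv, hθ', hf, inv_mul_cancel]
  rw [commutator_eq_closure, Subgroup.closure_le]
  rintro _ ⟨a, b, rfl⟩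
  obtain ⟨fa, hfa⟩ := hdec a
  obtain ⟨fb, hfb⟩ := hdec b
  have h3 := uce_comm_central (θ fa) (θ fb) _ _ (hker hfa) (hker hfb)
  simp only [mul_inv_cancel_left] at h3
  rw [SetLike.mem_coe, h3, ← map_commutatorElement]
  exact Subgroup.mem_map_of_mem _
    (Subgroup.commutator_mem_commutator (Subgroup.mem_top fa) (Subgroup.mem_top fb))

/-- **Cover property, central version.** The kernel of a Schur cover maps onto `ker τ ∩ Δ'` for
every central extension `τ : Δ → Q`. -/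
theorem scv_cover_central (φΓ : FreeGroup ι →* Γ) (hφΓ : Function.Surjective φΓ) (σ : Γ →* Q)
    (hσ : Cfsg.IsStemExtension σ)
    (hS : φΓ.ker ⊓ commutator (FreeGroup ι) ≤ ⁅(⊤ : Subgroup (FreeGroup ι)), (σ.comp φΓ).ker⁆)
    (τ : Δ →* Q) (hτ : Function.Surjective τ) (hker : τ.ker ≤ Subgroup.center Δ) :
    ∃ π : σ.ker →* τ.ker, ∀ y : τ.ker, y ∈ π.range ↔ (y : Δ) ∈ commutator Δ := by
  set φ : FreeGroup ι →* Q := σ.comp φΓ with hφdef
  have hφ : Function.Surjective φ := hσ.1.comp hφΓ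
  obtain ⟨θ, hθ, hNθ⟩ := scv_lift φ τ hτ hker
  have hθ' : ∀ f, τ (θ f) = φ f := fun f => DFunLike.congr_fun hθ f
  have hcomΔ := scv_comm_le_map φ hφ τ hker θ hθ
  set RF : Subgroup (FreeGroup ι) := φ.ker ⊓ commutator (FreeGroup ι) with hRF
  let α : RF →* τ.ker := (θ.comp RF.subtype).codRestrict τ.ker (by
    intro x
    rw [MonoidHom.mem_ker, MonoidHom.comp_apply, hθ']
    exact x.2.1)
  let β : RF →* σ.ker := (φΓ.comp RF.subtype).codRestrict σ.ker (by
    intro x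
    rw [MonoidHom.mem_ker, MonoidHom.comp_apply]
    exact x.2.1)
  have hβs : Function.Surjective β := by
    rintro ⟨x, hx⟩
    have h1 : x ∈ (commutator (FreeGroup ι)).map φΓ := by
      rw [commutator_def, Subgroup.map_commutator, ← MonoidHom.range_eq_map,
        MonoidHom.range_eq_top_of_surjective φΓ hφΓ, ← commutator_def]
      exact hσ.2.2 hx
    obtain ⟨m, hm, hmx⟩ := h1
    have hmR : m ∈ φ.ker := by
      rw [MonoidHom.mem_ker, hφdef, MonoidHom.comp_apply, hmx]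
      exact hx
    exact ⟨⟨m, hmR, hm⟩, Subtype.ext hmx⟩
  have hkerαβ : β.ker ≤ α.ker := by
    intro x hx
    rw [MonoidHom.mem_ker] at hx ⊢
    have h1 : φΓ (x : FreeGroup ι) = 1 := congrArg Subtype.val hx
    have h2 : (x : FreeGroup ι) ∈ φΓ.ker ⊓ commutator (FreeGroup ι) := ⟨h1, x.2.2⟩
    have h3 : θ (x : FreeGroup ι) = 1 := hNθ (hS h2)
    exact Subtype.ext h3
  set π : σ.ker →* τ.ker := MonoidHom.liftOfSurjective β hβs ⟨α, hkerαβ⟩ with hπ
  have hπβ : ∀ x, π (β x) = α x := fun x =>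
    MonoidHom.liftOfRightInverse_comp_apply β _ _ ⟨α, hkerαβ⟩ x
  refine ⟨π, fun y => ⟨?_, ?_⟩⟩
  · rintro ⟨z, rfl⟩
    obtain ⟨x, rfl⟩ := hβs z
    rw [hπβ]
    have h1 : ((α x : τ.ker) : Δ) = θ (x : FreeGroup ι) := rfl
    rw [h1]
    have h2 : (commutator (FreeGroup ι)).map θ ≤ commutator Δ := by
      rw [commutator_def, commutator_def, Subgroup.map_commutator]
      exact Subgroup.commutator_mono le_top le_top
    exact h2 (Subgroup.mem_map_of_mem _ x.2.2)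
  · intro hy
    obtain ⟨m, hm, hmy⟩ := hcomΔ hy
    have hmR : m ∈ φ.ker := by
      rw [MonoidHom.mem_ker, ← hθ', hmy]
      exact y.2
    refine ⟨β ⟨m, hmR, hm⟩, ?_⟩
    rw [hπβ]
    exact Subtype.ext hmy

end central

/-- the standard Schur cover `F/S₁` attached to the free presentation on all elements, with kernel
isomorphic to the multiplier -/
theorem scv_std_cover {Q : Type u} [Group Q] [Finite Q] {A : Type v} [CommGroup A]
    (hA : Cfsg.HasSchurMultiplier Q A) :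
    ∃ (S₁ : Subgroup (FreeGroup Q)) (_ : S₁.Normal)
      (hS₁R : S₁ ≤ (FreeGroup.lift (id : Q → Q)).ker),
      Cfsg.IsStemExtension (QuotientGroup.lift S₁ (FreeGroup.lift (id : Q → Q)) hS₁R) ∧
      S₁ ⊓ commutator (FreeGroup Q) ≤
        ⁅(⊤ : Subgroup (FreeGroup Q)), (FreeGroup.lift (id : Q → Q)).ker⁆ ∧
      Nonempty ((QuotientGroup.lift S₁ (FreeGroup.lift (id : Q → Q)) hS₁R).ker ≃* A) := by
  set φ : FreeGroup Q →* Q := FreeGroup.lift (id : Q → Q) with hφdef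
  have hφ : Function.Surjective φ := by
    intro q
    exact ⟨FreeGroup.of q, by rw [hφdef, FreeGroup.lift_apply_of]; rfl⟩
  have hfi : φ.ker.FiniteIndex := Subgroup.finiteIndex_ker φ
  have hN : ⁅(⊤ : Subgroup (FreeGroup Q)), φ.ker⁆ ≤ φ.ker := Subgroup.commutator_le_right _ _
  have hstem : ∀ r ∈ φ.ker, ∃ m ∈ φ.ker ⊓ commutator (FreeGroup Q), ∃ r₁ ∈ φ.ker, r = m * r₁ :=
    fun r hr => ⟨1, Subgroup.one_mem _, r, hr, (one_mul r).symm⟩
  obtain ⟨S₁, hS₁n, hNS₁, hS₁R, hS₁F, hdec⟩ := scv_exists φ φ.ker hN le_rfl hstem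
  obtain ⟨hstemσ, hfin⟩ := scv_quot_stem φ hφ S₁ hNS₁ hS₁R hdec
  set σ : FreeGroup Q ⧸ S₁ →* Q := QuotientGroup.lift S₁ φ hS₁R with hσ
  have hσmk : σ.comp (QuotientGroup.mk' S₁) = φ := by
    apply MonoidHom.ext
    intro f
    exact QuotientGroup.lift_mk S₁ hS₁R f
  have hmks : Function.Surjective (QuotientGroup.mk' S₁) := QuotientGroup.mk'_surjective S₁
  have hS : (QuotientGroup.mk' S₁).ker ⊓ commutator (FreeGroup Q) ≤
      ⁅(⊤ : Subgroup (FreeGroup Q)), (σ.comp (QuotientGroup.mk' S₁)).ker⁆ := by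
    rw [hσmk, QuotientGroup.ker_mk']
    exact hS₁F
  obtain ⟨⟨Γ₀, instG₀, instF₀, σ₀, hσ₀, ⟨e₀⟩⟩, hA2⟩ := hA
  obtain ⟨π₂, hπ₂⟩ := scv_cover (QuotientGroup.mk' S₁) hmks σ hstemσ hS σ₀ hσ₀
  obtain ⟨π₁, hπ₁⟩ := hA2 (FreeGroup Q ⧸ S₁) σ hstemσ
  have hfinA : Finite A := Finite.of_equiv _ e₀.toEquiv
  have hcard : Nat.card A ≤ Nat.card σ.ker := by
    have h1 : Nat.card A = Nat.card σ₀.ker := (Nat.card_congr e₀.toEquiv).symm
    rw [h1]
    exact Nat.card_le_card_of_surjective π₂ hπ₂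
  have hbij : Function.Bijective π₁ := hπ₁.bijective_of_nat_card_le hcard
  exact ⟨S₁, hS₁n, hS₁R, hstemσ, hS₁F, ⟨(MulEquiv.ofBijective π₁ hbij).symm⟩⟩

/-- the multiplier maps onto `ker τ ∩ Δ'` for every central extension `τ : Δ → Q` -/
theorem scv_mult_to_central {Q : Type u} [Group Q] [Finite Q] {A : Type v} [CommGroup A]
    (hA : Cfsg.HasSchurMultiplier Q A) {Δ : Type*} [Group Δ] (τ : Δ →* Q)
    (hτ : Function.Surjective τ) (hker : τ.ker ≤ Subgroup.center Δ) :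
    ∃ π : A →* τ.ker, ∀ y : τ.ker, y ∈ π.range ↔ (y : Δ) ∈ commutator Δ := by
  obtain ⟨S₁, hS₁n, hS₁R, hstemσ, hS₁F, ⟨e⟩⟩ := scv_std_cover hA
  set φ : FreeGroup Q →* Q := FreeGroup.lift (id : Q → Q) with hφdef
  set σ : FreeGroup Q ⧸ S₁ →* Q := QuotientGroup.lift S₁ φ hS₁R with hσ
  have hσmk : σ.comp (QuotientGroup.mk' S₁) = φ := by
    apply MonoidHom.ext
    intro f
    exact QuotientGroup.lift_mk S₁ hS₁R f
  have hmks : Function.Surjective (QuotientGroup.mk' S₁) := QuotientGroup.mk'_surjective S₁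
  have hS : (QuotientGroup.mk' S₁).ker ⊓ commutator (FreeGroup Q) ≤
      ⁅(⊤ : Subgroup (FreeGroup Q)), (σ.comp (QuotientGroup.mk' S₁)).ker⁆ := by
    rw [hσmk, QuotientGroup.ker_mk']
    exact hS₁F
  obtain ⟨π, hπ⟩ := scv_cover_central (QuotientGroup.mk' S₁) hmks σ hstemσ hS τ hτ hker
  refine ⟨π.comp e.symm.toMonoidHom, fun y => ?_⟩
  rw [← hπ y]
  constructor
  · rintro ⟨a, rfl⟩
    exact ⟨e.symm a, rfl⟩
  · rintro ⟨z, rfl⟩
    exact ⟨e z, by simp⟩

end Cfsg.Agent.Lib.helper23
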