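import Mathlib
import Cfsg.Prelude.Def_KGroupFacts
import Cfsg.Agent.Lib.helper23.SchurCoverE

set_option autoImplicit false

namespace Cfsg.Agent.Lib.helper23

open scoped commutatorElement

/-- a quotient of a finite abelian group embeds into it -/
theorem sci_dual_embed {B C : Type*} [CommGroup B] [Finite B] [CommGroup C] (f : B →* C)
    (hf : Function.Surjective f) : ∃ j : C →* B, Function.Injective j := by
  have hfinC : Finite C := Finite.of_surjective f hf
  have : NeZero (Monoid.exponent B) := ⟨Monoid.exponent_ne_zero_of_finite⟩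
  have : NeZero (Monoid.exponent C) := ⟨Monoid.exponent_ne_zero_of_finite⟩
  obtain ⟨eB⟩ := CommGroup.monoidHom_mulEquiv_of_hasEnoughRootsOfUnity B ℂ
  obtain ⟨eC⟩ := CommGroup.monoidHom_mulEquiv_of_hasEnoughRootsOfUnity C ℂ
  refine ⟨(eB.toMonoidHom.comp (MonoidHom.compHom' f)).comp eC.symm.toMonoidHom, ?_⟩
  have h1 : Function.Injective (MonoidHom.compHom' (P := ℂˣ) f) := by
    intro χ₁ χ₂ h
    have h2 : χ₁.comp f = χ₂.comp f := h
    exact (MonoidHom.cancel_right hf).mp h2
  intro x y hxy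
  have h3 := eB.injective hxy
  exact eC.symm.injective (h1 h3)

/-- transfer argument: index-th powers of central commutator elements lie in `H'` -/
theorem sci_transfer_pow {Γ : Type*} [Group Γ] (H : Subgroup Γ) [H.FiniteIndex] (a : Γ)
    (ha : a ∈ Subgroup.center Γ) (hcomm : a ∈ commutator Γ) :
    ∃ h : a ^ H.index ∈ H, (⟨a ^ H.index, h⟩ : H) ∈ commutator H := by
  have key : ∀ (k : ℕ) (g₀ : Γ), g₀⁻¹ * a ^ k * g₀ ∈ H → g₀⁻¹ * a ^ k * g₀ = a ^ k := by
    intro k g₀ _
    have h1 : a ^ k ∈ Subgroup.center Γ := Subgroup.pow_mem _ ha k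
    have h2 := Subgroup.mem_center_iff.mp h1 g₀
    rw [mul_assoc, ← h2]
    group
  have h3 := MonoidHom.transfer_eq_pow (Abelianization.of : H →* Abelianization H) a key
  have h4 : (MonoidHom.transfer (Abelianization.of : H →* Abelianization H)) a = 1 := by
    have := Abelianization.commutator_subset_ker
      (MonoidHom.transfer (Abelianization.of : H →* Abelianization H)) hcomm
    exact this
  rw [h4] at h3
  refine ⟨MonoidHom.transfer_eq_pow_aux a key, ?_⟩
  rw [← Abelianization.ker_of, MonoidHom.mem_ker]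
  exact h3.symm

/-- the `[G:U]`-th powers of the multiplier of `G` embed in the multiplier of `U` -/
theorem sci_main {G : Type*} [Group G] [Finite G] (U : Subgroup G) {A B : Type*} [CommGroup A]
    [CommGroup B] (hA : Cfsg.HasSchurMultiplier G A) (hB : Cfsg.HasSchurMultiplier U B) :
    ∃ C : Subgroup B, Nonempty ((powMonoidHom U.index : A →* A).range ≃* C) := by
  obtain ⟨Γ, instΓ, finΓ, σ, hσ, ⟨e⟩⟩ := hA.1
  set ΓU : Subgroup Γ := U.comap σ with hΓU
  set σU : ΓU →* U := σ.subgroupComap U with hσU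
  have hσUs : Function.Surjective σU := σ.subgroupComap_surjective_of_surjective U hσ.1
  have hσUa : ∀ x : ΓU, ((σU x : U) : G) = σ (x : Γ) := fun x => rfl
  have hkerU' : ∀ x : ΓU, x ∈ σU.ker → (x : Γ) ∈ σ.ker := by
    intro x hx
    rw [MonoidHom.mem_ker] at hx ⊢
    rw [← hσUa, hx]; rfl
  have hkerU : σU.ker ≤ Subgroup.center ΓU := by
    intro x hx
    rw [Subgroup.mem_center_iff]
    intro g
    exact Subtype.ext (Subgroup.mem_center_iff.mp (hσ.2.1 (hkerU' x hx)) (g : Γ))
  obtain ⟨π, hπ⟩ := scv_mult_to_central hB σU hσUs hkerU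
  have hidx : ΓU.index = U.index := Subgroup.index_comap_of_surjective U hσ.1
  have hfinB : Finite B := by
    obtain ⟨Γ', _, _, σ', _, ⟨e'⟩⟩ := hB.1
    exact Finite.of_equiv _ e'.toEquiv
  -- the embedding of ker σ into ker σU
  have hmemΓU : ∀ x : σ.ker, (x : Γ) ∈ ΓU := by
    intro x
    rw [hΓU, Subgroup.mem_comap]
    have : σ (x : Γ) = 1 := x.2
    rw [this]; exact Subgroup.one_mem _
  let ψ₀ : σ.ker →* σU.ker :=
    { toFun := fun x => ⟨⟨(x : Γ), hmemΓU x⟩, by
        rw [MonoidHom.mem_ker]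
        apply Subtype.ext
        rw [hσUa]
        exact x.2⟩
      map_one' := rfl
      map_mul' := fun _ _ => rfl }
  have hψ₀inj : Function.Injective ψ₀ := by
    intro x y hxy
    have h1 : (((ψ₀ x : σU.ker) : ΓU) : Γ) = (((ψ₀ y : σU.ker) : ΓU) : Γ) := by rw [hxy]
    exact Subtype.ext h1
  set ψ : A →* σU.ker := ψ₀.comp e.symm.toMonoidHom with hψ
  have hψinj : Function.Injective ψ := hψ₀inj.comp e.symm.injective
  have hψval : ∀ a : A, (((ψ a : σU.ker) : ΓU) : Γ) = ((e.symm a : σ.ker) : Γ) := fun a => rfl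
  -- powers land in the range of π
  have hrange : ∀ y : (powMonoidHom U.index : A →* A).range, ψ (y : A) ∈ π.range := by
    rintro ⟨y, a, rfl⟩
    rw [hπ]
    have ha1 : ((e.symm a : σ.ker) : Γ) ∈ Subgroup.center Γ := hσ.2.1 (e.symm a).2
    have ha2 : ((e.symm a : σ.ker) : Γ) ∈ commutator Γ := hσ.2.2 (e.symm a).2
    obtain ⟨h1, h2⟩ := sci_transfer_pow ΓU _ ha1 ha2
    have h3 : ((ψ (powMonoidHom U.index a) : σU.ker) : ΓU) =
        ⟨((e.symm a : σ.ker) : Γ) ^ ΓU.index, h1⟩ := by
      apply Subtype.ext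
      show (((ψ (powMonoidHom U.index a) : σU.ker) : ΓU) : Γ) = ((e.symm a : σ.ker) : Γ) ^ ΓU.index
      rw [hψval, powMonoidHom_apply, map_pow]
      have hidx' : ΓU.index = U.index := hidx
      rw [hidx']
      rfl
    rw [h3]
    exact h2
  let j₁ : (powMonoidHom U.index : A →* A).range →* π.range :=
    (ψ.comp (powMonoidHom U.index : A →* A).range.subtype).codRestrict π.range hrange
  have hj₁ : Function.Injective j₁ := by
    intro x y hxy
    have h1 : ψ (x : A) = ψ (y : A) := congrArg Subtype.val hxy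
    exact Subtype.ext (hψinj h1)
  obtain ⟨j₂, hj₂⟩ := sci_dual_embed (QuotientGroup.mk' π.ker) (QuotientGroup.mk'_surjective π.ker)
  set j : (powMonoidHom U.index : A →* A).range →* B :=
    (j₂.comp (QuotientGroup.quotientKerEquivRange π).symm.toMonoidHom).comp j₁ with hj
  have hjinj : Function.Injective j :=
    (hj₂.comp (QuotientGroup.quotientKerEquivRange π).symm.injective).comp hj₁
  exact ⟨j.range, ⟨MonoidHom.ofInjective hjinj⟩⟩

end Cfsg.Agent.Lib.helper23
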