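import Mathlib
import Cfsg.Agent.Lib.helper7.SAP.Defs

/-!
# Project SAP (designer helper7), rows BASE5 and GL1: cores on the cited statements
(BASE3 `base_carRel`, BASE4 `base_a_mem`, CAR3 `car_card_le`, PERM1 `ah_pow_conj_zh`).
-/

set_option autoImplicit false

namespace Cfsg.Agent.Lib.helper7.SAP

open Equiv

universe u

section base
variable {p : ℕ} {G : Type u} [Group G]

theorem sapbase5_zo_zero [NeZero p] (a z : G) : zo a z (0 : ZMod p) = z := by
  unfold zo
  rw [ZMod.val_zero, pow_zero, one_mul, inv_one, mul_one]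

theorem sapbase5_zo_mem (a z : G) (x : ZMod p) :
    zo a z x ∈ Subgroup.closure ({a, z} : Set G) := by
  unfold zo
  have ha : a ∈ Subgroup.closure ({a, z} : Set G) := Subgroup.subset_closure (by simp)
  have hz : z ∈ Subgroup.closure ({a, z} : Set G) := Subgroup.subset_closure (by simp)
  exact Subgroup.mul_mem _ (Subgroup.mul_mem _ (Subgroup.pow_mem _ ha _) hz)
    (Subgroup.inv_mem _ (Subgroup.pow_mem _ ha _))

/-- BASE5, first part, from the statement of BASE4. -/
theorem sapbase5_closure_core [NeZero p] (a z : G)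
    (hBASE4 : a ∈ Subgroup.closure (Set.range (zo a z : ZMod p → G))) :
    Subgroup.closure ({a, z} : Set G) = Subgroup.closure (Set.range (zo a z : ZMod p → G)) := by
  apply le_antisymm
  · rw [Subgroup.closure_le]
    intro g hg
    rcases hg with rfl | hg
    · exact hBASE4
    · rw [Set.mem_singleton_iff] at hg
      rw [hg]
      apply Subgroup.subset_closure
      exact ⟨0, sapbase5_zo_zero a z⟩
  · rw [Subgroup.closure_le]
    rintro g ⟨x, rfl⟩
    exact sapbase5_zo_mem a z x

/-- BASE5, second part, from the statements of BASE3 and CAR3 (at `ι = ZMod p`). -/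
theorem sapbase5_card_core [NeZero p] (a z : G)
    (hBASE3 : CarRel (zo a z : ZMod p → G))
    (hCAR3 : CarRel (zo a z : ZMod p → G) →
      Finite (Subgroup.closure (Set.range (zo a z : ZMod p → G))) ∧
        2 * Nat.card (Subgroup.closure (Set.range (zo a z : ZMod p → G))) ≤
          (Nat.card (ZMod p) + 2).factorial) :
    Finite (Subgroup.closure (Set.range (zo a z : ZMod p → G))) ∧
    2 * Nat.card (Subgroup.closure (Set.range (zo a z : ZMod p → G))) ≤ (p + 2).factorial := by
  have h := hCAR3 hBASE3
  rw [Nat.card_zmod] at h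
  exact h

end base

section glue
variable {p k l : ℕ} {G : Type u} [Group G]

/-- GL1 from the statement of PERM1 (`ah_pow_conj_zh`). -/
theorem sapgl1_core [NeZero p] (H : GlueHyp p k l G)
    (hPERM1 : ∀ (i : ℕ) (x : ZMod p),
      (ah p k) ^ i * zh (Sum.inl x) * ((ah p k) ^ i)⁻¹ = zh (Sum.inl (x + (i : ZMod p)) : Ix p k))
    (x : ZMod p) :
    H.ψ (zo H.a H.z x) = zh (Sum.inl x) := by
  unfold zo
  rw [map_mul, map_mul, map_inv, map_pow, H.hψa, H.hψz, hPERM1, zero_add, ZMod.natCast_zmod_val]

end glue

end Cfsg.Agent.Lib.helper7.SAP
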