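import Mathlib
import Cfsg.Agent.Lib.helper7.SAP.Defs
import Cfsg.Agent.Lib.helper23.SAPBASE5core
import Cfsg.Agent.Lib.Helper28.SAPPERM1

/-!
# Project SAP (designer helper7), row GL1 (`glue_psi_zo`), verbatim.
-/

set_option autoImplicit false

namespace Cfsg.Agent.Lib.helper7.SAP

open Equiv

universe u

section glue
variable {p k l : ℕ} {G : Type u} [Group G]

/-- GL1 [S-M] -/
theorem glue_psi_zo [Fact p.Prime] (H : GlueHyp p k l G) (x : ZMod p) :
    H.ψ (zo H.a H.z x) = zh (Sum.inl x) := by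
  have : NeZero p := ⟨(Fact.out : p.Prime).ne_zero⟩
  exact sapgl1_core H (fun i x => ah_pow_conj_zh p k i x) x

end glue

end Cfsg.Agent.Lib.helper7.SAP
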