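import Mathlib

/-!
# B43 piece A1 : `ac2_plus` (pure arithmetic).
-/

set_option autoImplicit false
set_option linter.unusedVariables false
set_option linter.unusedSectionVars false

namespace Cfsg.Agent.Lib.Helper13.B43

/-- A1 : a divisor `d ≡ 1 mod p`, `d ≥ 2`, of `q (1 + n p)` (`q ∣ p - 1`, `2 n ≤ p + 2`) is `1 + n p`. -/
theorem ac2_plus (p q t n d : ℕ) (hp : p.Prime) (hqt : q * t = p - 1) (hq : 1 ≤ q) (hn : 1 ≤ n)
    (hn2 : 2 * n ≤ p + 2) (hd : d ∣ q * (1 + n * p)) (h1 : d % p = 1) (h2 : 2 ≤ d) :
    d = 1 + n * p := by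
  have hp2 := hp.two_le
  have hpq : p = q * t + 1 := by omega
  have ht1 : 1 ≤ t := by
    rcases Nat.eq_zero_or_pos t with h | h
    · subst h; omega
    · exact h
  have hqp : q < p := by nlinarith
  obtain ⟨c, hc⟩ := hd
  obtain ⟨u, hu⟩ : ∃ u, d = 1 + u * p :=
    ⟨d / p, by have := Nat.div_add_mod d p; rw [h1] at this; linarith [Nat.mul_comm p (d / p)]⟩
  have hu1 : 1 ≤ u := by
    rcases Nat.eq_zero_or_pos u with h | h
    · subst h; omega
    · exact h
  have hcq : c % p = q := by
    have h3 : (d * c) % p = (q * (1 + n * p)) % p := by rw [hc]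
    rw [Nat.mul_mod, h1, one_mul, Nat.mod_mod] at h3
    rw [h3]
    have h4 : q * (1 + n * p) = q + (q * n) * p := by ring
    rw [h4, Nat.add_mul_mod_self_right, Nat.mod_eq_of_lt hqp]
  obtain ⟨b, hb⟩ : ∃ b, c = q + b * p :=
    ⟨c / p, by have := Nat.div_add_mod c p; rw [hcq] at this; linarith [Nat.mul_comm p (c / p)]⟩
  -- main equation
  have hmain : b + u * q + u * b * p = q * n := by
    have h5 : p * (b + u * q + u * b * p) = p * (q * n) := by
      have h6 : q * (1 + n * p) = (1 + u * p) * (q + b * p) := by rw [hc, hu, hb]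
      nlinarith
    exact Nat.eq_of_mul_eq_mul_left (by omega) h5
  rcases lt_trichotomy u n with hlt | heq | hgt
  · exfalso
    have hb1 : 1 ≤ b := by
      rcases Nat.eq_zero_or_pos b with h | h
      · subst h
        have : u * q = n * q := by nlinarith
        have := Nat.eq_of_mul_eq_mul_right (by omega) this
        omega
      · exact h
    -- b (1 + u) + u q + u b q t = q n
    have h7 : b * (1 + u) + q * (u + u * b * t) = q * n := by
      rw [hpq] at hmain; nlinarith
    have hdvd : q ∣ b * (1 + u) := by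
      have : q ∣ b * (1 + u) + q * (u + u * b * t) := by rw [h7]; exact Dvd.intro _ rfl
      exact (Nat.dvd_add_left (Dvd.intro _ rfl)).mp this
    obtain ⟨j, hj⟩ := hdvd
    have hj1 : 1 ≤ j := by
      rcases Nat.eq_zero_or_pos j with h | h
      · subst h; simp at hj; omega
      · exact h
    have h8 : j + u + u * b * t = n := by
      have : q * (j + (u + u * b * t)) = q * n := by rw [← h7, hj]; ring
      have := Nat.eq_of_mul_eq_mul_left (by omega) this
      omega
    have h9 : q ≤ 2 * (b * u) := by nlinarith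
    have h10 : q * t ≤ 2 * (u * b * t) := by nlinarith
    omega
  · subst heq; exact hu
  · exfalso
    have h11 : n * q < u * q := Nat.mul_lt_mul_of_pos_right hgt (by omega)
    have h12 : q * n = n * q := Nat.mul_comm _ _
    omega
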