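import Mathlib

/-!
# B43 piece A2 : `ac2_minus` (pure arithmetic).
-/

set_option autoImplicit false
set_option linter.unusedVariables false
set_option linter.unusedSectionVars false

namespace Cfsg.Agent.Lib.Helper13.B43

/-- A2 : a divisor `d ≡ -1 mod p` of `q (1 + n p)` (`q t = p - 1`, `t ≥ 2`, `2 n ≤ p + 2`) is `p - 1`. -/
theorem ac2_minus (p q t n d : ℕ) (hp : p.Prime) (hqt : q * t = p - 1) (hq : 1 ≤ q) (ht : 2 ≤ t)
    (hn : 1 ≤ n) (hn2 : 2 * n ≤ p + 2) (hd : d ∣ q * (1 + n * p)) (h1 : (d + 1) % p = 0) :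
    d + 1 = p := by
  have hp2 := hp.two_le
  have hpq : p = q * t + 1 := by omega
  have hqp : q < p := by nlinarith
  obtain ⟨c, hc⟩ := hd
  obtain ⟨u, hu⟩ : ∃ u, d + 1 = u * p :=
    ⟨(d + 1) / p, by have := Nat.div_add_mod (d + 1) p; rw [h1] at this; linarith [Nat.mul_comm p ((d + 1) / p)]⟩
  have hu1 : 1 ≤ u := by
    rcases Nat.eq_zero_or_pos u with h | h
    · subst h; omega
    · exact h
  -- (c + q) % p = 0
  have hcq : (c + q) % p = 0 := by
    -- (d + 1) * c = d * c + c = q (1 + n p) + c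
    have h3 : u * p * c = q + c + (q * n) * p := by
      rw [← hu]; nlinarith
    have h4 : (q + c + (q * n) * p) % p = 0 := by
      rw [← h3]
      have : u * p * c = (u * c) * p := by ring
      rw [this]; exact Nat.mul_mod_left _ _
    rw [Nat.add_mul_mod_self_right] at h4
    rw [Nat.add_comm]; exact h4
  obtain ⟨b, hb⟩ : ∃ b, c + q = b * p :=
    ⟨(c + q) / p, by have := Nat.div_add_mod (c + q) p; rw [hcq] at this; linarith [Nat.mul_comm p ((c + q) / p)]⟩
  have hb1 : 1 ≤ b := by
    rcases Nat.eq_zero_or_pos b with h | h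
    · subst h; omega
    · exact h
  -- main equation: u b p = u q + b + q n
  have hmain : u * b * p = u * q + b + q * n := by
    have h5 : p * (u * b * p) = p * (u * q + b + q * n) := by
      -- (d+1)(c+q) = dc + dq + c + q = q(1+np) + dq + c + q
      have h6 : (d + 1) * (c + q) = q * (1 + n * p) + d * q + c + q := by rw [hc]; ring
      rw [hu, hb] at h6
      -- d q = (u p - 1) q : d * q + q = u p q
      have h7 : d * q + q = u * p * q := by rw [← hu]; ring
      -- c + q = b p
      nlinarith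
    exact Nat.eq_of_mul_eq_mul_left (by omega) h5
  rcases Nat.lt_or_ge u 2 with hlt | hge
  · have : u = 1 := by omega
    subst this; rw [hu]; ring
  · exfalso
    obtain ⟨w, rfl⟩ : ∃ w, u = w + 1 := ⟨u - 1, by omega⟩
    have hw1 : 1 ≤ w := by omega
    -- (w+1) b (q t + 1) = (w+1) q + b + q n  ⟹  b w + q ((w+1) b t) = q (w + 1 + n)
    have h7 : b * w + q * ((w + 1) * b * t) = q * (w + 1 + n) := by
      rw [hpq] at hmain; nlinarith
    -- (w+1) b t ≤ w + 1 + n
    have hle : (w + 1) * b * t ≤ w + 1 + n := by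
      have : q * ((w + 1) * b * t) ≤ q * (w + 1 + n) := by omega
      exact Nat.le_of_mul_le_mul_left this (by omega)
    obtain ⟨j, hj⟩ : ∃ j, w + 1 + n = (w + 1) * b * t + j := ⟨w + 1 + n - (w + 1) * b * t, by omega⟩
    have h8 : b * w = q * j := by
      rw [hj] at h7; nlinarith
    have hj1 : 1 ≤ j := by
      rcases Nat.eq_zero_or_pos j with h | h
      · subst h
        have : 1 ≤ b * w := Nat.mul_pos hb1 hw1
        omega
      · exact h
    -- p = q t + 1 ≤ q j t + 1 = b w t + 1
    have h9 : q * t ≤ b * w * t := by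
      rw [h8]
      calc q * t = q * 1 * t := by ring
        _ ≤ q * j * t := Nat.mul_le_mul_right t (Nat.mul_le_mul_left q hj1)
    have h10 : 2 ≤ b * t := by
      calc 2 = 1 * 2 := by norm_num
        _ ≤ b * t := Nat.mul_le_mul hb1 ht
    -- 2 n = 2 j + 2 (w+1) b t - 2 (w + 1) ≥ 2 + 2 (w+1) b t - 2 (w+1)
    -- want: 2 n ≥ p + 3
    have h11 : (w + 1) * b * t = b * t * w + b * t := by ring
    have h12 : b * w * t = b * t * w := by ring
    have h13 : 2 * w ≤ b * t * w := Nat.mul_le_mul_right w h10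
    clear hc hmain h7 h8 hu hb hcq h1 hle
    omega
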