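import Mathlib
import Cfsg.Agent.Lib.Helper24.SU3M.Defs
import Cfsg.Agent.Lib.helper7.CeA
import Cfsg.Agent.Lib.helper14.U3PX11
import Cfsg.Agent.Lib.helper14.SU3MU1
import Cfsg.Agent.Lib.helper14.SU3MU4

/-!
# Project SU3M (designer helper24; rank one half of S2089), row P6 (`comm_le_Vg`): the CORE (helper23)

`comm_le_Vg_core`: the statement of P6 with the STATEMENTS of P3 `NA_central` and P4 `NU_comm` as hypotheses (U1, U2, U5 are cited from `helper14.SU3MU1`, `helper14.SU3MU4`).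
Generic part: `su3mp6_generic` (`E = N ⊔ zpowers t`, `V` normalised by `N` and `t^{±1}`, containing `cm x x'` and `cm t x`: all commutators of `E` lie in `V`),
`su3mp6_inv_norm` (an element of a finite group normalising a subgroup in one direction normalises it in the other).
-/

set_option autoImplicit false
set_option linter.unusedSectionVars false
set_option linter.unusedVariables false

namespace Cfsg.Agent.Lib.Helper24.SU3M

open Cfsg.Agent.Lib.Helper19.U3P Cfsg.Agent.Lib.Helper25.SU3P Cfsg.Agent.Lib.helper14.SU3J Cfsg.Agent.Lib.helper7.Ce Matrix Polynomial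

universe u

section generic

variable {Γ : Type*} [Group Γ]

theorem su3mp6_cm_inv_left (a c : Γ) : cm a⁻¹ c = a⁻¹ * (cm a c)⁻¹ * a := by
  unfold cm; group

theorem su3mp6_cm_inv_right (a b : Γ) : cm a b⁻¹ = b⁻¹ * (cm a b)⁻¹ * b := by
  unfold cm; group

theorem su3mp6_conj_eq (x v : Γ) : x * v * x⁻¹ = cm x v * v := by
  unfold cm; group

/-- a torsion element which maps a subgroup into itself by conjugation does so in the other direction too -/
theorem su3mp6_inv_norm {G : Type*} [Group G] [Finite G] (S : Subgroup G) (d : G) (hd : ∀ X ∈ S, d * X * d⁻¹ ∈ S) :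
    ∀ X ∈ S, d⁻¹ * X * d ∈ S := by
  have hpow : ∀ n : ℕ, ∀ X ∈ S, d ^ n * X * (d ^ n)⁻¹ ∈ S := by
    intro n
    induction n with
    | zero =>
      intro X hX
      simpa using hX
    | succ n ih =>
      intro X hX
      have e : d ^ (n + 1) * X * (d ^ (n + 1))⁻¹ = d * (d ^ n * X * (d ^ n)⁻¹) * d⁻¹ := by
        rw [pow_succ']
        group
      rw [e]
      exact hd _ (ih X hX)
  intro X hX
  have hn : 0 < orderOf d := orderOf_pos d
  have h1 : d ^ (orderOf d - 1) = d⁻¹ := by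
    have h2 : d ^ (orderOf d - 1) * d = 1 := by
      rw [← pow_succ, Nat.sub_add_cancel hn, pow_orderOf_eq_one]
    exact eq_inv_of_mul_eq_one_left h2
  have h3 := hpow (orderOf d - 1) X hX
  rw [h1, inv_inv] at h3
  exact h3

/-- `E = N ⊔ zpowers t`; `V` normalised by `N` and `t^{±1}`, containing `cm x x'` and `cm t x` (`x x' ∈ N`): all commutators of `E` lie in `V` -/
theorem su3mp6_generic (N V : Subgroup Γ) (t : Γ)
    (h1 : ∀ x ∈ N, ∀ x' ∈ N, cm x x' ∈ V)
    (h2 : ∀ x ∈ N, cm t x ∈ V)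
    (h3 : ∀ x ∈ N, ∀ v ∈ V, x * v * x⁻¹ ∈ V)
    (h4 : ∀ v ∈ V, t * v * t⁻¹ ∈ V)
    (h4' : ∀ v ∈ V, t⁻¹ * v * t ∈ V) :
    ⁅N ⊔ Subgroup.zpowers t, N ⊔ Subgroup.zpowers t⁆ ≤ V := by
  have hE : N ⊔ Subgroup.zpowers t = Subgroup.closure ((N : Set Γ) ∪ {t}) := by
    rw [Subgroup.closure_union, Subgroup.closure_eq, Subgroup.zpowers_eq_closure]
  -- `E` normalises `V`
  have hnorm : ∀ e ∈ Subgroup.closure ((N : Set Γ) ∪ {t}), ∀ v ∈ V, e * v * e⁻¹ ∈ V ∧ e⁻¹ * v * e ∈ V := by
    intro e he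
    induction he using Subgroup.closure_induction with
    | mem x hx =>
      rcases hx with hx | hx
      · intro v hv
        refine ⟨h3 x hx v hv, ?_⟩
        have := h3 x⁻¹ (N.inv_mem hx) v hv
        rwa [inv_inv] at this
      · rw [Set.mem_singleton_iff] at hx
        subst hx
        intro v hv
        exact ⟨h4 v hv, h4' v hv⟩
    | one =>
      intro v hv
      simpa using hv
    | mul a b _ _ iha ihb =>
      intro v hv
      constructor
      · have e : a * b * v * (a * b)⁻¹ = a * (b * v * b⁻¹) * a⁻¹ := by group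
        rw [e]
        exact (iha _ (ihb v hv).1).1
      · have e : (a * b)⁻¹ * v * (a * b) = b⁻¹ * (a⁻¹ * v * a) * b := by group
        rw [e]
        exact (ihb _ (iha v hv).2).2
    | inv a _ iha =>
      intro v hv
      constructor
      · have := (iha v hv).2
        rwa [inv_inv]
      · have := (iha v hv).1
        rwa [inv_inv]
  -- commutators with the generators
  have hgen : ∀ e ∈ Subgroup.closure ((N : Set Γ) ∪ {t}), ∀ s ∈ ((N : Set Γ) ∪ {t}), cm e s ∈ V := by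
    intro e he
    induction he using Subgroup.closure_induction with
    | mem x hx =>
      intro s hs
      rcases hx with hx | hx
      · rcases hs with hs | hs
        · exact h1 x hx s hs
        · rw [Set.mem_singleton_iff] at hs
          subst hs
          rw [← cm_inv_swap]
          exact V.inv_mem (h2 x hx)
      · rw [Set.mem_singleton_iff] at hx
        subst hx
        rcases hs with hs | hs
        · exact h2 s hs
        · rw [Set.mem_singleton_iff] at hs
          subst hs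
          have e : cm s s = 1 := by unfold cm; group
          rw [e]
          exact V.one_mem
    | one =>
      intro s _
      have e : cm (1 : Γ) s = 1 := by unfold cm; group
      rw [e]
      exact V.one_mem
    | mul a b ha _ iha ihb =>
      intro s hs
      rw [cm_mul_left]
      exact V.mul_mem (hnorm a ha _ (ihb s hs)).1 (iha s hs)
    | inv a ha iha =>
      intro s hs
      rw [su3mp6_cm_inv_left]
      exact (hnorm a ha _ (V.inv_mem (iha s hs))).2
  -- all commutators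
  have hall : ∀ e ∈ Subgroup.closure ((N : Set Γ) ∪ {t}), ∀ e' ∈ Subgroup.closure ((N : Set Γ) ∪ {t}), cm e e' ∈ V := by
    intro e he e' he'
    induction he' using Subgroup.closure_induction with
    | mem s hs => exact hgen e he s hs
    | one =>
      have e1 : cm e (1 : Γ) = 1 := by unfold cm; group
      rw [e1]
      exact V.one_mem
    | mul a b ha _ iha ihb =>
      rw [cm_mul_right]
      exact V.mul_mem iha (hnorm a ha _ ihb).1
    | inv a ha iha =>
      rw [su3mp6_cm_inv_right]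
      exact (hnorm a ha _ (V.inv_mem iha)).2
  rw [Subgroup.commutator_le, hE]
  intro g₁ hg₁ g₂ hg₂
  exact hall g₁ hg₁ g₂ hg₂

/-- the preimage of `U ⊔ zpowers (π t)` under a surjection is generated by the preimage of `U` and `t` -/
theorem su3mp6_comap_sup {G : Type*} [Group G] (π : Γ →* G) (hsurj : Function.Surjective π) (U : Subgroup G) (t : Γ) :
    (U ⊔ Subgroup.zpowers (π t)).comap π = U.comap π ⊔ Subgroup.zpowers t := by
  rw [← Subgroup.comap_sup_eq _ _ _ hsurj, ← MonoidHom.map_zpowers, Subgroup.comap_map_eq]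
  apply le_antisymm
  · apply sup_le le_sup_left
    apply sup_le le_sup_right
    exact le_trans (MonoidHom.ker_le_comap π U) le_sup_left
  · apply sup_le le_sup_left
    exact le_trans le_sup_left le_sup_right

end generic

section P

variable {F : Type u} [Field F] [Fintype F] {K : Type u} [Field K] [Fintype K] {q : ℕ} {Γ : Type*} [Group Γ] {π : Γ →* ↥(Cfsg.SU 3 F q)}

theorem su3mp6_isUT_uu (σ : F →+* F) (b e : F) : IsUT (uu σ b e) := by
  refine ⟨⟨?_, ?_, ?_⟩, ?_, ?_, ?_⟩ <;> simp [uu]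

/-- `hz` normalises `Ug D` and `Ag D` -/
theorem su3mp6_hz_norm (D : Par F K q) (hF : Fintype.card F = q ^ 2) {hz : ↥(Cfsg.SU 3 F q)} (hhz : D.c.cj hz = dd D.σ (D.ζ : F)) :
    (∀ X ∈ Ug D, hz * X * hz⁻¹ ∈ Ug D) ∧ (∀ X ∈ Ag D, hz * X * hz⁻¹ ∈ Ag D) := by
  have hσσ : ∀ x, D.σ (D.σ x) = x := Cfsg.Agent.Lib.Lead.frob_frob hF D.σ D.hσ
  constructor
  · intro X hX
    rw [mem_Ug, isUT_iff D hσσ] at hX
    obtain ⟨α, β, -, hαβ⟩ := hX
    rw [mem_Ug, hz_conj D hF hhz X α β hαβ]
    exact su3mp6_isUT_uu D.σ _ _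
  · intro X hX
    rw [mem_Ag] at hX
    obtain ⟨e, he⟩ := hX
    rw [mem_Ag]
    refine ⟨D.bl * e, ?_⟩
    rw [hz_conj D hF hhz X 0 e he, mul_zero]

/-- P6 core: the statement of P6 from the statements of P3 `NA_central` and P4 `NU_comm` -/
theorem comm_le_Vg_core (D : Par F K q) (hF : Fintype.card F = q ^ 2) (hq : 3 ≤ q) (h : IsCE π) {hz : ↥(Cfsg.SU 3 F q)} (hhz : D.c.cj hz = dd D.σ (D.ζ : F))
    {t : Γ} (ht : π t = hz)
    (hP3 : ∀ y ∈ (Ag D).comap π, ∀ x ∈ (Ug D).comap π, x * y = y * x)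
    (hP4 : ∀ x ∈ (Ug D).comap π, ∀ x' ∈ (Ug D).comap π, cm x x' ∈ A0 D π t) :
    ⁅(Bg D hz).comap π, (Bg D hz).comap π⁆ ≤ Vg D π t := by
  have hfin : Finite ↥(Cfsg.SU 3 F q) := inferInstance
  obtain ⟨hzU, hzA⟩ := su3mp6_hz_norm D hF hhz
  have hzU' := su3mp6_inv_norm (Ug D) hz hzU
  have hzA' := su3mp6_inv_norm (Ag D) hz hzA
  -- `t` normalises `NU` and `NA`
  have htU : ∀ x ∈ (Ug D).comap π, t * x * t⁻¹ ∈ (Ug D).comap π := by
    intro x hx
    show π _ ∈ Ug D
    rw [map_mul, map_mul, map_inv, ht]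
    exact hzU _ hx
  have htU' : ∀ x ∈ (Ug D).comap π, t⁻¹ * x * t ∈ (Ug D).comap π := by
    intro x hx
    show π _ ∈ Ug D
    rw [map_mul, map_mul, map_inv, ht]
    exact hzU' _ hx
  have htA : ∀ y ∈ (Ag D).comap π, t * y * t⁻¹ ∈ (Ag D).comap π := by
    intro y hy
    show π _ ∈ Ag D
    rw [map_mul, map_mul, map_inv, ht]
    exact hzA _ hy
  have htA' : ∀ y ∈ (Ag D).comap π, t⁻¹ * y * t ∈ (Ag D).comap π := by
    intro y hy
    show π _ ∈ Ag D
    rw [map_mul, map_mul, map_inv, ht]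
    exact hzA' _ hy
  -- `A0 ≤ NA`
  have hA0NA : A0 D π t ≤ (Ag D).comap π := by
    unfold A0
    rw [Subgroup.closure_le]
    rintro g ⟨y, hy, rfl⟩
    exact ((Ag D).comap π).mul_mem (htA y hy) (((Ag D).comap π).inv_mem hy)
  -- `t^{±1}` normalise `A0`
  have hA0t : ∀ a ∈ A0 D π t, t * a * t⁻¹ ∈ A0 D π t := by
    intro a ha
    have hle : A0 D π t ≤ (A0 D π t).comap (MulAut.conj t).toMonoidHom := by
      conv_lhs => unfold A0
      rw [Subgroup.closure_le]
      rintro g ⟨y, hy, rfl⟩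
      show t * (t * y * t⁻¹ * y⁻¹) * t⁻¹ ∈ A0 D π t
      have e : t * (t * y * t⁻¹ * y⁻¹) * t⁻¹ = t * (t * y * t⁻¹) * t⁻¹ * (t * y * t⁻¹)⁻¹ := by group
      rw [e]
      exact Subgroup.subset_closure ⟨_, htA y hy, rfl⟩
    exact hle ha
  have hA0t' : ∀ a ∈ A0 D π t, t⁻¹ * a * t ∈ A0 D π t := by
    intro a ha
    have hle : A0 D π t ≤ (A0 D π t).comap (MulAut.conj t⁻¹).toMonoidHom := by
      conv_lhs => unfold A0
      rw [Subgroup.closure_le]
      rintro g ⟨y, hy, rfl⟩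
      show t⁻¹ * (t * y * t⁻¹ * y⁻¹) * t⁻¹⁻¹ ∈ A0 D π t
      have e : t⁻¹ * (t * y * t⁻¹ * y⁻¹) * t⁻¹⁻¹ = t * (t⁻¹ * y * t) * t⁻¹ * (t⁻¹ * y * t)⁻¹ := by group
      rw [e]
      exact Subgroup.subset_closure ⟨_, htA' y hy, rfl⟩
    have := hle ha
    simpa using this
  -- `A0 ≤ Vg`, `cm t x ∈ Vg`
  have hA0V : A0 D π t ≤ Vg D π t := by
    intro a ha
    apply Subgroup.subset_closure
    refine ⟨1, ((Ug D).comap π).one_mem, a, ha, ?_⟩
    group
  have hcmV : ∀ x ∈ (Ug D).comap π, cm t x ∈ Vg D π t := by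
    intro x hx
    apply Subgroup.subset_closure
    refine ⟨x, hx, 1, (A0 D π t).one_mem, ?_⟩
    unfold cm
    group
  have hcmU : ∀ x ∈ (Ug D).comap π, cm t x ∈ (Ug D).comap π := by
    intro x hx
    exact ((Ug D).comap π).mul_mem (htU x hx) (((Ug D).comap π).inv_mem hx)
  -- `NU` normalises `Vg`
  have h3 : ∀ x ∈ (Ug D).comap π, ∀ v ∈ Vg D π t, x * v * x⁻¹ ∈ Vg D π t := by
    intro x hx v hv
    have hle : Vg D π t ≤ (Vg D π t).comap (MulAut.conj x).toMonoidHom := by
      conv_lhs => unfold Vg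
      rw [Subgroup.closure_le]
      rintro g ⟨x', hx', a, ha, rfl⟩
      show x * (cm t x' * a) * x⁻¹ ∈ Vg D π t
      have hxa : x * a = a * x := hP3 a (hA0NA ha) x hx
      have e2 : x * a * x⁻¹ = a := by rw [hxa]; group
      have e : x * (cm t x' * a) * x⁻¹ = cm x (cm t x') * (cm t x' * a) := by
        have e1 : x * (cm t x' * a) * x⁻¹ = x * cm t x' * x⁻¹ * (x * a * x⁻¹) := by group
        rw [e1, e2, su3mp6_conj_eq x (cm t x'), mul_assoc]
      rw [e]
      refine (Vg D π t).mul_mem (hA0V (hP4 x hx _ (hcmU x' hx'))) ?_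
      exact Subgroup.subset_closure ⟨x', hx', a, ha, rfl⟩
    exact hle hv
  -- `t^{±1}` normalise `Vg`
  have h4 : ∀ v ∈ Vg D π t, t * v * t⁻¹ ∈ Vg D π t := by
    intro v hv
    have hle : Vg D π t ≤ (Vg D π t).comap (MulAut.conj t).toMonoidHom := by
      conv_lhs => unfold Vg
      rw [Subgroup.closure_le]
      rintro g ⟨x', hx', a, ha, rfl⟩
      show t * (t * x' * t⁻¹ * x'⁻¹ * a) * t⁻¹ ∈ Vg D π t
      have e : t * (t * x' * t⁻¹ * x'⁻¹ * a) * t⁻¹ = t * (t * x' * t⁻¹) * t⁻¹ * (t * x' * t⁻¹)⁻¹ * (t * a * t⁻¹) := by group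
      rw [e]
      exact Subgroup.subset_closure ⟨_, htU x' hx', _, hA0t a ha, rfl⟩
    exact hle hv
  have h4' : ∀ v ∈ Vg D π t, t⁻¹ * v * t ∈ Vg D π t := by
    intro v hv
    have hle : Vg D π t ≤ (Vg D π t).comap (MulAut.conj t⁻¹).toMonoidHom := by
      conv_lhs => unfold Vg
      rw [Subgroup.closure_le]
      rintro g ⟨x', hx', a, ha, rfl⟩
      show t⁻¹ * (t * x' * t⁻¹ * x'⁻¹ * a) * t⁻¹⁻¹ ∈ Vg D π t
      have e : t⁻¹ * (t * x' * t⁻¹ * x'⁻¹ * a) * t⁻¹⁻¹ = t * (t⁻¹ * x' * t) * t⁻¹ * (t⁻¹ * x' * t)⁻¹ * (t⁻¹ * a * t) := by group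
      rw [e]
      exact Subgroup.subset_closure ⟨_, htU' x' hx', _, hA0t' a ha, rfl⟩
    have := hle hv
    simpa using this
  have hB : (Bg D hz).comap π = (Ug D).comap π ⊔ Subgroup.zpowers t := by
    unfold Bg
    rw [← ht]
    exact su3mp6_comap_sup π h.surj (Ug D) t
  rw [hB]
  exact su3mp6_generic ((Ug D).comap π) (Vg D π t) t (fun x hx x' hx' => hA0V (hP4 x hx x' hx')) hcmV h3 h4 h4'

end P

end Cfsg.Agent.Lib.Helper24.SU3M
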