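import Mathlib
import Cfsg.Agent.Lib.Helper24.SU3M.Defs
import Cfsg.Agent.Lib.helper7.CeA
import Cfsg.Agent.Lib.Helper19.SL2Normal
import Cfsg.Agent.Lib.helper15.SU3MG5
import Cfsg.Agent.Lib.Helper21.SU3ME2
import Cfsg.Agent.Lib.Helper21.SU3ME5

/-!
# Project SU3M (designer helper24; rank one half of S2089), row E6 (`Mg_hS`), VERBATIM (helper23)

`comm_le_core` (G5, `helper15.SU3MG5`) with `L := ρ.range`, `d := hz` (`rho_norm`, E2; `SL₂(K)` is perfect), then `sl2_core` (E5).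
-/

set_option autoImplicit false
set_option linter.unusedSectionVars false
set_option linter.unusedVariables false

namespace Cfsg.Agent.Lib.Helper24.SU3M

open Cfsg.Agent.Lib.Helper19.U3P Cfsg.Agent.Lib.Helper25.SU3P Cfsg.Agent.Lib.helper14.SU3J Cfsg.Agent.Lib.helper7.Ce Matrix Polynomial

universe u

section generic

variable {H G : Type*} [Group H] [Group G]

/-- the range of a homomorphism from a perfect group is perfect -/
theorem su3me6_range_perfect (hH : commutator H = ⊤) (ρ : H →* G) : ∀ g ∈ ρ.range, g ∈ ⁅ρ.range, ρ.range⁆ := by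
  have h2 := Subgroup.map_commutator (⊤ : Subgroup H) ⊤ ρ
  rw [← commutator_def, hH, ← MonoidHom.range_eq_map] at h2
  intro g hg
  rw [← h2]
  exact hg

end generic

section E

variable {F : Type u} [Field F] [Fintype F] {K : Type u} [Field K] [Fintype K] {q : ℕ} {Γ : Type*} [Group Γ] {π : Γ →* ↥(Cfsg.SU 3 F q)}

/-- E6 [S-M]  `comm_le_core` with `L := ρ.range`, `d := hz` (`rho_norm`; `hperf`: `SL₂(K)` perfect, mapped by `ρ`), then `sl2_core`. -/
theorem Mg_hS (D : Par F K q) (hF : Fintype.card F = q ^ 2) (hK : Fintype.card K = q) (hq : Odd q) (hq5 : 5 ≤ q) [Finite Γ] (h : IsCE π)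
    {ε : F} {hz : ↥(Cfsg.SU 3 F q)} {ρ : SL2 K →* ↥(Cfsg.SU 3 F q)} (hD : Dat D ε hz ρ) :
    ∀ w ∈ ⁅(Mg hz ρ).comap π, (Mg hz ρ).comap π⁆, π w = 1 → w ^ 2 = 1 → w = 1 := by
  have hperfK : commutator (SL2 K) = ⊤ :=
    Cfsg.Agent.Lib.Helper19.SL2Normal.commutator_eq_top (by rw [Nat.card_eq_fintype_card, hK]; omega)
  have hn := rho_norm D hF hD
  have hle := comm_le_core h ρ.range hz hn.1 hn.2 (su3me6_range_perfect hperfK ρ)
  intro w hw
  exact sl2_core D hF hK hq hq5 h hD w (hle hw)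

end E

end Cfsg.Agent.Lib.Helper24.SU3M
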