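import Mathlib
import Cfsg.Agent.Lib.helper7.CEU.Defs
import Cfsg.Agent.Lib.Helper27.STU.Defs3

/-!
# Project CEU (designer helper7; S2089, `n ≥ 4`), row N1, VERBATIM (helper23):
`exists_sq_ne_one_frob`, `exists_fixed_ne_one`, `exists_fixed_sq_ne_one` (field elements for `star x = x ^ q` on a field with `q²` elements).
Extra: `ceun1_gen` (a generator of `Fˣ` of order `q² - 1`).
-/

set_option autoImplicit false

namespace Cfsg.Agent.Lib.helper7.CEU

open Cfsg.Agent.Lib.helper15.St2 Cfsg.Agent.Lib.helper7.Ce Cfsg.Agent.Lib.helper3.STC Cfsg.Agent.Lib.Helper27.STU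

open Cfsg.Agent.Lib.helper7.CEC (I2 I3 I4 U2 U3)

section N

universe u

variable {F : Type u} [Field F] [Fintype F] {q : ℕ}

/-- `2 ≤ q`, and a generator of `Fˣ`, of order `q² - 1` -/
theorem ceun1_gen (hF : Fintype.card F = q ^ 2) : 2 ≤ q ∧ ∃ g : Fˣ, orderOf g = q ^ 2 - 1 := by
  have h1 : 1 < Fintype.card F := Fintype.one_lt_card
  have hq : 2 ≤ q := by
    by_contra hlt
    have : q ≤ 1 := by omega
    have : q ^ 2 ≤ 1 := by
      interval_cases q <;> simp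
    omega
  refine ⟨hq, ?_⟩
  obtain ⟨g, hg⟩ := IsCyclic.exists_generator (α := Fˣ)
  refine ⟨g, ?_⟩
  rw [orderOf_eq_card_of_forall_mem_zpowers hg, Nat.card_units, Nat.card_eq_fintype_card, hF]

/-- N1 [S-M] -/
theorem exists_sq_ne_one_frob (hF : Fintype.card F = q ^ 2) : ∃ s : F, s ≠ 0 ∧ s ^ 2 ≠ 1 := by
  obtain ⟨hq, g, hg⟩ := ceun1_gen hF
  refine ⟨(g : F), g.ne_zero, ?_⟩
  intro h
  have h1 : g ^ 2 = 1 := by
    apply Units.ext
    rw [Units.val_pow_eq_pow_val, h, Units.val_one]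
  have h2 := orderOf_dvd_of_pow_eq_one h1
  rw [hg] at h2
  have h3 := Nat.le_of_dvd (by norm_num) h2
  have h4 : 4 ≤ q ^ 2 := by nlinarith
  omega

theorem exists_fixed_ne_one (hF : Fintype.card F = q ^ 2) (hq : 3 ≤ q) : ∃ r : F, r ^ q = r ∧ r ≠ 0 ∧ r ≠ 1 := by
  obtain ⟨-, g, hg⟩ := ceun1_gen hF
  have hfix : (g ^ (q + 1)) ^ q = g ^ (q + 1) := by
    rw [← pow_mul]
    have e : (q + 1) * q = (q ^ 2 - 1) + (q + 1) := by
      have : 1 ≤ q ^ 2 := Nat.one_le_pow _ _ (by omega)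
      zify [this]
      ring
    rw [e, pow_add, ← hg, pow_orderOf_eq_one, one_mul]
  refine ⟨((g ^ (q + 1) : Fˣ) : F), ?_, Units.ne_zero _, ?_⟩
  · rw [← Units.val_pow_eq_pow_val, hfix]
  · intro h
    have h1 : g ^ (q + 1) = 1 := Units.ext (by rw [h, Units.val_one])
    have h2 := orderOf_dvd_of_pow_eq_one h1
    rw [hg] at h2
    have h3 := Nat.le_of_dvd (by omega) h2
    have h4 : 3 * q ≤ q ^ 2 := by nlinarith
    omega

theorem exists_fixed_sq_ne_one (hF : Fintype.card F = q ^ 2) (hq : 4 ≤ q) : ∃ r : F, r ^ q = r ∧ r ≠ 0 ∧ r ^ 2 ≠ 1 := by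
  obtain ⟨-, g, hg⟩ := ceun1_gen hF
  have hfix : (g ^ (q + 1)) ^ q = g ^ (q + 1) := by
    rw [← pow_mul]
    have e : (q + 1) * q = (q ^ 2 - 1) + (q + 1) := by
      have : 1 ≤ q ^ 2 := Nat.one_le_pow _ _ (by omega)
      zify [this]
      ring
    rw [e, pow_add, ← hg, pow_orderOf_eq_one, one_mul]
  refine ⟨((g ^ (q + 1) : Fˣ) : F), ?_, Units.ne_zero _, ?_⟩
  · rw [← Units.val_pow_eq_pow_val, hfix]
  · intro h
    have h1 : g ^ ((q + 1) * 2) = 1 := by
      rw [pow_mul]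
      apply Units.ext
      rw [Units.val_pow_eq_pow_val, h, Units.val_one]
    have h2 := orderOf_dvd_of_pow_eq_one h1
    rw [hg] at h2
    have h3 := Nat.le_of_dvd (by omega) h2
    have h4 : 4 * q ≤ q ^ 2 := by nlinarith
    omega

end N

end Cfsg.Agent.Lib.helper7.CEU
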