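import Mathlib
import Cfsg.Agent.Lib.helper3.CEUO.Defs2
import Cfsg.Agent.Lib.Helper27.STU.Defs3
import Cfsg.Agent.Lib.Helper27.STU.Frob
import Cfsg.Agent.Lib.Helper12.SU3S.Equiv
import Cfsg.Agent.Lib.Helper12.SU3S.P2
import Cfsg.Agent.Lib.Helper9.U3PF4

/-!
# Project CEUO (sub-designer helper3; S2089 odd case), row P3 `pres_two_sum`, CORE (helper23)

`ceuop3_core hF hP1`: the conclusion of P3 with the statement of P1 `pres_two_x` (for `F`, all `φ₀`, `c`) as hypothesis `hP1`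
(P2 `four_facts` is not needed: only `2 = 0`, proved here as `ceuop3_two`, from helper12's `four_field_data`).
-/

set_option autoImplicit false
set_option linter.unusedVariables false

namespace Cfsg.Agent.Lib.helper3.CEUO

open Cfsg.Agent.Lib.helper15.St2 Cfsg.Agent.Lib.helper7.Ce Cfsg.Agent.Lib.helper3.STC Cfsg.Agent.Lib.Helper27.STU
  Cfsg.Agent.Lib.helper7.CEU

section P

universe u w

variable {F : Type u} [Field F] [Fintype F]

/-- the field with four elements has characteristic two -/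
theorem ceuop3_two (hF : Fintype.card F = 2 ^ 2) : (2 : F) = 0 := by
  obtain ⟨r, h1, h2, -⟩ := Cfsg.Agent.Lib.Helper12.SU3S.four_field_data hF
  rw [Nat.cast_one, one_mul] at h1
  rw [Nat.cast_one] at h2
  have hr0 : r ≠ 0 := by
    intro h
    rw [h] at h1
    simp at h1
  have h3 : r * 2 = 0 := by linear_combination h2 - h1
  rcases mul_eq_zero.1 h3 with h | h
  · exact absurd h hr0
  · exact h

theorem ceuop3_core (hF : Fintype.card F = 2 ^ 2)
    (hP1 : ∀ {φ₀ : F →+* F} (hφ₀ : ∀ x, φ₀ x = x ^ 2) (c : Cfsg.Agent.Lib.Helper25.SU3P.Coords F 2 φ₀),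
      ∃ (r : F) (g : Fin 3 → ↥(Cfsg.SU 3 F 2)), r * r = r + 1 ∧
        c.cj (g 0) = !![1, 1, r; 0, 1, 1; 0, 0, 1] ∧ c.cj (g 1) = !![1, r, r; 0, 1, 1 + r; 0, 0, 1] ∧
        c.cj (g 2) = !![0, 0, 1; 0, 1, 0; 1, 0, 0] ∧
        ∀ {K : Type w} [Group K] (a a' w : K), a * a * a * a = 1 → a * a * a' * a' = 1 → a * a' * a * a'⁻¹ = 1 →
          a * w * a' * w * a'⁻¹ * w⁻¹ * a⁻¹ * w⁻¹ = 1 → a * a * w * a * a * w * a⁻¹ * a⁻¹ * w⁻¹ = 1 →
          ∃ φ : ↥(Cfsg.SU 3 F 2) →* K, φ (g 0) = a ∧ φ (g 1) = a' ∧ φ (g 2) = w) :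
    letI := frobStar hF
    ∃ p q ζ₀ : Lam F True, p.v = 1 ∧ q.v = p.c ∧ q.c = p.c ∧ p.c * p.c = p.c + 1 ∧ ζ₀.v = 0 ∧ ζ₀.c = 1 ∧
      ∀ {K : Type w} [Group K] (a a' w : K), a * a * a * a = 1 → a * a * a' * a' = 1 → a * a' * a * a'⁻¹ = 1 →
        a * w * a' * w * a'⁻¹ * w⁻¹ * a⁻¹ * w⁻¹ = 1 → a * a * w * a * a * w * a⁻¹ * a⁻¹ * w⁻¹ = 1 →
        ∃ φ : ↥(SUm F True) →* K, φ (XpU p) = a ∧ φ (XpU q) = a' ∧ φ (XpU ζ₀ * XmU ζ₀ * XpU ζ₀) = w := by
  let _ := frobStar hF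
  have h2 : (2 : F) = 0 := ceuop3_two hF
  obtain ⟨φ₀, hφ₀⟩ := Cfsg.Agent.Lib.Lead.exists_frob hF
  obtain ⟨c⟩ := Cfsg.Agent.Lib.Helper19.U3P.exists_coords0 hF φ₀ hφ₀
  obtain ⟨e, he⟩ := Cfsg.Agent.Lib.Helper12.SU3S.sum_equiv hF (fun _ => rfl) hφ₀ c
  obtain ⟨r, g, hr, hg0, hg1, hg2, huniv⟩ := hP1 hφ₀ c
  have hstar : ∀ x : F, star x = x ^ 2 := fun _ => rfl
  have hneg : ∀ x : F, -x = x := by
    intro x
    have : x + x = 0 := by linear_combination x * h2
    exact neg_eq_of_add_eq_zero_left this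
  have hp : r + star r + 1 * star (1 : F) = 0 := by
    rw [hstar, hstar]
    linear_combination hr + (r + 1) * h2
  have hq : r + star r + r * star r = 0 := by
    rw [hstar]
    linear_combination r * hr + (r ^ 2 + r) * h2
  have hz : (1 : F) + star (1 : F) + 0 * star (0 : F) = 0 := by
    rw [hstar, hstar]
    linear_combination h2
  refine ⟨⟨1, r, hp, fun h => absurd trivial h⟩, ⟨r, r, hq, fun h => absurd trivial h⟩,
    ⟨0, 1, hz, fun h => absurd trivial h⟩, rfl, rfl, rfl, hr, rfl, rfl, ?_⟩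
  · intro K _ a a' w h1 h2' h3 h4 h5
    obtain ⟨φ, hφ0, hφ1, hφ2⟩ := huniv a a' w h1 h2' h3 h4 h5
    refine ⟨φ.comp e.toMonoidHom, ?_, ?_, ?_⟩
    · have e0 : e (XpU (⟨1, r, hp, fun h => absurd trivial h⟩ : Lam F True)) = g 0 := by
        apply c.cj_inj
        rw [he, hg0]
        show XpM _ = _
        ext i j
        fin_cases i <;> fin_cases j <;> simp [XpM, hstar, hneg]
      show φ (e (XpU _)) = a
      rw [e0, hφ0]
    · have e1 : e (XpU (⟨r, r, hq, fun h => absurd trivial h⟩ : Lam F True)) = g 1 := by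
        apply c.cj_inj
        rw [he, hg1]
        show XpM _ = _
        ext i j
        fin_cases i <;> fin_cases j <;> simp [XpM, hstar, hneg]
        linear_combination hr
      show φ (e (XpU _)) = a'
      rw [e1, hφ1]
    · have e2 : e (XpU (⟨0, 1, hz, fun h => absurd trivial h⟩ : Lam F True) * XmU ⟨0, 1, hz, fun h => absurd trivial h⟩ *
          XpU ⟨0, 1, hz, fun h => absurd trivial h⟩) = g 2 := by
        apply c.cj_inj
        rw [he, hg2]
        show XpM _ * XmM _ * XpM _ = _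
        ext i j
        fin_cases i <;> fin_cases j <;>
          simp [XpM, XmM, hstar, hneg, Matrix.mul_apply, Fin.sum_univ_three] <;> linear_combination h2
      show φ (e _) = w
      rw [e2, hφ2]

end P

end Cfsg.Agent.Lib.helper3.CEUO
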