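import Mathlib
import Cfsg.Agent.Lib.helper3.CEUO.Defs2
import Cfsg.Agent.Lib.Helper27.STU.Defs3
import Cfsg.Agent.Lib.Helper27.STU.Frob
import Cfsg.Agent.Lib.Helper12.SU3S.Equiv
import Cfsg.Agent.Lib.Helper12.SU3S.P2
import Cfsg.Agent.Lib.Helper22.CEUOP1
import Cfsg.Agent.Lib.Helper11.CEUOP2
import Cfsg.Agent.Lib.Helper9.CEUOP6
import Cfsg.Agent.Lib.Helper9.CEUOP7
import Cfsg.Agent.Lib.helper23.CEUOP3core
import Cfsg.Agent.Lib.helper23.CEUON2core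

/-!
# Project CEUO (sub-designer helper3; S2089 odd case), rows P3 `pres_two_sum` and N2 = P8 `r1univ_four`, VERBATIM (helper23)

`ceuop3_core` on helper22's P1 `pres_two_x`; `ceuop8_core` on P3, helper11's P4 `sW_four`, helper9's P6 `lam_four_gen` and P7 `rels_four`.
-/

set_option autoImplicit false

namespace Cfsg.Agent.Lib.helper3.CEUO

open Cfsg.Agent.Lib.helper15.St2 Cfsg.Agent.Lib.helper7.Ce Cfsg.Agent.Lib.helper3.STC Cfsg.Agent.Lib.Helper27.STU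
  Cfsg.Agent.Lib.helper7.CEU

section P

universe u w

variable {F : Type u} [Field F] [Fintype F]

/-- P3 [M]  transport to the rank one group. -/
theorem pres_two_sum (hF : Fintype.card F = 2 ^ 2) :
    letI := frobStar hF
    ∃ p q ζ₀ : Lam F True, p.v = 1 ∧ q.v = p.c ∧ q.c = p.c ∧ p.c * p.c = p.c + 1 ∧ ζ₀.v = 0 ∧ ζ₀.c = 1 ∧
      ∀ {K : Type w} [Group K] (a a' w : K), a * a * a * a = 1 → a * a * a' * a' = 1 → a * a' * a * a'⁻¹ = 1 →
        a * w * a' * w * a'⁻¹ * w⁻¹ * a⁻¹ * w⁻¹ = 1 → a * a * w * a * a * w * a⁻¹ * a⁻¹ * w⁻¹ = 1 →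
        ∃ φ : ↥(SUm F True) →* K, φ (XpU p) = a ∧ φ (XpU q) = a' ∧ φ (XpU ζ₀ * XmU ζ₀ * XpU ζ₀) = w :=
  ceuop3_core hF (fun hφ₀ c => pres_two_x hF hφ₀ c)

/-- P8 [M]  = row N2 of `Skel.lean.txt`. -/
theorem r1univ_four (hF : Fintype.card F = 2 ^ 2) {Δ : Type w} [Group Δ] :
    letI := frobStar hF
    R1Univ F True Δ :=
  ceuop8_core hF (pres_two_sum hF) (sW_four hF) (lam_four_gen hF) (rels_four hF)

end P

end Cfsg.Agent.Lib.helper3.CEUO
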