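import Mathlib
import Cfsg.Agent.Lib.helper14.DBN.Defs

/-!
Project DBN (designer helper14), row COMB (helper23): combinatorics of even signed permutations.
-/

set_option autoImplicit false

namespace Cfsg.Agent.Lib.helper14.DBN

open Matrix
open Cfsg.Agent.Lib.helper14.UBN Cfsg.Agent.Lib.helper14.OBN

universe u
variable {F : Type u} [Field F] {n : ℕ}

theorem dbncomb_rk_rv (x : Fin n) : rk (rv x) = n - 1 - rk x := by
  have := rk_add_rv x
  omega

/-- the last node: `tauS` is a transposition -/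
theorem dbncomb_tauS_last (k : Fin (n / 2)) (hk : ¬ k.val + 1 < n / 2) :
    tauS k = Equiv.swap (pa k) (rv (pa k)) := by
  apply Equiv.ext
  intro x
  rw [tauS_apply, pc_of_not_lt k hk]
  unfold tauF
  rw [rv_rv]
  by_cases h1 : x = pa k
  · rw [if_pos h1, h1, Equiv.swap_apply_left]
  · rw [if_neg h1]
    by_cases h2 : x = rv (pa k)
    · rw [if_pos h2, h2, Equiv.swap_apply_right]
    · rw [if_neg h2, if_neg h2, if_neg h1, Equiv.swap_apply_of_ne_of_ne h1 h2]

theorem dbncomb_sign_tauS_last (k : Fin (n / 2)) (hk : ¬ k.val + 1 < n / 2) :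
    Equiv.Perm.sign (tauS k) = -1 := by
  rw [dbncomb_tauS_last k hk]
  exact Equiv.Perm.sign_swap (rv_pa_ne k).symm

/-- `tauS` of the last node fixes everything of rank different from `n/2 - 1`, `n/2` (`n` even) -/
theorem dbncomb_tauS_last_fix (hn2 : 2 ≤ n) (hn : n % 2 = 0) (x : Fin n) (h1 : rk x ≠ n / 2 - 1)
    (h2 : rk x ≠ n / 2) : tauS (kL hn2) x = x := by
  have hk : ¬ (kL hn2 : Fin (n / 2)).val + 1 < n / 2 := by
    rw [kL_val]; omega
  rw [dbncomb_tauS_last _ hk]
  apply Equiv.swap_apply_of_ne_of_ne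
  · intro e
    apply h1
    rw [e, rk_pa, kL_val]
  · intro e
    apply h2
    rw [e, dbncomb_rk_rv, rk_pa, kL_val]
    omega

theorem dbncomb_kL_not_lt (hn2 : 2 ≤ n) : ¬ (kL hn2 : Fin (n / 2)).val + 1 < n / 2 := by
  rw [kL_val]; omega

theorem dbncomb_pc_kP (hn4 : 4 ≤ n) : pc (kP hn4) = pa (kL (le_trans (by norm_num) hn4)) := by
  apply rk_injective
  have h : (kP hn4 : Fin (n / 2)).val + 1 < n / 2 := by rw [kP_val]; omega
  rw [pc_of_lt _ h, rk_pa, kP_val, kL_val]
  omega

theorem dbncomb_rv_pc_kP (hn4 : 4 ≤ n) :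
    rv (pc (kP hn4)) = pc (kL (le_trans (by norm_num) hn4)) := by
  rw [dbncomb_pc_kP hn4, pc_of_not_lt _ (dbncomb_kL_not_lt _)]

/-- a node `k` with `k + 1 < n / 2` is `kP` or has `k + 2 < n / 2` -/
theorem dbncomb_node_cases (hn4 : 4 ≤ n) (k : Fin (n / 2)) (hk : k.val + 1 < n / 2) :
    k = kP hn4 ∨ k.val + 2 < n / 2 := by
  by_cases h : k.val + 2 < n / 2
  · exact Or.inr h
  · left
    apply Fin.ext
    rw [kP_val]
    omega

/-- the values of `π * tauS kL` on the simple pairs -/
theorem dbncomb_shift (hn4 : 4 ≤ n) (hn : n % 2 = 0) (π : Equiv.Perm (Fin n)) :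
    (π * tauS (kL (le_trans (by norm_num) hn4))) (pa (kL (le_trans (by norm_num) hn4))) =
        π (pc (kL (le_trans (by norm_num) hn4))) ∧
    (π * tauS (kL (le_trans (by norm_num) hn4))) (pc (kL (le_trans (by norm_num) hn4))) =
        π (pa (kL (le_trans (by norm_num) hn4))) ∧
    (π * tauS (kL (le_trans (by norm_num) hn4))) (pa (kP hn4)) = π (pa (kP hn4)) ∧
    (π * tauS (kL (le_trans (by norm_num) hn4))) (pc (kP hn4)) = π (rv (pc (kP hn4))) ∧
    (π * tauS (kL (le_trans (by norm_num) hn4))) (rv (pc (kP hn4))) = π (pc (kP hn4)) ∧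
    ∀ k : Fin (n / 2), k.val + 2 < n / 2 →
      (π * tauS (kL (le_trans (by norm_num) hn4))) (pa k) = π (pa k) ∧
      (π * tauS (kL (le_trans (by norm_num) hn4))) (pc k) = π (pc k) := by
  have hn2 : 2 ≤ n := le_trans (by norm_num) hn4
  refine ⟨?_, ?_, ?_, ?_, ?_, ?_⟩
  · rw [Equiv.Perm.mul_apply, tauS_pa]
  · rw [Equiv.Perm.mul_apply, tauS_pc]
  · rw [Equiv.Perm.mul_apply, dbncomb_tauS_last_fix hn2 hn]
    · rw [rk_pa, kP_val]; omega
    · rw [rk_pa, kP_val]; omega
  · rw [Equiv.Perm.mul_apply, dbncomb_rv_pc_kP hn4, dbncomb_pc_kP hn4, tauS_pa]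
  · rw [Equiv.Perm.mul_apply, dbncomb_rv_pc_kP hn4, dbncomb_pc_kP hn4, tauS_pc]
  · intro k hk
    have hk1 : k.val + 1 < n / 2 := by omega
    constructor
    · rw [Equiv.Perm.mul_apply, dbncomb_tauS_last_fix hn2 hn]
      · rw [rk_pa]; omega
      · rw [rk_pa]; omega
    · rw [Equiv.Perm.mul_apply, dbncomb_tauS_last_fix hn2 hn]
      · rw [pc_of_lt k hk1]; omega
      · rw [pc_of_lt k hk1]; omega

theorem perm_eq_one_of_simpleD (hn4 : 4 ≤ n) (hn : n % 2 = 0) (π : Equiv.Perm (Fin n))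
    (hπ : RvC π) (hs : Equiv.Perm.sign π = 1)
    (H : ∀ k : Fin (n / 2), k.val + 1 < n / 2 → rk (π (pa k)) < rk (π (pc k)))
    (HD : rk (π (pa (kP hn4))) < rk (π (rv (pc (kP hn4))))) : π = 1 := by
  have hn2 : 2 ≤ n := le_trans (by norm_num) hn4
  have hkL := dbncomb_kL_not_lt hn2
  by_cases hA : rk (π (pa (kL hn2))) < rk (π (pc (kL hn2)))
  · apply perm_eq_one_of_simple π hπ
    intro k
    by_cases hk : k.val + 1 < n / 2
    · exact H k hk
    · have : k = kL hn2 := by
        apply Fin.ext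
        rw [kL_val]
        have := k.2
        omega
      rw [this]
      exact hA
  · exfalso
    have hne : rk (π (pa (kL hn2))) ≠ rk (π (pc (kL hn2))) := by
      intro e
      exact pa_ne_pc (kL hn2) (π.injective (rk_injective e))
    have hB : rk (π (pc (kL hn2))) < rk (π (pa (kL hn2))) := by omega
    obtain ⟨s1, s2, s3, s4, _, s6⟩ := dbncomb_shift hn4 hn π
    have h1 : π * tauS (kL hn2) = 1 := by
      apply perm_eq_one_of_simple _ (RvC_mul hπ (RvC_tauS _))
      intro k
      by_cases hk : k.val + 1 < n / 2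
      · rcases dbncomb_node_cases hn4 k hk with rfl | hk2
        · rw [s3, s4]
          exact HD
        · rw [(s6 k hk2).1, (s6 k hk2).2]
          exact H k hk
      · have : k = kL hn2 := by
          apply Fin.ext
          rw [kL_val]
          have := k.2
          omega
        rw [this, s1, s2]
        exact hB
    have h2 : π = tauS (kL hn2) := by
      calc π = π * (tauS (kL hn2) * tauS (kL hn2)) := by rw [tauS_mul_self, mul_one]
        _ = (π * tauS (kL hn2)) * tauS (kL hn2) := (mul_assoc _ _ _).symm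
        _ = tauS (kL hn2) := by rw [h1, one_mul]
    rw [h2, dbncomb_sign_tauS_last _ hkL] at hs
    exact absurd hs (by decide)

theorem perm_eq_w0_of_simpleD (hn4 : 4 ≤ n) (hn : n % 2 = 0) (π : Equiv.Perm (Fin n))
    (hπ : RvC π) (hs : Equiv.Perm.sign π = 1)
    (H : ∀ k : Fin (n / 2), k.val + 1 < n / 2 → rk (π (pc k)) < rk (π (pa k)))
    (HD : rk (π (rv (pc (kP hn4)))) < rk (π (pa (kP hn4)))) : π = w0D hn4 := by
  have hn2 : 2 ≤ n := le_trans (by norm_num) hn4
  have hkL := dbncomb_kL_not_lt hn2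
  by_cases hA : rk (π (pc (kL hn2))) < rk (π (pa (kL hn2)))
  · have h1 : π = rvPerm n := by
      apply perm_eq_rv_of_simple π hπ
      intro k
      by_cases hk : k.val + 1 < n / 2
      · exact H k hk
      · have : k = kL hn2 := by
          apply Fin.ext
          rw [kL_val]
          have := k.2
          omega
        rw [this]
        exact hA
    unfold w0D
    rw [if_pos (by rw [← h1]; exact hs)]
    exact h1
  · have hne : rk (π (pa (kL hn2))) ≠ rk (π (pc (kL hn2))) := by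
      intro e
      exact pa_ne_pc (kL hn2) (π.injective (rk_injective e))
    have hB : rk (π (pa (kL hn2))) < rk (π (pc (kL hn2))) := by omega
    obtain ⟨s1, s2, s3, s4, _, s6⟩ := dbncomb_shift hn4 hn π
    have h1 : π * tauS (kL hn2) = rvPerm n := by
      apply perm_eq_rv_of_simple _ (RvC_mul hπ (RvC_tauS _))
      intro k
      by_cases hk : k.val + 1 < n / 2
      · rcases dbncomb_node_cases hn4 k hk with rfl | hk2
        · rw [s3, s4]
          exact HD
        · rw [(s6 k hk2).1, (s6 k hk2).2]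
          exact H k hk
      · have : k = kL hn2 := by
          apply Fin.ext
          rw [kL_val]
          have := k.2
          omega
        rw [this, s1, s2]
        exact hB
    have h2 : π = rvPerm n * tauS (kL hn2) := by
      calc π = π * (tauS (kL hn2) * tauS (kL hn2)) := by rw [tauS_mul_self, mul_one]
        _ = (π * tauS (kL hn2)) * tauS (kL hn2) := (mul_assoc _ _ _).symm
        _ = rvPerm n * tauS (kL hn2) := by rw [h1]
    have h3 : Equiv.Perm.sign (rvPerm n) ≠ 1 := by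
      intro e
      rw [h2, Equiv.Perm.sign_mul, e, one_mul, dbncomb_sign_tauS_last _ hkL] at hs
      exact absurd hs (by decide)
    unfold w0D
    rw [if_neg h3]
    exact h2

theorem dbncomb_rv_comm (τ : Equiv.Perm (Fin n)) (hτ : RvC τ) : τ * rvPerm n = rvPerm n * τ := by
  ext x
  rw [Equiv.Perm.mul_apply, Equiv.Perm.mul_apply, rvPerm_apply, rvPerm_apply, hτ]

theorem w0D_mul_self (hn4 : 4 ≤ n) : w0D hn4 * w0D hn4 = (1 : Equiv.Perm (Fin n)) := by
  unfold w0D
  by_cases h : Equiv.Perm.sign (rvPerm n) = 1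
  · rw [if_pos h]
    exact rvPerm_mul_self
  · rw [if_neg h]
    calc rvPerm n * tauS (kL (le_trans (by norm_num) hn4)) *
          (rvPerm n * tauS (kL (le_trans (by norm_num) hn4)))
        = rvPerm n * (tauS (kL (le_trans (by norm_num) hn4)) * rvPerm n) *
          tauS (kL (le_trans (by norm_num) hn4)) := by simp only [mul_assoc]
      _ = rvPerm n * (rvPerm n * tauS (kL (le_trans (by norm_num) hn4))) *
          tauS (kL (le_trans (by norm_num) hn4)) := by rw [dbncomb_rv_comm _ (RvC_tauS _)]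
      _ = (rvPerm n * rvPerm n) * (tauS (kL (le_trans (by norm_num) hn4)) *
          tauS (kL (le_trans (by norm_num) hn4))) := by simp only [mul_assoc]
      _ = 1 := by rw [rvPerm_mul_self, tauS_mul_self, one_mul]

theorem RvC_w0D (hn4 : 4 ≤ n) : RvC (w0D hn4 : Equiv.Perm (Fin n)) := by
  unfold w0D
  by_cases h : Equiv.Perm.sign (rvPerm n) = 1
  · rw [if_pos h]
    exact RvC_rvPerm
  · rw [if_neg h]
    exact RvC_mul RvC_rvPerm (RvC_tauS _)

theorem sign_w0D (hn4 : 4 ≤ n) (hn : n % 2 = 0) :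
    Equiv.Perm.sign (w0D hn4 : Equiv.Perm (Fin n)) = 1 := by
  unfold w0D
  by_cases h : Equiv.Perm.sign (rvPerm n) = 1
  · rw [if_pos h]
    exact h
  · rw [if_neg h]
    have h' : Equiv.Perm.sign (rvPerm n) = -1 := by
      rcases Int.units_eq_one_or (Equiv.Perm.sign (rvPerm n)) with e | e
      · exact absurd e h
      · exact e
    rw [Equiv.Perm.sign_mul, h', dbncomb_sign_tauS_last _ (dbncomb_kL_not_lt _)]
    decide

/-- all `D`-simple roots are made negative by `w0D` -/
theorem w0D_neg (hn4 : 4 ≤ n) (hn : n % 2 = 0) :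
    (∀ k : Fin (n / 2), k.val + 1 < n / 2 →
      rk ((w0D hn4 : Equiv.Perm (Fin n)) (pc k)) < rk ((w0D hn4 : Equiv.Perm (Fin n)) (pa k))) ∧
    rk ((w0D hn4 : Equiv.Perm (Fin n)) (rv (pc (kP hn4)))) <
      rk ((w0D hn4 : Equiv.Perm (Fin n)) (pa (kP hn4))) := by
  have hn2 : 2 ≤ n := le_trans (by norm_num) hn4
  have hkP : (kP hn4 : Fin (n / 2)).val + 1 < n / 2 := by rw [kP_val]; omega
  have e1 : rk (pa (kP hn4) : Fin n) = n / 2 - 2 := by rw [rk_pa, kP_val]
  have e2 : rk (pc (kP hn4) : Fin n) = n / 2 - 1 := by rw [pc_of_lt _ hkP, kP_val]; omega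
  have e3 : rk (pa (kL hn2) : Fin n) = n / 2 - 1 := by rw [rk_pa, kL_val]
  have e4 : rk (pc (kL hn2) : Fin n) = n / 2 := by
    rw [pc_of_not_lt _ (dbncomb_kL_not_lt hn2), dbncomb_rk_rv, e3]; omega
  unfold w0D
  by_cases h : Equiv.Perm.sign (rvPerm n) = 1
  · rw [if_pos h]
    constructor
    · intro k hk
      rw [rvPerm_apply, rvPerm_apply, rk_rv_lt_iff]
      exact rk_pa_lt_pc k
    · rw [rvPerm_apply, rvPerm_apply, rv_rv, dbncomb_rk_rv, e1, e2]
      omega
  · rw [if_neg h]
    obtain ⟨s1, s2, s3, s4, s5, s6⟩ := dbncomb_shift hn4 hn (rvPerm n)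
    constructor
    · intro k hk
      rcases dbncomb_node_cases hn4 k hk with rfl | hk2
      · rw [s3, s4, rvPerm_apply, rvPerm_apply, rv_rv, dbncomb_rk_rv, e1, e2]
        omega
      · rw [(s6 k hk2).1, (s6 k hk2).2, rvPerm_apply, rvPerm_apply, rk_rv_lt_iff]
        exact rk_pa_lt_pc k
    · rw [s5, s3, rvPerm_apply, rvPerm_apply, dbncomb_rk_rv, dbncomb_rk_rv, e1, e2]
      omega

end Cfsg.Agent.Lib.helper14.DBN
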