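import Mathlib

set_option autoImplicit false

namespace Cfsg.Agent.Lib.helper23

section additive

variable {p : ℕ} [Fact p.Prime] {V : Type*} [AddCommGroup V] [Module (ZMod p) V] [Finite V]

theorem finrank_eq_of_card {r : ℕ} (hV : Nat.card V = p ^ r) :
    Module.finrank (ZMod p) V = r := by
  have h := Module.natCard_eq_pow_finrank (K := ZMod p) (V := V)
  rw [Nat.card_zmod, hV] at h
  exact (Nat.pow_right_injective (Fact.out : p.Prime).two_le h).symm

theorem span_toAddSubgroup_eq_closure (S : Set V) :
    (Submodule.span (ZMod p) S).toAddSubgroup = AddSubgroup.closure S := by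
  apply le_antisymm
  · have : Submodule.span (ZMod p) S ≤ AddSubgroup.toZModSubmodule p (AddSubgroup.closure S) := by
      rw [Submodule.span_le]
      exact AddSubgroup.subset_closure
    intro x hx
    exact this hx
  · rw [AddSubgroup.closure_le]
    exact Submodule.subset_span

theorem closure_eq_top_iff_span (S : Set V) :
    AddSubgroup.closure S = ⊤ ↔ Submodule.span (ZMod p) S = ⊤ := by
  rw [← span_toAddSubgroup_eq_closure (p := p)]
  constructor
  · intro h
    rw [eq_top_iff]
    intro x _
    have : x ∈ (Submodule.span (ZMod p) S).toAddSubgroup := by rw [h]; exact AddSubgroup.mem_top x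
    exact this
  · intro h
    rw [h]
    rfl

theorem closure_eq_top_iff_linearIndependent {r : ℕ} (hV : Nat.card V = p ^ r) (s : Fin r → V) :
    AddSubgroup.closure (Set.range s) = ⊤ ↔ LinearIndependent (ZMod p) s := by
  have hr := finrank_eq_of_card hV
  rw [closure_eq_top_iff_span (p := p)]
  constructor
  · intro h
    exact linearIndependent_of_top_le_span_of_card_eq_finrank h.ge (by rw [Fintype.card_fin, hr])
  · intro h
    exact h.span_eq_top_of_card_eq_finrank' (by rw [Fintype.card_fin, hr])

theorem card_add_generating {r : ℕ} (hV : Nat.card V = p ^ r) :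
    Nat.card {s : Fin r → V // AddSubgroup.closure (Set.range s) = ⊤} =
      ∏ i ∈ Finset.range r, (p ^ r - p ^ i) := by
  have hr := finrank_eq_of_card hV
  rw [Nat.card_congr (Equiv.subtypeEquivRight (closure_eq_top_iff_linearIndependent hV))]
  rw [card_linearIndependent (K := ZMod p) (V := V) (k := r) (by rw [hr])]
  rw [hr, ZMod.card]
  exact Fin.prod_univ_eq_prod_range (fun i => p ^ r - p ^ i) r

end additive

section multiplicative

variable {p : ℕ} [Fact p.Prime] {Q : Type*} [Group Q] [Finite Q]

/-- In an elementary abelian group of order `p^r`, the number of generating `r`-tuples. -/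
theorem card_generating_of_elementary (hcomm : ∀ a b : Q, a * b = b * a)
    (hexp : ∀ a : Q, a ^ p = 1) {r : ℕ} (hQ : Nat.card Q = p ^ r) :
    Nat.card {s : Fin r → Q // Subgroup.closure (Set.range s) = ⊤} =
      ∏ i ∈ Finset.range r, (p ^ r - p ^ i) := by
  letI : CommGroup Q := { (inferInstance : Group Q) with mul_comm := hcomm }
  letI : Module (ZMod p) (Additive Q) := AddCommGroup.zmodModule (n := p) (by
    intro x
    exact congrArg Additive.ofMul (hexp x.toMul))
  have hV : Nat.card (Additive Q) = p ^ r := hQ
  rw [← card_add_generating (p := p) (V := Additive Q) hV]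
  refine Nat.card_congr ?_
  refine (Equiv.subtypeEquiv (Equiv.refl _) ?_)
  intro s
  constructor
  · intro h
    have h2 := congrArg Subgroup.toAddSubgroup h
    rw [Subgroup.toAddSubgroup_closure] at h2
    exact h2
  · intro h
    apply Subgroup.toAddSubgroup.injective
    rw [Subgroup.toAddSubgroup_closure]
    exact h

theorem exists_generating_of_elementary (hcomm : ∀ a b : Q, a * b = b * a)
    (hexp : ∀ a : Q, a ^ p = 1) {r : ℕ} (hQ : Nat.card Q = p ^ r) :
    ∃ s : Fin r → Q, Subgroup.closure (Set.range s) = ⊤ := by
  have h := card_generating_of_elementary hcomm hexp hQ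
  have hpos : 0 < ∏ i ∈ Finset.range r, (p ^ r - p ^ i) := by
    apply Finset.prod_pos
    intro i hi
    rw [Finset.mem_range] at hi
    exact Nat.sub_pos_of_lt (Nat.pow_lt_pow_right (Fact.out : p.Prime).one_lt hi)
  rw [← h] at hpos
  obtain ⟨⟨s, hs⟩⟩ := (Nat.card_pos_iff.mp hpos).1
  exact ⟨s, hs⟩

end multiplicative

end Cfsg.Agent.Lib.helper23
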