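import Mathlib
import Cfsg.Agent.Lib.helper23.ElemAbGen
import Cfsg.Agent.Lib.Helper1.Frat

set_option autoImplicit false

namespace Cfsg.Agent.Lib.helper23

open scoped commutatorElement

/-- The preimage of a set under a surjective homomorphism has size `|S| * |ker|`. -/
theorem card_preimage_of_surjective {A B : Type*} [Group A] [Group B] (F : A →* B)
    (hF : Function.Surjective F) (S : Set B) :
    Nat.card (F ⁻¹' S) = Nat.card S * Nat.card F.ker := by
  rw [← Nat.card_prod]
  refine Nat.card_congr ?_
  have hσ : ∀ b, F (Function.surjInv hF b) = b := Function.surjInv_eq hF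
  refine
    { toFun := fun a => (⟨F a.1, a.2⟩, ⟨(Function.surjInv hF (F a.1))⁻¹ * a.1, ?_⟩)
      invFun := fun bk => ⟨Function.surjInv hF bk.1.1 * bk.2.1, ?_⟩
      left_inv := ?_
      right_inv := ?_ }
  · rw [MonoidHom.mem_ker, map_mul, map_inv, hσ, inv_mul_cancel]
  · rw [Set.mem_preimage, map_mul, hσ, MonoidHom.mem_ker.mp bk.2.2, mul_one]
    exact bk.1.2
  · intro a
    apply Subtype.ext
    simp
  · rintro ⟨⟨b, hb⟩, ⟨k, hk⟩⟩
    have hk' : F k = 1 := MonoidHom.mem_ker.mp hk
    have h1 : F (Function.surjInv hF b * k) = b := by rw [map_mul, hσ, hk', mul_one]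
    apply Prod.ext
    · apply Subtype.ext
      exact h1
    · apply Subtype.ext
      simp only
      rw [h1, inv_mul_cancel_left]

section frat

variable {P : Type*} [Group P]

/-- componentwise reduction modulo the Frattini subgroup -/
def fratMap (P : Type*) [Group P] (r : ℕ) : (Fin r → P) →* (Fin r → P ⧸ frattini P) :=
  MonoidHom.compLeft (QuotientGroup.mk' (frattini P)) (Fin r)

theorem fratMap_apply (r : ℕ) (s : Fin r → P) (i : Fin r) :
    fratMap P r s i = QuotientGroup.mk' (frattini P) (s i) := rfl

theorem fratMap_surjective (r : ℕ) : Function.Surjective (fratMap P r) := by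
  intro v
  refine ⟨fun i => Function.surjInv (QuotientGroup.mk'_surjective (frattini P)) (v i), ?_⟩
  funext i
  rw [fratMap_apply]
  exact Function.surjInv_eq _ _

theorem card_ker_fratMap (r : ℕ) :
    Nat.card (fratMap P r).ker = Nat.card (frattini P) ^ r := by
  have e : (fratMap P r).ker ≃ (Fin r → frattini P) :=
    { toFun := fun k i => ⟨k.1 i, by
        have := congrFun (MonoidHom.mem_ker.mp k.2) i
        rw [fratMap_apply] at this
        exact (QuotientGroup.eq_one_iff _).mp this⟩
      invFun := fun f => ⟨fun i => (f i).1, by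
        rw [MonoidHom.mem_ker]
        funext i
        rw [fratMap_apply]
        exact (QuotientGroup.eq_one_iff _).mpr (f i).2⟩
      left_inv := fun k => rfl
      right_inv := fun f => rfl }
  rw [Nat.card_congr e, Nat.card_fun, Nat.card_eq_fintype_card (α := Fin r), Fintype.card_fin]

theorem closure_eq_top_iff_fratMap [Finite P] (r : ℕ) (s : Fin r → P) :
    Subgroup.closure (Set.range s) = ⊤ ↔ Subgroup.closure (Set.range (fratMap P r s)) = ⊤ := by
  have hmap : (Subgroup.closure (Set.range s)).map (QuotientGroup.mk' (frattini P)) =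
      Subgroup.closure (Set.range (fratMap P r s)) := by
    rw [MonoidHom.map_closure, ← Set.range_comp]
    rfl
  constructor
  · intro h
    rw [← hmap, h]
    exact Subgroup.map_top_of_surjective _ (QuotientGroup.mk'_surjective _)
  · intro h
    rw [← hmap] at h
    have h2 := congrArg (Subgroup.comap (QuotientGroup.mk' (frattini P))) h
    rw [Subgroup.comap_map_eq, QuotientGroup.ker_mk', Subgroup.comap_top] at h2
    exact frattini_nongenerating h2

theorem card_generating_of_pgroup [Finite P] {p : ℕ} [Fact p.Prime] (hP : IsPGroup p P) {r : ℕ}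
    (hr : (frattini P).index = p ^ r) :
    Nat.card {s : Fin r → P // Subgroup.closure (Set.range s) = ⊤} =
      Nat.card (frattini P) ^ r * ∏ i ∈ Finset.range r, (p ^ r - p ^ i) := by
  have hcomm : ∀ a b : P ⧸ frattini P, a * b = b * a := by
    intro a b
    obtain ⟨a, rfl⟩ := QuotientGroup.mk_surjective a
    obtain ⟨b, rfl⟩ := QuotientGroup.mk_surjective b
    rw [← QuotientGroup.mk_mul, ← QuotientGroup.mk_mul, QuotientGroup.eq]
    apply Cfsg.Agent.Lib.Helper1.pgroup_commutator_le_frattini hP
    have : (a * b)⁻¹ * (b * a) = ⁅b⁻¹, a⁻¹⁆ := by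
      rw [commutatorElement_def]; group
    rw [this]
    exact Subgroup.commutator_mem_commutator (Subgroup.mem_top _) (Subgroup.mem_top _)
  have hexp : ∀ a : P ⧸ frattini P, a ^ p = 1 := by
    intro a
    obtain ⟨a, rfl⟩ := QuotientGroup.mk_surjective a
    rw [← QuotientGroup.mk_pow, QuotientGroup.eq_one_iff]
    exact Cfsg.Agent.Lib.Helper1.pgroup_pow_mem_frattini hP a
  have hQ : Nat.card (P ⧸ frattini P) = p ^ r := hr
  have h1 := card_generating_of_elementary hcomm hexp hQ
  have h2 := card_preimage_of_surjective (fratMap P r) (fratMap_surjective r)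
    {v | Subgroup.closure (Set.range v) = ⊤}
  rw [card_ker_fratMap] at h2
  have h3 : Nat.card {s : Fin r → P // Subgroup.closure (Set.range s) = ⊤} =
      Nat.card ((fratMap P r) ⁻¹' {v | Subgroup.closure (Set.range v) = ⊤}) := by
    refine Nat.card_congr (Equiv.subtypeEquivRight ?_)
    intro s
    exact closure_eq_top_iff_fratMap r s
  rw [h3, h2, mul_comm]
  congr 1

end frat

end Cfsg.Agent.Lib.helper23
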