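import Mathlib

set_option autoImplicit false

namespace Cfsg.Agent.Lib.helper23

/-- If a finite group acts freely on a finite set, its order divides the size of the set. -/
theorem card_dvd_of_free {G X : Type*} [Group G] [MulAction G X] [Finite G] [Finite X]
    (hfree : ∀ (g : G) (x : X), g • x = x → g = 1) : Nat.card G ∣ Nat.card X := by
  classical
  have e := MulAction.selfEquivSigmaOrbitsQuotientStabilizer G X
  have hst : ∀ x : X, MulAction.stabilizer G x = ⊥ := by
    intro x
    rw [eq_bot_iff]
    intro g hg
    rw [Subgroup.mem_bot]
    exact hfree g x hg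
  haveI : Fintype (Quotient (MulAction.orbitRel G X)) := Fintype.ofFinite _
  rw [Nat.card_congr e, Nat.card_sigma]
  apply Finset.dvd_sum
  intro ω _
  have : Nat.card (G ⧸ MulAction.stabilizer G ω.out) = Nat.card G := by
    rw [hst]
    exact Subgroup.index_bot
  rw [this]

end Cfsg.Agent.Lib.helper23
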