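import Cfsg.Agent.Lib.helper23.PgB

set_option autoImplicit false

/-!
# Verified stabiliser chains with word transversals and a rigid ambient group

The transversal elements are words in the generators of their level, the generators of the next
level are words in the generators of this level, and equality with the identity is tested on a
base of a rigid ambient group (the automorphism group of a structure in which only the identity
fixes all points of the base).
-/

namespace Cfsg.Agent.Lib.helper23

open Subgroup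

/-- a rigid ambient group -/
structure PgRigid (n : ℕ) where
  /-- the ambient group -/
  A : Subgroup (Equiv.Perm (Fin n))
  /-- the base -/
  base : List ℕ
  /-- only the identity of `A` fixes the base -/
  rigid : ∀ g ∈ A, (∀ β ∈ base, ∀ h : β < n, g ⟨β, h⟩ = ⟨β, h⟩) → g = 1

/-- the inverse word: `m` is the number of generators -/
def pgInvW (m : ℕ) (w : List ℕ) : List ℕ :=
  @List.rec ℕ (fun _ => List ℕ → List ℕ) (fun acc => acc)
    (fun j _ ih acc => ih (cond (Nat.blt j m) (Nat.add j m) (Nat.sub j m) :: acc)) w []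

theorem pgInvW_aux (m : ℕ) (w acc : List ℕ) :
    @List.rec ℕ (fun _ => List ℕ → List ℕ) (fun acc => acc)
      (fun j _ ih acc => ih (cond (Nat.blt j m) (Nat.add j m) (Nat.sub j m) :: acc)) w acc =
    (w.map (fun j => cond (Nat.blt j m) (Nat.add j m) (Nat.sub j m))).reverse ++ acc := by
  induction w generalizing acc with
  | nil => rfl
  | cons j w ih =>
    change @List.rec ℕ (fun _ => List ℕ → List ℕ) (fun acc => acc)
      (fun j _ ih acc => ih (cond (Nat.blt j m) (Nat.add j m) (Nat.sub j m) :: acc)) w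
        (cond (Nat.blt j m) (Nat.add j m) (Nat.sub j m) :: acc) = _
    rw [ih]
    simp

theorem pgInvW_eq (m : ℕ) (w : List ℕ) :
    pgInvW m w = (w.map (fun j => cond (Nat.blt j m) (Nat.add j m) (Nat.sub j m))).reverse := by
  unfold pgInvW
  rw [pgInvW_aux]
  simp

theorem pgLetter_flip {n : ℕ} {gs : List PFun} (hgs : ∀ P ∈ gs, P.ok n = true) (j : ℕ)
    (hj : j < 2 * gs.length) :
    (pgLetter gs (cond (Nat.blt j gs.length) (Nat.add j gs.length) (Nat.sub j gs.length))).perm n =
      ((pgLetter gs j).perm n)⁻¹ := by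
  by_cases h : j < gs.length
  · have h1 : Nat.blt j gs.length = true := by simpa using h
    have h2 : Nat.blt (Nat.add j gs.length) gs.length = false := by
      rw [← Bool.not_eq_true]; simp
    simp only [h1, cond_true]
    unfold pgLetter
    rw [h1, h2]
    simp only [cond_true, cond_false, Nat.sub_eq, Nat.add_eq, Nat.add_sub_cancel]
    exact PFun.swap_perm (pgGetD_ok hgs j)
  · have h1 : Nat.blt j gs.length = false := by
      rw [← Bool.not_eq_true]; simpa using h
    have h3 : j - gs.length < gs.length := by omega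
    have h2 : Nat.blt (Nat.sub j gs.length) gs.length = true := by simpa using h3
    simp only [h1, cond_false]
    unfold pgLetter
    rw [h1, h2]
    simp only [cond_true, cond_false]
    rw [PFun.swap_perm (pgGetD_ok hgs _), inv_inv]

theorem pgInvW_perm {n : ℕ} {gs : List PFun} (hgs : ∀ P ∈ gs, P.ok n = true) (w : List ℕ)
    (hw : ∀ j ∈ w, j < 2 * gs.length) :
    pgWordPerm n gs (pgInvW gs.length w) = (pgWordPerm n gs w)⁻¹ := by
  rw [pgInvW_eq]
  induction w with
  | nil => simp [pgWordPerm]
  | cons j w ih =>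
    have hj := hw j List.mem_cons_self
    have ih' := ih (fun k hk => hw k (List.mem_cons_of_mem j hk))
    rw [List.map_cons, List.reverse_cons, pgWordPerm_append, ih']
    have : pgWordPerm n gs (j :: w) = (pgLetter gs j).perm n * pgWordPerm n gs w := by
      unfold pgWordPerm
      rw [List.map_cons, List.prod_cons]
    rw [this, mul_inv_rev]
    congr 1
    unfold pgWordPerm
    rw [List.map_cons, List.map_nil, List.prod_cons, List.prod_nil, mul_one]
    exact pgLetter_flip hgs j hj

/-- one level of a chain with word transversals -/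
structure PgLvlW where
  /-- base point -/
  b : ℕ
  /-- the orbit of the base point -/
  inO : ℕ → Bool
  /-- the transversal elements as words in the generators of this level -/
  path : ℕ → List ℕ
  /-- the generators of the group of this level -/
  own : List PFun
  /-- the generators of the next level as words in the generators of this level -/
  sub : List (List ℕ)

/-- the generators of the first level -/
def pgOwnW (C : List PgLvlW) : List PFun :=
  @List.rec PgLvlW (fun _ => List PFun) [] (fun L _ _ => L.own) C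

/-- the group of a chain -/
def pgGrpW (n : ℕ) (C : List PgLvlW) : Subgroup (Equiv.Perm (Fin n)) :=
  closure (pgSet n (pgOwnW C))

theorem pgGrpW_nil (n : ℕ) : pgGrpW n [] = ⊥ := by
  unfold pgGrpW pgSet
  have : pgOwnW [] = [] := rfl
  rw [this]
  simp

/-- sifting, the final test on the base only -/
def pgSiftW (n : ℕ) (base : List ℕ) (C : List PgLvlW) : (ℕ → ℕ) → Bool :=
  @List.rec PgLvlW (fun _ => (ℕ → ℕ) → Bool)
    (fun f => pgAllL base (fun β => Nat.beq (f β) β))
    (fun L _ ih f => pgForce (f L.b)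
      (fun z => cond (L.inO z)
        (ih (fun p => pgEvalW L.own (pgInvW L.own.length (L.path z)) (f p))) false))
    C

theorem pgSiftW_nil (n : ℕ) (base : List ℕ) (f : ℕ → ℕ) :
    pgSiftW n base [] f = pgAllL base (fun β => Nat.beq (f β) β) := rfl

theorem pgSiftW_cons (n : ℕ) (base : List ℕ) (L : PgLvlW) (C : List PgLvlW) (f : ℕ → ℕ) :
    pgSiftW n base (L :: C) f =
      cond (L.inO (f L.b))
        (pgSiftW n base C
          (fun p => pgEvalW L.own (pgInvW L.own.length (L.path (f L.b))) (f p))) false := by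
  have e : pgSiftW n base (L :: C) f = pgForce (f L.b)
      (fun z => cond (L.inO z)
        (pgSiftW n base C (fun p => pgEvalW L.own (pgInvW L.own.length (L.path z)) (f p)))
        false) := rfl
  rw [e, pgForce_eq]

/-- the closure check for one generator and the points `z` with `lo ≤ z < lo + cnt` -/
def pgChkGenW (n : ℕ) (base : List ℕ) (L : PgLvlW) (Ls : List PgLvlW) (s : PFun)
    (lo cnt : ℕ) : Bool :=
  pgAll cnt (fun k => pgForce (Nat.add lo k) (fun z => cond (L.inO z)
    (pgForce (s.f z) (fun y => L.inO y &&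
      pgSiftW n base Ls (fun p => pgEvalW L.own (pgInvW L.own.length (L.path y))
        (s.f (pgEvalW L.own (L.path z) p)))))
    true))

/-- the transversal check: letters in range, the word of `z` maps the base point to `z` -/
def pgChkUW (n : ℕ) (L : PgLvlW) : Bool :=
  pgAll n (fun z => cond (L.inO z)
    (pgAllL (L.path z) (fun j => Nat.blt j (Nat.mul 2 L.own.length)) &&
      Nat.beq (pgEvalW L.own (L.path z) L.b) z)
    true)

/-- the generators of the next level are the given words: test on all points -/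
def pgChkSubW (n : ℕ) (L : PgLvlW) (next : List PFun) : Bool :=
  Nat.beq L.sub.length next.length &&
  pgAll next.length (fun j =>
    pgAll n (fun p => Nat.beq ((next.getD j PFun.one).f p) (pgEvalW L.own (L.sub.getD j []) p)))

/-- the basic check of one level (everything but the closure check) -/
def pgChkLvlW0 (n : ℕ) (L : PgLvlW) (Ls : List PgLvlW) : Bool :=
  ((Nat.blt L.b n && pgAllL (pgOwnW Ls) (fun s => Nat.beq (s.f L.b) L.b)) &&
    (pgAllL L.own (fun s => s.ok n) &&
      (L.inO L.b && Nat.beq (L.path L.b).length 0))) &&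
  (pgChkUW n L && pgChkSubW n L (pgOwnW Ls))

/-- the check of one level -/
def pgChkLvlW (n : ℕ) (base : List ℕ) (L : PgLvlW) (Ls : List PgLvlW) : Bool :=
  pgChkLvlW0 n L Ls && pgAllL L.own (fun s => pgChkGenW n base L Ls s 0 n)

/-- the check of a chain -/
def pgChkW (n : ℕ) (base : List ℕ) (C : List PgLvlW) : Bool :=
  @List.rec PgLvlW (fun _ => Bool) true (fun L Ls ih => pgChkLvlW n base L Ls && ih) C

theorem pgChkW_cons (n : ℕ) (base : List ℕ) (L : PgLvlW) (C : List PgLvlW) :
    pgChkW n base (L :: C) = (pgChkLvlW n base L C && pgChkW n base C) := rfl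

/-- the claimed order -/
def pgOrdW (n : ℕ) (C : List PgLvlW) : ℕ :=
  @List.rec PgLvlW (fun _ => ℕ) 1 (fun L _ ih => Nat.mul (pgCount n L.inO) ih) C

theorem pgOrdW_cons (n : ℕ) (L : PgLvlW) (C : List PgLvlW) :
    pgOrdW n (L :: C) = pgCount n L.inO * pgOrdW n C := rfl

theorem pgChkGenW_spec {n : ℕ} {base : List ℕ} {L : PgLvlW} {Ls : List PgLvlW} {s : PFun}
    {lo cnt : ℕ} (h : pgChkGenW n base L Ls s lo cnt = true) (z : ℕ) (h1 : lo ≤ z)
    (h2 : z < lo + cnt) (hz : L.inO z = true) :
    L.inO (s.f z) = true ∧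
      pgSiftW n base Ls (fun p => pgEvalW L.own (pgInvW L.own.length (L.path (s.f z)))
        (s.f (pgEvalW L.own (L.path z) p))) = true := by
  have := (pgAll_iff _ _).1 h (z - lo) (by omega)
  rw [pgForce_eq] at this
  have e : Nat.add lo (z - lo) = z := by simp only [Nat.add_eq]; omega
  rw [e, hz] at this
  simp only [cond_true, pgForce_eq, Bool.and_eq_true] at this
  exact this

/-- facts extracted from the check of a level -/
theorem pgChkLvlW0_spec {n : ℕ} {L : PgLvlW} {Ls : List PgLvlW}
    (h : pgChkLvlW0 n L Ls = true) :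
    L.b < n ∧ (∀ s ∈ pgOwnW Ls, s.f L.b = L.b) ∧ (∀ P ∈ L.own, P.ok n = true) ∧
    L.inO L.b = true ∧ L.path L.b = [] ∧
    (∀ z < n, L.inO z = true → (∀ j ∈ L.path z, j < 2 * L.own.length) ∧
      pgEvalW L.own (L.path z) L.b = z) ∧
    (∀ Q ∈ pgOwnW Ls, ∃ w : List ℕ, ∀ p < n, Q.f p = pgEvalW L.own w p) := by
  unfold pgChkLvlW0 at h
  simp only [Bool.and_eq_true, Nat.blt_eq] at h
  obtain ⟨⟨⟨h1, h2⟩, h3, h4, h5⟩, h6, h7⟩ := h
  refine ⟨h1, ?_, ?_, h4, ?_, ?_, ?_⟩
  · intro s hs
    simpa using (pgAllL_iff _ _).1 h2 s hs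
  · intro P hP
    exact (pgAllL_iff _ _).1 h3 P hP
  · rw [Nat.beq_eq] at h5
    exact List.eq_nil_of_length_eq_zero h5
  · intro z hz hO
    have := (pgAll_iff _ _).1 h6 z hz
    rw [hO] at this
    simp only [cond_true, Bool.and_eq_true, Nat.beq_eq] at this
    refine ⟨?_, this.2⟩
    intro j hj
    have := (pgAllL_iff _ _).1 this.1 j hj
    simpa using this
  · intro Q hQ
    unfold pgChkSubW at h7
    rw [Bool.and_eq_true, Nat.beq_eq] at h7
    obtain ⟨j, hj, rfl⟩ := List.mem_iff_getElem.1 hQ
    refine ⟨L.sub.getD j [], ?_⟩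
    intro p hp
    have := (pgAll_iff _ _).1 ((pgAll_iff _ _).1 h7.2 j hj) p hp
    rw [List.getD_eq_getElem _ _ hj, Nat.beq_eq] at this
    exact this

theorem pgChkW_own_ok (n : ℕ) (base : List ℕ) :
    ∀ C : List PgLvlW, pgChkW n base C = true → ∀ P ∈ pgOwnW C, P.ok n = true := by
  intro C
  cases C with
  | nil => intro _ P hP; exact absurd hP List.not_mem_nil
  | cons L C =>
    intro h P hP
    rw [pgChkW_cons, Bool.and_eq_true] at h
    have h1 := h.1
    unfold pgChkLvlW at h1
    rw [Bool.and_eq_true] at h1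
    exact (pgChkLvlW0_spec h1.1).2.2.1 P hP

/-- the group of the tail is contained in the group of the chain, and in the ambient group -/
theorem pgGrpW_mono {n : ℕ} {L : PgLvlW} {C : List PgLvlW} (h0 : pgChkLvlW0 n L C = true)
    (hC : ∀ P ∈ pgOwnW C, P.ok n = true) : pgGrpW n C ≤ pgGrpW n (L :: C) := by
  obtain ⟨-, -, hok, -, -, -, hsub⟩ := pgChkLvlW0_spec h0
  apply (closure_le _).2
  rintro x ⟨Q, hQ, rfl⟩
  obtain ⟨w, hw⟩ := hsub Q hQ
  have : Q.perm n = pgWordPerm n L.own w := by
    ext i
    rw [PFun.perm_apply (hC Q hQ), pgWordPerm_apply hok, hw i.1 i.2]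
  rw [SetLike.mem_coe, this]
  exact pgWordPerm_mem hok w

theorem pgGrpW_le_A {n : ℕ} (R : PgRigid n) (base : List ℕ) :
    ∀ C : List PgLvlW, pgChkW n base C = true → (∀ P ∈ pgOwnW C, P.perm n ∈ R.A) →
      ∀ D : List PgLvlW, (∃ E, C = E ++ D) → pgGrpW n D ≤ R.A := by
  intro C hC hA D ⟨E, hE⟩
  induction E generalizing C with
  | nil =>
    rw [List.nil_append] at hE
    rw [← hE]
    apply (closure_le _).2
    rintro x ⟨P, hP, rfl⟩
    exact hA P hP
  | cons L E ih =>
    rw [hE, List.cons_append, pgChkW_cons, Bool.and_eq_true] at hC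
    apply ih (E ++ D) hC.2 _ rfl
    have h1 := hC.1
    unfold pgChkLvlW at h1
    rw [Bool.and_eq_true] at h1
    have hmono := pgGrpW_mono h1.1 (pgChkW_own_ok n base _ hC.2)
    intro P hP
    have hL : pgGrpW n (L :: (E ++ D)) ≤ R.A := by
      apply (closure_le _).2
      rintro x ⟨Q, hQ, rfl⟩
      rw [hE] at hA
      exact hA Q hQ
    exact hL (hmono (subset_closure ⟨P, hP, rfl⟩))

theorem pgSiftW_sound {n : ℕ} (R : PgRigid n) : ∀ C : List PgLvlW,
    pgChkW n R.base C = true → pgGrpW n C ≤ R.A →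
    ∀ (f : ℕ → ℕ) (g : Equiv.Perm (Fin n)), g ∈ R.A → (∀ p : Fin n, f p.1 = (g p).1) →
      pgSiftW n R.base C f = true → g ∈ pgGrpW n C := by
  intro C
  induction C with
  | nil =>
    intro _ _ f g hgA hfg hs
    rw [pgSiftW_nil, pgAllL_iff] at hs
    have : g = 1 := by
      apply R.rigid g hgA
      intro β hβ hβn
      apply Fin.ext
      have := hs β hβ
      rw [Nat.beq_eq] at this
      rw [← hfg ⟨β, hβn⟩]
      exact this
    rw [this]
    exact one_mem _
  | cons L C ih =>
    intro h hA f g hgA hfg hs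
    rw [pgChkW_cons, Bool.and_eq_true] at h
    have h1 := h.1
    unfold pgChkLvlW at h1
    rw [Bool.and_eq_true] at h1
    obtain ⟨hb, -, hok, -, -, hU, -⟩ := pgChkLvlW0_spec h1.1
    have hmono := pgGrpW_mono h1.1 (pgChkW_own_ok n R.base _ h.2)
    rw [pgSiftW_cons] at hs
    have hO : L.inO (f L.b) = true := by
      cases hh : L.inO (f L.b) with
      | true => rfl
      | false => rw [hh] at hs; exact absurd hs (by simp)
    rw [hO] at hs
    simp only [cond_true] at hs
    have hfb : f L.b = (g ⟨L.b, hb⟩).1 := hfg ⟨L.b, hb⟩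
    have hzn : f L.b < n := by rw [hfb]; exact (g ⟨L.b, hb⟩).2
    obtain ⟨hlet, -⟩ := hU (f L.b) hzn hO
    have hv : pgWordPerm n L.own (L.path (f L.b)) ∈ pgGrpW n (L :: C) := pgWordPerm_mem hok _
    have hinv := pgInvW_perm hok (L.path (f L.b)) hlet
    have h2 : (pgWordPerm n L.own (L.path (f L.b)))⁻¹ * g ∈ pgGrpW n C := by
      apply ih h.2 (le_trans hmono hA) _ _ _ _ hs
      · exact R.A.mul_mem (R.A.inv_mem (hA hv)) hgA
      · intro p
        rw [Equiv.Perm.mul_apply, ← hinv, pgWordPerm_apply hok, ← hfg]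
    have : g = pgWordPerm n L.own (L.path (f L.b)) *
        ((pgWordPerm n L.own (L.path (f L.b)))⁻¹ * g) := by simp
    rw [this]
    exact mul_mem hv (hmono h2)

theorem pgGrpW_fix {n : ℕ} {C : List PgLvlW} {b : Fin n} (h : ∀ s ∈ pgOwnW C, s.f b.1 = b.1)
    (hgs : ∀ P ∈ pgOwnW C, P.ok n = true) : ∀ k ∈ pgGrpW n C, k b = b := by
  intro k hk
  have : pgGrpW n C ≤ MulAction.stabilizer (Equiv.Perm (Fin n)) b := by
    apply (closure_le _).2
    rintro x ⟨P, hP, rfl⟩
    rw [SetLike.mem_coe, MulAction.mem_stabilizer_iff]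
    apply Fin.ext
    rw [Equiv.Perm.smul_def, PFun.perm_apply (hgs P hP), h P hP]
  exact MulAction.mem_stabilizer_iff.1 (this hk)

/-- the main theorem for one level -/
theorem pgLvlW_main {n : ℕ} (R : PgRigid n) {L : PgLvlW} {C : List PgLvlW}
    (h : pgChkW n R.base (L :: C) = true) (hA : pgGrpW n (L :: C) ≤ R.A) :
    ∃ hb : L.b < n, (∀ g ∈ pgGrpW n (L :: C), g ⟨L.b, hb⟩ = ⟨L.b, hb⟩ → g ∈ pgGrpW n C) ∧
      Nat.card (pgGrpW n (L :: C)) = pgCount n L.inO * Nat.card (pgGrpW n C) ∧
      (∀ z : Fin n, L.inO z.1 = true → ∃ g ∈ pgGrpW n (L :: C), g ⟨L.b, hb⟩ = z) ∧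
      pgGrpW n C ≤ pgGrpW n (L :: C) := by
  have h' := h
  rw [pgChkW_cons, Bool.and_eq_true] at h'
  have h1 := h'.1
  unfold pgChkLvlW at h1
  rw [Bool.and_eq_true] at h1
  have hgs' := pgChkW_own_ok n R.base _ h'.2
  obtain ⟨hb, hfix, hok, hOb, hpb, hU, -⟩ := pgChkLvlW0_spec h1.1
  have hmono := pgGrpW_mono h1.1 hgs'
  refine ⟨hb, ?_⟩
  have huz : ∀ z : Fin n, L.inO z.1 = true →
      (pgWordPerm n L.own (L.path z.1)) ⟨L.b, hb⟩ = z := by
    intro z hz
    apply Fin.ext
    rw [pgWordPerm_apply hok]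
    exact (hU z.1 z.2 hz).2
  have key := pg_step (pgSet n L.own) (pgGrpW n C) ⟨L.b, hb⟩
    (Finset.univ.filter (fun z : Fin n => L.inO z.1 = true))
    (fun z => pgWordPerm n L.own (L.path z.1))
    (by simpa using hOb)
    (by
      change pgWordPerm n L.own (L.path L.b) = 1
      rw [hpb]
      rfl)
    (by
      intro z hz
      simp only [Finset.mem_filter, Finset.mem_univ, true_and] at hz
      exact huz z hz)
    hmono
    (pgGrpW_fix (b := ⟨L.b, hb⟩) hfix hgs')
    (by
      intro z _
      exact pgWordPerm_mem hok _)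
    (by
      rintro s ⟨P, hP, rfl⟩ z hz
      simp only [Finset.mem_filter, Finset.mem_univ, true_and] at hz
      have hchk := (pgAllL_iff _ _).1 h1.2 P hP
      obtain ⟨c1, c2⟩ := pgChkGenW_spec hchk z.1 (Nat.zero_le _) (by simpa using z.2) hz
      have hPz : ((P.perm n) z).1 = P.f z.1 := PFun.perm_apply (hok P hP) z
      have hyn : P.f z.1 < n := by rw [← hPz]; exact ((P.perm n) z).2
      obtain ⟨hlety, -⟩ := hU (P.f z.1) hyn c1
      have hinv := pgInvW_perm hok (L.path (P.f z.1)) hlety
      have hPA : P.perm n ∈ R.A := hA (subset_closure ⟨P, hP, rfl⟩)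
      refine ⟨?_, ?_⟩
      · simp only [Finset.mem_filter, Finset.mem_univ, true_and]
        rw [hPz]
        exact c1
      · apply pgSiftW_sound R C h'.2 (le_trans hmono hA) _ _ _ _ c2
        · refine R.A.mul_mem (R.A.mul_mem (R.A.inv_mem ?_) hPA) ?_
          · exact hA (pgWordPerm_mem hok _)
          · exact hA (pgWordPerm_mem hok _)
        · intro p
          rw [Equiv.Perm.mul_apply, Equiv.Perm.mul_apply, hPz, ← hinv, pgWordPerm_apply hok,
            PFun.perm_apply (hok P hP), pgWordPerm_apply hok])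
  refine ⟨key.1, ?_, ?_, hmono⟩
  · rw [← pgCount_fin]
    exact key.2
  · intro z hz
    exact ⟨pgWordPerm n L.own (L.path z.1), pgWordPerm_mem hok _, huz z hz⟩

/-- the order of the group of a checked chain -/
theorem pgCardW {n : ℕ} (R : PgRigid n) : ∀ C : List PgLvlW, pgChkW n R.base C = true →
    pgGrpW n C ≤ R.A → Nat.card (pgGrpW n C) = pgOrdW n C := by
  intro C
  induction C with
  | nil =>
    intro _ _
    rw [pgGrpW_nil]
    simp [pgOrdW]
  | cons L C ih =>
    intro h hA
    obtain ⟨hb, -, h2, -, hmono⟩ := pgLvlW_main R h hA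
    rw [pgChkW_cons, Bool.and_eq_true] at h
    rw [h2, ih h.2 (le_trans hmono hA), pgOrdW_cons]

end Cfsg.Agent.Lib.helper23
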