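import Mathlib
import Cfsg.Agent.Lib.Helper19.U3P.Defs
import Cfsg.Agent.Lib.Helper9.SP4H1
import Cfsg.Agent.Lib.Helper26.U3PP1
import Cfsg.Agent.Lib.Helper18.U3PP5
import Cfsg.Agent.Lib.Helper19.U3PBv
import Cfsg.Agent.Lib.Helper18.U3PM3
import Cfsg.Agent.Lib.Helper10.U3PO12
import Cfsg.Agent.Lib.Helper19.U3PX7
import Cfsg.Agent.Lib.Helper25.SU3P.Main

/-!
# Project U3P (S2289, designer helper19), row FIN1 (helper23): `hcard_generic`, VERBATIM.
-/

set_option autoImplicit false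

namespace Cfsg.Agent.Lib.Helper19.U3P

open Cfsg.Agent.Lib.helper17.SLP Cfsg.Agent.Lib.helper14.SU3J Cfsg.Agent.Lib.Helper25.SU3P
open Polynomial Matrix

universe u v

section FIN

variable {F : Type u} [Field F] [Fintype F] {K : Type u} [Field K] [Fintype K] {q : ℕ}
  {D : Par F K q} {a b c : ↥(Cfsg.SU 3 F q)} {ρ : SL2 K →* ↥(Cfsg.SU 3 F q)}

/-- `al ≠ 0`. -/
theorem u3pfin1_al_ne (D : Par F K q) : D.al ≠ 0 := by
  unfold Par.al
  have h1 : (D.ζ : F) ≠ 0 := D.ζ.ne_zero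
  have h2 : D.σ (D.ζ : F) ≠ 0 := (map_ne_zero D.σ).2 h1
  exact div_ne_zero (pow_ne_zero 2 h1) h2

/-- `ν = al^(q-1)` as a `zpow`. -/
theorem u3pfin1_nu_zpow (D : Par F K q) (hq : 1 ≤ q) : D.nu = D.al ^ ((q : ℤ) - 1) := by
  unfold Par.nu
  have e : ((q : ℤ) - 1) = ((q - 1 : ℕ) : ℤ) := by
    rw [Nat.cast_sub hq]; simp
  rw [e, zpow_natCast]

/-- splitting the relators -/
theorem u3pfin1_split {G : Type v} [Group G] (p : ℕ) (Lsl : List (FreeGroup (Fin 3)))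
    (az : FreeGroup (Fin 3)) (CB : ConstsB K p) (WB : WordsB) (CO : ConstsO K) (WO : WordsO)
    (u h w : G) (hrel : ∀ r ∈ relsAll p q Lsl az CB WB CO WO, ev u h w r = 1) :
    (∀ r ∈ Lsl, ev u h w (subL q r) = 1) ∧ (∀ r ∈ relsM q az, ev u h w r = 1) ∧
    (∀ r ∈ relsB p q CB WB, ev u h w r = 1) ∧ (∀ r ∈ relsO q CO WO, ev u h w r = 1) := by
  refine ⟨?_, ?_, ?_, ?_⟩
  · intro r hr
    apply hrel
    unfold relsAll
    simp only [List.mem_append, List.mem_map]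
    exact Or.inl (Or.inl (Or.inl ⟨r, hr, rfl⟩))
  · intro r hr
    apply hrel
    unfold relsAll
    simp only [List.mem_append]
    exact Or.inl (Or.inl (Or.inr hr))
  · intro r hr
    apply hrel
    unfold relsAll
    simp only [List.mem_append]
    exact Or.inl (Or.inr hr)
  · intro r hr
    apply hrel
    unfold relsAll
    simp only [List.mem_append]
    exact Or.inr hr

/-- FIN1 [M-L] -/
theorem hcard_generic (hG : Gens D a b c ρ) (hF : Fintype.card F = q ^ 2) (hK : Fintype.card K = q)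
    (hq : 4 ≤ q) (h5 : q ≠ 5) (p : ℕ) [Fact p.Prime] [Algebra (ZMod p) F]
    (hsurj : Function.Surjective (fun f : (ZMod p)[X] => aeval D.nu f))
    (US : Subgroup ↥(Cfsg.SU 3 F q)) (CB : ConstsB K p) (CO : ConstsO K)
    (hCB1 : CB.mν = minpoly (ZMod p) D.nu) (hCB2 : aeval D.nu CB.fl = D.al) (hCB3 : D.al ^ CB.k = D.nu + 1)
    (hMod : Model q ρ a b c US CO) (hγ : D.γ0 ≠ 0)
    (Lsl : List (FreeGroup (Fin 3))) (az : FreeGroup (Fin 3))
    (haz : ev (xM (1 : K)) (hM D.bK) wM az = xM (D.bK : K))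
    (hLhom : ∀ (G : Type) [Group G] (u h w : G), (∀ r ∈ Lsl, ev u h w r = 1) →
      ∃ φ : SL2 K →* G, φ (xM 1) = u ∧ φ (hM D.bK) = h ∧ φ wM = w)
    (WB : WordsB) (WO : WordsO) (hWB : OkB D.bK CB WB) (hWO : OkO D.bK CO WO) :
    ∀ (G : Type) [Group G] (u h w : G) (π : G →* ↥(Cfsg.SU 3 F q)), π u = a → π h = b → π w = c →
      Subgroup.closure {u, h, w} = ⊤ → (∀ r ∈ relsAll p q Lsl az CB WB CO WO, ev u h w r = 1) →
      Finite G ∧ Nat.card G ≤ Nat.card ↥(Cfsg.SU 3 F q) := by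
  intro G _ u h w π hu hh hw hgen hrel
  have hq2 : 2 ≤ q := by omega
  obtain ⟨hrL, hrM, hrB, hrO⟩ := u3pfin1_split (q := q) p Lsl az CB WB CO WO u h w hrel
  -- the homomorphism `φ`
  obtain ⟨φ, hx, hh', hw'⟩ := hLhom G (z0 q u h) (h ^ (q + 1)) w (by
    intro r hr
    rw [← ev_subL]
    exact hrL r hr)
  have R : RelM q D.bK φ u h w := (relM_iff q D.bK az haz φ u h w hx hh' hw').1 hrM
  have hB : RelB p q φ u h CB := (relB_iff p q D.bK CB WB hWB φ u h w hx hh' hw').1 hrB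
  have hO : RelO φ u h w CO := (relO_iff q D.bK CO WO hWO φ u h w hx hh' hw').1 hrO
  obtain ⟨finB, cardB⟩ := card_B_generic (F := F) p q hq2 hK hF D.bK D.hbKgen φ u h w R CB hB D.al D.nu
    (u3pfin1_al_ne D) (u3pfin1_nu_zpow D (by omega)) hCB3 hCB2 hCB1 hsurj
  obtain ⟨finM, cardM⟩ := card_M q hq2 hK D.bK D.hbKgen φ u h w R
  have ZB := Z_le_B q hq2 hK D.bK D.hbKgen φ u h w R
  have relS : RelM q D.bK ρ a b c := relM_S hG hF hK hq2 hγ
  have X : Ctx q D.bK ρ a b c US CO π φ u h w :=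
    { hq := hq2, hK := hK, hbK := D.hbKgen, mod := hMod, relS := relS, hu := hu, hh := hh, hw := hw,
      hgen := hgen, relM := R, relO := hO, finB := finB, cardB := cardB, ZB := ZB, finM := finM,
      cardM := cardM }
  obtain ⟨hfin, hcard⟩ := cells_main X
  refine ⟨hfin, ?_⟩
  rw [card_SU3 hF]
  calc Nat.card G ≤ q ^ 3 * (q ^ 2 - 1) * (q ^ 3 + 1) := hcard
    _ = q ^ 3 * ((q ^ 2 - 1) * (q ^ 3 + 1)) := by ring

end FIN

end Cfsg.Agent.Lib.Helper19.U3P
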