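import Cfsg.Agent.Lib.Helper21.TOO.LG1
import Cfsg.Agent.Lib.Helper28.TOOPERP
import Cfsg.Agent.Lib.helper3.C3OISO

/-!
# Project TOO, row LG6 (`sing_span_perp`, helper23): the singular vectors of `w^⊥` span `w^⊥`
(finite field, `n ≥ 5`).
-/

set_option autoImplicit false
set_option linter.unusedSectionVars false
set_option linter.unusedVariables false

namespace Cfsg.Agent.Lib.Helper28.TOO

open Matrix
open scoped Kronecker
open Cfsg.Agent.Lib.helper7.TP Cfsg.Agent.Lib.Helper21.TS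

variable {ι : Type*} [Fintype ι] [DecidableEq ι] {F : Type*} [Field F]

/-- a hyperbolic pair `e, e'` inside `⟨w,w^*⟩^⊥` (`n ≥ 5`, finite field). -/
theorem toolg6_hyp_pair [Fintype F] {J : Matrix ι ι F} (hJ : Jᵀ = J) (two : (2 : F) ≠ 0)
    (hdet : J.det ≠ 0) (hn : 5 ≤ Fintype.card ι) {w ws : ι → F} (hw : bf J w w = 0)
    (hws : bf J ws ws = 0) (hwws : bf J w ws = 1) :
    ∃ e e' : ι → F, bf J e e = 0 ∧ bf J e' e' = 0 ∧ bf J e e' = 1 ∧ bf J e w = 0 ∧ bf J e ws = 0 ∧
      bf J e' w = 0 ∧ bf J e' ws = 0 := by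
  classical
  have hwsw : bf J ws w = 1 := by rw [bf_symm hJ]; exact hwws
  set S : Submodule F (ι → F) := Submodule.span F {w, ws} with hS
  have hSle : Module.finrank F ↥S ≤ 2 := by
    have h1 : Module.finrank F ↥S ≤ ({w, ws} : Finset (ι → F)).card := by
      have := finrank_span_finset_le_card (R := F) ({w, ws} : Finset (ι → F))
      have e : ((({w, ws} : Finset (ι → F)) : Set (ι → F))) = {w, ws} := by simp
      rw [Set.finrank, e] at this
      exact this
    exact h1.trans Finset.card_le_two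
  have h2 := tooperp_finrank hJ hdet S
  have h3 : 3 ≤ Module.finrank F ↥(perp J S) := by omega
  have hs : ∀ x y : ι → F, Matrix.toBilin' J x y = Matrix.toBilin' J y x := by
    intro x y
    rw [Matrix.toBilin'_apply', Matrix.toBilin'_apply']
    exact bf_symm hJ x y
  obtain ⟨e, heS, he0, hee⟩ :=
    Cfsg.Agent.Lib.Helper10.C3O.iso_ex (K := F) (Matrix.toBilin' J) hs (perp J S) h3
  rw [Matrix.toBilin'_apply'] at hee
  have hee : bf J e e = 0 := hee
  have hew : bf J e w = 0 := heS w (Submodule.subset_span (by simp))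
  have hews : bf J e ws = 0 := heS ws (Submodule.subset_span (by simp))
  obtain ⟨y₀, hy₀S, hey₀⟩ : ∃ y₀ ∈ perp J S, bf J e y₀ ≠ 0 := by
    by_contra hcon
    push Not at hcon
    have heS' : e ∈ S := by
      rw [← tooperp_perp_perp hJ hdet S]
      intro y hy
      exact hcon y hy
    obtain ⟨α, β, hαβ⟩ := Submodule.mem_span_pair.mp heS'
    have e1 := hew
    have e2 := hews
    rw [← hαβ, bf_add_left, bf_smul_left, bf_smul_left, hw, hwsw] at e1
    rw [← hαβ, bf_add_left, bf_smul_left, bf_smul_left, hwws, hws] at e2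
    have hβ : β = 0 := by linear_combination e1
    have hα : α = 0 := by linear_combination e2
    apply he0
    rw [← hαβ, hα, hβ, zero_smul, zero_smul, add_zero]
  obtain ⟨y₁, hy₁⟩ : ∃ y₁ : ι → F, y₁ = (bf J e y₀)⁻¹ • y₀ := ⟨_, rfl⟩
  have hy₁S : y₁ ∈ perp J S := by rw [hy₁]; exact Submodule.smul_mem _ _ hy₀S
  have hey₁ : bf J e y₁ = 1 := by rw [hy₁, bf_smul_right, inv_mul_cancel₀ hey₀]
  have hy₁e : bf J y₁ e = 1 := by rw [bf_symm hJ]; exact hey₁
  obtain ⟨e', he'⟩ : ∃ e' : ι → F, e' = y₁ - (bf J y₁ y₁ / 2) • e := ⟨_, rfl⟩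
  have he'S : e' ∈ perp J S := by
    rw [he']; exact Submodule.sub_mem _ hy₁S (Submodule.smul_mem _ _ heS)
  have he'e' : bf J e' e' = 0 := by
    rw [he']
    simp only [bf_sub_left, bf_sub_right, bf_smul_left, bf_smul_right, hee, hey₁, hy₁e]
    field_simp
    ring
  have hee' : bf J e e' = 1 := by
    rw [he', bf_sub_right, bf_smul_right, hee, mul_zero, sub_zero]; exact hey₁
  exact ⟨e, e', hee, he'e', hee', hew, hews, he'S w (Submodule.subset_span (by simp)),
    he'S ws (Submodule.subset_span (by simp))⟩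

/-- LG6 [M-L]. the singular vectors of `w^⊥` span `w^⊥` (finite field, `n ≥ 5`). -/
theorem sing_span_perp [Fintype F] {J : Matrix ι ι F} (hJ : Jᵀ = J) (two : (2 : F) ≠ 0) (hdet : J.det ≠ 0)
    (hn : 5 ≤ Fintype.card ι) {w : ι → F} (hw0 : w ≠ 0) (hw : bf J w w = 0) (n : ι → F)
    (hwn : bf J w n = 0) :
    n ∈ Submodule.span F {w₁ : ι → F | bf J w₁ w₁ = 0 ∧ bf J w w₁ = 0} := by
  classical
  obtain ⟨ws, hws, hwws⟩ := toolg1_partner hJ two hdet hw0 hw
  have hwsw : bf J ws w = 1 := by rw [bf_symm hJ]; exact hwws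
  obtain ⟨e, e', hee, he'e', hee', hew, hews, he'w, he'ws⟩ :=
    toolg6_hyp_pair hJ two hdet hn hw hws hwws
  have he'e : bf J e' e = 1 := by rw [bf_symm hJ]; exact hee'
  have hwe : bf J w e = 0 := by rw [bf_symm hJ]; exact hew
  have hwe' : bf J w e' = 0 := by rw [bf_symm hJ]; exact he'w
  have hwT : w ∈ Submodule.span F {w₁ : ι → F | bf J w₁ w₁ = 0 ∧ bf J w w₁ = 0} :=
    Submodule.subset_span ⟨hw, hw⟩
  have heT : e ∈ Submodule.span F {w₁ : ι → F | bf J w₁ w₁ = 0 ∧ bf J w w₁ = 0} :=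
    Submodule.subset_span ⟨hee, hwe⟩
  have he'T : e' ∈ Submodule.span F {w₁ : ι → F | bf J w₁ w₁ = 0 ∧ bf J w w₁ = 0} :=
    Submodule.subset_span ⟨he'e', hwe'⟩
  obtain ⟨n₁, hn₁⟩ : ∃ n₁ : ι → F, n₁ = n - bf J ws n • w := ⟨_, rfl⟩
  have hwn₁ : bf J w n₁ = 0 := by
    rw [hn₁, bf_sub_right, bf_smul_right, hw, mul_zero, sub_zero]; exact hwn
  obtain ⟨y, hy⟩ : ∃ y : ι → F, y = n₁ - bf J e' n₁ • e - bf J e n₁ • e' := ⟨_, rfl⟩
  have hey : bf J e y = 0 := by
    rw [hy]; simp only [bf_sub_right, bf_smul_right, hee, hee']; ring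
  have he'y : bf J e' y = 0 := by
    rw [hy]; simp only [bf_sub_right, bf_smul_right, he'e', he'e]; ring
  have hye : bf J y e = 0 := by rw [bf_symm hJ]; exact hey
  have hye' : bf J y e' = 0 := by rw [bf_symm hJ]; exact he'y
  have hwy : bf J w y = 0 := by
    rw [hy]; simp only [bf_sub_right, bf_smul_right, hwn₁, hwe, hwe']; ring
  obtain ⟨v, hv⟩ : ∃ v : ι → F, v = y - (bf J y y / 2) • e + e' := ⟨_, rfl⟩
  have hvv : bf J v v = 0 := by
    rw [hv]
    simp only [bf_add_left, bf_add_right, bf_sub_left, bf_sub_right, bf_smul_left, bf_smul_right,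
      hee, hee', he'e, he'e', hey, he'y, hye, hye']
    field_simp
    ring
  have hwv : bf J w v = 0 := by
    rw [hv]; simp only [bf_add_right, bf_sub_right, bf_smul_right, hwy, hwe, hwe']; ring
  have hvT : v ∈ Submodule.span F {w₁ : ι → F | bf J w₁ w₁ = 0 ∧ bf J w w₁ = 0} :=
    Submodule.subset_span ⟨hvv, hwv⟩
  have hn_eq : n = v + (bf J y y / 2 + bf J e' n₁) • e + (bf J e n₁ - 1) • e' + bf J ws n • w := by
    have h1 : n = n₁ + bf J ws n • w := by rw [hn₁]; abel
    have h2 : n₁ = y + bf J e' n₁ • e + bf J e n₁ • e' := by rw [hy]; abel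
    have h3 : y = v + (bf J y y / 2) • e - e' := by rw [hv]; abel
    conv_lhs => rw [h1, h2, h3]
    rw [add_smul, sub_smul, one_smul]
    abel
  rw [hn_eq]
  exact Submodule.add_mem _ (Submodule.add_mem _ (Submodule.add_mem _ hvT
    (Submodule.smul_mem _ _ heT)) (Submodule.smul_mem _ _ he'T)) (Submodule.smul_mem _ _ hwT)

end Cfsg.Agent.Lib.Helper28.TOO
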