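import Cfsg.Agent.Lib.Helper21.TOO.LG1
import Cfsg.Agent.Lib.helper6.TOOLG4

/-!
# Project TOO, row LG5 (`move_sing`, helper23): moving a singular vector of `w^⊥` off its own perpendicular by an element of `Ω` fixing `w`.
-/

set_option autoImplicit false
set_option linter.unusedSectionVars false
set_option linter.unusedVariables false

namespace Cfsg.Agent.Lib.Helper28.TOO

open Matrix
open scoped Kronecker
open Cfsg.Agent.Lib.helper7.TP Cfsg.Agent.Lib.Helper21.TS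

variable {ι : Type*} [Fintype ι] [DecidableEq ι] {F : Type*} [Field F]

/-- a vector perpendicular to `w` and `n'` with `f(y, w₁) = 1`, when `w₁ ⊥ n'` is singular, `n'` non-singular and `w₁ ∉ F w`. -/
theorem toolg5_exists_y {J : Matrix ι ι F} (hJ : Jᵀ = J) (hdet : J.det ≠ 0) {w w₁ n' : ι → F}
    (hw₁n : bf J w₁ n' = 0) (hwn : bf J w n' = 0) (hnn : bf J n' n' ≠ 0)
    (hind : ∀ c : F, w₁ ≠ c • w) :
    ∃ y : ι → F, bf J y w = 0 ∧ bf J y n' = 0 ∧ bf J y w₁ = 1 := by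
  classical
  set S : Submodule F (ι → F) := Submodule.span F {w, n'} with hS
  have hex : ∃ y ∈ perp J S, bf J y w₁ ≠ 0 := by
    by_contra hcon
    push Not at hcon
    have hw₁S : w₁ ∈ S := by
      rw [← tooperp_perp_perp hJ hdet S]
      intro y hy
      rw [bf_symm hJ]
      exact hcon y hy
    obtain ⟨α, β, hαβ⟩ := Submodule.mem_span_pair.mp hw₁S
    have e1 := hw₁n
    rw [← hαβ, bf_add_left, bf_smul_left, bf_smul_left, hwn, mul_zero, zero_add] at e1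
    have hβ : β = 0 := (mul_eq_zero.mp e1).resolve_right hnn
    apply hind α
    rw [← hαβ, hβ, zero_smul, add_zero]
  obtain ⟨y, hy, hyw₁⟩ := hex
  refine ⟨(bf J y w₁)⁻¹ • y, ?_, ?_, ?_⟩
  · rw [bf_smul_left, hy w (Submodule.subset_span (by simp)), mul_zero]
  · rw [bf_smul_left, hy n' (Submodule.subset_span (by simp)), mul_zero]
  · rw [bf_smul_left, inv_mul_cancel₀ hyw₁]

/-- LG5 [M]. moving a singular vector of `w^⊥` off its own perpendicular by an element of `Ω` fixing `w`. -/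
theorem move_sing {J : Matrix ι ι F} (hJ : Jᵀ = J) (two : (2 : F) ≠ 0) (hdet : J.det ≠ 0)
    (hn : 5 ≤ Fintype.card ι) {w w₁ : ι → F} (hw0 : w ≠ 0) (hw : bf J w w = 0)
    (hw₁ : bf J w₁ w₁ = 0) (hww₁ : bf J w w₁ = 0) (hind : ∀ c : F, w₁ ≠ c • w) :
    ∃ β ∈ Om J, (β : Matrix ι ι F) *ᵥ w = w ∧ bf J ((β : Matrix ι ι F) *ᵥ w₁) w₁ ≠ 0 := by
  obtain ⟨n', hwn, hw₁n, hnn⟩ := exists_nonsing_perp2 hJ two hdet hn hw0 hw hw₁ hww₁
  obtain ⟨y, hyw, hyn, hyw₁⟩ := toolg5_exists_y hJ hdet hw₁n hwn hnn hind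
  have hw₁w : bf J w₁ w = 0 := by rw [bf_symm hJ]; exact hww₁
  have hw₁y : bf J w₁ y = 1 := by rw [bf_symm hJ]; exact hyw₁
  have hn'w : bf J n' w = 0 := by rw [bf_symm hJ]; exact hwn
  have hn'w₁ : bf J n' w₁ = 0 := by rw [bf_symm hJ]; exact hw₁n
  set w₁' : ι → F := y - (bf J y y / 2) • w₁ with hw₁'
  have h1 : bf J w₁' w₁' = 0 := by
    rw [hw₁']
    simp only [bf_sub_left, bf_sub_right, bf_smul_left, bf_smul_right, hw₁, hyw₁, hw₁y]
    field_simp
    ring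
  have h2 : bf J w₁' n' = 0 := by
    rw [hw₁', bf_sub_left, bf_smul_left, hyn, hw₁n, mul_zero, sub_zero]
  have h3 : bf J w₁' w = 0 := by
    rw [hw₁', bf_sub_left, bf_smul_left, hyw, hw₁w, mul_zero, sub_zero]
  have h4 : bf J w₁' w₁ = 1 := by
    rw [hw₁', bf_sub_left, bf_smul_left, hyw₁, hw₁, mul_zero, sub_zero]
  obtain ⟨β, hβ, hβm⟩ := sieg_mem_Om hJ two hdet h1 h2
  refine ⟨β, hβ, ?_, ?_⟩
  · rw [hβm, sieg_mulVec, hn'w, h3, zero_smul, zero_smul, mul_zero, zero_smul, add_zero, sub_zero,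
      sub_zero]
  · rw [hβm, sieg_mulVec, hn'w₁, h4, zero_smul, add_zero, one_smul, mul_one]
    have h5 : bf J w₁ w₁' = 1 := by rw [bf_symm hJ]; exact h4
    rw [bf_sub_left, bf_sub_left, bf_smul_left, hw₁, hn'w₁, h4, sub_zero, zero_sub, mul_one]
    exact neg_ne_zero.mpr (div_ne_zero hnn two)

end Cfsg.Agent.Lib.Helper28.TOO
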