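import Mathlib
import Cfsg.Agent.Lib.Lead.W2P.Defs
import Cfsg.Agent.Lib.Helper25.CharLinear

/-! W2P-NOLIN (helper23): the permutation character of a primitive group of degree `2p` has no
non-trivial linear constituent -/

set_option autoImplicit false
set_option linter.unusedVariables false
set_option linter.unusedSectionVars false
open scoped ComplexConjugate
open Classical

namespace Cfsg.Agent.Lib.Lead.W2P

open MulAction Cfsg.Agent.Lib.helper6.PermChar Cfsg.Agent.Lib.Helper25

universe u v

section A

variable {G : Type u} [Group G] [Fintype G] {Ω : Type v} [Fintype Ω] [DecidableEq Ω] [MulAction G Ω]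
  {p : ℕ} [Fact p.Prime]

/-- the permutation character as a sum of indicators -/
theorem w2pnolin_piChar (g : G) :
    piChar G Ω g = ∑ ω : Ω, if g • ω = ω then (1 : ℂ) else 0 := by
  unfold piChar
  rw [Finset.sum_boole]
  have h := fx_eq_card_filter (Ω := Ω) g
  unfold fx at h
  rw [h]

/-- a linear character which is non-trivial on every point stabilizer is orthogonal to the permutation
character -/
theorem w2pnolin_inner_zero (χ : Cfsg.IrrCharacter G) (h1 : (χ : G → ℂ) 1 = 1)
    (key : ∀ ω : Ω, ∃ g : G, g • ω = ω ∧ (χ : G → ℂ) g ≠ 1) :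
    Cfsg.classInner (piChar G Ω) (χ : G → ℂ) = 0 := by
  unfold Cfsg.classInner
  have hsum : ∑ g : G, piChar G Ω g * conj ((χ : G → ℂ) g) = 0 := by
    simp_rw [w2pnolin_piChar, Finset.sum_mul]
    rw [Finset.sum_comm]
    apply Finset.sum_eq_zero
    intro ω _
    obtain ⟨g0, hg0, hg0'⟩ := key ω
    have hinv : g0⁻¹ • ω = ω := by
      calc g0⁻¹ • ω = g0⁻¹ • g0 • ω := by rw [hg0]
        _ = ω := inv_smul_smul g0 ω
    have hT : conj ((χ : G → ℂ) g0) *
        (∑ g : G, (if g • ω = ω then (1 : ℂ) else 0) * conj ((χ : G → ℂ) g)) =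
        ∑ g : G, (if g • ω = ω then (1 : ℂ) else 0) * conj ((χ : G → ℂ) g) := by
      rw [Finset.mul_sum]
      refine Fintype.sum_equiv (Equiv.mulLeft g0) _ _ (fun g => ?_)
      have hiff : (g0 * g) • ω = ω ↔ g • ω = ω := by
        rw [mul_smul]
        constructor
        · intro h
          calc g • ω = g0⁻¹ • g0 • g • ω := (inv_smul_smul g0 _).symm
            _ = ω := by rw [h, hinv]
        · intro h
          rw [h, hg0]
      show conj ((χ : G → ℂ) g0) * ((if g • ω = ω then (1 : ℂ) else 0) * conj ((χ : G → ℂ) g)) =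
        (if (g0 * g) • ω = ω then (1 : ℂ) else 0) * conj ((χ : G → ℂ) (g0 * g))
      rw [irr_linear_mul χ h1, map_mul]
      by_cases hg : g • ω = ω
      · rw [if_pos hg, if_pos (hiff.2 hg)]; ring
      · rw [if_neg hg, if_neg (fun h => hg (hiff.1 h))]; ring
    have hc : conj ((χ : G → ℂ) g0) ≠ 1 := by
      intro h
      apply hg0'
      have := congrArg conj h
      rwa [Complex.conj_conj, map_one] at this
    have hT' : (conj ((χ : G → ℂ) g0) - 1) *
        (∑ g : G, (if g • ω = ω then (1 : ℂ) else 0) * conj ((χ : G → ℂ) g)) = 0 := by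
      rw [sub_mul, hT, one_mul, sub_self]
    rcases mul_eq_zero.1 hT' with h | h
    · exact absurd (sub_eq_zero.1 h) hc
    · exact h
  rw [hsum, mul_zero]

variable {P : Sylow p G}

/-- NOLIN : the permutation character has no non-trivial linear constituent -/
theorem no_linear (S : Setting G Ω p P) (χ : Cfsg.IrrCharacter G) (h1 : (χ : G → ℂ) 1 = 1)
    (hne : χ ≠ trivIrr G) : Cfsg.classInner (piChar G Ω) (χ : G → ℂ) = 0 := by
  have := S.prim
  have := S.faithful
  have : IsPretransitive G Ω := S.prim.toIsPretransitive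
  have hp : p.Prime := Fact.out
  have : Nontrivial Ω := by
    rw [← Fintype.one_lt_card_iff_nontrivial, S.card]
    have := hp.two_le
    omega
  apply w2pnolin_inner_zero χ h1
  intro a
  by_contra hcon
  push Not at hcon
  have hHK : stabilizer G a ≤ (irrLinearHom χ h1).ker := by
    intro g hg
    rw [MonoidHom.mem_ker]
    apply Units.ext
    rw [irrLinearHom_apply, Units.val_one]
    exact hcon g hg
  have hKtop : (irrLinearHom χ h1).ker ≠ ⊤ := by
    intro htop
    apply hne
    apply Subtype.ext
    funext g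
    have hg : g ∈ (irrLinearHom χ h1).ker := htop ▸ Subgroup.mem_top g
    rw [MonoidHom.mem_ker] at hg
    have h2 := congrArg (fun u : ℂˣ => (u : ℂ)) hg
    simp only [irrLinearHom_apply, Units.val_one] at h2
    rw [h2]
    rfl
  have hco : IsCoatom (stabilizer G a) :=
    IsPreprimitive.isCoatom_stabilizer_of_isPreprimitive G a
  have hHeq : stabilizer G a = (irrLinearHom χ h1).ker := by
    by_contra hneq
    exact hKtop (hco.2 _ (lt_of_le_of_ne hHK hneq))
  have hnorm : (stabilizer G a).Normal := by
    rw [hHeq]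
    exact MonoidHom.normal_ker _
  have hbot : stabilizer G a = ⊥ := by
    rw [Subgroup.eq_bot_iff_forall]
    intro h hh
    apply FaithfulSMul.eq_of_smul_eq_smul (α := Ω)
    intro ω
    obtain ⟨k, rfl⟩ := exists_smul_eq G a ω
    rw [one_smul]
    have hmem : k⁻¹ * h * k ∈ stabilizer G a := by
      have := hnorm.conj_mem h hh k⁻¹
      simpa using this
    rw [mem_stabilizer_iff, mul_smul, mul_smul] at hmem
    calc h • k • a = k • (k⁻¹ • h • k • a) := by rw [smul_inv_smul]
      _ = k • a := by rw [hmem]
  have hcardG : Nat.card G = 2 * p := by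
    have h := index_stabilizer_of_transitive G a
    rw [hbot, Subgroup.index_bot, Nat.card_eq_fintype_card (α := Ω), S.card] at h
    exact h
  obtain ⟨g, hg⟩ := exists_prime_orderOf_dvd_card' (G := G) 2 (by rw [hcardG]; exact dvd_mul_right 2 p)
  have hgne : Subgroup.zpowers g ≠ ⊥ := by
    intro h
    rw [Subgroup.zpowers_eq_bot] at h
    rw [h, orderOf_one] at hg
    omega
  have htop : Subgroup.zpowers g = ⊤ := by
    apply hco.2
    rw [hbot]
    exact bot_lt_iff_ne_bot.2 hgne
  have hc := Nat.card_zpowers g
  rw [htop, Subgroup.card_top, hcardG, hg] at hc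
  have := hp.two_le
  omega

end A

end Cfsg.Agent.Lib.Lead.W2P
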