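import Mathlib
import Cfsg.Prelude.Def_GeometricClasses
import Cfsg.Agent.Lib.Helper27.ASC.Defs
import Cfsg.Agent.Lib.helper23.ASCO.Defs
import Cfsg.Agent.Lib.Helper19.ASG.Defs
import Cfsg.Agent.Lib.Helper1.ASGCLIF3
import Cfsg.Agent.Lib.Helper25.ASO.Defs
import Cfsg.Agent.Lib.helper23.ASE.Defs
import Cfsg.Agent.Lib.Helper20.ASE10M.Defs

/-! E10M piece F5-CANON1 (helper23). -/

set_option autoImplicit false
set_option linter.unusedVariables false
set_option linter.unusedSectionVars false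

namespace Cfsg.Agent.Lib.Helper16.E10M

open Cfsg Cfsg.Geo Cfsg.Agent.Lib.Helper27.ASC Cfsg.Agent.Lib.helper23.ASCO Cfsg.Agent.Lib.Helper19.ASG
  Cfsg.Agent.Lib.Helper25.ASO
open scoped MatrixGroups Matrix Kronecker

variable {n : ℕ} {F : Type*} [Field F] [Fintype F]

/-- squares of a field subalgebra separate (own copy of F5-SQ) -/
theorem e10mf5canon1_sq {r : ℕ} (K : Subalgebra F (Matrix (Fin n) (Fin n) F)) (hK : IsFieldSubalgebra r K)
    (ℓ : Matrix (Fin n) (Fin n) F →ₗ[F] F) (hℓ : ∀ c ∈ K, (∀ k ∈ K, ℓ (k * c) = 0) → c = 0)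
    (t : Matrix (Fin n) (Fin n) F) (ht : t ∈ K) (h : ∀ a ∈ K, ℓ (t * a * a) = 0) : t = 0 := by
  classical
  apply hℓ t ht
  by_cases h2 : (2 : F) = 0
  · -- squaring is onto
    have hdbl : ∀ M : Matrix (Fin n) (Fin n) F, M + M = 0 := fun M => by
      rw [← two_smul F M, h2, zero_smul]
    have hinj : Function.Injective (fun a : K => a * a) := by
      intro a b hab
      have hab' : (a : Matrix (Fin n) (Fin n) F) * a = b * b := congrArg Subtype.val hab
      have hcomm : (a : Matrix (Fin n) (Fin n) F) * b = b * a := hK.comm a a.2 b b.2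
      have h0 : ((a : Matrix (Fin n) (Fin n) F) - b) * (a - b) = 0 := by
        have e : ((a : Matrix (Fin n) (Fin n) F) - b) * (a - b) =
            (a : Matrix (Fin n) (Fin n) F) * a + b * b - ((a : Matrix (Fin n) (Fin n) F) * b + b * a) := by
          noncomm_ring
        rw [e, hab', hdbl, ← hcomm, hdbl, sub_zero]
      by_contra hne
      have hne' : (a : Matrix (Fin n) (Fin n) F) - b ≠ 0 := by
        intro h0'
        apply hne
        exact Subtype.ext (sub_eq_zero.mp h0')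
      obtain ⟨y, hy, hy1⟩ := hK.inv _ (K.sub_mem a.2 b.2) hne'
      apply hne'
      calc (a : Matrix (Fin n) (Fin n) F) - b = ((a : Matrix (Fin n) (Fin n) F) - b) * (((a : Matrix (Fin n) (Fin n) F) - b) * y) := by
            rw [hy1, mul_one]
        _ = 0 := by rw [← mul_assoc, h0, zero_mul]
    have hsurj : Function.Surjective (fun a : K => a * a) := Finite.injective_iff_surjective.mp hinj
    intro k hk
    obtain ⟨a, ha⟩ := hsurj ⟨k, hk⟩
    have ha' : (a : Matrix (Fin n) (Fin n) F) * a = k := congrArg Subtype.val ha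
    rw [hK.comm k hk t ht, ← ha', ← mul_assoc]
    exact h a a.2
  · intro k hk
    have h1 := h (k + 1) (K.add_mem hk K.one_mem)
    have h2' := h k hk
    have h3 := h 1 K.one_mem
    have e : t * (k + 1) * (k + 1) = t * k * k + (t * k + t * k) + t * 1 * 1 := by
      noncomm_ring
    rw [e, map_add, map_add, h2', h3, zero_add, add_zero, ← two_smul F (t * k), map_smul, smul_eq_mul] at h1
    rw [hK.comm k hk t ht]
    exact (mul_eq_zero.mp h1).resolve_left h2

open scoped IsMulCommutative in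
theorem efield_gen_mem {r : ℕ} (hr : 0 < r) (Q : QuadraticForm F (Fin n → F))
    (K : Subalgebra F (Matrix (Fin n) (Fin n) F)) (hK : IsFieldSubalgebra r K)
    {ℓ : Matrix (Fin n) (Fin n) F →ₗ[F] F} {v w : Fin n → F} {s β : Matrix (Fin n) (Fin n) F}
    (hc : EFieldCoord (⇑Q) K ℓ v w s β)
    (haniso : ∀ a ∈ K, ∀ b ∈ K, a * a + s * a * b + β * b * b = 0 → a = 0 ∧ b = 0)
    (j : Matrix (Fin n) (Fin n) F) (hjK : ∀ k ∈ K, j * k = k * j)
    (hj : ∀ a ∈ K, ∀ b ∈ K, j *ᵥ (a *ᵥ v + b *ᵥ w) = (-(β * b)) *ᵥ v + (a + s * b) *ᵥ w) :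
    ∀ x ∈ efieldGen (⇑Q) K, ∃ a ∈ K, ∃ b ∈ K, x = a + b * j := by
  classical
  haveI : IsMulCommutative K := ⟨⟨fun x y => Subtype.ext (hK.comm x x.2 y y.2)⟩⟩
  set sK : K := ⟨s, hc.hs⟩ with hsK
  set βK : K := ⟨β, hc.hβ⟩ with hβK
  let ℓK : K →ₗ[F] F := ℓ.comp K.val.toLinearMap
  let Φ : K → K → (Fin n → F) := fun a b =>
    (a : Matrix (Fin n) (Fin n) F) *ᵥ v + (b : Matrix (Fin n) (Fin n) F) *ᵥ w
  let N : K → K → K := fun a b => a * a + sK * a * b + βK * b * b
  have hquad : ∀ a b : K, Q (Φ a b) = ℓK (N a b) := fun a b => hc.quad a a.2 b b.2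
  have hΦadd : ∀ a b a' b' : K, Φ a b + Φ a' b' = Φ (a + a') (b + b') := by
    intro a b a' b'
    simp only [Φ, Subalgebra.coe_add, Matrix.add_mulVec]
    abel
  have hΦmul : ∀ k a b : K, (k : Matrix (Fin n) (Fin n) F) *ᵥ Φ a b = Φ (k * a) (k * b) := by
    intro k a b
    simp only [Φ, Subalgebra.coe_mul, Matrix.mulVec_add, Matrix.mulVec_mulVec]
  have hΦ0 : Φ 0 0 = 0 := by simp [Φ]
  have hsurj : ∀ u : Fin n → F, ∃ a b : K, u = Φ a b := by
    intro u
    obtain ⟨a, ha, b, hb, h⟩ := hc.surj u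
    exact ⟨⟨a, ha⟩, ⟨b, hb⟩, h⟩
  have hpolar : ∀ a b a' b' : K, QuadraticMap.polar (⇑Q) (Φ a b) (Φ a' b') =
      ℓK ((a * a' + a * a') + sK * (a * b' + a' * b) + (βK * b * b' + βK * b * b')) := by
    intro a b a' b'
    unfold QuadraticMap.polar
    rw [hΦadd, hquad, hquad, hquad, ← map_sub, ← map_sub]
    congr 1
    simp only [N]
    ring
  have hjΦ : ∀ a b : K, j *ᵥ Φ a b = Φ (-(βK * b)) (a + sK * b) := fun a b => hj a a.2 b b.2
  have hjv : j *ᵥ v = w := by
    have h := hj 1 K.one_mem 0 K.zero_mem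
    simpa using h
  -- the element
  rintro x ⟨hxK, c, hxc⟩
  obtain ⟨a₁, b₁, hxv⟩ := hsurj (x *ᵥ v)
  set y : Matrix (Fin n) (Fin n) F := x - ((a₁ : Matrix (Fin n) (Fin n) F) + (b₁ : Matrix (Fin n) (Fin n) F) * j) with hy
  have hyK : ∀ k ∈ K, y * k = k * y := by
    intro k hk
    rw [hy, sub_mul, mul_sub, hxK k hk, add_mul, mul_add, hK.comm _ a₁.2 k hk, mul_assoc, hjK k hk, ← mul_assoc,
      hK.comm _ b₁.2 k hk, mul_assoc]
  have hyv : y *ᵥ v = 0 := by
    rw [hy, Matrix.sub_mulVec, Matrix.add_mulVec, ← Matrix.mulVec_mulVec, hjv, hxv]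
    simp [Φ]
  obtain ⟨a₂, b₂, hyw⟩ := hsurj (y *ᵥ w)
  have hyΦ : ∀ a b : K, y *ᵥ Φ a b = Φ (b * a₂) (b * b₂) := by
    intro a b
    have h1 : y *ᵥ Φ a b = (a : Matrix (Fin n) (Fin n) F) *ᵥ (y *ᵥ v) + (b : Matrix (Fin n) (Fin n) F) *ᵥ (y *ᵥ w) := by
      simp only [Φ, Matrix.mulVec_add, Matrix.mulVec_mulVec, hyK _ a.2, hyK _ b.2]
    rw [h1, hyv, hyw, Matrix.mulVec_zero, zero_add, hΦmul]
  have hxΦ : ∀ a b : K, x *ᵥ Φ a b =
      Φ (b * a₂ + a₁ * a - b₁ * (βK * b)) (b * b₂ + a₁ * b + b₁ * (a + sK * b)) := by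
    intro a b
    have hx : x = y + ((a₁ : Matrix (Fin n) (Fin n) F) + (b₁ : Matrix (Fin n) (Fin n) F) * j) := by
      rw [hy]; abel
    rw [hx, Matrix.add_mulVec, Matrix.add_mulVec, ← Matrix.mulVec_mulVec, hyΦ, hjΦ, hΦmul, hΦmul, hΦadd, hΦadd]
    congr 1 <;> ring
  -- the key identity
  set t : K := (a₁ + a₁) + sK * b₁ - algebraMap F K c with ht
  set p : K := (a₂ + a₂) + sK * b₂ with hp
  set q : K := sK * a₂ + (βK * b₂ + βK * b₂) with hq
  have hℓc : ∀ z : K, ℓK (algebraMap F K c * z) = c * ℓK z := by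
    intro z
    rw [← Algebra.smul_def, map_smul, smul_eq_mul]
  have key : ∀ a b : K, ℓK (a * b * p + b * b * q + t * N a b) = 0 := by
    intro a b
    have h1 := hxc (Φ a b)
    rw [hxΦ, hpolar, hquad, ← hℓc, ← sub_eq_zero, ← map_sub] at h1
    rw [← h1]
    congr 1
    simp only [N, ht, hp, hq]
    ring
  have hℓ' : ∀ z : K, (∀ k : K, ℓK (k * z) = 0) → z = 0 := by
    intro z hz
    apply Subtype.ext
    exact hc.ell z z.2 (fun k hk => hz ⟨k, hk⟩)
  have hsq : ∀ z : K, (∀ a : K, ℓK (z * a * a) = 0) → z = 0 := by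
    intro z hz
    apply Subtype.ext
    exact e10mf5canon1_sq K hK ℓ hc.ell z z.2 (fun a ha => hz ⟨a, ha⟩)
  have ht0 : t = 0 := by
    apply hsq
    intro a
    have := key a 0
    simp only [N, mul_zero, zero_mul, add_zero, zero_add] at this
    rw [← this]
    congr 1
    ring
  have key2 : ∀ a b : K, ℓK (a * b * p + b * b * q) = 0 := by
    intro a b
    have := key a b
    rwa [ht0, zero_mul, add_zero] at this
  have hq0' : ℓK q = 0 := by
    have := key2 0 1
    simpa using this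
  have hp0 : p = 0 := by
    apply hℓ'
    intro k
    have := key2 k 1
    simp only [mul_one, one_mul, map_add, hq0', add_zero] at this
    exact this
  have hq0 : q = 0 := by
    apply hsq
    intro b
    have := key2 0 b
    simp only [zero_mul, zero_add] at this
    rw [← this]
    congr 1
    ring
  -- `a₂ = b₂ = 0`
  have hK1 : (1 : K) ≠ 0 := by
    intro h10
    have hsub : Subsingleton K := ⟨fun a b => by rw [← mul_one a, ← mul_one b, h10, mul_zero, mul_zero]⟩
    have := hK.finrank_eq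
    rw [Module.finrank_zero_of_subsingleton] at this
    omega
  have haniso' : ∀ a b : K, N a b = 0 → a = 0 ∧ b = 0 := by
    intro a b h
    obtain ⟨h1, h2⟩ := haniso a a.2 b b.2 (congrArg Subtype.val h)
    exact ⟨Subtype.ext h1, Subtype.ext h2⟩
  have hab2 : a₂ = 0 ∧ b₂ = 0 := by
    by_cases h2 : (2 : F) = 0
    · have hdbl : ∀ z : K, z + z = 0 := fun z => by rw [← two_smul F z, h2, zero_smul]
      have hs0 : sK ≠ 0 := by
        intro hs0
        -- a square root of `β`
        have hinj : Function.Injective (fun a : K => a * a) := by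
          intro a b hab
          have hab' : a * a = b * b := hab
          have h0 : (a - b) * (a - b) = 0 := by
            have e : (a - b) * (a - b) = a * a + b * b - (a * b + a * b) := by ring
            rw [e, hab', hdbl, hdbl, sub_zero]
          by_contra hne
          have hne' : ((a - b : K) : Matrix (Fin n) (Fin n) F) ≠ 0 := by
            intro h0'
            apply hne
            have : a - b = 0 := Subtype.ext h0'
            exact sub_eq_zero.mp this
          obtain ⟨y', hy', hy1⟩ := hK.inv _ (a - b).2 hne'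
          apply hne'
          have h0m : ((a - b : K) : Matrix (Fin n) (Fin n) F) * ((a - b : K) : Matrix (Fin n) (Fin n) F) = 0 :=
            congrArg Subtype.val h0
          calc ((a - b : K) : Matrix (Fin n) (Fin n) F)
              = ((a - b : K) : Matrix (Fin n) (Fin n) F) * (((a - b : K) : Matrix (Fin n) (Fin n) F) * y') := by
                rw [hy1, mul_one]
            _ = 0 := by rw [← mul_assoc, h0m, zero_mul]
        obtain ⟨γ, hγ⟩ := (Finite.injective_iff_surjective.mp hinj) βK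
        have hγ' : γ * γ = βK := hγ
        have hN : N γ 1 = 0 := by
          simp only [N, hs0, zero_mul, add_zero, mul_one, hγ', hdbl]
        exact hK1 (haniso' γ 1 hN).2
      have hs' : ((sK : K) : Matrix (Fin n) (Fin n) F) ≠ 0 := fun h => hs0 (Subtype.ext h)
      obtain ⟨si, hsi, hsi1⟩ := hK.inv _ sK.2 hs'
      have hsi1' : sK * (⟨si, hsi⟩ : K) = 1 := Subtype.ext hsi1
      have hb : sK * b₂ = 0 := by
        have := hp0
        rw [hp, hdbl, zero_add] at this
        exact this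
      have ha : sK * a₂ = 0 := by
        have := hq0
        rw [hq, hdbl, add_zero] at this
        exact this
      constructor
      · calc a₂ = (sK * ⟨si, hsi⟩) * a₂ := by rw [hsi1', one_mul]
          _ = ⟨si, hsi⟩ * (sK * a₂) := by ring
          _ = 0 := by rw [ha, mul_zero]
      · calc b₂ = (sK * ⟨si, hsi⟩) * b₂ := by rw [hsi1', one_mul]
          _ = ⟨si, hsi⟩ * (sK * b₂) := by ring
          _ = 0 := by rw [hb, mul_zero]
    · apply haniso'
      have e : N a₂ b₂ + N a₂ b₂ = a₂ * p + b₂ * q := by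
        simp only [N, hp, hq]
        ring
      rw [hp0, hq0, mul_zero, mul_zero, add_zero, ← two_smul F (N a₂ b₂)] at e
      exact (smul_eq_zero.mp e).resolve_left h2
  -- `y = 0`
  have hy0 : y = 0 := by
    have h0 : ∀ u : Fin n → F, y *ᵥ u = 0 := by
      intro u
      obtain ⟨a, b, rfl⟩ := hsurj u
      rw [hyΦ, hab2.1, hab2.2, mul_zero, hΦ0]
    ext i k
    have := congrFun (h0 (Pi.single k 1)) i
    simpa using this
  refine ⟨a₁, a₁.2, b₁, b₁.2, ?_⟩
  rw [hy, sub_eq_zero] at hy0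
  exact hy0

end Cfsg.Agent.Lib.Helper16.E10M
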