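import Mathlib
import Cfsg.Prelude.Def_GeometricClasses
import Cfsg.Agent.Lib.Helper27.ASC.Defs
import Cfsg.Agent.Lib.helper23.ASCO.Defs
import Cfsg.Agent.Lib.Helper19.ASG.Defs
import Cfsg.Agent.Lib.Helper1.ASGCLIF3
import Cfsg.Agent.Lib.Helper25.ASO.Defs
import Cfsg.Agent.Lib.helper23.ASE.Defs
import Cfsg.Agent.Lib.Helper20.ASE10M.Defs
import Cfsg.Agent.Lib.Lead.E10MF5REPR
import Cfsg.Agent.Lib.Lead.E10MF5SURJ
import Cfsg.Agent.Lib.Lead.ASED1INV
import Cfsg.Agent.Lib.Helper25.ASOADJ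

/-! E10M pieces F5-COORDO / F5-COORDE (helper23). -/

set_option autoImplicit false
set_option linter.unusedVariables false
set_option linter.unusedSectionVars false

namespace Cfsg.Agent.Lib.Helper16.E10M

open Cfsg Cfsg.Geo Cfsg.Agent.Lib.Helper27.ASC Cfsg.Agent.Lib.helper23.ASCO Cfsg.Agent.Lib.Helper19.ASG
  Cfsg.Agent.Lib.Helper25.ASO
open scoped MatrixGroups Matrix Kronecker

variable {n : ℕ} {F : Type*} [Field F] [Fintype F]

open Cfsg.Agent.Lib.helper23.ASE in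
/-- a vector outside `K v`, with the freeness of `(a, b) ↦ a v + b w` -/
theorem e10mf5coord_free {r : ℕ} (hn : n = 2 * r) (hr : 0 < r) (K : Subalgebra F (Matrix (Fin n) (Fin n) F))
    (hK : IsFieldSubalgebra r K) (v : Fin n → F) (hv : v ≠ 0) :
    ∃ w : Fin n → F, ∀ a ∈ K, ∀ b ∈ K, a *ᵥ v + b *ᵥ w = 0 → a = 0 ∧ b = 0 := by
  classical
  let ψ : K →ₗ[F] (Fin n → F) :=
    { toFun := fun k => (k : Matrix (Fin n) (Fin n) F) *ᵥ v
      map_add' := by intro k k'; simp only [Subalgebra.coe_add, Matrix.add_mulVec]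
      map_smul' := by intro c k; simp only [Subalgebra.coe_smul, Matrix.smul_mulVec, RingHom.id_apply] }
  have hrange : ∃ w : Fin n → F, w ∉ LinearMap.range ψ := by
    by_contra hcon
    push Not at hcon
    have htop : LinearMap.range ψ = ⊤ := Submodule.eq_top_iff'.mpr hcon
    have h1 := LinearMap.finrank_range_le ψ
    rw [htop, finrank_top, Module.finrank_fintype_fun_eq_card, Fintype.card_fin, hK.finrank_eq] at h1
    omega
  obtain ⟨w, hw⟩ := hrange
  refine ⟨w, ?_⟩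
  intro a ha b hb hab
  have hb0 : b = 0 := by
    by_contra hb0
    obtain ⟨y, hy, hby⟩ := hK.inv b hb hb0
    have hyb : y * b = 1 := by rw [hK.comm y hy b hb]; exact hby
    apply hw
    refine ⟨⟨-(y * a), K.neg_mem (K.mul_mem hy ha)⟩, ?_⟩
    show (-(y * a)) *ᵥ v = w
    have h1 : b *ᵥ w = -(a *ᵥ v) := by
      rw [eq_neg_iff_add_eq_zero, add_comm]; exact hab
    calc (-(y * a)) *ᵥ v = y *ᵥ (-(a *ᵥ v)) := by
          rw [Matrix.neg_mulVec, ← Matrix.mulVec_mulVec, Matrix.mulVec_neg]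
      _ = y *ᵥ (b *ᵥ w) := by rw [h1]
      _ = w := by rw [Matrix.mulVec_mulVec, hyb, Matrix.one_mulVec]
  refine ⟨?_, hb0⟩
  by_contra ha0
  obtain ⟨y, hy, hay⟩ := hK.inv a ha ha0
  have hya : y * a = 1 := by rw [hK.comm y hy a ha]; exact hay
  apply hv
  rw [hb0, Matrix.zero_mulVec, add_zero] at hab
  calc v = (y * a) *ᵥ v := by rw [hya, Matrix.one_mulVec]
    _ = 0 := by rw [← Matrix.mulVec_mulVec, hab, Matrix.mulVec_zero]

/-- self-adjointness in the form used below -/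
theorem e10mf5coord_sa (Q : QuadraticForm F (Fin n → F)) (hQ : (QuadraticMap.polarBilin Q).Nondegenerate)
    (K : Subalgebra F (Matrix (Fin n) (Fin n) F)) (hsa : ∀ k ∈ K, oadj (⇑Q) k = k)
    (a b : Matrix (Fin n) (Fin n) F) (ha : a ∈ K) (hb : b ∈ K) (x y : Fin n → F) :
    QuadraticMap.polar (⇑Q) (a *ᵥ x) (b *ᵥ y) = QuadraticMap.polar (⇑Q) ((b * a) *ᵥ x) y := by
  rw [QuadraticMap.polar_comm, oadj_spec Q hQ, hsa b hb, Matrix.mulVec_mulVec, QuadraticMap.polar_comm]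

theorem efield_coord_odd (h2 : (2 : F) ≠ 0) {r : ℕ} (hn : n = 2 * r) (hr : 0 < r) (Q : QuadraticForm F (Fin n → F))
    (hQ : (QuadraticMap.polarBilin Q).Nondegenerate) (K : Subalgebra F (Matrix (Fin n) (Fin n) F))
    (hK : IsFieldSubalgebra r K) (hsa : ∀ k ∈ K, oadj (⇑Q) k = k) :
    ∃ (ℓ : Matrix (Fin n) (Fin n) F →ₗ[F] F) (v w : Fin n → F) (s β : Matrix (Fin n) (Fin n) F),
      EFieldCoord (⇑Q) K ℓ v w s β := by
  classical
  have hn0 : 0 < n := by omega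
  obtain ⟨v, hv⟩ := Cfsg.Agent.Lib.helper23.ASE.ased1inv_exists_nonsing hn0 Q hQ
  have hv0 : v ≠ 0 := by
    rintro rfl
    exact hv (map_zero Q)
  have hself : ∀ x : Fin n → F, QuadraticMap.polar (⇑Q) x x = 2 * Q x := by
    intro x
    rw [QuadraticMap.polar_self, two_smul, two_mul]
  let ℓ : Matrix (Fin n) (Fin n) F →ₗ[F] F :=
    { toFun := fun M => 2⁻¹ * QuadraticMap.polar (⇑Q) (M *ᵥ v) v
      map_add' := by
        intro M M'
        simp only [Matrix.add_mulVec, QuadraticMap.polar_add_left]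
        ring
      map_smul' := by
        intro c M
        simp only [Matrix.smul_mulVec, QuadraticMap.polar_smul_left, RingHom.id_apply, smul_eq_mul]
        ring }
  have hℓdef : ∀ M, QuadraticMap.polar (⇑Q) (M *ᵥ v) v = 2 * ℓ M := by
    intro M
    show _ = (2 : F) * ((2 : F)⁻¹ * QuadraticMap.polar (⇑Q) (M *ᵥ v) v)
    rw [← mul_assoc, mul_inv_cancel₀ h2, one_mul]
  have hℓ1 : ℓ 1 ≠ 0 := by
    show (2 : F)⁻¹ * QuadraticMap.polar (⇑Q) ((1 : Matrix (Fin n) (Fin n) F) *ᵥ v) v ≠ 0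
    rw [Matrix.one_mulVec, hself, ← mul_assoc, inv_mul_cancel₀ h2, one_mul]
    exact hv
  obtain ⟨hell, hrepr⟩ := efield_repr K hK hr ℓ ⟨1, K.one_mem, hℓ1⟩
  obtain ⟨w, hinj⟩ := e10mf5coord_free hn hr K hK v hv0
  -- the two functionals
  let φ₁ : K →ₗ[F] F :=
    { toFun := fun k => QuadraticMap.polar (⇑Q) ((k : Matrix (Fin n) (Fin n) F) *ᵥ v) w
      map_add' := by
        intro k k'
        simp only [Subalgebra.coe_add, Matrix.add_mulVec, QuadraticMap.polar_add_left]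
      map_smul' := by
        intro c k
        simp only [Subalgebra.coe_smul, Matrix.smul_mulVec, QuadraticMap.polar_smul_left, RingHom.id_apply] }
  let φ₂ : K →ₗ[F] F :=
    { toFun := fun k => 2⁻¹ * QuadraticMap.polar (⇑Q) ((k : Matrix (Fin n) (Fin n) F) *ᵥ w) w
      map_add' := by
        intro k k'
        simp only [Subalgebra.coe_add, Matrix.add_mulVec, QuadraticMap.polar_add_left]
        ring
      map_smul' := by
        intro c k
        simp only [Subalgebra.coe_smul, Matrix.smul_mulVec, QuadraticMap.polar_smul_left, RingHom.id_apply, smul_eq_mul]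
        ring }
  obtain ⟨s, hs, hsφ⟩ := hrepr φ₁
  obtain ⟨β, hβ, hβφ⟩ := hrepr φ₂
  refine ⟨ℓ, v, w, s, β, ⟨hs, hβ, hell, hinj, fun x => efield_surj hn K hK.finrank_eq v w hinj x, ?_⟩⟩
  intro a ha b hb
  have hsa' := e10mf5coord_sa Q hQ K hsa
  have e1 : QuadraticMap.polar (⇑Q) (a *ᵥ v) (a *ᵥ v) = 2 * ℓ (a * a) := by
    rw [hsa' a a ha ha, hℓdef]
  have e2 : QuadraticMap.polar (⇑Q) (a *ᵥ v) (b *ᵥ w) = ℓ (s * (b * a)) := by
    rw [hsa' a b ha hb]
    exact hsφ ⟨b * a, K.mul_mem hb ha⟩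
  have e3 : QuadraticMap.polar (⇑Q) (b *ᵥ w) (b *ᵥ w) = 2 * ℓ (β * (b * b)) := by
    rw [hsa' b b hb hb]
    have := hβφ ⟨b * b, K.mul_mem hb hb⟩
    have h3 : (2 : F)⁻¹ * QuadraticMap.polar (⇑Q) ((b * b) *ᵥ w) w = ℓ (β * (b * b)) := this
    rw [← h3, ← mul_assoc, mul_inv_cancel₀ h2, one_mul]
  have hQx : ∀ x : Fin n → F, Q x = 2⁻¹ * QuadraticMap.polar (⇑Q) x x := by
    intro x
    rw [hself, ← mul_assoc, inv_mul_cancel₀ h2, one_mul]
  rw [hQx, QuadraticMap.polar_add_left, QuadraticMap.polar_add_right, QuadraticMap.polar_add_right, e1, e3,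
    QuadraticMap.polar_comm (⇑Q) (b *ᵥ w) (a *ᵥ v), e2]
  have hcomm : b * a = a * b := hK.comm b hb a ha
  rw [hcomm, map_add, map_add, ← mul_assoc s a b, ← mul_assoc β b b]
  field_simp
  ring

end Cfsg.Agent.Lib.Helper16.E10M
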