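import Mathlib
import Cfsg.Prelude.Def_GeometricClasses
import Cfsg.Agent.Lib.Helper27.ASC.Defs
import Cfsg.Agent.Lib.helper23.ASCO.Defs
import Cfsg.Agent.Lib.Helper19.ASG.Defs
import Cfsg.Agent.Lib.Helper1.ASGCLIF3
import Cfsg.Agent.Lib.Helper25.ASO.Defs
import Cfsg.Agent.Lib.helper23.ASE.Defs
import Cfsg.Agent.Lib.Helper20.ASE10M.Defs

/-! E10M piece F5-L (helper23). -/

set_option autoImplicit false
set_option linter.unusedVariables false
set_option linter.unusedSectionVars false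

namespace Cfsg.Agent.Lib.Helper16.E10M

open Cfsg Cfsg.Geo Cfsg.Agent.Lib.Helper27.ASC Cfsg.Agent.Lib.helper23.ASCO Cfsg.Agent.Lib.Helper19.ASG
  Cfsg.Agent.Lib.Helper25.ASO
open scoped MatrixGroups Matrix Kronecker

variable {n : ℕ} {F : Type*} [Field F] [Fintype F]

open scoped IsMulCommutative in
/-- commutative-ring identities for pairwise commuting matrices: the three identities used for `L = K + K j` -/
theorem e10mf5l_idents {R : Type*} [Ring R] [Algebra F R] (a a' b b' s β j : R)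
    (hcomm : ∀ x ∈ ({a, a', b, b', s, β, j} : Set R), ∀ y ∈ ({a, a', b, b', s, β, j} : Set R), x * y = y * x)
    (hjsq : j * j = s * j - β) :
    (a + b * j) * (a' + b' * j) = (a * a' - β * b * b') + (a * b' + b * a' + s * b * b') * j ∧
    (a + b * j) * (a' + b' * j) = (a' + b' * j) * (a + b * j) ∧
    (a + b * j) * ((a + s * b) - b * j) = a * a + s * a * b + β * b * b := by
  have hc := Algebra.isMulCommutative_adjoin F hcomm
  set A := Algebra.adjoin F ({a, a', b, b', s, β, j} : Set R) with hA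
  have mem : ∀ x ∈ ({a, a', b, b', s, β, j} : Set R), x ∈ A := fun x hx => Algebra.subset_adjoin hx
  let a₁ : A := ⟨a, mem a (by simp)⟩
  let a₂ : A := ⟨a', mem a' (by simp)⟩
  let b₁ : A := ⟨b, mem b (by simp)⟩
  let b₂ : A := ⟨b', mem b' (by simp)⟩
  let s₁ : A := ⟨s, mem s (by simp)⟩
  let β₁ : A := ⟨β, mem β (by simp)⟩
  let j₁ : A := ⟨j, mem j (by simp)⟩
  have hj₁ : j₁ * j₁ = s₁ * j₁ - β₁ := Subtype.ext hjsq
  have e1 : (a₁ + b₁ * j₁) * (a₂ + b₂ * j₁) = (a₁ * a₂ - β₁ * b₁ * b₂) + (a₁ * b₂ + b₁ * a₂ + s₁ * b₁ * b₂) * j₁ := by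
    linear_combination (b₁ * b₂) * hj₁
  have e2 : (a₁ + b₁ * j₁) * (a₂ + b₂ * j₁) = (a₂ + b₂ * j₁) * (a₁ + b₁ * j₁) := by ring
  have e3 : (a₁ + b₁ * j₁) * ((a₁ + s₁ * b₁) - b₁ * j₁) = a₁ * a₁ + s₁ * a₁ * b₁ + β₁ * b₁ * b₁ := by
    linear_combination (-(b₁ * b₁)) * hj₁
  exact ⟨congrArg Subtype.val e1, congrArg Subtype.val e2, congrArg Subtype.val e3⟩

theorem efield_L {r : ℕ} (Q : QuadraticForm F (Fin n → F)) (K : Subalgebra F (Matrix (Fin n) (Fin n) F))
    (hK : IsFieldSubalgebra r K) {ℓ : Matrix (Fin n) (Fin n) F →ₗ[F] F} {v w : Fin n → F}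
    {s β : Matrix (Fin n) (Fin n) F} (hc : EFieldCoord (⇑Q) K ℓ v w s β)
    (haniso : ∀ a ∈ K, ∀ b ∈ K, a * a + s * a * b + β * b * b = 0 → a = 0 ∧ b = 0)
    (j : Matrix (Fin n) (Fin n) F) (hjK : ∀ k ∈ K, j * k = k * j)
    (hj : ∀ a ∈ K, ∀ b ∈ K, j *ᵥ (a *ᵥ v + b *ᵥ w) = (-(β * b)) *ᵥ v + (a + s * b) *ᵥ w)
    (hjsq : j * j = s * j - β) :
    ∃ L : Subalgebra F (Matrix (Fin n) (Fin n) F), IsFieldSubalgebra (2 * r) L ∧ K ≤ L ∧ j ∈ L ∧
      ∀ x ∈ L, ∃ a ∈ K, ∃ b ∈ K, x = a + b * j := by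
  classical
  have hKc := hK.comm
  have hs := hc.hs
  have hβ := hc.hβ
  have hfam : ∀ a ∈ K, ∀ a' ∈ K, ∀ b ∈ K, ∀ b' ∈ K,
      ∀ x ∈ ({a, a', b, b', s, β, j} : Set (Matrix (Fin n) (Fin n) F)),
      ∀ y ∈ ({a, a', b, b', s, β, j} : Set (Matrix (Fin n) (Fin n) F)), x * y = y * x := by
    intro a ha a' ha' b hb b' hb'
    have key : ∀ x ∈ ({a, a', b, b', s, β, j} : Set (Matrix (Fin n) (Fin n) F)), x ∈ K ∨ x = j := by
      intro x hx
      simp only [Set.mem_insert_iff, Set.mem_singleton_iff] at hx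
      rcases hx with rfl | rfl | rfl | rfl | rfl | rfl | rfl
      · exact Or.inl ha
      · exact Or.inl ha'
      · exact Or.inl hb
      · exact Or.inl hb'
      · exact Or.inl hs
      · exact Or.inl hβ
      · exact Or.inr rfl
    intro x hx y hy
    rcases key x hx with hx1 | hx1 <;> rcases key y hy with hy1 | hy1
    · exact hKc x hx1 y hy1
    · rw [hy1]; exact (hjK x hx1).symm
    · rw [hx1]; exact hjK y hy1
    · rw [hx1, hy1]
  have hjv : j *ᵥ v = w := by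
    have h := hj 1 K.one_mem 0 K.zero_mem
    simpa using h
  -- the subalgebra
  let L : Subalgebra F (Matrix (Fin n) (Fin n) F) :=
    { carrier := {x | ∃ a ∈ K, ∃ b ∈ K, x = a + b * j}
      mul_mem' := by
        rintro _ _ ⟨a, ha, b, hb, rfl⟩ ⟨a', ha', b', hb', rfl⟩
        refine ⟨a * a' - β * b * b', K.sub_mem (K.mul_mem ha ha') (K.mul_mem (K.mul_mem hβ hb) hb'),
          a * b' + b * a' + s * b * b',
          K.add_mem (K.add_mem (K.mul_mem ha hb') (K.mul_mem hb ha')) (K.mul_mem (K.mul_mem hs hb) hb'), ?_⟩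
        exact (e10mf5l_idents (F := F) a a' b b' s β j (hfam a ha a' ha' b hb b' hb') hjsq).1
      add_mem' := by
        rintro _ _ ⟨a, ha, b, hb, rfl⟩ ⟨a', ha', b', hb', rfl⟩
        exact ⟨a + a', K.add_mem ha ha', b + b', K.add_mem hb hb', by rw [add_mul]; abel⟩
      algebraMap_mem' := by
        intro c
        exact ⟨algebraMap F _ c, K.algebraMap_mem c, 0, K.zero_mem, by rw [zero_mul, add_zero]⟩ }
  have hLmem : ∀ x, x ∈ L ↔ ∃ a ∈ K, ∃ b ∈ K, x = a + b * j := fun x => Iff.rfl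
  refine ⟨L, ⟨?_, ?_, ?_⟩, ?_, ?_, fun x hx => hx⟩
  · -- commutative
    rintro _ ⟨a, ha, b, hb, rfl⟩ _ ⟨a', ha', b', hb', rfl⟩
    exact (e10mf5l_idents (F := F) a a' b b' s β j (hfam a ha a' ha' b hb b' hb') hjsq).2.1
  · -- inverses
    rintro _ ⟨a, ha, b, hb, rfl⟩ hx0
    have hN : a * a + s * a * b + β * b * b ≠ 0 := by
      intro h0
      obtain ⟨rfl, rfl⟩ := haniso a ha b hb h0
      apply hx0
      rw [zero_mul, add_zero]
    have hNK : a * a + s * a * b + β * b * b ∈ K :=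
      K.add_mem (K.add_mem (K.mul_mem ha ha) (K.mul_mem (K.mul_mem hs ha) hb)) (K.mul_mem (K.mul_mem hβ hb) hb)
    obtain ⟨y, hy, hNy⟩ := hK.inv _ hNK hN
    have h3 := (e10mf5l_idents (F := F) a a b b s β j (hfam a ha a ha b hb b hb) hjsq).2.2
    refine ⟨((a + s * b) - b * j) * y, ?_, ?_⟩
    · have h1 : (a + s * b) - b * j ∈ L :=
        ⟨a + s * b, K.add_mem ha (K.mul_mem hs hb), -b, K.neg_mem hb, by rw [neg_mul, sub_eq_add_neg]⟩
      have h2 : y ∈ L := ⟨y, hy, 0, K.zero_mem, by rw [zero_mul, add_zero]⟩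
      exact L.mul_mem h1 h2
    · rw [← mul_assoc, h3, hNy]
  · -- dimension
    let φ : (K × K) →ₗ[F] L :=
      { toFun := fun p => ⟨(p.1 : Matrix (Fin n) (Fin n) F) + (p.2 : Matrix (Fin n) (Fin n) F) * j,
          ⟨p.1, p.1.2, p.2, p.2.2, rfl⟩⟩
        map_add' := by
          intro p p'
          apply Subtype.ext
          show ((p.1 + p'.1 : K) : Matrix (Fin n) (Fin n) F) + ((p.2 + p'.2 : K) : Matrix (Fin n) (Fin n) F) * j =
            ((p.1 : Matrix (Fin n) (Fin n) F) + (p.2 : Matrix (Fin n) (Fin n) F) * j) +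
              ((p'.1 : Matrix (Fin n) (Fin n) F) + (p'.2 : Matrix (Fin n) (Fin n) F) * j)
          rw [Subalgebra.coe_add, Subalgebra.coe_add, add_mul]
          abel
        map_smul' := by
          intro c p
          apply Subtype.ext
          show ((c • p.1 : K) : Matrix (Fin n) (Fin n) F) + ((c • p.2 : K) : Matrix (Fin n) (Fin n) F) * j =
            c • ((p.1 : Matrix (Fin n) (Fin n) F) + (p.2 : Matrix (Fin n) (Fin n) F) * j)
          rw [Subalgebra.coe_smul, Subalgebra.coe_smul, smul_add, smul_mul_assoc] }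
    have hinj : Function.Injective φ := by
      rw [← LinearMap.ker_eq_bot, LinearMap.ker_eq_bot']
      intro p hp
      have h1 : (p.1 : Matrix (Fin n) (Fin n) F) + (p.2 : Matrix (Fin n) (Fin n) F) * j = 0 :=
        congrArg Subtype.val hp
      have h2 : (p.1 : Matrix (Fin n) (Fin n) F) *ᵥ v + (p.2 : Matrix (Fin n) (Fin n) F) *ᵥ w = 0 := by
        have := congrArg (fun M : Matrix (Fin n) (Fin n) F => M *ᵥ v) h1
        simp only [Matrix.add_mulVec, Matrix.zero_mulVec, ← Matrix.mulVec_mulVec, hjv] at this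
        exact this
      obtain ⟨h3, h4⟩ := hc.inj _ p.1.2 _ p.2.2 h2
      exact Prod.ext (Subtype.ext h3) (Subtype.ext h4)
    have hsurj : Function.Surjective φ := by
      rintro ⟨x, a, ha, b, hb, rfl⟩
      exact ⟨(⟨a, ha⟩, ⟨b, hb⟩), rfl⟩
    have e := LinearEquiv.ofBijective φ ⟨hinj, hsurj⟩
    rw [← e.finrank_eq, Module.finrank_prod, hK.finrank_eq]
    ring
  · intro a ha
    exact ⟨a, ha, 0, K.zero_mem, by rw [zero_mul, add_zero]⟩
  · exact ⟨0, K.zero_mem, 1, K.one_mem, by rw [zero_add, one_mul]⟩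

end Cfsg.Agent.Lib.Helper16.E10M
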