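import Mathlib
import Cfsg.Prelude.Def_GeometricClasses
import Cfsg.Agent.Lib.Helper27.ASC.Defs
import Cfsg.Agent.Lib.Helper19.ASG.Defs
import Cfsg.Agent.Lib.Helper26.ASGD1.Defs
import Cfsg.Agent.Lib.helper23.ASGD1CENT

set_option autoImplicit false
set_option linter.unusedVariables false
set_option linter.unusedSectionVars false

/-!
# Project ASG, block D1, piece ARITH (helper23): `n` is a power of `r`
-/

namespace Cfsg.Agent.Lib.Helper19.ASG

open Cfsg Cfsg.Geo Cfsg.Agent.Lib.Helper27.ASC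
open scoped MatrixGroups Matrix

variable {n : ℕ} {F : Type*} [Field F] [Fintype F]

/-- `R` is an `r`-group -/
theorem asgd1arith_isPGroup {r k : ℕ} {R : Subgroup (GL (Fin n) F)} (hR : D1Core r k R) :
    IsPGroup r R := by
  intro y
  have hk : k ∣ r ^ 2 := by
    rw [hR.k_eq, pow_two]
    apply Nat.mul_dvd_mul_left
    rcases hR.prime.eq_two_or_odd' with h2 | hodd
    · subst h2; norm_num
    · have hcop : Nat.gcd 2 r = 1 := Nat.coprime_two_left.mpr hodd
      rw [hcop]; exact one_dvd _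
  refine ⟨2, ?_⟩
  obtain ⟨t, ht⟩ := hk
  rw [ht, pow_mul]
  have : y ^ k = 1 := by
    apply Subtype.ext
    rw [Subgroup.coe_pow, Subgroup.coe_one]
    exact hR.pow y y.2
  rw [this, one_pow]

/-- a natural number whose square is a power of a prime is a power of that prime -/
theorem asgd1arith_sq {r n j : ℕ} (hr : r.Prime) (h : n ^ 2 = r ^ j) : ∃ m : ℕ, n = r ^ m := by
  have hdvd : n ∣ r ^ j := by
    rw [← h]; exact dvd_pow_self n (by norm_num)
  obtain ⟨m, _, hm⟩ := (Nat.dvd_prime_pow hr).mp hdvd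
  exact ⟨m, hm⟩

/-- D1-ARITH : `R` is an `r`-group (exponent), so `n ^ 2 = |R / scalars|` is a power of `r` -/
theorem d1_arith (hn : 2 ≤ n) {r k : ℕ} {R : Subgroup (GL (Fin n) F)} (hR : D1Core r k R)
    (hord : Nat.card (R ⧸ (scalars (Fin n) F).subgroupOf R) = n ^ 2) :
    ∃ m : ℕ, 1 ≤ m ∧ n = r ^ m ∧ Nat.card R = Nat.card (Subgroup.center R) * r ^ (2 * m) := by
  have hp := asgd1arith_isPGroup hR
  have hcen := asgd1cent_center (by omega : 0 < n) hR.absIrr
  have : Fact r.Prime := ⟨hR.prime⟩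
  have hlag := Subgroup.card_eq_card_quotient_mul_card_subgroup ((scalars (Fin n) F).subgroupOf R)
  obtain ⟨j, hj⟩ := IsPGroup.iff_card.mp hp
  have hdvd : n ^ 2 ∣ r ^ j := by
    rw [← hj, hlag, hord]; exact dvd_mul_right _ _
  obtain ⟨j', _, hj'⟩ := (Nat.dvd_prime_pow hR.prime).mp hdvd
  obtain ⟨m, hm⟩ := asgd1arith_sq hR.prime hj'
  refine ⟨m, ?_, hm, ?_⟩
  · rcases Nat.eq_zero_or_pos m with h0 | h0
    · subst h0
      rw [pow_zero] at hm
      omega
    · exact h0
  · have hn2 : n ^ 2 = r ^ (2 * m) := by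
      rw [mul_comm 2 m, pow_mul, ← hm]
    rw [hlag, hord, hcen, hn2, mul_comm]

end Cfsg.Agent.Lib.Helper19.ASG
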