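import Mathlib
import Cfsg.Prelude.Def_GeometricClasses
import Cfsg.Agent.Lib.Helper27.ASC.Defs
import Cfsg.Agent.Lib.Helper19.ASG.Defs
import Cfsg.Agent.Lib.Helper26.ASGD1.Defs
import Cfsg.Agent.Lib.Helper10.ASCIRRNS
import Cfsg.Agent.Lib.helper23.ASGD1CENT

set_option autoImplicit false
set_option linter.unusedVariables false
set_option linter.unusedSectionVars false

/-!
# Project ASG, block D1, piece EXP (helper23): the exponent of `R`
-/

namespace Cfsg.Agent.Lib.Helper19.ASG

open Cfsg Cfsg.Geo Cfsg.Agent.Lib.Helper27.ASC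
open scoped MatrixGroups Matrix

variable {n : ℕ} {F : Type*} [Field F] [Fintype F]

/-- an absolutely irreducible group in dimension at least two is not commutative -/
theorem asgd1exp_not_comm (hn : 2 ≤ n) {R : Subgroup (GL (Fin n) F)} (hA : AbsIrr R) :
    ¬ ∀ a b : R, a * b = b * a := by
  intro hcomm
  apply irr_not_scalar hn hA.1
  intro x hx
  obtain ⟨c, hc⟩ := hA.2 (x : Matrix (Fin n) (Fin n) F) (by
    rintro _ ⟨s, hs, rfl⟩
    have := hcomm ⟨x, hx⟩ ⟨s, hs⟩
    have h1 := congrArg (fun y : R => ((y : GL (Fin n) F) : Matrix (Fin n) (Fin n) F)) this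
    simp only [Subgroup.coe_mul, Units.val_mul] at h1
    exact h1)
  exact asgd1cent_scalar_of_smul (by omega) x c hc

/-- D1-EXP : the exponent divides `k`; it is not `1` or `2` for `r = 2` (else `R` abelian) and not `1` for `r` odd -/
theorem d1_exp (hn : 2 ≤ n) {r k : ℕ} {R : Subgroup (GL (Fin n) F)} (hR : D1Core r k R) :
    Monoid.exponent R = k := by
  have hnc := asgd1exp_not_comm hn hR.absIrr
  have hdvd : Monoid.exponent R ∣ k := by
    apply Monoid.exponent_dvd_of_forall_pow_eq_one
    intro y
    apply Subtype.ext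
    rw [Subgroup.coe_pow, Subgroup.coe_one]
    exact hR.pow y y.2
  have hne1 : Monoid.exponent R ≠ 1 := by
    intro h1
    apply hnc
    intro a b
    have ha : a = 1 := by
      have := Monoid.pow_exponent_eq_one a
      rwa [h1, pow_one] at this
    rw [ha, one_mul, mul_one]
  have hne2 : Monoid.exponent R ≠ 2 := by
    intro h2
    apply hnc
    intro a b
    exact mul_comm_of_exponent_two h2 a b
  have hk := hR.k_eq
  rcases hR.prime.eq_two_or_odd' with h2 | hodd
  · subst h2
    have hk4 : k = 2 ^ 2 := by rw [hk]; norm_num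
    rw [hk4] at hdvd ⊢
    obtain ⟨j, hj, hej⟩ := (Nat.dvd_prime_pow Nat.prime_two).mp hdvd
    interval_cases j
    · exact absurd hej hne1
    · exact absurd hej hne2
    · exact hej
  · have hcop : Nat.gcd 2 r = 1 := Nat.coprime_two_left.mpr hodd
    have hkr : k = r := by rw [hk, hcop, mul_one]
    rw [hkr] at hdvd ⊢
    rcases (Nat.dvd_prime hR.prime).mp hdvd with h | h
    · exact absurd h hne1
    · exact h

end Cfsg.Agent.Lib.Helper19.ASG
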