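import Mathlib
import Cfsg.Prelude.Def_GeometricClasses
import Cfsg.Agent.Lib.Helper27.ASC.Defs
import Cfsg.Agent.Lib.helper23.ASCO.Defs
import Cfsg.Agent.Lib.Helper10.ASCIRRNS
import Cfsg.Agent.Lib.Helper21.ASCES3
import Cfsg.Agent.Lib.Helper25.ASCCENT
import Cfsg.Agent.Lib.Helper11.ASCSIMPLE
import Cfsg.Agent.Lib.Helper20.ASCOBASIC
import Cfsg.Agent.Lib.Helper19.ASCOCONV
import Cfsg.Agent.Lib.Helper16.ASCORED
import Cfsg.Agent.Lib.Helper21.ASCOPLANE3
import Cfsg.Agent.Lib.Helper11.ASCOPRA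
import Cfsg.Agent.Lib.Helper21.ASCOFRAME
import Cfsg.Agent.Lib.helper6.ASCOPRB
import Cfsg.Agent.Lib.Helper10.ASCOFRSUBcore
import Cfsg.Agent.Lib.helper7.ASCOSQ
import Cfsg.Agent.Lib.helper6.ASCOSCHURK
import Cfsg.Agent.Lib.Helper20.ASCOODDFIX
import Cfsg.Agent.Lib.Helper22.ASCONORMS
import Cfsg.Agent.Lib.helper23.ASCOBIU
import Cfsg.Agent.Lib.Helper22.ASCODESC
import Cfsg.Agent.Lib.Helper11.ASCOPRC5
import Cfsg.Agent.Lib.Helper20.ASCOSCHURF
import Cfsg.Agent.Lib.Helper16.ASCOH90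
import Cfsg.Agent.Lib.Helper27.ASCOQRATcore

set_option autoImplicit false
set_option linter.unusedVariables false
set_option linter.unusedSectionVars false

namespace Cfsg.Agent.Lib.helper23.ASCO

open Cfsg Cfsg.Geo Cfsg.Agent.Lib.Helper27.ASC
open scoped MatrixGroups Matrix

variable {F : Type*} [Field F] [Fintype F]

/-- a subfield of prime index is proper -/
theorem asco_ne_top_of_card_pow {F₁ : Subfield F} {ℓ : ℕ} (hℓ : ℓ.Prime)
    (h : Fintype.card F = Nat.card F₁ ^ ℓ) : F₁ ≠ ⊤ := by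
  rintro rfl
  have h1 : Nat.card (⊤ : Subfield F) = Fintype.card F := by
    rw [← Nat.card_eq_fintype_card]
    exact Nat.card_congr (Subfield.topEquiv (K := F)).toEquiv
  rw [h1] at h
  have h2 : 1 < Fintype.card F := Fintype.one_lt_card
  have h3 : 2 ≤ ℓ := hℓ.two_le
  have : Fintype.card F ^ 1 < Fintype.card F ^ ℓ := Nat.pow_lt_pow_right h2 (by omega)
  rw [pow_one] at this
  omega

/-- a group of isometries fixes the quadratic form -/
theorem asco_fixes_of_le {n : ℕ} (Q : (Fin n → F) → F) {P : Subgroup (GL (Fin n) F)}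
    (hP : P ≤ isometryGroup F Q) : FixesQuadForm (matrixSet P) Q := by
  rintro _ ⟨g, hg, rfl⟩ v
  exact hP hg v v

/-- odd characteristic from `2 ≠ 0` -/
theorem asco_odd_card (h2 : (2 : F) ≠ 0) : Odd (Fintype.card F) := by
  by_contra hev
  rw [Nat.not_odd_iff_even] at hev
  have hch : ringChar F = 2 := FiniteField.even_card_iff_char_two.mpr (Nat.even_iff.mp hev)
  have : CharP F 2 := hch ▸ ringChar.charP F
  exact h2 CharTwo.two_eq_zero

/-- FRSUB (wrapper of helper10's core) -/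
theorem asco_frame_subfield {n : ℕ} (hodd : Odd n) (h2 : (2 : F) ≠ 0) (Q : QuadraticForm F (Fin n → F))
    (hQ : (QuadraticMap.polarBilin Q).Nondegenerate) (hG : GramPrime (⇑Q))
    (hnp : ¬ (Fintype.card F).Prime) (D : Fin n → Submodule F (Fin n → F))
    (hD : IsOrthogonalMDecomposition (⇑Q) 1 D) :
    ∃ (F₁ : Subfield F) (ℓ : ℕ) (B : GL (Fin n) F), ℓ.Prime ∧ Fintype.card F = Nat.card F₁ ^ ℓ ∧
      IsQuadFormRationalStructure (⇑Q) F₁ B ∧
      decompositionStabilizer D ⊓ isometryGroup F (⇑Q) ≤ subfieldSubgroup F₁ B :=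
  ascofrsub_core hodd h2 Q hG hnp D hD
    (fun F₁ ℓ ho hc μ hμ => square_class_odd (asco_odd_card h2) F₁ ℓ ho hc μ hμ)
    (fun F₁ hc x hx => square_of_mem_index_two (asco_odd_card h2) F₁ hc x hx)

/-- BIU (wrapper of `ascobiu_core`) -/
theorem asco_realisable_of_quad_unitary {n : ℕ} (hF : Odd (Fintype.card F)) {P : Subgroup (GL (Fin n) F)}
    (hA : AbsIrr P) (Q : (Fin n → F) → F) (hQ : IsNondegenerateQuadraticForm Q)
    (hfixQ : FixesQuadForm (matrixSet P) Q) (σ : F ≃+* F) (f : (Fin n → F) → (Fin n → F) → F)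
    (hf : IsUnitaryForm σ f) (hfix : FixesForm (matrixSet P) f) :
    ∃ F₀ : Subfield F, F₀ ≠ ⊤ ∧ RealisableOver F₀ (matrixSet P) :=
  ascobiu_core hF hA Q hQ hfixQ σ f hf hfix
    (fun c hc => norm_surjective_of_involution σ hf.ne_refl hf.involutive c hc)
    (fun S hS => semilinear_descent σ hf.ne_refl hf.involutive S hS)

/-- QRAT (wrapper of helper27's core) -/
theorem asco_quad_rational_of_realisable {n : ℕ} (hodd : Odd n) (h2 : (2 : F) ≠ 0)
    (Q : QuadraticForm F (Fin n → F))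
    (hQ : (QuadraticMap.polarBilin Q).Nondegenerate) (hG : GramPrime (⇑Q))
    {H P : Subgroup (GL (Fin n) F)} (hP : NormalIn P H) (hA : AbsIrr P)
    (hHO : H ≤ isometryGroup F (⇑Q)) (F₀ : Subfield F) (h0 : F₀ ≠ ⊤)
    (hR : RealisableOver F₀ (matrixSet P)) :
    ∃ (F₁ : Subfield F) (ℓ : ℕ) (B : GL (Fin n) F), ℓ.Prime ∧ Fintype.card F = Nat.card F₁ ^ ℓ ∧
      IsQuadFormRationalStructure (⇑Q) F₁ B ∧ H ≤ subfieldSubgroup F₁ B :=
  ascoqrat_core (fun hS hu A A' hA h h' => invariant_gram_unique hS hu A A' hA h h')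
    (fun F1 l hc c hc0 hN => hilbert90_subfield F1 l hc c hc0 hN)
    (fun hF F1 l hl hc mu hmu => square_class_odd hF F1 l hl hc mu hmu)
    (fun hF F1 hc x hx => square_of_mem_index_two hF F1 hc x hx) hodd h2 Q hQ hG hP hA hHO F₀ h0 hR

/-- The theorem over the index type `Fin r`. -/
theorem asco_prime {r : ℕ} (hr : r.Prime) (hr7 : 7 ≤ r) (h2 : (2 : F) ≠ 0)
    (Q : QuadraticForm F (Fin r → F)) (hQ : (QuadraticMap.polarBilin Q).Nondegenerate)
    (hG : GramPrime (⇑Q)) (H : Subgroup (GL (Fin r) F)) (hH : IsMaximalIn (omegaGL (⇑Q)) H) :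
    ConclO r (⇑Q) H := by
  have hr2 : r ≠ 2 := by omega
  have hodd : Odd r := hr.odd_of_ne_two hr2
  have hHΩ : H ≤ omegaGL (⇑Q) := hH.1.le
  have hHO : H ≤ isometryGroup F (⇑Q) := hHΩ.trans (omega_le_iso _)
  have hHSL : H ≤ specialLinear (Fin r) F := hHΩ.trans (omega_le_sl _)
  have hoddF : Odd (Fintype.card F) := asco_odd_card h2
  by_cases hirr : Irr H
  swap
  · -- Stage A
    obtain ⟨W, h0, h1, hW, hcase⟩ := ored_case hodd h2 Q hQ hHO hirr
    rcases hcase with hts | ⟨hev, hnd⟩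
    · exact Or.inl ⟨W, h0, hts, max_principle hH hW (omega_not_le_stab hr7 h2 Q hQ W h0 h1)⟩
    · by_cases hex : Fintype.card F = 3 ∧ Module.finrank F W = 2 ∧ IsPlusTypeOn (⇑Q) W
      · obtain ⟨hq, hd, hp⟩ := hex
        obtain ⟨W', h0', h1', hev', hnd', hd', hW'⟩ :=
          plus_plane_q3 hodd (by omega) Q hQ hq hHO W hnd hd hp hW
        exact Or.inr (Or.inl ⟨W', h0', hev', hnd', fun h => hd' h.2.1,
          max_principle hH hW' (omega_not_le_stab hr7 h2 Q hQ W' h0' h1')⟩)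
      · exact Or.inr (Or.inl ⟨W, h0, hev, hnd, hex,
          max_principle hH hW (omega_not_le_stab hr7 h2 Q hQ W h0 h1)⟩)
  by_cases hB : ∃ N : Subgroup (GL (Fin r) F), NormalIn N H ∧ ¬ Irr N ∧ ¬ N ≤ scalars (Fin r) F
  · -- Stage B
    obtain ⟨N, hN, h1, h2'⟩ := hB
    obtain ⟨D, hD, hHD⟩ := oclifford_frame hr hr2 h2 Q hQ hirr hHO hN h1 h2'
    by_cases hp : (Fintype.card F).Prime
    · exact Or.inr (Or.inr (Or.inl ⟨hp, ⟨D, hD,
        max_principle hH hHD (omega_not_le_frame hr7 h2 Q hQ D hD.decomp.decomp)⟩⟩))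
    · obtain ⟨F₁, ℓ, B, hℓ, hcard, hrat, hle⟩ := asco_frame_subfield hodd h2 Q hQ hG hp D hD
      have h1' : F₁ ≠ ⊤ := asco_ne_top_of_card_pow hℓ hcard
      exact Or.inr (Or.inr (Or.inr (Or.inl ⟨F₁, ℓ, B, hℓ, hcard, hrat,
        max_principle hH ((le_inf hHD hHO).trans hle) (omega_not_le_subfield hr7 h2 Q hQ F₁ h1' B)⟩)))
  push Not at hB
  by_cases hC : ∃ N : Subgroup (GL (Fin r) F), NormalIn N H ∧ Irr N ∧ ¬ AbsIrr N
  · -- Stage C
    obtain ⟨N, hN, h1, h2'⟩ := hC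
    exact (comm_irr_iso_false hodd (by omega) h2 Q hQ (hN.1.trans hHO) (hN.1.trans hHSL)
      (comm_of_irr_not_absIrr hr h1 h2') h1).elim
  push Not at hC
  -- Stage D
  have hD : AllNormalAbsIrr H := fun N hN => by
    by_cases h : Irr N
    · right; exact hC N hN h
    · left; exact hB N hN h
  obtain ⟨N, hNmin⟩ := exists_minNonscalar H (irr_not_scalar (by omega) hirr)
  have hNn : NormalIn N H := hNmin.1
  have hA : AbsIrr N := (hD N hNn).resolve_left hNmin.2.1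
  have hcomm := commutator_normalIn hNn
  rcases hNmin.2.2 _ hcomm (Subgroup.commutator_le_self N) with hab | hperf
  · -- D1 : `⁅N, N⁆` is a scalar subgroup of `Ω`, hence trivial, and `N` is commutative
    exfalso
    have hbot : ⁅N, N⁆ = ⊥ := by
      rw [eq_bot_iff, ← omega_inf_scalars hodd h2 Q hQ]
      exact le_inf ((Subgroup.commutator_le_self N).trans (hNn.1.trans hHΩ)) hab
    have hc : ∀ a ∈ N, ∀ b ∈ N, a * b = b * a := by
      intro a ha b hb
      have h1 : a * b * a⁻¹ * b⁻¹ ∈ ⁅N, N⁆ := Subgroup.commutator_mem_commutator ha hb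
      rw [hbot, Subgroup.mem_bot] at h1
      have h3 : a * b * a⁻¹ * b⁻¹ * b * a = a * b := by group
      rw [h1, one_mul] at h3
      exact h3.symm
    exact hNmin.2.1 (asces3_comm_scalar hc (Or.inr hA))
  · -- D2 : almost simple
    by_cases hsub : ∃ F₀ : Subfield F, F₀ ≠ ⊤ ∧ RealisableOver F₀ (matrixSet N)
    · obtain ⟨F₀, h0, hR⟩ := hsub
      obtain ⟨F₁, ℓ, B, hℓ, hcard, hrat, hle⟩ :=
        asco_quad_rational_of_realisable hodd h2 Q hQ hG hNn hA hHO F₀ h0 hR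
      have h1' : F₁ ≠ ⊤ := asco_ne_top_of_card_pow hℓ hcard
      exact Or.inr (Or.inr (Or.inr (Or.inl ⟨F₁, ℓ, B, hℓ, hcard, hrat,
        max_principle hH hle (omega_not_le_subfield hr7 h2 Q hQ F₁ h1' B)⟩)))
    · -- residual
      obtain ⟨hsimp, hnab⟩ := perfect_case_simple hr hD hNmin hperf
      refine Or.inr (Or.inr (Or.inr (Or.inr ⟨N, ⟨hNn.1, hNn.2, hperf, hsimp, hnab,
        centralizer_scalar_of hNn hperf hA, hA, ?_⟩, ?_⟩)))
      · intro F₀ h0 hR
        exact hsub ⟨F₀, h0, hR⟩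
      · rintro ⟨σ, f, hf, hfix⟩
        exact hsub (asco_realisable_of_quad_unitary hoddF hA (⇑Q)
          (isNondegenerateQuadraticForm_coe Q hQ) (asco_fixes_of_le _ (hNn.1.trans hHO)) σ f hf hfix)

end Cfsg.Agent.Lib.helper23.ASCO
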