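import Mathlib
import Cfsg.Prelude.Def_GeometricClasses
import Cfsg.Agent.Lib.Helper27.ASC.Defs
import Cfsg.Agent.Lib.helper23.ASCO.Defs
import Cfsg.Agent.Lib.Helper19.ASG.Defs
import Cfsg.Agent.Lib.Helper1.ASGCLIF3
import Cfsg.Agent.Lib.Helper25.ASO.Defs
import Cfsg.Agent.Lib.helper23.ASE.Defs
import Cfsg.Agent.Lib.Helper22.ASOCSWAPF

/-! ASE piece CSWAP. -/

set_option autoImplicit false
set_option linter.unusedVariables false
set_option linter.unusedSectionVars false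

namespace Cfsg.Agent.Lib.helper23.ASE

open Cfsg Cfsg.Geo Cfsg.Agent.Lib.Helper27.ASC Cfsg.Agent.Lib.helper23.ASCO Cfsg.Agent.Lib.Helper19.ASG
  Cfsg.Agent.Lib.Helper25.ASO
open scoped MatrixGroups Matrix Kronecker

variable {n : ℕ} {F : Type*} [Field F] [Fintype F]

theorem kronGram_swap (f : (Fin n → F) → (Fin n → F) → F) {k d : ℕ} (e : Fin n ≃ Fin k × Fin d) (P : GL (Fin n) F)
    (A : Matrix (Fin k) (Fin k) F) (B : Matrix (Fin d) (Fin d) F) (h : KronGram f e P A B) :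
    KronGram f (e.trans (Equiv.prodComm (Fin k) (Fin d))) P B A := by
  intro x y
  have hx : x ∘ ⇑(e.trans (Equiv.prodComm (Fin k) (Fin d))) = (x ∘ Equiv.prodComm (Fin k) (Fin d)) ∘ e := rfl
  have hy : y ∘ ⇑(e.trans (Equiv.prodComm (Fin k) (Fin d))) = (y ∘ Equiv.prodComm (Fin k) (Fin d)) ∘ e := rfl
  rw [hx, hy, h, asocswapf_formOfGram]

end Cfsg.Agent.Lib.helper23.ASE
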