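import Mathlib
import Cfsg.Prelude.Def_GeometricClasses
import Cfsg.Agent.Lib.Helper27.ASC.Defs
import Cfsg.Agent.Lib.helper23.ASCO.Defs
import Cfsg.Agent.Lib.Helper19.ASG.Defs
import Cfsg.Agent.Lib.Helper1.ASGCLIF3
import Cfsg.Agent.Lib.Helper25.ASO.Defs
import Cfsg.Agent.Lib.helper23.ASE.Defs
import Cfsg.Agent.Lib.Helper18.ASCNOSYMP

/-! ASE piece ODDND (backup by helper23). -/

set_option autoImplicit false
set_option linter.unusedVariables false
set_option linter.unusedSectionVars false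

namespace Cfsg.Agent.Lib.helper23.ASE

open Cfsg Cfsg.Geo Cfsg.Agent.Lib.Helper27.ASC Cfsg.Agent.Lib.helper23.ASCO Cfsg.Agent.Lib.Helper19.ASG
  Cfsg.Agent.Lib.Helper25.ASO
open scoped MatrixGroups Matrix Kronecker

variable {n : ℕ} {F : Type*} [Field F] [Fintype F]

theorem aseoddndb_core (Q : QuadraticForm F (Fin n → F)) (W : Submodule F (Fin n → F))
    (hW : IsNondegenerateOn (QuadraticMap.polar (⇑Q)) W) (hodd : Odd (Module.finrank F W)) :
    (2 : F) ≠ 0 := by
  classical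
  intro h2
  set m := Module.finrank F W with hm
  let b : Module.Basis (Fin m) F W := Module.finBasis F W
  -- the coordinate map
  let φ : (Fin m → F) →ₗ[F] (Fin n → F) := W.subtype ∘ₗ (b.equivFun.symm : (Fin m → F) →ₗ[F] W)
  have hφmem : ∀ x, φ x ∈ W := fun x => (b.equivFun.symm x).2
  have hφinj : ∀ x, φ x = 0 → x = 0 := by
    intro x hx
    have h1 : (b.equivFun.symm x : W) = 0 := Subtype.ext hx
    exact (LinearEquiv.map_eq_zero_iff _).mp h1
  have hφsurj : ∀ w ∈ W, ∃ x, φ x = w := by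
    intro w hw
    refine ⟨b.equivFun ⟨w, hw⟩, ?_⟩
    show ((b.equivFun.symm (b.equivFun ⟨w, hw⟩) : W) : Fin n → F) = w
    rw [LinearEquiv.symm_apply_apply]
  let f : (Fin m → F) → (Fin m → F) → F := fun x y => QuadraticMap.polar (⇑Q) (φ x) (φ y)
  have hself : ∀ v : Fin n → F, QuadraticMap.polar (⇑Q) v v = 0 := by
    intro v
    rw [QuadraticMap.polar_self, two_smul, ← two_mul, h2, zero_mul]
  have hsymm : ∀ u v : Fin n → F, QuadraticMap.polar (⇑Q) u v = QuadraticMap.polar (⇑Q) v u :=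
    fun u v => QuadraticMap.polar_comm _ _ _
  have hneg : ∀ a : F, -a = a := by
    intro a
    have : a + a = 0 := by rw [← two_mul, h2, zero_mul]
    exact neg_eq_of_add_eq_zero_left this
  apply no_symplectic_odd hodd f
  refine ⟨⟨?_, ?_, ?_, ?_⟩, ?_, ?_, ?_⟩
  · intro x y v
    show QuadraticMap.polar (⇑Q) (φ (x + y)) (φ v) = _
    rw [map_add, QuadraticMap.polar_add_left]
  · intro c x v
    show QuadraticMap.polar (⇑Q) (φ (c • x)) (φ v) = _
    rw [map_smul, QuadraticMap.polar_smul_left, smul_eq_mul]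
  · intro v x y
    show QuadraticMap.polar (⇑Q) (φ v) (φ (x + y)) = _
    rw [map_add, QuadraticMap.polar_add_right]
  · intro c v x
    show QuadraticMap.polar (⇑Q) (φ v) (φ (c • x)) = _
    rw [map_smul, QuadraticMap.polar_smul_right, smul_eq_mul]
  · intro v w
    show QuadraticMap.polar (⇑Q) (φ v) (φ w) = - QuadraticMap.polar (⇑Q) (φ w) (φ v)
    rw [hneg, hsymm]
  · intro v
    exact hself _
  · intro v hv
    have hv' : φ v ≠ 0 := fun h => hv (hφinj v h)
    obtain ⟨⟨x, hx, hx1⟩, ⟨y, hy, hy1⟩⟩ := hW (φ v) (hφmem v) hv'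
    obtain ⟨x', rfl⟩ := hφsurj x hx
    obtain ⟨y', rfl⟩ := hφsurj y hy
    exact ⟨⟨x', hx1⟩, ⟨y', hy1⟩⟩

theorem aseoddndb_odd (Q : QuadraticForm F (Fin n → F)) (W : Submodule F (Fin n → F))
    (hW : IsNondegenerateOn (QuadraticMap.polar (⇑Q)) W) (hodd : Odd (Module.finrank F W)) :
    Odd (Fintype.card F) := by
  have h2 := aseoddndb_core Q W hW hodd
  by_contra hev
  rw [Nat.not_odd_iff_even] at hev
  have hch : ringChar F = 2 := FiniteField.even_card_iff_char_two.mpr (Nat.even_iff.mp hev)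
  have : CharP F 2 := hch ▸ ringChar.charP F
  exact h2 CharTwo.two_eq_zero

theorem odd_card_of_nd_odd (Q : QuadraticForm F (Fin n → F)) (W : Submodule F (Fin n → F))
    (hW : IsNondegenerateOn (QuadraticMap.polar (⇑Q)) W) (hodd : Odd (Module.finrank F W)) :
    Odd (Fintype.card F) :=
  aseoddndb_odd Q W hW hodd

end Cfsg.Agent.Lib.helper23.ASE
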