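import Mathlib
import Cfsg.Prelude.Def_GeometricClasses
import Cfsg.Agent.Lib.Helper27.ASC.Defs
import Cfsg.Agent.Lib.helper23.ASCO.Defs
import Cfsg.Agent.Lib.Helper19.ASG.Defs
import Cfsg.Agent.Lib.Helper1.ASGCLIF3
import Cfsg.Agent.Lib.Helper25.ASO.Defs
import Cfsg.Agent.Lib.helper23.ASE.Defs
import Cfsg.Agent.Lib.Helper11.ASEPRA
import Cfsg.Agent.Lib.Helper11.ASEPRB

/-! ASE pieces PRA / PRF / PRS : wrappers of helper11's char-free ASEPRA / ASEPRB. -/

set_option autoImplicit false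
set_option linter.unusedVariables false
set_option linter.unusedSectionVars false

namespace Cfsg.Agent.Lib.helper23.ASE

open Cfsg Cfsg.Geo Cfsg.Agent.Lib.Helper27.ASC Cfsg.Agent.Lib.helper23.ASCO Cfsg.Agent.Lib.Helper19.ASG
  Cfsg.Agent.Lib.Helper25.ASO
open scoped MatrixGroups Matrix Kronecker

variable {n : ℕ} {F : Type*} [Field F] [Fintype F]

theorem omega_not_le_stab' (hn : 7 ≤ n) (Q : QuadraticForm F (Fin n → F))
    (hQ : (QuadraticMap.polarBilin Q).Nondegenerate) (W : Submodule F (Fin n → F))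
    (h0 : W ≠ ⊥) (h1 : W ≠ ⊤) : ¬ omegaGL (⇑Q) ≤ subspaceStabilizer W :=
  asepra_omega_not_le_stab hn Q hQ W h0 h1

theorem omega_not_le_field' (hn : 7 ≤ n) (Q : QuadraticForm F (Fin n → F))
    (hQ : (QuadraticMap.polarBilin Q).Nondegenerate) {d : ℕ} (hd : 2 ≤ d)
    (K : Subalgebra F (Matrix (Fin n) (Fin n) F)) (hK : IsFieldSubalgebra d K) :
    ¬ omegaGL (⇑Q) ≤ subalgebraNormalizer K :=
  asepr_omega_not_le_field hn Q hQ hd K hK

theorem omega_not_le_subfield' (hn : 7 ≤ n) (Q : QuadraticForm F (Fin n → F))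
    (hQ : (QuadraticMap.polarBilin Q).Nondegenerate) (F₀ : Subfield F) (h0 : F₀ ≠ ⊤)
    (P : GL (Fin n) F) : ¬ omegaGL (⇑Q) ≤ subfieldSubgroup F₀ P :=
  asepr_omega_not_le_subfield hn Q hQ F₀ h0 P

end Cfsg.Agent.Lib.helper23.ASE
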