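import Mathlib
import Cfsg.Prelude.Def_GeometricClasses
import Cfsg.Agent.Lib.Helper27.ASC.Defs
import Cfsg.Agent.Lib.helper23.ASCO.Defs
import Cfsg.Agent.Lib.Helper19.ASG.Defs
import Cfsg.Agent.Lib.Helper1.ASGCLIF3
import Cfsg.Agent.Lib.Helper25.ASO.Defs
import Cfsg.Agent.Lib.helper23.ASE.Defs
import Cfsg.Agent.Lib.Helper10.QRATCASE
import Cfsg.Agent.Lib.Helper19.ASCOCONV

/-! ASE pieces QRAT / BIU : wrappers of helper10's QRATCASE. -/

set_option autoImplicit false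
set_option linter.unusedVariables false
set_option linter.unusedSectionVars false

namespace Cfsg.Agent.Lib.helper23.ASE

open Cfsg Cfsg.Geo Cfsg.Agent.Lib.Helper27.ASC Cfsg.Agent.Lib.helper23.ASCO Cfsg.Agent.Lib.Helper19.ASG
  Cfsg.Agent.Lib.Helper25.ASO
open scoped MatrixGroups Matrix Kronecker

variable {n : ℕ} {F : Type*} [Field F] [Fintype F]

theorem equad_rational (hn : 2 ≤ n) (Q : QuadraticForm F (Fin n → F))
    (hQ : (QuadraticMap.polarBilin Q).Nondegenerate) {H P : Subgroup (GL (Fin n) F)} (hP : NormalIn P H)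
    (hA : AbsIrr P) (hHO : H ≤ isometryGroup F (⇑Q)) (F₀ : Subfield F) (h0 : F₀ ≠ ⊤)
    (hR : RealisableOver F₀ (matrixSet P)) :
    ∃ (F₁ : Subfield F) (ℓ : ℕ) (B : GL (Fin n) F) (ζ : F), ℓ.Prime ∧ Fintype.card F = Nat.card F₁ ^ ℓ ∧ ζ ≠ 0 ∧
      IsQuadFormRationalStructure (fun v : Fin n → F => ζ * Q v) F₁ B ∧ H ≤ subfieldSubgroup F₁ B := by
  have hfix : FixesQuadForm (matrixSet P) (⇑Q) := by
    rintro s ⟨g, hg, rfl⟩ v
    exact hHO (hP.1 hg) v v
  exact Cfsg.Agent.Lib.Helper10.QRat.quad_subfield_case hn (⇑Q) (isNondegenerateQuadraticForm_coe Q hQ)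
    (fun h hh y hy => hP.2 h hh y hy) hA hfix F₀ h0 hR

theorem equad_unitary_realisable (Q : QuadraticForm F (Fin n → F))
    (hQ : (QuadraticMap.polarBilin Q).Nondegenerate) {P : Subgroup (GL (Fin n) F)} (hA : AbsIrr P)
    (hPO : P ≤ isometryGroup F (⇑Q)) (σ : F ≃+* F) (g : (Fin n → F) → (Fin n → F) → F)
    (hg : IsUnitaryForm σ g) (hfix : FixesForm (matrixSet P) g) :
    ∃ F₀ : Subfield F, F₀ ≠ ⊤ ∧ RealisableOver F₀ (matrixSet P) := by
  have hq := isNondegenerateQuadraticForm_coe Q hQ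
  refine Cfsg.Agent.Lib.Helper10.QRat.bil_realisable_of_unitary hA (QuadraticMap.polar (⇑Q)) hq.polar_bilinear
    hq.nondegenerate ?_ σ g hg hfix
  rintro s ⟨x, hx, rfl⟩ u v
  have h1 : ∀ w, Q ((x : Matrix (Fin n) (Fin n) F) *ᵥ w) = Q w := fun w => hPO hx w w
  show QuadraticMap.polar (⇑Q) _ _ = QuadraticMap.polar (⇑Q) u v
  unfold QuadraticMap.polar
  rw [← Matrix.mulVec_add, h1, h1, h1]

end Cfsg.Agent.Lib.helper23.ASE
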