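import Mathlib
import Cfsg.Prelude.Def_GeometricClasses
import Cfsg.Agent.Lib.Helper27.ASC.Defs
import Cfsg.Agent.Lib.helper23.ASCO.Defs
import Cfsg.Agent.Lib.Helper19.ASG.Defs
import Cfsg.Agent.Lib.Helper1.ASGCLIF3
import Cfsg.Agent.Lib.Helper25.ASO.Defs
import Cfsg.Agent.Lib.helper23.ASE.Defs
import Cfsg.Agent.Lib.Helper18.QRED
import Cfsg.Agent.Lib.Helper19.ASCOCONV

/-! ASE piece RED : wrapper of helper18's QRED quad_red_cases. -/

set_option autoImplicit false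
set_option linter.unusedVariables false
set_option linter.unusedSectionVars false

namespace Cfsg.Agent.Lib.helper23.ASE

open Cfsg Cfsg.Geo Cfsg.Agent.Lib.Helper27.ASC Cfsg.Agent.Lib.helper23.ASCO Cfsg.Agent.Lib.Helper19.ASG
  Cfsg.Agent.Lib.Helper25.ASO
open scoped MatrixGroups Matrix Kronecker

variable {n : ℕ} {F : Type*} [Field F] [Fintype F]

theorem ered_case (Q : QuadraticForm F (Fin n → F)) (hQ : (QuadraticMap.polarBilin Q).Nondegenerate)
    {H : Subgroup (GL (Fin n) F)} (hHO : H ≤ isometryGroup F (⇑Q)) (h : ¬ Irr H) :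
    (∃ W : Submodule F (Fin n → F), W ≠ ⊥ ∧ IsTotallySingularQuad (⇑Q) W ∧ H ≤ subspaceStabilizer W) ∨
    (∃ W : Submodule F (Fin n → F), W ≠ ⊥ ∧ W ≠ ⊤ ∧ IsNondegenerateOn (QuadraticMap.polar (⇑Q)) W ∧
      H ≤ subspaceStabilizer W) ∨
    ((2 : F) = 0 ∧ ∃ v : Fin n → F, Q v ≠ 0 ∧ H ≤ subspaceStabilizer (Submodule.span F {v})) := by
  have hfix : FixesQuadForm (matrixSet H) (⇑Q) := by
    rintro s ⟨g, hg, rfl⟩ v
    exact hHO hg v v
  rcases Cfsg.Agent.Lib.Helper18.QRed.quad_red_cases (⇑Q) (isNondegenerateQuadraticForm_coe Q hQ) hfix h with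
    h1 | h1 | ⟨h2, v, hv, _, hle⟩
  · exact Or.inl h1
  · exact Or.inr (Or.inl h1)
  · exact Or.inr (Or.inr ⟨h2, v, hv, hle⟩)

end Cfsg.Agent.Lib.helper23.ASE
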