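import Mathlib
import Cfsg.Prelude.Def_GeometricClasses
import Cfsg.Agent.Lib.Helper27.ASC.Defs
import Cfsg.Agent.Lib.helper23.ASCO.Defs
import Cfsg.Agent.Lib.Helper19.ASG.Defs
import Cfsg.Agent.Lib.Helper25.ASO.Defs
import Cfsg.Agent.Lib.helper23.ASE.Defs
-- the pieces of project ASE
import Cfsg.Agent.Lib.helper23.ASEPR
import Cfsg.Agent.Lib.helper23.ASERED
import Cfsg.Agent.Lib.helper23.ASEQRAT
import Cfsg.Agent.Lib.helper23.ASECSWAP
import Cfsg.Agent.Lib.helper4.ASECGRAM
import Cfsg.Agent.Lib.helper4.ASEPAIRT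
import Cfsg.Agent.Lib.Lead.ASED1IDEM
import Cfsg.Agent.Lib.Lead.ASED1INV
import Cfsg.Agent.Lib.Helper29.ASED2TABS
import Cfsg.Agent.Lib.Helper16.ASEPAIR2
import Cfsg.Agent.Lib.Helper16.ASEPERP
import Cfsg.Agent.Lib.helper8.ASEPLANE23
import Cfsg.Agent.Lib.Helper11.ASESIMIL
import Cfsg.Agent.Lib.Helper13.ASEPLUSDEC
import Cfsg.Agent.Lib.Helper13.ASETAU
import Cfsg.Agent.Lib.Helper10.ASESUB2
import Cfsg.Agent.Lib.helper6.ASETENS2
import Cfsg.Agent.Lib.Helper22.ASETENSPLUS
import Cfsg.Agent.Lib.helper15.ASEPERFFLD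
import Cfsg.Agent.Lib.helper23.ASEODDNDb
-- landed pieces of ASO
import Cfsg.Agent.Lib.Helper1.ASODEC2
import Cfsg.Agent.Lib.Helper20.ASOIDEM
import Cfsg.Agent.Lib.Helper20.ASOSTAR
import Cfsg.Agent.Lib.Helper25.ASOADJ
-- landed pieces of ASG
import Cfsg.Agent.Lib.Helper1.ASGCLIF5
import Cfsg.Agent.Lib.Helper1.ASGCNORM
import Cfsg.Agent.Lib.Helper10.ASGCONE
import Cfsg.Agent.Lib.Helper10.ASGCSWAP
import Cfsg.Agent.Lib.Helper20.ASGCDIM
import Cfsg.Agent.Lib.Helper24.ASGCASM
import Cfsg.Agent.Lib.Helper25.ASGCFULL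
import Cfsg.Agent.Lib.Helper9.ASGD2TGRP
import Cfsg.Agent.Lib.helper8.ASCSCHURN
import Cfsg.Agent.Lib.Helper18.ASCSCHURB
import Cfsg.Agent.Lib.Helper28.Ld.Trans
import Cfsg.Agent.Lib.Helper28.OBundle
-- landed pieces of ASC / ASCO
import Cfsg.Agent.Lib.helper23.ASCOMain
import Cfsg.Agent.Lib.Helper10.ASCIRRNS
import Cfsg.Agent.Lib.Helper21.ASCES3
import Cfsg.Agent.Lib.Helper25.ASCCENT
import Cfsg.Agent.S0292

/-!
# Project ASE : assembly of S5826 from the pieces (statements in `ASE/Skel.lean.txt`)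
-/

set_option autoImplicit false
set_option linter.unusedVariables false
set_option linter.unusedSectionVars false

namespace Cfsg.Agent.Lib.helper23.ASE

open Cfsg Cfsg.Geo Cfsg.Agent.Lib.Helper27.ASC Cfsg.Agent.Lib.helper23.ASCO Cfsg.Agent.Lib.Helper19.ASG
  Cfsg.Agent.Lib.Helper25.ASO
open scoped MatrixGroups Matrix Kronecker

variable {n : ℕ} {F : Type*} [Field F] [Fintype F]

/-- a totally singular subspace is proper -/
theorem ase_ts_ne_top (hn : 0 < n) (Q : QuadraticForm F (Fin n → F))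
    (hQ : (QuadraticMap.polarBilin Q).Nondegenerate) (W : Submodule F (Fin n → F))
    (hW : IsTotallySingularQuad (⇑Q) W) : W ≠ ⊤ := by
  rintro rfl
  have hQ0 : ∀ v, Q v = 0 := fun v => hW v Submodule.mem_top
  have hB : QuadraticMap.polarBilin Q = 0 := by
    ext u v
    simp [QuadraticMap.polar, hQ0]
  have hne : (Pi.single (⟨0, hn⟩ : Fin n) (1 : F) : Fin n → F) ≠ 0 := by
    intro h
    have := congrFun h ⟨0, hn⟩
    simp at this
  apply hne
  apply hQ.1
  intro y
  rw [hB]
  rfl

/-- plus type from a totally singular subspace of half the dimension -/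
theorem ase_plus_of_ts (Q : (Fin n → F) → F) (U : Submodule F (Fin n → F)) (hU : IsTotallySingularQuad Q U)
    (hd : 2 * Module.finrank F U = n) : IsPlusTypeOn Q ⊤ := by
  refine ⟨U, le_top, hU, ?_⟩
  rw [hd, finrank_top, Module.finrank_fintype_fun_eq_card, Fintype.card_fin]

theorem ase_arith_dec {t k : ℕ} (h : t * k = 8) (ht : 2 ≤ t) : Even t ∧ (Even k ∨ 4 ∣ t) := by
  have ht8 : t ≤ 8 := by
    rcases Nat.eq_zero_or_pos k with hk | hk
    · subst hk; omega
    · nlinarith
  have hk8 : k ≤ 8 := by nlinarith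
  interval_cases t <;> interval_cases k <;> simp_all <;> decide

/-- a non-trivial idempotent in the centre of the commutant of a subgroup normalised by an irreducible group of isometries
makes the form of plus type (dimension 8) -/
theorem e8_idem_plus (Q : QuadraticForm F (Fin 8 → F)) (hQ : (QuadraticMap.polarBilin Q).Nondegenerate)
    {G M : Subgroup (GL (Fin 8) F)} (hG : Irr G) (hGO : G ≤ isometryGroup F (⇑Q)) (hM : NormalIn M G)
    (e₀ : Matrix (Fin 8) (Fin 8) F) (he₀ : e₀ ∈ asgZ M) (hid : e₀ * e₀ = e₀) (h0 : e₀ ≠ 0) (h1 : e₀ ≠ 1) :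
    IsPlusTypeOn (⇑Q) ⊤ := by
  classical
  obtain ⟨t, E, hE⟩ := idem_system (by norm_num) hG hM e₀ he₀ hid h0 h1
  obtain ⟨τ, hτ, hτ2, hcase⟩ := idem_adj_perm Q hQ hGO hM E hE
  rcases hcase with hfix | hfp
  · -- self-adjoint idempotents : an orthogonal decomposition
    have hsa : ∀ i, oadj (⇑Q) (E i) = E i := fun i => by rw [hτ i, hfix i]
    obtain ⟨k, hD, -⟩ := odec_of_selfadj Q hQ hGO E hE hsa
    have hcard := Cfsg.Agent.Lib.Helper28.Ld.card_eq _ hD.decomp.decomp
    obtain ⟨ht, hk⟩ := ase_arith_dec hcard hD.decomp.decomp.two_le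
    exact plus_of_dec Q hQ _ hD ht hk
  · by_cases ht2 : t = 2
    · subst ht2
      have h01 : τ 0 = 1 := by
        have := hfp 0
        have h2 : ∀ j : Fin 2, j ≠ 0 → j = 1 := by decide
        exact h2 _ this
      have hτ0 : oadj (⇑Q) (E 0) = E 1 := by rw [hτ 0, h01]
      obtain ⟨k, hD, hts, -⟩ := epair_two (by norm_num) Q hQ hG hGO hM E hE hτ0
      have hcard := Cfsg.Agent.Lib.Helper28.Ld.card_eq _ hD
      refine ase_plus_of_ts (⇑Q) _ (hts 0) ?_
      rw [hD.finrank_eq 0]
      omega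
    · have ht : 2 < t := by
        have := hE.two_le
        omega
      obtain ⟨t', k', D', hD', -⟩ := epair_many Q hQ hGO hM E hE τ hτ hτ2 hfp ht
      have hcard := Cfsg.Agent.Lib.Helper28.Ld.card_eq _ hD'.decomp.decomp
      obtain ⟨ht', hk'⟩ := ase_arith_dec hcard hD'.decomp.decomp.two_le
      exact plus_of_dec Q hQ _ hD' ht' hk'

/-- blocks AB + C in dimension 8 for a form of minus type -/
theorem e8_dichotomy (Q : QuadraticForm F (Fin 8 → F)) (hQ : (QuadraticMap.polarBilin Q).Nondegenerate)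
    {G M : Subgroup (GL (Fin 8) F)} (hG : Irr G) (hGO : G ≤ isometryGroup F (⇑Q)) (hM : NormalIn M G) :
    IsPlusTypeOn (⇑Q) ⊤ ∨
      (∃ K : Subalgebra F (Matrix (Fin 8) (Fin 8) F), IsFieldSubalgebra 2 K ∧ G ≤ subalgebraNormalizer K) ∨
      M ≤ scalars (Fin 8) F ∨ AbsIrr M := by
  classical
  have hn0 : 0 < 8 := by norm_num
  by_cases hidem : ∀ e ∈ asgZ M, e * e = e → e = 0 ∨ e = 1
  · have hfield := asgclif_field hn0 hG hM hidem
    by_cases hb2 : 2 ≤ Module.finrank F (asgZ M)
    · -- a field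
      right; left
      obtain ⟨r, K', hr, -, h1, h2', h3⟩ := asgclif_primesub (asgZ M) hfield hb2
      have hdvd : r ∣ 8 := field_finrank_dvd hn0 K' h1
      have hr2 : r = 2 := by
        have h8 : (8 : ℕ) = 2 ^ 3 := by norm_num
        rw [h8] at hdvd
        exact (Nat.prime_dvd_prime_iff_eq hr Nat.prime_two).mp (hr.dvd_of_dvd_pow hdvd)
      subst hr2
      exact ⟨K', h1, (asgclif_normalizes_Z hM).trans h3⟩
    · -- the centre is `F`
      haveI : Nonempty (Fin 8) := ⟨0⟩
      have hb1 : Module.finrank F (asgZ M) = 1 := by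
        have h0 : Module.finrank F (asgZ M) ≠ 0 := by
          intro h0
          haveI : Subsingleton (asgZ M) := Module.finrank_zero_iff.mp h0
          have h01 : (0 : asgZ M) = 1 := Subsingleton.elim _ _
          have h2 := congrArg (fun y : asgZ M => (y : Matrix (Fin 8) (Fin 8) F)) h01
          simp at h2
        omega
      have hbot : asgZ M = ⊥ := Subalgebra.finrank_eq_one_iff.mp hb1
      obtain ⟨k, ⟨φ⟩⟩ := asgclif_matrix hn0 hG hM (fun z hz => by
        rw [hbot, Algebra.mem_bot] at hz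
        obtain ⟨c, rfl⟩ := hz
        exact ⟨c, Algebra.algebraMap_eq_smul_one c⟩)
      obtain ⟨hk0, hkn⟩ := cent_matrix_le hn0 φ
      rcases Nat.lt_or_ge 1 k with hk1 | hk1
      · rcases Nat.lt_or_ge k 8 with hlt | hge
        · -- tensor decomposition
          left
          obtain ⟨d, e, P, hstd⟩ := std_embedding (n := 8) hk0
            ((centAlg M).val.comp (φ.symm : Matrix (Fin k) (Fin k) F →ₐ[F] centAlg M))
          have hnkd : 8 = k * d := by
            have := Fintype.card_congr e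
            simpa using this
          have hGle : G ≤ tensorProductSubgroup k d e P :=
            (normalizes_cent hM).trans
              (normalizer_le_tensor hk0 (centAlg M) φ e P (fun a => hstd a))
          have hstar : ∀ a : Matrix (Fin k) (Fin k) F, ∃ a' : Matrix (Fin k) (Fin k) F,
              oadj (⇑Q) ((P : Matrix (Fin 8) (Fin 8) F) *
                  Matrix.reindexAlgEquiv F F e.symm (a ⊗ₖ (1 : Matrix (Fin d) (Fin d) F)) *
                  ((P⁻¹ : GL (Fin 8) F) : Matrix (Fin 8) (Fin 8) F)) =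
                (P : Matrix (Fin 8) (Fin 8) F) *
                  Matrix.reindexAlgEquiv F F e.symm (a' ⊗ₖ (1 : Matrix (Fin d) (Fin d) F)) *
                  ((P⁻¹ : GL (Fin 8) F) : Matrix (Fin 8) (Fin 8) F) := by
            intro a
            have h1 : oadj (⇑Q) (((φ.symm a : centAlg M) : Matrix (Fin 8) (Fin 8) F)) ∈ centAlg M :=
              star_mem_cent Q hQ (hM.1.trans hGO) _ (φ.symm a).2
            refine ⟨φ ⟨_, h1⟩, ?_⟩
            have h2' := hstd (φ ⟨_, h1⟩)
            have h3 := hstd a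
            have e2 : ((centAlg M).val.comp (φ.symm : Matrix (Fin k) (Fin k) F →ₐ[F] centAlg M)) (φ ⟨_, h1⟩) =
                oadj (⇑Q) (((φ.symm a : centAlg M) : Matrix (Fin 8) (Fin 8) F)) := by
              change ((φ.symm (φ ⟨_, h1⟩) : centAlg M) : Matrix (Fin 8) (Fin 8) F) = _
              rw [AlgEquiv.symm_apply_apply]
            have e3 : ((centAlg M).val.comp (φ.symm : Matrix (Fin k) (Fin k) F →ₐ[F] centAlg M)) a =
                ((φ.symm a : centAlg M) : Matrix (Fin 8) (Fin 8) F) := rfl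
            rw [← h3, ← h2', e2, e3]
          obtain ⟨A, B, hA, hB, hsign, hAB⟩ := etensor_gram hn0 Q hQ e P hstar
          -- `(k, d) = (2, 4)` or `(4, 2)`
          have hkd : (k = 2 ∧ d = 4) ∨ (k = 4 ∧ d = 2) := by
            clear hstd hGle hstar hAB hsign hA hB A B
            interval_cases k <;> omega
          -- the symmetric matrices in characteristic 2
          have hsym2 : (2 : F) = 0 → Aᵀ = A ∧ Bᵀ = B := by
            intro h2
            have hneg : ∀ {m : ℕ} (X : Matrix (Fin m) (Fin m) F), -X = X := by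
              intro m X
              have h2' : (2 : F) • X = 0 := by rw [h2, zero_smul]
              rw [two_smul] at h2'
              exact neg_eq_of_add_eq_zero_left h2'
            rcases hsign with h | h
            · exact h
            · exact ⟨by rw [h.1, hneg], by rw [h.2, hneg]⟩
          rcases hkd with ⟨rfl, rfl⟩ | ⟨rfl, rfl⟩
          · refine tens_plus Q hQ (by decide) e P A B hA hB hsign hAB (fun h2 => ?_)
            obtain ⟨hAs, hBs⟩ := hsym2 h2
            obtain ⟨hAa, hBa⟩ := etensor_alt_char2 h2 Q hQ hG hGO (by norm_num) (by norm_num) e P hGle A B hA hB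
              hAs hBs hAB
            exact etensor_pure_char2 h2 Q hQ hG hGO (by norm_num) (by norm_num) e P hGle A B hAa hBa hAs hBs hAB
          · have hAB' := kronGram_swap _ e P A B hAB
            have hGle' : G ≤ tensorProductSubgroup 2 4 (e.trans (Equiv.prodComm (Fin 4) (Fin 2))) P := by
              rw [← tensor_swap]; exact hGle
            have hsign' : (Bᵀ = B ∧ Aᵀ = A) ∨ (Bᵀ = -B ∧ Aᵀ = -A) := by
              rcases hsign with h | h
              · exact Or.inl ⟨h.2, h.1⟩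
              · exact Or.inr ⟨h.2, h.1⟩
            refine tens_plus Q hQ (by decide) _ P B A hB hA hsign' hAB' (fun h2 => ?_)
            obtain ⟨hAs, hBs⟩ := hsym2 h2
            obtain ⟨hBa, hAa⟩ := etensor_alt_char2 h2 Q hQ hG hGO (by norm_num) (by norm_num) _ P hGle' B A hB hA
              hBs hAs hAB'
            exact etensor_pure_char2 h2 Q hQ hG hGO (by norm_num) (by norm_num) _ P hGle' B A hBa hAa hBs hAs hAB'
        · have hkn' : k = 8 := le_antisymm hkn hge
          subst hkn'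
          exact Or.inr (Or.inr (Or.inl (scalar_of_cent_full φ)))
      · have hk : k = 1 := by omega
        subst hk
        exact Or.inr (Or.inr (Or.inr (absIrr_of_cent_one hG hM φ)))
  · left
    push Not at hidem
    obtain ⟨e0, he0, hid0, h00, h01⟩ := hidem
    exact e8_idem_plus Q hQ hG hGO hM e0 he0 hid0 h00 h01

/-- characteristic 2 : the field has even order -/
theorem ase_not_odd_of_two (h2 : (2 : F) = 0) : ¬ Odd (Fintype.card F) := fun hodd =>
  Cfsg.Agent.S0292.two_ne_zero_of_odd rfl hodd h2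

/-- a non-singular vector spans a non-degenerate line when `2 ≠ 0` -/
theorem ase_span_nd (h2 : (2 : F) ≠ 0) (Q : QuadraticForm F (Fin n → F)) (v : Fin n → F) (hv : Q v ≠ 0) :
    IsNondegenerateOn (QuadraticMap.polar (⇑Q)) (Submodule.span F {v}) := by
  have hvv : QuadraticMap.polar (⇑Q) v v = 2 * Q v := by
    have := QuadraticMap.polar_self Q v
    rw [this, two_smul, two_mul]
  intro w hw hw0
  obtain ⟨c, rfl⟩ := Submodule.mem_span_singleton.mp hw
  have hc : c ≠ 0 := by
    rintro rfl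
    exact hw0 (zero_smul _ _)
  refine ⟨⟨v, Submodule.mem_span_singleton_self v, ?_⟩, ⟨v, Submodule.mem_span_singleton_self v, ?_⟩⟩
  · rw [QuadraticMap.polar_smul_right, hvv, smul_eq_mul]
    exact mul_ne_zero hc (mul_ne_zero h2 hv)
  · rw [QuadraticMap.polar_smul_left, hvv, smul_eq_mul]
    exact mul_ne_zero hc (mul_ne_zero h2 hv)

/-- the line spanned by a non-singular vector -/
theorem ase_span_facts (hn : 2 ≤ n) (Q : QuadraticForm F (Fin n → F)) (v : Fin n → F) (hv : Q v ≠ 0) :
    Submodule.span F {v} ≠ ⊥ ∧ Submodule.span F {v} ≠ ⊤ ∧ Module.finrank F (Submodule.span F {v}) = 1 := by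
  have hv0 : v ≠ 0 := by
    rintro rfl
    exact hv (map_zero Q)
  have hfr : Module.finrank F (Submodule.span F {v}) = 1 := finrank_span_singleton hv0
  refine ⟨?_, ?_, hfr⟩
  · intro h
    rw [h, finrank_bot] at hfr
    omega
  · intro h
    rw [h, finrank_top, Module.finrank_fintype_fun_eq_card, Fintype.card_fin] at hfr
    omega

/-- S5826 over a bundled form -/
theorem e8_fin (Q : QuadraticForm F (Fin 8 → F)) (hQ : (QuadraticMap.polarBilin Q).Nondegenerate)
    (hminus : ¬ IsPlusTypeOn (⇑Q) ⊤) (H : Subgroup (GL (Fin 8) F))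
    (hH : IsMaximalIn (omegaGL (⇑Q)) H) : ConclE8 (⇑Q) H := by
  classical
  have hHΩ : H ≤ omegaGL (⇑Q) := hH.1.le
  have hHO : H ≤ isometryGroup F (⇑Q) := hHΩ.trans (omega_le_iso _)
  have hstab : ∀ W : Submodule F (Fin 8 → F), W ≠ ⊥ → W ≠ ⊤ → H ≤ subspaceStabilizer W →
      H = subspaceStabilizer W ⊓ omegaGL (⇑Q) := fun W h0 h1 hle =>
    max_principle hH hle (omega_not_le_stab' (by norm_num) Q hQ W h0 h1)
  -- a non-singular vector
  have hvec : ∀ v : Fin 8 → F, Q v ≠ 0 → H ≤ subspaceStabilizer (Submodule.span F {v}) → ConclE8 (⇑Q) H := by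
    intro v hv hle
    obtain ⟨h0, h1, hfr⟩ := ase_span_facts (by norm_num) Q v hv
    by_cases h2 : (2 : F) = 0
    · exact Or.inr (Or.inr (Or.inr (Or.inr (Or.inr (Or.inl ⟨ase_not_odd_of_two h2, v, hv, hstab _ h0 h1 hle⟩)))))
    · exact Or.inr (Or.inl ⟨asco_odd_card h2, _, h0, h1, by rw [hfr]; exact odd_one, ase_span_nd h2 Q v hv,
        hstab _ h0 h1 hle⟩)
  -- a non-degenerate plane
  have hplane : ∀ W : Submodule F (Fin 8 → F), Module.finrank F W = 2 →
      IsNondegenerateOn (QuadraticMap.polar (⇑Q)) W → H ≤ subspaceStabilizer W → ConclE8 (⇑Q) H := by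
    intro W hd hnd hle
    have h0 : W ≠ ⊥ := by
      intro h
      rw [h, finrank_bot] at hd
      omega
    have h1 : W ≠ ⊤ := by
      intro h
      rw [h, finrank_top, Module.finrank_fintype_fun_eq_card, Fintype.card_fin] at hd
      omega
    by_cases hp : IsPlusTypeOn (⇑Q) W
    · by_cases h4 : 4 ≤ Fintype.card F
      · exact Or.inr (Or.inr (Or.inr (Or.inl ⟨h4, W, hd, hnd, hp, hstab W h0 h1 hle⟩)))
      · obtain ⟨v, -, hv, hst⟩ := plus_plane_small Q hQ (by omega) W hnd hd hp
        exact hvec v hv ((le_inf hle hHO).trans hst)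
    · exact Or.inr (Or.inr (Or.inl ⟨W, hd, hnd, hp, hstab W h0 h1 hle⟩))
  by_cases hirr : Irr H
  swap
  · -- Stage A
    rcases ered_case Q hQ hHO hirr with ⟨W, h0, hts, hle⟩ | ⟨W, h0, h1, hnd, hle⟩ | ⟨h2, v, hv, hle⟩
    · exact Or.inl ⟨W, h0, hts, hstab W h0 (ase_ts_ne_top (by norm_num) Q hQ W hts) hle⟩
    · -- non-degenerate subspaces, by dimension
      have hlt : Module.finrank F W < 8 := by
        have h := Submodule.finrank_lt h1
        rwa [Module.finrank_fintype_fun_eq_card, Fintype.card_fin] at h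
      have hpos : 0 < Module.finrank F W := Module.finrank_pos_iff_exists_ne_zero.mpr (by
        obtain ⟨w, hw, hw0⟩ := (Submodule.ne_bot_iff W).mp h0
        exact ⟨⟨w, hw⟩, fun h => hw0 (congrArg Subtype.val h)⟩)
      rcases Nat.even_or_odd (Module.finrank F W) with hev | hodd
      · obtain ⟨j, hj⟩ := hev
        have hj' : j = 1 ∨ j = 2 ∨ j = 3 := by omega
        rcases hj' with rfl | rfl | rfl
        · exact hplane W (by omega) hnd hle
        · exact Or.inr (Or.inr (Or.inr (Or.inr (Or.inl ⟨W, by omega, hnd, hstab W h0 h1 hle⟩))))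
        · obtain ⟨W', hdim, hnd', hst⟩ := end_perp Q hQ W hnd
          exact hplane W' (by omega) hnd' ((le_inf hle hHO).trans hst)
      · exact Or.inr (Or.inl ⟨odd_card_of_nd_odd Q W hnd hodd, W, h0, h1, hodd, hnd, hstab W h0 h1 hle⟩)
    · exact hvec v hv hle
  -- Stage B
  by_cases hfld : ∃ K : Subalgebra F (Matrix (Fin 8) (Fin 8) F), IsFieldSubalgebra 2 K ∧ H ≤ subalgebraNormalizer K
  · obtain ⟨K, hK, hle⟩ := hfld
    exact Or.inr (Or.inr (Or.inr (Or.inr (Or.inr (Or.inr (Or.inl ⟨K, hK, max_principle hH hle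
      (omega_not_le_field' (by norm_num) Q hQ (le_refl 2) K hK)⟩))))))
  have hD : AllNormalAbsIrr H := by
    intro N hN
    rcases e8_dichotomy Q hQ hirr hHO hN with h | h | h | h
    · exact absurd h hminus
    · exact absurd h hfld
    · exact Or.inl h
    · exact Or.inr h
  obtain ⟨N, hNmin⟩ := exists_minNonscalar H (irr_not_scalar (by norm_num) hirr)
  have hNn : NormalIn N H := hNmin.1
  have hNO : N ≤ isometryGroup F (⇑Q) := hNn.1.trans hHO
  have hA : AbsIrr N := (hD N hNn).resolve_left hNmin.2.1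
  have hcomm := commutator_normalIn hNn
  rcases hNmin.2.2 _ hcomm (Subgroup.commutator_le_self N) with hab | hperf
  · -- D1
    exfalso
    obtain ⟨M, hM, e₀, he₀, hid, h0, h1⟩ := ed1_idem (by norm_num) Q hQ hNO hA hab
    exact hminus (e8_idem_plus Q hQ hA.1 hNO hM e₀ he₀ hid h0 h1)
  · -- D2
    obtain ⟨M, hM⟩ := exists_minNonscalar N hNmin.2.1
    by_cases hMN : M = N
    swap
    · exfalso
      rcases e8_dichotomy Q hQ hA.1 hNO hM.1 with h | ⟨K, hK, hle⟩ | h | h
      · exact hminus h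
      · exact perfect_field_false hA hperf (le_refl 2) K hK hle
      · exact hM.2.1 h
      · exact min_absIrr_false hNmin hperf hM hMN h
    rw [hMN] at hM
    obtain ⟨hsimp, hnab⟩ := simple_of_min hNmin.2.1 hperf hM
    by_cases hsub : ∃ F₀ : Subfield F, F₀ ≠ ⊤ ∧ RealisableOver F₀ (matrixSet N)
    · obtain ⟨F₀, h0, hR⟩ := hsub
      obtain ⟨F₁, ℓ, B, ζ, hℓ, hcard, hζ, hrat, hle⟩ := equad_rational (by norm_num) Q hQ hNn hA hHO F₀ h0 hR
      by_cases hℓ2 : ℓ = 2
      · subst hℓ2
        by_cases h2 : (2 : F) = 0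
        · exact absurd (sub2_plus_even h2 (by decide) Q hQ F₁ hcard B ζ hζ hrat) hminus
        · exact absurd (sub2_plus_odd h2 (by decide) Q hQ F₁ hcard B ζ hζ hrat) hminus
      · exact Or.inr (Or.inr (Or.inr (Or.inr (Or.inr (Or.inr (Or.inr (Or.inl ⟨F₁, ℓ, B, ζ, hℓ,
          hℓ.odd_of_ne_two hℓ2, hcard, hζ, hrat, max_principle hH hle
            (omega_not_le_subfield' (by norm_num) Q hQ F₁ (asco_ne_top_of_card_pow hℓ hcard) B)⟩)))))))
    · -- residual
      refine Or.inr (Or.inr (Or.inr (Or.inr (Or.inr (Or.inr (Or.inr (Or.inr ⟨N, ⟨hNn.1, hNn.2, hperf, hsimp, hnab,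
        centralizer_scalar_of hNn hperf hA, hA, ?_⟩, ?_⟩)))))))
      · intro F₀ h0 hR
        exact hsub ⟨F₀, h0, hR⟩
      · rintro ⟨σ, f, hf, hfix⟩
        exact hsub (equad_unitary_realisable Q hQ hA hNO σ f hf hfix)

/-- S5826 -/
theorem s5826 {F : Type*} [Field F] [Fintype F] (Q : (Fin 8 → F) → F) (hQ : IsNondegenerateQuadraticForm Q)
    (hminus : ¬ IsPlusTypeOn Q ⊤) (H : Subgroup (GL (Fin 8) F)) (hH : IsMaximalIn (omegaGL Q) H) :
    ConclE8 Q H := by
  have := e8_fin (Cfsg.Agent.Lib.Helper28.OBundle.bundle Q hQ)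
    (Cfsg.Agent.Lib.Helper28.OBundle.bundle_nondeg Q hQ) hminus H hH
  exact this

end Cfsg.Agent.Lib.helper23.ASE
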