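import Mathlib
import Cfsg.Agent.Lib.helper3.S5953.Defs
import Cfsg.Agent.Lib.Lead.HermCount
import Cfsg.Agent.Lib.Lead.Unitary
import Cfsg.Prelude.Def_LieClassical

set_option autoImplicit false

/-!
# Project S5953 (designer helper3), rows U2 + U3 (helper23): prime divisors of `|GU_d(q)|`.
-/

namespace Cfsg.Agent.Lib.helper3.S5953

open Polynomial Module

/-- `|F| = q ^ 2` forces `2 ≤ q`. -/
theorem s5953u2_two_le_q {F : Type*} [Field F] [Fintype F] {q : ℕ}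
    (hF : Fintype.card F = q ^ 2) : 2 ≤ q := by
  have h1 : 1 < Fintype.card F := Fintype.one_lt_card
  rw [hF] at h1
  by_contra hlt
  push Not at hlt
  interval_cases q <;> simp at h1

/-- `r ≠ p` does not divide `q` (`q ^ 2 = |F|` is a power of `p`). -/
theorem s5953u2_not_dvd_q {F : Type*} [Field F] [Fintype F] {p : ℕ} [Fact p.Prime] [CharP F p]
    {q : ℕ} (hF : Fintype.card F = q ^ 2) (r : ℕ) [Fact r.Prime] (hrp : r ≠ p) : ¬ r ∣ q := by
  intro hdvd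
  obtain ⟨k, hp, hk⟩ := FiniteField.card F p
  have h1 : r ∣ p ^ (k : ℕ) := by
    rw [← hk, hF]
    exact Dvd.dvd.pow hdvd (by norm_num)
  have h2 : r ∣ p := (Fact.out : r.Prime).dvd_of_dvd_pow h1
  exact hrp ((Nat.prime_dvd_prime_iff_eq Fact.out hp).mp h2)

/-- `q B_j = q^j (q^j - (-1)^j)` in `ZMod r`. -/
theorem s5953u2_B_cast (q : ℕ) (hq : 2 ≤ q) (j r : ℕ) :
    (q : ZMod r) * (((Cfsg.Agent.Lib.Lead.hermAB q j).2 : ℕ) : ZMod r) =
      (q : ZMod r) ^ j * ((q : ZMod r) ^ j - (-1) ^ j) := by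
  have h := (Cfsg.Agent.Lib.Lead.hermAB_closed q hq j).2
  have h2 := congrArg (Int.cast : ℤ → ZMod r) h
  push_cast at h2
  rw [h2]
  ring

/-- U2 [M] GUDVD: prime divisors `≠ p` of `|GU_d(q)|`. -/
theorem gu_dvd {F : Type*} [Field F] [Fintype F] {p : ℕ} [Fact p.Prime] [CharP F p] {q : ℕ}
    (hF : Fintype.card F = q ^ 2) (d r : ℕ) [Fact r.Prime] (hrp : r ≠ p)
    (hr : r ∣ Nat.card (Cfsg.GU d F q)) :
    ∃ j : ℕ, 1 ≤ j ∧ j ≤ d ∧ (-(q : ZMod r)) ^ j = 1 := by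
  classical
  have hq2 := s5953u2_two_le_q hF
  rw [Cfsg.Agent.Lib.Lead.card_GU_eq_prod hF] at hr
  have hrp' : Prime r := Nat.Prime.prime Fact.out
  obtain ⟨j', hj', hdvd⟩ := (Prime.dvd_finsetProd_iff hrp' _).mp hr
  rw [Finset.mem_range] at hj'
  refine ⟨d - j', by omega, by omega, ?_⟩
  have h0 : (((Cfsg.Agent.Lib.Lead.hermAB q (d - j')).2 : ℕ) : ZMod r) = 0 :=
    (ZMod.natCast_eq_zero_iff _ _).mpr hdvd
  have h1 := s5953u2_B_cast q hq2 (d - j') r
  rw [h0, mul_zero] at h1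
  have hq0 : (q : ZMod r) ≠ 0 := by
    rw [Ne, ZMod.natCast_eq_zero_iff]
    exact s5953u2_not_dvd_q hF r hrp
  have h2 : (q : ZMod r) ^ (d - j') - (-1) ^ (d - j') = 0 := by
    rcases mul_eq_zero.mp h1.symm with h | h
    · exact absurd h (pow_ne_zero _ hq0)
    · exact h
  rw [neg_pow, sub_eq_zero.mp h2, ← mul_pow]
  norm_num

/-- U3 [M] GUDVD': the converse. -/
theorem gu_dvd' {F : Type*} [Field F] [Fintype F] {q : ℕ} (hF : Fintype.card F = q ^ 2)
    (d r j : ℕ) [Fact r.Prime] (hj : 1 ≤ j) (hjd : j ≤ d) (h : (-(q : ZMod r)) ^ j = 1) :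
    r ∣ Nat.card (Cfsg.GU d F q) := by
  classical
  have hq2 := s5953u2_two_le_q hF
  rw [Cfsg.Agent.Lib.Lead.card_GU_eq_prod hF]
  have hjmem : d - j ∈ Finset.range d := Finset.mem_range.mpr (by omega)
  refine Dvd.dvd.trans ?_ (Finset.dvd_prod_of_mem _ hjmem)
  have hdj : d - (d - j) = j := by omega
  rw [hdj, ← ZMod.natCast_eq_zero_iff]
  have h1 := s5953u2_B_cast q hq2 j r
  have hq0 : (q : ZMod r) ≠ 0 := by
    intro h0
    rw [h0, neg_zero, zero_pow (by omega)] at h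
    exact zero_ne_one h
  have h2 : (q : ZMod r) ^ j = (-1) ^ j := by
    rw [neg_pow] at h
    have h3 : ((-1 : ZMod r) ^ j) * ((-1) ^ j) = 1 := by
      rw [← mul_pow]
      norm_num
    calc (q : ZMod r) ^ j = ((-1) ^ j * (-1) ^ j) * (q : ZMod r) ^ j := by rw [h3, one_mul]
      _ = (-1) ^ j * ((-1) ^ j * (q : ZMod r) ^ j) := by ring
      _ = (-1) ^ j := by rw [h, mul_one]
  rw [h2, sub_self, mul_zero] at h1
  exact (mul_eq_zero.mp h1).resolve_left hq0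

end Cfsg.Agent.Lib.helper3.S5953
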