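import Mathlib
import Cfsg.Agent.Lib.helper3.S5953.Defs
import Cfsg.Agent.Lib.helper23.S5953U2

set_option autoImplicit false

/-!
# Project S5953 (designer helper3), rows NS1 (`split_dich`) + R1 (`two_dich`) (helper23).
-/

namespace Cfsg.Agent.Lib.helper3.S5953

open Polynomial Module

/-- NS1 [M] DICH: a norm-one `z` is an `r`-th power of a norm-one element or not an `r`-th power
at all. -/
theorem split_dich {F : Type*} [Field F] [Fintype F] {q : ℕ} (hF : Fintype.card F = q ^ 2)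
    (r : ℕ) [Fact r.Prime] (hr2 : r ≠ 2) (hrq : r ∣ q + 1) (z : F) (hz : z ^ (q + 1) = 1) :
    (∃ w : F, w ^ (q + 1) = 1 ∧ w ^ r = z) ∨ (∀ a : F, a ^ r ≠ z) := by
  have hrp : r.Prime := Fact.out
  have hq2 := s5953u2_two_le_q hF
  by_cases hex : ∃ a : F, a ^ r = z
  · left
    obtain ⟨a, ha⟩ := hex
    refine ⟨a, ?_, ha⟩
    have hz0 : z ≠ 0 := by
      rintro rfl
      rw [zero_pow (by omega)] at hz
      exact zero_ne_one hz
    have ha0 : a ≠ 0 := by
      rintro rfl
      rw [zero_pow hrp.ne_zero] at ha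
      exact hz0 ha.symm
    -- `t = a ^ (q + 1)` satisfies `t ^ r = 1` and `t ^ (q - 1) = 1`
    have ht1 : (a ^ (q + 1)) ^ r = 1 := by
      rw [← pow_mul, mul_comm, pow_mul, ha, hz]
    have ht2 : (a ^ (q + 1)) ^ (q - 1) = 1 := by
      rw [← pow_mul]
      have : (q + 1) * (q - 1) = Fintype.card F - 1 := by
        rw [hF]
        obtain ⟨s, rfl⟩ : ∃ s, q = s + 1 := ⟨q - 1, by omega⟩
        simp only [Nat.add_sub_cancel]
        have : (s + 1) ^ 2 = (s + 1 + 1) * s + 1 := by ring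
        rw [this, Nat.add_sub_cancel]
      rw [this]
      exact FiniteField.pow_card_sub_one_eq_one a ha0
    have hcop : Nat.Coprime r (q - 1) := by
      rw [Nat.Prime.coprime_iff_not_dvd hrp]
      intro hd
      have h3 : r ∣ (q + 1) - (q - 1) := Nat.dvd_sub hrq hd
      have h4 : (q + 1) - (q - 1) = 2 := by omega
      rw [h4] at h3
      exact hr2 ((Nat.prime_dvd_prime_iff_eq hrp Nat.prime_two).mp h3)
    have := pow_gcd_eq_one.mpr ⟨ht1, ht2⟩
    rw [Nat.Coprime.gcd_eq_one hcop, pow_one] at this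
    exact this
  · right
    push Not at hex
    exact hex

/-- R1 [M] TWODICH: a norm-one `z` is the square of a norm-one element or of an element of
norm `-1`. -/
theorem two_dich {F : Type*} [Field F] [Fintype F] {q : ℕ} (hF : Fintype.card F = q ^ 2)
    (h2 : (2 : F) ≠ 0) (z : F) (hz : z ^ (q + 1) = 1) :
    (∃ w : F, w ^ (q + 1) = 1 ∧ w ^ 2 = z) ∨ (∃ μ : F, μ ^ (q + 1) = -1 ∧ μ ^ 2 = z) := by
  have hq2 := s5953u2_two_le_q hF
  have hchar : ringChar F ≠ 2 := by
    intro h
    apply h2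
    have := (ringChar.spec F 2).mpr (by rw [h])
    exact_mod_cast this
  have hqodd : Odd q := by
    by_contra hne
    rw [Nat.not_odd_iff_even] at hne
    have : Fintype.card F % 2 = 0 := by
      rw [hF]
      obtain ⟨s, rfl⟩ := hne
      ring_nf
      omega
    exact hchar (FiniteField.even_card_iff_char_two.mpr this)
  have hz0 : z ≠ 0 := by
    rintro rfl
    rw [zero_pow (by omega)] at hz
    exact zero_ne_one hz
  have hsq : IsSquare z := by
    rw [FiniteField.isSquare_iff hchar hz0, hF]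
    obtain ⟨s, rfl⟩ := hqodd
    have : (2 * s + 1) ^ 2 / 2 = (2 * s + 1 + 1) * s := by
      have : (2 * s + 1) ^ 2 = 2 * ((2 * s + 1 + 1) * s) + 1 := by ring
      omega
    rw [this, pow_mul, hz, one_pow]
  obtain ⟨μ, hμ⟩ := hsq
  have hμ2 : μ ^ 2 = z := by rw [hμ, sq]
  have h1 : μ ^ (q + 1) * μ ^ (q + 1) = 1 := by
    rw [← sq, ← pow_mul, mul_comm, pow_mul, hμ2, hz]
  rcases mul_self_eq_one_iff.mp h1 with h | h
  · exact Or.inl ⟨μ, h, hμ2⟩
  · exact Or.inr ⟨μ, h, hμ2⟩

end Cfsg.Agent.Lib.helper3.S5953
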