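import Mathlib
import Cfsg.Agent.Lib.helper3.SPM.Defs
import Cfsg.Agent.Lib.helper3.SPM.Defs2
import Cfsg.Agent.Lib.helper3.SPM.DefsP

/-!
# Project SPM (designer helper3; S2292 / S2296), block P, row P1 (`evG_inN evG_inL evG_map evN_map evL_map`), verbatim from `SkelP.lean.txt` (helper23)
-/

set_option autoImplicit false

namespace Cfsg.Agent.Lib.helper3.SPM

open Cfsg.Agent.Lib.helper3.STC Cfsg.Agent.Lib.helper3.STC.Mat Cfsg.Agent.Lib.helper17.SLP Cfsg.Agent.Lib.helper3.SP4

universe u v w v'

section P

variable {F : Type u} [Field F] {ι : Type w} [Fintype ι] [DecidableEq ι] {k : ℕ}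

/-- P1 [S]  homs out of free groups agree on generators (`FreeGroup.ext_hom`; `FreeGroup.lift.of`, `FreeGroup.map.of`, `Fin.append_left`, `Fin.append_right`). -/
theorem evG_inN {G : Type v} [Group G] (s : Fin k → G) (g : Fin 6 → G) (x : FreeGroup (Fin k)) :
    evG s g (inN x) = evN s x := by
  have h : (evG s g).comp inN = evN s := by
    apply FreeGroup.ext_hom
    intro i
    simp [evG, inN, evN]
  exact DFunLike.congr_fun h x

theorem evG_inL {G : Type v} [Group G] (s : Fin k → G) (g : Fin 6 → G) (x : FreeGroup (Fin 6)) :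
    evG s g (inL x) = evL g x := by
  have h : (evG s g).comp inL = evL g := by
    apply FreeGroup.ext_hom
    intro i
    simp [evG, inL, evL]
  exact DFunLike.congr_fun h x

theorem evG_map {G : Type v} {G' : Type v'} [Group G] [Group G'] (f : G →* G') (s : Fin k → G) (g : Fin 6 → G)
    (x : FreeGroup (Fin (k + 6))) : f (evG s g x) = evG (f ∘ s) (f ∘ g) x := by
  have h : f.comp (evG s g) = evG (f ∘ s) (f ∘ g) := by
    apply FreeGroup.ext_hom
    intro i
    simp only [evG, MonoidHom.comp_apply, FreeGroup.lift_apply_of]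
    refine Fin.addCases (fun j => ?_) (fun j => ?_) i
    · simp [Fin.append_left]
    · simp [Fin.append_right]
  exact DFunLike.congr_fun h x

theorem evN_map {G : Type v} {G' : Type v'} [Group G] [Group G'] (f : G →* G') (s : Fin k → G)
    (x : FreeGroup (Fin k)) : f (evN s x) = evN (f ∘ s) x := by
  have h : f.comp (evN s) = evN (f ∘ s) := by
    apply FreeGroup.ext_hom
    intro i
    simp [evN]
  exact DFunLike.congr_fun h x

theorem evL_map {G : Type v} {G' : Type v'} [Group G] [Group G'] (f : G →* G') (g : Fin 6 → G)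
    (x : FreeGroup (Fin 6)) : f (evL g x) = evL (f ∘ g) x := by
  have h : f.comp (evL g) = evL (f ∘ g) := by
    apply FreeGroup.ext_hom
    intro i
    simp [evL]
  exact DFunLike.congr_fun h x

end P

end Cfsg.Agent.Lib.helper3.SPM
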