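import Mathlib
import Cfsg.Agent.Lib.Helper18.PRL.Defs
import Cfsg.Agent.Lib.helper23.PRLCH1

set_option autoImplicit false

namespace Cfsg.Agent.Lib.Helper18.PRL

open scoped commutatorElement

universe u

section chain
variable {p : ℕ} [hp : Fact p.Prime] {G : Type u} [Group G] [Finite G] {n : ℕ}

/-- `Z_2 = Z_1 ⊔ ⟨z⟩` for `z ∈ Z_2 ∖ Z_1`. -/
theorem h23_Z2_eq_sup (h : MC p G n) (hn : 4 ≤ n) (z : G) (hz : z ∈ Z G 2) (hz' : z ∉ Z G 1) :
    Z G 1 ⊔ Subgroup.zpowers z = Z G 2 := by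
  have hpg : IsPGroup p G := IsPGroup.of_card h.1
  have h12 : Z G 1 ≤ Z G 2 := Subgroup.upperCentralSeries_mono G (by omega)
  have hle : Z G 1 ⊔ Subgroup.zpowers z ≤ Z G 2 :=
    sup_le h12 ((Subgroup.zpowers_le).mpr hz)
  have hc1 : Nat.card (Z G 1) = p ^ 1 := card_Z h (by omega) 1 (by omega)
  have hc2 : Nat.card (Z G 2) = p ^ 2 := card_Z h (by omega) 2 (by omega)
  obtain ⟨j, hj⟩ := (hpg.to_subgroup (Z G 1 ⊔ Subgroup.zpowers z)).exists_card_eq
  have hlt : Z G 1 < Z G 1 ⊔ Subgroup.zpowers z := by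
    refine lt_of_le_of_ne le_sup_left ?_
    intro heq
    apply hz'
    rw [heq]
    exact (le_sup_right : Subgroup.zpowers z ≤ _) (Subgroup.mem_zpowers z)
  have hcardlt : Nat.card (Z G 1) < Nat.card (Z G 1 ⊔ Subgroup.zpowers z : Subgroup G) := by
    by_contra hcon
    push Not at hcon
    exact hlt.ne (Subgroup.eq_of_le_of_card_ge hlt.le hcon)
  have hj1 : 1 < j := by
    apply (Nat.pow_lt_pow_iff_right hp.out.one_lt).mp
    rw [← hj, ← hc1]
    exact hcardlt
  apply Subgroup.eq_of_le_of_card_ge hle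
  rw [hc2, hj]
  exact Nat.pow_le_pow_right hp.out.pos hj1

/-- PRL-CH6 -/
theorem mem_G1_of_comm (h : MC p G n) (hn : 4 ≤ n) (z : G) (hz : z ∈ Z G 2) (hz' : z ∉ Z G 1)
    (g : G) (hg : g * z = z * g) : g ∈ G1 G := by
  have hsup := h23_Z2_eq_sup h hn z hz hz'
  have hle : Z G 1 ⊔ Subgroup.zpowers z ≤ Subgroup.centralizer ({g} : Set G) := by
    apply sup_le
    · intro c hc
      change c ∈ Subgroup.upperCentralSeries G 1 at hc
      rw [Subgroup.upperCentralSeries_one, Subgroup.mem_center_iff] at hc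
      rw [Subgroup.mem_centralizer_iff]
      intro x hx
      rw [Set.mem_singleton_iff] at hx
      rw [hx]
      exact hc g
    · rw [Subgroup.zpowers_le, Subgroup.mem_centralizer_iff]
      intro x hx
      rw [Set.mem_singleton_iff] at hx
      rw [hx]
      exact hg
  rw [hsup] at hle
  unfold G1
  rw [Subgroup.mem_centralizer_iff]
  intro w hw
  have := hle hw
  rw [Subgroup.mem_centralizer_iff] at this
  exact (this g (Set.mem_singleton g)).symm

end chain

end Cfsg.Agent.Lib.Helper18.PRL
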