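import Mathlib
import Cfsg.Agent.Lib.Helper18.GBT.Defs

/-! GBT-U3 (backup by helper23): a `p`-group, `p` odd, is not the union of three proper subgroups -/

set_option autoImplicit false

namespace Cfsg.Agent.Lib.Helper18.GBT

open Cfsg.Agent.Lib.Helper18.PRL
open scoped commutatorElement

/-- a proper subgroup of a finite `p`-group, `p` odd, has at most a third of the elements -/
theorem h23gbt_three_mul_card_le {X : Type*} [Group X] [Finite X] {p : ℕ} [Fact p.Prime]
    (hp : p ≠ 2) (hX : IsPGroup p X) (A : Subgroup X) (hA : A ≠ ⊤) :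
    3 * Nat.card A ≤ Nat.card X := by
  have hpp : p.Prime := Fact.out
  have h3 : 3 ≤ p := by
    have := hpp.two_le
    omega
  obtain ⟨k, hk⟩ := IsPGroup.iff_card.1 hX
  have hmul := A.card_mul_index
  have hdvd : A.index ∣ p ^ k := by
    rw [← hk]; exact A.index_dvd_card
  obtain ⟨a, _, ha⟩ := (Nat.dvd_prime_pow hpp).1 hdvd
  have hne1 : A.index ≠ 1 := fun h1 => hA (Subgroup.index_eq_one.1 h1)
  have ha0 : a ≠ 0 := by
    rintro rfl
    exact hne1 (by rw [ha, pow_zero])
  have hpi : p ≤ A.index := by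
    rw [ha]
    calc p = p ^ 1 := (pow_one p).symm
      _ ≤ p ^ a := Nat.pow_le_pow_right hpp.pos (Nat.one_le_iff_ne_zero.2 ha0)
  calc 3 * Nat.card A = Nat.card A * 3 := by ring
    _ ≤ Nat.card A * A.index := Nat.mul_le_mul_left _ (le_trans h3 hpi)
    _ = Nat.card X := hmul

/-- GBT-U3 -/
theorem exists_notMem_three {X : Type*} [Group X] [Finite X] {p : ℕ} [Fact p.Prime] (hp : p ≠ 2)
    (hX : IsPGroup p X) (A B C : Subgroup X) (hA : A ≠ ⊤) (hB : B ≠ ⊤) (hC : C ≠ ⊤) :
    ∃ s : X, s ∉ A ∧ s ∉ B ∧ s ∉ C := by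
  by_contra hne
  have hall : ∀ s : X, s ∈ A ∨ s ∈ B ∨ s ∈ C := by
    intro s
    by_contra hs
    exact hne ⟨s, fun h => hs (Or.inl h), fun h => hs (Or.inr (Or.inl h)),
      fun h => hs (Or.inr (Or.inr h))⟩
  have hcov : (Set.univ : Set X) = ((A : Set X) ∪ (B : Set X)) ∪ (C : Set X) := by
    ext s
    simp only [Set.mem_univ, Set.mem_union, SetLike.mem_coe, true_iff]
    rcases hall s with h | h | h
    · exact Or.inl (Or.inl h)
    · exact Or.inl (Or.inr h)
    · exact Or.inr h
  have h1 := h23gbt_three_mul_card_le hp hX A hA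
  have h2 := h23gbt_three_mul_card_le hp hX B hB
  have h3 := h23gbt_three_mul_card_le hp hX C hC
  have eA : (A : Set X).ncard = Nat.card A := (Nat.card_coe_set_eq (A : Set X)).symm
  have eB : (B : Set X).ncard = Nat.card B := (Nat.card_coe_set_eq (B : Set X)).symm
  have eC : (C : Set X).ncard = Nat.card C := (Nat.card_coe_set_eq (C : Set X)).symm
  have hAB := Set.ncard_union_add_ncard_inter (A : Set X) (B : Set X)
  have hint : 1 ≤ ((A : Set X) ∩ (B : Set X)).ncard := by
    rw [Nat.one_le_iff_ne_zero, Ne, Set.ncard_eq_zero (Set.toFinite _)]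
    intro h0
    have : (1 : X) ∈ (A : Set X) ∩ (B : Set X) := ⟨A.one_mem, B.one_mem⟩
    rw [h0] at this
    exact this
  have hU := Set.ncard_union_le ((A : Set X) ∪ (B : Set X)) (C : Set X)
  have hX' : (Set.univ : Set X).ncard = Nat.card X := Set.ncard_univ X
  rw [hcov] at hX'
  have hpos : 0 < Nat.card X := Nat.card_pos
  omega

end Cfsg.Agent.Lib.Helper18.GBT
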