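import Mathlib
import Cfsg.Agent.Lib.Helper18.GBT.Defs
import Cfsg.Agent.Lib.helper23.PRLCH1
import Cfsg.Agent.Lib.Helper11.PRLUNI

/-! GBT-UEX (backup by helper23): second half of the proof of `unif_of_notMem` (Helper11/PRLUNI) -/

set_option autoImplicit false

namespace Cfsg.Agent.Lib.Helper18.GBT

open Cfsg.Agent.Lib.Helper18.PRL
open scoped commutatorElement

universe u

section mc
variable {p : ℕ} [Fact p.Prime] {G : Type u} [Group G] [Finite G] {n : ℕ}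

/-- GBT-UEX -/
theorem unif_of_exists (h : MC p G n) (hn : 4 ≤ n) (s : G)
    (hex : ∀ j : ℕ, 2 ≤ j → j ≤ n - 2 → ∃ z ∈ Z G j, ⁅z, s⁆ ∉ Z G (j - 2)) : Unif G n s := by
  have hp : p.Prime := Fact.out
  intro j hj2 hjn g hg hg' hcomm
  have c1 := card_Z h (by omega) j hjn
  have c2 := card_Z h (by omega) (j - 1) (by omega)
  have hj1 : j - 1 = (j - 2) + 1 := by omega
  obtain ⟨z0, hz0, hz0'⟩ := hex j hj2 hjn
  have hK1 : Z G (j - 1) ≤ h11prl_K (Z G j) (Z G (j - 2)) s := by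
    intro a ha
    refine ⟨Subgroup.upperCentralSeries_mono G (by omega : j - 1 ≤ j) ha, ?_⟩
    rw [hj1] at ha
    exact (Subgroup.mem_upperCentralSeries_succ_iff.1 ha) s
  have hK2 : h11prl_K (Z G j) (Z G (j - 2)) s ≤ Z G j := fun a ha => ha.1
  have hgK : g ∈ h11prl_K (Z G j) (Z G (j - 2)) s := ⟨hg, hcomm⟩
  have hz0K : z0 ∉ h11prl_K (Z G j) (Z G (j - 2)) s := fun hh => hz0' hh.2
  have d1 : Nat.card (h11prl_K (Z G j) (Z G (j - 2)) s) ∣ p ^ j := by
    rw [← c1]; exact Subgroup.card_dvd_of_le hK2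
  have d2 : p ^ (j - 1) ∣ Nat.card (h11prl_K (Z G j) (Z G (j - 2)) s) := by
    rw [← c2]; exact Subgroup.card_dvd_of_le hK1
  obtain ⟨a, ha, hKa⟩ := (Nat.dvd_prime_pow hp).1 d1
  rw [hKa] at d2
  have ha' : j - 1 ≤ a := (Nat.pow_dvd_pow_iff_le_right hp.one_lt).1 d2
  rcases (by omega : a = j ∨ a = j - 1) with rfl | rfl
  · have : h11prl_K (Z G a) (Z G (a - 2)) s = Z G a :=
      Subgroup.eq_of_le_of_card_ge hK2 (by rw [c1, hKa])
    exact hz0K (by rw [this]; exact hz0)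
  · have : Z G (j - 1) = h11prl_K (Z G j) (Z G (j - 2)) s :=
      Subgroup.eq_of_le_of_card_ge hK1 (by rw [c2, hKa])
    exact hg' (by rw [this]; exact hgK)

end mc

end Cfsg.Agent.Lib.Helper18.GBT
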