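import Mathlib
import Cfsg.Prelude.Def_CaseTheorems
import Cfsg.Agent.Lib.Helper18.GBT.Defs
import Cfsg.Agent.Lib.helper23.PRLCH1
import Cfsg.Agent.Lib.Helper12.PRLG1a
import Cfsg.Agent.Lib.Helper11.PRLUNI
import Cfsg.Agent.Lib.helper23.GBTU3b
import Cfsg.Agent.Lib.helper23.GBTUEXb

/-!
# Project GBT, piece SET: a uniform element outside a given two-step centralizer `H`
-/

set_option autoImplicit false

namespace Cfsg.Agent.Lib.Helper18.GBT

open Cfsg.Agent.Lib.Helper18.PRL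
open scoped commutatorElement

universe u

section mc
variable {p : ℕ} [Fact p.Prime] {G : Type u} [Group G] [Finite G] {n : ℕ}

/-- a subgroup of index `p` is proper -/
theorem h23gbt_ne_top_of_index (H : Subgroup G) (hH : H.index = p) : H ≠ ⊤ := by
  intro h
  rw [h, Subgroup.index_top] at hH
  exact (Fact.out : p.Prime).one_lt.ne hH

/-- `Z_j ≤ Z_{j-1}` is impossible for `2 ≤ j ≤ n - 2` -/
theorem h23gbt_not_le (h : MC p G n) (hn : 4 ≤ n) (j : ℕ) (hj : 1 ≤ j) (hjn : j ≤ n - 2) :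
    ¬ Z G j ≤ Z G (j - 1) := by
  intro hle
  have hp : p.Prime := Fact.out
  have c1 := card_Z h (by omega) j hjn
  have c2 := card_Z h (by omega) (j - 1) (by omega)
  have hcard := Subgroup.card_le_of_le hle
  rw [c1, c2] at hcard
  exact absurd hcard (not_le.mpr (Nat.pow_lt_pow_right hp.one_lt (by omega)))

/-- if every element of the group is in `h11prl_C (Z j) (Z (j-2))` then `Z_j ≤ Z_{j-1}` -/
theorem h23gbt_le_of_C_top (j : ℕ) (hj : 2 ≤ j) (hC : h11prl_C (Z G j) (Z G (j - 2)) = ⊤) :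
    Z G j ≤ Z G (j - 1) := by
  have hj1 : j - 1 = (j - 2) + 1 := by omega
  intro z hz
  rw [hj1]
  show z ∈ Subgroup.upperCentralSeries G ((j - 2) + 1)
  rw [Subgroup.mem_upperCentralSeries_succ_iff]
  intro y
  have hy : y ∈ h11prl_C (Z G j) (Z G (j - 2)) := hC ▸ Subgroup.mem_top y
  have h2 := inv_mem (hy z hz)
  rw [commutatorElement_inv] at h2
  exact h2

/-- GBT-SET -/
theorem exists_unif (h : MC p G n) (hn : 4 ≤ n) (hp : p ≠ 2) (H : Subgroup G) (hH : H.index = p)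
    (hyp : HypFrom G n 4 H) : ∃ s : G, s ∉ H ∧ Unif G n s := by
  have hpp : p.Prime := Fact.out
  have hpG : IsPGroup p G := IsPGroup.of_card h.1
  have hHne := h23gbt_ne_top_of_index H hH
  have hG1ne := h23gbt_ne_top_of_index (G1 G) (G1_index h hn)
  -- the third subgroup
  have hCex : ∃ C : Subgroup G, C ≠ ⊤ ∧ (5 ≤ n → C = h11prl_C (Z G 3) (Z G 1)) := by
    by_cases h5 : 5 ≤ n
    · refine ⟨h11prl_C (Z G 3) (Z G 1), ?_, fun _ => rfl⟩
      intro htop
      exact h23gbt_not_le h hn 3 (by omega) (by omega) (h23gbt_le_of_C_top 3 (by omega) htop)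
    · exact ⟨H, hHne, fun h5' => absurd h5' h5⟩
  obtain ⟨C, hCne, hC5⟩ := hCex
  obtain ⟨s, hsH, hsG1, hsC⟩ := exists_notMem_three hp hpG H (G1 G) C hHne hG1ne hCne
  refine ⟨s, hsH, unif_of_exists h hn s ?_⟩
  intro j hj2 hjn
  by_contra hne0
  have hne : ∀ z0 ∈ Z G j, ⁅z0, s⁆ ∈ Z G (j - 2) := by
    intro z0 hz0
    by_contra hc
    exact hne0 ⟨z0, hz0, hc⟩
  have hsC' : s ∈ h11prl_C (Z G j) (Z G (j - 2)) := by
    intro z hz
    rw [← commutatorElement_inv]
    exact inv_mem (hne z hz)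
  rcases (by omega : j = 2 ∨ j = 3 ∨ 4 ≤ j) with rfl | rfl | hj4
  · apply hsG1
    rw [G1, Subgroup.mem_centralizer_iff]
    intro z hz
    have h1 := hne z hz
    have h0 : Z G (2 - 2) = ⊥ := rfl
    rw [h0, Subgroup.mem_bot, commutatorElement_eq_one_iff_mul_comm] at h1
    exact h1
  · apply hsC
    rw [hC5 (by omega)]
    exact hsC'
  · have hHC : H ≤ h11prl_C (Z G j) (Z G (j - 2)) :=
      fun a ha z hz => hyp j hj4 hjn a ha z hz
    have hCtop := h11prl_top_of_index_prime hpp H _ hH hHC s hsC' hsH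
    exact h23gbt_not_le h hn j (by omega) hjn (h23gbt_le_of_C_top j hj2 hCtop)

end mc

end Cfsg.Agent.Lib.Helper18.GBT
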