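import Mathlib
import Cfsg.Prelude.Def_CaseTheorems
import Cfsg.Agent.Lib.Helper18.GBT.Defs
import Cfsg.Agent.Lib.helper23.PRLCH1
import Cfsg.Agent.Lib.Helper16.PRLU1
import Cfsg.Agent.Lib.Helper25.PRLGEN

/-!
# Project GBT, piece UC: the centralizer of a uniform element outside a subgroup of index `p` has order
at most `p ^ 2`
-/

set_option autoImplicit false

namespace Cfsg.Agent.Lib.Helper18.GBT

open Cfsg.Agent.Lib.Helper18.PRL
open scoped commutatorElement

universe u

section mc
variable {p : ℕ} [Fact p.Prime] {G : Type u} [Group G] [Finite G] {n : ℕ}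

/-- GBT-UC -/
theorem card_centralizer_le_of_unif (h : MC p G n) (hn : 4 ≤ n) (H : Subgroup G)
    (hH : H.index = p) (s : G) (hsH : s ∉ H) (hs : Unif G n s) :
    Nat.card (Subgroup.centralizer ({s} : Set G)) ≤ p ^ 2 := by
  have hp : p.Prime := Fact.out
  obtain ⟨hU1, -⟩ := unif_cent h hn s hs
  have hle : H ⊓ Subgroup.centralizer ({s} : Set G) ≤ Z G 1 := by
    rintro g ⟨hg1, hgC⟩
    have hcomm : g * s = s * g := ((Subgroup.mem_centralizer_iff.1 hgC) s rfl).symm
    by_cases hgc : g ∈ commutator G
    · exact hU1 g hgc hcomm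
    · exfalso
      have hnm := comm_notMem h (by omega) H hH s g hsH hg1 hgc
      apply hnm
      have h1 : ⁅s, g⁆ = 1 := commutatorElement_eq_one_iff_mul_comm.2 hcomm.symm
      rw [h1]; exact one_mem _
  have hc1 : Nat.card (Z G 1) = p := by
    have := card_Z h (by omega) 1 (by omega)
    simpa using this
  have hcard1 : Nat.card ↥(H ⊓ Subgroup.centralizer ({s} : Set G)) ≤ p := by
    rw [← hc1]; exact Subgroup.card_le_of_le hle
  have hmul := Subgroup.card_mul_index (H.subgroupOf (Subgroup.centralizer ({s} : Set G)))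
  have hrel : H.relIndex (Subgroup.centralizer ({s} : Set G)) ≤ p := by
    have h3 : H.relIndex ⊤ ≠ 0 := by
      rw [Subgroup.relIndex_top_right, hH]; exact hp.pos.ne'
    have := Subgroup.relIndex_le_of_le_right (H := H)
      (le_top : Subgroup.centralizer ({s} : Set G) ≤ ⊤) h3
    rwa [Subgroup.relIndex_top_right, hH] at this
  have hcard2 : Nat.card (H.subgroupOf (Subgroup.centralizer ({s} : Set G))) =
      Nat.card ↥(H ⊓ Subgroup.centralizer ({s} : Set G)) := by
    rw [← Subgroup.inf_subgroupOf_right]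
    exact Nat.card_congr (Subgroup.subgroupOfEquivOfLe inf_le_right).toEquiv
  rw [← hmul, hcard2]
  calc Nat.card ↥(H ⊓ Subgroup.centralizer ({s} : Set G)) *
        (H.subgroupOf (Subgroup.centralizer ({s} : Set G))).index ≤ p * p :=
        Nat.mul_le_mul hcard1 hrel
    _ = p ^ 2 := by ring

end mc

end Cfsg.Agent.Lib.Helper18.GBT
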