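import Cfsg.Agent.Lib.helper23.RULCertA
import Cfsg.Agent.Lib.helper23.RULRecData

set_option autoImplicit false

namespace Cfsg.Agent.Lib.helper23

set_option maxRecDepth 100000 in
theorem rulCen10 : rulDfsPre 72057594037927935 72057594037927935 16 (rulCensusP rulRecs) (rulTorEqs rulTors) 7 80 8 = true := by
  decide +kernel

end Cfsg.Agent.Lib.helper23
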