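import Cfsg.Agent.Lib.helper23.RULCertA

set_option autoImplicit false

namespace Cfsg.Agent.Lib.helper23

set_option maxRecDepth 100000 in
theorem rulC8x3x0 : rulChk8 4278190080 rulT8x3 4 0 4 = true := by
  decide +kernel

set_option maxRecDepth 100000 in
theorem rulC8x3x1 : rulChk8 4278190080 rulT8x3 4 4 4 = true := by
  decide +kernel

set_option maxRecDepth 100000 in
theorem rulC8x3x2 : rulChk8 4278190080 rulT8x3 4 8 4 = true := by
  decide +kernel

set_option maxRecDepth 100000 in
theorem rulC8x3x3 : rulChk8 4278190080 rulT8x3 4 12 4 = true := by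
  decide +kernel

end Cfsg.Agent.Lib.helper23
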