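import Cfsg.Agent.Lib.helper23.RULRecData

set_option autoImplicit false

namespace Cfsg.Agent.Lib.helper23

set_option maxRecDepth 100000 in
theorem rulRecs8_ok : pgAllL rulRecs8 rulChkRec = true := by decide +kernel

end Cfsg.Agent.Lib.helper23
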