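import Cfsg.Agent.Lib.helper23.RULCertA
import Cfsg.Agent.Lib.helper23.RULRecData
import Cfsg.Agent.Lib.helper23.RULRecChk0
import Cfsg.Agent.Lib.helper23.RULRecChk1
import Cfsg.Agent.Lib.helper23.RULRecChk2
import Cfsg.Agent.Lib.helper23.RULRecChk3
import Cfsg.Agent.Lib.helper23.RULRecChk4
import Cfsg.Agent.Lib.helper23.RULRecChk5
import Cfsg.Agent.Lib.helper23.RULRecChk6
import Cfsg.Agent.Lib.helper23.RULRecChk7
import Cfsg.Agent.Lib.helper23.RULRecChk8
import Cfsg.Agent.Lib.helper23.RULRecChk9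
import Cfsg.Agent.Lib.helper23.RULRecChk10
import Cfsg.Agent.Lib.helper23.RULRecChk11
import Cfsg.Agent.Lib.helper23.RULCen0
import Cfsg.Agent.Lib.helper23.RULCen1
import Cfsg.Agent.Lib.helper23.RULCen2
import Cfsg.Agent.Lib.helper23.RULCen3
import Cfsg.Agent.Lib.helper23.RULCen4
import Cfsg.Agent.Lib.helper23.RULCen5
import Cfsg.Agent.Lib.helper23.RULCen6
import Cfsg.Agent.Lib.helper23.RULCen7
import Cfsg.Agent.Lib.helper23.RULCen8
import Cfsg.Agent.Lib.helper23.RULCen9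
import Cfsg.Agent.Lib.helper23.RULCen10
import Cfsg.Agent.Lib.helper23.RULCen11
import Cfsg.Agent.Lib.helper23.RULCen12
import Cfsg.Agent.Lib.helper23.RULCen13
import Cfsg.Agent.Lib.helper23.RULCen14
import Cfsg.Agent.Lib.helper23.RULCen15
import Cfsg.Agent.Lib.helper23.RULChk0
import Cfsg.Agent.Lib.helper23.RULChk8x0
import Cfsg.Agent.Lib.helper23.RULChk8x1
import Cfsg.Agent.Lib.helper23.RULChk8x2
import Cfsg.Agent.Lib.helper23.RULChk8x3
import Cfsg.Agent.Lib.helper23.RULChk8x4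
import Cfsg.Agent.Lib.helper23.RULChk8x5
import Cfsg.Agent.Lib.helper23.RULChk8x6

set_option autoImplicit false

/-!
# The mask theorem: the integrality conditions against the unit-type minimal vectors force a
mask triple of norm 16 to be one of the unit-type minimal vectors
-/

namespace Cfsg.Agent.Lib.helper23

theorem rulCen_all : rulDfsPre 72057594037927935 72057594037927935 16 (rulCensusP rulRecs) (rulTorEqs rulTors) 7 0 (2 ^ 7) = true :=
  rulDfsPre_append (lo := 0) (c1 := 120) (c2 := 8) (rulDfsPre_append (lo := 0) (c1 := 112) (c2 := 8) (rulDfsPre_append (lo := 0) (c1 := 104) (c2 := 8) (rulDfsPre_append (lo := 0) (c1 := 96) (c2 := 8) (rulDfsPre_append (lo := 0) (c1 := 88) (c2 := 8) (rulDfsPre_append (lo := 0) (c1 := 80) (c2 := 8) (rulDfsPre_append (lo := 0) (c1 := 72) (c2 := 8) (rulDfsPre_append (lo := 0) (c1 := 64) (c2 := 8) (rulDfsPre_append (lo := 0) (c1 := 56) (c2 := 8) (rulDfsPre_append (lo := 0)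 (c1 := 48) (c2 := 8) (rulDfsPre_append (lo := 0) (c1 := 40) (c2 := 8) (rulDfsPre_append (lo := 0) (c1 := 32) (c2 := 8) (rulDfsPre_append (lo := 0) (c1 := 24) (c2 := 8) (rulDfsPre_append (lo := 0) (c1 := 16) (c2 := 8) (rulDfsPre_append (lo := 0) (c1 := 8) (c2 := 8) (rulCen0) rulCen1) rulCen2) rulCen3) rulCen4) rulCen5) rulCen6) rulCen7) rulCen8) rulCen9) rulCen10) rulCen11) rulCen12) rulCen13) rulCen14) rulCen15

theorem rulC0_all : rulChk0 rulT0 4 0 (2 ^ 4) = true :=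
  rulDfsPre_append (lo := 0) (c1 := 12) (c2 := 4) (rulDfsPre_append (lo := 0) (c1 := 8) (c2 := 4) (rulDfsPre_append (lo := 0) (c1 := 4) (c2 := 4) (rulC0x0) rulC0x1) rulC0x2) rulC0x3

theorem rulC8x0_all : rulChk8 255 rulT8x0 4 0 (2 ^ 4) = true :=
  rulDfsPre_append (lo := 0) (c1 := 12) (c2 := 4) (rulDfsPre_append (lo := 0) (c1 := 8) (c2 := 4) (rulDfsPre_append (lo := 0) (c1 := 4) (c2 := 4) (rulC8x0x0) rulC8x0x1) rulC8x0x2) rulC8x0x3

theorem rulC8x1_all : rulChk8 65280 rulT8x1 4 0 (2 ^ 4) = true :=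
  rulDfsPre_append (lo := 0) (c1 := 12) (c2 := 4) (rulDfsPre_append (lo := 0) (c1 := 8) (c2 := 4) (rulDfsPre_append (lo := 0) (c1 := 4) (c2 := 4) (rulC8x1x0) rulC8x1x1) rulC8x1x2) rulC8x1x3

theorem rulC8x2_all : rulChk8 16711680 rulT8x2 4 0 (2 ^ 4) = true :=
  rulDfsPre_append (lo := 0) (c1 := 12) (c2 := 4) (rulDfsPre_append (lo := 0) (c1 := 8) (c2 := 4) (rulDfsPre_append (lo := 0) (c1 := 4) (c2 := 4) (rulC8x2x0) rulC8x2x1) rulC8x2x2) rulC8x2x3

theorem rulC8x3_all : rulChk8 4278190080 rulT8x3 4 0 (2 ^ 4) = true :=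
  rulDfsPre_append (lo := 0) (c1 := 12) (c2 := 4) (rulDfsPre_append (lo := 0) (c1 := 8) (c2 := 4) (rulDfsPre_append (lo := 0) (c1 := 4) (c2 := 4) (rulC8x3x0) rulC8x3x1) rulC8x3x2) rulC8x3x3

theorem rulC8x4_all : rulChk8 1095216660480 rulT8x4 4 0 (2 ^ 4) = true :=
  rulDfsPre_append (lo := 0) (c1 := 12) (c2 := 4) (rulDfsPre_append (lo := 0) (c1 := 8) (c2 := 4) (rulDfsPre_append (lo := 0) (c1 := 4) (c2 := 4) (rulC8x4x0) rulC8x4x1) rulC8x4x2) rulC8x4x3

theorem rulC8x5_all : rulChk8 280375465082880 rulT8x5 4 0 (2 ^ 4) = true :=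
  rulDfsPre_append (lo := 0) (c1 := 12) (c2 := 4) (rulDfsPre_append (lo := 0) (c1 := 8) (c2 := 4) (rulDfsPre_append (lo := 0) (c1 := 4) (c2 := 4) (rulC8x5x0) rulC8x5x1) rulC8x5x2) rulC8x5x3

theorem rulC8x6_all : rulChk8 71776119061217280 rulT8x6 4 0 (2 ^ 4) = true :=
  rulDfsPre_append (lo := 0) (c1 := 12) (c2 := 4) (rulDfsPre_append (lo := 0) (c1 := 8) (c2 := 4) (rulDfsPre_append (lo := 0) (c1 := 4) (c2 := 4) (rulC8x6x0) rulC8x6x1) rulC8x6x2) rulC8x6x3

theorem rulRecs_ok : ∀ ch ∈ rulRecs, pgAllL ch rulChkRec = true := by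
  intro ch hch
  simp only [rulRecs, List.mem_cons, List.not_mem_nil, or_false] at hch
  rcases hch with rfl | rfl | rfl | rfl | rfl | rfl | rfl | rfl | rfl | rfl | rfl | rfl
  · exact rulRecs0_ok
  · exact rulRecs1_ok
  · exact rulRecs2_ok
  · exact rulRecs3_ok
  · exact rulRecs4_ok
  · exact rulRecs5_ok
  · exact rulRecs6_ok
  · exact rulRecs7_ok
  · exact rulRecs8_ok
  · exact rulRecs9_ok
  · exact rulRecs10_ok
  · exact rulRecs11_ok

theorem rulC8_all : ∀ s ∈ rulSlots, rulIdxOk (rulT8 s) = true ∧ rulChk8 s (rulT8 s) 4 0 (2 ^ 4) = true := by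
  intro s hs
  refine ⟨rulT8_ok s hs, ?_⟩
  simp only [rulSlots, List.mem_cons, List.not_mem_nil, or_false] at hs
  rcases hs with rfl | rfl | rfl | rfl | rfl | rfl | rfl
  · exact rulC8x0_all
  · exact rulC8x1_all
  · exact rulC8x2_all
  · exact rulC8x3_all
  · exact rulC8x4_all
  · exact rulC8x5_all
  · exact rulC8x6_all

/-- **the mask theorem** -/
theorem rul_masks {c n z : ℕ} (hc : c < 2 ^ 56) (hz : z < 2 ^ 56)
    (hcz : c &&& z = 0) (hn : n &&& (c ||| z) = n) (hw : rulWt c + 4 * rulWt z = 16)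
    (hsat : rulSat c n z) : z = 0 ∧ ∃ i < 16128, rulS i = c ∧ rulN i = n :=
  rul_masks_of hc hz hcz hn hw hsat rulTors rulTors_ok rulRecs 7 (by norm_num) rulCen_all rulRecs_ok
    rulT0 rulT0_ok 4 (by norm_num) rulC0_all rulT8 4 (by norm_num) rulC8_all

end Cfsg.Agent.Lib.helper23
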