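import Mathlib

set_option autoImplicit false

/-!
# A bound for the order of a group from a chain of base points
-/

namespace Cfsg.Agent.Lib.helper23

open MulAction

section chain

variable {G X : Type*} [Group G] [MulAction G X]

/-- the pointwise stabiliser of the first `t` base points -/
def rulStab (b : ℕ → X) (t : ℕ) : Subgroup G where
  carrier := {g | ∀ j < t, g • b j = b j}
  one_mem' := fun j _ => one_smul G (b j)
  mul_mem' := by
    intro g h hg hh j hj
    rw [mul_smul, hh j hj, hg j hj]
  inv_mem' := by
    intro g hg j hj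
    rw [inv_smul_eq_iff, hg j hj]

theorem rulStab_succ_le (b : ℕ → X) (t : ℕ) : rulStab (G := G) b (t + 1) ≤ rulStab b t :=
  fun _ hg j hj => hg j (Nat.lt_succ_of_lt hj)

theorem rulStab_step (b : ℕ → X) (t : ℕ) (C : Set X) (hfin : C.Finite)
    (hC : ∀ g : G, (∀ j < t, g • b j = b j) → g • b t ∈ C) :
    Nat.card (rulStab (G := G) b t) ≤ C.ncard * Nat.card (rulStab (G := G) b (t + 1)) := by
  set H := rulStab (G := G) b t
  set K := rulStab (G := G) b (t + 1)
  have hKH : K ≤ H := rulStab_succ_le b t
  have h1 : Nat.card (K.subgroupOf H) * (K.subgroupOf H).index = Nat.card H :=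
    Subgroup.card_mul_index _
  have h2 : Nat.card (K.subgroupOf H) = Nat.card K :=
    Nat.card_congr (Subgroup.subgroupOfEquivOfLe hKH).toEquiv
  -- the cosets inject into `C`
  have hfin' : Finite C := hfin
  let φ : H ⧸ K.subgroupOf H → C :=
    Quotient.lift (fun h : H => (⟨(h : G) • b t, hC h h.2⟩ : C)) (by
      intro h h' hrel
      have hrel' : h⁻¹ * h' ∈ K.subgroupOf H := QuotientGroup.leftRel_apply.mp hrel
      rw [Subgroup.mem_subgroupOf] at hrel'
      have h3 := hrel' t (Nat.lt_succ_self t)
      apply Subtype.ext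
      show (h : G) • b t = (h' : G) • b t
      have h4 : ((h⁻¹ * h' : H) : G) = (h : G)⁻¹ * (h' : G) := by simp
      rw [h4, mul_smul, inv_smul_eq_iff] at h3
      exact h3.symm)
  have hφ : Function.Injective φ := by
    intro q q'
    refine Quotient.inductionOn₂ q q' ?_
    intro h h' he
    apply Quotient.sound
    apply QuotientGroup.leftRel_apply.mpr
    rw [Subgroup.mem_subgroupOf]
    have he' : (h : G) • b t = (h' : G) • b t := congrArg Subtype.val he
    intro j hj
    have h4 : ((h⁻¹ * h' : H) : G) = (h : G)⁻¹ * (h' : G) := by simp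
    rw [h4, mul_smul, inv_smul_eq_iff]
    rcases Nat.lt_succ_iff_lt_or_eq.mp hj with hj' | rfl
    · rw [h'.2 j hj', h.2 j hj']
    · exact he'.symm
  have h5 : (K.subgroupOf H).index ≤ C.ncard := by
    have h6 := Nat.card_le_card_of_injective φ hφ
    rw [_root_.Nat.card_coe_set_eq] at h6
    exact h6
  calc Nat.card H = Nat.card (K.subgroupOf H) * (K.subgroupOf H).index := h1.symm
    _ = (K.subgroupOf H).index * Nat.card K := by rw [h2, Nat.mul_comm]
    _ ≤ C.ncard * Nat.card K := Nat.mul_le_mul_right _ h5

/-- the order of a group acting with a chain of base points: if the orbit of the `t`-th base point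
under the pointwise stabiliser of the earlier ones lies in a set of at most `n t` elements, and
only the identity fixes all `m` base points, then the order is at most the product of the `n t` -/
theorem rul_chain_card (b : ℕ → X) (C : ℕ → Set X) (n : ℕ → ℕ) (m : ℕ)
    (hC : ∀ t < m, ∀ g : G, (∀ j < t, g • b j = b j) → g • b t ∈ C t)
    (hfin : ∀ t < m, (C t).Finite) (hn : ∀ t < m, (C t).ncard ≤ n t)
    (hfix : ∀ g : G, (∀ j < m, g • b j = b j) → g = 1) :
    Nat.card G ≤ ∏ t ∈ Finset.range m, n t := by
  have key : ∀ t ≤ m, Nat.card G ≤ (∏ j ∈ Finset.range t, n j) * Nat.card (rulStab (G := G) b t) := by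
    intro t
    induction t with
    | zero =>
      intro _
      have h0 : rulStab (G := G) b 0 = ⊤ := by
        ext g
        simp [rulStab]
      rw [h0, Finset.prod_range_zero, one_mul, Subgroup.card_top]
    | succ t ih =>
      intro ht
      have h1 := ih (by omega)
      have h2 := rulStab_step (G := G) b t (C t) (hfin t (by omega)) (hC t (by omega))
      calc Nat.card G ≤ (∏ j ∈ Finset.range t, n j) * Nat.card (rulStab (G := G) b t) := h1
        _ ≤ (∏ j ∈ Finset.range t, n j) * ((C t).ncard * Nat.card (rulStab (G := G) b (t + 1))) :=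
            Nat.mul_le_mul_left _ h2
        _ ≤ (∏ j ∈ Finset.range t, n j) * (n t * Nat.card (rulStab (G := G) b (t + 1))) :=
            Nat.mul_le_mul_left _ (Nat.mul_le_mul_right _ (hn t (by omega)))
        _ = (∏ j ∈ Finset.range (t + 1), n j) * Nat.card (rulStab (G := G) b (t + 1)) := by
            rw [Finset.prod_range_succ, Nat.mul_assoc]
  have hm := key m le_rfl
  have hbot : rulStab (G := G) b m = ⊥ := by
    ext g
    rw [Subgroup.mem_bot]
    exact ⟨fun hg => hfix g hg, fun hg => by rw [hg]; exact (rulStab b m).one_mem⟩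
  rw [hbot, Subgroup.card_bot, mul_one] at hm
  exact hm

end chain

end Cfsg.Agent.Lib.helper23
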