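import Cfsg.Agent.Lib.helper23.RULSolve

set_option autoImplicit false

/-!
# Parity equations from the integrality conditions `rulSat`
-/

namespace Cfsg.Agent.Lib.helper23

theorem rulS_lt (i : ℕ) : rulS i < 2 ^ 56 := by
  have h : rulS i = (rulLS >>> (56 * i)) &&& (2 ^ 56 - 1) := rfl
  rw [h, Nat.and_two_pow_sub_one_eq_mod]
  exact Nat.mod_lt _ (by norm_num)

theorem rulN_lt (i : ℕ) : rulN i < 2 ^ 56 := by
  have h : rulN i = (rulLN >>> (56 * i)) &&& (2 ^ 56 - 1) := rfl
  rw [h, Nat.and_two_pow_sub_one_eq_mod]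
  exact Nat.mod_lt _ (by norm_num)

theorem rul_and_lt_left {a : ℕ} (b : ℕ) (h : a < 2 ^ 56) : a &&& b < 2 ^ 56 :=
  lt_of_le_of_lt Nat.and_le_left h

theorem rul_and_lt_right (a : ℕ) {b : ℕ} (h : b < 2 ^ 56) : a &&& b < 2 ^ 56 :=
  lt_of_le_of_lt Nat.and_le_right h

theorem rul_or_eq_xor {x y : ℕ} (h : x &&& y = 0) : x ||| y = x ^^^ y := by
  apply Nat.eq_of_testBit_eq
  intro j
  have hj : (x &&& y).testBit j = false := by rw [h]; exact Nat.zero_testBit j
  rw [Nat.testBit_and] at hj
  rw [Nat.testBit_or, Nat.testBit_xor]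
  cases hx : x.testBit j <;> cases hy : y.testBit j <;> simp_all

/-- kernel friendly exclusive or -/
def rulXor (a b : Bool) : Bool := cond a (cond b false true) b

theorem rulXor_eq (a b : Bool) : rulXor a b = xor a b := by
  cases a <;> cases b <;> rfl

/-- the right hand side of the parity equation of the `i`-th minimal vector for the odd set `c` -/
def rulGam (c i : ℕ) : Bool :=
  rulXor (rulPar (Nat.land (Nat.land (rulS i) c) (rulN i))) (rulBit (rulWtF (Nat.land (rulS i) c)) 1)

/-- the basic parity equation: the unknown is `(n &&& c) ||| z` -/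
theorem rul_basic {c n z i : ℕ} (hcz : c &&& z = 0)
    (hi : i < 16128) (hsat : rulSat c n z) :
    rulWt (rulS i &&& c) % 2 = 0 ∧ rulPar (rulS i &&& ((n &&& c) ||| z)) = rulGam c i := by
  have hS := rulS_lt i
  have h4 := hsat i hi
  set S := rulS i &&& c with hSdef
  have hSlt : S < 2 ^ 56 := rul_and_lt_left _ hS
  set a := rulWt S
  set b := rulWt (S &&& (n ^^^ rulN i))
  set d := rulWt (rulS i &&& z)
  have ha : a % 2 = 0 := by omega
  refine ⟨ha, ?_⟩
  -- split the unknown
  have e1 : rulS i &&& ((n &&& c) ||| z) = (S &&& n) ^^^ (rulS i &&& z) := by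
    have hd : (S &&& n) &&& (rulS i &&& z) = 0 := by
      apply Nat.eq_of_testBit_eq
      intro j
      have hj : (c &&& z).testBit j = false := by rw [hcz]; exact Nat.zero_testBit j
      rw [Nat.testBit_and] at hj
      simp only [hSdef, Nat.testBit_and, Nat.zero_testBit]
      cases hcj : c.testBit j <;> cases hzj : z.testBit j <;> simp_all
    rw [← rul_or_eq_xor hd]
    apply Nat.eq_of_testBit_eq
    intro j
    simp only [hSdef, Nat.testBit_and, Nat.testBit_or]
    cases (rulS i).testBit j <;> cases n.testBit j <;> cases c.testBit j <;> cases z.testBit j <;> rfl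
  have e2 : S &&& (n ^^^ rulN i) = (S &&& n) ^^^ (S &&& rulN i) := by
    apply Nat.eq_of_testBit_eq
    intro j
    simp only [Nat.testBit_and, Nat.testBit_xor]
    cases S.testBit j <;> cases n.testBit j <;> cases (rulN i).testBit j <;> rfl
  have p1 : rulPar (S &&& (n ^^^ rulN i)) = decide (b % 2 = 1) := rulPar_eq (rul_and_lt_left _ hSlt)
  have p2 : rulPar (rulS i &&& z) = decide (d % 2 = 1) := rulPar_eq (rul_and_lt_left _ hS)
  rw [e2, rulPar_xor (rul_and_lt_left _ hSlt) (rul_and_lt_left _ hSlt)] at p1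
  rw [e1, rulPar_xor (rul_and_lt_left _ hSlt) (rul_and_lt_left _ hS), p2]
  have p3 : rulBit (rulWtF S) 1 = decide (a / 2 % 2 = 1) := by
    rw [rulBit_eq, rulWtF_eq hSlt, Nat.testBit_eq_decide_div_mod_eq]
  have hg : rulGam c i = xor (rulPar (S &&& rulN i)) (decide (a / 2 % 2 = 1)) := by
    rw [← p3, ← rulXor_eq]
    rfl
  rw [hg]
  have hpar : (a / 2 + b + d) % 2 = 0 := by omega
  revert p1
  cases rulPar (S &&& n) <;> cases rulPar (S &&& rulN i) <;> intro p1 <;>
    simp only [Bool.xor_false, Bool.xor_true, Bool.false_xor, Bool.true_xor, Bool.not_false,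
      Bool.not_true] at p1 ⊢ <;>
    · have hb := p1.symm
      simp only [decide_eq_true_eq, decide_eq_false_iff_not] at hb
      by_cases hd1 : d % 2 = 1 <;> by_cases ha1 : a / 2 % 2 = 1 <;> simp [hd1, ha1] <;> omega

end Cfsg.Agent.Lib.helper23
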