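import Mathlib
import Cfsg.Prelude.Def_Spor_Ru
import Cfsg.Agent.Lib.Helper29.RvLBasic
import Cfsg.Agent.Lib.helper23.RULEqs

set_option autoImplicit false

/-!
# The minimal vectors of the Rudvalis lattice by one index, and their real scalar products

`rulGV idx`, `idx < 16240`, runs over the 16240 minimal vectors: the unit-type ones first, then the
112 vectors `4 u e_p`.  The real part of the Hermitian product of two mask-coded vectors is computed
from the masks.
-/

namespace Cfsg.Agent.Lib.helper23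

open Cfsg.Spor Cfsg.Agent.Lib.Helper29

/-- support of the minimal vector number `idx` -/
def rulGS (idx : ℕ) : ℕ :=
  cond (Nat.blt idx 16128) (rulS idx) (Nat.shiftLeft 1 (Nat.div (Nat.sub idx 16128) 2))

/-- negative positions of the minimal vector number `idx` -/
def rulGN (idx : ℕ) : ℕ :=
  cond (Nat.blt idx 16128) (rulN idx)
    (Nat.shiftLeft (Nat.mod (Nat.sub idx 16128) 2) (Nat.div (Nat.sub idx 16128) 2))

/-- scale of the minimal vector number `idx` -/
def rulGA (idx : ℕ) : ℕ := cond (Nat.blt idx 16128) 1 4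

/-- the minimal vector number `idx < 16240` -/
def rulGV (idx : ℕ) : RuVec := (rulGA idx : GaussianInt) • rulDec (rulGS idx) (rulGN idx) 0

theorem rulGA_le (idx : ℕ) : rulGA idx ≤ 4 := by
  unfold rulGA
  cases Nat.blt idx 16128 <;> simp

theorem rulGA_pos (idx : ℕ) : 0 < rulGA idx := by
  unfold rulGA
  cases Nat.blt idx 16128 <;> simp

theorem rulGV_of_lt {i : ℕ} (hi : i < 16128) : rulGV i = rulVec i := by
  have h : Nat.blt i 16128 = true := by rw [Nat.blt_eq]; exact hi
  unfold rulGV rulGS rulGN rulGA rulVec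
  rw [h]
  simp

/-- the four units -/
def rulGU (m : ℕ) : GaussianInt :=
  match m with
  | 0 => 1
  | 1 => -1
  | 2 => gI
  | _ => -gI

theorem rulGU_isUnit (m : ℕ) : IsUnit (rulGU m) := by
  have h : gI * -gI = 1 := by
    apply Zsqrtd.ext <;> simp [gI]
  rcases m with _ | _ | _ | m
  · exact isUnit_one
  · exact isUnit_one.neg
  · exact IsUnit.of_mul_eq_one _ h
  · exact (IsUnit.of_mul_eq_one (a := gI) _ h).neg

theorem rul_unit_cases {u : GaussianInt} (hu : IsUnit u) : ∃ m < 4, u = rulGU m := by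
  have h1 : u.norm = 1 := (Zsqrtd.norm_eq_one_iff' (by norm_num) u).mpr hu
  obtain ⟨a, b⟩ := u
  rw [Zsqrtd.norm_def] at h1
  simp only at h1
  have h2 : a * a + b * b = 1 := by linarith
  have ha : -1 ≤ a ∧ a ≤ 1 := by constructor <;> nlinarith [mul_self_nonneg b]
  have hb : -1 ≤ b ∧ b ≤ 1 := by constructor <;> nlinarith [mul_self_nonneg a]
  obtain ⟨ha1, ha2⟩ := ha
  obtain ⟨hb1, hb2⟩ := hb
  interval_cases a <;> interval_cases b <;> simp at h1
  · exact ⟨1, by norm_num, by apply Zsqrtd.ext <;> simp [rulGU]⟩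
  · exact ⟨3, by norm_num, by apply Zsqrtd.ext <;> simp [rulGU, gI]⟩
  · exact ⟨2, by norm_num, by apply Zsqrtd.ext <;> simp [rulGU, gI]⟩
  · exact ⟨0, by norm_num, by apply Zsqrtd.ext <;> simp [rulGU]⟩

theorem rulG_frame_tab : ∀ r < 112, ∀ q : RuIdx,
    rulGV (16128 + r) q = (Pi.single (rulIdx (r / 4)) (4 * rulGU (r % 4)) : RuVec) q := by
  decide +kernel

theorem rulG_frame {r : ℕ} (hr : r < 112) :
    rulGV (16128 + r) = Pi.single (rulIdx (r / 4)) (4 * rulGU (r % 4)) :=
  funext (rulG_frame_tab r hr)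

theorem rulIdx_surj : ∀ p : RuIdx, rulIdx (4 * p.1.val + p.2.val) = p := by
  decide +kernel

/-- the minimal vectors by one index -/
theorem rulMin_iff (x : RuVec) : x ∈ rulMin ↔ ∃ idx < 16240, x = rulGV idx := by
  constructor
  · rintro (⟨p, u, hu, rfl⟩ | ⟨i, hi, rfl⟩)
    · obtain ⟨m, hm, rfl⟩ := rul_unit_cases hu
      have hP : 4 * p.1.val + p.2.val < 28 := by
        have h1 := p.1.isLt
        have h2 := p.2.isLt
        omega
      refine ⟨16128 + (4 * (4 * p.1.val + p.2.val) + m), by omega, ?_⟩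
      rw [rulG_frame (by omega)]
      have e1 : (4 * (4 * p.1.val + p.2.val) + m) / 4 = 4 * p.1.val + p.2.val := by omega
      have e2 : (4 * (4 * p.1.val + p.2.val) + m) % 4 = m := by omega
      rw [e1, e2, rulIdx_surj]
    · exact ⟨i, by omega, (rulGV_of_lt hi).symm⟩
  · rintro ⟨idx, hidx, rfl⟩
    by_cases h : idx < 16128
    · exact Or.inr ⟨idx, h, rulGV_of_lt h⟩
    · left
      obtain ⟨r, rfl⟩ : ∃ r, idx = 16128 + r := ⟨idx - 16128, by omega⟩
      exact ⟨rulIdx (r / 4), rulGU (r % 4), rulGU_isUnit _, rulG_frame (by omega)⟩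

end Cfsg.Agent.Lib.helper23
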