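import Mathlib
import Cfsg.Prelude.Def_Spor_Ru
import Cfsg.Agent.Lib.Helper29.RvLBasic
import Cfsg.Agent.Lib.helper23.RULGramA

set_option autoImplicit false

/-!
# The real scalar product of two mask-coded vectors
-/

namespace Cfsg.Agent.Lib.helper23

open Cfsg.Spor Cfsg.Agent.Lib.Helper29

theorem rulG_sum_pairs (G : ℕ → ℤ) (m : ℕ) :
    ∑ k ∈ Finset.range (2 * m), G k = ∑ P ∈ Finset.range m, (G (2 * P) + G (2 * P + 1)) := by
  induction m with
  | zero => simp
  | succ m ih =>
    have e : 2 * (m + 1) = 2 * m + 1 + 1 := by ring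
    rw [e, Finset.sum_range_succ, Finset.sum_range_succ, ih, Finset.sum_range_succ]
    ring

theorem rulG_sum_quads (F : ℕ → ℤ) (m : ℕ) :
    ∑ a ∈ Finset.range m, ∑ b ∈ Finset.range 4, F (4 * a + b) = ∑ P ∈ Finset.range (4 * m), F P := by
  induction m with
  | zero => simp
  | succ m ih =>
    have e : 4 * (m + 1) = 4 * m + 1 + 1 + 1 + 1 := by ring
    rw [Finset.sum_range_succ, ih, e, Finset.sum_range_succ, Finset.sum_range_succ,
      Finset.sum_range_succ, Finset.sum_range_succ]
    simp only [Finset.sum_range_succ, Finset.sum_range_zero]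
    ring_nf

theorem rulG_sum_idx (F : ℕ → ℤ) :
    ∑ p : RuIdx, F (4 * p.1.val + p.2.val) = ∑ P ∈ Finset.range 28, F P := by
  rw [Fintype.sum_prod_type]
  rw [← rulG_sum_quads F 7]
  rw [Finset.sum_range]
  refine Finset.sum_congr rfl fun a _ => ?_
  rw [Finset.sum_range]

/-- the real part of the Hermitian product as the real scalar product -/
theorem rulG_herm_re (x y : RuVec) :
    (rvlHerm x y).re = ∑ p : RuIdx, ((x p).re * (y p).re + (x p).im * (y p).im) := by
  unfold rvlHerm
  have h : ∀ (s : Finset RuIdx) (f : RuIdx → GaussianInt), (∑ p ∈ s, f p).re = ∑ p ∈ s, (f p).re := by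
    intro s f
    induction s using Finset.induction_on with
    | empty => simp
    | insert a s ha ih => rw [Finset.sum_insert ha, Finset.sum_insert ha, Zsqrtd.re_add, ih]
  rw [h]
  refine Finset.sum_congr rfl fun p _ => ?_
  simp [Zsqrtd.re_mul]

theorem rulG_val_mul (s n s' n' k : ℕ) :
    rulVal s n 0 k * rulVal s' n' 0 k =
      (if (s &&& s').testBit k then 1 else 0)
        - 2 * (if (s &&& s' &&& (n ^^^ n')).testBit k then 1 else 0) := by
  unfold rulVal
  simp only [Nat.testBit_and, Nat.testBit_xor, Nat.zero_testBit]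
  cases s.testBit k <;> cases s'.testBit k <;> cases n.testBit k <;> cases n'.testBit k <;> simp

/-- the real scalar product of two mask-coded vectors -/
theorem rulG_re (s n s' n' : ℕ) :
    (rvlHerm (rulDec s n 0) (rulDec s' n' 0)).re =
      (rulWt (s &&& s') : ℤ) - 2 * (rulWt (s &&& s' &&& (n ^^^ n')) : ℤ) := by
  rw [rulG_herm_re]
  let F : ℕ → ℤ := fun P => rulVal s n 0 (2 * P) * rulVal s' n' 0 (2 * P)
          + rulVal s n 0 (2 * P + 1) * rulVal s' n' 0 (2 * P + 1)
  have h1 : ∀ p : RuIdx, ((rulDec s n 0 p).re * (rulDec s' n' 0 p).re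
      + (rulDec s n 0 p).im * (rulDec s' n' 0 p).im) = F (4 * p.1.val + p.2.val) := by
    intro p
    rfl
  rw [Finset.sum_congr rfl fun p _ => h1 p, rulG_sum_idx F]
  show ∑ P ∈ Finset.range 28, (rulVal s n 0 (2 * P) * rulVal s' n' 0 (2 * P)
          + rulVal s n 0 (2 * P + 1) * rulVal s' n' 0 (2 * P + 1)) = _
  have h2 := rulG_sum_pairs (fun k => rulVal s n 0 k * rulVal s' n' 0 k) 28
  rw [← h2]
  unfold rulWt
  rw [Nat.cast_sum, Nat.cast_sum, Finset.mul_sum, ← Finset.sum_sub_distrib]
  refine Finset.sum_congr rfl fun k _ => ?_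
  rw [rulG_val_mul]
  push_cast
  rfl

end Cfsg.Agent.Lib.helper23
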