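import Mathlib
import Cfsg.Prelude.Def_Spor_Ru
import Cfsg.Agent.Lib.Helper29.RvLBasic
import Cfsg.Agent.Lib.Helper10.RULBITSGEN
import Cfsg.Agent.Lib.Helper10.RULBITSWT
import Cfsg.Agent.Lib.helper23.RULGramB

set_option autoImplicit false

/-!
# Kernel-friendly test of scalar-product conditions on the minimal vectors, and counting
-/

namespace Cfsg.Agent.Lib.helper23

open Cfsg.Spor Cfsg.Agent.Lib.Helper29

/-- the code `256 + a * (real scalar product)` of `a • rulDec s n 0` against `rulDec S N 0` -/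
def rulGCodeM (a s n S N : ℕ) : ℕ :=
  pgForce (Nat.land s S) fun m =>
    Nat.sub (Nat.add 256 (Nat.mul a (rulWtF m)))
      (Nat.mul (Nat.mul 2 a) (rulWtF (Nat.land m (Nat.xor n N))))

theorem rulGCodeM_eq {a s : ℕ} (n S N : ℕ) (ha : a ≤ 4) (hs : s < 2 ^ 56) :
    (rulGCodeM a s n S N : ℤ) = 256 + (a : ℤ) * (rvlHerm (rulDec s n 0) (rulDec S N 0)).re := by
  unfold rulGCodeM
  rw [pgForce_eq]
  have hm : s &&& S < 2 ^ 56 := rul_and_lt_left _ hs
  have hm' : s &&& S &&& (n ^^^ N) < 2 ^ 56 := rul_and_lt_left _ hm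
  show ((256 + a * rulWtF (s &&& S) - 2 * a * rulWtF (s &&& S &&& (n ^^^ N)) : ℕ) : ℤ) = _
  rw [rulWtF_eq hm, rulWtF_eq hm', rulG_re]
  have hw : rulWt (s &&& S) ≤ 56 := rulWt_le _
  have hv : rulWt (s &&& S &&& (n ^^^ N)) ≤ rulWt (s &&& S) := by
    apply rulWt_le_of_sub
    apply Nat.eq_of_testBit_eq
    intro j
    simp only [Nat.testBit_and]
    cases (s.testBit j) <;> cases (S.testBit j) <;> cases ((n ^^^ N).testBit j) <;> rfl
  set w := rulWt (s &&& S)
  set v := rulWt (s &&& S &&& (n ^^^ N))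
  have h1 : a * v ≤ a * w := Nat.mul_le_mul_left _ hv
  have h2 : a * w ≤ 4 * 56 := Nat.mul_le_mul ha hw
  have h3 : 2 * a * v ≤ 256 + a * w := by
    rw [Nat.mul_assoc]
    omega
  rw [Nat.cast_sub h3]
  push_cast
  ring

theorem rulGS_lt {idx : ℕ} (hidx : idx < 16240) : rulGS idx < 2 ^ 56 := by
  unfold rulGS
  by_cases h : idx < 16128
  · have h' : Nat.blt idx 16128 = true := by rw [Nat.blt_eq]; exact h
    rw [h']
    exact rulS_lt idx
  · have h' : Nat.blt idx 16128 = false := by
      rw [← Bool.not_eq_true, Nat.blt_eq]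
      exact h
    rw [h', cond_false]
    show 1 <<< ((idx - 16128) / 2) < 2 ^ 56
    rw [Nat.shiftLeft_eq, one_mul]
    exact Nat.pow_lt_pow_right (by norm_num) (by omega)

theorem rulG_re_smul (a : ℕ) (x y : RuVec) :
    (rvlHerm ((a : GaussianInt) • x) y).re = (a : ℤ) * (rvlHerm x y).re := by
  rw [rvlHerm_smul_left]
  simp [Zsqrtd.re_mul]

/-- the code of the minimal vector number `idx` against `rulDec S N 0` -/
theorem rulGCode_herm {idx : ℕ} (hidx : idx < 16240) (S N : ℕ) :
    (rulGCodeM (rulGA idx) (rulGS idx) (rulGN idx) S N : ℤ)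
      = 256 + (rvlHerm (rulGV idx) (rulDec S N 0)).re := by
  rw [rulGCodeM_eq _ _ _ (rulGA_le idx) (rulGS_lt hidx)]
  unfold rulGV
  rw [rulG_re_smul]

/-- test of the conditions `E` (entries: masks `S`, `N` and the expected code) on `a • rulDec s n 0` -/
def rulGChkM (E : List (ℕ × ℕ × ℕ)) (a s n : ℕ) : Bool :=
  pgAllL E fun e => Nat.beq (rulGCodeM a s n e.1 e.2.1) e.2.2

/-- test of the conditions `E` on the minimal vector number `idx` -/
def rulGChk (E : List (ℕ × ℕ × ℕ)) (idx : ℕ) : Bool :=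
  pgForce (rulGS idx) fun s => pgForce (rulGN idx) fun n => pgForce (rulGA idx) fun a =>
    rulGChkM E a s n

theorem rulGChk_iff (E : List (ℕ × ℕ × ℕ)) {idx : ℕ} (hidx : idx < 16240) :
    rulGChk E idx = true ↔
      ∀ e ∈ E, 256 + (rvlHerm (rulGV idx) (rulDec e.1 e.2.1 0)).re = (e.2.2 : ℤ) := by
  unfold rulGChk rulGChkM
  rw [pgForce_eq, pgForce_eq, pgForce_eq, pgAllL_iff]
  refine forall_congr' fun e => forall_congr' fun _ => ?_
  rw [← rulGCode_herm hidx, Nat.cast_inj, Nat.beq_eq]

/-- number of `k < m` with `p k` -/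
def rulGCnt (p : ℕ → Bool) (m : ℕ) : ℕ :=
  @Nat.rec (fun _ => ℕ → ℕ) (fun acc => acc)
    (fun k ih acc => pgForce (cond (p k) (Nat.add acc 1) acc) ih) m 0

theorem rulGCnt_eq (p : ℕ → Bool) (m : ℕ) :
    rulGCnt p m = ((Finset.range m).filter fun k => p k = true).card := by
  have key : ∀ m acc, @Nat.rec (fun _ => ℕ → ℕ) (fun acc => acc)
      (fun k ih acc => pgForce (cond (p k) (Nat.add acc 1) acc) ih) m acc
      = acc + ((Finset.range m).filter fun k => p k = true).card := by
    intro m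
    induction m with
    | zero => intro acc; simp
    | succ m ih =>
      intro acc
      show pgForce (cond (p m) (Nat.add acc 1) acc) _ = _
      rw [pgForce_eq, ih, Finset.range_add_one, Finset.filter_insert]
      cases hp : p m
      · simp
      · simp only [cond_true, if_true]
        rw [Finset.card_insert_of_notMem (by simp)]
        show acc + 1 + _ = _
        ring
  unfold rulGCnt
  rw [key, zero_add]

/-- a set all of whose elements are among the `v k`, `k < m`, `p k`, has at most `rulGCnt p m`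
elements -/
theorem rulG_ncard_le {α : Type*} (v : ℕ → α) (p : ℕ → Bool) (m : ℕ) (C : Set α)
    (hC : ∀ x ∈ C, ∃ k < m, p k = true ∧ x = v k) : C.Finite ∧ C.ncard ≤ rulGCnt p m := by
  classical
  set F := (Finset.range m).filter fun k => p k = true
  have hsub : C ⊆ ((F.image v : Finset α) : Set α) := by
    intro x hx
    obtain ⟨k, hk, hp, rfl⟩ := hC x hx
    rw [Finset.mem_coe, Finset.mem_image]
    exact ⟨k, by rw [Finset.mem_filter, Finset.mem_range]; exact ⟨hk, hp⟩, rfl⟩
  have hfin : C.Finite := (Finset.finite_toSet _).subset hsub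
  refine ⟨hfin, ?_⟩
  calc C.ncard ≤ ((F.image v : Finset α) : Set α).ncard :=
        Set.ncard_le_ncard hsub (Finset.finite_toSet _)
    _ = (F.image v).card := Set.ncard_coe_finset _
    _ ≤ F.card := Finset.card_image_le
    _ = rulGCnt p m := (rulGCnt_eq p m).symm

end Cfsg.Agent.Lib.helper23
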