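import Mathlib
import Cfsg.Prelude.Def_Spor_Ru
import Cfsg.Agent.Lib.helper23.RULGramC

set_option autoImplicit false
set_option exponentiation.threshold 4000
set_option maxRecDepth 100000

/-!
# Counting over the minimal vectors block by block

The packed lists `rulLS`, `rulLN` are cut into 252 blocks of 64 entries, so that the kernel shifts
the long numbers only 252 times.
-/

namespace Cfsg.Agent.Lib.helper23

open Cfsg.Spor

/-- number of `k < m` with `p k`, as a sum -/
def rulGNum (p : ℕ → Bool) (m : ℕ) : ℕ := ∑ k ∈ Finset.range m, if p k = true then 1 else 0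

theorem rulGCnt_eq_num (p : ℕ → Bool) (m : ℕ) : rulGCnt p m = rulGNum p m := by
  rw [rulGCnt_eq, Finset.card_filter]
  rfl

theorem rulGNum_succ (p : ℕ → Bool) (m : ℕ) :
    rulGNum p (m + 1) = rulGNum p m + if p m = true then 1 else 0 :=
  Finset.sum_range_succ _ _

theorem rulGNum_add (p : ℕ → Bool) (a b : ℕ) :
    rulGNum p (a + b) = rulGNum p a + rulGNum (fun k => p (a + k)) b :=
  Finset.sum_range_add _ _ _

theorem rulGNum_mul (p : ℕ → Bool) (c nb : ℕ) :
    rulGNum p (c * nb) = ∑ blk ∈ Finset.range nb, rulGNum (fun r => p (c * blk + r)) c := by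
  induction nb with
  | zero => simp [rulGNum]
  | succ nb ih =>
    rw [Finset.sum_range_succ, ← ih, Nat.mul_succ, rulGNum_add]

/-- count with an offset and an accumulator -/
def rulGCntO (p : ℕ → Bool) (lo m acc : ℕ) : ℕ :=
  @Nat.rec (fun _ => ℕ → ℕ) (fun acc => acc)
    (fun k ih acc => pgForce (cond (p (Nat.add lo k)) (Nat.add acc 1) acc) ih) m acc

theorem rulGCntO_eq (p : ℕ → Bool) (lo m acc : ℕ) :
    rulGCntO p lo m acc = acc + rulGNum (fun k => p (lo + k)) m := by
  induction m generalizing acc with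
  | zero => simp [rulGCntO, rulGNum]
  | succ m ih =>
    show pgForce (cond (p (Nat.add lo m)) (Nat.add acc 1) acc) (rulGCntO p lo m) = _
    rw [pgForce_eq, ih, rulGNum_succ]
    show _ = acc + (_ + if p (lo + m) = true then 1 else 0)
    cases hp : p (lo + m)
    · simp
    · simp only [cond_true, if_true]
      show acc + 1 + _ = _
      ring

/-- entry `r` of a block -/
def rulGEnt (b r : ℕ) : ℕ := Nat.land (Nat.shiftRight b (Nat.mul 56 r)) 72057594037927935

/-- count over the entries `r < cnt` of a block -/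
def rulGCntI (chk : ℕ → ℕ → Bool) (bs bn cnt acc : ℕ) : ℕ :=
  @Nat.rec (fun _ => ℕ → ℕ) (fun acc => acc)
    (fun r ih acc =>
      pgForce (rulGEnt bs r) fun s => pgForce (rulGEnt bn r) fun n =>
        pgForce (cond (chk s n) (Nat.add acc 1) acc) ih) cnt acc

theorem rulGCntI_eq (chk : ℕ → ℕ → Bool) (bs bn cnt acc : ℕ) :
    rulGCntI chk bs bn cnt acc = acc + rulGNum (fun r => chk (rulGEnt bs r) (rulGEnt bn r)) cnt := by
  induction cnt generalizing acc with
  | zero => simp [rulGCntI, rulGNum]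
  | succ m ih =>
    show pgForce (rulGEnt bs m) (fun s => pgForce (rulGEnt bn m) fun n =>
        pgForce (cond (chk s n) (Nat.add acc 1) acc) (rulGCntI chk bs bn m)) = _
    rw [pgForce_eq, pgForce_eq, pgForce_eq, ih, rulGNum_succ]
    cases hp : chk (rulGEnt bs m) (rulGEnt bn m)
    · simp
    · simp only [cond_true, if_true]
      show acc + 1 + _ = _
      ring

/-- block `blk` of a packed list -/
def rulGBlk (L blk : ℕ) : ℕ :=
  Nat.land (Nat.shiftRight L (Nat.mul 3584 blk)) (Nat.sub (Nat.pow 2 3584) 1)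

/-- count over the blocks `blk < nb` of the two packed lists -/
def rulGCntU (chk : ℕ → ℕ → Bool) (nb acc : ℕ) : ℕ :=
  @Nat.rec (fun _ => ℕ → ℕ) (fun acc => acc)
    (fun blk ih acc =>
      pgForce (rulGBlk rulLS blk) fun bs => pgForce (rulGBlk rulLN blk) fun bn =>
        pgForce (rulGCntI chk bs bn 64 acc) ih) nb acc

theorem rulGCntU_eq (chk : ℕ → ℕ → Bool) (nb acc : ℕ) :
    rulGCntU chk nb acc = acc + ∑ blk ∈ Finset.range nb,
      rulGNum (fun r => chk (rulGEnt (rulGBlk rulLS blk) r) (rulGEnt (rulGBlk rulLN blk) r)) 64 := by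
  induction nb generalizing acc with
  | zero => simp [rulGCntU]
  | succ m ih =>
    show pgForce (rulGBlk rulLS m) (fun bs => pgForce (rulGBlk rulLN m) fun bn =>
        pgForce (rulGCntI chk bs bn 64 acc) (rulGCntU chk m)) = _
    rw [pgForce_eq, pgForce_eq, pgForce_eq, ih, rulGCntI_eq, Finset.sum_range_succ]
    ring

theorem rulGEnt_blk (L : ℕ) {blk r : ℕ} (hr : r < 64) :
    rulGEnt (rulGBlk L blk) r = (L >>> (56 * (64 * blk + r))) &&& (2 ^ 56 - 1) := by
  have e : rulGEnt (rulGBlk L blk) r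
      = (((L >>> (3584 * blk)) &&& (2 ^ 3584 - 1)) >>> (56 * r)) &&& (2 ^ 56 - 1) := rfl
  rw [e]
  apply Nat.eq_of_testBit_eq
  intro j
  simp only [Nat.testBit_and, Nat.testBit_shiftRight, Nat.testBit_two_pow_sub_one]
  by_cases hj : j < 56
  · have h1 : 56 * r + j < 3584 := by omega
    have h2 : 3584 * blk + (56 * r + j) = 56 * (64 * blk + r) + j := by ring
    simp [hj, h1, h2]
  · simp [hj]

theorem rulGEnt_S {blk r : ℕ} (hr : r < 64) : rulGEnt (rulGBlk rulLS blk) r = rulS (64 * blk + r) :=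
  rulGEnt_blk rulLS hr

theorem rulGEnt_N {blk r : ℕ} (hr : r < 64) : rulGEnt (rulGBlk rulLN blk) r = rulN (64 * blk + r) :=
  rulGEnt_blk rulLN hr

theorem rulGChk_of_lt (E : List (ℕ × ℕ × ℕ)) {i : ℕ} (hi : i < 16128) :
    rulGChk E i = rulGChkM E 1 (rulS i) (rulN i) := by
  have h : Nat.blt i 16128 = true := by rw [Nat.blt_eq]; exact hi
  unfold rulGChk
  rw [pgForce_eq, pgForce_eq, pgForce_eq]
  unfold rulGS rulGN rulGA
  rw [h]
  rfl

/-- the number of minimal vectors satisfying the conditions `E`, block by block -/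
def rulGCnt2 (E : List (ℕ × ℕ × ℕ)) : ℕ :=
  rulGCntO (rulGChk E) 16128 112 (rulGCntU (rulGChkM E 1) 252 0)

theorem rulGCnt2_aux (p : ℕ → Bool) (chk : ℕ → ℕ → Bool) (lo nb m : ℕ) (hlo : lo = 64 * nb)
    (hp : ∀ i < lo, p i = chk (rulS i) (rulN i)) :
    rulGCntO p lo m (rulGCntU chk nb 0) = rulGNum p (lo + m) := by
  rw [rulGCntO_eq, rulGCntU_eq, zero_add, rulGNum_add, Nat.add_right_cancel_iff]
  subst hlo
  rw [rulGNum_mul]
  refine Finset.sum_congr rfl fun blk hblk => ?_
  rw [Finset.mem_range] at hblk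
  unfold rulGNum
  refine Finset.sum_congr rfl fun r hr => ?_
  rw [Finset.mem_range] at hr
  have hi : 64 * blk + r < 64 * nb := by
    have : 64 * (blk + 1) ≤ 64 * nb := Nat.mul_le_mul_left _ hblk
    omega
  beta_reduce
  rw [rulGEnt_S hr, rulGEnt_N hr, hp _ hi]

theorem rulGCnt2_eq (E : List (ℕ × ℕ × ℕ)) : rulGCnt2 E = rulGCnt (rulGChk E) 16240 := by
  unfold rulGCnt2
  rw [rulGCnt2_aux (rulGChk E) (rulGChkM E 1) 16128 252 112 (by norm_num)
    (fun i hi => rulGChk_of_lt E hi), rulGCnt_eq_num]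

end Cfsg.Agent.Lib.helper23
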