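import Mathlib
import Cfsg.Prelude.Def_Spor_Ru
import Cfsg.Agent.Lib.helper23.RULGramD
import Cfsg.Agent.Lib.helper23.RULGramData

set_option autoImplicit false

/-!
# Kernel checks for the Gram chain of the Rudvalis lattice
-/

namespace Cfsg.Agent.Lib.helper23

open Cfsg.Spor

/-- the base data describe minimal vectors -/
theorem rulG_base_ok : ∀ j < 28, (rulGMj j).i < 16240 ∧ rulGS (rulGMj j).i = (rulGMj j).s ∧
    rulGN (rulGMj j).i = (rulGMj j).n ∧ rulGA (rulGMj j).i = (rulGMj j).a := by
  decide +kernel

/-- the second pair of masks describes `i` times the vector -/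
theorem rulG_base_i : ∀ j < 28, ∀ p : RuIdx,
    rulDec (rulGMj j).si (rulGMj j).ni 0 p = gI * rulDec (rulGMj j).s (rulGMj j).n 0 p := by
  decide +kernel

/-- the base vectors have norm 16 -/
theorem rulG_base_norm : ∀ j < 28, ruNorm (rulGV (rulGMj j).i) = 16 := by
  decide +kernel

/-- entry of sixteen times the inverse matrix -/
def rulGC (P j : ℕ) : GaussianInt :=
  ⟨((rulGCL.getD P []).getD j (0, 0)).1, ((rulGCL.getD P []).getD j (0, 0)).2⟩

/-- the base vectors are linearly independent: an explicit left inverse -/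
theorem rulG_inv : ∀ p q : RuIdx,
    ((List.range 28).map fun j => rulGC (4 * p.1.val + p.2.val) j *
      (((rulGMj j).a : GaussianInt) * rulDec (rulGMj j).s (rulGMj j).n 0 q)).sum
      = if p = q then 16 else 0 := by
  decide +kernel

/-- the conditions of level `t` -/
def rulGEt (t : ℕ) : List (ℕ × ℕ × ℕ) := rulGE.getD t []

/-- the facts about level `t`: the expected codes are those of the base vector, the conditions
come from earlier base vectors, and at most `rulGNs[t]` minimal vectors satisfy them -/
def rulGLevelP (t : ℕ) : Prop :=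
  rulGChk (rulGEt t) (rulGMj t).i = true ∧
  (∀ e ∈ rulGEt t, ∃ j < t, (e.1 = (rulGMj j).s ∧ e.2.1 = (rulGMj j).n) ∨
      (e.1 = (rulGMj j).si ∧ e.2.1 = (rulGMj j).ni)) ∧
  Nat.ble (rulGCnt2 (rulGEt t)) (rulGNs.getD t 0) = true

instance rulGLevelP_dec (t : ℕ) : Decidable (rulGLevelP t) := by
  unfold rulGLevelP
  infer_instance

end Cfsg.Agent.Lib.helper23
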