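import Mathlib
import Cfsg.Prelude.Def_Spor_Ru
import Cfsg.Agent.Lib.helper23.RULGramChk

set_option autoImplicit false

/-!
# The 28 levels of the Gram chain of the Rudvalis lattice (kernel checks)
-/

namespace Cfsg.Agent.Lib.helper23

theorem rulG_level_0 : rulGLevelP 0 := by decide +kernel
theorem rulG_level_1 : rulGLevelP 1 := by decide +kernel
theorem rulG_level_2 : rulGLevelP 2 := by decide +kernel
theorem rulG_level_3 : rulGLevelP 3 := by decide +kernel
theorem rulG_level_4 : rulGLevelP 4 := by decide +kernel
theorem rulG_level_5 : rulGLevelP 5 := by decide +kernel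
theorem rulG_level_6 : rulGLevelP 6 := by decide +kernel
theorem rulG_level_7 : rulGLevelP 7 := by decide +kernel
theorem rulG_level_8 : rulGLevelP 8 := by decide +kernel
theorem rulG_level_9 : rulGLevelP 9 := by decide +kernel
theorem rulG_level_10 : rulGLevelP 10 := by decide +kernel
theorem rulG_level_11 : rulGLevelP 11 := by decide +kernel
theorem rulG_level_12 : rulGLevelP 12 := by decide +kernel
theorem rulG_level_13 : rulGLevelP 13 := by decide +kernel
theorem rulG_level_14 : rulGLevelP 14 := by decide +kernel
theorem rulG_level_15 : rulGLevelP 15 := by decide +kernel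
theorem rulG_level_16 : rulGLevelP 16 := by decide +kernel
theorem rulG_level_17 : rulGLevelP 17 := by decide +kernel
theorem rulG_level_18 : rulGLevelP 18 := by decide +kernel
theorem rulG_level_19 : rulGLevelP 19 := by decide +kernel
theorem rulG_level_20 : rulGLevelP 20 := by decide +kernel
theorem rulG_level_21 : rulGLevelP 21 := by decide +kernel
theorem rulG_level_22 : rulGLevelP 22 := by decide +kernel
theorem rulG_level_23 : rulGLevelP 23 := by decide +kernel
theorem rulG_level_24 : rulGLevelP 24 := by decide +kernel
theorem rulG_level_25 : rulGLevelP 25 := by decide +kernel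
theorem rulG_level_26 : rulGLevelP 26 := by decide +kernel
theorem rulG_level_27 : rulGLevelP 27 := by decide +kernel

theorem rulG_level : ∀ t < 28, rulGLevelP t := by
  intro t ht
  interval_cases t
  exacts [rulG_level_0, rulG_level_1, rulG_level_2, rulG_level_3, rulG_level_4, rulG_level_5, rulG_level_6, rulG_level_7, rulG_level_8, rulG_level_9, rulG_level_10, rulG_level_11, rulG_level_12, rulG_level_13, rulG_level_14, rulG_level_15, rulG_level_16, rulG_level_17, rulG_level_18, rulG_level_19, rulG_level_20, rulG_level_21, rulG_level_22, rulG_level_23, rulG_level_24, rulG_level_25, rulG_level_26, rulG_level_27]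

end Cfsg.Agent.Lib.helper23
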