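import Mathlib
import Cfsg.Prelude.Def_Spor_Ru
import Cfsg.Agent.Lib.Helper29.RvLBasic
import Cfsg.Agent.Lib.helper14.RuAut
import Cfsg.Agent.Lib.helper23.RULChain
import Cfsg.Agent.Lib.helper23.RULGramLev

set_option autoImplicit false

/-!
# The order of the automorphism group of the Rudvalis lattice is at most `4 |Ru|`

Given that the minimal vectors of the lattice are exactly the 16240 vectors of `rulMin`, a chain of
28 base vectors whose Gram classes have sizes `16240, 2304, 975, 8, 2, 1, …, 1` bounds the order of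
`fourRu` by `583704576000`.
-/

namespace Cfsg.Agent.Lib.helper23

open Cfsg.Spor Cfsg.Agent.Lib.Helper29 Cfsg.Agent.Lib.helper14

/-- the base vector number `j` -/
def rulGBv (j : ℕ) : RuVec := rulGV (rulGMj j).i

theorem rulGMj_lt (j : ℕ) : (rulGMj j).i < 16240 := by
  by_cases h : j < 28
  · exact (rulG_base_ok j h).1
  · have hl : rulGM.length = 28 := rfl
    have : rulGMj j = ⟨0, 0, 0, 0, 0, 0⟩ := by
      unfold rulGMj
      exact List.getD_eq_default _ _ (by rw [hl]; omega)
    rw [this]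
    norm_num

theorem rulGBv_min (j : ℕ) : rulGBv j ∈ rulMin := (rulMin_iff _).2 ⟨_, rulGMj_lt j, rfl⟩

theorem rulGBv_eq {j : ℕ} (hj : j < 28) :
    rulGBv j = ((rulGMj j).a : GaussianInt) • rulDec (rulGMj j).s (rulGMj j).n 0 := by
  obtain ⟨_, h1, h2, h3⟩ := rulG_base_ok j hj
  unfold rulGBv rulGV
  rw [h1, h2, h3]

theorem rulGBv_i {j : ℕ} (hj : j < 28) :
    ((rulGMj j).a : GaussianInt) • rulDec (rulGMj j).si (rulGMj j).ni 0 = gI • rulGBv j := by
  have h : rulDec (rulGMj j).si (rulGMj j).ni 0 = gI • rulDec (rulGMj j).s (rulGMj j).n 0 :=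
    funext (rulG_base_i j hj)
  rw [h, rulGBv_eq hj, smul_comm]

theorem rulG_list_sum (f : ℕ → GaussianInt) (n : ℕ) :
    ((List.range n).map f).sum = ∑ i ∈ Finset.range n, f i := by
  induction n with
  | zero => simp
  | succ n ih =>
    rw [List.range_succ, List.map_append, List.sum_append, ih, Finset.sum_range_succ]
    simp

/-- the base vectors are total -/
theorem rulG_total (z : RuVec) (h : ∀ j < 28, rvlHerm z (rulGBv j) = 0) : z = 0 := by
  funext p
  set P := 4 * p.1.val + p.2.val
  have key : ∀ q, ∑ j ∈ Finset.range 28, rulGC P j * rulGBv j q = if p = q then 16 else 0 := by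
    intro q
    rw [← rulG_inv p q, rulG_list_sum]
    refine Finset.sum_congr rfl fun j hj => ?_
    rw [rulGBv_eq (Finset.mem_range.1 hj)]
    rfl
  have h0 : ∑ j ∈ Finset.range 28, star (rulGC P j) * rvlHerm z (rulGBv j) = 0 :=
    Finset.sum_eq_zero fun j hj => by rw [h j (Finset.mem_range.1 hj), mul_zero]
  have h1 : ∑ j ∈ Finset.range 28, star (rulGC P j) * rvlHerm z (rulGBv j) = z p * 16 := by
    unfold rvlHerm
    simp_rw [Finset.mul_sum]
    rw [Finset.sum_comm]
    have h2 : ∀ q, ∑ j ∈ Finset.range 28, star (rulGC P j) * (z q * star (rulGBv j q))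
        = z q * star (if p = q then (16 : GaussianInt) else 0) := by
      intro q
      rw [← key q, star_sum, Finset.mul_sum]
      refine Finset.sum_congr rfl fun j _ => ?_
      rw [star_mul']
      ring
    rw [Finset.sum_congr rfl fun q _ => h2 q, Finset.sum_eq_single p]
    · simp
    · intro q _ hq
      rw [if_neg (Ne.symm hq), star_zero, mul_zero]
    · intro hp
      exact absurd (Finset.mem_univ p) hp
  rw [h0] at h1
  have h3 : z p * 16 = 0 := h1.symm
  rcases mul_eq_zero.1 h3 with h4 | h4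
  · exact h4
  · exact absurd h4 (by norm_num)

/-- the order of the automorphism group of the Rudvalis lattice is at most `4 |Ru|`, given the
list of minimal vectors -/
theorem rul_gram (hmin : ∀ x ∈ ruLattice, ruNorm x = 16 → x ∈ rulMin)
    (hmem : ∀ x ∈ rulMin, x ∈ ruLattice) : Nat.card fourRu ≤ 583704576000 := by
  let b : ℕ → ruLattice := fun j => ⟨rulGBv j, hmem _ (rulGBv_min j)⟩
  let C : ℕ → Set ruLattice := fun t =>
    {x | ∃ k < 16240, rulGChk (rulGEt t) k = true ∧ (x : RuVec) = rulGV k}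
  have hprod : ∏ t ∈ Finset.range 28, rulGNs.getD t 0 = 583704576000 := by decide +kernel
  have hCs : ∀ t, (C t).Finite ∧ (C t).ncard ≤ rulGCnt2 (rulGEt t) := by
    intro t
    have h1 := rulG_ncard_le rulGV (rulGChk (rulGEt t)) 16240 (Subtype.val '' C t) (by
      rintro x ⟨x', ⟨k, hk, hc, hx⟩, rfl⟩
      exact ⟨k, hk, hc, hx⟩)
    rw [Set.ncard_image_of_injective _ Subtype.val_injective, ← rulGCnt2_eq] at h1
    exact ⟨Set.Finite.of_finite_image h1.1 Subtype.val_injective.injOn, h1.2⟩
  rw [← hprod]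
  refine rul_chain_card (G := fourRu) b C (fun t => rulGNs.getD t 0) 28 ?_ ?_ ?_ ?_
  · intro t ht g hg
    obtain ⟨hV1, hV2, _⟩ := rulG_level t ht
    have hgy : ((g • b t : ruLattice) : RuVec) ∈ rulMin := by
      apply hmin _ (g • b t).2
      have h1 := g.2.2.2 (b t)
      have h2 : ruNorm ((b t : ruLattice) : RuVec) = 16 := rulG_base_norm t ht
      rw [← h2]
      exact h1
    obtain ⟨k, hk, hyk⟩ := (rulMin_iff _).1 hgy
    refine ⟨k, hk, ?_, hyk⟩
    rw [rulGChk_iff _ hk]
    intro e he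
    have hV1' := (rulGChk_iff _ (rulGMj_lt t)).1 hV1 e he
    rw [← hV1', ← hyk]
    obtain ⟨j, hj, hcase⟩ := hV2 e he
    have hj28 : j < 28 := lt_trans hj ht
    have hpol : rvlHerm ((g • b t : ruLattice) : RuVec) (rulGBv j)
        = rvlHerm (rulGBv t) (rulGBv j) := by
      have h1 := ru_polar g.2 (b t) (b j)
      have hfix : (g : Equiv.Perm ruLattice) (b j) = b j := hg j hj
      rw [hfix] at h1
      exact h1
    have hw : ∃ u : GaussianInt,
        ((rulGMj j).a : GaussianInt) • rulDec e.1 e.2.1 0 = u • rulGBv j := by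
      rcases hcase with ⟨h1, h2⟩ | ⟨h1, h2⟩
      · exact ⟨1, by rw [h1, h2, one_smul, rulGBv_eq hj28]⟩
      · exact ⟨gI, by rw [h1, h2]; exact rulGBv_i hj28⟩
    obtain ⟨u, hu⟩ := hw
    have ha : ((rulGMj j).a : GaussianInt) ≠ 0 := by
      rw [← (rulG_base_ok j hj28).2.2.2]
      exact Nat.cast_ne_zero.2 (rulGA_pos _).ne'
    have h3 : star ((rulGMj j).a : GaussianInt) * rvlHerm ((g • b t : ruLattice) : RuVec) (rulDec e.1 e.2.1 0)
        = star ((rulGMj j).a : GaussianInt) * rvlHerm (rulGBv t) (rulDec e.1 e.2.1 0) := by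
      rw [← rvlHerm_smul_right, ← rvlHerm_smul_right, hu, rvlHerm_smul_right, rvlHerm_smul_right,
        hpol]
    have h4 := mul_left_cancel₀ (star_ne_zero.2 ha) h3
    show 256 + (rvlHerm ((g • b t : ruLattice) : RuVec) (rulDec e.1 e.2.1 0)).re
      = 256 + (rvlHerm (rulGBv t) (rulDec e.1 e.2.1 0)).re
    rw [h4]
  · intro t _
    exact (hCs t).1
  · intro t ht
    obtain ⟨_, _, hcnt⟩ := rulG_level t ht
    exact le_trans (hCs t).2 (Nat.le_of_ble_eq_true hcnt)
  · intro g hg
    have h1 : (g : Equiv.Perm ruLattice) = 1 := by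
      apply ru_eq_one_of_total (fun j : Fin 28 => b j.val) ?_ g.2 (fun j => hg j.val j.isLt)
      intro z hz
      exact rulG_total z fun j hj => hz ⟨j, hj⟩
    exact Subtype.ext h1

end Cfsg.Agent.Lib.helper23
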