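import Cfsg.Agent.Lib.helper23.RULCases

set_option autoImplicit false

/-!
# Chunked search, torsion equations, and the census of the odd sets
-/

namespace Cfsg.Agent.Lib.helper23

theorem pgAllR_iff (lo cnt : ℕ) (p : ℕ → Bool) :
    pgAllR lo cnt p = true ↔ ∀ k < cnt, p (lo + k) = true := by
  unfold pgAllR
  rw [pgAll_iff]
  constructor
  · intro h k hk
    have := h k hk
    rwa [pgForce_eq] at this
  · intro h k hk
    rw [pgForce_eq]
    exact h k hk

/-- the search for all prefixes `lo ≤ p < lo + cnt` of length `k0` -/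
def rulDfsPre (A W B : ℕ) (P : ℕ → Bool) (eqs : List (ℕ × Bool)) (k0 lo cnt : ℕ) : Bool :=
  pgAllR lo cnt (fun p =>
    rulDfs A W B P (rulMkBkAux eqs (Nat.sub 56 k0) k0) k0 p (rulWtF (Nat.land p W)))

theorem rulDfsPre_append {A W B : ℕ} {P : ℕ → Bool} {eqs : List (ℕ × Bool)} {k0 lo c1 c2 : ℕ}
    (h1 : rulDfsPre A W B P eqs k0 lo c1 = true)
    (h2 : rulDfsPre A W B P eqs k0 (lo + c1) c2 = true) :
    rulDfsPre A W B P eqs k0 lo (c1 + c2) = true :=
  pgAllR_append h1 h2

/-- chunked search from all prefixes of length `k0` -/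
theorem rulSolvePre_sound {A W B : ℕ} {P : ℕ → Bool} {eqs : List (ℕ × Bool)} {k0 : ℕ}
    (hk0 : k0 ≤ 56) (hok : rulDfsPre A W B P eqs k0 0 (2 ^ k0) = true) {u : ℕ} (hu : u < 2 ^ 56)
    (hA : ∀ j, u.testBit j = true → A.testBit j = true) (hB : rulWt (u &&& W) ≤ B)
    (heq : ∀ e ∈ eqs, rulPar (e.1 &&& u) = e.2) : P u = true := by
  unfold rulDfsPre at hok
  rw [pgAllR_iff] at hok
  have hp : u % 2 ^ k0 < 2 ^ k0 := Nat.mod_lt _ (Nat.two_pow_pos k0)
  have h1 := hok (u % 2 ^ k0) hp
  rw [Nat.zero_add] at h1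
  have hlen : (rulMkBkAux eqs (56 - k0) k0).length = 56 - k0 := rulMkBkAux_length eqs _ _
  refine rulDfs_sound (rulMkBkAux eqs (56 - k0) k0) k0 _ u h1 ?_ ?_ ?_ hA hB ?_ ?_
  · have h2 : rulWtF (Nat.land (u % 2 ^ k0) W) = rulWt ((u % 2 ^ k0) &&& W) := by
      apply rulWtF_eq
      exact rul_and_lt_left _ (lt_of_le_of_lt (Nat.mod_le _ _) hu)
    rw [h2]
  · rw [hlen, show k0 + (56 - k0) = 56 by omega]; exact hu
  · rw [hlen]; omega
  · intro j hj e he
    have h3 : (rulMkBkAux eqs (56 - k0) k0)[j] = rulBkOf eqs (k0 + j) :=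
      rulMkBkAux_get eqs _ k0 j hj
    rw [h3] at he
    have h4 := (rulBkOf_mem he).2
    have h5 : e.1 < 2 ^ (Nat.log2 e.1 + 1) := Nat.lt_log2_self
    rw [h4] at h5
    exact h5
  · intro b hb e he
    obtain ⟨j, hj, rfl⟩ := List.getElem_of_mem hb
    have h3 : (rulMkBkAux eqs (56 - k0) k0)[j] = rulBkOf eqs (k0 + j) :=
      rulMkBkAux_get eqs _ k0 j hj
    rw [h3] at he
    exact heq e (rulBkOf_mem he).1

/-! ### torsion equations -/

/-- the torsion mask of a list of pairs of minimal vectors with equal supports -/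
def rulTorOf (ps : List (ℕ × ℕ)) : ℕ :=
  @List.rec (ℕ × ℕ) (fun _ => ℕ) 0
    (fun q _ ih => Nat.xor (Nat.xor (rulN q.1) (rulN q.2)) ih) ps

theorem rulTorOf_cons (q : ℕ × ℕ) (l : List (ℕ × ℕ)) :
    rulTorOf (q :: l) = (rulN q.1 ^^^ rulN q.2) ^^^ rulTorOf l := rfl

/-- validity of a list of pairs -/
def rulTorOk (ps : List (ℕ × ℕ)) : Bool :=
  pgAllL ps (fun q => Nat.blt q.1 16128 && (Nat.blt q.2 16128 && (Nat.beq (rulS q.1) (rulS q.2) &&
    (Nat.beq (Nat.land (rulN q.1) (rulS q.1)) (rulN q.1) &&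
      Nat.beq (Nat.land (rulN q.2) (rulS q.2)) (rulN q.2)))))

theorem rulTorOf_lt (ps : List (ℕ × ℕ)) : rulTorOf ps < 2 ^ 56 := by
  induction ps with
  | nil => show 0 < 2 ^ 56; norm_num
  | cons q l ih =>
    rw [rulTorOf_cons]
    exact Nat.xor_lt_two_pow (Nat.xor_lt_two_pow (rulN_lt _) (rulN_lt _)) ih

theorem rul_tor_pair {c n z i i' : ℕ} (hcz : c &&& z = 0) (hsat : rulSat c n z)
    (hi : i < 16128) (hi' : i' < 16128) (hs : rulS i = rulS i')
    (hn : rulN i &&& rulS i = rulN i) (hn' : rulN i' &&& rulS i' = rulN i') :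
    rulPar ((rulN i ^^^ rulN i') &&& c) = false := by
  have h1 := (rul_basic hcz hi hsat).2
  have h2 := (rul_basic hcz hi' hsat).2
  rw [hs, h2] at h1
  have g1 : rulGam c i = xor (rulPar (rulS i' &&& c &&& rulN i)) (rulBit (rulWtF (rulS i' &&& c)) 1) := by
    rw [← hs, ← rulXor_eq]; rfl
  have g2 : rulGam c i' = xor (rulPar (rulS i' &&& c &&& rulN i')) (rulBit (rulWtF (rulS i' &&& c)) 1) := by
    rw [← rulXor_eq]; rfl
  rw [g1, g2] at h1
  have e1 : rulN i &&& c = rulS i' &&& c &&& rulN i := by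
    rw [← hs]
    conv_lhs => rw [← hn]
    apply Nat.eq_of_testBit_eq
    intro j
    simp only [Nat.testBit_and]
    cases (rulN i).testBit j <;> cases (rulS i).testBit j <;> cases c.testBit j <;> rfl
  have e2 : rulN i' &&& c = rulS i' &&& c &&& rulN i' := by
    conv_lhs => rw [← hn']
    apply Nat.eq_of_testBit_eq
    intro j
    simp only [Nat.testBit_and]
    cases (rulN i').testBit j <;> cases (rulS i').testBit j <;> cases c.testBit j <;> rfl
  rw [rul_and_xor_distrib, rulPar_xor (rul_and_lt_left _ (rulN_lt _)) (rul_and_lt_left _ (rulN_lt _)),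
    e1, e2]
  revert h1
  cases rulPar (rulS i' &&& c &&& rulN i) <;> cases rulPar (rulS i' &&& c &&& rulN i') <;>
    cases rulBit (rulWtF (rulS i' &&& c)) 1 <;> simp

theorem rulTor_holds {c n z : ℕ} (hcz : c &&& z = 0) (hsat : rulSat c n z) (ps : List (ℕ × ℕ))
    (hok : rulTorOk ps = true) : rulPar (rulTorOf ps &&& c) = false := by
  unfold rulTorOk at hok
  rw [pgAllL_iff] at hok
  induction ps with
  | nil =>
    show rulPar (0 &&& c) = false
    rw [Nat.zero_and]; exact rulPar_zero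
  | cons q l ih =>
    have hq := hok q (List.mem_cons_self ..)
    simp only [Bool.and_eq_true, Nat.blt_eq] at hq
    obtain ⟨h1, h2, h3, h4, h5⟩ := hq
    rw [rulTorOf_cons, rul_and_xor_distrib,
      rulPar_xor (rul_and_lt_left _ (Nat.xor_lt_two_pow (rulN_lt _) (rulN_lt _)))
        (rul_and_lt_left _ (rulTorOf_lt l)),
      rul_tor_pair hcz hsat h1 h2 (Nat.eq_of_beq_eq_true h3) (Nat.eq_of_beq_eq_true h4)
        (Nat.eq_of_beq_eq_true h5),
      ih (fun q' hq' => hok q' (List.mem_cons_of_mem _ hq'))]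
    rfl

/-- the torsion equations of a certificate -/
def rulTorEqs (tors : List (List (ℕ × ℕ))) : List (ℕ × Bool) :=
  @List.rec (List (ℕ × ℕ)) (fun _ => List (ℕ × Bool)) []
    (fun ps _ ih => pgForce (rulTorOf ps) (fun M => (M, false) :: ih)) tors

theorem rulTorEqs_cons (ps : List (ℕ × ℕ)) (tors : List (List (ℕ × ℕ))) :
    rulTorEqs (ps :: tors) = (rulTorOf ps, false) :: rulTorEqs tors := by
  show pgForce (rulTorOf ps) (fun M => (M, false) :: rulTorEqs tors) = _
  rw [pgForce_eq]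

theorem rulTorEqs_holds {c n z : ℕ} (hcz : c &&& z = 0) (hsat : rulSat c n z)
    (tors : List (List (ℕ × ℕ))) (hok : pgAllL tors rulTorOk = true) :
    ∀ e ∈ rulTorEqs tors, rulPar (e.1 &&& c) = e.2 := by
  rw [pgAllL_iff] at hok
  induction tors with
  | nil => intro e he; exact absurd he (by simp [rulTorEqs])
  | cons ps l ih =>
    intro e he
    rw [rulTorEqs_cons, List.mem_cons] at he
    rcases he with rfl | he
    · exact rulTor_holds hcz hsat ps (hok ps (List.mem_cons_self ..))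
    · exact ih (fun p hp => hok p (List.mem_cons_of_mem _ hp)) e he

theorem rul_testBit_full {c j : ℕ} (hc : c < 2 ^ 56) (h : c.testBit j = true) :
    (72057594037927935 : ℕ).testBit j = true := by
  have hj : j < 56 := by
    by_contra hj
    have : c.testBit j = false := by
      apply Nat.testBit_lt_two_pow
      calc c < 2 ^ 56 := hc
        _ ≤ 2 ^ j := Nat.pow_le_pow_right (by norm_num) (by omega)
    rw [this] at h
    exact absurd h (by simp)
  have e : (72057594037927935 : ℕ) = 2 ^ 56 - 1 := by norm_num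
  rw [e, Nat.testBit_two_pow_sub_one]
  exact decide_eq_true hj

theorem rul_and_full {c : ℕ} (hc : c < 2 ^ 56) : c &&& 72057594037927935 = c := by
  have e : (72057594037927935 : ℕ) = 2 ^ 56 - 1 := by norm_num
  rw [e, Nat.and_two_pow_sub_one_eq_mod, Nat.mod_eq_of_lt hc]

/-- the census: the odd set satisfies the predicate checked at all the leaves of the search -/
theorem rul_census {c n z : ℕ} (hc : c < 2 ^ 56) (hcz : c &&& z = 0) (hw : rulWt c ≤ 16)
    (hsat : rulSat c n z) (tors : List (List (ℕ × ℕ))) (htor : pgAllL tors rulTorOk = true)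
    (P : ℕ → Bool) (k0 : ℕ) (hk0 : k0 ≤ 56)
    (hdfs : rulDfsPre 72057594037927935 72057594037927935 16 P (rulTorEqs tors) k0 0 (2 ^ k0) = true) :
    P c = true := by
  refine rulSolvePre_sound hk0 hdfs hc (fun j hj => rul_testBit_full hc hj) ?_
    (rulTorEqs_holds hcz hsat tors htor)
  rw [rul_and_full hc]
  exact hw

end Cfsg.Agent.Lib.helper23
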