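import Cfsg.Agent.Lib.helper23.RuData

set_option autoImplicit false
set_option maxRecDepth 1000000

namespace Cfsg.Agent.Lib.helper23

theorem rucl1x0c3300 : pgChkGenW 4060 rubase ruL1 [ruL2, ruL3, ruL4, ruL5]
    (rugen ruT1x0 ruI1x0) 3300 100 = true := by decide +kernel

theorem rucl1x0c3400 : pgChkGenW 4060 rubase ruL1 [ruL2, ruL3, ruL4, ruL5]
    (rugen ruT1x0 ruI1x0) 3400 100 = true := by decide +kernel

theorem rucl1x0c3500 : pgChkGenW 4060 rubase ruL1 [ruL2, ruL3, ruL4, ruL5]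
    (rugen ruT1x0 ruI1x0) 3500 100 = true := by decide +kernel

theorem rucl1x0c3600 : pgChkGenW 4060 rubase ruL1 [ruL2, ruL3, ruL4, ruL5]
    (rugen ruT1x0 ruI1x0) 3600 100 = true := by decide +kernel

theorem rucl1x0c3700 : pgChkGenW 4060 rubase ruL1 [ruL2, ruL3, ruL4, ruL5]
    (rugen ruT1x0 ruI1x0) 3700 100 = true := by decide +kernel

theorem rucl1x0c3800 : pgChkGenW 4060 rubase ruL1 [ruL2, ruL3, ruL4, ruL5]
    (rugen ruT1x0 ruI1x0) 3800 100 = true := by decide +kernel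

theorem rucl1x0c3900 : pgChkGenW 4060 rubase ruL1 [ruL2, ruL3, ruL4, ruL5]
    (rugen ruT1x0 ruI1x0) 3900 100 = true := by decide +kernel

theorem rucl1x0c4000 : pgChkGenW 4060 rubase ruL1 [ruL2, ruL3, ruL4, ruL5]
    (rugen ruT1x0 ruI1x0) 4000 60 = true := by decide +kernel


end Cfsg.Agent.Lib.helper23
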