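import Cfsg.Agent.Lib.helper23.RuChk1x0p0
import Cfsg.Agent.Lib.helper23.RuChk1x0p1
import Cfsg.Agent.Lib.helper23.RuChk1x0p2
import Cfsg.Agent.Lib.helper23.RuChk1x0p3

set_option autoImplicit false
set_option maxRecDepth 1000000

namespace Cfsg.Agent.Lib.helper23

theorem rucl1x0 : pgChkGenW 4060 rubase ruL1 [ruL2, ruL3, ruL4, ruL5]
    (rugen ruT1x0 ruI1x0) 0 4060 = true :=
  pgChkGenW_append (lo := 0) (c1 := 4000) (c2 := 60) (pgChkGenW_append (lo := 0) (c1 := 3900) (c2 := 100) (pgChkGenW_append (lo := 0) (c1 := 3800) (c2 := 100) (pgChkGenW_append (lo := 0) (c1 := 3700) (c2 := 100) (pgChkGenW_append (lo := 0) (c1 := 3600) (c2 := 100) (pgChkGenW_append (lo := 0) (c1 := 3500) (c2 := 100) (pgChkGenW_append (lo := 0) (c1 := 3400) (c2 := 100) (pgChkGenW_append (lo := 0) (c1 := 3300) (c2 := 100) (pgChkGenW_append (lo := 0) (c1 := 3200) (c2 := 100) (pgChkGenW_append (lo := 0) (c1 := 3100) (c2 := 100) (pgChkGenW_append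 (lo := 0) (c1 := 3000) (c2 := 100) (pgChkGenW_append (lo := 0) (c1 := 2900) (c2 := 100) (pgChkGenW_append (lo := 0) (c1 := 2800) (c2 := 100) (pgChkGenW_append (lo := 0) (c1 := 2700) (c2 := 100) (pgChkGenW_append (lo := 0) (c1 := 2600) (c2 := 100) (pgChkGenW_append (lo := 0) (c1 := 2500) (c2 := 100) (pgChkGenW_append (lo := 0) (c1 := 2400) (c2 := 100) (pgChkGenW_append (lo := 0) (c1 := 2300) (c2 := 100) (pgChkGenW_append (lo := 0) (c1 := 2200) (c2 := 100) (pgChkGenW_append (lo := 0) (c1 := 2100) (c2 := 100) (pgChkGenW_append (lo := 0) (c1 := 2000) (c2 := 100) (pgChkGenW_append (lo := 0) (c1 := 1900) (c2 := 100) (pgChkGenW_append (lo := 0) (c1 := 1800) (c2 := 100) (pgChkGenW_append (lo := 0) (c1 := 1700) (c2 := 100) (pgChkGenW_append (lo := 0) (c1 := 1600) (c2 := 100) (pgChkGenW_append (lo := 0) (c1 := 1500) (c2 := 100) (pgChkGenW_append (lo := 0) (c1 := 1400) (c2 := 100) (pgChkGenW_append (lo := 0) (c1 :=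 1300) (c2 := 100) (pgChkGenW_append (lo := 0) (c1 := 1200) (c2 := 100) (pgChkGenW_append (lo := 0) (c1 := 1100) (c2 := 100) (pgChkGenW_append (lo := 0) (c1 := 1000) (c2 := 100) (pgChkGenW_append (lo := 0) (c1 := 900) (c2 := 100) (pgChkGenW_append (lo := 0) (c1 := 800) (c2 := 100) (pgChkGenW_append (lo := 0) (c1 := 700) (c2 := 100) (pgChkGenW_append (lo := 0) (c1 := 600) (c2 := 100) (pgChkGenW_append (lo := 0) (c1 := 500) (c2 := 100) (pgChkGenW_append (lo := 0) (c1 := 400) (c2 := 100) (pgChkGenW_append (lo := 0) (c1 := 300) (c2 := 100) (pgChkGenW_append (lo := 0) (c1 := 200) (c2 := 100) (pgChkGenW_append (lo := 0) (c1 := 100) (c2 := 100) (rucl1x0c0) rucl1x0c100) rucl1x0c200) rucl1x0c300) rucl1x0c400) rucl1x0c500) rucl1x0c600) rucl1x0c700) rucl1x0c800) rucl1x0c900) rucl1x0c1000) rucl1x0c1100) rucl1x0c1200) rucl1x0c1300) rucl1x0c1400) rucl1x0c1500) rucl1x0c1600) rucl1x0c1700) rucl1x0c1800) rucl1x0c1900) rucl1x0c2000)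 rucl1x0c2100) rucl1x0c2200) rucl1x0c2300) rucl1x0c2400) rucl1x0c2500) rucl1x0c2600) rucl1x0c2700) rucl1x0c2800) rucl1x0c2900) rucl1x0c3000) rucl1x0c3100) rucl1x0c3200) rucl1x0c3300) rucl1x0c3400) rucl1x0c3500) rucl1x0c3600) rucl1x0c3700) rucl1x0c3800) rucl1x0c3900) rucl1x0c4000

end Cfsg.Agent.Lib.helper23
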