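import Cfsg.Agent.Lib.helper23.RuData

set_option autoImplicit false
set_option maxRecDepth 1000000

namespace Cfsg.Agent.Lib.helper23

theorem rucl1x1c1100 : pgChkGenW 4060 rubase ruL1 [ruL2, ruL3, ruL4, ruL5]
    (rugen ruT1x1 ruI1x1) 1100 100 = true := by decide +kernel

theorem rucl1x1c1200 : pgChkGenW 4060 rubase ruL1 [ruL2, ruL3, ruL4, ruL5]
    (rugen ruT1x1 ruI1x1) 1200 100 = true := by decide +kernel

theorem rucl1x1c1300 : pgChkGenW 4060 rubase ruL1 [ruL2, ruL3, ruL4, ruL5]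
    (rugen ruT1x1 ruI1x1) 1300 100 = true := by decide +kernel

theorem rucl1x1c1400 : pgChkGenW 4060 rubase ruL1 [ruL2, ruL3, ruL4, ruL5]
    (rugen ruT1x1 ruI1x1) 1400 100 = true := by decide +kernel

theorem rucl1x1c1500 : pgChkGenW 4060 rubase ruL1 [ruL2, ruL3, ruL4, ruL5]
    (rugen ruT1x1 ruI1x1) 1500 100 = true := by decide +kernel

theorem rucl1x1c1600 : pgChkGenW 4060 rubase ruL1 [ruL2, ruL3, ruL4, ruL5]
    (rugen ruT1x1 ruI1x1) 1600 100 = true := by decide +kernel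

theorem rucl1x1c1700 : pgChkGenW 4060 rubase ruL1 [ruL2, ruL3, ruL4, ruL5]
    (rugen ruT1x1 ruI1x1) 1700 100 = true := by decide +kernel

theorem rucl1x1c1800 : pgChkGenW 4060 rubase ruL1 [ruL2, ruL3, ruL4, ruL5]
    (rugen ruT1x1 ruI1x1) 1800 100 = true := by decide +kernel

theorem rucl1x1c1900 : pgChkGenW 4060 rubase ruL1 [ruL2, ruL3, ruL4, ruL5]
    (rugen ruT1x1 ruI1x1) 1900 100 = true := by decide +kernel

theorem rucl1x1c2000 : pgChkGenW 4060 rubase ruL1 [ruL2, ruL3, ruL4, ruL5]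
    (rugen ruT1x1 ruI1x1) 2000 100 = true := by decide +kernel

theorem rucl1x1c2100 : pgChkGenW 4060 rubase ruL1 [ruL2, ruL3, ruL4, ruL5]
    (rugen ruT1x1 ruI1x1) 2100 100 = true := by decide +kernel


end Cfsg.Agent.Lib.helper23
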