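import Cfsg.Agent.Lib.helper23.RuChk1x1p0
import Cfsg.Agent.Lib.helper23.RuChk1x1p1
import Cfsg.Agent.Lib.helper23.RuChk1x1p2
import Cfsg.Agent.Lib.helper23.RuChk1x1p3

set_option autoImplicit false
set_option maxRecDepth 1000000

namespace Cfsg.Agent.Lib.helper23

theorem rucl1x1 : pgChkGenW 4060 rubase ruL1 [ruL2, ruL3, ruL4, ruL5]
    (rugen ruT1x1 ruI1x1) 0 4060 = true :=
  pgChkGenW_append (lo := 0) (c1 := 4000) (c2 := 60) (pgChkGenW_append (lo := 0) (c1 := 3900) (c2 := 100) (pgChkGenW_append (lo := 0) (c1 := 3800) (c2 := 100) (pgChkGenW_append (lo := 0) (c1 := 3700) (c2 := 100) (pgChkGenW_append (lo := 0) (c1 := 3600) (c2 := 100) (pgChkGenW_append (lo := 0) (c1 := 3500) (c2 := 100) (pgChkGenW_append (lo := 0) (c1 := 3400) (c2 := 100) (pgChkGenW_append (lo := 0) (c1 := 3300) (c2 := 100) (pgChkGenW_append (lo := 0) (c1 := 3200) (c2 := 100) (pgChkGenW_append (lo := 0) (c1 := 3100) (c2 := 100) (pgChkGenW_append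 (lo := 0) (c1 := 3000) (c2 := 100) (pgChkGenW_append (lo := 0) (c1 := 2900) (c2 := 100) (pgChkGenW_append (lo := 0) (c1 := 2800) (c2 := 100) (pgChkGenW_append (lo := 0) (c1 := 2700) (c2 := 100) (pgChkGenW_append (lo := 0) (c1 := 2600) (c2 := 100) (pgChkGenW_append (lo := 0) (c1 := 2500) (c2 := 100) (pgChkGenW_append (lo := 0) (c1 := 2400) (c2 := 100) (pgChkGenW_append (lo := 0) (c1 := 2300) (c2 := 100) (pgChkGenW_append (lo := 0) (c1 := 2200) (c2 := 100) (pgChkGenW_append (lo := 0) (c1 := 2100) (c2 := 100) (pgChkGenW_append (lo := 0) (c1 := 2000) (c2 := 100) (pgChkGenW_append (lo := 0) (c1 := 1900) (c2 := 100) (pgChkGenW_append (lo := 0) (c1 := 1800) (c2 := 100) (pgChkGenW_append (lo := 0) (c1 := 1700) (c2 := 100) (pgChkGenW_append (lo := 0) (c1 := 1600) (c2 := 100) (pgChkGenW_append (lo := 0) (c1 := 1500) (c2 := 100) (pgChkGenW_append (lo := 0) (c1 := 1400) (c2 := 100) (pgChkGenW_append (lo := 0) (c1 :=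 1300) (c2 := 100) (pgChkGenW_append (lo := 0) (c1 := 1200) (c2 := 100) (pgChkGenW_append (lo := 0) (c1 := 1100) (c2 := 100) (pgChkGenW_append (lo := 0) (c1 := 1000) (c2 := 100) (pgChkGenW_append (lo := 0) (c1 := 900) (c2 := 100) (pgChkGenW_append (lo := 0) (c1 := 800) (c2 := 100) (pgChkGenW_append (lo := 0) (c1 := 700) (c2 := 100) (pgChkGenW_append (lo := 0) (c1 := 600) (c2 := 100) (pgChkGenW_append (lo := 0) (c1 := 500) (c2 := 100) (pgChkGenW_append (lo := 0) (c1 := 400) (c2 := 100) (pgChkGenW_append (lo := 0) (c1 := 300) (c2 := 100) (pgChkGenW_append (lo := 0) (c1 := 200) (c2 := 100) (pgChkGenW_append (lo := 0) (c1 := 100) (c2 := 100) (rucl1x1c0) rucl1x1c100) rucl1x1c200) rucl1x1c300) rucl1x1c400) rucl1x1c500) rucl1x1c600) rucl1x1c700) rucl1x1c800) rucl1x1c900) rucl1x1c1000) rucl1x1c1100) rucl1x1c1200) rucl1x1c1300) rucl1x1c1400) rucl1x1c1500) rucl1x1c1600) rucl1x1c1700) rucl1x1c1800) rucl1x1c1900) rucl1x1c2000)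 rucl1x1c2100) rucl1x1c2200) rucl1x1c2300) rucl1x1c2400) rucl1x1c2500) rucl1x1c2600) rucl1x1c2700) rucl1x1c2800) rucl1x1c2900) rucl1x1c3000) rucl1x1c3100) rucl1x1c3200) rucl1x1c3300) rucl1x1c3400) rucl1x1c3500) rucl1x1c3600) rucl1x1c3700) rucl1x1c3800) rucl1x1c3900) rucl1x1c4000

end Cfsg.Agent.Lib.helper23
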