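import Cfsg.Agent.Lib.helper23.RuData

set_option autoImplicit false
set_option maxRecDepth 1000000

namespace Cfsg.Agent.Lib.helper23

theorem rucl2x0c1400 : pgChkGenW 4060 rubase ruL2 [ruL3, ruL4, ruL5]
    (rugen ruT2x0 ruI2x0) 1400 175 = true := by decide +kernel

theorem rucl2x0c1575 : pgChkGenW 4060 rubase ruL2 [ruL3, ruL4, ruL5]
    (rugen ruT2x0 ruI2x0) 1575 175 = true := by decide +kernel

theorem rucl2x0c1750 : pgChkGenW 4060 rubase ruL2 [ruL3, ruL4, ruL5]
    (rugen ruT2x0 ruI2x0) 1750 175 = true := by decide +kernel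

theorem rucl2x0c1925 : pgChkGenW 4060 rubase ruL2 [ruL3, ruL4, ruL5]
    (rugen ruT2x0 ruI2x0) 1925 175 = true := by decide +kernel

theorem rucl2x0c2100 : pgChkGenW 4060 rubase ruL2 [ruL3, ruL4, ruL5]
    (rugen ruT2x0 ruI2x0) 2100 175 = true := by decide +kernel

theorem rucl2x0c2275 : pgChkGenW 4060 rubase ruL2 [ruL3, ruL4, ruL5]
    (rugen ruT2x0 ruI2x0) 2275 175 = true := by decide +kernel

theorem rucl2x0c2450 : pgChkGenW 4060 rubase ruL2 [ruL3, ruL4, ruL5]
    (rugen ruT2x0 ruI2x0) 2450 175 = true := by decide +kernel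

theorem rucl2x0c2625 : pgChkGenW 4060 rubase ruL2 [ruL3, ruL4, ruL5]
    (rugen ruT2x0 ruI2x0) 2625 175 = true := by decide +kernel


end Cfsg.Agent.Lib.helper23
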