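import Cfsg.Agent.Lib.helper23.RuChk2x0p0
import Cfsg.Agent.Lib.helper23.RuChk2x0p1
import Cfsg.Agent.Lib.helper23.RuChk2x0p2

set_option autoImplicit false
set_option maxRecDepth 1000000

namespace Cfsg.Agent.Lib.helper23

theorem rucl2x0 : pgChkGenW 4060 rubase ruL2 [ruL3, ruL4, ruL5]
    (rugen ruT2x0 ruI2x0) 0 4060 = true :=
  pgChkGenW_append (lo := 0) (c1 := 4025) (c2 := 35) (pgChkGenW_append (lo := 0) (c1 := 3850) (c2 := 175) (pgChkGenW_append (lo := 0) (c1 := 3675) (c2 := 175) (pgChkGenW_append (lo := 0) (c1 := 3500) (c2 := 175) (pgChkGenW_append (lo := 0) (c1 := 3325) (c2 := 175) (pgChkGenW_append (lo := 0) (c1 := 3150) (c2 := 175) (pgChkGenW_append (lo := 0) (c1 := 2975) (c2 := 175) (pgChkGenW_append (lo := 0) (c1 := 2800) (c2 := 175) (pgChkGenW_append (lo := 0) (c1 := 2625) (c2 := 175) (pgChkGenW_append (lo := 0) (c1 := 2450) (c2 := 175) (pgChkGenW_append (lo := 0) (c1 := 2275) (c2 := 175) (pgChkGenW_append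 (lo := 0) (c1 := 2100) (c2 := 175) (pgChkGenW_append (lo := 0) (c1 := 1925) (c2 := 175) (pgChkGenW_append (lo := 0) (c1 := 1750) (c2 := 175) (pgChkGenW_append (lo := 0) (c1 := 1575) (c2 := 175) (pgChkGenW_append (lo := 0) (c1 := 1400) (c2 := 175) (pgChkGenW_append (lo := 0) (c1 := 1225) (c2 := 175) (pgChkGenW_append (lo := 0) (c1 := 1050) (c2 := 175) (pgChkGenW_append (lo := 0) (c1 := 875) (c2 := 175) (pgChkGenW_append (lo := 0) (c1 := 700) (c2 := 175) (pgChkGenW_append (lo := 0) (c1 := 525) (c2 := 175) (pgChkGenW_append (lo := 0) (c1 := 350) (c2 := 175) (pgChkGenW_append (lo := 0) (c1 := 175) (c2 := 175) (rucl2x0c0) rucl2x0c175) rucl2x0c350) rucl2x0c525) rucl2x0c700) rucl2x0c875) rucl2x0c1050) rucl2x0c1225) rucl2x0c1400) rucl2x0c1575) rucl2x0c1750) rucl2x0c1925) rucl2x0c2100) rucl2x0c2275) rucl2x0c2450) rucl2x0c2625) rucl2x0c2800) rucl2x0c2975) rucl2x0c3150) rucl2x0c3325) rucl2x0c3500) rucl2x0c3675) rucl2x0c3850)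 rucl2x0c4025

end Cfsg.Agent.Lib.helper23
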