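import Cfsg.Agent.Lib.helper23.RuData

set_option autoImplicit false
set_option maxRecDepth 1000000

namespace Cfsg.Agent.Lib.helper23

theorem rucl2x1c2800 : pgChkGenW 4060 rubase ruL2 [ruL3, ruL4, ruL5]
    (rugen ruT2x1 ruI2x1) 2800 175 = true := by decide +kernel

theorem rucl2x1c2975 : pgChkGenW 4060 rubase ruL2 [ruL3, ruL4, ruL5]
    (rugen ruT2x1 ruI2x1) 2975 175 = true := by decide +kernel

theorem rucl2x1c3150 : pgChkGenW 4060 rubase ruL2 [ruL3, ruL4, ruL5]
    (rugen ruT2x1 ruI2x1) 3150 175 = true := by decide +kernel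

theorem rucl2x1c3325 : pgChkGenW 4060 rubase ruL2 [ruL3, ruL4, ruL5]
    (rugen ruT2x1 ruI2x1) 3325 175 = true := by decide +kernel

theorem rucl2x1c3500 : pgChkGenW 4060 rubase ruL2 [ruL3, ruL4, ruL5]
    (rugen ruT2x1 ruI2x1) 3500 175 = true := by decide +kernel

theorem rucl2x1c3675 : pgChkGenW 4060 rubase ruL2 [ruL3, ruL4, ruL5]
    (rugen ruT2x1 ruI2x1) 3675 175 = true := by decide +kernel

theorem rucl2x1c3850 : pgChkGenW 4060 rubase ruL2 [ruL3, ruL4, ruL5]
    (rugen ruT2x1 ruI2x1) 3850 175 = true := by decide +kernel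

theorem rucl2x1c4025 : pgChkGenW 4060 rubase ruL2 [ruL3, ruL4, ruL5]
    (rugen ruT2x1 ruI2x1) 4025 35 = true := by decide +kernel


end Cfsg.Agent.Lib.helper23
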