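import Cfsg.Agent.Lib.helper23.RuChk3x1p0

set_option autoImplicit false
set_option maxRecDepth 1000000

namespace Cfsg.Agent.Lib.helper23

theorem rucl3x1 : pgChkGenW 4060 rubase ruL3 [ruL4, ruL5]
    (rugen ruT3x1 ruI3x1) 0 4060 = true :=
  pgChkGenW_append (lo := 0) (c1 := 3600) (c2 := 460) (pgChkGenW_append (lo := 0) (c1 := 3000) (c2 := 600) (pgChkGenW_append (lo := 0) (c1 := 2400) (c2 := 600) (pgChkGenW_append (lo := 0) (c1 := 1800) (c2 := 600) (pgChkGenW_append (lo := 0) (c1 := 1200) (c2 := 600) (pgChkGenW_append (lo := 0) (c1 := 600) (c2 := 600) (rucl3x1c0) rucl3x1c600) rucl3x1c1200) rucl3x1c1800) rucl3x1c2400) rucl3x1c3000) rucl3x1c3600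

end Cfsg.Agent.Lib.helper23
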