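import Cfsg.Agent.Lib.helper23.RuData2

set_option autoImplicit false
set_option maxRecDepth 1000000

namespace Cfsg.Agent.Lib.helper23

theorem ruLin : pgChkLin 4060 28 ruv rubase = true := by decide +kernel

/-- the rigid ambient group -/
def ruR : PgRigid 4060 := pgLinRigid 4060 28 ruv rubase ruLin

theorem ruLinF0 : pgChkLinFun 4060 28 ruv (rucol ruMat0) (rulk ruT1x0) = true := by
  decide +kernel

theorem ruLinG0 : pgChkLinFun 4060 28 ruv (rucol ruMatI0) (rulk ruI1x0) = true := by
  decide +kernel

theorem ruLinF1 : pgChkLinFun 4060 28 ruv (rucol ruMat1) (rulk ruT1x1) = true := by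
  decide +kernel

theorem ruLinG1 : pgChkLinFun 4060 28 ruv (rucol ruMatI1) (rulk ruI1x1) = true := by
  decide +kernel


end Cfsg.Agent.Lib.helper23
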