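import Cfsg.Agent.Lib.helper23.RuData

set_option autoImplicit false
set_option maxRecDepth 1000000

namespace Cfsg.Agent.Lib.helper23

theorem ruchk0x1 : pgChkLvlW0 4060 ruL1 [ruL2, ruL3, ruL4, ruL5] = true := by decide +kernel

theorem ruchk0x2 : pgChkLvlW0 4060 ruL2 [ruL3, ruL4, ruL5] = true := by decide +kernel

theorem ruchk0x3 : pgChkLvlW0 4060 ruL3 [ruL4, ruL5] = true := by decide +kernel

theorem ruchk0x4 : pgChkLvlW0 4060 ruL4 [ruL5] = true := by decide +kernel

theorem ruchk0x5 : pgChkLvlW0 4060 ruL5 [] = true := by decide +kernel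


end Cfsg.Agent.Lib.helper23
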