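import Cfsg.Agent.Lib.helper23.TitsData

set_option autoImplicit false
set_option maxRecDepth 1000000

namespace Cfsg.Agent.Lib.helper23

theorem rucl4x0 : pgChkGenW 4060 rubase ruL4 [ruL5]
    (rugen ruT4x0 ruI4x0) 0 4060 = true := by decide +kernel

theorem rucl4x1 : pgChkGenW 4060 rubase ruL4 [ruL5]
    (rugen ruT4x1 ruI4x1) 0 4060 = true := by decide +kernel

theorem rucl5x0 : pgChkGenW 4060 rubase ruL5 []
    (rugen ruT5x0 ruI5x0) 0 4060 = true := by decide +kernel

theorem rucl5x1 : pgChkGenW 4060 rubase ruL5 []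
    (rugen ruT5x1 ruI5x1) 0 4060 = true := by decide +kernel

theorem ticl3x0 : pgChkGenW 4060 rubase tiL3 []
    (rugen tiT3x0 tiI3x0) 0 4060 = true := by decide +kernel

theorem ticl3x1 : pgChkGenW 4060 rubase tiL3 []
    (rugen tiT3x1 tiI3x1) 0 4060 = true := by decide +kernel


end Cfsg.Agent.Lib.helper23
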