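import Cfsg.Agent.Lib.helper23.PgJ
import Cfsg.Agent.Lib.helper23.RuChkA
import Cfsg.Agent.Lib.helper23.RuChkB
import Cfsg.Agent.Lib.helper23.RuChkS
import Cfsg.Agent.Lib.helper23.RuChk1x0
import Cfsg.Agent.Lib.helper23.RuChk1x1
import Cfsg.Agent.Lib.helper23.RuChk2x0
import Cfsg.Agent.Lib.helper23.RuChk2x1
import Cfsg.Agent.Lib.helper23.RuChk3x0
import Cfsg.Agent.Lib.helper23.RuChk3x1

set_option autoImplicit false
set_option maxRecDepth 1000000

/-!
# The Rudvalis group on 4060 points: order, simplicity, point stabiliser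
-/

namespace Cfsg.Agent.Lib.helper23

open Subgroup MulAction

/-- the stabiliser chain -/
def ruC : List PgLvlW := [ruL1, ruL2, ruL3, ruL4, ruL5]

/-- the chain of the point stabiliser -/
def ruC2 : List PgLvlW := [ruL2, ruL3, ruL4, ruL5]

theorem ruchkL5 : pgChkLvlW 4060 rubase ruL5 [] = true :=
  pgChkLvlW_of2 rfl ruchk0x5 rucl5x0 rucl5x1

theorem ruchkL4 : pgChkLvlW 4060 rubase ruL4 [ruL5] = true :=
  pgChkLvlW_of2 rfl ruchk0x4 rucl4x0 rucl4x1

theorem ruchkL3 : pgChkLvlW 4060 rubase ruL3 [ruL4, ruL5] = true :=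
  pgChkLvlW_of2 rfl ruchk0x3 rucl3x0 rucl3x1

theorem ruchkL2 : pgChkLvlW 4060 rubase ruL2 [ruL3, ruL4, ruL5] = true :=
  pgChkLvlW_of2 rfl ruchk0x2 rucl2x0 rucl2x1

theorem ruchkL1 : pgChkLvlW 4060 rubase ruL1 [ruL2, ruL3, ruL4, ruL5] = true :=
  pgChkLvlW_of2 rfl ruchk0x1 rucl1x0 rucl1x1

theorem ruchkC : pgChkW 4060 ruR.base ruC = true := by
  change pgChkW 4060 rubase [ruL1, ruL2, ruL3, ruL4, ruL5] = true
  rw [pgChkW_cons, pgChkW_cons, pgChkW_cons, pgChkW_cons, pgChkW_cons, ruchkL1, ruchkL2, ruchkL3,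
    ruchkL4, ruchkL5]
  rfl

theorem ruok : ∀ P ∈ pgOwnW ruC, P.ok 4060 = true := pgChkW_own_ok 4060 ruR.base ruC ruchkC

theorem ruA : pgGrpW 4060 ruC ≤ ruR.A := by
  apply (closure_le _).2
  rintro x ⟨P, hP, rfl⟩
  have hok := ruok P hP
  change P ∈ [rugen ruT1x0 ruI1x0, rugen ruT1x1 ruI1x1] at hP
  rcases List.mem_cons.1 hP with rfl | hP
  · exact pgLin_mem hok (rucol ruMat0) (rucol ruMatI0) ruLinF0 ruLinG0
  · rcases List.mem_cons.1 hP with rfl | hP
    · exact pgLin_mem hok (rucol ruMat1) (rucol ruMatI1) ruLinF1 ruLinG1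
    · exact absurd hP List.not_mem_nil

theorem ruord : pgOrdW 4060 ruC = 145926144000 := by decide +kernel

theorem ruord2 : pgOrdW 4060 ruC2 = 35942400 := by decide +kernel

theorem rucard : Nat.card (pgGrpW 4060 ruC) = 145926144000 := by
  rw [pgCardW ruR ruC ruchkC ruA, ruord]

theorem ruall1 : pgAll 4060 (fun z => pgBit ruM1 z) = true := by decide +kernel

theorem rub1 : ruL1.b < 4060 := by decide

theorem rutrans (z : Fin 4060) : ∃ g ∈ pgGrpW 4060 ruC, g (0 : Fin 4060) = z := by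
  obtain ⟨hb, -, -, h4, -⟩ := pgLvlW_main ruR ruchkC ruA
  exact h4 z ((pgAll_iff _ _).1 ruall1 z.1 z.2)

instance rupretrans : IsPretransitive (pgGrpW 4060 ruC) (Fin 4060) := by
  rw [isPretransitive_iff_base (0 : Fin 4060)]
  intro z
  obtain ⟨g, hg, hgz⟩ := rutrans z
  exact ⟨⟨g, hg⟩, hgz⟩

theorem rustab : Nat.card (stabilizer (pgGrpW 4060 ruC) (0 : Fin 4060)) = 35942400 := by
  have := pgStabW_card ruR ruchkC ruA rub1
  rw [← ruord2]
  exact this

theorem ruclsChk : pgChkCls 4060 0 (pgBit ruM1) ruL2.own ruK = true := by decide +kernel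

theorem rucnt1 : pgCount 4060 (pgBit ruM1) = 4060 := by decide +kernel

theorem ruarith : ∀ I : Finset (Fin 3), (⟨0, by decide⟩ : Fin 3) ∈ I →
    (∀ i ∈ I, ([1, 2304, 1755] : List ℕ).getD i.1 0 ≠ 0) →
    (∑ i ∈ I, ([1, 2304, 1755] : List ℕ).getD i.1 0) ∣ 4060 →
    I = {(⟨0, by decide⟩ : Fin 3)} ∨
      ∀ i : Fin 3, ([1, 2304, 1755] : List ℕ).getD i.1 0 ≠ 0 → i ∈ I := by
  decide

theorem rucoatom : IsCoatom (stabilizer (pgGrpW 4060 ruC) (0 : Fin 4060)) := by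
  refine pgCoatomW ruR (L := ruL1) (L2 := ruL2) (D := [ruL3, ruL4, ruL5]) ruchkC ruA rub1 ruK
    (by decide) ruclsChk ⟨1, by decide +kernel, by decide⟩ ?_
  change ∀ I : Finset (Fin 3), _ → _ → _ ∣ pgCount 4060 (pgBit ruM1) → _
  rw [rucnt1]
  exact ruarith

theorem rupow : pgAll ruL1.own.length (fun j => pgAll 4060
    (fun p => Nat.beq (pgEvalW ruL1.own (pgPowW [j] 29) p) p)) = true := by decide +kernel

theorem rusimple : IsSimpleGroup (pgGrpW 4060 ruC) := by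
  refine pgSimpleW ruR (L := ruL1) (C := ruC2) ruchkC ruA rub1 rucoatom ?_ 29 ?_ rupow ?_
  · intro L' _
    have : L'.b < 4060 → ruL1.inO L'.b = true := fun h => (pgAll_iff _ _).1 ruall1 _ h
    apply this
    rename_i hL'
    change L' ∈ [ruL1, ruL2, ruL3, ruL4, ruL5] at hL'
    simp only [List.mem_cons, List.not_mem_nil, or_false] at hL'
    rcases hL' with rfl | rfl | rfl | rfl | rfl <;> decide
  · rw [ruord2]
    decide
  · exact ⟨rugen ruT1x0 ruI1x0, List.mem_cons_self, 0, by decide, by decide +kernel⟩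

end Cfsg.Agent.Lib.helper23
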