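import Mathlib
import Cfsg.Prelude.Def_Spor_Ru
import Cfsg.Agent.Lib.Helper16.RU.Lines
import Cfsg.Agent.Lib.helper23.RULCensus
import Cfsg.Agent.Lib.helper23.RuMain
import Cfsg.Agent.Lib.helper23.RULWordsData

set_option autoImplicit false

/-!
# The generators of the 4060-point model of `Ru` as words in `Rj`, `Rk`, `Sign`, `Shift`, `U`

If five elements of `fourRu` act on the lines as the tables `rulGenF L` say, then the permutation
group `pgGrpW 4060 ruC` lies in the image of `fourRu` on the lines.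
-/

namespace Cfsg.Agent.Lib.helper23

open Cfsg.Spor Cfsg.Agent.Lib.Helper16.RU

/-- the tables map lines to lines -/
theorem rulGenF_lt_chk : pgAllR 0 5 (fun L => pgAllR 0 4060 (fun j => Nat.blt (rulGenF L j) 4060)) = true := by
  decide +kernel

theorem rulGenF_lt {L j : ℕ} (hL : L < 5) (hj : j < 4060) : rulGenF L j < 4060 := by
  have h1 := (pgAllR_iff 0 5 _).1 rulGenF_lt_chk L hL
  rw [zero_add] at h1
  have h2 := (pgAllR_iff 0 4060 _).1 h1 j hj
  rw [zero_add, Nat.blt_eq] at h2
  exact h2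

/-- the first word is the first generator of `ruC` -/
theorem rulWord1_chk : pgAllR 0 4060 (fun j => Nat.beq (rulWordF rulW1 j) (rulk ruT1x0 j)) = true := by
  decide +kernel

/-- the second word is the second generator of `ruC` -/
theorem rulWord2_chk : pgAllR 0 4060 (fun j => Nat.beq (rulWordF rulW2 j) (rulk ruT1x1 j)) = true := by
  decide +kernel

theorem rulWord1 {j : ℕ} (hj : j < 4060) : rulWordF rulW1 j = rulk ruT1x0 j := by
  have h := (pgAllR_iff 0 4060 _).1 rulWord1_chk j hj
  rw [zero_add, Nat.beq_eq] at h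
  exact h

theorem rulWord2 {j : ℕ} (hj : j < 4060) : rulWordF rulW2 j = rulk ruT1x1 j := by
  have h := (pgAllR_iff 0 4060 _).1 rulWord2_chk j hj
  rw [zero_add, Nat.beq_eq] at h
  exact h

theorem rulWordF_cons (L : ℕ) (w : List ℕ) (j : ℕ) :
    rulWordF (L :: w) j = rulWordF w (rulGenF L j) := rfl

/-- the table of the letter `L` as a map of `Fin 4060` -/
def rulGenFin (L : Fin 5) (j : Fin 4060) : Fin 4060 := ⟨rulGenF L.1 j.1, rulGenF_lt L.2 j.2⟩

/-- the product of the letters of a word, the first letter acts first -/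
def rulWordP (fL : Fin 5 → fourRu) : List ℕ → fourRu
  | [] => 1
  | L :: w => rulWordP fL w * (if h : L < 5 then fL ⟨L, h⟩ else 1)

variable {rep : ℕ → RuVec}

theorem rulWord_maps (h : RuLines 4060 rep) (fL : Fin 5 → fourRu)
    (hL : ∀ L j, h.Maps (fL L) j (rulGenFin L j)) (w : List ℕ) (hw : ∀ L ∈ w, L < 5) :
    ∀ j : Fin 4060, ∃ hlt : rulWordF w j.1 < 4060,
      h.Maps (rulWordP fL w) j ⟨rulWordF w j.1, hlt⟩ := by
  induction w with
  | nil =>
    intro j
    exact ⟨j.2, h.maps_one j⟩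
  | cons L w ih =>
    intro j
    have hL5 : L < 5 := hw L (by simp)
    obtain ⟨hlt, hm⟩ := ih (fun L' hL' => hw L' (by simp [hL'])) (rulGenFin ⟨L, hL5⟩ j)
    refine ⟨hlt, ?_⟩
    have e : rulWordP fL (L :: w) = rulWordP fL w * fL ⟨L, hL5⟩ := by
      show rulWordP fL w * (if h : L < 5 then fL ⟨L, h⟩ else 1) = _
      rw [dif_pos hL5]
    rw [e]
    exact h.maps_mul _ _ j _ _ (hL ⟨L, hL5⟩ j) hm

/-- a generator of `ruC` is induced by an element of `fourRu` -/
theorem rul_gen_range (h : RuLines 4060 rep) (fL : Fin 5 → fourRu)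
    (hL : ∀ L j, h.Maps (fL L) j (rulGenFin L j)) (w : List ℕ) (hw : ∀ L ∈ w, L < 5) (P : PFun)
    (hok : P.ok 4060 = true) (hP : ∀ j < 4060, rulWordF w j = P.f j) :
    P.perm 4060 ∈ h.hom.range := by
  refine ⟨rulWordP fL w, ?_⟩
  apply h.hom_eq_of_maps
  intro j
  obtain ⟨hlt, hm⟩ := rulWord_maps h fL hL w hw j
  have e : (⟨rulWordF w j.1, hlt⟩ : Fin 4060) = P.perm 4060 j := by
    apply Fin.ext
    rw [PFun.perm_apply hok]
    exact hP j.1 j.2
  rw [← e]
  exact hm

/-- the 4060-point model of `Ru` lies in the image of `fourRu` on the lines, given five elements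
of `fourRu` acting on the lines as `Rj`, `Rk`, `Sign`, `Shift`, `U` do -/
theorem rul_hgens (h : RuLines 4060 rep) (fL : Fin 5 → fourRu)
    (hL : ∀ L j, h.Maps (fL L) j (rulGenFin L j)) : pgGrpW 4060 ruC ≤ h.hom.range := by
  unfold pgGrpW
  rw [Subgroup.closure_le]
  rintro x ⟨P, hP, rfl⟩
  have hok := ruok P hP
  change P ∈ [rugen ruT1x0 ruI1x0, rugen ruT1x1 ruI1x1] at hP
  rcases List.mem_cons.1 hP with rfl | hP
  · exact rul_gen_range h fL hL rulW1 (by decide) _ hok (fun j hj => rulWord1 hj)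
  · rcases List.mem_cons.1 hP with rfl | hP
    · exact rul_gen_range h fL hL rulW2 (by decide) _ hok (fun j hj => rulWord2 hj)
    · exact absurd hP (List.not_mem_nil)

end Cfsg.Agent.Lib.helper23
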