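import Mathlib
import Cfsg.Prelude.Def_Spor_Ru
import Cfsg.Agent.Lib.helper23.RULCensus
import Cfsg.Agent.Lib.helper23.RULGramD
import Cfsg.Agent.Lib.helper23.RULLinesDefs

set_option autoImplicit false

/-!
# Kernel checks for the lines of minimal vectors of the Rudvalis lattice
-/

namespace Cfsg.Agent.Lib.helper23

open Cfsg.Spor

/-- the even positions among the first 56 -/
def rulEven : ℕ := 0x55555555555555

/-- support of `i` times a mask-coded vector -/
def rulMulS (s : ℕ) : ℕ :=
  Nat.lor (Nat.land (Nat.shiftRight s 1) rulEven) (Nat.shiftLeft (Nat.land s rulEven) 1)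

/-- negative positions of `i` times a mask-coded vector -/
def rulMulN (s n : ℕ) : ℕ :=
  Nat.lor (Nat.land (Nat.shiftRight (Nat.xor s n) 1) rulEven) (Nat.shiftLeft (Nat.land n rulEven) 1)

/-- every unit-type entry has weight 16 and its negative positions lie in its support -/
theorem rulL_unit_ok : rulGCntU (fun s n => cond (Nat.beq (Nat.land n s) n) (Nat.beq (rulWtF s) 16) false)
    252 0 = 16128 := by
  decide +kernel

/-- the unit-type entries are strictly sorted by `(rulS i, rulN i)` -/
theorem rulL_sorted : pgAllR 0 16127 (fun i =>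
    Nat.blt (Nat.add (Nat.mul (rulS i) 72057594037927936) (rulN i))
      (Nat.add (Nat.mul (rulS (Nat.add i 1)) 72057594037927936) (rulN (Nat.add i 1)))) = true := by
  decide +kernel

/-- `rulLI ∘ rulLP = id` -/
theorem rulL_tab1 : pgAllR 0 16240 (fun m => pgForce (rulLP m) fun t =>
    cond (Nat.blt t 16240) (Nat.beq (rulLI t) m) false) = true := by
  decide +kernel

/-- `rulLP ∘ rulLI = id` -/
theorem rulL_tab2 : pgAllR 0 16240 (fun t => pgForce (rulLI t) fun m =>
    cond (Nat.blt m 16240) (Nat.beq (rulLP m) t) false) = true := by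
  decide +kernel

/-- the entry `t = 4 j + k`, `k ≠ 0`, of `rulLI` is `i` times the entry `t - 1` -/
theorem rulL_tab3 : pgAllR 0 16240 (fun t => cond (Nat.beq (Nat.mod t 4) 0) true
    (pgForce (rulLI t) fun m => pgForce (rulLI (Nat.sub t 1)) fun m0 =>
      pgForce (rulGS m0) fun s0 => pgForce (rulGN m0) fun n0 =>
        cond (Nat.beq (rulGA m) (rulGA m0))
          (cond (Nat.beq (rulGS m) (rulMulS s0)) (Nat.beq (rulGN m) (rulMulN s0 n0)) false)
          false)) = true := by
  decide +kernel

/-- different frame vectors have real scalar product different from 16 -/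
theorem rulL_frame : ∀ r < 112, ∀ r' < 112, r ≠ r' →
    rulGCodeM 4 (rulGS (16128 + r)) (rulGN (16128 + r)) (rulGS (16128 + r')) (rulGN (16128 + r'))
      ≠ 260 := by
  decide +kernel

end Cfsg.Agent.Lib.helper23
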