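import Mathlib
import Cfsg.Prelude.Def_Spor_Ru
import Cfsg.Agent.Lib.Helper29.RvLBasic
import Cfsg.Agent.Lib.helper23.RULLinesChk

set_option autoImplicit false

/-!
# Multiplication by `i` on mask-coded vectors
-/

namespace Cfsg.Agent.Lib.helper23

open Cfsg.Spor Cfsg.Agent.Lib.Helper29

theorem rulEven_lt : rulEven < 2 ^ 56 := by decide

theorem rulEven_testBit_lt : ∀ k < 56, rulEven.testBit k = decide (k % 2 = 0) := by decide

theorem rulEven_testBit (k : ℕ) : rulEven.testBit k = (decide (k % 2 = 0) && decide (k < 56)) := by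
  by_cases hk : k < 56
  · rw [rulEven_testBit_lt k hk]
    simp [hk]
  · have h1 : rulEven < 2 ^ k :=
      lt_of_lt_of_le rulEven_lt (Nat.pow_le_pow_right (by norm_num) (by omega))
    rw [Nat.testBit_lt_two_pow h1]
    simp [hk]

theorem rulMulS_even (s : ℕ) {P : ℕ} (hP : P < 28) :
    (rulMulS s).testBit (2 * P) = s.testBit (2 * P + 1) := by
  have e : rulMulS s = ((s >>> 1) &&& rulEven) ||| ((s &&& rulEven) <<< 1) := rfl
  rw [e]
  simp only [Nat.testBit_or, Nat.testBit_and, Nat.testBit_shiftRight, Nat.testBit_shiftLeft,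
    rulEven_testBit]
  have h1 : (2 * P) % 2 = 0 := by omega
  have h2 : 2 * P < 56 := by omega
  have h3 : (2 * P - 1) % 2 = 0 ↔ P = 0 := by omega
  have h4 : 1 + 2 * P = 2 * P + 1 := by ring
  rcases Nat.eq_zero_or_pos P with hP0 | hP0
  · subst hP0
    simp
  · have h5 : ¬ (2 * P - 1) % 2 = 0 := by omega
    simp [h1, h2, h4, h5]

theorem rulMulS_odd (s : ℕ) {P : ℕ} (hP : P < 28) :
    (rulMulS s).testBit (2 * P + 1) = s.testBit (2 * P) := by
  have e : rulMulS s = ((s >>> 1) &&& rulEven) ||| ((s &&& rulEven) <<< 1) := rfl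
  rw [e]
  simp only [Nat.testBit_or, Nat.testBit_and, Nat.testBit_shiftRight, Nat.testBit_shiftLeft,
    rulEven_testBit]
  have h1 : ¬ (2 * P + 1) % 2 = 0 := by omega
  have h2 : (2 * P) % 2 = 0 := by omega
  have h3 : 2 * P < 56 := by omega
  have h4 : 2 * P + 1 - 1 = 2 * P := by omega
  simp [h2, h3, h4]

theorem rulMulN_even (s n : ℕ) {P : ℕ} (hP : P < 28) :
    (rulMulN s n).testBit (2 * P) = (s ^^^ n).testBit (2 * P + 1) := by
  have e : rulMulN s n = (((s ^^^ n) >>> 1) &&& rulEven) ||| ((n &&& rulEven) <<< 1) := rfl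
  rw [e]
  simp only [Nat.testBit_or, Nat.testBit_and, Nat.testBit_shiftRight, Nat.testBit_shiftLeft,
    rulEven_testBit]
  have h1 : (2 * P) % 2 = 0 := by omega
  have h2 : 2 * P < 56 := by omega
  have h4 : 1 + 2 * P = 2 * P + 1 := by ring
  rcases Nat.eq_zero_or_pos P with hP0 | hP0
  · subst hP0
    simp
  · have h5 : ¬ (2 * P - 1) % 2 = 0 := by omega
    simp [h1, h2, h4, h5]

theorem rulMulN_odd (s n : ℕ) {P : ℕ} (hP : P < 28) :
    (rulMulN s n).testBit (2 * P + 1) = n.testBit (2 * P) := by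
  have e : rulMulN s n = (((s ^^^ n) >>> 1) &&& rulEven) ||| ((n &&& rulEven) <<< 1) := rfl
  rw [e]
  simp only [Nat.testBit_or, Nat.testBit_and, Nat.testBit_shiftRight, Nat.testBit_shiftLeft,
    rulEven_testBit]
  have h1 : ¬ (2 * P + 1) % 2 = 0 := by omega
  have h2 : (2 * P) % 2 = 0 := by omega
  have h3 : 2 * P < 56 := by omega
  have h4 : 2 * P + 1 - 1 = 2 * P := by omega
  simp [h2, h3, h4]

/-- multiplication by `i` on masks -/
theorem rulDec_mulI (s n : ℕ) : rulDec (rulMulS s) (rulMulN s n) 0 = gI • rulDec s n 0 := by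
  funext p
  have hP : 4 * p.1.val + p.2.val < 28 := by
    have h1 := p.1.isLt
    have h2 := p.2.isLt
    omega
  set P := 4 * p.1.val + p.2.val
  show (⟨rulVal (rulMulS s) (rulMulN s n) 0 (2 * P), rulVal (rulMulS s) (rulMulN s n) 0 (2 * P + 1)⟩
    : GaussianInt) = gI * ⟨rulVal s n 0 (2 * P), rulVal s n 0 (2 * P + 1)⟩
  have h1 : rulVal (rulMulS s) (rulMulN s n) 0 (2 * P) = - rulVal s n 0 (2 * P + 1) := by
    unfold rulVal
    rw [rulMulS_even s hP, rulMulN_even s n hP, Nat.testBit_xor]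
    simp only [Nat.zero_testBit]
    cases s.testBit (2 * P + 1) <;> cases n.testBit (2 * P + 1) <;> simp
  have h2 : rulVal (rulMulS s) (rulMulN s n) 0 (2 * P + 1) = rulVal s n 0 (2 * P) := by
    unfold rulVal
    rw [rulMulS_odd s hP, rulMulN_odd s n hP]
    simp only [Nat.zero_testBit]
  rw [h1, h2]
  apply Zsqrtd.ext <;> simp [gI]

end Cfsg.Agent.Lib.helper23
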