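import Mathlib
import Cfsg.Prelude.Def_Spor_Ru
import Cfsg.Agent.Lib.Helper29.RvLBasic
import Cfsg.Agent.Lib.helper14.RuAut
import Cfsg.Agent.Lib.helper23.RULLinesA

set_option autoImplicit false

/-!
# The minimal vectors `rulGV idx` have norm 16 and are pairwise different
-/

namespace Cfsg.Agent.Lib.helper23

open Cfsg.Spor Cfsg.Agent.Lib.Helper29 Cfsg.Agent.Lib.helper14

theorem rulGNum_le (p : ℕ → Bool) (m : ℕ) : rulGNum p m ≤ m := by
  induction m with
  | zero => simp [rulGNum]
  | succ m ih =>
    rw [rulGNum_succ]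
    split_ifs <;> omega

theorem rulGNum_full {p : ℕ → Bool} {m : ℕ} (h : rulGNum p m = m) : ∀ k < m, p k = true := by
  induction m with
  | zero => intro k hk; omega
  | succ m ih =>
    rw [rulGNum_succ] at h
    have h1 := rulGNum_le p m
    have h2 : p m = true := by
      by_contra hp
      rw [if_neg hp] at h
      omega
    rw [if_pos h2] at h
    intro k hk
    rcases Nat.lt_succ_iff_lt_or_eq.mp hk with hk' | rfl
    · exact ih (by omega) k hk'
    · exact h2

theorem rulGCntU_num (chk : ℕ → ℕ → Bool) (nb : ℕ) :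
    rulGCntU chk nb 0 = rulGNum (fun i => chk (rulS i) (rulN i)) (64 * nb) := by
  rw [rulGCntU_eq, zero_add, rulGNum_mul]
  refine Finset.sum_congr rfl fun blk _ => ?_
  unfold rulGNum
  refine Finset.sum_congr rfl fun r hr => ?_
  rw [Finset.mem_range] at hr
  beta_reduce
  rw [rulGEnt_S hr, rulGEnt_N hr]

/-- every unit-type entry has weight 16 and its negative positions lie in its support -/
theorem rulL_unit {i : ℕ} (hi : i < 16128) :
    rulN i &&& rulS i = rulN i ∧ rulWt (rulS i) = 16 := by
  have h1 := rulL_unit_ok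
  rw [rulGCntU_num] at h1
  have h2 := rulGNum_full h1 i (by omega)
  beta_reduce at h2
  have h3 : Nat.beq (Nat.land (rulN i) (rulS i)) (rulN i) = true := by
    cases hb : Nat.beq (Nat.land (rulN i) (rulS i)) (rulN i)
    · rw [hb] at h2
      exact absurd h2 (by simp)
    · rfl
  rw [h3, cond_true, Nat.beq_eq] at h2
  rw [Nat.beq_eq] at h3
  rw [rulWtF_eq (rulS_lt i)] at h2
  exact ⟨h3, h2⟩

/-- the sorting key of a unit-type entry -/
def rulLKey (i : ℕ) : ℕ := rulS i * 72057594037927936 + rulN i

theorem rulLKey_succ {i : ℕ} (hi : i < 16127) : rulLKey i < rulLKey (i + 1) := by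
  have h := (pgAllR_iff 0 16127 _).1 rulL_sorted i hi
  rw [zero_add, Nat.blt_eq] at h
  exact h

theorem rulLKey_lt {i j : ℕ} (hij : i < j) (hj : j < 16128) : rulLKey i < rulLKey j := by
  induction j with
  | zero => omega
  | succ j ih =>
    rcases Nat.lt_succ_iff_lt_or_eq.mp hij with h | rfl
    · exact lt_trans (ih h (by omega)) (rulLKey_succ (by omega))
    · exact rulLKey_succ (by omega)

theorem rulL_key_inj {i i' : ℕ} (hi : i < 16128) (hi' : i' < 16128) (hs : rulS i = rulS i')
    (hn : rulN i = rulN i') : i = i' := by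
  have hk : rulLKey i = rulLKey i' := by unfold rulLKey; rw [hs, hn]
  rcases Nat.lt_trichotomy i i' with h | h | h
  · exact absurd hk (rulLKey_lt h hi').ne
  · exact h
  · exact absurd hk (rulLKey_lt h hi).ne'

theorem rulG_re_smul2 (a a' : ℕ) (x y : RuVec) :
    (rvlHerm ((a : GaussianInt) • x) ((a' : GaussianInt) • y)).re
      = (a : ℤ) * (a' : ℤ) * (rvlHerm x y).re := by
  rw [rulG_re_smul, rvlHerm_smul_right]
  simp [Zsqrtd.re_mul]
  ring

theorem rulG_norm_dec (a s n : ℕ) :
    ruNorm ((a : GaussianInt) • rulDec s n 0) = (a : ℤ) * a * rulWt s := by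
  rw [ruNorm_smul, Zsqrtd.norm_natCast]
  have h1 : (rvlHerm (rulDec s n 0) (rulDec s n 0)).re = ruNorm (rulDec s n 0) := by
    rw [rvlHerm_self]
    simp
  rw [← h1, rulG_re, Nat.and_self, Nat.xor_self, Nat.and_zero, rulWt_zero]
  push_cast
  ring

theorem rulGA_frame {idx : ℕ} (h : ¬ idx < 16128) : rulGA idx = 4 := by
  have h' : Nat.blt idx 16128 = false := by
    rw [← Bool.not_eq_true, Nat.blt_eq]
    exact h
  unfold rulGA
  rw [h', cond_false]

theorem rulGS_frame {idx : ℕ} (h : ¬ idx < 16128) : rulGS idx = 2 ^ ((idx - 16128) / 2) := by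
  have h' : Nat.blt idx 16128 = false := by
    rw [← Bool.not_eq_true, Nat.blt_eq]
    exact h
  unfold rulGS
  rw [h', cond_false]
  show 1 <<< ((idx - 16128) / 2) = _
  rw [Nat.shiftLeft_eq, one_mul]

theorem rulGA_unit {idx : ℕ} (h : idx < 16128) : rulGA idx = 1 := by
  have h' : Nat.blt idx 16128 = true := by rw [Nat.blt_eq]; exact h
  unfold rulGA
  rw [h', cond_true]

theorem rulGS_unit {idx : ℕ} (h : idx < 16128) : rulGS idx = rulS idx := by
  have h' : Nat.blt idx 16128 = true := by rw [Nat.blt_eq]; exact h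
  unfold rulGS
  rw [h', cond_true]

theorem rulGN_unit {idx : ℕ} (h : idx < 16128) : rulGN idx = rulN idx := by
  have h' : Nat.blt idx 16128 = true := by rw [Nat.blt_eq]; exact h
  unfold rulGN
  rw [h', cond_true]

/-- the weight of the support of a minimal vector -/
theorem rulGS_wt {idx : ℕ} (hidx : idx < 16240) :
    rulGA idx * rulGA idx * rulWt (rulGS idx) = 16 := by
  by_cases h : idx < 16128
  · rw [rulGA_unit h, rulGS_unit h, (rulL_unit h).2]
  · rw [rulGA_frame h, rulGS_frame h, rulWt_two_pow (by omega)]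

/-- (L2) the minimal vectors have norm 16 -/
theorem rulGV_norm {idx : ℕ} (hidx : idx < 16240) : ruNorm (rulGV idx) = 16 := by
  unfold rulGV
  rw [rulG_norm_dec]
  exact_mod_cast rulGS_wt hidx

theorem rul_sub_eq_of_wt {a b : ℕ} (hab : a &&& b = a) (hb : b < 2 ^ 56)
    (hw : rulWt a = rulWt b) : a = b := by
  have h1 := rulWt_xor a b
  rw [hab] at h1
  have h2 : rulWt (a ^^^ b) = 0 := by omega
  have ha : a < 2 ^ 56 := by rw [← hab]; exact rul_and_lt_right _ hb
  have h3 : a ^^^ b = 0 := rulWt_eq_zero (Nat.xor_lt_two_pow ha hb) h2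
  exact xor_eq_zero_iff.1 h3

/-- the minimal vectors `rulGV idx`, `idx < 16240`, are pairwise different -/
theorem rulGV_inj {i i' : ℕ} (hi : i < 16240) (hi' : i' < 16240) (h : rulGV i = rulGV i') :
    i = i' := by
  have h16 : (rvlHerm (rulGV i) (rulGV i')).re = 16 := by
    rw [← h, rvlHerm_self, rulGV_norm hi]
    simp
  have hre : ((rulGA i : ℤ) * (rulGA i' : ℤ)) * ((rulWt (rulGS i &&& rulGS i') : ℤ)
      - 2 * (rulWt (rulGS i &&& rulGS i' &&& (rulGN i ^^^ rulGN i')) : ℤ)) = 16 := by
    rw [← rulG_re, ← rulG_re_smul2]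
    exact h16
  have hw1 : rulWt (rulGS i &&& rulGS i') ≤ rulWt (rulGS i) := rulWt_le_of_sub _ _ (by
    apply Nat.eq_of_testBit_eq
    intro j
    simp only [Nat.testBit_and]
    cases (rulGS i).testBit j <;> cases (rulGS i').testBit j <;> rfl)
  have hw2 : rulWt (rulGS i &&& rulGS i') ≤ rulWt (rulGS i') := rulWt_le_of_sub _ _ (by
    apply Nat.eq_of_testBit_eq
    intro j
    simp only [Nat.testBit_and]
    cases (rulGS i).testBit j <;> cases (rulGS i').testBit j <;> rfl)
  generalize hw : rulWt (rulGS i &&& rulGS i') = w at hre hw1 hw2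
  generalize hv : rulWt (rulGS i &&& rulGS i' &&& (rulGN i ^^^ rulGN i')) = v at hre
  by_cases hu : i < 16128
  · by_cases hu' : i' < 16128
    · -- both of unit type
      rw [rulGA_unit hu, rulGA_unit hu'] at hre
      rw [rulGS_unit hu, (rulL_unit hu).2] at hw1
      rw [rulGS_unit hu', (rulL_unit hu').2] at hw2
      push_cast at hre
      have hw16 : w = 16 := by omega
      have hv0 : v = 0 := by omega
      rw [rulGS_unit hu, rulGS_unit hu'] at hw
      rw [rulGS_unit hu, rulGS_unit hu', rulGN_unit hu, rulGN_unit hu'] at hv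
      have e1 : rulS i &&& rulS i' = rulS i := by
        apply rul_sub_eq_of_wt _ (rulS_lt i)
        · rw [hw, hw16, (rulL_unit hu).2]
        · apply Nat.eq_of_testBit_eq
          intro j
          simp only [Nat.testBit_and]
          cases (rulS i).testBit j <;> cases (rulS i').testBit j <;> rfl
      have e2 : rulS i &&& rulS i' = rulS i' := by
        apply rul_sub_eq_of_wt _ (rulS_lt i')
        · rw [hw, hw16, (rulL_unit hu').2]
        · apply Nat.eq_of_testBit_eq
          intro j
          simp only [Nat.testBit_and]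
          cases (rulS i).testBit j <;> cases (rulS i').testBit j <;> rfl
      have hs : rulS i = rulS i' := e1.symm.trans e2
      have e3 : rulS i &&& (rulN i ^^^ rulN i') = 0 := by
        rw [e1] at hv
        exact rulWt_eq_zero (rul_and_lt_left _ (rulS_lt i)) (hv.trans hv0)
      have e4 : rulN i ^^^ rulN i' = 0 := by
        have hn1 := (rulL_unit hu).1
        have hn2 := (rulL_unit hu').1
        rw [← hs] at hn2
        apply Nat.eq_of_testBit_eq
        intro j
        have h1 := congrArg (fun x => x.testBit j) e3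
        have h2 := congrArg (fun x => x.testBit j) hn1
        have h3 := congrArg (fun x => x.testBit j) hn2
        simp only [Nat.testBit_and, Nat.testBit_xor, Nat.zero_testBit] at h1 h2 h3 ⊢
        revert h1 h2 h3
        cases (rulS i).testBit j <;> cases (rulN i).testBit j <;> cases (rulN i').testBit j <;> simp
      exact rulL_key_inj hu hu' hs (xor_eq_zero_iff.1 e4)
    · -- unit type against a frame vector
      exfalso
      rw [rulGA_unit hu, rulGA_frame hu'] at hre
      rw [rulGS_frame hu', rulWt_two_pow (by omega)] at hw2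
      push_cast at hre
      omega
  · by_cases hu' : i' < 16128
    · exfalso
      rw [rulGA_frame hu, rulGA_unit hu'] at hre
      rw [rulGS_frame hu, rulWt_two_pow (by omega)] at hw1
      push_cast at hre
      omega
    · -- two frame vectors
      by_contra hne
      obtain ⟨r, rfl⟩ : ∃ r, i = 16128 + r := ⟨i - 16128, by omega⟩
      obtain ⟨r', rfl⟩ : ∃ r', i' = 16128 + r' := ⟨i' - 16128, by omega⟩
      have hc := rulL_frame r (by omega) r' (by omega) (fun e => hne (by rw [e]))
      apply hc
      have h4 := rulGCodeM_eq (a := 4) (rulGN (16128 + r)) (rulGS (16128 + r')) (rulGN (16128 + r'))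
        (le_refl 4) (rulGS_lt hi)
      rw [rulG_re] at h4
      rw [rulGA_frame hu, rulGA_frame hu'] at hre
      have h5 : ((w : ℤ) - 2 * v) = 1 := by
        have : ((4 : ℕ) : ℤ) * ((4 : ℕ) : ℤ) * ((w : ℤ) - 2 * v) = 16 := hre
        push_cast at this
        omega
      rw [hw, hv, h5] at h4
      exact_mod_cast h4

end Cfsg.Agent.Lib.helper23
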