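import Mathlib
import Cfsg.Prelude.Def_Spor_Ru
import Cfsg.Agent.Lib.Helper29.RvLBasic
import Cfsg.Agent.Lib.helper23.RULLinesB

set_option autoImplicit false

/-!
# The 4060 lines of minimal vectors of the Rudvalis lattice

`rulRep j`, `j < 4060`, is a representative of the line number `j` (numbering of the points of
`pgGrpW 4060 ruC`).  Every minimal vector is `gI ^ k • rulRep j` for exactly one `j < 4060`.
-/

namespace Cfsg.Agent.Lib.helper23

open Cfsg.Spor Cfsg.Agent.Lib.Helper29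

theorem rulL_LP {m : ℕ} (hm : m < 16240) : rulLP m < 16240 ∧ rulLI (rulLP m) = m := by
  have h := (pgAllR_iff 0 16240 _).1 rulL_tab1 m hm
  rw [zero_add, pgForce_eq] at h
  cases hb : Nat.blt (rulLP m) 16240
  · rw [hb] at h
    exact absurd h (by simp)
  · rw [hb, cond_true, Nat.beq_eq] at h
    rw [Nat.blt_eq] at hb
    exact ⟨hb, h⟩

theorem rulL_LI {t : ℕ} (ht : t < 16240) : rulLI t < 16240 ∧ rulLP (rulLI t) = t := by
  have h := (pgAllR_iff 0 16240 _).1 rulL_tab2 t ht
  rw [zero_add, pgForce_eq] at h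
  cases hb : Nat.blt (rulLI t) 16240
  · rw [hb] at h
    exact absurd h (by simp)
  · rw [hb, cond_true, Nat.beq_eq] at h
    rw [Nat.blt_eq] at hb
    exact ⟨hb, h⟩

theorem rulL_step {t : ℕ} (ht : t < 16240) (h4 : t % 4 ≠ 0) :
    rulGV (rulLI t) = gI • rulGV (rulLI (t - 1)) := by
  have h := (pgAllR_iff 0 16240 _).1 rulL_tab3 t ht
  rw [zero_add] at h
  have hb : Nat.beq (Nat.mod t 4) 0 = false := by
    cases hb : Nat.beq (Nat.mod t 4) 0
    · rfl
    · rw [Nat.beq_eq] at hb
      exact absurd hb h4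
  rw [hb, cond_false, pgForce_eq, pgForce_eq, pgForce_eq, pgForce_eq] at h
  have e : Nat.sub t 1 = t - 1 := rfl
  rw [e] at h
  cases h1 : Nat.beq (rulGA (rulLI t)) (rulGA (rulLI (t - 1)))
  · rw [h1] at h
    exact absurd h (by simp)
  · rw [h1, cond_true] at h
    cases h2 : Nat.beq (rulGS (rulLI t)) (rulMulS (rulGS (rulLI (t - 1))))
    · rw [h2] at h
      exact absurd h (by simp)
    · rw [h2, cond_true, Nat.beq_eq] at h
      rw [Nat.beq_eq] at h1 h2
      unfold rulGV
      rw [h1, h2, h, rulDec_mulI, smul_comm]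

theorem rul_gI_pow_four : gI ^ 4 = 1 := by
  have h : gI * gI = -1 := rvl_gI_mul_gI
  calc gI ^ 4 = (gI * gI) * (gI * gI) := by ring
    _ = 1 := by rw [h]; ring

theorem rul_gI_pow_mod (k : ℕ) : gI ^ k = gI ^ (k % 4) := by
  conv_lhs => rw [← Nat.div_add_mod k 4]
  rw [pow_add, pow_mul, rul_gI_pow_four, one_pow, one_mul]

/-- the table `rulLI` lists the multiples of the representatives by the powers of `i` -/
theorem rulL_line {j k : ℕ} (hj : j < 4060) (hk : k < 4) :
    rulGV (rulLI (4 * j + k)) = gI ^ k • rulRep j := by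
  induction k with
  | zero => rw [pow_zero, one_smul]; rfl
  | succ k ih =>
    have h1 := rulL_step (t := 4 * j + (k + 1)) (by omega) (by omega)
    have e : 4 * j + (k + 1) - 1 = 4 * j + k := by omega
    rw [e, ih (by omega)] at h1
    rw [h1, smul_smul, pow_succ']

theorem rulRepIdx_lt {j : ℕ} (hj : j < 4060) : rulRepIdx j < 16240 :=
  (rulL_LI (t := 4 * j) (by omega)).1

/-- (L2) the representatives have norm 16 -/
theorem rulRep_norm {j : ℕ} (hj : j < 4060) : ruNorm (rulRep j) = 16 :=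
  rulGV_norm (rulRepIdx_lt hj)

theorem rulRep_min {j : ℕ} (hj : j < 4060) : rulRep j ∈ rulMin :=
  (rulMin_iff _).2 ⟨_, rulRepIdx_lt hj, rfl⟩

/-- (L1) the representatives lie in the lattice -/
theorem rulRep_mem (hmem : ∀ x ∈ rulMin, x ∈ ruLattice) {j : ℕ} (hj : j < 4060) :
    rulRep j ∈ ruLattice :=
  hmem _ (rulRep_min hj)

/-- every minimal vector `rulGV m` is a unit multiple of a representative -/
theorem rulGV_line {m : ℕ} (hm : m < 16240) :
    rulLP m / 4 < 4060 ∧ rulGV m = gI ^ (rulLP m % 4) • rulRep (rulLP m / 4) := by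
  obtain ⟨h1, h2⟩ := rulL_LP hm
  have hj : rulLP m / 4 < 4060 := by omega
  refine ⟨hj, ?_⟩
  have h3 := rulL_line hj (Nat.mod_lt (rulLP m) (by norm_num : 0 < 4))
  rw [Nat.div_add_mod, h2] at h3
  exact h3

/-- (L3) every minimal vector of the lattice is a unit multiple of a representative -/
theorem rulRep_complete (hmin : ∀ x ∈ ruLattice, ruNorm x = 16 → x ∈ rulMin) {x : RuVec}
    (hx : x ∈ ruLattice) (hn : ruNorm x = 16) : ∃ j < 4060, ∃ k : ℕ, x = gI ^ k • rulRep j := by
  obtain ⟨m, hm, rfl⟩ := (rulMin_iff x).1 (hmin x hx hn)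
  obtain ⟨h1, h2⟩ := rulGV_line hm
  exact ⟨_, h1, _, h2⟩

/-- (L4) different representatives span different lines -/
theorem rulRep_inj {j j' k : ℕ} (hj : j < 4060) (hj' : j' < 4060)
    (h : rulRep j' = gI ^ k • rulRep j) : j = j' := by
  rw [rul_gI_pow_mod k, ← rulL_line hj (Nat.mod_lt k (by norm_num : 0 < 4))] at h
  have h0 : rulRep j' = rulGV (rulLI (4 * j' + 0)) := rfl
  rw [h0] at h
  have ht : 4 * j + k % 4 < 16240 := by
    have := Nat.mod_lt k (by norm_num : 0 < 4)
    omega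
  have ht' : 4 * j' + 0 < 16240 := by omega
  have h1 := rulGV_inj (rulL_LI ht').1 (rulL_LI ht).1 h
  have h2 := congrArg rulLP h1
  rw [(rulL_LI ht').2, (rulL_LI ht).2] at h2
  omega

/-- the phase is determined too -/
theorem rulRep_inj' {j j' k k' : ℕ} (hj : j < 4060) (hj' : j' < 4060)
    (h : gI ^ k' • rulRep j' = gI ^ k • rulRep j) : j = j' ∧ k % 4 = k' % 4 := by
  rw [rul_gI_pow_mod k, rul_gI_pow_mod k',
    ← rulL_line hj (Nat.mod_lt k (by norm_num : 0 < 4)),
    ← rulL_line hj' (Nat.mod_lt k' (by norm_num : 0 < 4))] at h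
  have ht : 4 * j + k % 4 < 16240 := by
    have := Nat.mod_lt k (by norm_num : 0 < 4)
    omega
  have ht' : 4 * j' + k' % 4 < 16240 := by
    have := Nat.mod_lt k' (by norm_num : 0 < 4)
    omega
  have h1 := rulGV_inj (rulL_LI ht').1 (rulL_LI ht).1 h
  have h2 := congrArg rulLP h1
  rw [(rulL_LI ht').2, (rulL_LI ht).2] at h2
  have := Nat.mod_lt k (by norm_num : 0 < 4)
  have := Nat.mod_lt k' (by norm_num : 0 < 4)
  omega

end Cfsg.Agent.Lib.helper23
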