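import Mathlib
import Cfsg.Prelude.Def_Spor_Ru
import Cfsg.Agent.Lib.Helper29.RULinesA
import Cfsg.Agent.Lib.helper23.RULLines
import Cfsg.Agent.Lib.helper23.RULWordsData

set_option autoImplicit false

/-!
# The monomial generators `ruRj`, `ruRk`, `ruSign`, `ruShift` on the representatives of the lines

Each of the four maps is a signed permutation of the 56 real coordinates; the images of the 4060
representatives are compared with the tables `rulGenF`, `rulGenPh` bit by bit.
-/

namespace Cfsg.Agent.Lib.helper23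

open Cfsg.Spor Cfsg.Agent.Lib.Helper29

/-- the monomial letter `L`: `0 = ruRj`, `1 = ruRk`, `2 = ruSign`, `3 = ruShift` -/
def rulMFun (L : ℕ) : RuVec → RuVec :=
  match L with
  | 0 => ruRj
  | 1 => ruRk
  | 2 => ruSign
  | _ => ruShift

/-- the real coordinate from which the letter `L` takes the real coordinate `k` -/
def rulMPi (L k : ℕ) : ℕ :=
  match L with
  | 0 => Nat.add (Nat.mul 8 (Nat.div k 8)) ([3, 2, 1, 0, 6, 7, 4, 5].getD (Nat.mod k 8) 0)
  | 1 => Nat.add (Nat.mul 8 (Nat.div k 8)) ([5, 4, 6, 7, 1, 0, 2, 3].getD (Nat.mod k 8) 0)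
  | 2 => k
  | _ => Nat.mod (Nat.add k 8) 56

/-- whether the letter `L` changes the sign at the real coordinate `k` -/
def rulMNeg (L k : ℕ) : Bool :=
  match L with
  | 0 => [true, false, true, false, false, false, true, true].getD (Nat.mod k 8) false
  | 1 => [true, false, true, true, true, false, false, false].getD (Nat.mod k 8) false
  | 2 => [true, false, false, true, false, true, true].getD (Nat.div k 8) false
  | _ => false

theorem rulMPi_lt : ∀ L < 4, ∀ k < 56, rulMPi L k < 56 := by decide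

theorem rulMPi_eq0 (k : ℕ) :
    rulMPi 0 k = 8 * (k / 8) + [3, 2, 1, 0, 6, 7, 4, 5].getD (k % 8) 0 := rfl

theorem rulMPi_eq1 (k : ℕ) :
    rulMPi 1 k = 8 * (k / 8) + [5, 4, 6, 7, 1, 0, 2, 3].getD (k % 8) 0 := rfl

theorem rulMPi_eq2 (k : ℕ) : rulMPi 2 k = k := rfl

theorem rulMPi_eq3 (k : ℕ) : rulMPi 3 k = (k + 8) % 56 := rfl

theorem rulMNeg_eq0 (k : ℕ) :
    rulMNeg 0 k = [true, false, true, false, false, false, true, true].getD (k % 8) false := rfl

theorem rulMNeg_eq1 (k : ℕ) :
    rulMNeg 1 k = [true, false, true, true, true, false, false, false].getD (k % 8) false := rfl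

theorem rulMNeg_eq2 (k : ℕ) :
    rulMNeg 2 k = [true, false, false, true, false, true, true].getD (k / 8) false := rfl

theorem rulMNeg_eq3 (k : ℕ) : rulMNeg 3 k = false := rfl

theorem rulM_coord0 (x : RuVec) : ∀ k < 56, rulCoord (ruRj x) k =
    (if rulMNeg 0 k then -1 else 1) * rulCoord x (rulMPi 0 k) := by
  intro k hk
  rw [rulMPi_eq0, rulMNeg_eq0]
  interval_cases k <;> simp [rulCoord, rulIdx, ruRj, gI, Fin.ofNat]

theorem rulM_coord1 (x : RuVec) : ∀ k < 56, rulCoord (ruRk x) k =
    (if rulMNeg 1 k then -1 else 1) * rulCoord x (rulMPi 1 k) := by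
  intro k hk
  rw [rulMPi_eq1, rulMNeg_eq1]
  interval_cases k <;> simp [rulCoord, rulIdx, ruRk, gI, Fin.ofNat]

theorem rulM_coord2 (x : RuVec) : ∀ k < 56, rulCoord (ruSign x) k =
    (if rulMNeg 2 k then -1 else 1) * rulCoord x (rulMPi 2 k) := by
  intro k hk
  rw [rulMPi_eq2, rulMNeg_eq2]
  interval_cases k <;> simp [rulCoord, rulIdx, ruSign, Fin.ofNat]

theorem rulM_coord3 (x : RuVec) : ∀ k < 56, rulCoord (ruShift x) k =
    (if rulMNeg 3 k then -1 else 1) * rulCoord x (rulMPi 3 k) := by
  intro k hk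
  rw [rulMPi_eq3, rulMNeg_eq3]
  interval_cases k <;> simp [rulCoord, rulIdx, ruShift, Fin.ofNat]

/-- the monomial letters are signed permutations of the real coordinates -/
theorem rulM_coord {L : ℕ} (hL : L < 4) (x : RuVec) {k : ℕ} (hk : k < 56) :
    rulCoord (rulMFun L x) k = (if rulMNeg L k then -1 else 1) * rulCoord x (rulMPi L k) := by
  interval_cases L
  · exact rulM_coord0 x k hk
  · exact rulM_coord1 x k hk
  · exact rulM_coord2 x k hk
  · exact rulM_coord3 x k hk

theorem rul_ext_coord {x y : RuVec} (h : ∀ k < 56, rulCoord x k = rulCoord y k) : x = y := by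
  funext p
  have h1 := rubK_lt p
  apply Zsqrtd.ext
  · rw [← rub_coord_re x p, ← rub_coord_re y p]
    exact h _ (by omega)
  · rw [← rub_coord_im x p, ← rub_coord_im y p]
    exact h _ h1

theorem rulCoord_nsmul (a : ℕ) (x : RuVec) (k : ℕ) :
    rulCoord ((a : GaussianInt) • x) k = (a : ℤ) * rulCoord x k := by
  unfold rulCoord
  split <;> simp

/-- real coordinates of the minimal vector number `idx` -/
theorem rulCoord_GV (idx : ℕ) {k : ℕ} (hk : k < 56) :
    rulCoord (rulGV idx) k = (rulGA idx : ℤ) * rulVal (rulGS idx) (rulGN idx) 0 k := by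
  unfold rulGV
  rw [rulCoord_nsmul, rub_coord_dec _ _ _ hk]

/-- the test: the letter `L` maps `a • rulDec s n 0` to `a2 • rulDec s2 n2 0` -/
def rulMTest (L a s n a2 s2 n2 : ℕ) : Bool :=
  cond (Nat.beq a a2)
    (pgAllR 0 56 (fun k => pgForce (rulMPi L k) fun k' =>
      cond (rulBeq (rulBit s2 k) (rulBit s k'))
        (cond (rulBit s k') (rulBeq (rulBit n2 k) (xor (rulBit n k') (rulMNeg L k))) true)
        false))
    false

theorem rulMTest_sound {L idx idx2 : ℕ} (hL : L < 4)
    (h : rulMTest L (rulGA idx) (rulGS idx) (rulGN idx) (rulGA idx2) (rulGS idx2) (rulGN idx2) = true) :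
    rulMFun L (rulGV idx) = rulGV idx2 := by
  unfold rulMTest at h
  cases ha : Nat.beq (rulGA idx) (rulGA idx2)
  · rw [ha] at h
    exact absurd h (by simp)
  · rw [ha, cond_true] at h
    rw [Nat.beq_eq] at ha
    apply rul_ext_coord
    intro k hk
    have hk' := rulMPi_lt L hL k hk
    rw [rulM_coord hL _ hk, rulCoord_GV idx hk', rulCoord_GV idx2 hk, ← ha]
    have h1 := (pgAllR_iff 0 56 _).1 h k hk
    rw [zero_add, pgForce_eq] at h1
    simp only [rulBit_eq] at h1
    unfold rulVal
    simp only [Nat.zero_testBit]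
    cases hs : rulBeq ((rulGS idx2).testBit k) ((rulGS idx).testBit (rulMPi L k))
    · rw [hs] at h1
      exact absurd h1 (by simp)
    · rw [hs, cond_true] at h1
      rw [rulBeq_iff] at hs
      rw [hs]
      cases hb : (rulGS idx).testBit (rulMPi L k)
      · simp
      · rw [hb, cond_true, rulBeq_iff] at h1
        rw [h1]
        cases (rulGN idx).testBit (rulMPi L k) <;> cases rulMNeg L k <;> simp

end Cfsg.Agent.Lib.helper23
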