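import Mathlib
import Cfsg.Prelude.Def_Spor_Ru
import Cfsg.Agent.Lib.Helper29.RULinesDefs
import Cfsg.Agent.Lib.helper23.RULMono

set_option autoImplicit false

/-!
# Kernel checks: the monomial letters on the 4060 representatives
-/

namespace Cfsg.Agent.Lib.helper23

open Cfsg.Spor Cfsg.Agent.Lib.Helper29

/-- the letter `L` maps the representative of the line `j` to the minimal vector number
`rulLI (4 * rulGenF L j + rulGenPh L j)`, for all `j < 4060` -/
def rulMChk (L : ℕ) : Bool :=
  pgAllR 0 4060 (fun j =>
    pgForce (rulRepIdx j) fun idx =>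
    pgForce (rulLI (Nat.add (Nat.mul 4 (rulGenF L j)) (rulGenPh L j))) fun idx2 =>
    pgForce (rulGA idx) fun a => pgForce (rulGS idx) fun s => pgForce (rulGN idx) fun n =>
    pgForce (rulGA idx2) fun a2 => pgForce (rulGS idx2) fun s2 => pgForce (rulGN idx2) fun n2 =>
      rulMTest L a s n a2 s2 n2)

theorem rulMChk0 : rulMChk 0 = true := by decide +kernel
theorem rulMChk1 : rulMChk 1 = true := by decide +kernel
theorem rulMChk2 : rulMChk 2 = true := by decide +kernel
theorem rulMChk3 : rulMChk 3 = true := by decide +kernel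

/-- the representatives `rulRep` are those of `ruLineRep` -/
theorem rulRepCode_chk : pgAllR 0 4060 (fun j => pgForce (ruLnCode j) fun c =>
    cond (Nat.blt c 16128) (Nat.beq (rulRepIdx j) c)
      (cond (Nat.blt c 16156)
        (Nat.beq (rulRepIdx j) (Nat.add 16128 (Nat.add (Nat.mul 4 (Nat.sub c 16128)) 1))) false)) = true := by
  decide +kernel

end Cfsg.Agent.Lib.helper23
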