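import Mathlib
import Cfsg.Prelude.Def_Spor_Ru
import Cfsg.Agent.Lib.Helper29.RULinesDefs
import Cfsg.Agent.Lib.helper23.RULWords
import Cfsg.Agent.Lib.helper23.RULMonoChk

set_option autoImplicit false

/-!
# The monomial generators of the Rudvalis lattice on the lines of minimal vectors

`ruRj`, `ruRk`, `ruSign`, `ruShift` map the representative of the line `j` to a unit multiple of the
representative of the line `rulGenF L j` (`L = 0, 1, 2, 3`).
-/

namespace Cfsg.Agent.Lib.helper23

open Cfsg.Spor Cfsg.Agent.Lib.Helper29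

theorem rulMChk_all {L : ℕ} (hL : L < 4) : rulMChk L = true := by
  interval_cases L
  exacts [rulMChk0, rulMChk1, rulMChk2, rulMChk3]

theorem rulGenPh_lt (L j : ℕ) : rulGenPh L j < 4 := by
  have h : rulGenPh L j = (rulGenP L >>> (2 * j)) &&& 3 := rfl
  rw [h]
  exact lt_of_le_of_lt Nat.and_le_right (by norm_num)

/-- the monomial letter `L` on the representative of the line `j` -/
theorem rul_letter {L : ℕ} (hL : L < 4) {j : ℕ} (hj : j < 4060) :
    rulMFun L (rulRep j) = gI ^ (rulGenPh L j) • rulRep (rulGenF L j) := by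
  have h := (pgAllR_iff 0 4060 _).1 (rulMChk_all hL) j hj
  rw [zero_add] at h
  simp only [pgForce_eq] at h
  have h1 := rulMTest_sound hL h
  have h2 := rulL_line (rulGenF_lt (by omega : L < 5) hj) (rulGenPh_lt L j)
  have e : Nat.add (Nat.mul 4 (rulGenF L j)) (rulGenPh L j) = 4 * rulGenF L j + rulGenPh L j := rfl
  rw [e, h2] at h1
  exact h1

/-- the representatives `rulRep` are those of `ruLineRep` -/
theorem rulRep_eq_lineRep {j : ℕ} (hj : j < 4060) : rulRep j = ruLineRep j := by
  have h := (pgAllR_iff 0 4060 _).1 rulRepCode_chk j hj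
  rw [zero_add, pgForce_eq] at h
  by_cases hc : ruLnCode j < 16128
  · have hb : Nat.blt (ruLnCode j) 16128 = true := by rw [Nat.blt_eq]; exact hc
    rw [hb, cond_true, Nat.beq_eq] at h
    unfold rulRep ruLineRep
    rw [if_pos hc, h, rulGV_of_lt hc]
  · have hb : Nat.blt (ruLnCode j) 16128 = false := by
      rw [← Bool.not_eq_true, Nat.blt_eq]
      exact hc
    rw [hb, cond_false] at h
    cases hb2 : Nat.blt (ruLnCode j) 16156
    · rw [hb2] at h
      exact absurd h (by simp)
    · rw [hb2, cond_true, Nat.beq_eq] at h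
      rw [Nat.blt_eq] at hb2
      have e : Nat.add 16128 (Nat.add (Nat.mul 4 (Nat.sub (ruLnCode j) 16128)) 1)
          = 16128 + (4 * (ruLnCode j - 16128) + 1) := rfl
      rw [e] at h
      unfold rulRep ruLineRep
      rw [if_neg hc, h, rulG_frame (by omega)]
      have e1 : (4 * (ruLnCode j - 16128) + 1) / 4 = ruLnCode j - 16128 := by omega
      have e2 : (4 * (ruLnCode j - 16128) + 1) % 4 = 1 := by omega
      rw [e1, e2]
      congr 1

theorem rul_letter_line {L : ℕ} (hL : L < 4) {j : ℕ} (hj : j < 4060) :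
    rulMFun L (ruLineRep j) = gI ^ (rulGenPh L j) • ruLineRep (rulGenF L j) := by
  rw [← rulRep_eq_lineRep hj, ← rulRep_eq_lineRep (rulGenF_lt (by omega : L < 5) hj)]
  exact rul_letter hL hj

/-- `ruRj` on the lines -/
theorem rul_letter_Rj {j : ℕ} (hj : j < 4060) :
    ∃ k : ℕ, ruRj (ruLineRep j) = gI ^ k • ruLineRep (rulGenF 0 j) :=
  ⟨_, rul_letter_line (by norm_num : 0 < 4) hj⟩

/-- `ruRk` on the lines -/
theorem rul_letter_Rk {j : ℕ} (hj : j < 4060) :
    ∃ k : ℕ, ruRk (ruLineRep j) = gI ^ k • ruLineRep (rulGenF 1 j) :=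
  ⟨_, rul_letter_line (by norm_num : 1 < 4) hj⟩

/-- `ruSign` on the lines -/
theorem rul_letter_Sign {j : ℕ} (hj : j < 4060) :
    ∃ k : ℕ, ruSign (ruLineRep j) = gI ^ k • ruLineRep (rulGenF 2 j) :=
  ⟨_, rul_letter_line (by norm_num : 2 < 4) hj⟩

/-- `ruShift` on the lines -/
theorem rul_letter_Shift {j : ℕ} (hj : j < 4060) :
    ∃ k : ℕ, ruShift (ruLineRep j) = gI ^ k • ruLineRep (rulGenF 3 j) :=
  ⟨_, rul_letter_line (by norm_num : 3 < 4) hj⟩

end Cfsg.Agent.Lib.helper23
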