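import Mathlib
import Cfsg.Agent.Lib.helper3.S5953.Defs

set_option autoImplicit false

/-!
# Project S5953 (designer helper3), rows X2 (`n1_root`) + R5 (`two_arith`) (helper23).
-/

namespace Cfsg.Agent.Lib.helper3.S5953

open Polynomial Module

/-- X2 [S-M] N1ROOT: `gcd(r, q + 1) = 1`: every element of norm one is an `r`-th power of one. -/
theorem n1_root {F : Type*} [Field F] {q r : ℕ} (hcop : Nat.Coprime r (q + 1)) (z : F)
    (hz : z ^ (q + 1) = 1) : ∃ w : F, w ^ (q + 1) = 1 ∧ w ^ r = z := by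
  by_cases hq : q = 0
  · subst hq
    refine ⟨1, one_pow _, ?_⟩
    rw [one_pow]
    simpa using hz.symm
  · obtain ⟨a, -, ha⟩ := Nat.exists_mul_mod_eq_one_of_coprime hcop (by omega : 1 < q + 1)
    refine ⟨z ^ a, ?_, ?_⟩
    · rw [← pow_mul, mul_comm, pow_mul, hz, one_pow]
    · rw [← pow_mul, mul_comm, ← Nat.div_add_mod (r * a) (q + 1), ha, pow_add, pow_mul, hz, one_pow,
        one_mul, pow_one]

/-- R5 [S-M] TWOARITH: a norm-one `w` with `w ^ n = -1` forces `v_2(n) < v_2(q + 1)`. -/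
theorem two_arith {F : Type*} [Field F] (h2 : (2 : F) ≠ 0) (q n : ℕ) (hn : 0 < n) (w : F)
    (hw : w ^ (q + 1) = 1) (hwn : w ^ n = -1) :
    padicValNat 2 n < padicValNat 2 (q + 1) := by
  have hm1 : (-1 : F) ≠ 1 := by
    intro h
    apply h2
    have : (2 : F) = 1 - (-1) := by ring
    rw [this, h, sub_self]
  obtain ⟨k, m, hm, hnk⟩ := Nat.exists_eq_two_pow_mul_odd (Nat.pos_iff_ne_zero.mp hn)
  have hm0 : m ≠ 0 := by
    rintro rfl
    exact absurd hm (by decide)
  have hv : padicValNat 2 n = k := by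
    rw [hnk, padicValNat.mul (pow_ne_zero _ (by norm_num)) hm0, padicValNat.prime_pow,
      padicValNat.eq_zero_of_not_dvd hm.not_two_dvd_nat,
      add_zero]
  rw [hv]
  -- `u = w ^ m` has order exactly `2 ^ (k + 1)`
  have hu1 : (w ^ m) ^ (2 ^ k) = -1 := by
    rw [← pow_mul, mul_comm, ← hnk]
    exact hwn
  have hu2 : (w ^ m) ^ (2 ^ (k + 1)) = 1 := by
    rw [pow_succ, pow_mul, hu1]
    norm_num
  have hord : orderOf (w ^ m) = 2 ^ (k + 1) :=
    orderOf_eq_prime_pow (by rw [hu1]; exact hm1) hu2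
  have hdvd : 2 ^ (k + 1) ∣ q + 1 := by
    rw [← hord]
    apply orderOf_dvd_of_pow_eq_one
    rw [← pow_mul, mul_comm, pow_mul, hw, one_pow]
  exact (padicValNat_dvd_iff_le (by omega : q + 1 ≠ 0)).mp hdvd

end Cfsg.Agent.Lib.helper3.S5953
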