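import Cfsg.Agent.Lib.Helper21.TOO.LG1
import Cfsg.Agent.Lib.Helper28.TOOPERP

/-!
# Project TOO, row LG3 (`om_trans_pt`, helper23): `Ω` is transitive on singular points.
-/

set_option autoImplicit false
set_option linter.unusedSectionVars false
set_option linter.unusedVariables false

namespace Cfsg.Agent.Lib.Helper28.TOO

open Matrix
open scoped Kronecker
open Cfsg.Agent.Lib.helper7.TP Cfsg.Agent.Lib.Helper21.TS

variable {ι : Type*} [Fintype ι] [DecidableEq ι] {F : Type*} [Field F]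

/-- a non-singular vector perpendicular to a hyperbolic pair (`n ≥ 3`). -/
theorem toolg3_nonsing_perp {J : Matrix ι ι F} (hJ : Jᵀ = J) (two : (2 : F) ≠ 0) (hdet : J.det ≠ 0)
    (hn : 3 ≤ Fintype.card ι) {w w' : ι → F} (hw : bf J w w = 0) (hw' : bf J w' w' = 0)
    (hww' : bf J w w' = 1) :
    ∃ z : ι → F, bf J w z = 0 ∧ bf J w' z = 0 ∧ bf J z z ≠ 0 := by
  classical
  have hw'w : bf J w' w = 1 := by rw [bf_symm hJ]; exact hww'
  set S : Submodule F (ι → F) := Submodule.span F {w, w'} with hS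
  have hSle : Module.finrank F ↥S ≤ 2 := by
    have h1 : Module.finrank F ↥S ≤ ({w, w'} : Finset (ι → F)).card := by
      have := finrank_span_finset_le_card (R := F) ({w, w'} : Finset (ι → F))
      have e : ((({w, w'} : Finset (ι → F)) : Set (ι → F))) = {w, w'} := by simp
      rw [Set.finrank, e] at this
      exact this
    exact h1.trans Finset.card_le_two
  have h2 := tooperp_finrank hJ hdet S
  have hpos : 0 < Module.finrank F ↥(perp J S) := by omega
  obtain ⟨u, hu, hu0⟩ := Submodule.exists_mem_ne_zero_of_ne_bot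
    (fun h : perp J S = ⊥ => by rw [h, finrank_bot] at hpos; exact lt_irrefl _ hpos)
  by_contra hcon
  push Not at hcon
  -- every vector of `perp J S` is singular
  have hsing : ∀ x ∈ perp J S, bf J x x = 0 := by
    intro x hx
    apply hcon x
    · rw [bf_symm hJ]; exact hx w (Submodule.subset_span (by simp))
    · rw [bf_symm hJ]; exact hx w' (Submodule.subset_span (by simp))
  have hpol : ∀ x ∈ perp J S, ∀ y ∈ perp J S, bf J x y = 0 := by
    intro x hx y hy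
    have h1 := hsing (x + y) (Submodule.add_mem _ hx hy)
    rw [bf_add_left, bf_add_right, bf_add_right, hsing x hx, hsing y hy, bf_symm hJ y x] at h1
    have h3 : 2 * bf J x y = 0 := by linear_combination h1
    rcases mul_eq_zero.mp h3 with h4 | h4
    · exact absurd h4 two
    · exact h4
  have huS : u ∈ S := by
    rw [← tooperp_perp_perp hJ hdet S]
    intro y hy
    exact hpol u hu y hy
  obtain ⟨α, β, hαβ⟩ := Submodule.mem_span_pair.mp huS
  have e1 : bf J u w = 0 := hu w (Submodule.subset_span (by simp))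
  have e2 : bf J u w' = 0 := hu w' (Submodule.subset_span (by simp))
  rw [← hαβ, bf_add_left, bf_smul_left, bf_smul_left, hw, hw'w] at e1
  rw [← hαβ, bf_add_left, bf_smul_left, bf_smul_left, hww', hw'] at e2
  have hβ : β = 0 := by linear_combination e1
  have hα : α = 0 := by linear_combination e2
  apply hu0
  rw [← hαβ, hα, hβ, zero_smul, zero_smul, add_zero]

/-- the case `f(w,w') = 1`: a product of two Siegel elements maps `w` to a multiple of `w'`. -/
theorem toolg3_step {J : Matrix ι ι F} (hJ : Jᵀ = J) (two : (2 : F) ≠ 0) (hdet : J.det ≠ 0)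
    (hn : 3 ≤ Fintype.card ι) {w w' : ι → F} (hw : bf J w w = 0) (hw' : bf J w' w' = 0)
    (hww' : bf J w w' = 1) :
    ∃ β ∈ Om J, ∃ c : F, c ≠ 0 ∧ (β : Matrix ι ι F) *ᵥ w = c • w' := by
  have hw'w : bf J w' w = 1 := by rw [bf_symm hJ]; exact hww'
  obtain ⟨z, hwz, hw'z, hzz⟩ := toolg3_nonsing_perp hJ two hdet hn hw hw' hww'
  have hzw : bf J z w = 0 := by rw [bf_symm hJ]; exact hwz
  have hzw' : bf J z w' = 0 := by rw [bf_symm hJ]; exact hw'z
  set κ : F := bf J z z / 2 with hκ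
  have hκ0 : κ ≠ 0 := div_ne_zero hzz two
  have hwz' : bf J w (κ⁻¹ • z) = 0 := by rw [bf_smul_right, hwz, mul_zero]
  obtain ⟨β₁, hβ₁, hβ₁m⟩ := sieg_mem_Om hJ two hdet hw' hw'z
  obtain ⟨β₂, hβ₂, hβ₂m⟩ := sieg_mem_Om hJ two hdet hw hwz'
  refine ⟨β₂ * β₁, Subgroup.mul_mem _ hβ₂ hβ₁, -κ, neg_ne_zero.mpr hκ0, ?_⟩
  rw [Units.val_mul, ← Matrix.mulVec_mulVec, hβ₁m, hβ₂m]
  have h1 : sieg J w' z *ᵥ w = w - z - κ • w' := by
    rw [sieg_mulVec, hzw, hw'w, zero_smul, add_zero, one_smul, mul_one]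
  rw [h1, sieg_mulVec]
  simp only [bf_sub_right, bf_smul_right, bf_smul_left, hw, hww', hwz, hzw, hzw', hw'z]
  funext i
  simp only [Pi.add_apply, Pi.sub_apply, Pi.smul_apply, smul_eq_mul, Pi.neg_apply]
  rw [hκ]
  field_simp
  ring

/-- the case `f(w,w') ≠ 0`. -/
theorem toolg3_step' {J : Matrix ι ι F} (hJ : Jᵀ = J) (two : (2 : F) ≠ 0) (hdet : J.det ≠ 0)
    (hn : 3 ≤ Fintype.card ι) {w w' : ι → F} (hw : bf J w w = 0) (hw' : bf J w' w' = 0)
    (hww' : bf J w w' ≠ 0) :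
    ∃ β ∈ Om J, ∃ c : F, c ≠ 0 ∧ (β : Matrix ι ι F) *ᵥ w = c • w' := by
  have h1 : bf J ((bf J w w')⁻¹ • w') ((bf J w w')⁻¹ • w') = 0 := by
    rw [bf_smul_left, bf_smul_right, hw', mul_zero, mul_zero]
  have h2 : bf J w ((bf J w w')⁻¹ • w') = 1 := by
    rw [bf_smul_right, inv_mul_cancel₀ hww']
  obtain ⟨β, hβ, c, hc, hβw⟩ := toolg3_step hJ two hdet hn hw h1 h2
  refine ⟨β, hβ, c * (bf J w w')⁻¹, mul_ne_zero hc (inv_ne_zero hww'), ?_⟩
  rw [hβw, smul_smul]

/-- LG3 [M]. `Ω` is transitive on singular points. -/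
theorem om_trans_pt {J : Matrix ι ι F} (hJ : Jᵀ = J) (two : (2 : F) ≠ 0) (hdet : J.det ≠ 0)
    (hn : 3 ≤ Fintype.card ι) {w w' : ι → F} (hw0 : w ≠ 0) (hw'0 : w' ≠ 0)
    (hw : bf J w w = 0) (hw' : bf J w' w' = 0) :
    ∃ β ∈ Om J, ∃ c : F, c ≠ 0 ∧ (β : Matrix ι ι F) *ᵥ w = c • w' := by
  by_cases hww' : bf J w w' = 0
  · -- a singular `w''` with `f(w'',w) ≠ 0 ≠ f(w'',w')`
    obtain ⟨y, hyw, hyw'⟩ : ∃ y : ι → F, bf J y w ≠ 0 ∧ bf J y w' ≠ 0 := by
      obtain ⟨y₁, hy₁⟩ := bf_nondeg hdet hw0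
      obtain ⟨y₂, hy₂⟩ := bf_nondeg hdet hw'0
      rw [bf_symm hJ] at hy₁ hy₂
      by_cases h1 : bf J y₁ w' = 0
      · by_cases h2 : bf J y₂ w = 0
        · refine ⟨y₁ + y₂, ?_, ?_⟩
          · rw [bf_add_left, h2, add_zero]; exact hy₁
          · rw [bf_add_left, h1, zero_add]; exact hy₂
        · exact ⟨y₂, h2, hy₂⟩
      · exact ⟨y₁, hy₁, h1⟩
    have hwy : bf J w y = bf J y w := bf_symm hJ w y
    set w'' : ι → F := y - (bf J y y / (2 * bf J y w)) • w with hw''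
    have h1 : bf J w'' w'' = 0 := by
      rw [hw'']
      simp only [bf_sub_left, bf_sub_right, bf_smul_left, bf_smul_right, hw, hwy]
      field_simp
      ring
    have h2 : bf J w w'' ≠ 0 := by
      rw [hw'', bf_sub_right, bf_smul_right, hw, mul_zero, sub_zero, hwy]
      exact hyw
    have h3 : bf J w'' w' ≠ 0 := by
      rw [hw'', bf_sub_left, bf_smul_left, hww', mul_zero, sub_zero]
      exact hyw'
    obtain ⟨β₁, hβ₁, c₁, hc₁, hβ₁w⟩ := toolg3_step' hJ two hdet hn hw h1 h2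
    obtain ⟨β₂, hβ₂, c₂, hc₂, hβ₂w⟩ := toolg3_step' hJ two hdet hn h1 hw' h3
    refine ⟨β₂ * β₁, Subgroup.mul_mem _ hβ₂ hβ₁, c₁ * c₂, mul_ne_zero hc₁ hc₂, ?_⟩
    rw [Units.val_mul, ← Matrix.mulVec_mulVec, hβ₁w, Matrix.mulVec_smul, hβ₂w, smul_smul]
  · exact toolg3_step' hJ two hdet hn hw hw' hww'

end Cfsg.Agent.Lib.Helper28.TOO
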