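import Mathlib
import Cfsg.Prelude.Def_GeometricClasses
import Cfsg.Agent.Lib.Helper27.ASC.Defs
import Cfsg.Agent.Lib.Lead.ASCU.Defs
import Cfsg.Agent.Lib.Helper21.ASCES5core

/-!
# Project ASCU, piece UADJ : `ucent_adjoint_closed`

The centraliser algebra of a group of isometries of the standard hermitian form is closed under
the adjoint `k ↦ (kᵀ)^(q)` (conjugate transpose).
-/

set_option autoImplicit false
set_option linter.unusedVariables false
set_option linter.unusedSectionVars false

namespace Cfsg.Agent.Lib.Lead.ASCU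

open Cfsg Cfsg.Geo Cfsg.Agent.Lib.Helper27.ASC
open scoped MatrixGroups Matrix

variable {n : ℕ} {F : Type*} [Field F] [Fintype F]

omit [Fintype F] in
/-- the conjugate transpose is the adjoint for the standard hermitian form -/
theorem ascuuadj_adj (q : ℕ) (σ : F ≃+* F) (hσ : ∀ a, σ a = a ^ q) (hσ2 : ∀ a, σ (σ a) = a)
    (k : Matrix (Fin n) (Fin n) F) (u v : Fin n → F) :
    hermForm n F q (k *ᵥ u) v = hermForm n F q u ((k.transpose.map σ) *ᵥ v) := by
  unfold hermForm
  have h1 : ∀ j, ((k.transpose.map σ) *ᵥ v) j ^ q = ∑ i, k i j * v i ^ q := by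
    intro j
    rw [← hσ]
    simp only [Matrix.mulVec, dotProduct, map_sum, map_mul, Matrix.map_apply, Matrix.transpose_apply,
      hσ2]
    refine Finset.sum_congr rfl fun i _ => ?_
    rw [hσ]
  simp only [h1]
  simp only [Matrix.mulVec, dotProduct, Finset.sum_mul, Finset.mul_sum]
  rw [Finset.sum_comm]
  refine Finset.sum_congr rfl fun j _ => Finset.sum_congr rfl fun i _ => ?_
  ring

omit [Fintype F] in
/-- the second argument of the standard hermitian form separates matrices -/
theorem ascuuadj_sep (q : ℕ) (σ : F ≃+* F) (hσ : ∀ a, σ a = a ^ q)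
    (A B : Matrix (Fin n) (Fin n) F)
    (h : ∀ u v, hermForm n F q u (A *ᵥ v) = hermForm n F q u (B *ᵥ v)) : A = B := by
  apply Matrix.toLin'.injective
  apply LinearMap.ext
  intro v
  rw [Matrix.toLin'_apply, Matrix.toLin'_apply]
  funext j
  have h1 := h (Pi.single j 1) v
  unfold hermForm at h1
  simp only [Pi.single_apply, ite_mul, one_mul, zero_mul, Finset.sum_ite_eq', Finset.mem_univ,
    if_true] at h1
  rw [← hσ, ← hσ] at h1
  exact σ.injective h1

/-- UADJ -/
theorem ucent_adjoint_closed (q : ℕ) (hF : Fintype.card F = q ^ 2) {N : Subgroup (GL (Fin n) F)}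
    (hNU : N ≤ GU n F q) : IsAdjointClosedFor (hermForm n F q) (centAlg N) := by
  obtain ⟨σ, hσ, -, hσ2⟩ := asch21es5_sigma q hF
  -- the adjoint of an isometry is its inverse
  have hinv : ∀ x ∈ N, ((x : Matrix (Fin n) (Fin n) F).transpose.map σ) *
      (x : Matrix (Fin n) (Fin n) F) = 1 := by
    intro x hx
    apply ascuuadj_sep q σ hσ
    intro u v
    rw [← Matrix.mulVec_mulVec, ← ascuuadj_adj q σ hσ hσ2, Matrix.one_mulVec]
    exact hNU hx u v
  -- multiplicativity of the adjoint
  have hmul : ∀ A B : Matrix (Fin n) (Fin n) F,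
      ((A * B).transpose.map σ) = (B.transpose.map σ) * (A.transpose.map σ) := by
    intro A B
    rw [Matrix.transpose_mul]
    exact Matrix.map_mul (f := (σ : F →+* F))
  intro k hk
  refine ⟨k.transpose.map σ, ?_, fun u v => ascuuadj_adj q σ hσ hσ2 k u v⟩
  refine (Subalgebra.mem_centralizer_iff F).2 ?_
  rintro _ ⟨x, hx, rfl⟩
  have hkx : (x : Matrix (Fin n) (Fin n) F) * k = k * (x : Matrix (Fin n) (Fin n) F) :=
    (Subalgebra.mem_centralizer_iff F).1 hk _ ⟨x, hx, rfl⟩
  set X : Matrix (Fin n) (Fin n) F := (x : Matrix (Fin n) (Fin n) F) with hX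
  set X' : Matrix (Fin n) (Fin n) F := X.transpose.map σ with hX'
  set K' : Matrix (Fin n) (Fin n) F := k.transpose.map σ with hK'
  have h1 : X' * X = 1 := hinv x hx
  have h2 : X * X' = 1 := mul_eq_one_comm.mp h1
  -- adjoint of `X k = k X`
  have h3 : K' * X' = X' * K' := by
    have := congrArg (fun M : Matrix (Fin n) (Fin n) F => M.transpose.map σ) hkx
    simp only [hmul] at this
    exact this
  calc X * K' = X * K' * (X' * X) := by rw [h1, mul_one]
    _ = X * (K' * X') * X := by simp only [mul_assoc]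
    _ = X * (X' * K') * X := by rw [h3]
    _ = (X * X') * K' * X := by simp only [mul_assoc]
    _ = K' * X := by rw [h2, one_mul]

end Cfsg.Agent.Lib.Lead.ASCU
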