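import Cfsg.Agent.Lib.Helper27.WSP.Defs

/-! # WSP-Q1 : binary diagonal forms over a finite field of odd order are universal -/

set_option autoImplicit false
set_option linter.unusedSectionVars false
set_option linter.unusedVariables false

namespace Cfsg.Agent.Lib.Helper27.WSP

open Matrix

section Q

open Cfsg.Agent.Lib.Helper18.SpE

variable {F : Type*} [Field F] [Fintype F]

/-- Q1 : binary diagonal forms are universal -/
theorem exists_repr (hodd : Odd (Fintype.card F)) (a d c : F) (ha : a ≠ 0) (hd : d ≠ 0) :
    ∃ x y : F, a * x ^ 2 + d * y ^ 2 = c := by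
  classical
  open Polynomial in
  have hf : (C a * X ^ 2 : F[X]).degree = 2 := by
    rw [degree_C_mul_X_pow 2 ha]; rfl
  open Polynomial in
  have hg : (C d * X ^ 2 - C c : F[X]).degree = 2 := by
    rw [degree_sub_eq_left_of_degree_lt]
    · rw [degree_C_mul_X_pow 2 hd]; rfl
    · rw [degree_C_mul_X_pow 2 hd]
      exact lt_of_le_of_lt degree_C_le (by norm_num)
  obtain ⟨x, y, h⟩ := FiniteField.exists_root_sum_quadratic hf hg (Nat.odd_iff.mp hodd)
  refine ⟨x, y, ?_⟩
  simp only [Polynomial.eval_mul, Polynomial.eval_C, Polynomial.eval_pow, Polynomial.eval_X,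
    Polynomial.eval_sub] at h
  linear_combination h

end Q

end Cfsg.Agent.Lib.Helper27.WSP
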