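import Mathlib
import Cfsg.Agent.Lib.helper7.CEU.Defs
import Cfsg.Agent.Lib.Helper27.STU.Defs3
import Cfsg.Agent.Lib.Helper27.STUQ1

/-!
# Project CEU (designer helper7; S2089, `n ≥ 4`), row E3 `exists_psi`, CORE (helper23)

`ceue3_core`: the conclusion of E3 with the statement of E2 `even_entries` (for the given `γ`) as hypothesis `hE2`.
`ψ M = !![M 0 0, M 0 2 / γ; γ * M 2 0, M 2 2]` with entries in the fixed field `F0 F`.
-/

set_option autoImplicit false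

namespace Cfsg.Agent.Lib.helper7.CEU

open Cfsg.Agent.Lib.helper15.St2 Cfsg.Agent.Lib.helper7.Ce Cfsg.Agent.Lib.helper3.STC Cfsg.Agent.Lib.Helper27.STU

open Cfsg.Agent.Lib.helper7.CEC (I2 I3 I4 U2 U3)

section E

open Matrix

variable {F : Type*} [Field F] [StarRing F] {od : Prop}

/-- the `2 × 2` matrix over the fixed field attached to an element of the rank one group (even case) -/
def ceue3_mat (γ : F)
    (hE2 : ∀ M : ↥(SUm F od), star (SUm.mat M 0 0) = SUm.mat M 0 0 ∧ star (SUm.mat M 2 2) = SUm.mat M 2 2 ∧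
      star (SUm.mat M 0 2 / γ) = SUm.mat M 0 2 / γ ∧ star (γ * SUm.mat M 2 0) = γ * SUm.mat M 2 0 ∧
      SUm.mat M 0 0 * SUm.mat M 2 2 - SUm.mat M 0 2 * SUm.mat M 2 0 = 1)
    (M : ↥(SUm F od)) : Matrix (Fin 2) (Fin 2) ↥(F0 F) :=
  !![⟨SUm.mat M 0 0, mem_F0.2 (hE2 M).1⟩, ⟨SUm.mat M 0 2 / γ, mem_F0.2 (hE2 M).2.2.1⟩;
     ⟨γ * SUm.mat M 2 0, mem_F0.2 (hE2 M).2.2.2.1⟩, ⟨SUm.mat M 2 2, mem_F0.2 (hE2 M).2.1⟩]

theorem ceue3_core (hev : ¬ od) {γ : F} (hγ : γ ≠ 0)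
    (hE2 : ∀ M : ↥(SUm F od), star (SUm.mat M 0 0) = SUm.mat M 0 0 ∧ star (SUm.mat M 2 2) = SUm.mat M 2 2 ∧
      star (SUm.mat M 0 2 / γ) = SUm.mat M 0 2 / γ ∧ star (γ * SUm.mat M 2 0) = γ * SUm.mat M 2 0 ∧
      SUm.mat M 0 0 * SUm.mat M 2 2 - SUm.mat M 0 2 * SUm.mat M 2 0 = 1) :
    ∃ ψ : ↥(SUm F od) →* SpecialLinearGroup (Fin 2) ↥(F0 F), ∀ (ξ : Lam F od) (r : ↥(F0 F)),
      ((r : F) = ξ.c / γ → ψ (XpU ξ) = xm r) ∧ ((r : F) = γ * ξ.c → ψ (XmU ξ) = ym r) := by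
  have hdet : ∀ M : ↥(SUm F od), (ceue3_mat γ hE2 M).det = 1 := by
    intro M
    rw [Matrix.det_fin_two]
    apply Subtype.ext
    have h5 := (hE2 M).2.2.2.2
    simp only [ceue3_mat, Matrix.of_apply, Matrix.cons_val', Matrix.cons_val_zero, Matrix.cons_val_one,
      Matrix.cons_val_fin_one, Subfield.coe_sub, Subfield.coe_mul, Subfield.coe_one]
    rw [← h5]
    field_simp
  have hmul : ∀ M N : ↥(SUm F od), ceue3_mat γ hE2 (M * N) = ceue3_mat γ hE2 M * ceue3_mat γ hE2 N := by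
    intro M N
    obtain ⟨-, -, a3, a4, -⟩ := SUm.mat_even hev M
    obtain ⟨b1, b2, -, -, -⟩ := SUm.mat_even hev N
    ext i j
    fin_cases i <;> fin_cases j <;>
      simp [ceue3_mat, Matrix.mul_apply, Fin.sum_univ_three, Fin.sum_univ_two, a3, a4, b1, b2] <;>
      field_simp
  refine ⟨MonoidHom.mk' (fun M => ⟨ceue3_mat γ hE2 M, hdet M⟩) (fun M N => Subtype.ext (hmul M N)), ?_⟩
  intro ξ r
  constructor
  · intro hr
    apply Subtype.ext
    show ceue3_mat γ hE2 (XpU ξ) = _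
    rw [xm_coe]
    ext i j
    fin_cases i <;> fin_cases j <;> simp [ceue3_mat, XpM, hr]
  · intro hr
    apply Subtype.ext
    show ceue3_mat γ hE2 (XmU ξ) = _
    rw [ym_coe]
    ext i j
    fin_cases i <;> fin_cases j <;> simp [ceue3_mat, XmM, hr]

end E

end Cfsg.Agent.Lib.helper7.CEU
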