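import Mathlib
import Cfsg.Agent.Lib.helper7.CEU.Defs
import Cfsg.Agent.Lib.Helper27.STU.Defs3
import Cfsg.Agent.Lib.Helper22.CEUE2
import Cfsg.Agent.Lib.helper23.CEUE3core

/-!
# Project CEU (designer helper7; S2089, `n ≥ 4`), row E3 `exists_psi`, VERBATIM (helper23): `ceue3_core` on helper22's E2 `even_entries`.
-/

set_option autoImplicit false

namespace Cfsg.Agent.Lib.helper7.CEU

open Cfsg.Agent.Lib.helper15.St2 Cfsg.Agent.Lib.helper7.Ce Cfsg.Agent.Lib.helper3.STC Cfsg.Agent.Lib.Helper27.STU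

open Cfsg.Agent.Lib.helper7.CEC (I2 I3 I4 U2 U3)

section E

open Matrix

variable {F : Type*} [Field F] [StarRing F] {od : Prop}

/-- E3 [M]  `ψ M := !![M 0 0, M 0 2 / γ; γ * M 2 0, M 2 2]` with entries in the fixed field `F0 F` (`even_entries`; `mem_F0`); determinant `1`; multiplicative by `SUm.mat_mul` and `SUm.mat_even` (the middle row and column
do not contribute); values on the generators by `SUm.mat_XpU`, `SUm.mat_XmU` (`XpM`, `XmM`). -/
theorem exists_psi (hev : ¬ od) {γ : F} (hγ : γ ≠ 0) (hγs : star γ = -γ) :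
    ∃ ψ : ↥(SUm F od) →* SpecialLinearGroup (Fin 2) ↥(F0 F), ∀ (ξ : Lam F od) (r : ↥(F0 F)),
      ((r : F) = ξ.c / γ → ψ (XpU ξ) = xm r) ∧ ((r : F) = γ * ξ.c → ψ (XmU ξ) = ym r) :=
  ceue3_core hev hγ (fun M => even_entries hev hγ hγs M)

end E

end Cfsg.Agent.Lib.helper7.CEU
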