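import Mathlib
import Cfsg.Prelude.Def_Solvable

set_option autoImplicit false

namespace Cfsg.Agent.Lib.helper23

open scoped Pointwise

theorem mem_conj_smul_iff'' {G : Type*} [Group G] (M : Subgroup G) (g y : G) :
    y ∈ MulAut.conj g • M ↔ g⁻¹ * y * g ∈ M := by
  rw [Subgroup.mem_pointwise_smul_iff_inv_smul_mem]
  simp [MulAut.smul_def]

section semidirect

variable {N H : Type*} [Group N] [Group H] (φ : H →* MulAut N)

theorem mem_range_inr_iff (x : N ⋊[φ] H) :
    x ∈ (SemidirectProduct.inr : H →* N ⋊[φ] H).range ↔ x.left = 1 := by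
  constructor
  · rintro ⟨h, rfl⟩
    exact SemidirectProduct.left_inr h
  · intro hx
    refine ⟨x.right, ?_⟩
    apply SemidirectProduct.ext
    · rw [SemidirectProduct.left_inr, hx]
    · rw [SemidirectProduct.right_inr]

/-- A group acting freely on a nontrivial group is a Frobenius complement in the semidirect
product. -/
theorem isFrobeniusComplement_range_inr [Nontrivial N] [Nontrivial H]
    (hfree : ∀ h : H, h ≠ 1 → ∀ n : N, φ h n = n → n = 1) :
    Cfsg.IsFrobeniusComplement (SemidirectProduct.inr : H →* N ⋊[φ] H).range := by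
  refine ⟨?_, ?_, ?_⟩
  · obtain ⟨h, hh⟩ := exists_ne (1 : H)
    intro hbot
    have : (SemidirectProduct.inr h : N ⋊[φ] H) ∈ (SemidirectProduct.inr : H →* N ⋊[φ] H).range :=
      ⟨h, rfl⟩
    rw [hbot, Subgroup.mem_bot] at this
    apply hh
    have := congrArg SemidirectProduct.right this
    rw [SemidirectProduct.right_inr, SemidirectProduct.one_right] at this
    exact this
  · obtain ⟨n, hn⟩ := exists_ne (1 : N)
    intro htop
    have : (SemidirectProduct.inl n : N ⋊[φ] H) ∈ (SemidirectProduct.inr : H →* N ⋊[φ] H).range := by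
      rw [htop]; exact Subgroup.mem_top _
    rw [mem_range_inr_iff, SemidirectProduct.left_inl] at this
    exact hn this
  · intro g hg
    rw [eq_bot_iff]
    intro x hx
    rw [Subgroup.mem_inf, mem_conj_smul_iff'', mem_range_inr_iff, mem_range_inr_iff] at hx
    rw [mem_range_inr_iff] at hg
    obtain ⟨hx1, hx2⟩ := hx
    rw [Subgroup.mem_bot]
    -- compute the left component of g⁻¹ * x * g
    have hcomp : (g⁻¹ * x * g).left
        = φ g.right⁻¹ (g.left⁻¹ * φ x.right g.left) := by
      rw [SemidirectProduct.mul_left, SemidirectProduct.mul_left, SemidirectProduct.mul_right,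
        SemidirectProduct.inv_left, SemidirectProduct.inv_right, hx1, map_one, mul_one, map_mul,
        map_mul]
      rfl
    rw [hcomp] at hx2
    have h3 : g.left⁻¹ * φ x.right g.left = 1 :=
      (MulEquiv.map_eq_one_iff (φ g.right⁻¹)).mp hx2
    have h4 : φ x.right g.left = g.left := by
      have := congrArg (fun z => g.left * z) h3
      simpa using this
    by_contra hx1'
    have hxr : x.right ≠ 1 := by
      intro h
      apply hx1'
      apply SemidirectProduct.ext
      · rw [hx1, SemidirectProduct.one_left]
      · rw [h, SemidirectProduct.one_right]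
    exact hg (hfree x.right hxr g.left h4)

end semidirect

/-- Transport of a Frobenius complement along an isomorphism. -/
theorem isFrobeniusComplement_comap {L L' : Type*} [Group L] [Group L'] (f : L' ≃* L)
    (C : Subgroup L) (hC : Cfsg.IsFrobeniusComplement C) :
    Cfsg.IsFrobeniusComplement (C.comap f.toMonoidHom) := by
  obtain ⟨h1, h2, h3⟩ := hC
  refine ⟨?_, ?_, ?_⟩
  · intro h
    apply h1
    rw [eq_bot_iff]
    intro x hx
    have : f.symm x ∈ C.comap f.toMonoidHom := by
      rw [Subgroup.mem_comap]
      simpa using hx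
    rw [h, Subgroup.mem_bot] at this
    rw [Subgroup.mem_bot]
    have h5 := congrArg f this
    simpa using h5
  · intro h
    apply h2
    rw [eq_top_iff]
    intro x _
    have : f.symm x ∈ C.comap f.toMonoidHom := by rw [h]; exact Subgroup.mem_top _
    rw [Subgroup.mem_comap] at this
    simpa using this
  · intro g hg
    rw [eq_bot_iff]
    intro x hx
    rw [Subgroup.mem_inf, mem_conj_smul_iff'', Subgroup.mem_comap, Subgroup.mem_comap] at hx
    rw [Subgroup.mem_comap] at hg
    have h4 := h3 (f g) hg
    have h5 : f x ∈ C ⊓ MulAut.conj (f g) • C := by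
      rw [Subgroup.mem_inf, mem_conj_smul_iff'']
      refine ⟨hx.1, ?_⟩
      have := hx.2
      simpa using this
    rw [h4, Subgroup.mem_bot] at h5
    rw [Subgroup.mem_bot]
    have h6 := congrArg f.symm h5
    simpa using h6

/-- A Frobenius complement in a finite group can be moved to a group living in `Type`. -/
theorem exists_frobenius_type_zero {L : Type*} [Group L] [Finite L] (C : Subgroup L)
    (hC : Cfsg.IsFrobeniusComplement C) :
    ∃ (L' : Type) (_ : Group L') (_ : Finite L') (C' : Subgroup L'),
      Cfsg.IsFrobeniusComplement C' ∧ Nonempty (C ≃* C') := by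
  haveI : Small.{0} L := Countable.toSmall L
  let f : Shrink.{0} L ≃* L := Shrink.mulEquiv
  haveI : Finite (Shrink.{0} L) := Finite.of_equiv L (equivShrink L)
  refine ⟨Shrink.{0} L, inferInstance, inferInstance, C.comap f.toMonoidHom,
    isFrobeniusComplement_comap f C hC, ⟨?_⟩⟩
  have hmap : (C.comap f.toMonoidHom).map f.toMonoidHom = C := by
    ext x
    simp only [Subgroup.mem_map, Subgroup.mem_comap]
    constructor
    · rintro ⟨y, hy, rfl⟩
      exact hy
    · intro hx
      exact ⟨f.symm x, by simpa using hx, by simp⟩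
  exact ((f.subgroupMap (C.comap f.toMonoidHom)).trans (MulEquiv.subgroupCongr hmap)).symm

end Cfsg.Agent.Lib.helper23
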