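import Mathlib
import Cfsg.Prelude.Def_Solvable
import Cfsg.Agent.Lib.Helper19.Frobenius
import Cfsg.Agent.Lib.helper23.FrobSemi
import Cfsg.Agent.Lib.Helper1.Hall
import Cfsg.Agent.Lib.Helper1.CFitting
import Cfsg.Agent.Lib.Helper11.FrobComplStructure

set_option autoImplicit false

namespace Cfsg.Agent.Lib.helper23

open scoped Pointwise commutatorElement

/-- Recognition of Frobenius groups: a normal subgroup `K` with a complement `C` acting without
fixed points. -/
theorem pgs_frob_recog {L : Type*} [Group L] [Finite L] (K C : Subgroup L) [K.Normal]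
    (hcard : Nat.card K * Nat.card C = Nat.card L) (hdisj : K ⊓ C = ⊥)
    (hK : K ≠ ⊥) (hC : C ≠ ⊥)
    (hfpf : ∀ c ∈ C, c ≠ 1 → ∀ k ∈ K, c * k = k * c → k = 1) :
    Cfsg.IsFrobeniusComplement C ∧ Cfsg.frobeniusKernel C = (K : Set L) := by
  have hcompl : K.IsComplement' C :=
    Subgroup.isComplement'_of_card_mul_and_disjoint hcard (disjoint_iff.2 hdisj)
  have hfact : ∀ g : L, ∃ k ∈ K, ∃ c ∈ C, g = k * c := by
    intro g
    obtain ⟨⟨k, c⟩, h, _⟩ := (Subgroup.isComplement_iff_existsUnique.1 hcompl) g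
    exact ⟨k.1, k.2, c.1, c.2, h.symm⟩
  have hCtop : C ≠ ⊤ := by
    intro h
    rw [h, inf_top_eq] at hdisj
    exact hK hdisj
  have hfrob : Cfsg.IsFrobeniusComplement C := by
    refine ⟨hC, hCtop, ?_⟩
    intro g hg
    obtain ⟨k, hk, c, hc, rfl⟩ := hfact g
    have hk1 : k ≠ 1 := by
      rintro rfl
      rw [one_mul] at hg
      exact hg hc
    rw [Subgroup.eq_bot_iff_forall]
    rintro x ⟨hxC, hxg⟩
    have hxC : x ∈ C := hxC
    have hxg : x ∈ MulAut.conj (k * c) • C := hxg
    rw [mem_conj_smul_iff''] at hxg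
    -- `y' = k⁻¹ x k ∈ C`
    have hy' : k⁻¹ * x * k ∈ C := by
      have : k⁻¹ * x * k = c * ((k * c)⁻¹ * x * (k * c)) * c⁻¹ := by group
      rw [this]
      exact C.mul_mem (C.mul_mem hc hxg) (C.inv_mem hc)
    have hw : x⁻¹ * (k⁻¹ * x * k) ∈ K ⊓ C := by
      refine ⟨?_, C.mul_mem (C.inv_mem hxC) hy'⟩
      have : x⁻¹ * (k⁻¹ * x * k) = (x⁻¹ * k⁻¹ * x⁻¹⁻¹) * k := by group
      rw [this]
      exact K.mul_mem (Subgroup.Normal.conj_mem inferInstance _ (K.inv_mem hk) _) hk
    rw [hdisj, Subgroup.mem_bot] at hw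
    by_contra hx1
    apply hk1
    apply hfpf x hxC hx1 k hk
    have : k⁻¹ * x * k = x := by
      calc k⁻¹ * x * k = x * (x⁻¹ * (k⁻¹ * x * k)) := by group
        _ = x := by rw [hw, mul_one]
    calc x * k = k * (k⁻¹ * x * k) := by group
      _ = k * x := by rw [this]
  refine ⟨hfrob, ?_⟩
  have hsub : (K : Set L) ⊆ Cfsg.frobeniusKernel C := by
    intro k hk
    by_cases hk1 : k = 1
    · exact Or.inl hk1
    · right
      intro g hkg
      rw [mem_conj_smul_iff''] at hkg
      have : g⁻¹ * k * g ∈ K ⊓ C := by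
        refine ⟨?_, hkg⟩
        have := Subgroup.Normal.conj_mem (inferInstance : K.Normal) k hk g⁻¹
        simpa using this
      rw [hdisj, Subgroup.mem_bot] at this
      apply hk1
      calc k = g * (g⁻¹ * k * g) * g⁻¹ := by group
        _ = 1 := by rw [this]; group
  have hidx : C.index = Nat.card K := by
    have h1 := Subgroup.card_mul_index C
    have hCpos : 0 < Nat.card C := Nat.card_pos
    rw [← hcard, mul_comm] at h1
    exact Nat.eq_of_mul_eq_mul_right hCpos h1
  have hcardker : Nat.card (Cfsg.frobeniusKernel C) = Nat.card K := by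
    rw [Cfsg.Agent.Lib.Helper19.card_frobeniusKernel C hfrob, hidx]
  symm
  apply Set.eq_of_subset_of_ncard_le hsub _ (Set.toFinite _)
  rw [← Nat.card_coe_set_eq, ← Nat.card_coe_set_eq, hcardker]
  rfl

/-- No element has order `a * b` with `a ∣ m`, `b ∣ n` primes. -/
def NoCross (G : Type*) [Group G] (m n : ℕ) : Prop :=
  ∀ a b : ℕ, a.Prime → b.Prime → a ∣ m → b ∣ n → ¬ ∃ g : G, orderOf g = a * b

theorem NoCross.ne_comm {G : Type*} [Group G] [Finite G] {m n : ℕ} (h : NoCross G m n)
    (hmn : m.Coprime n) {x y : G} (hx1 : x ≠ 1) (hy1 : y ≠ 1) (hx : orderOf x ∣ m)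
    (hy : orderOf y ∣ n) : x * y ≠ y * x := by
  intro hcomm
  have hox : orderOf x ≠ 1 := fun h1 => hx1 (orderOf_eq_one_iff.1 h1)
  have hoy : orderOf y ≠ 1 := fun h1 => hy1 (orderOf_eq_one_iff.1 h1)
  set a := (orderOf x).minFac with ha
  set b := (orderOf y).minFac with hb
  have hap : a.Prime := Nat.minFac_prime hox
  have hbp : b.Prime := Nat.minFac_prime hoy
  have had : a ∣ orderOf x := Nat.minFac_dvd _
  have hbd : b ∣ orderOf y := Nat.minFac_dvd _
  have hx' : orderOf (x ^ (orderOf x / a)) = a :=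
    orderOf_pow_orderOf_div (orderOf_pos x).ne' had
  have hy' : orderOf (y ^ (orderOf y / b)) = b :=
    orderOf_pow_orderOf_div (orderOf_pos y).ne' hbd
  have hc : Commute (x ^ (orderOf x / a)) (y ^ (orderOf y / b)) :=
    (show Commute x y from hcomm).pow_pow _ _
  have hcop : Nat.Coprime a b :=
    Nat.Coprime.coprime_dvd_left (had.trans hx) (Nat.Coprime.coprime_dvd_right (hbd.trans hy) hmn)
  have hord := hc.orderOf_mul_eq_mul_orderOf_of_coprime (by rw [hx', hy']; exact hcop)
  rw [hx', hy'] at hord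
  exact h a b hap hbp (had.trans hx) (hbd.trans hy) ⟨_, hord⟩

theorem NoCross.quotient {G : Type*} [Group G] [Finite G] {m n : ℕ} (h : NoCross G m n)
    (N : Subgroup G) [N.Normal] : NoCross (G ⧸ N) m n := by
  intro a b ha hb ham hbn ⟨q, hq⟩
  obtain ⟨g, rfl⟩ := QuotientGroup.mk_surjective q
  have hdvd : a * b ∣ orderOf g := by
    rw [← hq]
    exact orderOf_map_dvd (QuotientGroup.mk' N) g
  have := orderOf_pow_orderOf_div (orderOf_pos g).ne' hdvd
  exact h a b ha hb ham hbn ⟨_, this⟩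

theorem NoCross.subgroup {G : Type*} [Group G] {m n : ℕ} (h : NoCross G m n)
    (L : Subgroup G) : NoCross L m n := by
  intro a b ha hb ham hbn ⟨g, hg⟩
  exact h a b ha hb ham hbn ⟨(g : G), by rw [Subgroup.orderOf_coe]; exact hg⟩

theorem NoCross.mono {G : Type*} [Group G] {m n m' n' : ℕ} (h : NoCross G m n)
    (hm : m' ∣ m) (hn : n' ∣ n) : NoCross G m' n' :=
  fun a b ha hb ham hbn => h a b ha hb (ham.trans hm) (hbn.trans hn)

theorem NoCross.symm {G : Type*} [Group G] {m n : ℕ} (h : NoCross G m n) : NoCross G n m :=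
  fun a b ha hb ham hbn ⟨g, hg⟩ => h b a hb ha hbn ham ⟨g, by rw [hg, mul_comm]⟩


open Cfsg.Agent.Lib.Helper1

/-- Two involutions of a group acting without fixed points on a nontrivial normal subgroup
coincide. -/
theorem pgs_unique_involution {L : Type*} [Group L] [Finite L] (K E : Subgroup L) [K.Normal]
    (hK : K ≠ ⊥) (hfpf : ∀ e ∈ E, e ≠ 1 → ∀ k ∈ K, e * k = k * e → k = 1)
    {t u : L} (ht : t ∈ E) (hu : u ∈ E) (ht2 : t * t = 1) (hu2 : u * u = 1)
    (ht1 : t ≠ 1) (hu1 : u ≠ 1) : t = u := by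
  have hinv : ∀ e ∈ E, e * e = 1 → e ≠ 1 → ∀ k ∈ K, e * k * e⁻¹ = k⁻¹ := by
    intro e he he2 he1 k hk
    set φ : K →* K := (MulAut.conjNormal e : MulAut K).toMonoidHom with hφ
    have hφa : ∀ x : K, ((φ x : K) : L) = e * x * e⁻¹ := fun x => MulAut.conjNormal_apply e x
    have hfp : MonoidHom.FixedPointFree φ := by
      intro x hx
      have h1 : e * (x : L) * e⁻¹ = x := by rw [← hφa, hx]
      have h2 : e * (x : L) = x * e := by
        calc e * (x : L) = e * x * e⁻¹ * e := by group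
          _ = x * e := by rw [h1]
      have := hfpf e he he1 x x.2 h2
      exact Subtype.ext this
    have hinvol : Function.Involutive φ := by
      intro x
      apply Subtype.ext
      rw [hφa, hφa]
      have einv : e⁻¹ = e := inv_eq_of_mul_eq_one_left he2
      calc e * (e * (x : L) * e⁻¹) * e⁻¹ = (e * e) * x * (e * e)⁻¹ := by group
        _ = x := by rw [he2]; group
    have := MonoidHom.FixedPointFree.coe_eq_inv_of_involutive hfp hinvol
    have h3 := congrFun this ⟨k, hk⟩
    have h4 := congrArg Subtype.val h3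
    rw [hφa] at h4
    simpa using h4
  by_contra hne
  have htu : t * u ≠ 1 := by
    intro h
    apply hne
    have : u⁻¹ = u := inv_eq_of_mul_eq_one_left hu2
    calc t = t * u * u⁻¹ := by group
      _ = u := by rw [h, one_mul, this]
  have hKne : ∃ k ∈ K, k ≠ 1 := by
    by_contra hcon
    push Not at hcon
    exact hK ((Subgroup.eq_bot_iff_forall K).2 hcon)
  obtain ⟨k, hk, hk1⟩ := hKne
  apply hk1
  apply hfpf (t * u) (E.mul_mem ht hu) htu k hk
  have h1 : u * k * u⁻¹ = k⁻¹ := hinv u hu hu2 hu1 k hk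
  have h2 : t * k⁻¹ * t⁻¹ = (k⁻¹)⁻¹ := hinv t ht ht2 ht1 k⁻¹ (K.inv_mem hk)
  have h3 : (t * u) * k * (t * u)⁻¹ = k := by
    calc (t * u) * k * (t * u)⁻¹ = t * (u * k * u⁻¹) * t⁻¹ := by group
      _ = k := by rw [h1, h2, inv_inv]
  calc t * u * k = (t * u) * k * (t * u)⁻¹ * (t * u) := by group
    _ = k * (t * u) := by rw [h3]

/-- Commutators centralize a cyclic normal subgroup. -/
theorem pgs_comm_centralizes_cyclic {L : Type*} [Group L] (F : Subgroup L) [F.Normal]
    [IsCyclic F] (g h f : L) (hf : f ∈ F) : ⁅g, h⁆ * f = f * ⁅g, h⁆ := by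
  have hcomm : ∀ a b : MulAut F, a * b = b * a := by
    intro a b
    apply (IsCyclic.mulAutMulEquiv F).injective
    rw [map_mul, map_mul, mul_comm]
  have h1 : (MulAut.conjNormal ⁅g, h⁆ : MulAut F) = 1 := by
    rw [commutatorElement_def, map_mul, map_mul, map_mul, map_inv, map_inv,
      hcomm (MulAut.conjNormal g) (MulAut.conjNormal h)]
    group
  have h2 := MulAut.conjNormal_apply ⁅g, h⁆ (⟨f, hf⟩ : F)
  rw [h1] at h2
  simp only [MulAut.one_apply] at h2
  calc ⁅g, h⁆ * f = ⁅g, h⁆ * f * ⁅g, h⁆⁻¹ * ⁅g, h⁆ := by group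
    _ = f * ⁅g, h⁆ := by rw [← h2]

section core

variable {G : Type*} [Group G] [Finite G]

/-- The largest normal subgroup of order prime to `n`. -/
def coprimeCore (n : ℕ) (G : Type*) [Group G] : Subgroup G :=
  sSup {L : Subgroup G | L.Normal ∧ (Nat.card L).Coprime n}

theorem coprimeCore_normal (n : ℕ) : (coprimeCore n G).Normal :=
  (sSup_normal_coprime n _ (fun _ hL => hL)).1

theorem coprimeCore_coprime (n : ℕ) : (Nat.card (coprimeCore n G)).Coprime n :=
  (sSup_normal_coprime n _ (fun _ hL => hL)).2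

omit [Finite G] in
theorem le_coprimeCore {n : ℕ} {L : Subgroup G} (hL : L.Normal) (hc : (Nat.card L).Coprime n) :
    L ≤ coprimeCore n G :=
  le_sSup ⟨hL, hc⟩

theorem coprimeCore_quotient_trivial (n : ℕ) (hN : (coprimeCore n G).Normal)
    (L : Subgroup (G ⧸ coprimeCore n G)) (hL : L.Normal) (hc : (Nat.card L).Coprime n) :
    L = ⊥ := by
  set N := coprimeCore n G with hNdef
  have hle : N ≤ L.comap (QuotientGroup.mk' N) := by
    intro x hx
    rw [Subgroup.mem_comap]
    have : (QuotientGroup.mk' N) x = 1 := by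
      rw [QuotientGroup.mk'_apply, QuotientGroup.eq_one_iff]; exact hx
    rw [this]; exact L.one_mem
  have hmap : (L.comap (QuotientGroup.mk' N)).map (QuotientGroup.mk' N) = L :=
    Subgroup.map_comap_eq_self_of_surjective (QuotientGroup.mk'_surjective N) L
  have hcard := card_map_mk'_of_le (L.comap (QuotientGroup.mk' N)) N hle
  rw [hmap] at hcard
  have hcop : (Nat.card (L.comap (QuotientGroup.mk' N))).Coprime n := by
    rw [← hcard]
    exact Nat.Coprime.mul_left (coprimeCore_coprime n) hc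
  have hn : (L.comap (QuotientGroup.mk' N)).Normal := hL.comap _
  have hle2 : L.comap (QuotientGroup.mk' N) ≤ N := le_coprimeCore hn hcop
  rw [← hmap, eq_bot_iff]
  calc (L.comap (QuotientGroup.mk' N)).map (QuotientGroup.mk' N)
      ≤ N.map (QuotientGroup.mk' N) := Subgroup.map_mono hle2
    _ = ⊥ := QuotientGroup.map_mk'_self N

end core

/-- If `Q` has no nontrivial normal subgroup of order prime to `n`, then `|F(Q)|` is prime
to `m` (for `m`, `n` coprime). -/
theorem pgs_fitting_coprime {Q : Type*} [Group Q] [Finite Q] (m n : ℕ) (hmn : m.Coprime n)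
    (hO : ∀ L : Subgroup Q, L.Normal → (Nat.card L).Coprime n → L = ⊥) :
    (Nat.card (Cfsg.fittingSubgroup Q)).Coprime m := by
  rw [fittingSubgroup_eq_iSup_pCore, ← sSup_range]
  refine (sSup_normal_coprime m _ ?_).2
  rintro L ⟨p, rfl⟩
  have hp : Fact (p : ℕ).Prime := ⟨p.2⟩
  refine ⟨pCore_normal (p : ℕ), ?_⟩
  show (Nat.card (Cfsg.pCore (p : ℕ) Q)).Coprime m
  obtain ⟨k, hk⟩ := (IsPGroup.iff_card).mp (pCore_isPGroup (G := Q) (p : ℕ))
  by_cases hpm : (p : ℕ) ∣ m
  · have hpn : ¬ (p : ℕ) ∣ n := by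
      intro hpn
      have := Nat.Coprime.eq_one_of_dvd (Nat.Coprime.coprime_dvd_left hpm hmn) hpn
      exact p.2.one_lt.ne' this
    have hcop : (Nat.card (Cfsg.pCore (p : ℕ) Q)).Coprime n := by
      rw [hk]
      exact Nat.Coprime.pow_left k ((Nat.Prime.coprime_iff_not_dvd p.2).2 hpn)
    rw [hO _ (pCore_normal (p : ℕ)) hcop, Subgroup.card_bot]
    exact Nat.coprime_one_left m
  · rw [hk]
    exact Nat.Coprime.pow_left k ((Nat.Prime.coprime_iff_not_dvd p.2).2 hpm)


open Cfsg.Agent.Lib.Helper11 in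
/-- The Fitting subgroup of `G ⧸ N` is cyclic in the 2-Frobenius situation. -/
theorem pgs_fitting_quotient_cyclic {G : Type*} [Group G] [Finite G] [Group.IsSolvable G]
    (m n : ℕ) (hmn : m.Coprime n) (hno : NoCross G m n)
    (N : Subgroup G) [hNn : N.Normal] (hNne : N ≠ ⊥) (hNm : Nat.card N ∣ m)
    (hFn : Nat.card (Cfsg.fittingSubgroup (G ⧸ N)) ∣ n)
    (x : G ⧸ N) (a : ℕ) (ha : a.Prime) (ham : a ∣ m) (hx : orderOf x = a) :
    IsCyclic (Cfsg.fittingSubgroup (G ⧸ N)) := by
  set Fb := Cfsg.fittingSubgroup (G ⧸ N) with hFb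
  have hFbn : Fb.Normal := fittingSubgroup_normal
  have hFbnil : Group.IsNilpotent Fb := fittingSubgroup_nilpotent
  set M' := Fb.comap (QuotientGroup.mk' N) with hM'
  have hNM' : N ≤ M' := by
    intro y hy
    rw [hM', Subgroup.mem_comap]
    have : (QuotientGroup.mk' N) y = 1 := by
      rw [QuotientGroup.mk'_apply, QuotientGroup.eq_one_iff]; exact hy
    rw [this]; exact Fb.one_mem
  have hmap : M'.map (QuotientGroup.mk' N) = Fb :=
    Subgroup.map_comap_eq_self_of_surjective (QuotientGroup.mk'_surjective N) Fb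
  have hcardM' : Nat.card N * Nat.card Fb = Nat.card M' := by
    have := card_map_mk'_of_le M' N hNM'
    rwa [hmap] at this
  have hfc : (Nat.card Fb).Coprime (Nat.card N) :=
    Nat.Coprime.coprime_dvd_left hFn (Nat.Coprime.coprime_dvd_right hNm hmn.symm)
  obtain ⟨Z, hZ⟩ := hall_exists (G := ↥M') (Nat.card Fb) (Nat.card N)
    (by rw [← hcardM', mul_comm]) hfc
  set K' := N.subgroupOf M' with hK'
  have hK'n : K'.Normal := Subgroup.normal_subgroupOf
  have hK'card : Nat.card K' = Nat.card N :=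
    Nat.card_congr (Subgroup.subgroupOfEquivOfLe hNM').toEquiv
  have hcompl : K'.IsComplement' Z :=
    Subgroup.isComplement'_of_coprime (by rw [hK'card, hZ, hcardM'])
      (by rw [hK'card, hZ]; exact hfc.symm)
  have hK'ne : K' ≠ ⊥ := by
    intro h
    rw [h, Subgroup.card_bot] at hK'card
    exact hNne (Subgroup.card_eq_one.1 hK'card.symm)
  have hfpf' : ∀ e ∈ Z, e ≠ 1 → ∀ k ∈ K', e * k = k * e → k = 1 := by
    intro e he he1 k hk hcomm
    by_contra hk1
    have h1 : ((k : ↥M') : G) ≠ 1 := fun h => hk1 (Subtype.ext h)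
    have h2 : ((e : ↥M') : G) ≠ 1 := fun h => he1 (Subtype.ext h)
    have h3 : orderOf ((k : ↥M') : G) ∣ m :=
      (Subgroup.orderOf_dvd_natCard N (Subgroup.mem_subgroupOf.1 hk)).trans hNm
    have h4 : orderOf ((e : ↥M') : G) ∣ n := by
      rw [Subgroup.orderOf_coe]
      have := Subgroup.orderOf_dvd_natCard Z he
      rw [hZ] at this
      exact this.trans hFn
    refine hno.ne_comm hmn h1 h2 h3 h4 ?_
    have := congrArg Subtype.val hcomm
    simpa using this.symm
  have hfpf : ∀ e ∈ Z, e ≠ 1 → K' ⊓ Subgroup.centralizer ({e} : Set ↥M') = ⊥ := by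
    intro e he he1
    rw [Subgroup.eq_bot_iff_forall]
    rintro k ⟨hk, hkc⟩
    have hkc' : k ∈ Subgroup.centralizer ({e} : Set ↥M') := hkc
    rw [Subgroup.mem_centralizer_iff] at hkc'
    exact hfpf' e he he1 k hk (hkc' e rfl)
  let ψ : ↥M' →* ↥Fb :=
    ((QuotientGroup.mk' N).comp M'.subtype).codRestrict Fb (fun y => y.2)
  let θ : ↥Z →* ↥Fb := ψ.comp Z.subtype
  have hθval : ∀ z : ↥Z, ((θ z : ↥Fb) : G ⧸ N) = (QuotientGroup.mk' N) ((z : ↥M') : G) :=
    fun z => rfl
  have hdisj : K' ⊓ Z = ⊥ := disjoint_iff.1 hcompl.disjoint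
  have hθinj : Function.Injective θ := by
    rw [injective_iff_map_eq_one]
    intro z hz
    have h1 : (QuotientGroup.mk' N) ((z : ↥M') : G) = 1 := by
      rw [← hθval, hz]; rfl
    have h2 : ((z : ↥M') : G) ∈ N := by
      rwa [QuotientGroup.mk'_apply, QuotientGroup.eq_one_iff] at h1
    have h3 : (z : ↥M') ∈ K' ⊓ Z := ⟨Subgroup.mem_subgroupOf.2 h2, z.2⟩
    rw [hdisj, Subgroup.mem_bot] at h3
    exact Subtype.ext h3
  have hθbij : Function.Bijective θ := hθinj.bijective_of_nat_card_le (by rw [hZ])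
  have hZnil : Group.IsNilpotent Z := by
    have : Group.IsNilpotent θ.range := inferInstance
    exact Group.nilpotent_of_mulEquiv (MonoidHom.ofInjective hθinj).symm
  have hfodd : ¬ 2 ∣ Nat.card Fb := by
    intro h2
    have : Fact (Nat.Prime 2) := ⟨Nat.prime_two⟩
    obtain ⟨tb, htb⟩ := exists_prime_orderOf_dvd_card' (G := ↥Fb) 2 h2
    have htb1 : tb ≠ 1 := by
      intro h; rw [h, orderOf_one] at htb; omega
    have htb2 : tb * tb = 1 := by
      rw [← pow_two, ← htb]; exact pow_orderOf_eq_one tb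
    have hcentral : ∀ g : G ⧸ N, g * (tb : G ⧸ N) * g⁻¹ = tb := by
      intro g
      let ub : ↥Fb := ⟨g * tb * g⁻¹, hFbn.conj_mem _ tb.2 g⟩
      have hub1 : ub ≠ 1 := by
        intro h
        apply htb1
        have h' : g * (tb : G ⧸ N) * g⁻¹ = 1 := congrArg Subtype.val h
        apply Subtype.ext
        calc (tb : G ⧸ N) = g⁻¹ * (g * (tb : G ⧸ N) * g⁻¹) * g := by group
          _ = 1 := by rw [h']; group
      have hub2 : ub * ub = 1 := by
        apply Subtype.ext
        have h' : (tb : G ⧸ N) * tb = 1 := congrArg Subtype.val htb2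
        calc ((ub * ub : ↥Fb) : G ⧸ N) = g * ((tb : G ⧸ N) * tb) * g⁻¹ := by
              show g * (tb : G ⧸ N) * g⁻¹ * (g * (tb : G ⧸ N) * g⁻¹) = _
              group
          _ = 1 := by rw [h']; group
      obtain ⟨t, ht⟩ := hθbij.2 tb
      obtain ⟨u, hu⟩ := hθbij.2 ub
      have ht1 : (t : ↥M') ≠ 1 := by
        intro h
        apply htb1
        rw [← ht]
        have : t = 1 := Subtype.ext h
        rw [this, map_one]
      have hu1 : (u : ↥M') ≠ 1 := by
        intro h
        apply hub1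
        rw [← hu]
        have : u = 1 := Subtype.ext h
        rw [this, map_one]
      have ht2 : (t : ↥M') * t = 1 := by
        have : t * t = 1 := by
          apply hθinj
          rw [map_mul, ht, htb2, map_one]
        exact congrArg Subtype.val this
      have hu2 : (u : ↥M') * u = 1 := by
        have : u * u = 1 := by
          apply hθinj
          rw [map_mul, hu, hub2, map_one]
        exact congrArg Subtype.val this
      have htu := pgs_unique_involution K' Z hK'ne hfpf' t.2 u.2 ht2 hu2 ht1 hu1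
      have htu' : t = u := Subtype.ext htu
      have : tb = ub := by rw [← ht, ← hu, htu']
      exact (congrArg Subtype.val this).symm
    have hx1 : x ≠ 1 := by
      intro h; rw [h, orderOf_one] at hx; exact ha.one_lt.ne hx
    have htbq1 : (tb : G ⧸ N) ≠ 1 := fun h => htb1 (Subtype.ext h)
    have hordx : orderOf x ∣ m := hx ▸ ham
    have hordt : orderOf (tb : G ⧸ N) ∣ n := by
      rw [Subgroup.orderOf_coe, htb]
      exact h2.trans hFn
    refine (hno.quotient N).ne_comm hmn hx1 htbq1 hordx hordt ?_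
    have := hcentral x
    calc x * (tb : G ⧸ N) = x * (tb : G ⧸ N) * x⁻¹ * x := by group
      _ = tb * x := by rw [this]
  rcases nilpotent_frobenius_complement_structure K' Z hcompl hK'ne hfpf hZnil with
    hcyc | ⟨C, Qq, hCQ, _, _, _, n', ⟨e⟩⟩
  · exact isCyclic_of_surjective θ hθbij.2
  · exfalso
    have : NeZero (2 ^ n') := ⟨by positivity⟩
    have h1 : Nat.card Qq = 4 * 2 ^ n' := by
      rw [Nat.card_congr e.toEquiv, Nat.card_eq_fintype_card, QuaternionGroup.card]
    have h2 : Nat.card Qq ∣ Nat.card Z := Subgroup.card_dvd_of_le (hCQ ▸ le_sup_right)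
    apply hfodd
    rw [← hZ]
    exact dvd_trans ⟨2 * 2 ^ n', by rw [h1]; ring⟩ h2


/-- Main theorem in `(m, n)` form, assuming `|F(G)|` divides `m`. -/
theorem pgs_main {G : Type*} [Group G] [Finite G] [Group.IsSolvable G] (m n : ℕ)
    (hG : Nat.card G = m * n) (hmn : m.Coprime n) (hm : 1 < m) (hn : 1 < n)
    (hno : NoCross G m n) (hF : Nat.card (Cfsg.fittingSubgroup G) ∣ m) :
    (∃ C : Subgroup G, Cfsg.IsFrobeniusComplement C) ∨
    (∃ (H K : Subgroup G) (_ : H.Normal), K.Normal ∧ H < K ∧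
      (∃ C : Subgroup ↥K, Cfsg.IsFrobeniusComplement C ∧
        Cfsg.frobeniusKernel C = (H.subgroupOf K : Set ↥K)) ∧
      (∃ C : Subgroup (G ⧸ H), Cfsg.IsFrobeniusComplement C ∧
        Cfsg.frobeniusKernel C = (K.map (QuotientGroup.mk' H) : Set (G ⧸ H)))) := by
  have hNn : (coprimeCore n G).Normal := coprimeCore_normal n
  have hNcop : (Nat.card (coprimeCore n G)).Coprime n := coprimeCore_coprime n
  have hO := coprimeCore_quotient_trivial (G := G) n hNn
  have hFN : Cfsg.fittingSubgroup G ≤ coprimeCore n G :=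
    le_coprimeCore fittingSubgroup_normal (Nat.Coprime.coprime_dvd_left hF hmn)
  generalize coprimeCore n G = N at hNn hNcop hO hFN
  have hNm : Nat.card N ∣ m := by
    have h1 : Nat.card N ∣ m * n := hG ▸ Subgroup.card_subgroup_dvd_card N
    exact Nat.Coprime.dvd_of_dvd_mul_right hNcop h1
  have hFne : Cfsg.fittingSubgroup G ≠ ⊥ := by
    intro h
    have h1 := centralizer_fittingSubgroup_le (G := G)
    rw [h] at h1
    have h2 : (⊤ : Subgroup G) ≤ ⊥ := by
      intro g _
      apply h1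
      rw [Subgroup.mem_centralizer_iff]
      intro y hy
      have : y = 1 := hy
      rw [this]; simp
    have h3 : (⊤ : Subgroup G) = ⊥ := le_bot_iff.1 h2
    have h4 : Nat.card G = 1 := by
      rw [← Subgroup.card_top (G := G), h3, Subgroup.card_bot]
    rw [h4] at hG
    nlinarith
  have hNne : N ≠ ⊥ := by
    intro h
    rw [h] at hFN
    exact hFne (le_bot_iff.1 hFN)
  by_cases hcase : Nat.card N = m
  · left
    obtain ⟨H₂, hH₂⟩ := hall_exists (G := G) n m (by rw [hG, mul_comm]) hmn.symm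
    have hH₂ne : H₂ ≠ ⊥ := by
      intro h; rw [h, Subgroup.card_bot] at hH₂; omega
    have hdisj : N ⊓ H₂ = ⊥ :=
      inf_eq_bot_of_coprime_card N H₂ (by rw [hcase, hH₂]; exact hmn)
    refine ⟨H₂, (pgs_frob_recog N H₂ (by rw [hcase, hH₂, hG]) hdisj hNne hH₂ne ?_).1⟩
    intro c hc hc1 k hk hcomm
    by_contra hk1
    have h1 : orderOf k ∣ m := (Subgroup.orderOf_dvd_natCard N hk).trans hNm
    have h2 : orderOf c ∣ n := by
      have := Subgroup.orderOf_dvd_natCard H₂ hc
      rwa [hH₂] at this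
    exact hno.ne_comm hmn hk1 hc1 h1 h2 hcomm.symm
  · right
    obtain ⟨mb, hmb⟩ := hNm
    have hmpos : 0 < m := by omega
    have hmb1 : 1 < mb := by
      rcases Nat.lt_or_ge 1 mb with h | h
      · exact h
      · exfalso
        interval_cases mb
        · rw [mul_zero] at hmb; omega
        · rw [mul_one] at hmb; exact hcase hmb.symm
    have hNpos : 0 < Nat.card N := Nat.card_pos
    have hQcard : Nat.card (G ⧸ N) = mb * n := by
      have h1 := Subgroup.card_eq_card_quotient_mul_card_subgroup N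
      rw [hG, hmb] at h1
      apply Nat.eq_of_mul_eq_mul_right hNpos
      rw [← h1]; ring
    have hmbm : mb ∣ m := ⟨Nat.card N, by rw [hmb, mul_comm]⟩
    have hmbn : mb.Coprime n := Nat.Coprime.coprime_dvd_left hmbm hmn
    have hnoQ : NoCross (G ⧸ N) m n := hno.quotient N
    have hFbm : (Nat.card (Cfsg.fittingSubgroup (G ⧸ N))).Coprime m :=
      pgs_fitting_coprime m n hmn hO
    have hFbn : Nat.card (Cfsg.fittingSubgroup (G ⧸ N)) ∣ n := by
      have h1 : Nat.card (Cfsg.fittingSubgroup (G ⧸ N)) ∣ mb * n :=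
        hQcard ▸ Subgroup.card_subgroup_dvd_card _
      exact Nat.Coprime.dvd_of_dvd_mul_left (Nat.Coprime.coprime_dvd_right hmbm hFbm) h1
    have hap : (mb.minFac).Prime := Nat.minFac_prime (by omega)
    have hamb : mb.minFac ∣ mb := Nat.minFac_dvd mb
    have : Fact (mb.minFac).Prime := ⟨hap⟩
    obtain ⟨x, hx⟩ := exists_prime_orderOf_dvd_card' (G := G ⧸ N) mb.minFac
      (hQcard ▸ Dvd.dvd.mul_right hamb n)
    have hcyc : IsCyclic (Cfsg.fittingSubgroup (G ⧸ N)) :=
      pgs_fitting_quotient_cyclic m n hmn hno N hNne ⟨mb, hmb⟩ hFbn x mb.minFac hap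
        (hamb.trans hmbm) hx
    have hFbnormal : (Cfsg.fittingSubgroup (G ⧸ N)).Normal := fittingSubgroup_normal
    obtain ⟨Tb, hTb, hFT⟩ := hall_dominance (G := G ⧸ N) n mb (by rw [hQcard, mul_comm])
      hmbn.symm (Cfsg.fittingSubgroup (G ⧸ N)) (Nat.Coprime.coprime_dvd_right hmbm hFbm)
    have hTbn : Tb.Normal := by
      constructor
      intro t ht g
      have h1 : g * t * g⁻¹ = ⁅g, t⁆ * t := by rw [commutatorElement_def]; group
      rw [h1]
      apply Tb.mul_mem _ ht
      apply hFT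
      apply centralizer_fittingSubgroup_le
      rw [Subgroup.mem_centralizer_iff]
      intro f hf
      exact (pgs_comm_centralizes_cyclic (Cfsg.fittingSubgroup (G ⧸ N)) g t f hf).symm
    have hTbne : Tb ≠ ⊥ := by
      intro h; rw [h, Subgroup.card_bot] at hTb; omega
    set K := Tb.comap (QuotientGroup.mk' N) with hK
    have hKn : K.Normal := hTbn.comap _
    have hNK : N ≤ K := by
      intro y hy
      rw [hK, Subgroup.mem_comap]
      have : (QuotientGroup.mk' N) y = 1 := by
        rw [QuotientGroup.mk'_apply, QuotientGroup.eq_one_iff]; exact hy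
      rw [this]; exact Tb.one_mem
    have hKmap : K.map (QuotientGroup.mk' N) = Tb :=
      Subgroup.map_comap_eq_self_of_surjective (QuotientGroup.mk'_surjective N) Tb
    have hKcard : Nat.card N * n = Nat.card K := by
      have := card_map_mk'_of_le K N hNK
      rwa [hKmap, hTb] at this
    have hlt : N < K := by
      refine lt_of_le_of_ne hNK ?_
      intro h
      have h1 : Nat.card N * n = Nat.card N := by
        rw [hKcard]; exact (congrArg (fun X : Subgroup G => Nat.card X) h).symm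
      have h2 : Nat.card N * n = Nat.card N * 1 := by rw [h1, mul_one]
      have := Nat.eq_of_mul_eq_mul_left hNpos h2
      omega
    refine ⟨N, K, hNn, hKn, hlt, ?_, ?_⟩
    · obtain ⟨C, hC⟩ := hall_exists (G := ↥K) n (Nat.card N) (by rw [← hKcard, mul_comm])
        hNcop.symm
      have hK'n : (N.subgroupOf K).Normal := Subgroup.normal_subgroupOf
      have hK'card : Nat.card (N.subgroupOf K) = Nat.card N :=
        Nat.card_congr (Subgroup.subgroupOfEquivOfLe hNK).toEquiv
      have hK'ne : N.subgroupOf K ≠ ⊥ := by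
        intro h
        rw [h, Subgroup.card_bot] at hK'card
        exact hNne (Subgroup.card_eq_one.1 hK'card.symm)
      have hCne : C ≠ ⊥ := by
        intro h; rw [h, Subgroup.card_bot] at hC; omega
      have hdisj : N.subgroupOf K ⊓ C = ⊥ :=
        inf_eq_bot_of_coprime_card _ C (by rw [hK'card, hC]; exact hNcop)
      obtain ⟨h1, h2⟩ := pgs_frob_recog (N.subgroupOf K) C (by rw [hK'card, hC, hKcard]) hdisj
        hK'ne hCne (by
          intro c hc hc1 k hk hcomm
          by_contra hk1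
          have h3 : orderOf k ∣ m := by
            rw [← Subgroup.orderOf_coe]
            exact (Subgroup.orderOf_dvd_natCard N (Subgroup.mem_subgroupOf.1 hk)).trans
              ⟨mb, hmb⟩
          have h4 : orderOf c ∣ n := by
            have := Subgroup.orderOf_dvd_natCard C hc
            rwa [hC] at this
          exact (hno.subgroup K).ne_comm hmn hk1 hc1 h3 h4 hcomm.symm)
      exact ⟨C, h1, h2⟩
    · obtain ⟨Cb, hCb⟩ := hall_exists (G := G ⧸ N) mb n hQcard hmbn
      have hCbne : Cb ≠ ⊥ := by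
        intro h; rw [h, Subgroup.card_bot] at hCb; omega
      have hdisj : Tb ⊓ Cb = ⊥ :=
        inf_eq_bot_of_coprime_card Tb Cb (by rw [hTb, hCb]; exact hmbn.symm)
      obtain ⟨h1, h2⟩ := pgs_frob_recog Tb Cb (by rw [hTb, hCb, hQcard, mul_comm]) hdisj
        hTbne hCbne (by
          intro c hc hc1 k hk hcomm
          by_contra hk1
          have h3 : orderOf c ∣ m := by
            have := Subgroup.orderOf_dvd_natCard Cb hc
            rw [hCb] at this
            exact this.trans hmbm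
          have h4 : orderOf k ∣ n := by
            have := Subgroup.orderOf_dvd_natCard Tb hk
            rwa [hTb] at this
          exact hnoQ.ne_comm hmn hc1 hk1 h3 h4 hcomm)
      refine ⟨Cb, h1, ?_⟩
      rw [h2, hKmap]


/-- Splitting a number into its `A`-part and `A'`-part. -/
theorem pgs_split (g : ℕ) (hg : g ≠ 0) (A : Set ℕ) :
    ∃ m n : ℕ, g = m * n ∧ m.Coprime n ∧ (∀ p, p.Prime → p ∣ m → p ∈ A ∧ p ∣ g) ∧
      (∀ p, p.Prime → p ∣ n → p ∉ A ∧ p ∣ g) ∧
      (∀ p, p.Prime → p ∣ g → p ∈ A → p ∣ m) ∧ (∀ p, p.Prime → p ∣ g → p ∉ A → p ∣ n) := by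
  classical
  set m := ∏ p ∈ g.primeFactors.filter (· ∈ A), p ^ g.factorization p with hm
  set n := ∏ p ∈ g.primeFactors.filter (fun p => ¬ p ∈ A), p ^ g.factorization p with hn
  have hmn : g = m * n := by
    rw [hm, hn, Finset.prod_filter_mul_prod_filter_not]
    exact Nat.prod_primeFactors_pow_factorization hg
  have hm_in : ∀ p, p.Prime → p ∣ m → p ∈ A ∧ p ∣ g := by
    intro p hp hpm
    rw [hm, Prime.dvd_finsetProd_iff hp.prime] at hpm
    obtain ⟨q, hq, hpq⟩ := hpm
    rw [Finset.mem_filter] at hq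
    have hqp : q.Prime := Nat.prime_of_mem_primeFactors hq.1
    have h1 : p ∣ q := hp.dvd_of_dvd_pow hpq
    have h2 : p = q := (Nat.prime_dvd_prime_iff_eq hp hqp).1 h1
    rw [h2]
    exact ⟨hq.2, Nat.dvd_of_mem_primeFactors hq.1⟩
  have hn_in : ∀ p, p.Prime → p ∣ n → p ∉ A ∧ p ∣ g := by
    intro p hp hpn
    rw [hn, Prime.dvd_finsetProd_iff hp.prime] at hpn
    obtain ⟨q, hq, hpq⟩ := hpn
    rw [Finset.mem_filter] at hq
    have hqp : q.Prime := Nat.prime_of_mem_primeFactors hq.1
    have h1 : p ∣ q := hp.dvd_of_dvd_pow hpq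
    have h2 : p = q := (Nat.prime_dvd_prime_iff_eq hp hqp).1 h1
    rw [h2]
    exact ⟨hq.2, Nat.dvd_of_mem_primeFactors hq.1⟩
  refine ⟨m, n, hmn, ?_, hm_in, hn_in, ?_, ?_⟩
  · apply Nat.coprime_of_dvd
    intro k hk hkm hkn
    exact (hn_in k hk hkn).1 (hm_in k hk hkm).1
  · intro p hp hpg hpA
    have hmem : p ∈ g.primeFactors.filter (· ∈ A) := by
      rw [Finset.mem_filter]
      exact ⟨Nat.mem_primeFactors.2 ⟨hp, hpg, hg⟩, hpA⟩
    have h1 : p ^ g.factorization p ∣ m := Finset.dvd_prod_of_mem _ hmem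
    have h2 : 0 < g.factorization p := hp.factorization_pos_of_dvd hg hpg
    exact (dvd_pow_self p h2.ne').trans h1
  · intro p hp hpg hpA
    have hmem : p ∈ g.primeFactors.filter (fun p => ¬ p ∈ A) := by
      rw [Finset.mem_filter]
      exact ⟨Nat.mem_primeFactors.2 ⟨hp, hpg, hg⟩, hpA⟩
    have h1 : p ^ g.factorization p ∣ n := Finset.dvd_prod_of_mem _ hmem
    have h2 : 0 < g.factorization p := hp.factorization_pos_of_dvd hg hpg
    exact (dvd_pow_self p h2.ne').trans h1

open Cfsg.Agent.Lib.Helper11 in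
/-- The order of the Fitting subgroup lies on one side. -/
theorem pgs_fitting_side {G : Type*} [Group G] [Finite G] (m n : ℕ)
    (hG : Nat.card G = m * n) (hmn : m.Coprime n) (hno : NoCross G m n) :
    Nat.card (Cfsg.fittingSubgroup G) ∣ m ∨ Nat.card (Cfsg.fittingSubgroup G) ∣ n := by
  set F := Cfsg.fittingSubgroup G with hFdef
  have hFnil : Group.IsNilpotent F := fittingSubgroup_nilpotent
  have hFdvd : Nat.card F ∣ m * n := hG ▸ Subgroup.card_subgroup_dvd_card F
  by_cases h1 : ∃ p, p.Prime ∧ p ∣ Nat.card F ∧ p ∣ m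
  · by_cases h2 : ∃ q, q.Prime ∧ q ∣ Nat.card F ∧ q ∣ n
    · exfalso
      obtain ⟨p, hp, hpF, hpm⟩ := h1
      obtain ⟨q, hq, hqF, hqn⟩ := h2
      have : Fact p.Prime := ⟨hp⟩
      have : Fact q.Prime := ⟨hq⟩
      obtain ⟨x, hx⟩ := exists_prime_orderOf_dvd_card' (G := ↥F) p hpF
      obtain ⟨y, hy⟩ := exists_prime_orderOf_dvd_card' (G := ↥F) q hqF
      have hpq : Nat.Coprime p q :=
        Nat.Coprime.coprime_dvd_left hpm (Nat.Coprime.coprime_dvd_right hqn hmn)
      have hc : Commute x y := commute_of_coprime_orderOf x y (by rw [hx, hy]; exact hpq)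
      have hord := hc.orderOf_mul_eq_mul_orderOf_of_coprime (by rw [hx, hy]; exact hpq)
      rw [hx, hy] at hord
      apply hno p q hp hq hpm hqn
      exact ⟨((x * y : ↥F) : G), by rw [Subgroup.orderOf_coe]; exact hord⟩
    · left
      push Not at h2
      have hcop : (Nat.card F).Coprime n := by
        apply Nat.coprime_of_dvd
        intro q hq hqF hqn
        exact h2 q hq hqF hqn
      exact Nat.Coprime.dvd_of_dvd_mul_right hcop hFdvd
  · right
    push Not at h1
    have hcop : (Nat.card F).Coprime m := by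
      apply Nat.coprime_of_dvd
      intro q hq hqF hqm
      exact h1 q hq hqF hqm
    exact Nat.Coprime.dvd_of_dvd_mul_left hcop hFdvd

/-- Solvable groups with disconnected prime graph. -/
theorem pgs_result {G : Type*} [Group G] [Finite G] (hsol : Group.IsSolvable G)
    (hdisc : (∃ A : Set ℕ, (∃ a ∈ A, a.Prime ∧ a ∣ Nat.card G) ∧
      (∃ b ∉ A, b.Prime ∧ b ∣ Nat.card G) ∧
      ∀ a ∈ A, ∀ b ∉ A, a.Prime → b.Prime → a ∣ Nat.card G → b ∣ Nat.card G →
        ¬ ∃ g : G, orderOf g = a * b)) :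
    (∃ C : Subgroup G, Cfsg.IsFrobeniusComplement C) ∨
    (∃ (H K : Subgroup G) (_ : H.Normal), K.Normal ∧ H < K ∧
      (∃ C : Subgroup ↥K, Cfsg.IsFrobeniusComplement C ∧
        Cfsg.frobeniusKernel C = (H.subgroupOf K : Set ↥K)) ∧
      (∃ C : Subgroup (G ⧸ H), Cfsg.IsFrobeniusComplement C ∧
        Cfsg.frobeniusKernel C = (K.map (QuotientGroup.mk' H) : Set (G ⧸ H)))) := by
  obtain ⟨A, ⟨a, haA, hap, hag⟩, ⟨b, hbA, hbp, hbg⟩, hno⟩ := hdisc
  have hg0 : Nat.card G ≠ 0 := Nat.card_pos.ne'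
  obtain ⟨m, n, hmn_eq, hcop, hm_in, hn_in, hm_of, hn_of⟩ := pgs_split (Nat.card G) hg0 A
  have hm0 : m ≠ 0 := by
    rintro rfl; rw [zero_mul] at hmn_eq; exact hg0 hmn_eq
  have hn0 : n ≠ 0 := by
    rintro rfl; rw [mul_zero] at hmn_eq; exact hg0 hmn_eq
  have hm1 : 1 < m := by
    have h1 : a ∣ m := hm_of a hap hag haA
    have h2 := Nat.le_of_dvd (Nat.pos_of_ne_zero hm0) h1
    have := hap.two_le
    omega
  have hn1 : 1 < n := by
    have h1 : b ∣ n := hn_of b hbp hbg hbA
    have h2 := Nat.le_of_dvd (Nat.pos_of_ne_zero hn0) h1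
    have := hbp.two_le
    omega
  have hnoc : NoCross G m n := fun a' b' ha' hb' ham hbn =>
    hno a' (hm_in a' ha' ham).1 b' (hn_in b' hb' hbn).1 ha' hb' (hm_in a' ha' ham).2
      (hn_in b' hb' hbn).2
  rcases pgs_fitting_side m n hmn_eq hcop hnoc with h | h
  · exact pgs_main m n hmn_eq hcop hm1 hn1 hnoc h
  · exact pgs_main n m (by rw [hmn_eq, mul_comm]) hcop.symm hn1 hm1 hnoc.symm h

end Cfsg.Agent.Lib.helper23
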