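import Mathlib
import Cfsg.Agent.Lib.Helper18.ONE.Defs

set_option autoImplicit false

/-!
# Project ONE (designer helper18), rows UC92 + UC93 + ARITHC (helper23), verbatim.
-/

namespace Cfsg.Agent.Lib.Helper18.ONE

/-- `n % c` is odd, hence positive, for `n` odd and `c` even. -/
theorem oneuc_mod_pos (d k : ℕ) : 0 < (2 * d + 1) % (2 * k) := by
  have h : (2 * d + 1) % (2 * k) % 2 = (2 * d + 1) % 2 :=
    Nat.mod_mod_of_dvd _ (Dvd.intro k rfl)
  omega

/-- UC92 (verbatim row). -/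
theorem uc_iff_92 (i c d m r : ℕ) (hi1 : 1 ≤ i) (hc : c = if Even i then i else 2 * i)
    (h2r : 2 < r) :
    UC i c d m 1 ↔
      (r = 2 ∨
       (2 < r ∧ Odd i ∧ c ≤ m ∧ (m % c = 0 ∨ (0 < m % c ∧ m % c < (2 * d + 1) % c))) ∨
       (2 < r ∧ Even i ∧ i ≤ m ∧ m % c < (2 * d + 1) % c ∧ (0 < m % c ∨ Even (m / i)))) := by
  unfold UC
  rcases Nat.even_or_odd i with hev | hodd
  · have hno : ¬ Odd i := Nat.not_odd_iff_even.mpr hev
    rw [if_pos hev] at hc
    subst hc
    constructor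
    · rintro ⟨h1, h2, h3⟩
      right; right
      refine ⟨h2r, hev, h1, h2, ?_⟩
      rcases h3 with h3 | h3
      · exact Or.inl h3
      · rcases h3.mp rfl with h4 | h4
        · exact absurd h4 hno
        · exact Or.inr h4
    · rintro (h | ⟨-, h, -⟩ | ⟨-, -, h1, h2, h3⟩)
      · omega
      · exact absurd h hno
      · refine ⟨h1, h2, ?_⟩
        rcases h3 with h3 | h3
        · exact Or.inl h3
        · exact Or.inr ⟨fun _ => Or.inr h3, fun _ => rfl⟩
  · have hne : ¬ Even i := Nat.not_even_iff_odd.mpr hodd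
    rw [if_neg hne] at hc
    subst hc
    have hpos := oneuc_mod_pos d i
    constructor
    · rintro ⟨h1, h2, -⟩
      right; left
      refine ⟨h2r, hodd, h1, ?_⟩
      rcases Nat.eq_zero_or_pos (m % (2 * i)) with h0 | h0
      · exact Or.inl h0
      · exact Or.inr ⟨h0, h2⟩
    · rintro (h | ⟨-, -, h1, h2⟩ | ⟨-, h, -⟩)
      · omega
      · refine ⟨h1, ?_, Or.inr ⟨fun _ => Or.inl hodd, fun _ => rfl⟩⟩
        rcases h2 with h2 | ⟨-, h2⟩
        · rw [h2]; exact hpos
        · exact h2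
      · exact absurd h hne

/-- UC93 (verbatim row). -/
theorem uc_iff_93 (i c d m r p : ℕ) (hi1 : 1 ≤ i) (hc : c = if Even i then i else 2 * i)
    (h2r : 2 < r) (hrp : r ≠ p) :
    UC i c d m (-1) ↔
      (r = 2 ∨
       (r ≠ p ∧ 2 < r ∧ Odd i ∧ c ≤ m ∧ 0 < m % c ∧ m % c < (2 * d + 1) % c) ∨
       (r ≠ p ∧ 2 < r ∧ Even i ∧ i ≤ m ∧ m % c < (2 * d + 1) % c ∧ (0 < m % c ∨ Odd (m / i)))) := by
  unfold UC
  have hm1 : ((-1 : ℤ) = 1) ↔ False := by norm_num
  rcases Nat.even_or_odd i with hev | hodd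
  · have hno : ¬ Odd i := Nat.not_odd_iff_even.mpr hev
    rw [if_pos hev] at hc
    subst hc
    constructor
    · rintro ⟨h1, h2, h3⟩
      right; right
      refine ⟨hrp, h2r, hev, h1, h2, ?_⟩
      rcases h3 with h3 | h3
      · exact Or.inl h3
      · right
        rw [hm1] at h3
        by_contra hne
        exact h3.mpr (Or.inr (Nat.not_odd_iff_even.mp hne))
    · rintro (h | ⟨-, -, h, -⟩ | ⟨-, -, -, h1, h2, h3⟩)
      · omega
      · exact absurd h hno
      · refine ⟨h1, h2, ?_⟩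
        rcases h3 with h3 | h3
        · exact Or.inl h3
        · right
          rw [hm1]
          constructor
          · exact False.elim
          · rintro (h | h)
            · exact hno h
            · exact (Nat.not_even_iff_odd.mpr h3) h
  · have hne : ¬ Even i := Nat.not_even_iff_odd.mpr hodd
    rw [if_neg hne] at hc
    subst hc
    constructor
    · rintro ⟨h1, h2, h3⟩
      right; left
      refine ⟨hrp, h2r, hodd, h1, ?_, h2⟩
      rcases h3 with h3 | h3
      · exact h3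
      · rw [hm1] at h3
        exact (h3.mpr (Or.inl hodd)).elim
    · rintro (h | ⟨-, -, -, h1, h2, h3⟩ | ⟨-, -, h, -⟩)
      · omega
      · exact ⟨h1, h3, Or.inl h2⟩
      · exact absurd h hne

/-- ARITHC (verbatim row). -/
theorem one_arith_c (c d m : ℕ) (hc0 : 0 < c) (hce : Even c) (hme : Even m) (hmd : m ≤ 2 * d)
    (hj : ∃ j : ℕ, 2 * j < m ∧ c ∣ 2 * (d - j)) :
    c ≤ 2 * d ∧ (m % c < (2 * d + 1) % c → c ≤ m) := by
  obtain ⟨j, hj1, k, hk⟩ := hj
  have hjd : j < d := by omega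
  have hk0 : 0 < k := by
    rcases Nat.eq_zero_or_pos k with h0 | h0
    · rw [h0, Nat.mul_zero] at hk; omega
    · exact h0
  have hck : c ≤ c * k := Nat.le_mul_of_pos_right c hk0
  refine ⟨by omega, fun hlt => ?_⟩
  by_contra hcm
  have hcm' : m < c := Nat.lt_of_not_le hcm
  have h1 : m % c = m := Nat.mod_eq_of_lt hcm'
  have h2 : 2 * d + 1 = (2 * j + 1) + c * k := by omega
  have h3 : (2 * d + 1) % c = 2 * j + 1 := by
    rw [h2, Nat.add_mul_mod_self_left]
    exact Nat.mod_eq_of_lt (by omega)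
  omega

end Cfsg.Agent.Lib.Helper18.ONE
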