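import Mathlib
import Cfsg.Prelude.Def_OddOrderLocal
import Cfsg.Agent.Lib.Helper18.PRL.Defs
import Cfsg.Agent.Lib.Helper18.BLK.LemmaA
import Cfsg.Agent.Lib.helper23.PRLCH3
import Cfsg.Agent.Lib.helper23.PRLCH4

set_option autoImplicit false

namespace Cfsg.Agent.Lib.Helper18.PRL

open scoped commutatorElement

universe u

section three
variable {G : Type u} [Group G] [Finite G] {n : ℕ}

/-- `Z_2 ≤ G_1` for a group of maximal class of order `p ^ n`, `n ≥ 4`. -/
theorem h23_Z2_le_G1 {p : ℕ} [Fact p.Prime] (h : MC p G n) (hn : 4 ≤ n) : Z G 2 ≤ G1 G := by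
  have h1 : Z G 2 ≤ Z G (n - 2) := Subgroup.upperCentralSeries_mono G (by omega)
  rw [← commutator_eq_Z h (by omega)] at h1
  exact h1.trans (commutator_le_G1 G)

/-- PRL-MCY -/
theorem G1_metacyclic (h : MC 3 G n) (hn : 5 ≤ n)
    (hom : ∀ x ∈ G1 G, x ^ 3 = 1 → x ∈ Z G 2) : Cfsg.IsMetacyclic ↥(G1 G) := by
  haveI : Fact (Nat.Prime 3) := ⟨Nat.prime_three⟩
  have hpg : IsPGroup 3 G := IsPGroup.of_card h.1
  have hZG : Z G 2 ≤ G1 G := h23_Z2_le_G1 h (by omega)
  refine Cfsg.Agent.Lib.Helper18.BLK.metacyclic_of_central_omega (p := 3) (by norm_num)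
    (Nat.card ↥(G1 G)) ↥(G1 G) rfl (hpg.to_subgroup (G1 G)) ((Z G 2).subgroupOf (G1 G)) ?_ ?_ ?_
  · intro e he
    rw [Subgroup.mem_subgroupOf] at he
    rw [Subgroup.mem_center_iff]
    intro g
    have hg := g.2
    unfold G1 at hg
    rw [Subgroup.mem_centralizer_iff] at hg
    apply Subtype.ext
    rw [Subgroup.coe_mul, Subgroup.coe_mul]
    exact (hg (e : G) he).symm
  · rw [Nat.card_congr (Subgroup.subgroupOfEquivOfLe hZG).toEquiv,
      card_Z h (by omega) 2 (by omega)]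
  · intro x hx
    rw [Subgroup.mem_subgroupOf]
    apply hom (x : G) x.2
    have := congrArg (fun y : ↥(G1 G) => (y : G)) hx
    simpa using this

end three

end Cfsg.Agent.Lib.Helper18.PRL
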