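import Mathlib
import Cfsg.Agent.Lib.Helper18.SDM.Defs3
import Cfsg.Agent.Lib.Helper16.Char2K

/-!
# Project SDM (S2549), row X2 (core): in characteristic 2 a reflection is not in the commutator subgroup of `OQ Q'`,
given a transfer isomorphism `Φ` as in the statement of row X1 (`xfer_iso`).
-/

set_option autoImplicit false
set_option linter.unusedSectionVars false
set_option linter.unusedVariables false

namespace Cfsg.Agent.Lib.Helper18.QBN

open Cfsg.Agent.Lib.helper14.UBN QuadraticMap

universe u v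

variable {F : Type u} [Field F]

/-- a homomorphism to a commutative group kills the commutator subgroup -/
theorem sdmx2_comm_le_ker {G : Type*} [Group G] {A : Type*} [CommGroup A] (χ : G →* A) :
    commutator G ≤ χ.ker := by
  rw [commutator_eq_closure, Subgroup.closure_le]
  rintro _ ⟨a, b, rfl⟩
  rw [SetLike.mem_coe, MonoidHom.mem_ker, commutatorElement_def]
  simp only [map_mul, map_inv]
  rw [mul_comm (χ a) (χ b)]
  simp

/-- the core of row X2: hypothesis `hΦ` = the property of the isomorphism of row X1 -/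
theorem sdmx2_core {ι : Type} [Fintype ι] [DecidableEq ι] [CharP F 2]
    {V : Type v} [AddCommGroup V] [Module F V]
    (Q : QuadraticForm F (ι → F)) (hQ : (QuadraticMap.polarBilin Q).Nondegenerate)
    (Q' : QuadraticForm F V) (E : (ι → F) ≃ₗ[F] V) (hE : ∀ x, Q' (E x) = Q x)
    (Φ : ↥(Cfsg.isometryGroup F ⇑Q) ≃* ↥(OQ Q'))
    (hΦ : ∀ (g : ↥(Cfsg.isometryGroup F ⇑Q)) (x : ι → F),
      ((Φ g : ↥(OQ Q')) : V ≃ₗ[F] V) (E x) =
        E (Matrix.mulVec ((g : Matrix.GeneralLinearGroup ι F) : Matrix ι ι F) x))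
    (y : V) (hy : Q' y ≠ 0) :
    reflG Q' y hy ∉ commutator ↥(OQ Q') := by
  intro hmem
  have hu : Q (E.symm y) ≠ 0 := by
    rw [← hE, LinearEquiv.apply_symm_apply]
    exact hy
  have hpol : ∀ a b : ι → F, polar Q' (E a) (E b) = polar Q a b := by
    intro a b
    unfold polar
    rw [← map_add, hE, hE, hE]
  have key : Φ (Cfsg.Agent.Lib.Helper16.CDG.refl Q (E.symm y) hu) = reflG Q' y hy := by
    apply Subtype.ext
    apply LinearEquiv.ext
    intro v
    obtain ⟨x, rfl⟩ := E.surjective v
    rw [hΦ, Cfsg.Agent.Lib.Helper16.CDG.refl_coe, Cfsg.Agent.Lib.helper6.reflectionMatrix_mulVec,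
      reflG_apply, map_sub, map_smul, LinearEquiv.apply_symm_apply]
    have h1 : polar Q' (E x) y = polar Q (E.symm y) x := by
      have := hpol x (E.symm y)
      rw [LinearEquiv.apply_symm_apply] at this
      rw [this, polar_comm]
    have h2 : Q' y = Q (E.symm y) := by
      rw [← hE, LinearEquiv.apply_symm_apply]
    rw [h1, h2]
  let χ : ↥(OQ Q') →* ℤˣ :=
    (Cfsg.Agent.Lib.Helper16.C2.dickson Q hQ).comp Φ.symm.toMonoidHom
  have hker := sdmx2_comm_le_ker χ hmem
  rw [MonoidHom.mem_ker] at hker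
  have hval : χ (reflG Q' y hy) = -1 := by
    show Cfsg.Agent.Lib.Helper16.C2.dickson Q hQ (Φ.symm (reflG Q' y hy)) = -1
    rw [← key, MulEquiv.symm_apply_apply]
    exact Cfsg.Agent.Lib.Helper16.C2.dickson_refl Q hQ _ hu
  rw [hval] at hker
  exact absurd hker (by decide)

end Cfsg.Agent.Lib.Helper18.QBN
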