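import Mathlib
import Cfsg.Agent.Lib.helper23.SDMX2core
import Cfsg.Agent.Lib.helper15.SDMX1

/-!
# Project SDM (S2549), row X2, verbatim from `Helper18/SDM/Skel2.lean.txt` (helper23):
characteristic 2, a reflection is not in the commutator subgroup (`sdmx2_core` + row X1 `xfer_iso`).
-/

set_option autoImplicit false
set_option linter.unusedSectionVars false
set_option linter.unusedVariables false

namespace Cfsg.Agent.Lib.Helper18.QBN

open Cfsg.Agent.Lib.helper14.UBN QuadraticMap

universe u v

variable {F : Type u} [Field F] {W : Type v} [AddCommGroup W] [Module F W] {n : ℕ}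

/-- [ROW X2] characteristic 2: a reflection is not in the commutator subgroup (X1; `Φ (CDG.refl Q (E⁻¹ y)) = reflG Q' y`;
`Helper16.C2.dickson Q hQ : isometryGroup →* ℤˣ` with `C2.dickson_refl = -1`; a hom to an abelian group kills commutators) -/
theorem reflG_not_mem_commutator {ι : Type} [Fintype ι] [DecidableEq ι] [CharP F 2]
    {V : Type v} [AddCommGroup V] [Module F V]
    (Q : QuadraticForm F (ι → F)) (hQ : (QuadraticMap.polarBilin Q).Nondegenerate)
    (Q' : QuadraticForm F V) (E : (ι → F) ≃ₗ[F] V) (hE : ∀ x, Q' (E x) = Q x) (y : V) (hy : Q' y ≠ 0) :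
    reflG Q' y hy ∉ commutator ↥(OQ Q') := by
  obtain ⟨Φ, hΦ⟩ := xfer_iso (⇑Q) Q' E hE
  exact sdmx2_core Q hQ Q' E hE Φ hΦ y hy

end Cfsg.Agent.Lib.Helper18.QBN
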