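import Mathlib
import Cfsg.Agent.Lib.helper3.T2E.Defs3
import Cfsg.Agent.Lib.helper8.ChevTwE6H16
import Cfsg.Agent.Lib.Helper20.T2EC2
import Cfsg.Agent.Lib.helper23.T2EC5core

/-!
# T2E row C5 (helper23): `CLm_tor` VERBATIM from `helper3/T2E/SkelA.lean.txt` (core `T2EC5core` + C4 `chi_ne_one` of helper20).
-/

set_option autoImplicit false

namespace Cfsg.Agent.Lib.helper3.T2E

open Cfsg.Lie Cfsg.Lie.ChevalleyDatum Matrix
open Cfsg.Agent.Lib.helper8 Cfsg.Agent.Lib.Helper10.TEM Cfsg.Agent.Lib.helper7.Ce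
  Cfsg.Agent.Lib.helper15.St2

universe u

variable {K : Type u} [Field K] {q : ℕ} {f : K ≃+* K} {Γ : Type u} [Group Γ]
  {π : Γ →* ↥(twistedE6 K q)}

-- ROW C5 [M]  `IsCE.torus` with the root group of `r`, `w := h`, `g := h'` of C4 (`cj h' h = h`: D5).
theorem CLm_tor [Fintype K] (hq : IsPrimePow q) (hK : Fintype.card K = q ^ 2) (h2 : q ≠ 2)
    (hF : Frob q f) (hπ : IsCE π) (r : ℕ) (hr : r < 72) (h : GG K) (hh : h ∈ T1 K q)
    (h1 : h8chi chevE6 hB h r = 1) : ∀ t, Adm q r t → CLm π h (XT q r t) :=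
  t2ec5h23_CLm_tor_core hF hπ r hr (chi_ne_one hq hK h2 hF r hr) h hh h1

end Cfsg.Agent.Lib.helper3.T2E
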