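import Mathlib

set_option autoImplicit false

namespace Cfsg.Agent.Lib.helper23

open Equiv
open scoped commutatorElement

/-- identity or fixed-point-free involution of four points -/
def kleinPred (a : Perm (Fin 4)) : Prop := a * a = 1 ∧ (a = 1 ∨ ∀ x, a x ≠ x)

instance kleinPred_decidable : DecidablePred kleinPred := fun a => by
  unfold kleinPred; infer_instance

set_option maxRecDepth 100000 in
theorem klein_comm : ∀ a b : Perm (Fin 4), kleinPred a → kleinPred b → a * b = b * a := by
  decide

set_option maxRecDepth 100000 in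
theorem klein_mul : ∀ a b : Perm (Fin 4), kleinPred a → kleinPred b → kleinPred (a * b) := by
  decide

set_option maxRecDepth 100000 in
theorem klein_inv : ∀ a : Perm (Fin 4), kleinPred a → kleinPred a⁻¹ := by
  decide

set_option maxRecDepth 100000 in
theorem klein_of_even : ∀ a b : Perm (Fin 4), Perm.sign a = 1 → Perm.sign b = 1 →
    kleinPred (a * b * a⁻¹ * b⁻¹) := by
  decide

/-- the Klein four-group inside `Perm (Fin 4)` -/
def kleinSubgroup : Subgroup (Perm (Fin 4)) where
  carrier := {a | kleinPred a}
  mul_mem' := fun {a b} ha hb => klein_mul a b ha hb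
  one_mem' := by decide
  inv_mem' := fun {a} ha => klein_inv a ha

theorem derivedSeries_perm_fin_four : derivedSeries (Perm (Fin 4)) 3 = ⊥ := by
  have h1 : derivedSeries (Perm (Fin 4)) 1 ≤ alternatingGroup (Fin 4) := by
    rw [derivedSeries_succ, derivedSeries_zero, Subgroup.commutator_le]
    intro g₁ _ g₂ _
    rw [Perm.mem_alternatingGroup, map_commutatorElement]
    exact commutatorElement_eq_one_iff_mul_comm.mpr (mul_comm _ _)
  have h2 : derivedSeries (Perm (Fin 4)) 2 ≤ kleinSubgroup := by
    rw [derivedSeries_succ]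
    refine (Subgroup.commutator_mono h1 h1).trans ?_
    rw [Subgroup.commutator_le]
    intro g₁ hg₁ g₂ hg₂
    rw [Perm.mem_alternatingGroup] at hg₁ hg₂
    exact klein_of_even g₁ g₂ hg₁ hg₂
  rw [derivedSeries_succ, eq_bot_iff]
  refine (Subgroup.commutator_mono h2 h2).trans ?_
  rw [Subgroup.commutator_le]
  intro g₁ hg₁ g₂ hg₂
  rw [Subgroup.mem_bot]
  exact commutatorElement_eq_one_iff_mul_comm.mpr (klein_comm g₁ g₂ hg₁ hg₂)

theorem derivedSeries_perm_of_card_le_four {β : Type*} [Finite β] (h : Nat.card β ≤ 4) :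
    derivedSeries (Perm β) 3 = ⊥ := by
  classical
  haveI : Fintype β := Fintype.ofFinite β
  have hc : Fintype.card β ≤ Fintype.card (Fin 4) := by
    rw [Fintype.card_fin, ← Nat.card_eq_fintype_card]; exact h
  obtain ⟨ι⟩ := Function.Embedding.nonempty_of_card_le hc
  have h1 := map_derivedSeries_le_derivedSeries (Perm.viaEmbeddingHom ι) 3
  rw [derivedSeries_perm_fin_four, le_bot_iff] at h1
  exact (Subgroup.map_eq_bot_iff_of_injective _ (Perm.viaEmbeddingHom_injective ι)).mp h1

end Cfsg.Agent.Lib.helper23
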