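import Mathlib

/-!
# AMO-A1 : pure arithmetic for the field automorphism case
-/

set_option autoImplicit false

namespace Cfsg.Agent.Lib.Helper19.AMO

open Finset

/-- `S e = ∑_{i<e} a^i` is at most `a^e`. -/
theorem amoA1_geom_le (a e : ℕ) (ha : 2 ≤ a) : ∑ i ∈ range e, a ^ i ≤ a ^ e := by
  obtain ⟨x, rfl⟩ : ∃ x, a = x + 1 := ⟨a - 1, by omega⟩
  have h := geom_sum_mul_add x e
  have hx : 1 ≤ x := by omega
  have : ∑ i ∈ range e, (x + 1) ^ i ≤ (∑ i ∈ range e, (x + 1) ^ i) * x :=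
    Nat.le_mul_of_pos_right _ hx
  omega

/-- the induction step for `c * e * S e ≤ T e`. -/
theorem amoA1_step (a d c e : ℕ) (ha : 2 ≤ a) (hd : 1 ≤ d)
    (hc : c * (e + 2) ≤ a ^ ((d - 1) * e))
    (ih : c * e * ∑ i ∈ range e, a ^ i ≤ ∑ i ∈ range e, (a ^ d) ^ i) :
    c * (e + 1) * ∑ i ∈ range (e + 1), a ^ i ≤ ∑ i ∈ range (e + 1), (a ^ d) ^ i := by
  rw [sum_range_succ, sum_range_succ]
  have hS := amoA1_geom_le a e ha
  have hpow : (a ^ d) ^ e = a ^ ((d - 1) * e) * a ^ e := by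
    rw [← pow_mul, ← pow_add]
    congr 1
    obtain ⟨d', rfl⟩ : ∃ d', d = d' + 1 := ⟨d - 1, by omega⟩
    simp only [Nat.add_sub_cancel]
    ring
  rw [hpow]
  generalize ∑ i ∈ range e, a ^ i = S at ih hS ⊢
  generalize ∑ i ∈ range e, (a ^ d) ^ i = T at ih ⊢
  generalize a ^ ((d - 1) * e) = Y at hc ⊢
  generalize a ^ e = X at hS ⊢
  have h1 : c * (e + 1) * (S + X) = c * e * S + (c * S + c * (e + 1) * X) := by ring
  have h2 : c * S ≤ c * X := Nat.mul_le_mul_left _ hS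
  have h3 : c * X + c * (e + 1) * X = c * (e + 2) * X := by ring
  have h4 : c * (e + 2) * X ≤ Y * X := Nat.mul_le_mul_right _ hc
  omega

/-- `e + 2 ≤ 2 ^ e` for `2 ≤ e`. -/
theorem amoA1_two_pow (e : ℕ) (he : 2 ≤ e) : e + 2 ≤ 2 ^ e := by
  induction e, he using Nat.le_induction with
  | base => norm_num
  | succ n hn ih => rw [pow_succ]; omega

/-- the key inequality `e * S e ≤ T e`. -/
theorem amoA1_key (a d : ℕ) (ha : 2 ≤ a) (hd : 2 ≤ d) (e : ℕ) (he : 1 ≤ e)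
    (hex : ¬ (d = 2 ∧ a = 2 ∧ e = 2)) :
    e * ∑ i ∈ range e, a ^ i ≤ ∑ i ∈ range e, (a ^ d) ^ i := by
  have ha2 : a ^ 2 ≤ a ^ d := Nat.pow_le_pow_right (by omega) hd
  rcases Nat.lt_or_ge e 3 with h3 | h3
  · rcases Nat.lt_or_ge e 2 with h2 | h2
    · have : e = 1 := by omega
      subst this
      simp
    · have : e = 2 := by omega
      subst this
      simp only [sum_range_succ, sum_range_zero, pow_zero, pow_one, zero_add]
      rcases Nat.lt_or_ge 2 a with h | h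
      · nlinarith
      · have ha' : a = 2 := by omega
        subst ha'
        have hd3 : 3 ≤ d := by
          rcases Nat.lt_or_ge d 3 with h' | h'
          · exact absurd ⟨by omega, rfl, rfl⟩ hex
          · exact h'
        have : 2 ^ 3 ≤ 2 ^ d := Nat.pow_le_pow_right (by omega) hd3
        omega
  · -- induction from `e = 3`
    clear hex he
    induction e, h3 using Nat.le_induction with
    | base =>
      simp only [sum_range_succ, sum_range_zero, pow_zero, pow_one, zero_add]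
      have h4 : (a ^ d) ^ 2 = a ^ d * a ^ d := by ring
      rw [h4]
      have h5 : a ^ 2 * a ^ 2 ≤ a ^ d * a ^ d := Nat.mul_le_mul ha2 ha2
      have h6 : 2 * a ≤ a ^ 2 := by nlinarith
      have h7 : 4 * a ^ 2 ≤ a ^ 2 * a ^ 2 := Nat.mul_le_mul_right _ (by nlinarith)
      omega
    | succ n hn ih =>
      have := amoA1_step a d 1 n ha (by omega) ?_ (by simpa using ih)
      · simpa using this
      · rw [one_mul]
        calc n + 2 ≤ 2 ^ n := amoA1_two_pow n (by omega)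
          _ ≤ a ^ n := Nat.pow_le_pow_left ha _
          _ ≤ a ^ ((d - 1) * n) := Nat.pow_le_pow_right (by omega)
              (Nat.le_mul_of_pos_left _ (by omega))

/-- from `c * e * S e ≤ T e` to the final inequality. -/
theorem amoA1_final (a e d k q c : ℕ) (ha : 2 ≤ a) (hq : q = a ^ e)
    (hk : (a - 1) * k ≤ a ^ d - 1)
    (hkey : c * e * ∑ i ∈ range e, a ^ i ≤ ∑ i ∈ range e, (a ^ d) ^ i) :
    (q - 1) * (c * (e * k)) ≤ q ^ d - 1 := by
  obtain ⟨x, rfl⟩ : ∃ x, a = x + 1 := ⟨a - 1, by omega⟩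
  have hy : 1 ≤ (x + 1) ^ d := Nat.one_le_pow _ _ (by omega)
  obtain ⟨y, hy'⟩ : ∃ y, (x + 1) ^ d = y + 1 := ⟨(x + 1) ^ d - 1, by omega⟩
  have h1 := geom_sum_mul_add x e
  have h2 := geom_sum_mul_add y e
  rw [← hy'] at h2
  have hqd : q ^ d = ((x + 1) ^ d) ^ e := by rw [hq, ← pow_mul, ← pow_mul, mul_comm]
  rw [hqd, ← h2, hq, ← h1]
  simp only [Nat.add_sub_cancel] at hk ⊢
  rw [hy'] at hk
  simp only [Nat.add_sub_cancel] at hk
  generalize ∑ i ∈ range e, (x + 1) ^ i = S at hkey ⊢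
  generalize ∑ i ∈ range e, ((x + 1) ^ d) ^ i = T at hkey ⊢
  calc S * x * (c * (e * k)) = (c * e * S) * (x * k) := by ring
    _ ≤ T * y := Nat.mul_le_mul hkey hk

/-- AMO-A1 -/
theorem arith_field (a e d k q : ℕ) (ha : 2 ≤ a) (he : 1 ≤ e) (hd : 2 ≤ d) (hq : q = a ^ e)
    (hk : (a - 1) * k ≤ a ^ d - 1) (hex : ¬ (d = 2 ∧ a = 2 ∧ e = 2)) :
    (q - 1) * (e * k) ≤ q ^ d - 1 := by
  have := amoA1_final a e d k q 1 ha hq hk (by simpa using amoA1_key a d ha hd e he hex)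
  simpa using this

end Cfsg.Agent.Lib.Helper19.AMO
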