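import Mathlib
import Cfsg.Agent.Lib.helper23.AMOA1

/-!
# AMO-A1' : pure arithmetic for the graph-field case with a field part of order at least three
-/

set_option autoImplicit false

namespace Cfsg.Agent.Lib.Helper19.AMO

open Finset

/-- `2 e + 4 ≤ 4 ^ e` for `2 ≤ e`. -/
theorem amoA1p_four_pow (e : ℕ) (he : 2 ≤ e) : 2 * (e + 2) ≤ 4 ^ e := by
  induction e, he using Nat.le_induction with
  | base => norm_num
  | succ n hn ih => rw [pow_succ]; omega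

/-- the key inequality `2 e * S e ≤ T e` for `3 ≤ e`, `3 ≤ d`. -/
theorem amoA1p_key (a d : ℕ) (ha : 2 ≤ a) (hd : 3 ≤ d) (e : ℕ) (he : 3 ≤ e) :
    2 * e * ∑ i ∈ range e, a ^ i ≤ ∑ i ∈ range e, (a ^ d) ^ i := by
  have ha3 : a ^ 3 ≤ a ^ d := Nat.pow_le_pow_right (by omega) hd
  induction e, he using Nat.le_induction with
  | base =>
    simp only [sum_range_succ, sum_range_zero, pow_zero, pow_one, zero_add]
    have h4 : (a ^ d) ^ 2 = a ^ d * a ^ d := by ring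
    rw [h4]
    have h5 : a ^ 3 * a ^ 3 ≤ a ^ d * a ^ d := Nat.mul_le_mul ha3 ha3
    have h6 : 2 * a ≤ a ^ 2 := by nlinarith
    have h7 : 2 * a ^ 2 ≤ a ^ 3 := by
      have : a ^ 3 = a * a ^ 2 := by ring
      rw [this]; exact Nat.mul_le_mul_right _ ha
    have h8 : 8 * a ^ 3 ≤ a ^ 3 * a ^ 3 := Nat.mul_le_mul_right _ (by
      have : 2 ^ 3 ≤ a ^ 3 := Nat.pow_le_pow_left ha 3
      omega)
    omega
  | succ n hn ih =>
    refine amoA1_step a d 2 n ha (by omega) ?_ ih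
    have h2n : 2 * n ≤ (d - 1) * n := Nat.mul_le_mul_right _ (by omega)
    calc 2 * (n + 2) ≤ 4 ^ n := amoA1p_four_pow n (by omega)
      _ = 2 ^ (2 * n) := by rw [pow_mul]; norm_num
      _ ≤ a ^ (2 * n) := Nat.pow_le_pow_left ha _
      _ ≤ a ^ ((d - 1) * n) := Nat.pow_le_pow_right (by omega) h2n

/-- the case `e = 2`, `4 ≤ a`. -/
theorem amoA1p_key_two (a d : ℕ) (ha : 4 ≤ a) (hd : 3 ≤ d) :
    2 * 2 * ∑ i ∈ range 2, a ^ i ≤ ∑ i ∈ range 2, (a ^ d) ^ i := by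
  have ha3 : a ^ 3 ≤ a ^ d := Nat.pow_le_pow_right (by omega) hd
  simp only [sum_range_succ, sum_range_zero, pow_zero, pow_one, zero_add]
  have h1 : 16 * a ≤ a ^ 3 := by
    have : a ^ 3 = a * a * a := by ring
    rw [this]
    exact Nat.mul_le_mul_right _ (by nlinarith)
  omega

/-- AMO-A1' -/
theorem arith_graph_field_big (a e d k q : ℕ) (ha : 2 ≤ a) (hd : 3 ≤ d) (hq : q = a ^ e)
    (hk : (a - 1) * k ≤ a ^ d - 1) (he : 3 ≤ e ∨ (e = 2 ∧ 4 ≤ a)) :
    (q - 1) * (2 * (e * k)) ≤ q ^ d - 1 := by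
  refine amoA1_final a e d k q 2 ha hq hk ?_
  rcases he with he | ⟨rfl, ha4⟩
  · exact amoA1p_key a d ha hd e he
  · exact amoA1p_key_two a d ha4 hd

end Cfsg.Agent.Lib.Helper19.AMO
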