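import Mathlib

/-!
# AMO-A2 : pure arithmetic for the graph automorphism case
-/

set_option autoImplicit false

namespace Cfsg.Agent.Lib.Helper19.AMO

/-- if `d = m + 1 + t` and `3 ≤ q ^ t` then `2 q^(m+1) + 1 ≤ q^d`. -/
theorem amoA2_aux (q d m t : ℕ) (hq : 2 ≤ q) (hdt : d = m + 1 + t) (ht : 3 ≤ q ^ t) :
    2 * q ^ (m + 1) + 1 ≤ q ^ d := by
  subst hdt
  have h1 : 1 ≤ q ^ (m + 1) := Nat.one_le_pow _ _ (by omega)
  have h2 : q ^ (m + 1 + t) = q ^ (m + 1) * q ^ t := pow_add _ _ _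
  rw [h2]
  generalize q ^ (m + 1) = X at h1 ⊢
  generalize q ^ t = Y at ht ⊢
  nlinarith

/-- AMO-A2 -/
theorem arith_graph (q d m j : ℕ) (hq : 2 ≤ q) (hd : 3 ≤ d) (hm : d = 2 * m ∨ d + 1 = 2 * m)
    (hj : (q - 1) * j ≤ q ^ (m + 1)) (h3 : d ≠ 3) (h42 : ¬ (d = 4 ∧ q = 2))
    (h52 : ¬ (d = 5 ∧ q = 2)) :
    (q - 1) * (2 * j) ≤ q ^ d - 1 := by
  have key : 2 * q ^ (m + 1) + 1 ≤ q ^ d := by
    have hq2 : 4 ≤ q ^ 2 := by nlinarith
    rcases hm with hm | hm
    · -- `d = 2 m`, `m ≥ 2`, `t = m - 1`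
      have hm2 : 2 ≤ m := by omega
      refine amoA2_aux q d m (m - 1) hq (by omega) ?_
      rcases Nat.lt_or_ge 2 m with h | h
      · calc 3 ≤ q ^ 2 := by omega
          _ ≤ q ^ (m - 1) := Nat.pow_le_pow_right (by omega) (by omega)
      · have hm' : m = 2 := by omega
        subst hm'
        have : q ≠ 2 := fun hq' => h42 ⟨by omega, hq'⟩
        simp only [show 2 - 1 = 1 from rfl, pow_one]
        omega
    · -- `d = 2 m - 1`, `m ≥ 3`, `t = m - 2`
      have hm3 : 3 ≤ m := by omega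
      refine amoA2_aux q d m (m - 2) hq (by omega) ?_
      rcases Nat.lt_or_ge 3 m with h | h
      · calc 3 ≤ q ^ 2 := by omega
          _ ≤ q ^ (m - 2) := Nat.pow_le_pow_right (by omega) (by omega)
      · have hm' : m = 3 := by omega
        subst hm'
        have : q ≠ 2 := fun hq' => h52 ⟨by omega, hq'⟩
        simp only [show 3 - 2 = 1 from rfl, pow_one]
        omega
  have h2 : (q - 1) * (2 * j) = 2 * ((q - 1) * j) := by ring
  rw [h2]
  omega

end Cfsg.Agent.Lib.Helper19.AMO
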