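import Mathlib

/-!
# AMO-A3 : pure arithmetic for the graph-field automorphism case
-/

set_option autoImplicit false

namespace Cfsg.Agent.Lib.Helper19.AMO

/-- `2 (q0+1) q0^(d+1) + 1 ≤ q0^(2d)` unless `(d, q0) = (3, 2)`. -/
theorem amoA3_aux (q0 d : ℕ) (hq0 : 2 ≤ q0) (hd : 3 ≤ d) (hex : ¬ (d = 3 ∧ q0 = 2)) :
    2 * (q0 + 1) * q0 ^ (d + 1) + 1 ≤ q0 ^ (2 * d) := by
  rcases Nat.lt_or_ge 3 d with h | h
  · -- `d ≥ 4`
    obtain ⟨t, rfl⟩ : ∃ t, d = t + 4 := ⟨d - 4, by omega⟩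
    have e1 : q0 ^ (2 * (t + 4)) = q0 ^ (t + 4 + 1) * (q0 ^ t * q0 ^ 3) := by
      rw [← pow_add, ← pow_add]; congr 1; ring
    have h1 : 1 ≤ q0 ^ (t + 4 + 1) := Nat.one_le_pow _ _ (by omega)
    have h2 : 1 ≤ q0 ^ t := Nat.one_le_pow _ _ (by omega)
    have h3 : 2 * (q0 + 1) + 1 ≤ q0 ^ 3 := by
      have hsq : 4 ≤ q0 ^ 2 := by nlinarith
      have : q0 ^ 3 = q0 ^ 2 * q0 := by ring
      nlinarith
    rw [e1]
    generalize q0 ^ (t + 4 + 1) = X at h1 ⊢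
    generalize q0 ^ t = Y at h2 ⊢
    generalize q0 ^ 3 = Z at h3 ⊢
    have h4 : Z ≤ Y * Z := Nat.le_mul_of_pos_left _ (by omega)
    calc 2 * (q0 + 1) * X + 1 ≤ (2 * (q0 + 1) + 1) * X := by nlinarith
      _ ≤ (Y * Z) * X := Nat.mul_le_mul_right _ (by omega)
      _ = X * (Y * Z) := by ring
  · have hd3 : d = 3 := by omega
    subst hd3
    have hq3 : 3 ≤ q0 := by
      rcases Nat.lt_or_ge q0 3 with h' | h'
      · exact absurd ⟨rfl, by omega⟩ hex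
      · exact h'
    have e1 : q0 ^ (2 * 3) = q0 ^ (3 + 1) * q0 ^ 2 := by
      rw [← pow_add]
    have h1 : 1 ≤ q0 ^ (3 + 1) := Nat.one_le_pow _ _ (by omega)
    have h3 : 2 * (q0 + 1) + 1 ≤ q0 ^ 2 := by nlinarith
    rw [e1]
    generalize q0 ^ (3 + 1) = X at h1 ⊢
    generalize q0 ^ 2 = Z at h3 ⊢
    calc 2 * (q0 + 1) * X + 1 ≤ (2 * (q0 + 1) + 1) * X := by nlinarith
      _ ≤ Z * X := Nat.mul_le_mul_right _ h3
      _ = X * Z := by ring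

/-- AMO-A3 -/
theorem arith_graph_field (q0 d j q : ℕ) (hq0 : 2 ≤ q0) (hq : q = q0 ^ 2) (hd : 3 ≤ d)
    (hj : (q0 - 1) * j ≤ q0 ^ (d + 1)) (hex : ¬ (d = 3 ∧ q0 = 2)) :
    (q - 1) * (2 * j) ≤ q ^ d - 1 := by
  have key := amoA3_aux q0 d hq0 hd hex
  obtain ⟨x, rfl⟩ : ∃ x, q0 = x + 1 := ⟨q0 - 1, by omega⟩
  have hqd : q ^ d = (x + 1) ^ (2 * d) := by rw [hq, ← pow_mul]
  have hq1 : q - 1 = x * (x + 1 + 1) := by
    rw [hq]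
    have : (x + 1) ^ 2 = x * (x + 1 + 1) + 1 := by ring
    omega
  rw [hqd, hq1]
  simp only [Nat.add_sub_cancel] at hj
  have h5 : x * (x + 1 + 1) * (2 * j) = 2 * (x + 1 + 1) * (x * j) := by ring
  have h6 : 2 * (x + 1 + 1) * (x * j) ≤ 2 * (x + 1 + 1) * (x + 1) ^ (d + 1) :=
    Nat.mul_le_mul_left _ hj
  omega

end Cfsg.Agent.Lib.Helper19.AMO
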