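import Mathlib
import Cfsg.Prelude.Def_GeometricClasses
import Cfsg.Agent.Lib.Helper27.ASC.Defs
import Cfsg.Agent.Lib.Helper19.ASG.Defs
import Cfsg.Agent.Lib.Helper19.ASU.Defs
import Cfsg.Agent.Lib.Helper19.ASUADJ
import Cfsg.Agent.Lib.Helper1.ASGCLIF5

set_option autoImplicit false
set_option linter.unusedVariables false
set_option linter.unusedSectionVars false

/-!
# Project ASU, block AB, piece IDEM2 (helper23): the idempotents of `Z` when its self-adjoint idempotents are trivial
(unitary copy of `Cfsg.Agent.Lib.helper23.ASPABIDEM2`)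
-/

namespace Cfsg.Agent.Lib.Helper19.ASU

open Cfsg Cfsg.Geo Cfsg.Agent.Lib.Helper27.ASC Cfsg.Agent.Lib.Helper19.ASG
open scoped MatrixGroups Matrix

variable {n : ℕ} {F : Type*} [Field F] [Fintype F]

/-- a non-trivial idempotent `g` of `Z` has `g* g = 0`, `g + g* = 1` -/
theorem asuabidem2_core (q : ℕ) (hF : Fintype.card F = q ^ 2) {N : Subgroup (GL (Fin n) F)}
    (hNI : N ≤ GU n F q) (hZ0 : ∀ e ∈ asgZ N, uadj q e = e → e * e = e → e = 0 ∨ e = 1)
    (g : Matrix (Fin n) (Fin n) F) (hg : g ∈ asgZ N) (hid : g * g = g) (h0 : g ≠ 0) (h1 : g ≠ 1) :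
    uadj q g * g = 0 ∧ g + uadj q g = 1 := by
  have hg' : uadj q g ∈ asgZ N := uadj_asgZ hF hNI hg
  have hid' : uadj q g * uadj q g = uadj q g := by rw [← uadj_mul hF, hid]
  have hc : g * uadj q g = uadj q g * g := asgclif_Z_comm hg hg'
  have hp : g * uadj q g ∈ asgZ N := Subalgebra.mul_mem _ hg hg'
  have hpsa : uadj q (g * uadj q g) = g * uadj q g := by rw [uadj_mul hF, uadj_uadj hF]
  have hpp : g * uadj q g * (g * uadj q g) = g * uadj q g := by
    calc g * uadj q g * (g * uadj q g) = g * (uadj q g * g) * uadj q g := by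
          simp only [Matrix.mul_assoc]
      _ = g * (g * uadj q g) * uadj q g := by rw [← hc]
      _ = (g * g) * (uadj q g * uadj q g) := by simp only [Matrix.mul_assoc]
      _ = g * uadj q g := by rw [hid, hid']
  have hp0 : g * uadj q g = 0 := by
    rcases hZ0 _ hp hpsa hpp with h | h
    · exact h
    · exfalso
      apply h1
      calc g = g * (g * uadj q g) := by rw [h, Matrix.mul_one]
        _ = (g * g) * uadj q g := by rw [Matrix.mul_assoc]
        _ = 1 := by rw [hid, h]
  have hp0' : uadj q g * g = 0 := by rw [← hc, hp0]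
  refine ⟨hp0', ?_⟩
  have hs : g + uadj q g ∈ asgZ N := Subalgebra.add_mem _ hg hg'
  have hssa : uadj q (g + uadj q g) = g + uadj q g := by rw [uadj_add hF, uadj_uadj hF, add_comm]
  have hss : (g + uadj q g) * (g + uadj q g) = g + uadj q g := by
    rw [add_mul, mul_add, mul_add, hid, hid', hp0, hp0', add_zero, zero_add]
  rcases hZ0 _ hs hssa hss with h | h
  · exfalso
    apply h0
    have h2 : uadj q g = -g := (eq_neg_of_add_eq_zero_right h)
    rw [h2, mul_neg, hid, neg_eq_zero] at hp0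
    exact hp0
  · exact h

/-- two non-trivial idempotents of `Z` with non-zero product are equal -/
theorem asuabidem2_eq (q : ℕ) (hF : Fintype.card F = q ^ 2) {N : Subgroup (GL (Fin n) F)}
    (hNI : N ≤ GU n F q) (hZ0 : ∀ e ∈ asgZ N, uadj q e = e → e * e = e → e = 0 ∨ e = 1)
    (e : Matrix (Fin n) (Fin n) F) (he : e ∈ asgZ N) (hide : e * e = e) (he0 : e ≠ 0) (he1 : e ≠ 1)
    (g : Matrix (Fin n) (Fin n) F) (hg : g ∈ asgZ N) (hidg : g * g = g) (hg0 : g ≠ 0) (hg1 : g ≠ 1)
    (heg : e * g ≠ 0) : g = e := by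
  obtain ⟨hee, hesum⟩ := asuabidem2_core q hF hNI hZ0 e he hide he0 he1
  obtain ⟨hgg, hgsum⟩ := asuabidem2_core q hF hNI hZ0 g hg hidg hg0 hg1
  have he' : uadj q e ∈ asgZ N := uadj_asgZ hF hNI he
  have hg' : uadj q g ∈ asgZ N := uadj_asgZ hF hNI hg
  have hq : e * g ∈ asgZ N := Subalgebra.mul_mem _ he hg
  have hceg : e * g = g * e := asgclif_Z_comm he hg
  have hqq : e * g * (e * g) = e * g := by
    calc e * g * (e * g) = e * (g * e) * g := by simp only [Matrix.mul_assoc]
      _ = e * (e * g) * g := by rw [← hceg]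
      _ = (e * e) * (g * g) := by simp only [Matrix.mul_assoc]
      _ = e * g := by rw [hide, hidg]
  have hq1 : e * g ≠ 1 := by
    intro h
    apply he1
    calc e = e * (e * g) := by rw [h, Matrix.mul_one]
      _ = (e * e) * g := by rw [Matrix.mul_assoc]
      _ = 1 := by rw [hide, h]
  obtain ⟨-, hqsum⟩ := asuabidem2_core q hF hNI hZ0 (e * g) hq hqq heg hq1
  rw [uadj_mul hF] at hqsum
  have h1 : e = e * g := by
    have h := congrArg (fun x => e * x) hqsum
    simp only [Matrix.mul_one, Matrix.mul_add] at h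
    have hz : e * (uadj q g * uadj q e) = 0 := by
      rw [asgclif_Z_comm hg' he', ← Matrix.mul_assoc, asgclif_Z_comm he he', hee, Matrix.zero_mul]
    rw [hz, add_zero, ← Matrix.mul_assoc, hide] at h
    exact h.symm
  have h2 : g = e * g := by
    have h := congrArg (fun x => x * g) hqsum
    simp only [Matrix.one_mul, Matrix.add_mul] at h
    have hz : uadj q g * uadj q e * g = 0 := by
      rw [asgclif_Z_comm hg' he', Matrix.mul_assoc, hgg, Matrix.mul_zero]
    rw [hz, add_zero, Matrix.mul_assoc, hidg] at h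
    exact h.symm
  rw [h2, ← h1]

/-- AB-IDEM2 -/
theorem uab_two_idem (q : ℕ) (hF : Fintype.card F = q ^ 2) {N : Subgroup (GL (Fin n) F)}
    (hNI : N ≤ GU n F q) (hZ0 : ∀ e ∈ asgZ N, uadj q e = e → e * e = e → e = 0 ∨ e = 1)
    (e : Matrix (Fin n) (Fin n) F) (he : e ∈ asgZ N) (hid : e * e = e) (h0 : e ≠ 0) (h1 : e ≠ 1) :
    uadj q e * e = 0 ∧ e + uadj q e = 1 ∧
      ∀ g ∈ asgZ N, g * g = g → g = 0 ∨ g = 1 ∨ g = e ∨ g = uadj q e := by
  obtain ⟨hee, hesum⟩ := asuabidem2_core q hF hNI hZ0 e he hid h0 h1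
  refine ⟨hee, hesum, ?_⟩
  intro g hg hidg
  by_cases hg0 : g = 0
  · exact Or.inl hg0
  by_cases hg1 : g = 1
  · exact Or.inr (Or.inl hg1)
  right; right
  by_cases heg : e * g = 0
  · right
    obtain ⟨hgg, hgsum⟩ := asuabidem2_core q hF hNI hZ0 g hg hidg hg0 hg1
    have hg' : uadj q g ∈ asgZ N := uadj_asgZ hF hNI hg
    have hid' : uadj q g * uadj q g = uadj q g := by rw [← uadj_mul hF, hidg]
    have hg'0 : uadj q g ≠ 0 := fun h => hg0 (uadj_eq_zero hF h)
    have hg'1 : uadj q g ≠ 1 := by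
      intro h
      apply hg1
      rw [← uadj_uadj hF g, h, uadj_one hF]
    have heg' : e * uadj q g = e := by
      have h := congrArg (fun x => e * x) hgsum
      simp only [Matrix.mul_one, Matrix.mul_add] at h
      rw [heg, zero_add] at h
      exact h
    have := asuabidem2_eq q hF hNI hZ0 e he hid h0 h1 (uadj q g) hg' hid' hg'0 hg'1 (by rw [heg']; exact h0)
    rw [← this, uadj_uadj hF]
  · left
    exact asuabidem2_eq q hF hNI hZ0 e he hid h0 h1 g hg hidg hg0 hg1 heg

end Cfsg.Agent.Lib.Helper19.ASU
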