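import Mathlib
import Cfsg.Agent.Lib.Helper28.CD3.Defs

/-! CD3-DERQ (helper23): derived series of quotients and subgroups -/

set_option autoImplicit false
open scoped commutatorElement

namespace Cfsg.Agent.Lib.Helper28.CD3

universe u

section basics
variable {G : Type u} [Group G] [Finite G]

-- piece DERQ
theorem derived_le_of_quot (N : Subgroup G) [N.Normal] (k : ℕ)
    (h : derivedSeries (G ⧸ N) k = ⊥) : derivedSeries G k ≤ N := by
  have h1 := map_derivedSeries_eq (QuotientGroup.mk'_surjective N) k
  rw [h, Subgroup.map_eq_bot_iff, QuotientGroup.ker_mk'] at h1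
  exact h1

theorem derived_quot_of_le (N : Subgroup G) [N.Normal] (k : ℕ)
    (h : derivedSeries G k ≤ N) : derivedSeries (G ⧸ N) k = ⊥ := by
  rw [← map_derivedSeries_eq (QuotientGroup.mk'_surjective N) k, Subgroup.map_eq_bot_iff,
    QuotientGroup.ker_mk']
  exact h

/-- the derived series of `G` from step `j` on is dominated by the derived series of `H` -/
theorem cd3derq_le_map (H : Subgroup G) (j : ℕ) (h1 : derivedSeries G j ≤ H) (k : ℕ) :
    derivedSeries G (j + k) ≤ (derivedSeries H k).map H.subtype := by
  induction k with
  | zero =>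
    rw [add_zero, derivedSeries_zero, ← MonoidHom.range_eq_map, Subgroup.range_subtype]
    exact h1
  | succ k ih =>
    rw [← add_assoc, derivedSeries_succ, derivedSeries_succ, Subgroup.map_commutator]
    exact Subgroup.commutator_mono ih ih

theorem derived_of_sub (H : Subgroup G) (j k : ℕ) (h1 : derivedSeries G j ≤ H)
    (h2 : derivedSeries H k = ⊥) : derivedSeries G (j + k) = ⊥ := by
  have h := cd3derq_le_map H j h1 k
  rw [h2, Subgroup.map_bot] at h
  exact le_bot_iff.1 h

end basics

end Cfsg.Agent.Lib.Helper28.CD3
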