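import Mathlib

set_option autoImplicit false

namespace Cfsg.Agent.Lib.helper23

universe u

section Elementary

variable {K : Type*} [AddCommGroup K]

/-- the elementary abelian case: exponent `p` odd -/
theorem isSquare_card_of_quat_exponent [Finite K] (p : ℕ) [Fact p.Prime] (hp2 : p ≠ 2)
    (hexp : ∀ x : K, p • x = 0) (i j : K →+ K)
    (hi : ∀ x, i (i x) = -x) (hj : ∀ x, j (j x) = -x) (hji : ∀ x, j (i x) = -(i (j x))) :
    IsSquare (Nat.card K) := by
  have hp : p.Prime := Fact.out
  obtain ⟨a, b, _, _, hab⟩ := Nat.sq_add_sq_zmodEq p (-1)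
  obtain ⟨t, ht⟩ : ∃ t : ℤ, (a : ℤ) ^ 2 + (b : ℤ) ^ 2 + 1 = p * t := by
    have := (Int.modEq_iff_dvd.mp hab)
    obtain ⟨t, ht⟩ := this
    exact ⟨-t, by linarith⟩
  have hpz : ∀ x : K, (p : ℤ) • x = 0 := by
    intro x
    rw [natCast_zsmul]; exact hexp x
  -- the involution s
  let s : K →+ K := AddMonoidHom.mk' (fun x => (a : ℤ) • i x + (b : ℤ) • j x) (by
    intro x y
    simp only [map_add, smul_add]
    abel)
  have hs : ∀ x, s x = (a : ℤ) • i x + (b : ℤ) • j x := fun x => rfl
  have hss : ∀ x, s (s x) = x := by
    intro x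
    rw [hs, hs]
    simp only [map_add, map_zsmul, hi, hj, hji]
    have h1 : ((a : ℤ) ^ 2 + (b : ℤ) ^ 2 + 1) • x = 0 := by
      rw [ht, mul_comm, mul_smul, hpz, smul_zero]
    have h2 : (a : ℤ) • ((a : ℤ) • -x + (b : ℤ) • i (j x)) +
        (b : ℤ) • ((a : ℤ) • -i (j x) + (b : ℤ) • -x) =
        x - ((a : ℤ) ^ 2 + (b : ℤ) ^ 2 + 1) • x := by
      module
    rw [h2, h1, sub_zero]
  -- relation with k = i ∘ j
  have hsk : ∀ x, s (i (j x)) = -(i (j (s x))) := by
    intro x
    rw [hs, hs]
    simp only [map_add, map_zsmul, hi, hj, hji, map_neg]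
    module
  have hiinj : Function.Injective i := by
    intro x y h
    have := congrArg i h
    rw [hi, hi] at this
    exact neg_injective this
  have hjinj : Function.Injective j := by
    intro x y h
    have := congrArg j h
    rw [hj, hj] at this
    exact neg_injective this
  -- π = id + s
  let π : K →+ K := AddMonoidHom.id K + s
  have hπ : ∀ x, π x = x + s x := fun x => rfl
  have hker : ∀ x, x ∈ π.ker ↔ s x = -x := by
    intro x
    rw [AddMonoidHom.mem_ker, hπ]
    constructor
    · intro h; exact (neg_eq_of_add_eq_zero_right h).symm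
    · intro h; rw [h]; exact add_neg_cancel x
  have hrange : ∀ x, x ∈ π.range ↔ s x = x := by
    intro x
    constructor
    · rintro ⟨y, rfl⟩
      rw [hπ, map_add, hss, add_comm]
    · intro h
      obtain ⟨m, hm⟩ := hp.odd_of_ne_two hp2
      refine ⟨(m + 1) • x, ?_⟩
      rw [hπ, map_nsmul, h, ← add_smul]
      have : m + 1 + (m + 1) = p + 1 := by omega
      rw [this, add_smul, hexp, zero_add, one_smul]
  have hcard : Nat.card K = Nat.card π.ker * Nat.card π.range := by
    rw [← AddSubgroup.index_ker π, mul_comm]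
    exact (AddSubgroup.index_mul_card _).symm
  have heq : Nat.card π.ker = Nat.card π.range := by
    apply le_antisymm
    · apply Nat.card_le_card_of_injective
        (fun x : π.ker => (⟨i (j x.1), by
          rw [hrange, hsk, (hker x.1).mp x.2, map_neg, map_neg, neg_neg]⟩ : π.range))
      intro x y h
      have h1 : i (j x.1) = i (j y.1) := congrArg Subtype.val h
      exact Subtype.ext (hjinj (hiinj h1))
    · apply Nat.card_le_card_of_injective
        (fun x : π.range => (⟨i (j x.1), by
          rw [hker, hsk, (hrange x.1).mp x.2]⟩ : π.ker))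
      intro x y h
      have h1 : i (j x.1) = i (j y.1) := congrArg Subtype.val h
      exact Subtype.ext (hjinj (hiinj h1))
  rw [hcard, heq]
  exact ⟨_, rfl⟩

end Elementary

/-- **Core lemma**: a finite abelian group of odd order on which "quaternion units" `i`, `j` act
(with `i² = j² = -1`, `ji = -ij`) has square order. -/
theorem isSquare_card_of_quat_aux : ∀ (n : ℕ) (K : Type u) [AddCommGroup K] [Finite K]
    (i j : K →+ K), Nat.card K = n → Odd (Nat.card K) →
    (∀ x, i (i x) = -x) → (∀ x, j (j x) = -x) → (∀ x, j (i x) = -(i (j x))) →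
    IsSquare (Nat.card K) := by
  intro n
  induction n using Nat.strong_induction_on with
  | _ n ih =>
    intro K _ _ i j hn hodd hi hj hji
    by_cases h1 : Nat.card K = 1
    · rw [h1]; exact ⟨1, rfl⟩
    obtain ⟨p, hp, hpdvd⟩ := Nat.exists_prime_and_dvd h1
    have : Fact p.Prime := ⟨hp⟩
    have hp2 : p ≠ 2 := by
      rintro rfl
      obtain ⟨m, hm⟩ := hodd
      omega
    -- multiplication by p
    let P : K →+ K := (nsmulAddMonoidHom p : K →+ K)
    have hP : ∀ x, P x = p • x := fun x => rfl
    have hcard : Nat.card K = Nat.card P.ker * Nat.card P.range := by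
      rw [← AddSubgroup.index_ker P, mul_comm]
      exact (AddSubgroup.index_mul_card _).symm
    -- restrictions
    have hkerinv : ∀ (f : K →+ K) (x : K), x ∈ P.ker → f x ∈ P.ker := by
      intro f x hx
      rw [AddMonoidHom.mem_ker, hP] at hx ⊢
      rw [← map_nsmul, hx, map_zero]
    have hrangeinv : ∀ (f : K →+ K) (x : K), x ∈ P.range → f x ∈ P.range := by
      rintro f x ⟨y, rfl⟩
      exact ⟨f y, by rw [hP, hP, map_nsmul]⟩
    -- kernel nontrivial
    have hkerne : Nat.card P.ker ≠ 1 := by
      intro h
      obtain ⟨x, hx⟩ := exists_prime_addOrderOf_dvd_card' (G := K) p hpdvd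
      have hxk : x ∈ P.ker := by
        rw [AddMonoidHom.mem_ker, hP, ← hx]; exact addOrderOf_nsmul_eq_zero x
      have := (Nat.card_eq_one_iff_unique.mp h).1
      have h0 : (⟨x, hxk⟩ : P.ker) = 0 := Subsingleton.elim _ _
      have hx0 : x = 0 := congrArg Subtype.val h0
      rw [hx0, addOrderOf_zero] at hx
      exact hp.one_lt.ne hx
    have hkpos : 0 < Nat.card P.ker := Nat.card_pos
    have hrpos : 0 < Nat.card P.range := Nat.card_pos
    by_cases hrange1 : Nat.card P.range = 1
    · -- exponent p
      have hexp : ∀ x : K, p • x = 0 := by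
        intro x
        have := (Nat.card_eq_one_iff_unique.mp hrange1).1
        have h0 : (⟨P x, ⟨x, rfl⟩⟩ : P.range) = 0 := Subsingleton.elim _ _
        exact congrArg Subtype.val h0
      exact isSquare_card_of_quat_exponent p hp2 hexp i j hi hj hji
    · -- both pieces are smaller
      have hklt : Nat.card P.ker < Nat.card K := by
        rw [hcard]
        have : 2 ≤ Nat.card P.range := by omega
        nlinarith
      have hrlt : Nat.card P.range < Nat.card K := by
        rw [hcard]
        have : 2 ≤ Nat.card P.ker := by omega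
        nlinarith
      have hkodd : Odd (Nat.card P.ker) := by
        rw [hcard] at hodd
        exact (Nat.odd_mul.mp hodd).1
      have hrodd : Odd (Nat.card P.range) := by
        rw [hcard] at hodd
        exact (Nat.odd_mul.mp hodd).2
      have sq1 := ih (Nat.card P.ker) (hn ▸ hklt) P.ker
        ((i.comp P.ker.subtype).codRestrict P.ker (fun x => hkerinv i x.1 x.2))
        ((j.comp P.ker.subtype).codRestrict P.ker (fun x => hkerinv j x.1 x.2))
        rfl hkodd
        (fun x => Subtype.ext (hi x.1)) (fun x => Subtype.ext (hj x.1))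
        (fun x => Subtype.ext (hji x.1))
      have sq2 := ih (Nat.card P.range) (hn ▸ hrlt) P.range
        ((i.comp P.range.subtype).codRestrict P.range (fun x => hrangeinv i x.1 x.2))
        ((j.comp P.range.subtype).codRestrict P.range (fun x => hrangeinv j x.1 x.2))
        rfl hrodd
        (fun x => Subtype.ext (hi x.1)) (fun x => Subtype.ext (hj x.1))
        (fun x => Subtype.ext (hji x.1))
      rw [hcard]
      exact sq1.mul sq2

theorem isSquare_card_of_quat {K : Type u} [AddCommGroup K] [Finite K]
    (i j : K →+ K) (hodd : Odd (Nat.card K))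
    (hi : ∀ x, i (i x) = -x) (hj : ∀ x, j (j x) = -x) (hji : ∀ x, j (i x) = -(i (j x))) :
    IsSquare (Nat.card K) :=
  isSquare_card_of_quat_aux _ K i j rfl hodd hi hj hji

end Cfsg.Agent.Lib.helper23
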