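import Mathlib
import Cfsg.Agent.Lib.helper23.QuatSquare

set_option autoImplicit false

namespace Cfsg.Agent.Lib.helper23

/-- multiplicative version of the core lemma -/
theorem isSquare_card_of_quat_mul {K : Type*} [CommGroup K] [Finite K] (I J : K →* K)
    (hodd : Odd (Nat.card K))
    (hI : ∀ x, I (I x) = x⁻¹) (hJ : ∀ x, J (J x) = x⁻¹) (hJI : ∀ x, J (I x) = (I (J x))⁻¹) :
    IsSquare (Nat.card K) := by
  have h := isSquare_card_of_quat (K := Additive K) (MonoidHom.toAdditive I)
    (MonoidHom.toAdditive J) hodd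
    (fun x => by
      show Additive.ofMul (I (I x.toMul)) = Additive.ofMul (x.toMul)⁻¹
      rw [hI])
    (fun x => by
      show Additive.ofMul (J (J x.toMul)) = Additive.ofMul (x.toMul)⁻¹
      rw [hJ])
    (fun x => by
      show Additive.ofMul (J (I x.toMul)) = Additive.ofMul (I (J x.toMul))⁻¹
      rw [hJI])
  exact h

/-- If elements `i`, `j` with `i² = j² = z`, `z² = 1`, `j i j⁻¹ = i⁻¹` normalize a finite
(normal) subgroup `N` on which `z` acts without fixed points, then `|N|` is an odd square. -/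
theorem odd_isSquare_card_of_quat_conj {L : Type*} [Group L] (N : Subgroup L) [N.Normal]
    [Finite N] (i j z : L) (hii : i * i = z) (hjj : j * j = z) (hzz : z * z = 1)
    (hji : j * i * j⁻¹ = i⁻¹) (hfpf : ∀ n ∈ N, z * n = n * z → n = 1) :
    Odd (Nat.card N) ∧ IsSquare (Nat.card N) := by
  have hzinv : z⁻¹ = z := inv_eq_of_mul_eq_one_left hzz
  let φ : N →* N := (MulAut.conjNormal z : MulAut N).toMonoidHom
  have hφapp : ∀ n : N, ((φ n : N) : L) = z * n * z⁻¹ := fun n => rfl
  have hφ : MonoidHom.FixedPointFree φ := by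
    intro n hn
    have h1 : z * (n : L) * z⁻¹ = n := by rw [← hφapp, hn]
    apply Subtype.ext
    apply hfpf n n.2
    calc z * (n : L) = (z * n * z⁻¹) * z := by group
      _ = n * z := by rw [h1]
  have h2 : Function.Involutive φ := by
    intro n
    apply Subtype.ext
    rw [hφapp, hφapp]
    calc z * (z * (n : L) * z⁻¹) * z⁻¹ = (z * z) * n * (z * z)⁻¹ := by group
      _ = n := by rw [hzz]; group
  have hinv : ∀ n : N, φ n = n⁻¹ := fun n => congrFun (hφ.coe_eq_inv_of_involutive h2) n
  have hodd := hφ.odd_card_of_involutive h2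
  refine ⟨hodd, ?_⟩
  let _ : CommGroup N := hφ.commGroupOfInvolutive h2
  let I : N →* N := (MulAut.conjNormal i : MulAut N).toMonoidHom
  let J : N →* N := (MulAut.conjNormal j : MulAut N).toMonoidHom
  have hIapp : ∀ n : N, ((I n : N) : L) = i * n * i⁻¹ := fun n => rfl
  have hJapp : ∀ n : N, ((J n : N) : L) = j * n * j⁻¹ := fun n => rfl
  have hI2 : ∀ n : N, I (I n) = n⁻¹ := by
    intro n
    rw [← hinv]
    apply Subtype.ext
    rw [hIapp, hIapp, hφapp, ← hii]
    group
  have hJ2 : ∀ n : N, J (J n) = n⁻¹ := by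
    intro n
    rw [← hinv]
    apply Subtype.ext
    rw [hJapp, hJapp, hφapp, ← hjj]
    group
  have hjiz : j * i = z * i * j := by
    have h1 : j * i = i⁻¹ * j := by
      calc j * i = (j * i * j⁻¹) * j := by group
        _ = i⁻¹ * j := by rw [hji]
    have h2 : i⁻¹ = z * i := by
      have : z * i * i = 1 := by rw [mul_assoc, hii, hzz]
      exact (eq_inv_of_mul_eq_one_left this).symm ▸ rfl
    rw [h1, h2]
  have hJI : ∀ n : N, J (I n) = (I (J n))⁻¹ := by
    intro n
    rw [← hinv]
    apply Subtype.ext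
    rw [hJapp, hIapp, hφapp, hIapp, hJapp]
    calc j * (i * (n : L) * i⁻¹) * j⁻¹ = (j * i) * n * (j * i)⁻¹ := by group
      _ = (z * i * j) * n * (z * i * j)⁻¹ := by rw [hjiz]
      _ = z * (i * (j * n * j⁻¹) * i⁻¹) * z⁻¹ := by group
  exact isSquare_card_of_quat_mul I J hodd hI2 hJ2 hJI

end Cfsg.Agent.Lib.helper23
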