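import Mathlib
import Cfsg.Prelude.Def_Solvable
import Cfsg.Agent.Lib.Helper1.FrobeniusThm
import Cfsg.Agent.Lib.helper23.QuatAction

set_option autoImplicit false

namespace Cfsg.Agent.Lib.helper23

open scoped Pointwise

/-- quaternion relations inside `QuaternionGroup (2 * k)` -/
theorem exists_quat_triple (m k : ℕ) (hm : m = 2 * k) (hk : k ≠ 0) :
    ∃ I J Z : QuaternionGroup m, I * I = Z ∧ J * J = Z ∧ Z * Z = 1 ∧ Z ≠ 1 ∧
      J * I * J⁻¹ = I⁻¹ := by
  subst hm
  have : NeZero (2 * k) := ⟨by omega⟩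
  refine ⟨QuaternionGroup.a (k : ZMod (2 * (2 * k))), QuaternionGroup.xa 0,
    QuaternionGroup.a ((2 * k : ℕ) : ZMod (2 * (2 * k))), ?_, ?_, ?_, ?_, ?_⟩
  · rw [QuaternionGroup.a_mul_a]
    congr 1
    push_cast
    ring
  · rw [QuaternionGroup.xa_mul_xa]
    congr 1
    push_cast
    ring
  · rw [QuaternionGroup.a_mul_a, QuaternionGroup.one_def]
    congr 1
    have h : ((2 * (2 * k) : ℕ) : ZMod (2 * (2 * k))) = 0 := ZMod.natCast_self _
    push_cast at h ⊢
    rw [← h]
    ring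
  · rw [QuaternionGroup.one_def]
    intro h
    have h' := QuaternionGroup.a.inj h
    rw [ZMod.natCast_eq_zero_iff] at h'
    have := Nat.le_of_dvd (by omega) h'
    omega
  · rw [mul_inv_eq_iff_eq_mul, QuaternionGroup.xa_mul_a]
    have hinv : (QuaternionGroup.a (k : ZMod (2 * (2 * k))))⁻¹ = QuaternionGroup.a (-(k : ZMod (2 * (2 * k)))) := rfl
    rw [hinv, QuaternionGroup.a_mul_xa]
    congr 1
    ring

/-- If a Frobenius complement `H` contains a quaternion triple, the kernel has odd square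
order. -/
theorem odd_isSquare_card_kernel_of_quat {L : Type*} [Group L] [Finite L] (H : Subgroup L)
    (hF : Cfsg.IsFrobeniusComplement H) (i j z : L) (hi : i ∈ H) (hz1 : z ≠ 1)
    (hii : i * i = z) (hjj : j * j = z) (hzz : z * z = 1) (hji : j * i * j⁻¹ = i⁻¹) :
    Odd (Nat.card (Cfsg.frobeniusKernel H)) ∧ IsSquare (Nat.card (Cfsg.frobeniusKernel H)) := by
  obtain ⟨N, hN, hNn, hc⟩ := Cfsg.Agent.Lib.Helper1.frobenius_theorem H hF
  have hcard : Nat.card (Cfsg.frobeniusKernel H) = Nat.card N := by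
    rw [← hN]
    rfl
  rw [hcard]
  have hzH : z ∈ H := hii ▸ H.mul_mem hi hi
  have hdisj : Disjoint N H := hc.disjoint
  apply odd_isSquare_card_of_quat_conj N i j z hii hjj hzz hji
  intro n hn hcomm
  by_contra hne
  have hnH : n ∉ H := by
    intro hnH
    exact hne ((Subgroup.disjoint_def.mp hdisj) hn hnH)
  have h1 := hF.2.2 n hnH
  have hz2 : z ∈ H ⊓ (MulAut.conj n • H) := by
    refine Subgroup.mem_inf.mpr ⟨hzH, ?_⟩
    rw [Subgroup.mem_pointwise_smul_iff_inv_smul_mem]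
    show (MulAut.conj n)⁻¹ z ∈ H
    rw [← map_inv, MulAut.conj_apply]
    have : n⁻¹ * z * n⁻¹⁻¹ = z := by
      rw [inv_inv, mul_assoc, hcomm]
      group
    rw [this]
    exact hzH
  rw [h1] at hz2
  exact hz1 (Subgroup.mem_bot.mp hz2)

/-- Transport of a quaternion triple along an injective hom into `H`. -/
theorem odd_isSquare_card_kernel_of_quatHom {L : Type*} [Group L] [Finite L] (H : Subgroup L)
    (hF : Cfsg.IsFrobeniusComplement H) (m k : ℕ) (hm : m = 2 * k) (hk : k ≠ 0)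
    (f : QuaternionGroup m →* L) (hf : Function.Injective f) (hfH : ∀ x, f x ∈ H) :
    Odd (Nat.card (Cfsg.frobeniusKernel H)) ∧ IsSquare (Nat.card (Cfsg.frobeniusKernel H)) := by
  obtain ⟨I, J, Z, hII, hJJ, hZZ, hZ1, hJI⟩ := exists_quat_triple m k hm hk
  apply odd_isSquare_card_kernel_of_quat H hF (f I) (f J) (f Z) (hfH I)
  · intro h
    apply hZ1
    apply hf
    rw [h, map_one]
  · rw [← map_mul, hII]
  · rw [← map_mul, hJJ]
  · rw [← map_mul, hZZ, map_one]
  · rw [← map_inv, ← map_mul, ← map_inv, ← map_mul, hJI]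

/-- fixed-point-freeness in the centralizer form -/
theorem frobenius_fpf_centralizer {L : Type*} [Group L] (H : Subgroup L)
    (hF : Cfsg.IsFrobeniusComplement H) (N : Subgroup L) (hd : Disjoint N H) :
    ∀ h ∈ H, h ≠ 1 → N ⊓ Subgroup.centralizer {h} = ⊥ := by
  intro h hh h1
  rw [eq_bot_iff]
  intro n hn
  rw [Subgroup.mem_inf] at hn
  obtain ⟨hnN, hnC⟩ := hn
  rw [Subgroup.mem_bot]
  by_contra hne
  have hcomm : h * n = n * h := hnC h rfl
  have hnH : n ∉ H := by
    intro hnH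
    exact hne ((Subgroup.disjoint_def.mp hd) hnN hnH)
  have h2 := hF.2.2 n hnH
  have hz2 : h ∈ H ⊓ (MulAut.conj n • H) := by
    refine Subgroup.mem_inf.mpr ⟨hh, ?_⟩
    rw [Subgroup.mem_pointwise_smul_iff_inv_smul_mem]
    show (MulAut.conj n)⁻¹ h ∈ H
    rw [← map_inv, MulAut.conj_apply]
    have : n⁻¹ * h * n⁻¹⁻¹ = h := by
      rw [inv_inv, mul_assoc, hcomm]
      group
    rw [this]
    exact hh
  rw [h2] at hz2
  exact h1 (Subgroup.mem_bot.mp hz2)

end Cfsg.Agent.Lib.helper23
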