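import Mathlib
import Cfsg.Prelude.Def_DegreeGraph
import Cfsg.Agent.Lib.helper8.SylowBasic
import Cfsg.Agent.S0157
import Cfsg.Agent.S0169
import Cfsg.Agent.S0144
import Cfsg.Agent.S4214
import Cfsg.Agent.S0494

set_option autoImplicit false

namespace Cfsg.Agent.Lib.helper23

open Subgroup Cfsg.Agent.Lib.helper8

/-- A group of order 60 whose Sylow 5-subgroups are not normal has six of them. -/
theorem dga_nsylow5 {X : Type*} [Group X] [Finite X] (hX : Nat.card X = 60)
    (hn : ∀ P : Sylow 5 X, ¬ (P : Subgroup X).Normal) : Nat.card (Sylow 5 X) = 6 := by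
  have : Fact (Nat.Prime 5) := ⟨by norm_num⟩
  have hG : Nat.card X = 5 ^ 1 * 12 := hX.trans (by norm_num)
  have hm : ¬ 5 ∣ 12 := by decide
  have hmem := h8_nsylow_mem 5 1 12 hG hm
  have hdiv : (Nat.divisors 12).filter (fun d => d % 5 = 1) = {1, 6} := by decide
  rw [hdiv] at hmem
  simp only [Finset.mem_insert, Finset.mem_singleton] at hmem
  rcases hmem with h1 | h6
  · obtain ⟨P⟩ : Nonempty (Sylow 5 X) := inferInstance
    exact absurd (h8_normal_of_nsylow_eq_one 5 h1 P) (hn P)
  · exact h6

/-- With six Sylow 5-subgroups, a group of order 60 acts doubly transitively on them. -/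
theorem dga_two_trans {X : Type*} [Group X] [Finite X] (hX : Nat.card X = 60)
    (h6 : Nat.card (Sylow 5 X) = 6) : MulAction.IsMultiplyPretransitive X (Sylow 5 X) 2 := by
  have : Fact (Nat.Prime 5) := ⟨by norm_num⟩
  rw [MulAction.is_two_pretransitive_iff]
  have key : ∀ P Q Q' : Sylow 5 X, Q ≠ P → Q' ≠ P → ∃ h : X, h • P = P ∧ h • Q = Q' := by
    intro P Q Q' hQ hQ'
    have hPcard : Nat.card (P : Subgroup X) = 5 := by
      have := h8_sylow_card 5 1 12 (hX.trans (by norm_num)) (by decide) P
      simpa using this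
    -- the orbit of Q under P
    have hdvd : (MulAction.orbit (P : Subgroup X) Q).ncard ∣ 5 := by
      have := Subgroup.index_dvd_card (MulAction.stabilizer (P : Subgroup X) Q)
      rw [hPcard] at this
      rwa [MulAction.index_stabilizer] at this
    have hsub : MulAction.orbit (P : Subgroup X) Q ⊆ ({P} : Set (Sylow 5 X))ᶜ := by
      rintro R ⟨h, rfl⟩
      intro hR
      apply hQ
      have hR' : (h : X) • Q = P := hR
      have hP : (h : X) • P = P := by
        rw [Sylow.smul_eq_iff_mem_normalizer]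
        exact le_normalizer h.2
      have := hR'.trans hP.symm
      exact smul_left_cancel _ this
    have hcompl : (({P} : Set (Sylow 5 X))ᶜ).ncard = 5 := by
      rw [Set.ncard_compl, Set.ncard_singleton, h6]
    have hne1 : (MulAction.orbit (P : Subgroup X) Q).ncard ≠ 1 := by
      intro h1
      apply hQ
      have hfix : Q ∈ MulAction.fixedPoints (P : Subgroup X) (Sylow 5 X) := by
        obtain ⟨a, ha⟩ := Set.ncard_eq_one.mp h1
        intro h
        have e1 : h • Q ∈ MulAction.orbit (P : Subgroup X) Q := ⟨h, rfl⟩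
        have e2 : Q ∈ MulAction.orbit (P : Subgroup X) Q := MulAction.mem_orbit_self Q
        rw [ha] at e1 e2
        rw [Set.mem_singleton_iff] at e1 e2
        rw [e1, e2]
      have hle : (P : Subgroup X) ≤ Q := (P.2.sylow_mem_fixedPoints_iff).mp hfix
      exact Sylow.ext (P.3 Q.2 hle)
    have h5 : (MulAction.orbit (P : Subgroup X) Q).ncard = 5 := by
      have := (Nat.dvd_prime (by norm_num : Nat.Prime 5)).mp hdvd
      rcases this with h | h
      · exact absurd h hne1
      · exact h
    have heq : MulAction.orbit (P : Subgroup X) Q = ({P} : Set (Sylow 5 X))ᶜ := by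
      apply Set.eq_of_subset_of_ncard_le hsub
      rw [h5, hcompl]
    have hmem : Q' ∈ MulAction.orbit (P : Subgroup X) Q := by
      rw [heq]
      exact hQ'
    obtain ⟨h, hh⟩ := hmem
    refine ⟨(h : X), ?_, hh⟩
    rw [Sylow.smul_eq_iff_mem_normalizer]
    exact le_normalizer h.2
  intro a b c d hab hcd
  obtain ⟨g, hg⟩ := MulAction.exists_smul_eq X a c
  obtain ⟨h, hh1, hh2⟩ := key a b (g⁻¹ • d) hab.symm (by
    intro h; apply hcd; rw [← hg, ← h, smul_inv_smul])
  refine ⟨g * h, ?_, ?_⟩
  · rw [mul_smul, hh1, hg]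
  · rw [mul_smul, hh2, smul_inv_smul]

/-- A group of order 60 whose Sylow 5-subgroups are not normal has an irreducible character of
degree 5. -/
theorem dga_five_mem {X : Type*} [Group X] [Finite X] (hX : Nat.card X = 60)
    (hn : ∀ P : Sylow 5 X, ¬ (P : Subgroup X).Normal) : 5 ∈ Cfsg.degreePrimes X := by
  have : Fact (Nat.Prime 5) := ⟨by norm_num⟩
  have h6 := dga_nsylow5 hX hn
  have h2 := dga_two_trans hX h6
  have hirr := (Cfsg.Agent.S0157.result (G := X) (Sylow 5 X) (by rw [h6]; norm_num)).mpr h2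
  refine ⟨by norm_num, 5, ⟨⟨_, hirr⟩, ?_⟩, dvd_rfl⟩
  show ⌊((Nat.card (MulAction.fixedBy (Sylow 5 X) (1 : X)) : ℂ) - 1).re⌋₊ = 5
  rw [MulAction.fixedBy_one_eq_univ, Nat.card_coe_set_eq, Set.ncard_univ, h6]
  norm_num

/-- Ito: if 5 divides an irreducible character degree, the Sylow 5-subgroup of a group of order 60
is not normal. -/
theorem dga_not_normal_of_mem {G : Type*} [Group G] [Finite G] (hG : Nat.card G = 60)
    (h5 : 5 ∈ Cfsg.degreePrimes G) (P : Sylow 5 G) : ¬ (P : Subgroup G).Normal := by
  intro hN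
  have : Fact (Nat.Prime 5) := ⟨by norm_num⟩
  obtain ⟨_, d, ⟨χ, hχ⟩, hd⟩ := h5
  obtain ⟨n, ρ, hirr, hchar⟩ := χ.2
  have hdeg : Cfsg.charDegree (χ : G → ℂ) = n := by
    unfold Cfsg.charDegree
    rw [← hchar, Representation.char_one]
    simp
  have hPcard : Nat.card (P : Subgroup G) = 5 := by
    simpa using h8_sylow_card 5 1 12 (hG.trans (by norm_num)) (by decide) P
  have hidx : (P : Subgroup G).index = 12 :=
    h8_sylow_index 5 1 12 (hG.trans (by norm_num)) (by decide) P
  have hcomm : ∀ a ∈ (P : Subgroup G), ∀ b ∈ (P : Subgroup G), a * b = b * a := by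
    intro a ha b hb
    have hcyc : IsCyclic (P : Subgroup G) := isCyclic_of_prime_card hPcard
    have := hcyc.isMulCommutative.is_comm.comm (⟨a, ha⟩ : (P : Subgroup G)) ⟨b, hb⟩
    exact congrArg Subtype.val this
  have hdvd := Cfsg.Agent.S0169.result ρ (P : Subgroup G) hcomm
  rw [Module.finrank_fin_fun, hidx] at hdvd
  rw [← hχ, hdeg] at hd
  have : 5 ∣ 12 := hd.trans hdvd
  omega

/-- A group of order 60 with six Sylow 5-subgroups is not solvable (P. Hall's count). -/
theorem dga_not_solvable {G : Type*} [Group G] [Finite G] (hG : Nat.card G = 60)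
    (h6 : Nat.card (Sylow 5 G) = 6) : ¬ Group.IsSolvable G := by
  intro hs
  have : Fact (Nat.Prime 5) := ⟨by norm_num⟩
  obtain ⟨k, f, hprod, hf⟩ := Cfsg.Agent.S4214.result (G := G) 5 12 (hG.trans (by norm_num))
    (by norm_num)
  have hfac : (Nat.card G).factorization 5 = 1 :=
    h8_factorization_of_eq 5 1 12 _ (by norm_num) (hG.trans (by norm_num)) (by decide)
  have hcard : Nat.card {H : Subgroup G // Nat.card H = 5} = 6 := by
    rw [← h6]
    symm
    apply Nat.card_congr
    refine Equiv.ofBijective (fun P => ⟨(P : Subgroup G), by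
      simpa using h8_sylow_card 5 1 12 (hG.trans (by norm_num)) (by decide) P⟩) ⟨?_, ?_⟩
    · intro P Q hPQ
      exact Sylow.ext (congrArg Subtype.val hPQ)
    · rintro ⟨H, hH⟩
      refine ⟨Sylow.ofCard H (by rw [hfac, hH]; norm_num), ?_⟩
      apply Subtype.ext
      simp
  rw [hcard] at hprod
  have hone : ∀ i, f i = 1 := by
    intro i
    obtain ⟨⟨q, e, hq, hqe⟩, -, ⟨q', hq', hq'5, hmod⟩⟩ := hf i
    have hq'eq : q' = 5 := (Nat.prime_dvd_prime_iff_eq hq' (by norm_num)).mp hq'5
    subst hq'eq
    have hdvd : f i ∣ 6 := by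
      rw [hprod]
      exact Finset.dvd_prod_of_mem f (Finset.mem_univ i)
    have hmem : f i ∈ Nat.divisors 6 := Nat.mem_divisors.mpr ⟨hdvd, by norm_num⟩
    have hdiv : Nat.divisors 6 = {1, 2, 3, 6} := by decide
    rw [hdiv] at hmem
    simp only [Finset.mem_insert, Finset.mem_singleton] at hmem
    rcases hmem with h | h | h | h
    · exact h
    · rw [h] at hmod; exact absurd hmod (by decide)
    · rw [h] at hmod; exact absurd hmod (by decide)
    · exfalso
      rw [h] at hqe
      have h2 : 2 ∣ q ^ e := by rw [← hqe]; norm_num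
      have h3 : 3 ∣ q ^ e := by rw [← hqe]; norm_num
      have e2 := (Nat.prime_dvd_prime_iff_eq Nat.prime_two hq).mp (Nat.prime_two.dvd_of_dvd_pow h2)
      have e3 := (Nat.prime_dvd_prime_iff_eq Nat.prime_three hq).mp
        (Nat.prime_three.dvd_of_dvd_pow h3)
      omega
  have : ∏ i, f i = 1 := Finset.prod_eq_one (fun i _ => hone i)
  omega

/-- Groups of order 30 are solvable (normal 2-complement by transfer). -/
theorem dga_solvable_30 {H : Type*} [Group H] [Finite H] (hH : Nat.card H = 30) :
    Group.IsSolvable H := by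
  have : Fact (Nat.Prime 2) := ⟨Nat.prime_two⟩
  obtain ⟨P⟩ : Nonempty (Sylow 2 H) := inferInstance
  have hPcard : Nat.card (P : Subgroup H) = 2 := by
    simpa using h8_sylow_card 2 1 15 (hH.trans (by norm_num)) (by decide) P
  have huniq := (Nat.card_eq_two_iff' (1 : (P : Subgroup H))).mp hPcard
  have hNC : normalizer ((P : Subgroup H) : Set H) ≤ centralizer ((P : Subgroup H) : Set H) := by
    intro g hg
    rw [mem_centralizer_iff]
    intro t ht
    by_cases ht1 : t = 1
    · rw [ht1]; simp
    · have hmem : g * t * g⁻¹ ∈ (P : Subgroup H) := (mem_normalizer_iff.mp hg t).mp ht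
      have hne : g * t * g⁻¹ ≠ 1 := by
        intro h
        apply ht1
        have : g * t = g := by
          have := congrArg (· * g) h
          simpa using this
        exact mul_left_cancel (this.trans (mul_one g).symm)
      have e1 : (⟨t, ht⟩ : (P : Subgroup H)) ≠ 1 := fun h => ht1 (congrArg Subtype.val h)
      have e2 : (⟨g * t * g⁻¹, hmem⟩ : (P : Subgroup H)) ≠ 1 := fun h => hne (congrArg Subtype.val h)
      have := huniq.unique e1 e2
      have h3 : t = g * t * g⁻¹ := congrArg Subtype.val this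
      calc t * g = g * t * g⁻¹ * g := by rw [← h3]
        _ = g * t := by group
  have hcompl := MonoidHom.ker_transferSylow_isComplement' P hNC
  have hK : Nat.card (MonoidHom.transferSylow P hNC).ker = 15 := by
    have := hcompl.card_mul_card
    rw [hPcard, hH] at this
    omega
  have hKs : Group.IsSolvable (MonoidHom.transferSylow P hNC).ker :=
    Cfsg.Agent.S0144.result 3 5 1 1 (by norm_num) (by norm_num) (hK.trans (by norm_num))
  have hPs : Group.IsSolvable (P : Subgroup H) :=
    Cfsg.Agent.S0144.result 2 3 1 0 (by norm_num) (by norm_num) (hPcard.trans (by norm_num))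
  exact Group.isSolvable_of_ker_le_range (MonoidHom.transferSylow P hNC).ker.subtype
    (MonoidHom.transferSylow P hNC) (by
      intro x hx; exact ⟨⟨x, hx⟩, rfl⟩)

/-- Groups whose order properly divides 60 are solvable. -/
theorem dga_solvable_of_dvd {H : Type*} [Group H] [Finite H] (d : ℕ) (hH : Nat.card H = d)
    (hd : d ∣ 60) (hlt : d < 60) : Group.IsSolvable H := by
  have hmem : d ∈ Nat.divisors 60 := Nat.mem_divisors.mpr ⟨hd, by norm_num⟩
  have hdiv : Nat.divisors 60 = {1, 2, 3, 4, 5, 6, 10, 12, 15, 20, 30, 60} := by decide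
  rw [hdiv] at hmem
  simp only [Finset.mem_insert, Finset.mem_singleton] at hmem
  have p2 : Nat.Prime 2 := Nat.prime_two
  have p3 : Nat.Prime 3 := Nat.prime_three
  have p5 : Nat.Prime 5 := by norm_num
  rcases hmem with h | h | h | h | h | h | h | h | h | h | h | h
  · exact Cfsg.Agent.S0144.result 2 3 0 0 p2 p3 (hH.trans (h.trans (by norm_num)))
  · exact Cfsg.Agent.S0144.result 2 3 1 0 p2 p3 (hH.trans (h.trans (by norm_num)))
  · exact Cfsg.Agent.S0144.result 2 3 0 1 p2 p3 (hH.trans (h.trans (by norm_num)))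
  · exact Cfsg.Agent.S0144.result 2 3 2 0 p2 p3 (hH.trans (h.trans (by norm_num)))
  · exact Cfsg.Agent.S0144.result 2 5 0 1 p2 p5 (hH.trans (h.trans (by norm_num)))
  · exact Cfsg.Agent.S0144.result 2 3 1 1 p2 p3 (hH.trans (h.trans (by norm_num)))
  · exact Cfsg.Agent.S0144.result 2 5 1 1 p2 p5 (hH.trans (h.trans (by norm_num)))
  · exact Cfsg.Agent.S0144.result 2 3 2 1 p2 p3 (hH.trans (h.trans (by norm_num)))
  · exact Cfsg.Agent.S0144.result 3 5 1 1 p3 p5 (hH.trans (h.trans (by norm_num)))
  · exact Cfsg.Agent.S0144.result 2 5 2 1 p2 p5 (hH.trans (h.trans (by norm_num)))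
  · exact dga_solvable_30 (hH.trans h)
  · omega

/-- A group of order 60 whose Sylow 5-subgroups are not normal is simple. -/
theorem dga_simple {G : Type*} [Group G] [Finite G] (hG : Nat.card G = 60)
    (hn : ∀ P : Sylow 5 G, ¬ (P : Subgroup G).Normal) : IsSimpleGroup G := by
  have h6 := dga_nsylow5 hG hn
  have hns := dga_not_solvable hG h6
  have hnt : Nontrivial G := by
    rw [← Finite.one_lt_card_iff_nontrivial, hG]; norm_num
  refine { toNontrivial := hnt, eq_bot_or_eq_top_of_normal := ?_ }
  intro N hN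
  by_contra hcon
  rw [not_or] at hcon
  apply hns
  have h1 : Nat.card N * N.index = 60 := by rw [N.card_mul_index, hG]
  have hNs : Group.IsSolvable N := by
    refine dga_solvable_of_dvd (Nat.card N) rfl ⟨_, h1.symm⟩ ?_
    have hle : Nat.card N ≤ 60 := Nat.le_of_dvd (by norm_num) ⟨_, h1.symm⟩
    rcases hle.lt_or_eq with h | h
    · exact h
    · exfalso
      apply hcon.2
      rw [← Subgroup.card_eq_iff_eq_top, h, hG]
  have hQs : Group.IsSolvable (G ⧸ N) := by
    refine dga_solvable_of_dvd N.index rfl ⟨_, (by rw [mul_comm]; exact h1.symm)⟩ ?_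
    have hle : N.index ≤ 60 := Nat.le_of_dvd (by norm_num) ⟨_, (by rw [mul_comm]; exact h1.symm)⟩
    rcases hle.lt_or_eq with h | h
    · exact h
    · exfalso
      apply hcon.1
      rw [h] at h1
      have : Nat.card N = 1 := by omega
      exact Subgroup.card_eq_one.mp this
  exact Group.isSolvable_of_ker_le_range N.subtype (QuotientGroup.mk' N) (by
    intro x hx
    rw [QuotientGroup.ker_mk'] at hx
    exact ⟨⟨x, hx⟩, rfl⟩)

/-- A group of order 60 with the same degree primes as `A₅` is isomorphic to `A₅`. -/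
theorem dga_main {G : Type*} [Group G] [Finite G] (hcard : Nat.card G = 60)
    (hΓ : Cfsg.degreePrimes G = Cfsg.degreePrimes (alternatingGroup (Fin 5))) :
    Nonempty (G ≃* alternatingGroup (Fin 5)) := by
  have : Fact (Nat.Prime 5) := ⟨by norm_num⟩
  have hA : 5 ∈ Cfsg.degreePrimes (alternatingGroup (Fin 5)) := by
    apply dga_five_mem Cfsg.Agent.S0494.card_alt5
    intro P hP
    have hs : IsSimpleGroup (alternatingGroup (Fin 5)) := alternatingGroup.isSimpleGroup (by simp)
    have hPcard : Nat.card (P : Subgroup (alternatingGroup (Fin 5))) = 5 := by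
      simpa using h8_sylow_card 5 1 12 (Cfsg.Agent.S0494.card_alt5.trans (by norm_num))
        (by decide) P
    rcases IsSimpleGroup.eq_bot_or_eq_top_of_normal _ hP with h | h
    · rw [h, Subgroup.card_bot] at hPcard
      omega
    · rw [h, Subgroup.card_top, Cfsg.Agent.S0494.card_alt5] at hPcard
      omega
  rw [← hΓ] at hA
  have := dga_simple hcard (dga_not_normal_of_mem hcard hA)
  exact Cfsg.Agent.S0494.result hcard

end Cfsg.Agent.Lib.helper23
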