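import Mathlib
import Cfsg.Agent.Lib.helper3.S5953.Defs

set_option autoImplicit false

/-!
# Project S5953 (designer helper3), row A2 (helper23): `ord_r(-q) = c`.
-/

namespace Cfsg.Agent.Lib.helper3.S5953

open Polynomial Module

/-- A2 [M] ORDNEG: `ord_r(-q) = c` for an odd prime `r` not dividing `q`. -/
theorem ord_neg (q r : ℕ) [Fact r.Prime] (hr2 : r ≠ 2) (hq : ¬ r ∣ q) :
    orderOf (-(q : ZMod r)) = cc (orderOf (q : ZMod r)) := by
  have hrp : r.Prime := Fact.out
  have hr3 : 2 < r := lt_of_le_of_ne hrp.two_le (Ne.symm hr2)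
  have : Fact (2 < r) := ⟨hr3⟩
  obtain ⟨x, hx⟩ : ∃ x : ZMod r, x = (q : ZMod r) := ⟨_, rfl⟩
  rw [← hx]
  have hx0 : x ≠ 0 := by
    rw [hx, Ne, ZMod.natCast_eq_zero_iff]
    exact hq
  have hfin : IsOfFinOrder x :=
    isOfFinOrder_iff_pow_eq_one.mpr ⟨r - 1, by omega, ZMod.pow_card_sub_one_eq_one hx0⟩
  obtain ⟨i, hi⟩ : ∃ i : ℕ, i = orderOf x := ⟨_, rfl⟩
  rw [← hi]
  have hipos : 0 < i := by rw [hi]; exact hfin.orderOf_pos
  have hxi : x ^ i = 1 := by rw [hi]; exact pow_orderOf_eq_one x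
  have hm1 : (-1 : ZMod r) ≠ 1 := ZMod.neg_one_ne_one
  have hpow : ∀ k : ℕ, (-x) ^ k = (-1) ^ k * x ^ k := fun k => neg_pow x k
  have hhalf : Even i → x ^ (i / 2) = -1 := by
    intro he
    have h1 : x ^ (i / 2) * x ^ (i / 2) = 1 := by
      rw [← pow_add, ← two_mul, Nat.two_mul_div_two_of_even he]
      exact hxi
    rcases mul_self_eq_one_iff.mp h1 with h2 | h2
    · exfalso
      obtain ⟨j, hj⟩ := he
      have hlt : i / 2 < orderOf x := by rw [← hi]; omega
      exact pow_ne_one_of_lt_orderOf (by omega : i / 2 ≠ 0) hlt h2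
    · exact h2
  apply Nat.dvd_antisymm
  · apply orderOf_dvd_of_pow_eq_one
    unfold cc
    split_ifs with h0 h2
    · have he : Even i := Nat.even_iff.mpr (by omega)
      rw [hpow, hxi, mul_one, he.neg_one_pow]
    · have he : Even i := Nat.even_iff.mpr (by omega)
      have ho : Odd (i / 2) := Nat.odd_iff.mpr (by omega)
      rw [hpow, hhalf he, ho.neg_one_pow]
      ring
    · rw [hpow, pow_mul, pow_mul, neg_one_sq, one_pow, one_mul, ← pow_mul, mul_comm, pow_mul, hxi, one_pow]
  · obtain ⟨k, hk⟩ : ∃ k : ℕ, k = orderOf (-x) := ⟨_, rfl⟩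
    rw [← hk]
    have h1 : (-x) ^ k = 1 := by rw [hk]; exact pow_orderOf_eq_one _
    have h2 : x ^ (2 * k) = 1 := by
      have : ((-x) ^ k) ^ 2 = 1 := by rw [h1, one_pow]
      rw [← pow_mul, mul_comm, pow_mul, neg_sq, ← pow_mul] at this
      exact this
    have h3 : i ∣ 2 * k := by rw [hi]; exact orderOf_dvd_of_pow_eq_one h2
    unfold cc
    split_ifs with h0 h2'
    · -- `i % 4 = 0`
      obtain ⟨t, ht⟩ := h3
      have hi4 : i = 4 * (i / 4) := by omega
      have hk2 : k = 2 * (i / 4 * t) := by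
        apply Nat.eq_of_mul_eq_mul_left (by norm_num : 0 < 2)
        rw [ht]
        conv_lhs => rw [hi4]
        ring
      have hke : Even k := ⟨i / 4 * t, by omega⟩
      rw [hpow, hke.neg_one_pow, one_mul] at h1
      rw [hi]
      exact orderOf_dvd_of_pow_eq_one h1
    · -- `i % 4 = 2`
      obtain ⟨t, ht⟩ := h3
      refine ⟨t, ?_⟩
      have : i = 2 * (i / 2) := by omega
      rw [this] at ht
      have := Nat.eq_of_mul_eq_mul_left (by norm_num : 0 < 2) (by rw [ht]; ring : 2 * k = 2 * (i / 2 * t))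
      exact this
    · -- `i` odd
      have hio : Odd i := Nat.odd_iff.mpr (by omega)
      have hcop : Nat.Coprime i 2 := by
        rw [Nat.coprime_two_right]
        exact hio
      have hik : i ∣ k := hcop.dvd_of_dvd_mul_left h3
      have hxk : x ^ k = 1 := by
        obtain ⟨t, rfl⟩ := hik
        rw [pow_mul, hxi, one_pow]
      rw [hpow, hxk, mul_one] at h1
      have hke : Even k := by
        by_contra hne
        rw [Nat.not_even_iff_odd] at hne
        rw [hne.neg_one_pow] at h1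
        exact hm1 h1
      have h2k : 2 ∣ k := hke.two_dvd
      exact Nat.Coprime.mul_dvd_of_dvd_of_dvd hcop.symm h2k hik

end Cfsg.Agent.Lib.helper3.S5953
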