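import Mathlib
import Cfsg.Agent.Lib.Helper19.S5954.DefsTop
import Cfsg.Agent.Lib.helper3.S5953.Defs

set_option autoImplicit false
set_option linter.unusedVariables false
set_option linter.unusedSectionVars false

/-!
# Project S5954 (designer helper19), row OADJ (`o_adj`, helper23): the adjoint of a polynomial in `y`.
-/

namespace Cfsg.Agent.Lib.Helper19.S5954

open Polynomial Module Cfsg.Agent.Lib.helper3
open Cfsg.Agent.Lib.helper3.S5953 (cc bb hermI fixS cycS HInv)

/-- additivity of `hermI` in the second variable (`a ↦ a ^ q` is additive). -/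
theorem s5954oadj_add_right {F : Type*} [Field F] {q : ℕ} {ι : Type*} [Fintype ι] (σ : F →+* F)
    (hσ : ∀ a, σ a = a ^ q) (u v v' : ι → F) :
    hermI ι F q u (v + v') = hermI ι F q u v + hermI ι F q u v' := by
  simp only [hermI, Pi.add_apply]
  rw [← Finset.sum_add_distrib]
  apply Finset.sum_congr rfl
  intro i _
  rw [← hσ, map_add, hσ, hσ]
  ring

/-- powers of an isometry are isometries. -/
theorem s5954oadj_pow_pres {F : Type*} [Field F] {q n r : ℕ} {y : Module.End F (Fin n → F)}
    (h : S5953.HCtx q r 1 y) (k : ℕ) (u v : Fin n → F) :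
    hermI (Fin n) F q ((y ^ k) u) ((y ^ k) v) = hermI (Fin n) F q u v := by
  induction k with
  | zero => simp
  | succ k ih =>
    rw [pow_succ', Module.End.mul_apply, Module.End.mul_apply, h.pres, ih]

/-- moving a power of `y` to the other side. -/
theorem s5954oadj_pow_adj {F : Type*} [Field F] {q n r : ℕ} (hr : 0 < r)
    {y : Module.End F (Fin n → F)} (h : S5953.HCtx q r 1 y) (k : ℕ) (u v : Fin n → F) :
    hermI (Fin n) F q ((y ^ k) u) v = hermI (Fin n) F q u (((y ^ (r - 1)) ^ k) v) := by
  have hyr : y ^ r = 1 := by rw [h.pow, one_smul]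
  have h1 : y * y ^ (r - 1) = 1 := by
    rw [← pow_succ', Nat.sub_add_cancel hr, hyr]
  have h2 : y ^ k * (y ^ (r - 1)) ^ k = 1 := by
    rw [← (Commute.pow_right (Commute.refl y) (r - 1)).mul_pow, h1, one_pow]
  have h3 : v = (y ^ k) (((y ^ (r - 1)) ^ k) v) := by
    rw [← Module.End.mul_apply, h2, Module.End.one_apply]
  conv_lhs => rw [h3]
  exact s5954oadj_pow_pres h k _ _

/-- OADJ [M]: the adjoint of a polynomial in `y`. -/
theorem o_adj {F : Type*} [Field F] {q n r : ℕ} (hr : 0 < r) (σ : F →+* F) (hσ : ∀ a, σ a = a ^ q) (hσσ : ∀ a, σ (σ a) = a)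
    {y : Module.End F (Fin n → F)} (h : S5953.HCtx q r 1 y) (f : F[X]) (u v : Fin n → F) :
    hermI (Fin n) F q (aeval y f u) v = hermI (Fin n) F q u (aeval (y ^ (r - 1)) (f.map σ) v) := by
  induction f using Polynomial.induction_on' with
  | add f g hf hg =>
    rw [map_add, LinearMap.add_apply, S5953.hermI_add_left, hf, hg, Polynomial.map_add, map_add,
      LinearMap.add_apply, s5954oadj_add_right σ hσ]
  | monomial k a =>
    rw [Polynomial.map_monomial, Polynomial.aeval_monomial, Polynomial.aeval_monomial,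
      Module.End.mul_apply, Module.End.mul_apply, Module.algebraMap_end_apply,
      Module.algebraMap_end_apply, S5953.hermI_smul_left, S5953.hermI_smul_right, ← hσ, hσσ,
      s5954oadj_pow_adj hr h]

end Cfsg.Agent.Lib.Helper19.S5954
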