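import Mathlib
import Cfsg.Agent.Lib.Helper19.S5954.DefsTop
import Cfsg.Agent.Lib.helper3.S5953.Defs

set_option autoImplicit false
set_option linter.unusedVariables false
set_option linter.unusedSectionVars false

/-!
# Project S5954 (designer helper19), row OSELF (`o_selfdual`, helper23): self-duality for `i ≡ 2 (mod 4)`.
-/

namespace Cfsg.Agent.Lib.Helper19.S5954

open Polynomial Module Cfsg.Agent.Lib.helper3
open Cfsg.Agent.Lib.helper3.S5953 (cc bb hermI fixS cycS HInv)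

/-- odd powers of `a ↦ a ^ q` are `a ↦ a ^ q` (`|F| = q ^ 2`). -/
theorem s5954oself_odd_pow {F : Type*} [Field F] [Fintype F] {q : ℕ} (hF : Fintype.card F = q ^ 2)
    (j : ℕ) (a : F) : a ^ (q ^ (2 * j + 1)) = a ^ q := by
  induction j with
  | zero => simp
  | succ j ih =>
    have : q ^ (2 * (j + 1) + 1) = q ^ 2 * q ^ (2 * j + 1) := by ring
    rw [this, pow_mul, ← hF, FiniteField.pow_card, ih]

/-- the semilinear Frobenius identity `f(y) ^ N = (σ f)(y ^ N)`, `N = p ^ m`, `σ a = a ^ N`. -/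
theorem s5954oself_frob {F : Type*} [Field F] {p : ℕ} [Fact p.Prime] [CharP F p] {V : Type*}
    [AddCommGroup V] [Module F V] (m : ℕ) (σ : F →+* F) (hσ : ∀ a, σ a = a ^ (p ^ m))
    (y : Module.End F V) (f : F[X]) :
    (aeval y f) ^ (p ^ m) = aeval (y ^ (p ^ m)) (f.map σ) := by
  have : ExpChar F p := ExpChar.prime Fact.out
  have hτ : iterateFrobenius F p m = σ := by
    ext a
    rw [iterateFrobenius_def, hσ]
  have h1 := Polynomial.map_iterateFrobenius_expand (R := F) p f m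
  rw [hτ, Polynomial.map_expand] at h1
  rw [← map_pow, ← h1, Polynomial.expand_aeval]

/-- OSELF [M-L]: `i ≡ 2 (mod 4)`: self-duality. -/
theorem o_selfdual {F : Type*} [Field F] [Fintype F] {p : ℕ} [Fact p.Prime] [CharP F p] {q n : ℕ}
    (hF : Fintype.card F = q ^ 2) {r : ℕ} [Fact r.Prime] (hrp : r ≠ p) (hr2 : r ≠ 2)
    (σ : F →+* F) (hσ : ∀ a, σ a = a ^ q) (hi : orderOf (q : ZMod r) % 4 = 2)
    {y : Module.End F (Fin n → F)} (hy : y ^ r = 1) (f : F[X]) (u : Fin n → F) (hu : aeval y f u = 0) :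
    aeval (y ^ (r - 1)) (f.map σ) u = 0 := by
  have hrpr : r.Prime := Fact.out
  have hpp : p.Prime := Fact.out
  -- `q` is a power of `p`
  obtain ⟨k, -, hk⟩ := FiniteField.card F p
  obtain ⟨e, -, he⟩ : ∃ e ≤ (k : ℕ), q = p ^ e := by
    apply (Nat.dvd_prime_pow hpp).mp
    rw [← hk, hF]
    exact Dvd.intro_left (q ^ 1) (by ring)
  obtain ⟨i, hi'⟩ : ∃ i : ℕ, i = orderOf (q : ZMod r) := ⟨_, rfl⟩
  rw [← hi'] at hi
  obtain ⟨j, hj⟩ : ∃ j, i / 2 = 2 * j + 1 := ⟨i / 4, by omega⟩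
  -- `q ^ b = -1` in `ZMod r`
  have hqb : (q : ZMod r) ^ (i / 2) = -1 := by
    have h1 : (q : ZMod r) ^ (i / 2) * (q : ZMod r) ^ (i / 2) = 1 := by
      rw [← pow_add]
      have : i / 2 + i / 2 = i := by omega
      rw [this, hi']
      exact pow_orderOf_eq_one _
    rcases mul_self_eq_one_iff.mp h1 with h2 | h2
    · exfalso
      have hlt : i / 2 < orderOf (q : ZMod r) := by rw [← hi']; omega
      exact pow_ne_one_of_lt_orderOf (by omega : i / 2 ≠ 0) hlt h2
    · exact h2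
  -- `N = q ^ b`, `N + 1 = r t`
  obtain ⟨N, hN⟩ : ∃ N : ℕ, N = q ^ (i / 2) := ⟨_, rfl⟩
  have hNr : r ∣ N + 1 := by
    rw [← ZMod.natCast_eq_zero_iff]
    push_cast
    rw [hN]
    push_cast
    rw [hqb]
    ring
  obtain ⟨t, ht⟩ := hNr
  have ht0 : t ≠ 0 := by
    rintro rfl
    omega
  have hNeq : N = r * (t - 1) + (r - 1) := by
    have hr1 : 1 ≤ r := hrpr.one_le
    obtain ⟨s, rfl⟩ : ∃ s, t = s + 1 := ⟨t - 1, by omega⟩
    simp only [Nat.add_sub_cancel]
    have : r * (s + 1) = r * s + r := by ring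
    omega
  have hyN : y ^ N = y ^ (r - 1) := by
    rw [hNeq, pow_add, pow_mul, hy, one_pow, one_mul]
  -- `N = p ^ (e * b)` and `σ a = a ^ N`
  have hNp : N = p ^ (e * (i / 2)) := by rw [hN, he, pow_mul]
  have hσN : ∀ a, σ a = a ^ (p ^ (e * (i / 2))) := by
    intro a
    rw [← hNp, hN, hj, s5954oself_odd_pow hF, hσ]
  have hfrob := s5954oself_frob (e * (i / 2)) σ hσN y f
  rw [← hNp, hyN] at hfrob
  rw [← hfrob]
  have hN1 : N = (N - 1) + 1 := by
    have : 0 < N := by rw [hNp]; exact pow_pos hpp.pos _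
    omega
  rw [hN1, pow_succ, Module.End.mul_apply, hu, map_zero]

end Cfsg.Agent.Lib.Helper19.S5954
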