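import Mathlib
import Cfsg.Agent.Lib.helper3.SU5.Defs
import Cfsg.Agent.Lib.Helper18.STUK2

/-!
# Project SU5 (S2291, odd side; designer helper3), row F2 (`iso_of_tab`): the CORE (helper23)

The isomorphism criterion, with the STATEMENTS of S5 `exists_sys`, S6 `sys_gen` and F1 `match_all` as hypotheses:
`SysU.bijective_of_rep` (`Helper18.STUK2`) for the system given by `exists_sys`.
-/

set_option autoImplicit false

namespace Cfsg.Agent.Lib.helper3.SU5

open Cfsg.Agent.Lib.helper15.St2 Cfsg.Agent.Lib.Helper27.STU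
open Cfsg.Agent.Lib.helper3.STC (ng sws)

universe u v w w₀

namespace Dat

variable {F : Type u} [Field F] [StarRing F] {G : Type w} [Group G] (D : Dat F G)

/-- F2 core: `hsys` is the conclusion of S5 `exists_sys`, `hsysgen` the statement of S6 `sys_gen` (with `hgen` applied), `hmatch` the conclusion of F1 `match_all`. -/
theorem su5f2_core [Finite F] (hF : Hyp F)
    (hsys : ∃ S : SysU F True (Fin 2) G, S.xs = D.xs ∧ S.xl = D.xl)
    (hsysgen : ∀ S : SysU F True (Fin 2) G, S.xs = D.xs → S.xl = D.xl → S.XQ (fun _ _ => True) = ⊤)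
    {G₀ : Type w₀} [Group G₀] (S₀ : SysU F True (Fin 2) G₀) {V : Type*} [AddCommGroup V] [Module F V] (R₀ : S₀.Rep V)
    (hgen₀ : S₀.XQ (fun _ _ => True) = ⊤) (π : G →* G₀)
    (hmatch : (∀ a b, a ≠ b → a ≠ ng b → ∀ t, π (D.xs a b t) = S₀.xs a b t) ∧ ∀ a ξ, π (D.xl a ξ) = S₀.xl a ξ) :
    Function.Bijective π := by
  obtain ⟨S, hxs, hxl⟩ := hsys
  refine SysU.bijective_of_rep hF R₀ hgen₀ S π (hsysgen S hxs hxl) ?_ ?_
  · intro a b hab hab' t
    rw [hxs]
    exact hmatch.1 a b hab hab' t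
  · intro a ξ
    rw [hxl]
    exact hmatch.2 a ξ

end Dat

end Cfsg.Agent.Lib.helper3.SU5
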