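import Mathlib
import Cfsg.Agent.Lib.helper3.SU5.Defs
import Cfsg.Agent.Lib.helper8.STULA1

/-!
# Project SU5 (S2291, odd side; designer helper3), row G7 (`Pre.Mon.r1`), VERBATIM (helper23)

`r1` transports along a monomial element when the twists are trivial: compose the rank one homomorphism with the conjugation by `g`.
-/

set_option autoImplicit false

namespace Cfsg.Agent.Lib.helper3.SU5

open Cfsg.Agent.Lib.helper15.St2 Cfsg.Agent.Lib.Helper27.STU
open Cfsg.Agent.Lib.helper3.STC (ng sws)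

universe u v w w₀

namespace Pre

section G

variable {F : Type u} [Field F] [StarRing F] {od : Prop} {ι : Type v} {G : Type w} [Group G] (P : Pre F od ι G)
  {g : G} {π : Equiv.Perm (ι ⊕ ι)} {d : ι ⊕ ι → F} {d0 : F}

/-- G7 [S-M]  `r1` transports when the twists are trivial: `ρ' := (MulAut.conj g).toMonoidHom.comp ρ`. -/
theorem Mon.r1 (hg : P.Mon g π d d0) {a : ι ⊕ ι} (h1 : d a * d0⁻¹ = 1) (h2 : d (ng a) * d0⁻¹ = 1) (h : P.R1 a) : P.R1 (π a) := by
  obtain ⟨ρ, hρ⟩ := h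
  refine ⟨(MulAut.conj g).toMonoidHom.comp ρ, fun ξ => ⟨?_, ?_⟩⟩
  · have h3 := hg.2.2 a ξ
    rw [h1, Lam.act_one] at h3
    rw [← h3, ← (hρ ξ).1]
    rfl
  · have h3 := hg.2.2 (ng a) ξ
    rw [h2, Lam.act_one, hg.1.pi_ng] at h3
    rw [← h3, ← (hρ ξ).2]
    rfl

end G

end Pre

end Cfsg.Agent.Lib.helper3.SU5
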