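import Mathlib
import Cfsg.Agent.Lib.helper3.SU5.Defs
import Cfsg.Agent.Lib.helper23.SU5F2core
import Cfsg.Agent.Lib.helper4.SU5S5
import Cfsg.Agent.Lib.Helper26.SU5S6
import Cfsg.Agent.Lib.Helper21.SU5F1

/-!
# Project SU5 (S2291, odd side; designer helper3), row F2 (`iso_of_tab`), VERBATIM (helper23)
-/

set_option autoImplicit false

namespace Cfsg.Agent.Lib.helper3.SU5

open Cfsg.Agent.Lib.helper15.St2 Cfsg.Agent.Lib.Helper27.STU
open Cfsg.Agent.Lib.helper3.STC (ng sws)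

universe u v w w₀

namespace Dat

variable {F : Type u} [Field F] [StarRing F] {G : Type w} [Group G] (D : Dat F G)

/-- F2 [S-M]  the isomorphism criterion: `exists_sys`, `sys_gen`, `match_all`, `SysU.bijective_of_rep` (`Helper18.STUK4`). -/
theorem iso_of_tab [Finite F] (hF : Hyp F) (hT : Tab5 D)
    (hgen : Subgroup.closure (Set.range D.φa ∪ Set.range D.φb) = ⊤)
    {G₀ : Type w₀} [Group G₀] (S₀ : SysU F True (Fin 2) G₀) {V : Type*} [AddCommGroup V] [Module F V] (R₀ : S₀.Rep V)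
    (hgen₀ : S₀.XQ (fun _ _ => True) = ⊤) (π : G →* G₀)
    (hxA : ∀ t, π (D.xA t) = S₀.xs (Sum.inl 0) (Sum.inl 1) t) (hyA : ∀ t, π (D.yA t) = S₀.xs (Sum.inl 1) (Sum.inl 0) t)
    (hxB : ∀ ξ, π (D.xB ξ) = S₀.xl (Sum.inl 1) ξ) (hyB : ∀ ξ, π (D.yB ξ) = S₀.xl (Sum.inr 1) ξ) :
    Function.Bijective π :=
  su5f2_core D hF (exists_sys D hT) (fun S h1 h2 => sys_gen D S h1 h2 hgen) S₀ R₀ hgen₀ π
    (match_all D hT.c0 S₀ π hxA hyA hxB hyB)

end Dat

end Cfsg.Agent.Lib.helper3.SU5
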