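import Mathlib
import Cfsg.Agent.Lib.Helper19.SU5.Defs
import Cfsg.Agent.Lib.Helper19.SU5.Defs2

/-!
# Project SU5 (designer helper19), row Z9 (`monV_mulU`, `monV_invU`, `monV_extU`), VERBATIM (helper23)

The calculus of `MonV` (monomial action on the frame of a representation).
-/

set_option autoImplicit false

namespace Cfsg.Agent.Lib.Helper19.SU5

open Cfsg.Agent.Lib.helper17.SLP Cfsg.Agent.Lib.helper3.SP4 Cfsg.Agent.Lib.Helper22.SU4
open Cfsg.Agent.Lib.Helper27.STU (Lam XpM XmM XpS XmS SUm XpU XmU SysU)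
open Cfsg.Agent.Lib.helper3.STC (ng sws)
open Cfsg.Agent.Lib.helper3.SU5 (Dat Tab5 Pre)

universe u v w

section ZV

variable {F : Type u} [Field F] [StarRing F] {od : Prop} {ι : Type v} [DecidableEq ι] {G₀ : Type w} [Group G₀]
  {S : SysU F od ι G₀} {V : Type*} [AddCommGroup V] [Module F V]

omit [DecidableEq ι] in
/-- Z9 [S-M]  calculus of `MonV` (`map_mul`, `LinearEquiv.mul_apply`, `map_smul`, `smul_smul`); `ext`: `R.φ g = R.φ g'` by `hsp`, then `hinj`. -/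
theorem monV_mulU (R : S.Rep V) {g g' : G₀} {π π' : Equiv.Perm (ι ⊕ ι)} {d d' : ι ⊕ ι → F} {d0 d0' : F}
    (h : MonV R g π d d0) (h' : MonV R g' π' d' d0') :
    MonV R (g * g') (π * π') (fun k => d' k * d (π' k)) (d0' * d0) := by
  constructor
  · intro a
    rw [map_mul, LinearEquiv.mul_apply, h'.1 a, map_smul, h.1 (π' a), smul_smul, Equiv.Perm.mul_apply]
  · rw [map_mul, LinearEquiv.mul_apply, h'.2, map_smul, h.2, smul_smul]

omit [DecidableEq ι] in
theorem monV_invU (R : S.Rep V) {g : G₀} {π : Equiv.Perm (ι ⊕ ι)} {d : ι ⊕ ι → F} {d0 : F}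
    (h : MonV R g π d d0) (hd : ∀ k, d k ≠ 0) (hd0 : d0 ≠ 0) :
    MonV R g⁻¹ π⁻¹ (fun k => (d (π⁻¹ k))⁻¹) d0⁻¹ := by
  have hinv : ∀ x : V, R.φ g⁻¹ (R.φ g x) = x := by
    intro x
    rw [← LinearEquiv.mul_apply, ← map_mul, inv_mul_cancel, map_one]
    rfl
  constructor
  · intro a
    have h1 := h.1 (π⁻¹ a)
    have h0 : π (π⁻¹ a) = a := Equiv.apply_symm_apply π a
    rw [h0] at h1
    have h2 : R.fr a = (d (π⁻¹ a))⁻¹ • R.φ g (R.fr (π⁻¹ a)) := by
      rw [h1, smul_smul, inv_mul_cancel₀ (hd _), one_smul]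
    conv_lhs => rw [h2]
    rw [map_smul, hinv]
  · have h2 : R.dv = d0⁻¹ • R.φ g R.dv := by
      rw [h.2, smul_smul, inv_mul_cancel₀ hd0, one_smul]
    conv_lhs => rw [h2]
    rw [map_smul, hinv]

omit [DecidableEq ι] in
theorem monV_extU (R : S.Rep V) (hinj : Function.Injective R.φ) (hsp : SpanV R) {g g' : G₀}
    {π π' : Equiv.Perm (ι ⊕ ι)} {d d' : ι ⊕ ι → F} {d0 d0' : F} (h : MonV R g π d d0) (h' : MonV R g' π' d' d0')
    (hπ : π = π') (hd : ∀ k, d k = d' k) (hd0 : d0 = d0') : g = g' := by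
  apply hinj
  apply hsp
  · intro a
    rw [h.1 a, h'.1 a, hπ, hd a]
  · rw [h.2, h'.2, hd0]

end ZV

end Cfsg.Agent.Lib.Helper19.SU5
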