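import Mathlib
import Cfsg.Agent.Lib.Helper19.SU5.Defs
import Cfsg.Agent.Lib.Helper19.SU5.Defs2
import Cfsg.Agent.Lib.Helper9.SU5UF1
import Cfsg.Agent.Lib.Helper5.SU5T0
import Cfsg.Agent.Lib.Helper16.SU5Z0
import Cfsg.Agent.Lib.Helper21.SU5Z1core
import Cfsg.Agent.Lib.helper15.SU5Z7
import Cfsg.Agent.Lib.Helper1.SU5Z8
import Cfsg.Agent.Lib.helper23.SU5Z9
import Cfsg.Agent.Lib.Helper5.STULA5

/-!
# Project SU5 (designer helper19; S2291 odd case), row Z10 `model_torusU`, VERBATIM (helper23)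

The four relations `N5 N6 U1 U4` between torus and Weyl elements in the model, checked on the frame (`monV_extU`).
Extras: `su5z10_congr` (change the data of a `MonV`), `su5z10_hs` (the short torus element `hs 1 2 s` is diagonal with data
`dhs 1 2 s`, `d0 = 1`), `su5z10_hl` (the long torus element `hl 2 η ξ`, `η.c = r ξ.c`, is diagonal with data `dhl 2 r`, `d0h r`).
-/

set_option autoImplicit false
set_option linter.unusedSectionVars false
set_option linter.unusedVariables false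

namespace Cfsg.Agent.Lib.Helper19.SU5

open Cfsg.Agent.Lib.helper17.SLP Cfsg.Agent.Lib.helper3.SP4 Cfsg.Agent.Lib.Helper22.SU4
open Cfsg.Agent.Lib.Helper27.STU (Lam XpM XmM XpS XmS SUm XpU XmU SysU)
open Cfsg.Agent.Lib.helper3.STC (ng sws)
open Cfsg.Agent.Lib.helper3.SU5 (Dat Tab5 Pre)

universe u v w

section Z'

variable {F : Type u} {K : Type u} [Field F] [Field K] [StarRing F] [Fintype F] [Fintype K] {D : Tw F K}
  {G₀ : Type v} [Group G₀] (S : SysU F True (Fin 2) G₀) {V : Type*} [AddCommGroup V] [Module F V]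

theorem su5z10_congr {S : SysU F True (Fin 2) G₀} (R : S.Rep V) {g : G₀} {π π' : Equiv.Perm (Fin 2 ⊕ Fin 2)} {d d' : Fin 2 ⊕ Fin 2 → F} {d0 d0' : F}
    (h : MonV R g π d d0) (hπ : π = π') (hd : ∀ k, d k = d' k) (hd0 : d0 = d0') : MonV R g π' d' d0' := by
  subst hπ hd0
  have : d = d' := funext hd
  subst this
  exact h

/-- the short torus element on the frame -/
theorem su5z10_hs {S : SysU F True (Fin 2) G₀} (R : S.Rep V) (s : F) (hs : s ≠ 0) :
    MonV R (S.hs (Sum.inl 0) (Sum.inl 1) s) 1 (Cfsg.Agent.Lib.Helper27.STU.dhs (Sum.inl 0) (Sum.inl 1) s) 1 := by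
  have h1 := monV_wsU R (S := S) (a := Sum.inl 0) (b := Sum.inl 1) (by decide) (by decide) s hs
  have h2 := monV_wsU R (S := S) (a := Sum.inl 0) (b := Sum.inl 1) (by decide) (by decide) (-1) (by simp)
  have h3 := monV_mulU R h1 h2
  refine su5z10_congr R h3 (by decide) ?_ (by simp)
  intro k
  have hs' : star s ≠ 0 := by simpa using hs
  rcases k with k | k <;> fin_cases k <;>
    simp [Cfsg.Agent.Lib.Helper27.STU.dws, Cfsg.Agent.Lib.Helper27.STU.dhs, sws, ng, Equiv.swap_apply_def]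

/-- the long torus element `hl 2 η ξ` on the frame (`η.c = r ξ.c`) -/
theorem su5z10_hl {S : SysU F True (Fin 2) G₀} (R : S.Rep V) (η ξ : Lam F True) (r : F) (hr : r ≠ 0) (hξ : ξ.c ≠ 0)
    (hη : η.c = r * ξ.c) :
    MonV R (S.hl (Sum.inl 1) η ξ) 1 (Cfsg.Agent.Lib.Helper27.STU.dhl (Sum.inl 1) r)
      (Cfsg.Agent.Lib.Helper27.STU.d0h r) := by
  have hηc : η.c ≠ 0 := by rw [hη]; exact mul_ne_zero hr hξ
  have h1 := monV_wlU R (S := S) (Sum.inl 1) hηc
  have h2 := monV_wlU R (S := S) (Sum.inl 1) hξ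
  have hs' : star ξ.c ≠ 0 := by simpa using hξ
  have hr' : star r ≠ 0 := by simpa using hr
  have h2' := monV_invU R h2 (by
    intro k
    rcases k with k | k <;> fin_cases k <;>
      simp [Cfsg.Agent.Lib.Helper27.STU.dwl, ng, hξ]) (by
    simp [Cfsg.Agent.Lib.Helper27.STU.d0l, hξ])
  have h3 := monV_mulU R h1 h2'
  refine su5z10_congr R h3 (by decide) ?_ ?_
  · intro k
    rcases k with k | k <;> fin_cases k <;>
      simp [Cfsg.Agent.Lib.Helper27.STU.dwl, Cfsg.Agent.Lib.Helper27.STU.dhl, ng, Equiv.swap_apply_def, hη] <;>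
      field_simp
  · simp only [Cfsg.Agent.Lib.Helper27.STU.d0l, Cfsg.Agent.Lib.Helper27.STU.d0h, hη, star_mul']
    field_simp

theorem model_torusU (hFK : Fintype.card F = Fintype.card K ^ 2)
    (hF : Cfsg.Agent.Lib.Helper27.STU.Hyp F) (P : RO D)
    (ψa : Matrix.SpecialLinearGroup (Fin 2) F →* G₀) (ψb : ↥(SUm F True) →* G₀) (M : MatchU S ψa ψb)
    (R : S.Rep V) (hinj : Function.Injective R.φ) (hsp : SpanV R) :
    rn (phiL P ψb) * rh ψa P.ζ * (rn (phiL P ψb))⁻¹ = rh ψa P.ζ * rh (phiL P ψb) P.ζ₀ ∧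
      rn ψa * rn (phiL P ψb) * rn ψa * rn (phiL P ψb) = rn (phiL P ψb) * rn ψa * rn (phiL P ψb) * rn ψa ∧
      Commute (rh ψa P.ζ) (hbF P ψb P.ζ) ∧
      rn ψa * hbF P ψb P.ζ * (rn ψa)⁻¹ = rh ψa P.ζ * hbF P ψb P.ζ := by
  obtain ⟨-, hrn, hrh, -, -, hwb, hhb⟩ := su5z1_core S P (fun η r h => wu_eq_huU hFK P η r h) ψa ψb M
  have hT0 := (phiL_basicU P ψa ψb).2.2.1
  obtain ⟨hκ0, -⟩ := kap_neU hFK P
  obtain ⟨-, hκs, -, -, -, -, hnm, -⟩ := ro_basicU P
  have hζ : (P.ζ : F) ≠ 0 := P.ζ.ne_zero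
  have hζs : star (P.ζ : F) ≠ 0 := by simp
  have hκs0 : star P.kap ≠ 0 := by simp [hκ0]
  generalize hξ₀ : (Lam.tr (P.ζ : F) : Lam F True) = ξ₀ at hwb hhb
  have hξ₀c : ξ₀.c = P.kap := by rw [← hξ₀]; rfl
  have Wa := monV_wsU R (S := S) (a := Sum.inl 0) (b := Sum.inl 1) (by decide) (by decide) 1 one_ne_zero
  have Wb := monV_wlU R (S := S) (Sum.inl 1) (ξ := ξ₀) (by rw [hξ₀c]; exact hκ0)
  have Ha := su5z10_hs R (P.ζ : F) hζ
  have Hb : ∀ r : Fˣ, MonV R (hbF P ψb r) 1 (Cfsg.Agent.Lib.Helper27.STU.dhl (Sum.inl 1) (r : F))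
      (Cfsg.Agent.Lib.Helper27.STU.d0h (r : F)) := by
    intro r
    obtain ⟨η, hη⟩ := Lam.exists_of_c hF trivial ((r : F) * P.kap)
    rw [hhb r η hη]
    exact su5z10_hl R η _ r r.ne_zero (by rw [hξ₀c]; exact hκ0) (by rw [hη, hξ₀c])
  have Wbi := monV_invU R Wb (by
    intro k
    rcases k with k | k <;> fin_cases k <;>
      simp [Cfsg.Agent.Lib.Helper27.STU.dwl, ng, hκ0, hξ₀c]) (by
    simp [Cfsg.Agent.Lib.Helper27.STU.d0l, hκ0, hξ₀c])
  have Wai := monV_invU R Wa (by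
    intro k
    rcases k with k | k <;> fin_cases k <;>
      simp [Cfsg.Agent.Lib.Helper27.STU.dws, ng]) one_ne_zero
  have hN : ((D.ιu P.ζ₀ : Fˣ) : F) = (P.ζ : F) * star (P.ζ : F) := by rw [← P.hn, hnm]
  rw [hrn, hwb, hrh, hT0]
  refine ⟨?_, ?_, ?_, ?_⟩
  · refine monV_extU R hinj hsp (monV_mulU R (monV_mulU R Wb Ha) Wbi) (monV_mulU R Ha (Hb (D.ιu P.ζ₀)))
      (by decide) ?_ ?_
    · intro k
      rcases k with k | k <;> fin_cases k <;>
        simp [Cfsg.Agent.Lib.Helper27.STU.dwl, Cfsg.Agent.Lib.Helper27.STU.dhl, Cfsg.Agent.Lib.Helper27.STU.dhs,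
          ng, Equiv.swap_apply_def, hN, hξ₀c] <;>
        field_simp
    · simp [Cfsg.Agent.Lib.Helper27.STU.d0l, Cfsg.Agent.Lib.Helper27.STU.d0h, hN, hξ₀c]
      field_simp
  · refine monV_extU R hinj hsp (monV_mulU R (monV_mulU R (monV_mulU R Wa Wb) Wa) Wb)
      (monV_mulU R (monV_mulU R (monV_mulU R Wb Wa) Wb) Wa) (by decide) ?_ ?_
    · intro k
      rcases k with k | k <;> fin_cases k <;>
        simp [Cfsg.Agent.Lib.Helper27.STU.dwl, Cfsg.Agent.Lib.Helper27.STU.dws, sws,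
          ng, Equiv.swap_apply_def, hξ₀c, hκs]
    · simp [Cfsg.Agent.Lib.Helper27.STU.d0l, hξ₀c]
  · show _ * _ = _ * _
    refine monV_extU R hinj hsp (monV_mulU R Ha (Hb P.ζ)) (monV_mulU R (Hb P.ζ) Ha) (by decide) ?_ ?_
    · intro k
      rcases k with k | k <;> fin_cases k <;>
        simp [Cfsg.Agent.Lib.Helper27.STU.dhl, Cfsg.Agent.Lib.Helper27.STU.dhs, ng, mul_comm]
    · simp
  · refine monV_extU R hinj hsp (monV_mulU R (monV_mulU R Wa (Hb P.ζ)) Wai) (monV_mulU R Ha (Hb P.ζ))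
      (by decide) ?_ ?_
    · intro k
      rcases k with k | k <;> fin_cases k <;>
        simp [Cfsg.Agent.Lib.Helper27.STU.dhl, Cfsg.Agent.Lib.Helper27.STU.dhs, Cfsg.Agent.Lib.Helper27.STU.dws, sws,
          ng, Equiv.swap_apply_def]
    · simp

end Z'

end Cfsg.Agent.Lib.Helper19.SU5
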