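import Mathlib
import Cfsg.Agent.Lib.Helper19.SU5.Defs
import Cfsg.Agent.Lib.Helper19.SU5.Defs2

/-!
# Project SU5 (designer helper19), row Z11 (`hypU_of_matchU`): the CORE (helper23)

`su5z11_core`: the 22 fields of `HypU P ψa ψb` from the CONCLUSIONS of Z3 `model_commLU`, Z4 `model_commHU`, Z5 `model_weylU`, Z6 `model_toractU`, Z10 `model_torusU`.
-/

set_option autoImplicit false

namespace Cfsg.Agent.Lib.Helper19.SU5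

open Cfsg.Agent.Lib.helper17.SLP Cfsg.Agent.Lib.helper3.SP4 Cfsg.Agent.Lib.Helper22.SU4
open Cfsg.Agent.Lib.Helper27.STU (Lam XpM XmM XpS XmS SUm XpU XmU SysU)
open Cfsg.Agent.Lib.helper3.STC (ng sws)
open Cfsg.Agent.Lib.helper3.SU5 (Dat Tab5 Pre)

universe u v w

section Z'

variable {F : Type u} {K : Type u} [Field F] [Field K] [StarRing F] {D : Tw F K}
  {G₀ : Type v} [Group G₀]

/-- Z11 core: `hZ3 … hZ10` are the conclusions of Z3, Z4, Z5, Z6, Z10 -/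
theorem su5z11_core (P : RO D)
    (ψa : Matrix.SpecialLinearGroup (Fin 2) F →* G₀) (ψb : ↥(SUm F True) →* G₀)
    (hZ3 : cm (rx ψa 1) (rx (phiL P ψb) 1) = xcU P ψa ψb 1 * xDU P ψa ψb 1 ∧
      cm (rx ψa 1) (xcU P ψa ψb 1) = xDU P ψa ψb 1 ^ 2 ∧
      cm (rx ψa 1) (xcU P ψa ψb (P.ζ : F)) = xDU P ψa ψb (D.tr (P.ζ : F)) ∧
      Commute (rx ψa 1) (xDU P ψa ψb 1) ∧ Commute (rx (phiL P ψb) 1) (xDU P ψa ψb 1))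
    (hZ4 : (∀ ξ, Commute (rn (phiL P ψb)) (ydU ψa ψb ξ)) ∧ (∀ ξ t, Commute (yb ψb ξ) (xcU P ψa ψb t)) ∧
      (∀ t ξ, cm (rx ψa t) (yb ψb ξ) =
        xcU P ψa ψb (-(P.kap)⁻¹ * (t * star ξ.c)) * ydU ψa ψb (Lam.act (-t) ξ)) ∧
      ∀ ξ η, cm (yb ψb ξ) (ydU ψa ψb η) = xcU P ψa ψb (-(P.kap)⁻¹ * (star ξ.v * η.v)))
    (hZ5 : (rn (phiL P ψb) * rn ψa * (rn (phiL P ψb))⁻¹) * rx ψa 1 * (rn (phiL P ψb) * rn ψa * (rn (phiL P ψb))⁻¹)⁻¹ =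
        (rx ψa 1)⁻¹ ∧
      Commute (rn ψa * rn (phiL P ψb) * (rn ψa)⁻¹) (rx (phiL P ψb) 1))
    (hZ6 : (∀ (s : Fˣ) (ξ : Lam F True), rh ψa s * yb ψb ξ * (rh ψa s)⁻¹ = yb ψb (Lam.act ((s⁻¹ : Fˣ) : F) ξ)) ∧
      (∀ (r : Fˣ) (t : F), hbF P ψb r * rx ψa t * (hbF P ψb r)⁻¹ = rx ψa (((r⁻¹ : Fˣ) : F) * t)) ∧
      (rh ψa P.ζ)⁻¹ * rx (phiL P ψb) 1 * rh ψa P.ζ = rx (phiL P ψb) (P.ζ₀ : K))
    (hZ10 : rn (phiL P ψb) * rh ψa P.ζ * (rn (phiL P ψb))⁻¹ = rh ψa P.ζ * rh (phiL P ψb) P.ζ₀ ∧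
      rn ψa * rn (phiL P ψb) * rn ψa * rn (phiL P ψb) = rn (phiL P ψb) * rn ψa * rn (phiL P ψb) * rn ψa ∧
      Commute (rh ψa P.ζ) (hbF P ψb P.ζ) ∧
      rn ψa * hbF P ψb P.ζ * (rn ψa)⁻¹ = rh ψa P.ζ * hbF P ψb P.ζ) :
    HypU P ψa ψb where
  T3 := hZ6.2.2
  N5 := hZ10.1
  N6 := hZ10.2.1
  W7 := hZ5.1
  W8 := hZ5.2
  C9 := hZ3.1
  C10 := hZ3.2.1
  C10b := hZ3.2.2.1
  C11 := hZ3.2.2.2.1
  C12 := hZ3.2.2.2.2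
  U1 := hZ10.2.2.1
  U2 := by
    have h := hZ6.2.1 P.ζ 1
    rwa [mul_one] at h
  U3 := hZ6.1 P.ζ P.ξ₁
  U3b := hZ6.1 P.ζ P.ξ₂
  U4 := hZ10.2.2.2
  U5 := hZ4.1 P.ξ₁
  U6 := hZ4.2.1 P.ξ₁ 1
  U6b := hZ4.2.1 P.ξ₂ 1
  U7 := by
    have h := hZ4.2.2.1 1 P.ξ₁
    rwa [one_mul] at h
  U7b := by
    have h := hZ4.2.2.1 1 P.ξ₂
    rwa [one_mul] at h
  U8 := hZ4.2.2.2 P.ξ₁ P.ξ₁
  U8b := hZ4.2.2.2 P.ξ₂ P.ξ₁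

end Z'

end Cfsg.Agent.Lib.Helper19.SU5
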