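import Mathlib
import Cfsg.Agent.Lib.Helper19.SU5.Defs
import Cfsg.Agent.Lib.Helper19.SU5.Defs2
import Cfsg.Agent.Lib.Helper16.SU5Z0
import Cfsg.Agent.Lib.Helper21.SU5Z1core
import Cfsg.Agent.Lib.Helper21.SU5Z2
import Cfsg.Agent.Lib.helper2.SU5Z3core
import Cfsg.Agent.Lib.Helper25.SU5Z4core
import Cfsg.Agent.Lib.Helper5.SU5Z5core
import Cfsg.Agent.Lib.Helper5.SU5Z6core
import Cfsg.Agent.Lib.helper23.SU5Z10
import Cfsg.Agent.Lib.helper23.SU5Z11core

/-!
# Project SU5 (designer helper19; S2291 odd case), row Z11 `hypU_of_matchU`, VERBATIM (helper23)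

The 22 relations `HypU` hold in the model: assembly of `su5z11_core` with the cores of Z3 (helper2), Z4 (helper25), Z5, Z6 (helper5),
fed with Z1 (`su5z1_core` of helper21 + Z0 `wu_eq_huU` of helper16) and Z2 (`match_rootsU`, helper21), and Z10 `model_torusU`.
-/

set_option autoImplicit false
set_option linter.unusedSectionVars false
set_option linter.unusedVariables false

namespace Cfsg.Agent.Lib.Helper19.SU5

open Cfsg.Agent.Lib.helper17.SLP Cfsg.Agent.Lib.helper3.SP4 Cfsg.Agent.Lib.Helper22.SU4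
open Cfsg.Agent.Lib.Helper27.STU (Lam XpM XmM XpS XmS SUm XpU XmU SysU)
open Cfsg.Agent.Lib.helper3.STC (ng sws)
open Cfsg.Agent.Lib.helper3.SU5 (Dat Tab5 Pre)

universe u v w

section Z'

variable {F : Type u} {K : Type u} [Field F] [Field K] [StarRing F] [Fintype F] [Fintype K] {D : Tw F K}
  {G₀ : Type v} [Group G₀] (S : SysU F True (Fin 2) G₀) {V : Type*} [AddCommGroup V] [Module F V]

/-- Z11 [S]  deps Z3 Z4 Z5 Z6 Z10: the 22 fields (`U3 U3b`: Z6 part 1; `U2`: Z6 part 2 at `t = 1`; `U5 U6 U6b U7 U7b U8 U8b`: Z4 at `ξ₁`, `ξ₂`, `t = 1`; `t * star c = star c` etc. by `one_mul`). -/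
theorem hypU_of_matchU (hFK : Fintype.card F = Fintype.card K ^ 2)
    (hF : Cfsg.Agent.Lib.Helper27.STU.Hyp F) (P : RO D)
    (ψa : Matrix.SpecialLinearGroup (Fin 2) F →* G₀) (ψb : ↥(SUm F True) →* G₀) (M : MatchU S ψa ψb)
    (R : S.Rep V) (hinj : Function.Injective R.φ) (hsp : SpanV R) : HypU P ψa ψb := by
  have hZ1 := su5z1_core S P (fun η r h => wu_eq_huU hFK P η r h) ψa ψb M
  have hZ2 := match_rootsU S hFK P ψa ψb M
  exact su5z11_core P ψa ψb (su5z3_core S P ψa ψb hZ1 hZ2)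
    (su5z4_core S hFK P ψa ψb hZ1.1 hZ1.2.2.2.1 hZ1.2.2.2.2.2.1 hZ2.1 hZ2.2.1)
    (su5z5_core S hFK P ψa ψb hZ1) (su5z6_core S hFK hF P ψa ψb hZ1)
    (model_torusU S hFK hF P ψa ψb M R hinj hsp)

end Z'

end Cfsg.Agent.Lib.Helper19.SU5
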