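import Mathlib
import Cfsg.Agent.Lib.Lead.B3P.Defs
import Cfsg.Agent.Lib.helper2.CharNat
import Cfsg.Agent.Lib.helper2.PModular2
import Cfsg.Agent.S0139

/-!
# B3P piece VKL : the trace of an idempotent matrix over a commutative local ring is a natural number
-/

set_option autoImplicit false
set_option linter.unusedVariables false
set_option linter.unusedSectionVars false
set_option linter.style.haveILetI false
open scoped ComplexConjugate
open Classical

namespace Cfsg.Agent.Lib.Lead.B3P

open Cfsg.Agent.Lib.helper7 Cfsg.Agent.Lib.helper7.Br Polynomial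

/-- the trace of an idempotent endomorphism of a finite free module over a commutative local ring
is a natural number -/
theorem b3pvkl_trace_idem {S M : Type*} [CommRing S] [IsLocalRing S] [AddCommGroup M] [Module S M]
    [Module.Finite S M] [Module.Free S M] (f : M →ₗ[S] M) (hf : f ∘ₗ f = f) :
    ∃ r : ℕ, LinearMap.trace S M f = (r : S) := by
  have hff : ∀ x, f (f x) = f x := fun x => by
    have := congrArg (fun g : M →ₗ[S] M => g x) hf
    simpa using this
  have hproj : LinearMap.IsProj (LinearMap.range f) f :=
    ⟨fun x => LinearMap.mem_range_self f x, fun x ⟨y, hy⟩ => by rw [← hy, hff]⟩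
  -- the range
  haveI hfin1 : Module.Finite S (LinearMap.range f) := Module.Finite.range f
  haveI hproj1 : Module.Projective S (LinearMap.range f) := by
    refine Module.Projective.of_split (M := M) (LinearMap.range f).subtype
      (f.codRestrict (LinearMap.range f) (fun x => LinearMap.mem_range_self f x)) ?_
    ext ⟨x, hx⟩
    exact hproj.map_id x hx
  haveI hfree1 : Module.Free S (LinearMap.range f) := Module.free_of_flat_of_isLocalRing
  -- the kernel
  set g : M →ₗ[S] M := LinearMap.id - f with hg
  have hker : ∀ x, g x ∈ LinearMap.ker f := by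
    intro x
    rw [LinearMap.mem_ker, hg, LinearMap.sub_apply, map_sub, LinearMap.id_apply, hff, sub_self]
  have hkid : ∀ x ∈ LinearMap.ker f, g x = x := by
    intro x hx
    rw [LinearMap.mem_ker] at hx
    rw [hg, LinearMap.sub_apply, LinearMap.id_apply, hx, sub_zero]
  haveI hfin2 : Module.Finite S (LinearMap.ker f) := by
    refine Module.Finite.of_surjective
      (g.codRestrict (LinearMap.ker f) hker) ?_
    rintro ⟨x, hx⟩
    exact ⟨x, Subtype.ext (hkid x hx)⟩
  haveI hproj2 : Module.Projective S (LinearMap.ker f) := by
    refine Module.Projective.of_split (M := M) (LinearMap.ker f).subtype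
      (g.codRestrict (LinearMap.ker f) hker) ?_
    ext ⟨x, hx⟩
    exact hkid x hx
  haveI hfree2 : Module.Free S (LinearMap.ker f) := Module.free_of_flat_of_isLocalRing
  exact ⟨Module.finrank S (LinearMap.range f), hproj.trace⟩

/-- piece VKL : the trace of an idempotent matrix over a commutative local ring is a natural number -/
theorem trace_idem_matrix {S n : Type*} [CommRing S] [IsLocalRing S] [Fintype n] [DecidableEq n]
    (F : Matrix n n S) (hF : F * F = F) : ∃ r : ℕ, F.trace = (r : S) := by
  have h1 : Matrix.toLin' F ∘ₗ Matrix.toLin' F = Matrix.toLin' F := by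
    rw [← Matrix.toLin'_mul, hF]
  obtain ⟨r, hr⟩ := b3pvkl_trace_idem (Matrix.toLin' F) h1
  exact ⟨r, by rw [← hr, Matrix.trace_toLin'_eq]⟩

end Cfsg.Agent.Lib.Lead.B3P
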