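import Mathlib
import Cfsg.Agent.Lib.Lead.B3P.Defs
import Cfsg.Agent.Lib.helper2.CharNat
import Cfsg.Agent.Lib.helper2.PModular2
import Cfsg.Agent.S0139

/-!
# B3P piece VSUM : sum over all conjugates versus sum over coset representatives
-/

set_option autoImplicit false
set_option linter.unusedVariables false
set_option linter.unusedSectionVars false
set_option linter.style.haveILetI false
open scoped ComplexConjugate
open Classical

namespace Cfsg.Agent.Lib.Lead.B3P

open Cfsg.Agent.Lib.helper7 Cfsg.Agent.Lib.helper7.Br Polynomial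

variable {G : Type*} [Group G]

/-- the bijection `(σ, k) ↦ σ.out * k` from `(G ⧸ H) × H` to `G` -/
noncomputable def b3pvsum_equiv (H : Subgroup G) : (G ⧸ H) × H ≃ G where
  toFun := fun q => q.1.out * (q.2 : G)
  invFun := fun z => ((z : G ⧸ H), ⟨((z : G ⧸ H)).out⁻¹ * z, by
    have h1 : (((z : G ⧸ H)).out : G ⧸ H) = (z : G ⧸ H) := QuotientGroup.out_eq' _
    exact QuotientGroup.eq.mp h1⟩)
  left_inv := by
    rintro ⟨σ, k⟩
    have h1 : ((σ.out * (k : G) : G) : G ⧸ H) = σ := by
      rw [QuotientGroup.mk_mul_of_mem _ k.2]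
      exact QuotientGroup.out_eq' σ
    refine Prod.ext h1 ?_
    apply Subtype.ext
    simp only
    rw [h1]
    group
  right_inv := by
    intro z
    simp only
    group

theorem b3pvsum_equiv_apply (H : Subgroup G) (q : (G ⧸ H) × H) :
    b3pvsum_equiv H q = q.1.out * (q.2 : G) := rfl

/-- piece VSUM : sum over all conjugates versus sum over coset representatives -/
theorem sum_conj_eq_card_mul [Fintype G] {O : Type*} [CommRing O] (H : Subgroup G) [Fintype H]
    (hH : ∀ a b : H, a * b = b * a) (x : GA O G) (h : H) :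
    ∑ z : G, x (z * (h : G) * z⁻¹) = (Nat.card H : O) * ∑ σ : G ⧸ H, x (σ.out * (h : G) * σ.out⁻¹) := by
  rw [← (b3pvsum_equiv H).sum_comp (fun z => x (z * (h : G) * z⁻¹)), Fintype.sum_prod_type]
  have h1 : ∀ (σ : G ⧸ H) (k : H),
      x (b3pvsum_equiv H (σ, k) * (h : G) * (b3pvsum_equiv H (σ, k))⁻¹) =
        x (σ.out * (h : G) * σ.out⁻¹) := by
    intro σ k
    rw [b3pvsum_equiv_apply]
    congr 1
    have h2 : (k : G) * (h : G) = (h : G) * (k : G) := by
      have := congrArg Subtype.val (hH k h)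
      simpa using this
    simp only [mul_inv_rev]
    calc σ.out * (k : G) * (h : G) * ((k : G)⁻¹ * σ.out⁻¹)
        = σ.out * ((k : G) * (h : G)) * (k : G)⁻¹ * σ.out⁻¹ := by group
      _ = σ.out * ((h : G) * (k : G)) * (k : G)⁻¹ * σ.out⁻¹ := by rw [h2]
      _ = σ.out * (h : G) * σ.out⁻¹ := by group
  simp only [h1]
  simp only [Finset.sum_const, Finset.card_univ, nsmul_eq_mul]
  rw [← Finset.mul_sum, Nat.card_eq_fintype_card]

end Cfsg.Agent.Lib.Lead.B3P
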