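import Mathlib
import Cfsg.Agent.Lib.Helper28.BP2.Defs
import Cfsg.Agent.S0809

/-!
# BP2 row AO1: for odd `q` all involutions of `PSL₂(F)` are conjugate
(from the helper lemmas of the landed S0809).
-/

set_option autoImplicit false

namespace Cfsg.Agent.Lib.Helper28.BP2

open Cfsg.Agent.Lib.helper14

universe u v w

section AOdd

variable {F : Type u} [Field F] [Fintype F]

/-- `q` odd gives `2 ≠ 0` in `F`. -/
theorem bp2ao1_two_ne_zero (hodd : Odd (Fintype.card F)) : (2 : F) ≠ 0 := by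
  intro h
  have : CharP F 2 := CharTwo.of_one_ne_zero_of_two_eq_zero one_ne_zero h
  obtain ⟨n, _, hn⟩ := FiniteField.card F 2
  have h3 : 2 ∣ Fintype.card F := by
    rw [hn]
    exact dvd_pow_self 2 n.ne_zero
  have := Nat.odd_iff.mp hodd
  omega

/-- **AO1**  (S0809 with a subgroup of order 4 of `SL₂(F)`, `Sylow.exists_subgroup_card_pow_prime`). -/
theorem invol_conj_odd (hodd : Odd (Fintype.card F)) :
    ∀ x y : PSL2 F, orderOf x = 2 → orderOf y = 2 → IsConj x y := by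
  have hodd' : Fintype.card F % 2 = 1 := Nat.odd_iff.mp hodd
  have h2 : (2 : F) ≠ 0 := bp2ao1_two_ne_zero hodd
  intro x y hx hy
  obtain ⟨X, rfl⟩ := QuotientGroup.mk_surjective x
  obtain ⟨Y, rfl⟩ := QuotientGroup.mk_surjective y
  have hX := Cfsg.Agent.S0809.trace_zero_of_sq X (Cfsg.Agent.S0809.sq_of_order_two h2 X hx)
  have hY := Cfsg.Agent.S0809.trace_zero_of_sq Y (Cfsg.Agent.S0809.sq_of_order_two h2 Y hy)
  obtain ⟨P, hP⟩ := Cfsg.Agent.S0809.conj_of_trace_zero hodd' h2 X Y hX hY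
  rw [isConj_iff]
  refine ⟨QuotientGroup.mk P, ?_⟩
  rw [← hP]
  rfl

end AOdd

end Cfsg.Agent.Lib.Helper28.BP2
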