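import Mathlib
import Cfsg.Agent.Lib.Helper28.BP2.Defs
import Cfsg.Agent.Lib.helper4.BP2U2
import Cfsg.Agent.Lib.helper23.BP2AO1
import Cfsg.Agent.S0809

/-!
# BP2 row AO2: for odd `q` the centraliser of an involution `t` of `PSL₂(F)` is generated by the
involutions commuting with `t`.

Write `t = pr T` with `T * T = -1`.  An element `Y` of `SL₂(F)` with `Y T = -(T Y)` has trace `0`,
hence `Y * Y = -1` and `pr Y` is an involution commuting with `t`.  Such a `P` exists (S0809:
`T` and `-T` are conjugate in `SL₂(F)`).  If `pr X` centralises `t` then `X T = ± T X`; in the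
`-` case `pr X` is itself such an involution, in the `+` case `X = (X P) P⁻¹` is a product of two.
-/

set_option autoImplicit false

namespace Cfsg.Agent.Lib.Helper28.BP2

open Cfsg.Agent.Lib.helper14

universe u v w

section AOdd

variable {F : Type u} [Field F]

theorem bp2ao2_neg_one_ne_one (h2 : (2 : F) ≠ 0) : (-1 : SL2 F) ≠ 1 := by
  intro h
  have h1 := congrArg (fun y : SL2 F => (y : Matrix (Fin 2) (Fin 2) F) 0 0) h
  simp only [Matrix.SpecialLinearGroup.coe_neg, Matrix.SpecialLinearGroup.coe_one,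
    Matrix.neg_apply, Matrix.one_apply_eq] at h1
  apply h2
  linear_combination -h1

theorem bp2ao2_pr_neg (A : SL2 F) : pr F (-A) = pr F A :=
  (pr_eq_iff (-A) A).2 (Or.inr rfl)

theorem bp2ao2_pr_neg_one : pr F (-1) = 1 := by
  rw [bp2ao2_pr_neg, map_one]

/-- an element anticommuting with `T` has trace zero. -/
theorem bp2ao2_trace_zero (h2 : (2 : F) ≠ 0) (T Y : SL2 F) (hY : Y * T = -(T * Y)) :
    (Y : Matrix (Fin 2) (Fin 2) F).trace = 0 := by
  have h1 : Y = -(T * Y * T⁻¹) := by
    rw [← neg_mul, ← hY, mul_inv_cancel_right]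
  have h3 : (Y : Matrix (Fin 2) (Fin 2) F) =
      -((T : Matrix (Fin 2) (Fin 2) F) * (Y : Matrix (Fin 2) (Fin 2) F) *
        ((T⁻¹ : SL2 F) : Matrix (Fin 2) (Fin 2) F)) := by
    conv_lhs => rw [h1]
    rw [Matrix.SpecialLinearGroup.coe_neg, Matrix.SpecialLinearGroup.coe_mul,
      Matrix.SpecialLinearGroup.coe_mul]
  have h4 : ((T⁻¹ : SL2 F) : Matrix (Fin 2) (Fin 2) F) * (T : Matrix (Fin 2) (Fin 2) F) = 1 := by
    rw [← Matrix.SpecialLinearGroup.coe_mul, inv_mul_cancel, Matrix.SpecialLinearGroup.coe_one]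
  have h5 := congrArg Matrix.trace h3
  rw [Matrix.trace_neg, Matrix.trace_mul_cycle, h4, one_mul] at h5
  have h6 : (2 : F) * (Y : Matrix (Fin 2) (Fin 2) F).trace = 0 := by linear_combination h5
  rcases mul_eq_zero.mp h6 with h | h
  · exact absurd h h2
  · exact h

/-- an element anticommuting with `T` squares to `-1`. -/
theorem bp2ao2_sq (h2 : (2 : F) ≠ 0) (T Y : SL2 F) (hY : Y * T = -(T * Y)) : Y * Y = -1 := by
  have ht := bp2ao2_trace_zero h2 T Y hY
  apply Subtype.ext
  rw [Matrix.SpecialLinearGroup.coe_mul,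
    Cfsg.Agent.Lib.helper15.m2_sq (Y : Matrix (Fin 2) (Fin 2) F) Y.2, ht, zero_smul, zero_sub,
    Matrix.SpecialLinearGroup.coe_neg, Matrix.SpecialLinearGroup.coe_one]

/-- an element anticommuting with `T` maps to an involution of `PSL₂(F)` commuting with `pr T`. -/
theorem bp2ao2_anti (h2 : (2 : F) ≠ 0) (T Y : SL2 F) (hY : Y * T = -(T * Y)) :
    orderOf (pr F Y) = 2 ∧ Commute (pr F T) (pr F Y) := by
  have hsq := bp2ao2_sq h2 T Y hY
  constructor
  · have : Fact (Nat.Prime 2) := ⟨Nat.prime_two⟩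
    apply orderOf_eq_prime
    · rw [pow_two, ← map_mul, hsq, bp2ao2_pr_neg_one]
    · intro h1
      rw [← map_one (pr F), pr_eq_iff] at h1
      have h11 : Y * Y = 1 := by
        rcases h1 with h1 | h1
        · rw [h1, mul_one]
        · rw [h1, neg_mul_neg, mul_one]
      rw [hsq] at h11
      exact bp2ao2_neg_one_ne_one h2 h11
  · show pr F T * pr F Y = pr F Y * pr F T
    rw [← map_mul, ← map_mul, hY, bp2ao2_pr_neg]

end AOdd

section AOddFin

variable {F : Type u} [Field F] [Fintype F]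

/-- **AO2**.  WLOG (AO1) `t = pr !![0,1;-1,0]`.  Its centraliser is the image of
`{!![a,b;-b,a]} ∪ {!![a,b;b,-a]}`; the second kind squares to `-1` (involutions in `PSL₂`), and a
matrix of the first kind is a product of two of the second kind. -/
theorem cent_invol_le_closure (hodd : Odd (Fintype.card F)) (t : PSL2 F) (ht : orderOf t = 2) :
    Subgroup.centralizer ({t} : Set (PSL2 F)) ≤
      Subgroup.closure {s : PSL2 F | orderOf s = 2 ∧ Commute t s} := by
  have hodd' : Fintype.card F % 2 = 1 := Nat.odd_iff.mp hodd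
  have h2 : (2 : F) ≠ 0 := bp2ao1_two_ne_zero hodd
  obtain ⟨T, rfl⟩ := QuotientGroup.mk_surjective t
  have hTsq : T * T = -1 := Cfsg.Agent.S0809.sq_of_order_two h2 T ht
  have hTtr := Cfsg.Agent.S0809.trace_zero_of_sq T hTsq
  have hTtr' : ((-T : SL2 F) : Matrix (Fin 2) (Fin 2) F).trace = 0 := by
    rw [Matrix.SpecialLinearGroup.coe_neg, Matrix.trace_neg, hTtr, neg_zero]
  obtain ⟨P, hP⟩ := Cfsg.Agent.S0809.conj_of_trace_zero hodd' h2 T (-T) hTtr hTtr'
  have hPT : P * T = -(T * P) := by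
    rw [← neg_mul, ← hP, inv_mul_cancel_right]
  have hPiT : P⁻¹ * T = -(T * P⁻¹) := by
    have e : T * P⁻¹ = P⁻¹ * (P * T) * P⁻¹ := by group
    rw [e, hPT, mul_neg, neg_mul, neg_neg]
    group
  intro g hg
  obtain ⟨X, rfl⟩ := QuotientGroup.mk_surjective g
  have hc : pr F T * pr F X = pr F X * pr F T :=
    (Subgroup.mem_centralizer_iff.mp hg) _ (Set.mem_singleton _)
  rw [← map_mul, ← map_mul, pr_eq_iff] at hc
  rcases hc with hc | hc
  · -- `X` commutes with `T`
    have hXP : (X * P) * T = -(T * (X * P)) := by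
      rw [mul_assoc, hPT, mul_neg, ← mul_assoc, ← hc, mul_assoc]
    have e : (QuotientGroup.mk X : PSL2 F) = pr F (X * P) * pr F P⁻¹ := by
      rw [← map_mul, mul_assoc, mul_inv_cancel, mul_one]
      rfl
    rw [e]
    exact Subgroup.mul_mem _ (Subgroup.subset_closure (bp2ao2_anti h2 T (X * P) hXP))
      (Subgroup.subset_closure (bp2ao2_anti h2 T P⁻¹ hPiT))
  · -- `X` anticommutes with `T`
    have hXT : X * T = -(T * X) := by rw [hc, neg_neg]
    exact Subgroup.subset_closure (bp2ao2_anti h2 T X hXT)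

end AOddFin

end Cfsg.Agent.Lib.Helper28.BP2
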