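import Mathlib
import Cfsg.Agent.Lib.Helper21.BSQ.Defs

set_option autoImplicit false

namespace Cfsg.Agent.Lib.Helper21.BSQ

universe u

variable {G : Type u} [Group G]

/-- B4 [S]. `N = {1, z}` and `g z g⁻¹ ∈ N`, `≠ 1`. -/
theorem central_of_card_two (N : Subgroup G) [N.Normal] (hN : Nat.card ↥N = 2) :
    ∀ n ∈ N, ∀ g : G, g * n = n * g := by
  intro n hn g
  by_cases h1 : n = 1
  · subst h1; simp
  · obtain ⟨y, _, hy⟩ := (Nat.card_eq_two_iff' (1 : ↥N)).1 hN
    have hc : g * n * g⁻¹ ∈ N := ‹N.Normal›.conj_mem n hn g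
    have e1 : (⟨n, hn⟩ : ↥N) = y := hy _ (fun h => h1 (by simpa using congrArg Subtype.val h))
    have e2 : (⟨g * n * g⁻¹, hc⟩ : ↥N) = y := hy _ (fun h => h1 (by
      have h' : g * n * g⁻¹ = 1 := by simpa using congrArg Subtype.val h
      have : n = g⁻¹ * (g * n * g⁻¹) * g := by group
      rw [this, h']; group))
    have e3 : g * n * g⁻¹ = n := by
      have := e2.trans e1.symm
      simpa using congrArg Subtype.val this
    calc g * n = g * n * g⁻¹ * g := by group
      _ = n * g := by rw [e3]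

end Cfsg.Agent.Lib.Helper21.BSQ
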