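import Mathlib
import Cfsg.Agent.Lib.Helper21.BSQ.Defs

set_option autoImplicit false

namespace Cfsg.Agent.Lib.Helper21.BSQ

universe u

variable {G : Type u} [Group G]

/-- B6 [S]. `(s h)(s' h') = (s' h')(s h)` by the three commutation hypotheses. -/
theorem prod_abelian (S H A : Subgroup G) (hA : ∀ a ∈ A, ∃ s ∈ S, ∃ h ∈ H, a = s * h)
    (hSc : ∀ x ∈ S, ∀ y ∈ S, x * y = y * x) (hHc : ∀ x ∈ H, ∀ y ∈ H, x * y = y * x)
    (hSH : ∀ h ∈ H, ∀ s ∈ S, h * s = s * h) : IsMulCommutative ↥A := by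
  refine ⟨⟨fun a b => ?_⟩⟩
  obtain ⟨s, hs, h, hh, ea⟩ := hA a.1 a.2
  obtain ⟨s', hs', h', hh', eb⟩ := hA b.1 b.2
  apply Subtype.ext
  show a.1 * b.1 = b.1 * a.1
  rw [ea, eb]
  calc s * h * (s' * h') = s * (h * s') * h' := by group
    _ = s * (s' * h) * h' := by rw [hSH h hh s' hs']
    _ = (s * s') * (h * h') := by group
    _ = (s' * s) * (h' * h) := by rw [hSc s hs s' hs', hHc h hh h' hh']
    _ = s' * (s * h') * h := by group
    _ = s' * (h' * s) * h := by rw [hSH h' hh' s hs]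
    _ = s' * h' * (s * h) := by group

end Cfsg.Agent.Lib.Helper21.BSQ
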