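import Cfsg.Agent.Lib.helper23.J2pChk
import Cfsg.Agent.Lib.Lead.J2.P315

set_option autoImplicit false
set_option maxRecDepth 1000000
set_option Elab.async false

/-!
# The Hall–Janko group on 315 points: order and simplicity
-/

namespace Cfsg.Agent.Lib.helper23

open Subgroup MulAction Cfsg.Agent.Lib.Lead.J2

/-- the stabiliser chain -/
def j2pC : List PgLvlW := [j2pL1, j2pL2, j2pL3, j2pL4]

/-- the chain of the point stabiliser -/
def j2pC2 : List PgLvlW := [j2pL2, j2pL3, j2pL4]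

theorem j2pchkL4 : pgChkLvlW 315 (List.range 315) j2pL4 [] = true := by
  apply pgChkLvlW_ofAll j2pchk0x4
  intro s hs
  change s ∈ [j2pgen j2pT4x0 j2pI4x0, j2pgen j2pT4x1 j2pI4x1] at hs
  simp only [List.mem_cons, List.not_mem_nil, or_false] at hs
  rcases hs with rfl | rfl
  · exact j2pcl4x0
  · exact j2pcl4x1

theorem j2pchkL3 : pgChkLvlW 315 (List.range 315) j2pL3 [j2pL4] = true := by
  apply pgChkLvlW_ofAll j2pchk0x3
  intro s hs
  change s ∈ [j2pgen j2pT3x0 j2pI3x0, j2pgen j2pT3x1 j2pI3x1] at hs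
  simp only [List.mem_cons, List.not_mem_nil, or_false] at hs
  rcases hs with rfl | rfl
  · exact j2pcl3x0
  · exact j2pcl3x1

theorem j2pchkL2 : pgChkLvlW 315 (List.range 315) j2pL2 [j2pL3, j2pL4] = true := by
  apply pgChkLvlW_ofAll j2pchk0x2
  intro s hs
  change s ∈ [j2pgen j2pT2x0 j2pI2x0, j2pgen j2pT2x1 j2pI2x1] at hs
  simp only [List.mem_cons, List.not_mem_nil, or_false] at hs
  rcases hs with rfl | rfl
  · exact j2pcl2x0
  · exact j2pcl2x1

theorem j2pchkL1 : pgChkLvlW 315 (List.range 315) j2pL1 [j2pL2, j2pL3, j2pL4] = true := by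
  apply pgChkLvlW_ofAll j2pchk0x1
  intro s hs
  change s ∈ [j2pgen j2pT1x0 j2pI1x0, j2pgen j2pT1x1 j2pI1x1, j2pgen j2pT1x2 j2pI1x2,
    j2pgen j2pT1x3 j2pI1x3] at hs
  simp only [List.mem_cons, List.not_mem_nil, or_false] at hs
  rcases hs with rfl | rfl | rfl | rfl
  · exact j2pcl1x0
  · exact j2pcl1x1
  · exact j2pcl1x2
  · exact j2pcl1x3

theorem j2pchkC : pgChkW 315 (pgRigidTop 315).base j2pC = true := by
  change pgChkW 315 (List.range 315) [j2pL1, j2pL2, j2pL3, j2pL4] = true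
  rw [pgChkW_cons, pgChkW_cons, pgChkW_cons, pgChkW_cons, j2pchkL1, j2pchkL2, j2pchkL3, j2pchkL4]
  rfl

theorem j2pok : ∀ P ∈ pgOwnW j2pC, P.ok 315 = true :=
  pgChkW_own_ok 315 (pgRigidTop 315).base j2pC j2pchkC

theorem j2pA : pgGrpW 315 j2pC ≤ (pgRigidTop 315).A := le_top

theorem j2pord : pgOrdW 315 j2pC = 604800 := by decide +kernel

theorem j2pord2 : pgOrdW 315 j2pC2 = 1920 := by decide +kernel

theorem j2pcard : Nat.card (pgGrpW 315 j2pC) = 604800 := by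
  rw [pgCardW (pgRigidTop 315) j2pC j2pchkC j2pA, j2pord]

theorem j2pall1 : pgAll 315 (fun z => pgBit j2pM1 z) = true := by decide +kernel

theorem j2pb1 : j2pL1.b < 315 := by decide

theorem j2ptrans (z : Fin 315) : ∃ g ∈ pgGrpW 315 j2pC, g (11 : Fin 315) = z := by
  obtain ⟨hb, -, -, h4, -⟩ := pgLvlW_main (pgRigidTop 315) j2pchkC j2pA
  exact h4 z ((pgAll_iff _ _).1 j2pall1 z.1 z.2)

instance j2ppretrans : IsPretransitive (pgGrpW 315 j2pC) (Fin 315) := by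
  rw [isPretransitive_iff_base (11 : Fin 315)]
  intro z
  obtain ⟨g, hg, hgz⟩ := j2ptrans z
  exact ⟨⟨g, hg⟩, hgz⟩

theorem j2pstab : Nat.card (stabilizer (pgGrpW 315 j2pC) (11 : Fin 315)) = 1920 := by
  have := pgStabW_card (pgRigidTop 315) j2pchkC j2pA j2pb1
  rw [← j2pord2]
  exact this

theorem j2pclsChk : pgChkCls 315 11 (pgBit j2pM1) j2pL2.own j2pK = true := by decide +kernel

theorem j2pcnt1 : pgCount 315 (pgBit j2pM1) = 315 := by decide +kernel

theorem j2parith : ∀ I : Finset (Fin 6), (⟨0, by decide⟩ : Fin 6) ∈ I →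
    (∀ i ∈ I, ([1, 80, 10, 160, 32, 32] : List ℕ).getD i.1 0 ≠ 0) →
    (∑ i ∈ I, ([1, 80, 10, 160, 32, 32] : List ℕ).getD i.1 0) ∣ 315 →
    I = {(⟨0, by decide⟩ : Fin 6)} ∨
      ∀ i : Fin 6, ([1, 80, 10, 160, 32, 32] : List ℕ).getD i.1 0 ≠ 0 → i ∈ I := by
  decide +kernel

theorem j2pcoatom : IsCoatom (stabilizer (pgGrpW 315 j2pC) (11 : Fin 315)) := by
  refine pgCoatomW (pgRigidTop 315) (L := j2pL1) (L2 := j2pL2) (D := [j2pL3, j2pL4]) j2pchkC j2pA
    j2pb1 j2pK (by decide) j2pclsChk ⟨0, by decide +kernel, by decide⟩ ?_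
  change ∀ I : Finset (Fin 6), _ → _ → _ ∣ pgCount 315 (pgBit j2pM1) → _
  rw [j2pcnt1]
  exact j2parith

instance j2pprim : IsPreprimitive (pgGrpW 315 j2pC) (Fin 315) :=
  (isCoatom_stabilizer_iff_preprimitive _ (11 : Fin 315)).1 j2pcoatom

theorem j2ppow : pgAll 315 (fun p => Nat.beq (pgEvalW j2pL1.own (pgPowW j2ptw 7) p) p) = true := by
  decide +kernel

theorem j2pnc : pgChkNC 315 j2pL1.own j2ptw j2pcerts = true := by decide +kernel

theorem j2psimple : IsSimpleGroup (pgGrpW 315 j2pC) := by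
  have hgs : ∀ P ∈ j2pL1.own, P.ok 315 = true := j2pok
  have hprim : IsPreprimitive (closure (pgSet 315 j2pL1.own)) (Fin 315) := j2pprim
  exact pg_simple (pgSet 315 j2pL1.own) 1920 7 (by norm_num) j2pcard (by norm_num) (by norm_num)
    (pgWordPerm 315 j2pL1.own j2ptw) (pgWordPerm_mem hgs _) (pgPow_eq_one hgs j2ppow)
    (pgChkNC_sound hgs j2pnc)

/-! ### Comparison with the group generated by the four tables -/

/-- the packed tables of the four generators -/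
def j2pTab (k : Fin 4) : ℕ :=
  match k with
  | 0 => j2pT1x0
  | 1 => j2pT1x1
  | 2 => j2pT1x2
  | 3 => j2pT1x3

theorem j2ptab_eq : ∀ k : Fin 4, ∀ i : Fin 315, j2plk (j2pTab k) i.1 = (piFun k i).1 := by
  decide +kernel

theorem j2pmem0 : j2pgen j2pT1x0 j2pI1x0 ∈ pgOwnW j2pC := List.mem_cons_self
theorem j2pmem1 : j2pgen j2pT1x1 j2pI1x1 ∈ pgOwnW j2pC :=
  List.mem_cons_of_mem _ List.mem_cons_self
theorem j2pmem2 : j2pgen j2pT1x2 j2pI1x2 ∈ pgOwnW j2pC :=
  List.mem_cons_of_mem _ (List.mem_cons_of_mem _ List.mem_cons_self)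
theorem j2pmem3 : j2pgen j2pT1x3 j2pI1x3 ∈ pgOwnW j2pC :=
  List.mem_cons_of_mem _ (List.mem_cons_of_mem _ (List.mem_cons_of_mem _ List.mem_cons_self))

theorem j2pgen_eq0 : (j2pgen j2pT1x0 j2pI1x0).perm 315 = piG 0 := by
  ext i
  rw [PFun.perm_apply (j2pok _ j2pmem0)]
  exact j2ptab_eq 0 i

theorem j2pgen_eq1 : (j2pgen j2pT1x1 j2pI1x1).perm 315 = piG 1 := by
  ext i
  rw [PFun.perm_apply (j2pok _ j2pmem1)]
  exact j2ptab_eq 1 i

theorem j2pgen_eq2 : (j2pgen j2pT1x2 j2pI1x2).perm 315 = piG 2 := by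
  ext i
  rw [PFun.perm_apply (j2pok _ j2pmem2)]
  exact j2ptab_eq 2 i

theorem j2pgen_eq3 : (j2pgen j2pT1x3 j2pI1x3).perm 315 = piG 3 := by
  ext i
  rw [PFun.perm_apply (j2pok _ j2pmem3)]
  exact j2ptab_eq 3 i

theorem j2pset_eq : pgSet 315 j2pL1.own = Set.range piG := by
  ext x
  constructor
  · rintro ⟨P, hP, rfl⟩
    change P ∈ [j2pgen j2pT1x0 j2pI1x0, j2pgen j2pT1x1 j2pI1x1, j2pgen j2pT1x2 j2pI1x2,
      j2pgen j2pT1x3 j2pI1x3] at hP
    simp only [List.mem_cons, List.not_mem_nil, or_false] at hP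
    rcases hP with rfl | rfl | rfl | rfl
    · exact ⟨0, j2pgen_eq0.symm⟩
    · exact ⟨1, j2pgen_eq1.symm⟩
    · exact ⟨2, j2pgen_eq2.symm⟩
    · exact ⟨3, j2pgen_eq3.symm⟩
  · rintro ⟨k, rfl⟩
    fin_cases k
    · exact ⟨_, List.mem_cons_self, j2pgen_eq0.symm⟩
    · exact ⟨_, List.mem_cons_of_mem _ List.mem_cons_self, j2pgen_eq1.symm⟩
    · exact ⟨_, List.mem_cons_of_mem _ (List.mem_cons_of_mem _ List.mem_cons_self),
        j2pgen_eq2.symm⟩
    · exact ⟨_, List.mem_cons_of_mem _ (List.mem_cons_of_mem _ (List.mem_cons_of_mem _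
        List.mem_cons_self)), j2pgen_eq3.symm⟩

/-- the group on 315 points is the group of the chain -/
theorem P315_eq : P315 = pgGrpW 315 j2pC := by
  unfold P315
  rw [← j2pset_eq]
  rfl

/-- the order -/
theorem P315_card : Nat.card P315 = 604800 := by
  rw [P315_eq]
  exact j2pcard

/-- simplicity -/
theorem P315_simple : IsSimpleGroup P315 := by
  rw [P315_eq]
  exact j2psimple

theorem P315_noncomm : ∃ a b : P315, a * b ≠ b * a := by
  refine ⟨⟨piG 0, subset_closure ⟨0, rfl⟩⟩, ⟨piG 1, subset_closure ⟨1, rfl⟩⟩, ?_⟩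
  intro h
  have h1 := congrArg (fun x : P315 => (x : Equiv.Perm (Fin 315)) 0) h
  revert h1
  decide +kernel

end Cfsg.Agent.Lib.helper23
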