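import Cfsg.Agent.Lib.helper23.PgX

set_option autoImplicit false

/-!
# Restriction of a permutation group to a block of points
-/

namespace Cfsg.Agent.Lib.helper23

open Subgroup MulAction

section block

/-- the points `off, …, off + m - 1` among `n` points -/
def pgBlk (n m off : ℕ) (h : off + m ≤ n) (b : Fin m) : Fin n := ⟨off + b.1, by omega⟩

theorem pgBlk_injective (n m off : ℕ) (h : off + m ≤ n) : Function.Injective (pgBlk n m off h) := by
  intro a b hab
  have := congrArg Fin.val hab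
  simp only [pgBlk] at this
  exact Fin.ext (by omega)

/-- the generators and their inverses map the block to itself -/
def pgChkBlk (m off : ℕ) (gs : List PFun) : Bool :=
  pgAllL gs (fun P => pgAll m (fun i =>
    (Nat.ble off (P.f (Nat.add off i)) && Nat.blt (P.f (Nat.add off i)) (Nat.add off m)) &&
    (Nat.ble off (P.g (Nat.add off i)) && Nat.blt (P.g (Nat.add off i)) (Nat.add off m))))

theorem pgBlk_inv {n m off : ℕ} (h : off + m ≤ n) {gs : List PFun}
    (hok : ∀ P ∈ gs, P.ok n = true) (hchk : pgChkBlk m off gs = true) :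
    ∀ g ∈ closure (pgSet n gs), ∀ b, ∃ b', g (pgBlk n m off h b) = pgBlk n m off h b' := by
  have hc : ∀ P ∈ gs, ∀ i < m, (off ≤ P.f (off + i) ∧ P.f (off + i) < off + m) ∧
      (off ≤ P.g (off + i) ∧ P.g (off + i) < off + m) := by
    intro P hP i hi
    have := (pgAll_iff _ _).1 ((pgAllL_iff _ _).1 hchk P hP) i hi
    simpa using this
  apply pgInv_of_closure
  · rintro s ⟨P, hP, rfl⟩ b
    obtain ⟨⟨c1, c2⟩, -⟩ := hc P hP b.1 b.2
    refine ⟨⟨P.f (off + b.1) - off, by omega⟩, ?_⟩
    apply Fin.ext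
    rw [PFun.perm_apply (hok P hP)]
    simp only [pgBlk]
    omega
  · rintro s ⟨P, hP, rfl⟩ b
    obtain ⟨-, c1, c2⟩ := hc P hP b.1 b.2
    refine ⟨⟨P.g (off + b.1) - off, by omega⟩, ?_⟩
    apply Fin.ext
    rw [PFun.perm_inv_apply (hok P hP)]
    simp only [pgBlk]
    omega

/-- the restriction of the group to a block -/
noncomputable def pgBlkHom {n m off : ℕ} (h : off + m ≤ n) {gs : List PFun}
    (hok : ∀ P ∈ gs, P.ok n = true) (hchk : pgChkBlk m off gs = true) :
    closure (pgSet n gs) →* Equiv.Perm (Fin m) :=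
  pgResHom (pgBlk n m off h) (pgBlk_injective n m off h) _ (pgBlk_inv h hok hchk)

theorem pgBlkHom_spec {n m off : ℕ} (h : off + m ≤ n) {gs : List PFun}
    (hok : ∀ P ∈ gs, P.ok n = true) (hchk : pgChkBlk m off gs = true)
    (g : closure (pgSet n gs)) (b : Fin m) :
    off + (pgBlkHom h hok hchk g b).1 = (g.1 (pgBlk n m off h b)).1 := by
  have := pgResHom_spec (pgBlk n m off h) (pgBlk_injective n m off h) _ (pgBlk_inv h hok hchk) g b
  exact congrArg Fin.val this

theorem pgBlkHom_gen {n m off : ℕ} (h : off + m ≤ n) {gs : List PFun}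
    (hok : ∀ P ∈ gs, P.ok n = true) (hchk : pgChkBlk m off gs = true)
    (P : PFun) (hP : P ∈ gs) (b : Fin m) :
    off + (pgBlkHom h hok hchk ⟨P.perm n, subset_closure ⟨P, hP, rfl⟩⟩ b).1 = P.f (off + b.1) := by
  rw [pgBlkHom_spec, PFun.perm_apply (hok P hP)]
  rfl

/-- the range of the restriction -/
theorem pgBlkHom_range {n m off : ℕ} (h : off + m ≤ n) {gs : List PFun}
    (hok : ∀ P ∈ gs, P.ok n = true) (hchk : pgChkBlk m off gs = true)
    (S' : Set (Equiv.Perm (Fin m)))
    (h1 : ∀ P (hP : P ∈ gs), pgBlkHom h hok hchk ⟨P.perm n, subset_closure ⟨P, hP, rfl⟩⟩ ∈ S')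
    (h2 : ∀ s' ∈ S', ∃ P, ∃ hP : P ∈ gs,
      pgBlkHom h hok hchk ⟨P.perm n, subset_closure ⟨P, hP, rfl⟩⟩ = s') :
    (pgBlkHom h hok hchk).range = closure S' := by
  apply pgResHom_range
  · rintro s ⟨P, hP, rfl⟩
    exact h1 P hP
  · intro s' hs'
    obtain ⟨P, hP, e⟩ := h2 s' hs'
    exact ⟨P.perm n, ⟨P, hP, rfl⟩, e⟩

end block

/-- the preimage of a subgroup under an isomorphism -/
def pgComapEquiv {J D : Type*} [Group J] [Group D] (e : J ≃* D) (K : Subgroup D) :
    ↥(K.comap e.toMonoidHom) ≃* ↥K where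
  toFun h := ⟨e h.1, h.2⟩
  invFun k := ⟨e.symm k.1, by
    rw [Subgroup.mem_comap]
    change e (e.symm k.1) ∈ K
    rw [MulEquiv.apply_symm_apply]
    exact k.2⟩
  left_inv h := by
    apply Subtype.ext
    simp
  right_inv k := by
    apply Subtype.ext
    simp
  map_mul' a b := by
    apply Subtype.ext
    exact map_mul e a.1 b.1

end Cfsg.Agent.Lib.helper23
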