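import Cfsg.Agent.Lib.helper23.J2hChk
import Cfsg.Agent.Lib.helper23.PgY
import Cfsg.Agent.Lib.helper23.J2pMain

set_option autoImplicit false
set_option maxRecDepth 1000000
set_option Elab.async false

/-!
# The Hall–Janko group on 315 + 100 points: the point stabiliser of index 100 and its suborbits
-/

namespace Cfsg.Agent.Lib.helper23

open Subgroup MulAction Cfsg.Agent.Lib.Lead.J2

/-- the chain of the point stabiliser -/
def j2hC2 : List PgLvlW := [j2hL2, j2hL3, j2hL4]

theorem j2hA : pgGrpW 415 j2hC ≤ (pgRigidAll 415).A := le_top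

theorem j2hok : ∀ P ∈ j2hL1.own, P.ok 415 = true :=
  pgChkW_own_ok 415 (pgRigidAll 415).base j2hC j2hchkC

theorem j2hok2 : ∀ P ∈ j2hL2.own, P.ok 415 = true :=
  pgChkW_own_ok 415 (pgRigidAll 415).base j2hC2 (pgChkW_tail j2hchkC)

theorem j2hord : pgOrdW 415 j2hC = 604800 := by decide +kernel

theorem j2hord2 : pgOrdW 415 j2hC2 = 6048 := by decide +kernel

/-- the group on 415 points -/
abbrev D415 : Subgroup (Equiv.Perm (Fin 415)) := closure (pgSet 415 j2hL1.own)

theorem D415_eq : D415 = pgGrpW 415 j2hC := rfl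

theorem D415_card : Nat.card D415 = 604800 := by
  rw [D415_eq, pgCardW (pgRigidAll 415) j2hC j2hchkC j2hA, j2hord]

instance : Finite D415 := Nat.finite_of_card_ne_zero (by rw [D415_card]; norm_num)

theorem j2hcard2 : Nat.card (pgGrpW 415 j2hC2) = 6048 := by
  obtain ⟨_, -, -, -, hmono⟩ := pgLvlW_main (pgRigidAll 415) j2hchkC j2hA
  rw [pgCardW (pgRigidAll 415) j2hC2 (pgChkW_tail j2hchkC) (le_trans hmono j2hA), j2hord2]

/-! ### the restriction to the first 315 points -/

theorem j2hblk : pgChkBlk 315 0 j2hL1.own = true := by decide +kernel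

/-- the restriction to the first 315 points -/
noncomputable def j2hres : D415 →* Equiv.Perm (Fin 315) :=
  pgBlkHom (n := 415) (m := 315) (off := 0) (by norm_num) j2hok j2hblk

/-- the packed tables of the four generators -/
def j2hTab (k : Fin 4) : ℕ :=
  match k with
  | 0 => j2hT1x0
  | 1 => j2hT1x1
  | 2 => j2hT1x2
  | 3 => j2hT1x3

/-- the packed tables of the inverses of the four generators -/
def j2hTabI (k : Fin 4) : ℕ :=
  match k with
  | 0 => j2hI1x0
  | 1 => j2hI1x1
  | 2 => j2hI1x2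
  | 3 => j2hI1x3

theorem j2htab_eq : ∀ k : Fin 4, ∀ i : Fin 315, j2hlk (j2hTab k) (0 + i.1) = (piFun k i).1 := by
  decide +kernel

theorem j2hown : j2hL1.own = [j2hgen (j2hTab 0) (j2hTabI 0), j2hgen (j2hTab 1) (j2hTabI 1),
    j2hgen (j2hTab 2) (j2hTabI 2), j2hgen (j2hTab 3) (j2hTabI 3)] := rfl

theorem j2hmem (k : Fin 4) : j2hgen (j2hTab k) (j2hTabI k) ∈ j2hL1.own := by
  rw [j2hown]
  fin_cases k <;> simp

theorem j2hres_gen (k : Fin 4) :
    j2hres ⟨(j2hgen (j2hTab k) (j2hTabI k)).perm 415, subset_closure ⟨_, j2hmem k, rfl⟩⟩ =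
      piG k := by
  ext i
  have h := pgBlkHom_gen (n := 415) (m := 315) (off := 0) (by norm_num) j2hok j2hblk _ (j2hmem k) i
  rw [Nat.zero_add] at h
  change (j2hres _ i).1 = _ at h
  rw [h]
  exact j2htab_eq k i

theorem j2hres_range : j2hres.range = P315 := by
  unfold P315
  apply pgBlkHom_range
  · intro P hP
    rw [j2hown] at hP
    simp only [List.mem_cons, List.not_mem_nil, or_false] at hP
    rcases hP with rfl | rfl | rfl | rfl
    · exact ⟨0, (j2hres_gen 0).symm⟩
    · exact ⟨1, (j2hres_gen 1).symm⟩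
    · exact ⟨2, (j2hres_gen 2).symm⟩
    · exact ⟨3, (j2hres_gen 3).symm⟩
  · rintro _ ⟨k, rfl⟩
    exact ⟨_, j2hmem k, j2hres_gen k⟩

/-- the group on 415 points is the group on 315 points -/
noncomputable def D415_equiv : D415 ≃* P315 :=
  pgEquivOfRange j2hres P315 j2hres_range (by rw [D415_card, P315_card])

/-! ### the point stabiliser -/

theorem j2hb1 : j2hL1.b < 415 := by decide

/-- the point of the second block -/
def j2hx : Fin 415 := ⟨j2hL1.b, j2hb1⟩

/-- the point stabiliser -/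
abbrev D415H : Subgroup D415 := stabilizer D415 j2hx

theorem D415H_card : Nat.card D415H = 6048 := by
  have := pgStabW_card (pgRigidAll 415) j2hchkC j2hA j2hb1
  rw [← j2hord2]
  exact this

/-- the point stabiliser is the group of the rest of the chain -/
noncomputable def D415H_equiv : D415H ≃* pgGrpW 415 j2hC2 :=
  (Subgroup.equivMapOfInjective D415H D415.subtype (Subgroup.subtype_injective _)).trans
    (MulEquiv.subgroupCongr (pgStabW (pgRigidAll 415) j2hchkC j2hA j2hb1))

theorem D415_orbit : (orbit D415 j2hx).ncard = 100 := by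
  rw [← MulAction.index_stabilizer]
  have h : (stabilizer D415 j2hx).index * 6048 = 604800 := by
    have := Subgroup.index_mul_card D415H
    rwa [D415H_card, D415_card] at this
  omega

/-! ### the suborbits -/

theorem j2hcls : pgChkCls 415 j2hL1.b j2hL1.inO j2hL2.own j2hK = true := by decide +kernel

theorem j2hrep1 : j2hK.rep 1 < 415 := by decide
theorem j2hrep2 : j2hK.rep 2 < 415 := by decide

/-- a point of the suborbit of length 36 -/
def j2hy1 : Fin 415 := ⟨j2hK.rep 2, j2hrep2⟩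

/-- a point of the suborbit of length 63 -/
def j2hy2 : Fin 415 := ⟨j2hK.rep 1, j2hrep1⟩

theorem j2hcnt1 : pgCount 415 (fun y => j2hL1.inO y && Nat.beq (j2hK.cls y) 2) = 36 := by
  decide +kernel

theorem j2hcnt2 : pgCount 415 (fun y => j2hL1.inO y && Nat.beq (j2hK.cls y) 1) = 63 := by
  decide +kernel

theorem j2hclsb : j2hK.cls j2hL1.b = 0 := by decide +kernel

theorem j2hk3 : j2hK.k = 3 := rfl

theorem j2hin1 : j2hL1.inO j2hy1.1 = true := by decide +kernel
theorem j2hin2 : j2hL1.inO j2hy2.1 = true := by decide +kernel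

theorem D415_suborbits : (orbit D415H j2hy1).ncard = 36 ∧ (orbit D415H j2hy2).ncard = 63 := by
  obtain ⟨_, -, -, htr, -⟩ := pgLvlW_main (pgRigidAll 415) j2hchkC j2hA
  have horb := pgLvlW_orbit (pgRigidAll 415) j2hchkC j2hA j2hb1
  have hcls := pgCls_orbit (pgRigidAll 415) j2hchkC j2hA j2hb1 j2hK j2hcls
  set A1 : Finset (Fin 415) := Finset.univ.filter
    (fun y : Fin 415 => (j2hL1.inO y.1 && Nat.beq (j2hK.cls y.1) 2) = true) with hA1
  set A2 : Finset (Fin 415) := Finset.univ.filter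
    (fun y : Fin 415 => (j2hL1.inO y.1 && Nat.beq (j2hK.cls y.1) 1) = true) with hA2
  have c1 : A1.card = 36 := by
    rw [hA1, pgCount_fin 415 (fun y => j2hL1.inO y && Nat.beq (j2hK.cls y) 2), j2hcnt1]
  have c2 : A2.card = 63 := by
    rw [hA2, pgCount_fin 415 (fun y => j2hL1.inO y && Nat.beq (j2hK.cls y) 1), j2hcnt2]
  have key := pgSuborbit_two (G := D415) j2hx j2hy1 j2hy2 A1 A2 ?_ ?_ ?_ ?_ ?_ ?_ ?_ ?_ ?_
  · rw [c1, c2] at key
    exact key
  · intro z hz
    rw [hA1, Finset.mem_filter, Bool.and_eq_true, Nat.beq_eq] at hz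
    obtain ⟨-, -, hr, ho⟩ := hcls z hz.2.1
    have e : (⟨j2hK.rep (j2hK.cls z.1), hr⟩ : Fin 415) = j2hy1 := by
      apply Fin.ext
      change j2hK.rep (j2hK.cls z.1) = j2hK.rep 2
      rw [hz.2.2]
    rw [e] at ho
    exact ho
  · intro z hz
    rw [hA2, Finset.mem_filter, Bool.and_eq_true, Nat.beq_eq] at hz
    obtain ⟨-, -, hr, ho⟩ := hcls z hz.2.1
    have e : (⟨j2hK.rep (j2hK.cls z.1), hr⟩ : Fin 415) = j2hy2 := by
      apply Fin.ext
      change j2hK.rep (j2hK.cls z.1) = j2hK.rep 1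
      rw [hz.2.2]
    rw [e] at ho
    exact ho
  · rintro z ⟨g, rfl⟩
    have hin : j2hL1.inO ((g : D415) • j2hx : Fin 415).1 = true := horb g.1 g.2
    obtain ⟨hk, hb, -⟩ := hcls _ hin
    rw [j2hk3] at hk
    rw [j2hclsb] at hb
    have : j2hK.cls ((g : D415) • j2hx : Fin 415).1 = 0 ∨
        j2hK.cls ((g : D415) • j2hx : Fin 415).1 = 1 ∨
        j2hK.cls ((g : D415) • j2hx : Fin 415).1 = 2 := by omega
    rcases this with h0 | h1 | h2
    · left
      exact Fin.ext (hb h0)
    · right; right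
      rw [hA2, Finset.mem_filter, Bool.and_eq_true, Nat.beq_eq]
      exact ⟨Finset.mem_univ _, hin, h1⟩
    · right; left
      rw [hA1, Finset.mem_filter, Bool.and_eq_true, Nat.beq_eq]
      exact ⟨Finset.mem_univ _, hin, h2⟩
  · obtain ⟨g, hg, e⟩ := htr j2hy1 j2hin1
    exact ⟨⟨g, hg⟩, e⟩
  · obtain ⟨g, hg, e⟩ := htr j2hy2 j2hin2
    exact ⟨⟨g, hg⟩, e⟩
  · intro h
    have := congrArg Fin.val h
    revert this
    decide
  · intro h
    have := congrArg Fin.val h
    revert this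
    decide
  · rw [Finset.disjoint_left]
    intro z h1 h2
    rw [hA1, Finset.mem_filter, Bool.and_eq_true, Nat.beq_eq] at h1
    rw [hA2, Finset.mem_filter, Bool.and_eq_true, Nat.beq_eq] at h2
    omega
  · rw [c1, c2, D415H_card]
    norm_num

theorem D415_y1 : ∃ g : D415, g • j2hx = j2hy1 := by
  obtain ⟨_, -, -, htr, -⟩ := pgLvlW_main (pgRigidAll 415) j2hchkC j2hA
  obtain ⟨g, hg, e⟩ := htr j2hy1 j2hin1
  exact ⟨⟨g, hg⟩, e⟩

theorem D415_y2 : ∃ g : D415, g • j2hx = j2hy2 := by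
  obtain ⟨_, -, -, htr, -⟩ := pgLvlW_main (pgRigidAll 415) j2hchkC j2hA
  obtain ⟨g, hg, e⟩ := htr j2hy2 j2hin2
  exact ⟨⟨g, hg⟩, e⟩

end Cfsg.Agent.Lib.helper23
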