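import Mathlib
import Cfsg.Agent.S0280
import Cfsg.Agent.S1897

set_option autoImplicit false
set_option maxRecDepth 1000000

/-!
# The special unitary group of degree three over the field of nine elements, as a permutation
group on the 729 vectors
-/

namespace Cfsg.Agent.Lib.helper23

open Cfsg.Agent.Lib.Helper19.L27 Matrix

theorem su9_card : Nat.card (Cfsg.SU 3 F9 3) = 6048 := by
  have hF : Fintype.card F9 = 3 ^ 2 := by rw [F9.card]; norm_num
  have h := Cfsg.Agent.S0280.result hF 3 (by norm_num)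
  have hc := Cfsg.Agent.S1897.center_SU_eq_bot (F := F9) F9.card
  have hc1 : Nat.card (Subgroup.center (Cfsg.SU 3 F9 3)) = 1 := Subgroup.card_eq_one.2 hc
  have e := Subgroup.card_eq_card_quotient_mul_card_subgroup (Subgroup.center (Cfsg.SU 3 F9 3))
  rw [hc1, mul_one] at e
  have hp : (∏ i ∈ Finset.range 3, (if Even i then 3 ^ (i + 1) + 1 else 3 ^ (i + 1) - 1)) = 896 := by
    decide
  rw [hp] at h
  have hg : Nat.gcd 3 (3 + 1) = 1 := by decide
  rw [hg] at h
  change Nat.card (Cfsg.SU 3 F9 3) = Nat.card (Cfsg.PSU 3 F9 3) at e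
  rw [e]
  norm_num at h
  omega

/-- the coordinates of a number below 729 -/
def su9dec (k : ℕ) : Fin 3 → F9 := fun c =>
  ⟨((k / 9 ^ c.1 % 3 : ℕ) : ZMod 3), ((k / 9 ^ c.1 / 3 % 3 : ℕ) : ZMod 3)⟩

/-- the number of a vector -/
def su9enc (v : Fin 3 → F9) : ℕ :=
  ((v 0).re.val + 3 * (v 0).im.val) + 9 * ((v 1).re.val + 3 * (v 1).im.val) +
    81 * ((v 2).re.val + 3 * (v 2).im.val)

theorem su9enc_lt (v : Fin 3 → F9) : su9enc v < 729 := by
  unfold su9enc
  have h : ∀ x : ZMod 3, x.val < 3 := fun x => ZMod.val_lt x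
  have := h (v 0).re
  have := h (v 0).im
  have := h (v 1).re
  have := h (v 1).im
  have := h (v 2).re
  have := h (v 2).im
  omega

theorem su9enc_dec : ∀ k : Fin 729, su9enc (su9dec k.1) = k.1 := by decide +kernel

theorem su9card_vec : Fintype.card (Fin 3 → F9) = 729 := by
  rw [Fintype.card_fun, F9.card]
  rfl

theorem su9dec_bij : Function.Bijective (fun k : Fin 729 => su9dec k.1) := by
  rw [Fintype.bijective_iff_injective_and_card]
  refine ⟨?_, by rw [su9card_vec]; rfl⟩
  intro a b hab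
  apply Fin.ext
  rw [← su9enc_dec a, ← su9enc_dec b]
  exact congrArg su9enc hab

/-- numbering of the vectors -/
noncomputable def su9e : Fin 729 ≃ (Fin 3 → F9) := Equiv.ofBijective _ su9dec_bij

theorem su9e_apply (k : Fin 729) : su9e k = su9dec k.1 := rfl

theorem su9e_symm (v : Fin 3 → F9) : (su9e.symm v).1 = su9enc v := by
  obtain ⟨k, rfl⟩ := su9e.surjective v
  rw [Equiv.symm_apply_apply, su9e_apply, su9enc_dec]

/-- the action of a matrix on the vectors -/
def su9perm (A : Matrix.SpecialLinearGroup (Fin 3) F9) : Equiv.Perm (Fin 3 → F9) :=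
  (Matrix.SpecialLinearGroup.toLin' A).toEquiv

theorem su9perm_apply (A : Matrix.SpecialLinearGroup (Fin 3) F9) (v : Fin 3 → F9) :
    su9perm A v = A.1 *ᵥ v := rfl

/-- the action on the vectors as a homomorphism -/
def su9permHom : Matrix.SpecialLinearGroup (Fin 3) F9 →* Equiv.Perm (Fin 3 → F9) where
  toFun := su9perm
  map_one' := by
    apply Equiv.ext
    intro v
    rw [su9perm_apply]
    simp
  map_mul' A B := by
    apply Equiv.ext
    intro v
    rw [Equiv.Perm.mul_apply, su9perm_apply, su9perm_apply, su9perm_apply,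
      Matrix.SpecialLinearGroup.coe_mul, Matrix.mulVec_mulVec]

theorem su9permHom_injective : Function.Injective su9permHom := by
  intro A B h
  apply Matrix.SpecialLinearGroup.toLin'_injective
  apply LinearEquiv.toEquiv_injective
  exact h

/-- the special unitary group as a group of permutations of 729 points -/
noncomputable def su9hom : Cfsg.SU 3 F9 3 →* Equiv.Perm (Fin 729) :=
  (su9e.symm.permCongrHom.toMonoidHom.comp su9permHom).comp (Cfsg.SU 3 F9 3).subtype

theorem su9hom_injective : Function.Injective su9hom := by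
  unfold su9hom
  intro a b h
  apply Subtype.ext
  apply su9permHom_injective
  exact su9e.symm.permCongrHom.injective h

theorem su9hom_apply (A : Cfsg.SU 3 F9 3) (k : Fin 729) :
    (su9hom A k).1 = su9enc (A.1.1 *ᵥ su9dec k.1) := by
  rw [← su9e_symm]
  rfl

theorem su9hom_card : Nat.card su9hom.range = 6048 := by
  rw [← su9_card]
  exact (Nat.card_congr (MonoidHom.ofInjective su9hom_injective).toEquiv).symm

/-- explicit matrix times vector -/
def su9mv (x : U9) (v : Fin 3 → F9) : Fin 3 → F9 := fun i =>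
  x.toMat i 0 * v 0 + x.toMat i 1 * v 1 + x.toMat i 2 * v 2

theorem su9mv_eq (x : U9) (v : Fin 3 → F9) : x.toMat *ᵥ v = su9mv x v := by
  funext i
  rw [Matrix.mulVec, dotProduct, Fin.sum_univ_three]
  rfl

/-- the first generator -/
def su9A1 : U9 := ⟨2, 2, 0, 2, 0, 1, 2, 0, 2, 0, 1, 2, 2, 0, 2, 1, 1, 0⟩

/-- the second generator -/
def su9A2 : U9 := ⟨2, 0, 0, 1, 1, 2, 1, 1, 0, 2, 0, 1, 0, 2, 2, 2, 1, 0⟩

theorem su9A1_det : su9A1.toMat.det = 1 := by
  rw [Matrix.det_fin_three]; decide

theorem su9A2_det : su9A2.toMat.det = 1 := by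
  rw [Matrix.det_fin_three]; decide

theorem su9A1_unit : su9A1.conjT.mul su9A1 = U9.one := by decide

theorem su9A2_unit : su9A2.conjT.mul su9A2 = U9.one := by decide

/-- the first generator in the group -/
def su9g1 : Cfsg.SU 3 F9 3 :=
  ⟨⟨su9A1.toMat, su9A1_det⟩, (Cfsg.Agent.S1897.mem_SU_iff_pow F9.card _).2
    (isU_of_conjT su9A1 su9A1_unit)⟩

/-- the second generator in the group -/
def su9g2 : Cfsg.SU 3 F9 3 :=
  ⟨⟨su9A2.toMat, su9A2_det⟩, (Cfsg.Agent.S1897.mem_SU_iff_pow F9.card _).2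
    (isU_of_conjT su9A2 su9A2_unit)⟩

theorem su9g1_apply (k : Fin 729) : (su9hom su9g1 k).1 = su9enc (su9mv su9A1 (su9dec k.1)) := by
  rw [su9hom_apply, ← su9mv_eq]
  rfl

theorem su9g2_apply (k : Fin 729) : (su9hom su9g2 k).1 = su9enc (su9mv su9A2 (su9dec k.1)) := by
  rw [su9hom_apply, ← su9mv_eq]
  rfl

end Cfsg.Agent.Lib.helper23
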