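import Cfsg.Agent.Lib.helper23.U3eChk
import Cfsg.Agent.Lib.helper23.U3eSU
import Cfsg.Agent.Lib.helper23.J2hMain

set_option autoImplicit false
set_option maxRecDepth 1000000
set_option Elab.async false

/-!
# The point stabiliser of index 100 in the Hall–Janko group is the unitary group of degree three
over the field of nine elements
-/

namespace Cfsg.Agent.Lib.helper23

open Subgroup MulAction Cfsg.Agent.Lib.Helper19.L27

theorem u3eA : pgGrpW 1144 u3eC ≤ (pgRigidAll 1144).A := le_top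

theorem u3eok : ∀ P ∈ u3eL1.own, P.ok 1144 = true :=
  pgChkW_own_ok 1144 (pgRigidAll 1144).base u3eC u3echkC

theorem u3eord : pgOrdW 1144 u3eC = 6048 := by decide +kernel

/-- the diagonal group on 415 + 729 points -/
abbrev E1144 : Subgroup (Equiv.Perm (Fin 1144)) := closure (pgSet 1144 u3eL1.own)

theorem E1144_eq : E1144 = pgGrpW 1144 u3eC := rfl

theorem E1144_card : Nat.card E1144 = 6048 := by
  rw [E1144_eq, pgCardW (pgRigidAll 1144) u3eC u3echkC u3eA, u3eord]

instance : Finite E1144 := Nat.finite_of_card_ne_zero (by rw [E1144_card]; norm_num)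

theorem u3eown : u3eL1.own = [u3egen u3eT1x0 u3eI1x0, u3egen u3eT1x1 u3eI1x1] := rfl

theorem u3emem0 : u3egen u3eT1x0 u3eI1x0 ∈ u3eL1.own := by rw [u3eown]; simp

theorem u3emem1 : u3egen u3eT1x1 u3eI1x1 ∈ u3eL1.own := by rw [u3eown]; simp

theorem j2hown2 : j2hL2.own = [j2hgen j2hT2x0 j2hI2x0, j2hgen j2hT2x1 j2hI2x1] := rfl

theorem j2hmem20 : j2hgen j2hT2x0 j2hI2x0 ∈ j2hL2.own := by rw [j2hown2]; simp

theorem j2hmem21 : j2hgen j2hT2x1 j2hI2x1 ∈ j2hL2.own := by rw [j2hown2]; simp

/-! ### the restriction to the first 415 points -/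

theorem u3eblk1 : pgChkBlk 415 0 u3eL1.own = true := by decide +kernel

/-- the restriction to the first 415 points -/
noncomputable def u3eres1 : E1144 →* Equiv.Perm (Fin 415) :=
  pgBlkHom (n := 1144) (m := 415) (off := 0) (by norm_num) u3eok u3eblk1

theorem u3etab1 : ∀ i : Fin 415, u3elk u3eT1x0 (0 + i.1) = j2hlk j2hT2x0 i.1 ∧
    u3elk u3eT1x1 (0 + i.1) = j2hlk j2hT2x1 i.1 := by decide +kernel

theorem u3eres1_gen0 :
    u3eres1 ⟨(u3egen u3eT1x0 u3eI1x0).perm 1144, subset_closure ⟨_, u3emem0, rfl⟩⟩ =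
      (j2hgen j2hT2x0 j2hI2x0).perm 415 := by
  ext i
  have h := pgBlkHom_gen (n := 1144) (m := 415) (off := 0) (by norm_num) u3eok u3eblk1 _ u3emem0 i
  rw [Nat.zero_add] at h
  change (u3eres1 _ i).1 = _ at h
  rw [h, PFun.perm_apply (j2hok2 _ j2hmem20)]
  exact (u3etab1 i).1

theorem u3eres1_gen1 :
    u3eres1 ⟨(u3egen u3eT1x1 u3eI1x1).perm 1144, subset_closure ⟨_, u3emem1, rfl⟩⟩ =
      (j2hgen j2hT2x1 j2hI2x1).perm 415 := by
  ext i
  have h := pgBlkHom_gen (n := 1144) (m := 415) (off := 0) (by norm_num) u3eok u3eblk1 _ u3emem1 i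
  rw [Nat.zero_add] at h
  change (u3eres1 _ i).1 = _ at h
  rw [h, PFun.perm_apply (j2hok2 _ j2hmem21)]
  exact (u3etab1 i).2

theorem u3eres1_range : u3eres1.range = pgGrpW 415 j2hC2 := by
  change _ = closure (pgSet 415 j2hL2.own)
  apply pgBlkHom_range
  · intro P hP
    rw [u3eown] at hP
    simp only [List.mem_cons, List.not_mem_nil, or_false] at hP
    rcases hP with rfl | rfl
    · exact ⟨_, j2hmem20, u3eres1_gen0⟩
    · exact ⟨_, j2hmem21, u3eres1_gen1⟩
  · rintro _ ⟨Q, hQ, rfl⟩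
    rw [j2hown2] at hQ
    simp only [List.mem_cons, List.not_mem_nil, or_false] at hQ
    rcases hQ with rfl | rfl
    · exact ⟨_, u3emem0, u3eres1_gen0⟩
    · exact ⟨_, u3emem1, u3eres1_gen1⟩

/-- the diagonal group is the point stabiliser -/
noncomputable def E1144_equiv1 : E1144 ≃* pgGrpW 415 j2hC2 :=
  pgEquivOfRange u3eres1 _ u3eres1_range (by rw [E1144_card, j2hcard2])

/-! ### the restriction to the last 729 points -/

theorem u3eblk2 : pgChkBlk 729 415 u3eL1.own = true := by decide +kernel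

/-- the restriction to the last 729 points -/
noncomputable def u3eres2 : E1144 →* Equiv.Perm (Fin 729) :=
  pgBlkHom (n := 1144) (m := 729) (off := 415) (by norm_num) u3eok u3eblk2

theorem u3eres2_injective : Function.Injective u3eres2 := by
  refine pgResHom_injective (pgBlk 1144 729 415 (by norm_num)) (pgBlk_injective _ _ _ _) _
    (pgBlk_inv _ u3eok u3eblk2) ?_
  intro g hg hfix
  apply pgFixBase (pgRigidAll 1144) u3eC u3echkC u3eA g hg
  intro L hL hb
  change L ∈ [u3eL1, u3eL2] at hL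
  simp only [List.mem_cons, List.not_mem_nil, or_false] at hL
  rcases hL with rfl | rfl
  · exact hfix ⟨1, by norm_num⟩
  · exact hfix ⟨9, by norm_num⟩

theorem u3etab2 : ∀ k : Fin 729,
    u3elk u3eT1x0 (415 + k.1) = 415 + su9enc (su9mv su9A1 (su9dec k.1)) ∧
    u3elk u3eT1x1 (415 + k.1) = 415 + su9enc (su9mv su9A2 (su9dec k.1)) := by decide +kernel

theorem u3eres2_gen0 :
    u3eres2 ⟨(u3egen u3eT1x0 u3eI1x0).perm 1144, subset_closure ⟨_, u3emem0, rfl⟩⟩ =
      su9hom su9g1 := by
  ext k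
  have h := pgBlkHom_gen (n := 1144) (m := 729) (off := 415) (by norm_num) u3eok u3eblk2 _
    u3emem0 k
  change 415 + (u3eres2 _ k).1 = u3elk u3eT1x0 (415 + k.1) at h
  rw [su9g1_apply]
  have := (u3etab2 k).1
  omega

theorem u3eres2_gen1 :
    u3eres2 ⟨(u3egen u3eT1x1 u3eI1x1).perm 1144, subset_closure ⟨_, u3emem1, rfl⟩⟩ =
      su9hom su9g2 := by
  ext k
  have h := pgBlkHom_gen (n := 1144) (m := 729) (off := 415) (by norm_num) u3eok u3eblk2 _
    u3emem1 k
  change 415 + (u3eres2 _ k).1 = u3elk u3eT1x1 (415 + k.1) at h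
  rw [su9g2_apply]
  have := (u3etab2 k).2
  omega

theorem u3eres2_le : u3eres2.range ≤ su9hom.range := by
  have hr : u3eres2.range = closure {su9hom su9g1, su9hom su9g2} := by
    apply pgBlkHom_range
    · intro P hP
      rw [u3eown] at hP
      simp only [List.mem_cons, List.not_mem_nil, or_false] at hP
      rcases hP with rfl | rfl
      · left; exact u3eres2_gen0
      · right; exact u3eres2_gen1
    · rintro _ (rfl | rfl)
      · exact ⟨_, u3emem0, u3eres2_gen0⟩
      · exact ⟨_, u3emem1, u3eres2_gen1⟩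
  rw [hr, closure_le]
  rintro _ (rfl | rfl)
  · exact ⟨_, rfl⟩
  · exact ⟨_, rfl⟩

theorem u3eres2_range : u3eres2.range = su9hom.range := by
  have : Finite (Cfsg.SU 3 F9 3) := Nat.finite_of_card_ne_zero (by rw [su9_card]; norm_num)
  apply Subgroup.eq_of_le_of_card_ge u3eres2_le
  rw [su9hom_card, ← Nat.card_congr (MonoidHom.ofInjective u3eres2_injective).toEquiv, E1144_card]

/-- the diagonal group is the special unitary group -/
noncomputable def E1144_equiv2 : E1144 ≃* Cfsg.SU 3 F9 3 :=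
  ((MonoidHom.ofInjective u3eres2_injective).trans (MulEquiv.subgroupCongr u3eres2_range)).trans
    (MonoidHom.ofInjective su9hom_injective).symm

/-- the special unitary group has trivial centre -/
noncomputable def su9_psu : Cfsg.SU 3 F9 3 ≃* Cfsg.PSU 3 F9 3 :=
  (QuotientGroup.quotientBot.symm).trans
    (QuotientGroup.quotientMulEquivOfEq (Cfsg.Agent.S1897.center_SU_eq_bot (F := F9) F9.card).symm)

/-- the point stabiliser of index 100 is the projective special unitary group -/
theorem D415H_iso : Nonempty (D415H ≃* Cfsg.PSU 3 F9 3) :=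
  ⟨D415H_equiv.trans (E1144_equiv1.symm.trans (E1144_equiv2.trans su9_psu))⟩

end Cfsg.Agent.Lib.helper23
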