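import Cfsg.Agent.Lib.helper23.PgE

set_option autoImplicit false

/-!
# A rigid ambient group from a linear structure over the field with two elements

The points carry distinct vectors `v x < 2 ^ d` (bit vectors), the ambient group consists of the
permutations induced (together with their inverses) by maps of `ℕ` additive for `xor`; a base is
a set of points carrying the unit vectors.
-/

namespace Cfsg.Agent.Lib.helper23

open Subgroup

/-- additive for `xor` -/
def PgAdd (M : ℕ → ℕ) : Prop := ∀ a b, M (a ^^^ b) = M a ^^^ M b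

theorem PgAdd.zero {M : ℕ → ℕ} (h : PgAdd M) : M 0 = 0 := by
  have := h 0 0
  rw [Nat.xor_self] at this
  have h2 : M 0 ^^^ M 0 = 0 := Nat.xor_self _
  rw [h2] at this
  exact this

theorem PgAdd.fix {M : ℕ → ℕ} (h : PgAdd M) : ∀ d : ℕ, (∀ j < d, M (2 ^ j) = 2 ^ j) →
    ∀ u < 2 ^ d, M u = u := by
  intro d
  induction d with
  | zero =>
    intro _ u hu
    have : u = 0 := by simpa using hu
    rw [this]
    exact h.zero
  | succ d ih =>
    intro hj u hu
    have ih' := ih (fun j hjd => hj j (Nat.lt_succ_of_lt hjd))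
    have hhigh : ∀ i, d + 1 ≤ i → u.testBit i = false := by
      intro i hi
      apply Nat.testBit_lt_two_pow
      exact lt_of_lt_of_le hu (Nat.pow_le_pow_right (by norm_num) hi)
    cases hb : u.testBit d with
    | false =>
      apply ih'
      apply Nat.lt_pow_two_of_testBit
      intro i hi
      rcases Nat.eq_or_lt_of_le hi with h1 | h1
      · rw [← h1]; exact hb
      · exact hhigh i h1
    | true =>
      have hu' : u ^^^ 2 ^ d < 2 ^ d := by
        apply Nat.lt_pow_two_of_testBit
        intro i hi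
        rw [Nat.testBit_xor, Nat.testBit_two_pow]
        rcases Nat.eq_or_lt_of_le hi with h1 | h1
        · rw [← h1, hb]; simp
        · rw [hhigh i h1]
          have : ¬ d = i := by omega
          simp [this]
      have e : u = 2 ^ d ^^^ (u ^^^ 2 ^ d) := by
        rw [Nat.xor_comm u, ← Nat.xor_assoc, Nat.xor_self, Nat.zero_xor]
      rw [e, h, hj d (Nat.lt_succ_self d), ih' _ hu']

/-- kernel friendly bit test -/
def pgBit (u j : ℕ) : Bool := Nat.beq (Nat.land (Nat.shiftRight u j) 1) 1

theorem pgBit_eq (u j : ℕ) : pgBit u j = u.testBit j := by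
  unfold pgBit
  rw [Nat.testBit_eq_decide_div_mod_eq]
  have e1 : Nat.shiftRight u j = u / 2 ^ j := Nat.shiftRight_eq_div_pow u j
  have e2 : Nat.land (u / 2 ^ j) 1 = u / 2 ^ j % 2 := Nat.and_one_is_mod _
  rw [e1, e2]
  by_cases hc : u / 2 ^ j % 2 = 1
  · rw [hc]; simp
  · have : Nat.beq (u / 2 ^ j % 2) 1 = false := by
      rw [← Bool.not_eq_true, Nat.beq_eq]; exact hc
    rw [this]
    simp [hc]

/-- the linear map with columns `cols j`, `j < d` -/
def pgMulVec (cols : ℕ → ℕ) (d : ℕ) (u : ℕ) : ℕ :=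
  @Nat.rec (fun _ => ℕ) 0 (fun j ih => Nat.xor ih (cond (pgBit u j) (cols j) 0)) d

theorem pgMulVec_succ (cols : ℕ → ℕ) (d u : ℕ) :
    pgMulVec cols (d+1) u = pgMulVec cols d u ^^^ (cond (pgBit u d) (cols d) 0) := rfl

theorem pgMulVec_add (cols : ℕ → ℕ) (d : ℕ) : PgAdd (pgMulVec cols d) := by
  intro a b
  induction d with
  | zero =>
    change (0 : ℕ) = 0 ^^^ 0
    rfl
  | succ d ih =>
    rw [pgMulVec_succ, pgMulVec_succ, pgMulVec_succ, ih, pgBit_eq, pgBit_eq, pgBit_eq,
      Nat.testBit_xor]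
    cases a.testBit d <;> cases b.testBit d
    · simp
    · simp only [Bool.false_bne, cond_true, cond_false, Nat.xor_zero]
      ac_rfl
    · simp only [Bool.bne_false, cond_true, cond_false, Nat.xor_zero]
      ac_rfl
    · simp only [bne_self_eq_false, cond_true, cond_false, Nat.xor_zero]
      have : pgMulVec cols d a ^^^ cols d ^^^ (pgMulVec cols d b ^^^ cols d) =
          pgMulVec cols d a ^^^ pgMulVec cols d b ^^^ (cols d ^^^ cols d) := by ac_rfl
      rw [this, Nat.xor_self, Nat.xor_zero]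

/-- the ambient group of a linear structure -/
def pgLinGrp (n : ℕ) (v : ℕ → ℕ) : Subgroup (Equiv.Perm (Fin n)) where
  carrier := {g | (∃ M, PgAdd M ∧ ∀ x : Fin n, M (v x.1) = v (g x).1) ∧
    (∃ M, PgAdd M ∧ ∀ x : Fin n, M (v x.1) = v (g⁻¹ x).1)}
  one_mem' := ⟨⟨id, fun _ _ => rfl, fun _ => rfl⟩, ⟨id, fun _ _ => rfl, fun _ => rfl⟩⟩
  mul_mem' := by
    rintro a b ⟨⟨Ma, hMa, ha⟩, ⟨Ma', hMa', ha'⟩⟩ ⟨⟨Mb, hMb, hb⟩, ⟨Mb', hMb', hb'⟩⟩
    refine ⟨⟨Ma ∘ Mb, ?_, ?_⟩, ⟨Mb' ∘ Ma', ?_, ?_⟩⟩
    · intro x y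
      simp only [Function.comp_apply]
      rw [hMb, hMa]
    · intro x
      simp only [Function.comp_apply, Equiv.Perm.mul_apply]
      rw [hb, ha]
    · intro x y
      simp only [Function.comp_apply]
      rw [hMa', hMb']
    · intro x
      simp only [Function.comp_apply, mul_inv_rev, Equiv.Perm.mul_apply]
      rw [ha', hb']
  inv_mem' := by
    rintro a ⟨h1, h2⟩
    refine ⟨h2, ?_⟩
    rw [inv_inv]
    exact h1

/-- existence test over a list -/
def pgAnyL {α : Type} (l : List α) (p : α → Bool) : Bool :=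
  @List.rec α (fun _ => Bool) false (fun a _ ih => cond (p a) true ih) l

theorem pgAnyL_iff {α : Type} (l : List α) (p : α → Bool) :
    pgAnyL l p = true ↔ ∃ a ∈ l, p a = true := by
  induction l with
  | nil => exact ⟨fun h => absurd h (by simp [pgAnyL]), fun ⟨a, ha, _⟩ => absurd ha List.not_mem_nil⟩
  | cons a l ih =>
    have e : pgAnyL (a :: l) p = cond (p a) true (pgAnyL l p) := rfl
    rw [e]
    cases hp : p a with
    | true =>
      simp only [cond_true, true_iff]
      exact ⟨a, List.mem_cons_self, hp⟩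
    | false =>
      simp only [cond_false]
      rw [ih]
      constructor
      · rintro ⟨x, hx, hpx⟩
        exact ⟨x, List.mem_cons_of_mem a hx, hpx⟩
      · rintro ⟨x, hx, hpx⟩
        rcases List.mem_cons.1 hx with h1 | h1
        · rw [h1, hp] at hpx; exact absurd hpx (by simp)
        · exact ⟨x, h1, hpx⟩

/-- the check of a linear structure: vectors in range, strictly increasing, base vectors -/
def pgChkLin (n d : ℕ) (v : ℕ → ℕ) (base : List ℕ) : Bool :=
  (pgAll n (fun x => Nat.blt (v x) (Nat.pow 2 d)) &&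
    pgAll (Nat.pred n) (fun x => Nat.blt (v x) (v (Nat.succ x)))) &&
  pgAll d (fun j => pgAnyL base (fun β => Nat.blt β n && Nat.beq (v β) (Nat.pow 2 j)))

theorem pg_strictMono_of_succ {n : ℕ} {v : ℕ → ℕ} (h : ∀ x < n - 1, v x < v (x + 1)) :
    ∀ x y, x < y → y < n → v x < v y := by
  intro x y hxy
  induction y with
  | zero => exact absurd hxy (Nat.not_lt_zero x)
  | succ y ih =>
    intro hy
    rcases Nat.lt_succ_iff_lt_or_eq.1 hxy with h1 | h1
    · exact lt_trans (ih h1 (by omega)) (h y (by omega))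
    · rw [h1]; exact h y (by omega)

/-- the rigid ambient group of a checked linear structure -/
def pgLinRigid (n d : ℕ) (v : ℕ → ℕ) (base : List ℕ) (h : pgChkLin n d v base = true) :
    PgRigid n where
  A := pgLinGrp n v
  base := base
  rigid := by
    unfold pgChkLin at h
    simp only [Bool.and_eq_true] at h
    obtain ⟨⟨h1, h2⟩, h3⟩ := h
    rintro g ⟨⟨M, hM, hg⟩, -⟩ hfix
    have hbase : ∀ j < d, M (2 ^ j) = 2 ^ j := by
      intro j hj
      obtain ⟨β, hβ, hβ2⟩ := (pgAnyL_iff _ _).1 ((pgAll_iff _ _).1 h3 j hj)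
      simp only [Bool.and_eq_true, Nat.blt_eq, Nat.beq_eq, Nat.pow_eq] at hβ2
      have := hg ⟨β, hβ2.1⟩
      rw [hfix β hβ hβ2.1] at this
      simp only at this
      rw [hβ2.2] at this
      exact this
    have hall := hM.fix d hbase
    have hmono := pg_strictMono_of_succ (n := n) (v := v) (by
      intro x hx
      have := (pgAll_iff _ _).1 h2 x (by simpa using hx)
      simpa using this)
    ext x
    have hx : v (g x).1 = v x.1 := by
      rw [← hg x]
      apply hall
      have := (pgAll_iff _ _).1 h1 x.1 x.2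
      simpa using this
    by_contra hne
    rcases Nat.lt_or_gt_of_ne hne with h4 | h4
    · exact absurd hx (ne_of_lt (hmono _ _ h4 x.2))
    · exact absurd hx (ne_of_gt (hmono _ _ h4 (g x).2))

theorem pgLinRigid_A (n d : ℕ) (v : ℕ → ℕ) (base : List ℕ) (h : pgChkLin n d v base = true) :
    (pgLinRigid n d v base h).A = pgLinGrp n v := rfl

theorem pgLinRigid_base (n d : ℕ) (v : ℕ → ℕ) (base : List ℕ) (h : pgChkLin n d v base = true) :
    (pgLinRigid n d v base h).base = base := rfl

/-- the linearity check of a lookup function -/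
def pgChkLinFun (n d : ℕ) (v cols f : ℕ → ℕ) : Bool :=
  pgAll n (fun x => Nat.beq (pgMulVec cols d (v x)) (v (f x)))

theorem pgLin_mem {n d : ℕ} {v : ℕ → ℕ} {P : PFun} (hP : P.ok n = true) (cols cols' : ℕ → ℕ)
    (h1 : pgChkLinFun n d v cols P.f = true) (h2 : pgChkLinFun n d v cols' P.g = true) :
    P.perm n ∈ pgLinGrp n v := by
  refine ⟨⟨pgMulVec cols d, pgMulVec_add cols d, ?_⟩, ⟨pgMulVec cols' d, pgMulVec_add cols' d, ?_⟩⟩
  · intro x
    rw [PFun.perm_apply hP]
    simpa using (pgAll_iff _ _).1 h1 x.1 x.2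
  · intro x
    rw [PFun.perm_inv_apply hP]
    simpa using (pgAll_iff _ _).1 h2 x.1 x.2

end Cfsg.Agent.Lib.helper23
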