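import Mathlib
import Cfsg.Agent.Lib.helper23.P4S.DefsC
import Cfsg.Agent.Lib.helper23.P4CSL1
import Cfsg.Agent.Lib.helper23.P4CSS1
import Cfsg.Agent.Lib.Helper26.P4CSL2
import Cfsg.Agent.Lib.Helper24.P4CSL3
import Cfsg.Agent.Lib.Helper29.P4CSL4

set_option autoImplicit false

/-!
# Project P4C (designer helper23), row SL5 (`rho2_ss`), verbatim from `helper23/P4S/SkelC.lean.txt`:
the master statement for semisimple elements of `SL₂(E)` acting through `ρ₂`.
-/

namespace Cfsg.Agent.Lib.helper23.P4S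

open Matrix

theorem p4csl5_pow_coe {R : Type*} [CommRing R] (φ : R →+* R) (A : Matrix.SpecialLinearGroup (Fin 2) R) (k : ℕ) :
    (rho2 φ A) ^ k = 1 ↔ (rho2M φ A.1) ^ k = 1 := by
  constructor
  · intro h
    have := congrArg (fun g : GL (Fin 2 × Fin 2) R => (g : Matrix (Fin 2 × Fin 2) (Fin 2 × Fin 2) R)) h
    simpa [Units.val_pow_eq_pow_val, rho2_coe] using this
  · intro h
    apply Units.ext
    rw [Units.val_pow_eq_pow_val, rho2_coe, h]
    rfl

/-- SL5 -/
theorem rho2_ss {E : Type} [Field E] [Fintype E] (p : ℕ) [Fact p.Prime] [CharP E p] (n : ℕ) (hn : 1 ≤ n)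
    (hE : Fintype.card E = p ^ (2 * n)) (A : Matrix.SpecialLinearGroup (Fin 2) E) (htr : A.1.trace ^ 2 ≠ 4) :
    ∃ r : ℕ, 0 < r ∧ ¬ r ∣ 2 ∧ orderOf A = r ∧ (r ∣ (p ^ n) ^ 2 - 1 ∨ r ∣ (p ^ n) ^ 2 + 1) ∧
      (∀ k : ℕ, (rho2 (frq E p n) A) ^ k = 1 ↔ r ∣ Nat.gcd 2 (p ^ n - 1) * k) ∧
      (gsum ((rho2 (frq E p n) A : GL (Fin 2 × Fin 2) E) : Matrix (Fin 2 × Fin 2) (Fin 2 × Fin 2) E)
          (orderOf (rho2 (frq E p n) A)) ≠ 0 ↔ (r ∣ p ^ n + 1 ∨ r ∣ p ^ n - 1)) ∧
      (frq E p n A.1.trace = A.1.trace → (r ∣ p ^ n - 1 ∨ r ∣ p ^ n + 1)) := by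
  classical
  have hpp : p.Prime := Fact.out
  obtain ⟨b, P, hb0, hb1, hbt, hP, hA⟩ := sl2_diag (K := AlgebraicClosure E) A.1 A.2 htr
  have hq2 : 2 ≤ p ^ n := by
    calc 2 ≤ p := hpp.two_le
      _ = p ^ 1 := (pow_one p).symm
      _ ≤ p ^ n := Nat.pow_le_pow_right hpp.pos hn
  have hqq : (p ^ n) ^ 2 = p ^ (2 * n) := by rw [← pow_mul, mul_comm]
  -- the trace is fixed by the `q²`-Frobenius
  have ht2 : (algebraMap E (AlgebraicClosure E) A.1.trace) ^ p ^ (2 * n) =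
      algebraMap E (AlgebraicClosure E) A.1.trace := by
    rw [← map_pow, ← hE, FiniteField.pow_card]
  have hb2 := root_frob p b _ hb0 hbt (2 * n) ht2
  have hbpow : ∀ m : ℕ, 1 ≤ m → (b ^ m = b ↔ b ^ (m - 1) = 1) := by
    intro m hm
    obtain ⟨m', rfl⟩ : ∃ m', m = m' + 1 := ⟨m - 1, by omega⟩
    rw [Nat.add_sub_cancel, pow_succ]
    constructor
    · intro h
      exact mul_right_cancel₀ hb0 (by rw [h, one_mul])
    · intro h
      rw [h, one_mul]
  have hbinv : ∀ m : ℕ, (b ^ m = b⁻¹ ↔ b ^ (m + 1) = 1) := by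
    intro m
    rw [pow_succ]
    constructor
    · intro h
      rw [h, inv_mul_cancel₀ hb0]
    · intro h
      exact eq_inv_of_mul_eq_one_left h
  have hr12 : b ^ ((p ^ n) ^ 2 - 1) = 1 ∨ b ^ ((p ^ n) ^ 2 + 1) = 1 := by
    rw [hqq]
    rcases hb2 with h | h
    · exact Or.inl ((hbpow _ (Nat.one_le_pow _ _ hpp.pos)).1 h)
    · exact Or.inr ((hbinv _).1 h)
  have hq1 : 1 ≤ (p ^ n) ^ 2 - 1 := by
    have : 4 ≤ (p ^ n) ^ 2 := by nlinarith
    omega
  have hfin : IsOfFinOrder b := by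
    rcases hr12 with h | h
    · exact isOfFinOrder_iff_pow_eq_one.2 ⟨_, hq1, h⟩
    · exact isOfFinOrder_iff_pow_eq_one.2 ⟨_, Nat.succ_pos _, h⟩
  refine ⟨orderOf b, hfin.orderOf_pos, ?_, ?_, ?_, ?_, ?_, ?_⟩
  · intro h
    apply hb1
    rw [← pow_two]
    exact orderOf_dvd_iff_pow_eq_one.1 h
  · -- orderOf A = orderOf b
    rw [orderOf_eq_orderOf_iff]
    intro k
    have h1 : A ^ k = 1 ↔ A.1 ^ k = 1 := by
      constructor
      · intro h
        have := congrArg Subtype.val h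
        simpa using this
      · intro h
        apply Subtype.ext
        simpa using h
    rw [h1, ss_pow A.1 P hP ![b, b⁻¹] hA k]
    constructor
    · intro h
      simpa using h 0
    · intro h j
      fin_cases j
      · simpa using h
      · simp [h]
  · rcases hr12 with h | h
    · exact Or.inl (orderOf_dvd_of_pow_eq_one h)
    · exact Or.inr (orderOf_dvd_of_pow_eq_one h)
  · intro k
    obtain ⟨Q, hQ, hconj⟩ := rho2M_conj p n A.1 b P hP hA
    rw [p4csl5_pow_coe, ss_pow _ Q hQ _ hconj k]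
    exact (wt2_order b hb0 (p ^ n) hq2).1 k
  · obtain ⟨Q, hQ, hconj⟩ := rho2M_conj p n A.1 b P hP hA
    have ho : (rho2M (frq E p n) A.1) ^ orderOf (rho2 (frq E p n) A) = 1 :=
      (p4csl5_pow_coe _ _ _).1 (pow_orderOf_eq_one _)
    have hcast : ((orderOf (rho2 (frq E p n) A) : ℕ) : AlgebraicClosure E) ≠ 0 := by
      -- `orderOf g ∣ orderOf b`, prime to `p`
      have hdvd : orderOf (rho2 (frq E p n) A) ∣ orderOf b := by
        apply orderOf_dvd_of_pow_eq_one
        rw [p4csl5_pow_coe, ss_pow _ Q hQ _ hconj, (wt2_order b hb0 (p ^ n) hq2).1]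
        exact dvd_mul_left _ _
      have hpr : ¬ p ∣ orderOf b := by
        intro hp
        have hpq : p ∣ (p ^ n) ^ 2 := dvd_pow (dvd_pow_self p (by omega)) (by norm_num)
        rcases hr12 with h | h
        · have h1 : p ∣ (p ^ n) ^ 2 - 1 := dvd_trans hp (orderOf_dvd_of_pow_eq_one h)
          have : p ∣ 1 := by
            have h2 := Nat.dvd_sub hpq h1
            rwa [Nat.sub_sub_self (by omega)] at h2
          exact hpp.one_lt.ne' (Nat.dvd_one.1 this)
        · have h1 : p ∣ (p ^ n) ^ 2 + 1 := dvd_trans hp (orderOf_dvd_of_pow_eq_one h)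
          have : p ∣ 1 := (Nat.dvd_add_right hpq).1 h1
          exact hpp.one_lt.ne' (Nat.dvd_one.1 this)
      intro h0
      rw [CharP.cast_eq_zero_iff (AlgebraicClosure E) p] at h0
      exact hpr (dvd_trans h0 hdvd)
    rw [rho2_coe, Ne, ss_gsum _ Q hQ _ hconj _ ho, ← (wt2_order b hb0 (p ^ n) hq2).2]
    constructor
    · intro h
      by_contra hcon
      apply h
      intro j hj
      exact absurd ⟨j, hj⟩ hcon
    · rintro ⟨j, hj⟩ h
      exact hcast (h j hj)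
  · intro hfix
    have ht1 : (algebraMap E (AlgebraicClosure E) A.1.trace) ^ p ^ n =
        algebraMap E (AlgebraicClosure E) A.1.trace := by
      rw [← map_pow, ← frq_apply, hfix]
    rcases root_frob p b _ hb0 hbt n ht1 with h | h
    · exact Or.inl (orderOf_dvd_of_pow_eq_one ((hbpow _ (Nat.one_le_pow _ _ hpp.pos)).1 h))
    · exact Or.inr (orderOf_dvd_of_pow_eq_one ((hbinv _).1 h))

end Cfsg.Agent.Lib.helper23.P4S
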