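import Mathlib
import Cfsg.Agent.Lib.helper3.SPM.Defs
import Cfsg.Agent.Lib.helper3.SPM.Defs2

/-!
# Project SPM (designer helper3; S2292 / S2296), row C1 (`PMon.p1`, `PMon.p2`, `PMon.p4`), VERBATIM (helper23)

Transport of the commutator families by a monomial element.
-/

set_option autoImplicit false

namespace Cfsg.Agent.Lib.helper3.SPM

open Cfsg.Agent.Lib.helper3.STC Cfsg.Agent.Lib.helper3.STC.Mat Cfsg.Agent.Lib.helper17.SLP

universe u v w v'

section main
variable {F : Type u} [Field F] {ι : Type w} [Fintype ι] [DecidableEq ι] {G : Type v} [Group G]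
  (p : Pts ι) (ν : Equiv.Perm ι →* G) (lam : Sp4 F →* G)

/-- a root element of the transported pair is the conjugate of a root element of the pair -/
theorem spmc1_conj {g : G} {π : Equiv.Perm (ι ⊕ ι)} {d : ι ⊕ ι → F} (hg : PMon p ν lam g π d) {a b : ι ⊕ ι}
    (hab : a ≠ b) (t : F) :
    xr p ν lam (π a) (π b) t = g * xr p ν lam a b ((d a * (d b)⁻¹)⁻¹ * t) * g⁻¹ := by
  rw [hg.2 a b hab]
  congr 1
  have ha := hg.1 a
  have hb := hg.1 b
  field_simp

theorem spmc1_cm_conj (g x y : G) : cm (g * x * g⁻¹) (g * y * g⁻¹) = g * cm x y * g⁻¹ := by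
  unfold cm
  group

theorem spmc1_commute_conj (g : G) {x y : G} (h : Commute x y) : Commute (g * x * g⁻¹) (g * y * g⁻¹) := by
  show g * x * g⁻¹ * (g * y * g⁻¹) = g * y * g⁻¹ * (g * x * g⁻¹)
  calc g * x * g⁻¹ * (g * y * g⁻¹) = g * (x * y) * g⁻¹ := by group
    _ = g * (y * x) * g⁻¹ := by rw [h.eq]
    _ = _ := by group

/-- C1 [S-M]  transport of the families by a monomial element. -/
theorem PMon.p1 {g : G} {π : Equiv.Perm (ι ⊕ ι)} {d : ι ⊕ ι → F} (hg : PMon p ν lam g π d) {a b c : ι ⊕ ι}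
    (hab : a ≠ b) (hbc : b ≠ c) (hac : a ≠ c) (h : P1 p ν lam a b c) : P1 p ν lam (π a) (π b) (π c) := by
  intro t u
  rw [spmc1_conj p ν lam hg hab t, spmc1_conj p ν lam hg hbc u, spmc1_cm_conj, h, hg.2 a c hac]
  congr 1
  have ha := hg.1 a
  have hb := hg.1 b
  have hc := hg.1 c
  field_simp

theorem PMon.p2 {g : G} {π : Equiv.Perm (ι ⊕ ι)} {d : ι ⊕ ι → F} (hg : PMon p ν lam g π d) {a b c : ι ⊕ ι}
    (hab : a ≠ b) (hac : a ≠ c) (h : P2 p ν lam a b c) : P2 p ν lam (π a) (π b) (π c) := by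
  intro t u
  rw [spmc1_conj p ν lam hg hab t, spmc1_conj p ν lam hg hac u]
  exact spmc1_commute_conj g (h _ _)

theorem PMon.p4 {g : G} {π : Equiv.Perm (ι ⊕ ι)} {d : ι ⊕ ι → F} (hg : PMon p ν lam g π d) {a b c e : ι ⊕ ι}
    (hab : a ≠ b) (hce : c ≠ e) (h : P4 p ν lam a b c e) : P4 p ν lam (π a) (π b) (π c) (π e) := by
  intro t u
  rw [spmc1_conj p ν lam hg hab t, spmc1_conj p ν lam hg hce u]
  exact spmc1_commute_conj g (h _ _)

end main

end Cfsg.Agent.Lib.helper3.SPM
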