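import Mathlib
import Cfsg.Agent.Lib.helper3.SPM.Defs
import Cfsg.Agent.Lib.helper3.SPM.Defs2
import Cfsg.Agent.Lib.helper23.SPMC1

/-!
# Project SPM (designer helper3; S2292 / S2296), row C2 (`p1_base`, `p2_base`, `p4_base`): CORE (helper23)

The base instances of the commutator families for all parameters, from `H.c1`, `H.c2`, `H.d4` by torus spreading.
Hypotheses: the statements of E8 `lamC_xr` (`hE8`), T8 `pmon_hl` (`hT8`), I2 `xr_zero` (`hI2`).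
-/

set_option autoImplicit false

namespace Cfsg.Agent.Lib.helper3.SPM

open Cfsg.Agent.Lib.helper3.STC Cfsg.Agent.Lib.helper3.STC.Mat Cfsg.Agent.Lib.helper17.SLP

universe u v w v'

section main
variable {F : Type u} [Field F] {ι : Type w} [Fintype ι] [DecidableEq ι] {G : Type v} [Group G]
  (p : Pts ι) (ν : Equiv.Perm ι →* G) (lam : Sp4 F →* G)

theorem spmc2_lamC_one (g : Sp4 F) : lamC ν lam 1 g = lam g := by
  simp [lamC]

theorem spmc2_dhl_self (k : ι) (u : F) : dhl (Sum.inl k : ι ⊕ ι) u (Sum.inl k) = u := by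
  simp [dhl]

theorem spmc2_dhl_ne {k j : ι} (hjk : j ≠ k) (u : F) : dhl (Sum.inl k : ι ⊕ ι) u (Sum.inl j) = 1 := by
  simp [dhl, ng, hjk]

theorem spmc2_cm_one_left (y : G) : cm (1 : G) y = 1 := by
  unfold cm; group

theorem spmc2_cm_one_right (x : G) : cm x (1 : G) = 1 := by
  unfold cm; group

/-- conjugation by an element acting diagonally -/
theorem spmc2_diag {g : G} {d : ι ⊕ ι → F} (hg : PMon p ν lam g 1 d) {a b : ι ⊕ ι} (hab : a ≠ b) (s : F) :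
    g * xr p ν lam a b s * g⁻¹ = xr p ν lam a b (d a * (d b)⁻¹ * s) :=
  hg.2 a b hab s

section base
variable (hE8 : ∀ (σ : Equiv.Perm ι) {a' b' : Fin 2 ⊕ Fin 2}, a' ≠ b' → ∀ t : F,
    lamC ν lam σ (tm a' b' t) = xr p ν lam (sgm σ (pe p a')) (sgm σ (pe p b')) t)

include hE8 in
/-- `lam (uA F) = x_{01}(1)` -/
theorem spmc2_uA : lam (uA F) = xr p ν lam (Sum.inl p.o0) (Sum.inl p.o1) 1 := by
  have h := hE8 1 (a' := Sum.inl 0) (b' := Sum.inl 1) (by simp) (1 : F)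
  rw [spmc2_lamC_one] at h
  rw [uA, h]
  simp [sgm, pe, Pts.o]

include hE8 in
/-- the conjugate of `u_a` by a permutation -/
theorem spmc2_uA_conj (σ : Equiv.Perm ι) :
    lamC ν lam σ (uA F) = xr p ν lam (Sum.inl (σ p.o0)) (Sum.inl (σ p.o1)) 1 := by
  have h := hE8 σ (a' := Sum.inl 0) (b' := Sum.inl 1) (by simp) (1 : F)
  rw [uA, h]
  simp [sgm, pe, Pts.o]

end base

theorem spmc2_core_p1
    (H : Glue p ν lam)
    (hE8 : ∀ (σ : Equiv.Perm ι) {a' b' : Fin 2 ⊕ Fin 2}, a' ≠ b' → ∀ t : F,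
      lamC ν lam σ (tm a' b' t) = xr p ν lam (sgm σ (pe p a')) (sgm σ (pe p b')) t)
    (hT8 : ∀ (k : ι) {u : F}, u ≠ 0 → PMon p ν lam (hr p ν lam (Sum.inl k) (Sum.inr k) u) 1 (dhl (Sum.inl k) u))
    (hI2 : ∀ a b : ι ⊕ ι, xr p ν lam a b (0 : F) = 1) :
    P1 p ν lam (Sum.inl p.o0) (Sum.inl p.o1) (Sum.inl p.o2) := by
  have h01 := p.h01
  have h02 := p.h02
  have h12 := p.h12
  have n01 : (Sum.inl p.o0 : ι ⊕ ι) ≠ Sum.inl p.o1 := fun e => h01 (Sum.inl.inj e)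
  have n12 : (Sum.inl p.o1 : ι ⊕ ι) ≠ Sum.inl p.o2 := fun e => h12 (Sum.inl.inj e)
  have n02 : (Sum.inl p.o0 : ι ⊕ ι) ≠ Sum.inl p.o2 := fun e => h02 (Sum.inl.inj e)
  -- the base relation
  have b11 : cm (xr p ν lam (Sum.inl p.o0) (Sum.inl p.o1) (1 : F)) (xr p ν lam (Sum.inl p.o1) (Sum.inl p.o2) 1) =
      xr p ν lam (Sum.inl p.o0) (Sum.inl p.o2) 1 := by
    have c1 := H.c1
    rw [spmc2_uA p ν lam hE8, spmc2_uA_conj p ν lam hE8, spmc2_uA_conj p ν lam hE8] at c1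
    have e1 : (Equiv.swap p.o0 p.o1 * Equiv.swap p.o1 p.o2) p.o0 = p.o1 := by
      rw [Equiv.Perm.mul_apply, Equiv.swap_apply_of_ne_of_ne h01 h02, Equiv.swap_apply_left]
    have e2 : (Equiv.swap p.o0 p.o1 * Equiv.swap p.o1 p.o2) p.o1 = p.o2 := by
      rw [Equiv.Perm.mul_apply, Equiv.swap_apply_left, Equiv.swap_apply_of_ne_of_ne h02.symm h12.symm]
    have e3 : Equiv.swap p.o1 p.o2 p.o0 = p.o0 := Equiv.swap_apply_of_ne_of_ne h01 h02
    have e4 : Equiv.swap p.o1 p.o2 p.o1 = p.o2 := Equiv.swap_apply_left _ _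
    rw [e1, e2, e3, e4] at c1
    exact c1
  -- spreading in `t`
  have bt1 : ∀ t : F, t ≠ 0 →
      cm (xr p ν lam (Sum.inl p.o0) (Sum.inl p.o1) t) (xr p ν lam (Sum.inl p.o1) (Sum.inl p.o2) 1) =
        xr p ν lam (Sum.inl p.o0) (Sum.inl p.o2) t := by
    intro t ht
    have hg := hT8 p.o0 ht
    have := congrArg (fun z => hr p ν lam (Sum.inl p.o0) (Sum.inr p.o0) t * z *
      (hr p ν lam (Sum.inl p.o0) (Sum.inr p.o0) t)⁻¹) b11
    rw [← spmc1_cm_conj, spmc2_diag p ν lam hg n01, spmc2_diag p ν lam hg n12, spmc2_diag p ν lam hg n02,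
      spmc2_dhl_self, spmc2_dhl_ne h01.symm, spmc2_dhl_ne h02.symm] at this
    simpa using this
  intro t u
  by_cases ht : t = 0
  · subst ht
    rw [hI2, zero_mul, hI2, spmc2_cm_one_left]
  by_cases hu : u = 0
  · subst hu
    rw [hI2, mul_zero, hI2, spmc2_cm_one_right]
  have hg := hT8 p.o2 (inv_ne_zero hu)
  have := congrArg (fun z => hr p ν lam (Sum.inl p.o2) (Sum.inr p.o2) u⁻¹ * z *
    (hr p ν lam (Sum.inl p.o2) (Sum.inr p.o2) u⁻¹)⁻¹) (bt1 t ht)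
  rw [← spmc1_cm_conj, spmc2_diag p ν lam hg n01, spmc2_diag p ν lam hg n12, spmc2_diag p ν lam hg n02,
    spmc2_dhl_self, spmc2_dhl_ne h02, spmc2_dhl_ne h12] at this
  simpa [mul_comm] using this

theorem spmc2_core_p2
    (H : Glue p ν lam)
    (hE8 : ∀ (σ : Equiv.Perm ι) {a' b' : Fin 2 ⊕ Fin 2}, a' ≠ b' → ∀ t : F,
      lamC ν lam σ (tm a' b' t) = xr p ν lam (sgm σ (pe p a')) (sgm σ (pe p b')) t)
    (hT8 : ∀ (k : ι) {u : F}, u ≠ 0 → PMon p ν lam (hr p ν lam (Sum.inl k) (Sum.inr k) u) 1 (dhl (Sum.inl k) u))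
    (hI2 : ∀ a b : ι ⊕ ι, xr p ν lam a b (0 : F) = 1) :
    P2 p ν lam (Sum.inl p.o0) (Sum.inl p.o1) (Sum.inl p.o2) := by
  have h01 := p.h01
  have h02 := p.h02
  have h12 := p.h12
  have n01 : (Sum.inl p.o0 : ι ⊕ ι) ≠ Sum.inl p.o1 := fun e => h01 (Sum.inl.inj e)
  have n02 : (Sum.inl p.o0 : ι ⊕ ι) ≠ Sum.inl p.o2 := fun e => h02 (Sum.inl.inj e)
  have b11 : Commute (xr p ν lam (Sum.inl p.o0) (Sum.inl p.o1) (1 : F)) (xr p ν lam (Sum.inl p.o0) (Sum.inl p.o2) 1) := by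
    have c2 := H.c2
    rw [spmc2_uA p ν lam hE8, spmc2_uA_conj p ν lam hE8] at c2
    have e3 : Equiv.swap p.o1 p.o2 p.o0 = p.o0 := Equiv.swap_apply_of_ne_of_ne h01 h02
    have e4 : Equiv.swap p.o1 p.o2 p.o1 = p.o2 := Equiv.swap_apply_left _ _
    rw [e3, e4] at c2
    exact c2
  have bt1 : ∀ t : F, t ≠ 0 →
      Commute (xr p ν lam (Sum.inl p.o0) (Sum.inl p.o1) t) (xr p ν lam (Sum.inl p.o0) (Sum.inl p.o2) 1) := by
    intro t ht
    have hg := hT8 p.o1 (inv_ne_zero ht)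
    have := spmc1_commute_conj (hr p ν lam (Sum.inl p.o1) (Sum.inr p.o1) t⁻¹) b11
    rw [spmc2_diag p ν lam hg n01, spmc2_diag p ν lam hg n02,
      spmc2_dhl_self, spmc2_dhl_ne h01, spmc2_dhl_ne h12.symm] at this
    simpa using this
  intro t u
  by_cases ht : t = 0
  · subst ht
    rw [hI2]
    exact Commute.one_left _
  by_cases hu : u = 0
  · subst hu
    rw [hI2]
    exact Commute.one_right _
  have hg := hT8 p.o2 (inv_ne_zero hu)
  have := spmc1_commute_conj (hr p ν lam (Sum.inl p.o2) (Sum.inr p.o2) u⁻¹) (bt1 t ht)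
  rw [spmc2_diag p ν lam hg n01, spmc2_diag p ν lam hg n02,
    spmc2_dhl_self, spmc2_dhl_ne h02, spmc2_dhl_ne h12] at this
  simpa using this

theorem spmc2_core_p4
    (H : Glue p ν lam)
    (hE8 : ∀ (σ : Equiv.Perm ι) {a' b' : Fin 2 ⊕ Fin 2}, a' ≠ b' → ∀ t : F,
      lamC ν lam σ (tm a' b' t) = xr p ν lam (sgm σ (pe p a')) (sgm σ (pe p b')) t)
    (hT8 : ∀ (k : ι) {u : F}, u ≠ 0 → PMon p ν lam (hr p ν lam (Sum.inl k) (Sum.inr k) u) 1 (dhl (Sum.inl k) u))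
    (hI2 : ∀ a b : ι ⊕ ι, xr p ν lam a b (0 : F) = 1) {x : ι} (hx : x ∈ p.o3) :
    P4 p ν lam (Sum.inl p.o0) (Sum.inl p.o1) (Sum.inl p.o2) (Sum.inl x) := by
  have h01 := p.h01
  have h02 := p.h02
  have h12 := p.h12
  obtain ⟨hx0, hx1, hx2⟩ := p.h3 x hx
  have n01 : (Sum.inl p.o0 : ι ⊕ ι) ≠ Sum.inl p.o1 := fun e => h01 (Sum.inl.inj e)
  have n2x : (Sum.inl p.o2 : ι ⊕ ι) ≠ Sum.inl x := fun e => hx2 (Sum.inl.inj e).symm
  have b11 : Commute (xr p ν lam (Sum.inl p.o0) (Sum.inl p.o1) (1 : F)) (xr p ν lam (Sum.inl p.o2) (Sum.inl x) 1) := by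
    have d4 := H.d4 x hx
    rw [spmc2_uA p ν lam hE8, spmc2_uA_conj p ν lam hE8] at d4
    have e1 : (Equiv.swap p.o0 p.o2 * Equiv.swap p.o1 x) p.o0 = p.o2 := by
      rw [Equiv.Perm.mul_apply, Equiv.swap_apply_of_ne_of_ne h01 hx0.symm, Equiv.swap_apply_left]
    have e2 : (Equiv.swap p.o0 p.o2 * Equiv.swap p.o1 x) p.o1 = x := by
      rw [Equiv.Perm.mul_apply, Equiv.swap_apply_left, Equiv.swap_apply_of_ne_of_ne hx0 hx2]
    rw [e1, e2] at d4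
    exact d4
  have bt1 : ∀ t : F, t ≠ 0 →
      Commute (xr p ν lam (Sum.inl p.o0) (Sum.inl p.o1) t) (xr p ν lam (Sum.inl p.o2) (Sum.inl x) 1) := by
    intro t ht
    have hg := hT8 p.o0 ht
    have := spmc1_commute_conj (hr p ν lam (Sum.inl p.o0) (Sum.inr p.o0) t) b11
    rw [spmc2_diag p ν lam hg n01, spmc2_diag p ν lam hg n2x,
      spmc2_dhl_self, spmc2_dhl_ne h01.symm, spmc2_dhl_ne h02.symm, spmc2_dhl_ne hx0] at this
    simpa using this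
  intro t u
  by_cases ht : t = 0
  · subst ht
    rw [hI2]
    exact Commute.one_left _
  by_cases hu : u = 0
  · subst hu
    rw [hI2]
    exact Commute.one_right _
  have hg := hT8 p.o2 hu
  have := spmc1_commute_conj (hr p ν lam (Sum.inl p.o2) (Sum.inr p.o2) u) (bt1 t ht)
  rw [spmc2_diag p ν lam hg n01, spmc2_diag p ν lam hg n2x,
    spmc2_dhl_self, spmc2_dhl_ne h02, spmc2_dhl_ne h12, spmc2_dhl_ne hx2] at this
  simpa using this

end main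

end Cfsg.Agent.Lib.helper3.SPM
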