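import Mathlib
import Cfsg.Agent.Lib.helper3.SPM.Defs
import Cfsg.Agent.Lib.helper3.SPM.Defs2
import Cfsg.Agent.Lib.Helper29.SPMA4

/-!
# Project SPM (designer helper3; S2292 / S2296), row I3 (`xr_sym`): CORE (helper23)

`xr a b t = xr (ng b) (ng a) (-(sg a * sg b * t))`, from `tm_sym` inside the copy of `Sp₄` on a pair covering `a b`.
Hypothesis: the statement of E7 `xr_pair` (`hE7`).
-/

set_option autoImplicit false

namespace Cfsg.Agent.Lib.helper3.SPM

open Cfsg.Agent.Lib.helper3.STC Cfsg.Agent.Lib.helper3.STC.Mat Cfsg.Agent.Lib.helper17.SLP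

universe u v w v'

section main
variable {F : Type u} [Field F] {ι : Type w} [Fintype ι] [DecidableEq ι] {G : Type v} [Group G]
  (p : Pts ι) (ν : Equiv.Perm ι →* G) (lam : Sp4 F →* G)

theorem spmi3_core
    (hE7 : ∀ {i j : ι}, i ≠ j → ∀ {a' b' : Fin 2 ⊕ Fin 2}, a' ≠ b' → ∀ t : F,
      lamP p ν lam i j (tm a' b' t) = xr p ν lam (pe2 i j a') (pe2 i j b') t)
    {a b : ι ⊕ ι} (hab : a ≠ b) (t : F) :
    xr p ν lam a b t = xr p ν lam (ng b) (ng a) (-(sg a * sg b * t)) := by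
  obtain ⟨i, j, hij, a', b', rfl, rfl⟩ := pair_cover p a b
  have hab' : a' ≠ b' := fun h => hab (by rw [h])
  have hn : ng b' ≠ ng a' := fun h => hab' (ng_inj.1 h).symm
  rw [← hE7 hij hab' t, tm_sym hab' t, hE7 hij hn, pe2_ng, pe2_ng, sg_pe2, sg_pe2]

end main
end Cfsg.Agent.Lib.helper3.SPM
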