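import Mathlib
import Cfsg.Agent.Lib.Helper28.CD3.Defs
import Cfsg.Agent.Lib.helper14.DegGraph
import Cfsg.Agent.Lib.Helper25.ExtraspecialUnique
import Cfsg.Agent.Lib.Helper25.DefectZeroCount

/-! CD3-OVERQ (helper23): the degree set `cdOver N` -/

set_option autoImplicit false
open scoped commutatorElement

namespace Cfsg.Agent.Lib.Helper28.CD3

universe u

section basics
variable {G : Type u} [Group G] [Finite G]

-- piece OVERQ
theorem cdOver_eq_quot (N : Subgroup G) [N.Normal] : cdOver N = Cfsg.charDegrees (G ⧸ N) := by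
  apply Set.Subset.antisymm
  · rintro d ⟨χ, hχ, rfl⟩
    exact Cfsg.Agent.Lib.helper14.mem_charDegrees_quot N χ hχ
  · rintro d ⟨χ, rfl⟩
    refine ⟨⟨fun g => (χ : G ⧸ N → ℂ) (g : G ⧸ N), Cfsg.Agent.S4765.infl_irr N _ χ.2⟩, ?_, rfl⟩
    intro x hx
    show (χ : G ⧸ N → ℂ) ((x : G) : G ⧸ N) = (χ : G ⧸ N → ℂ) ((1 : G) : G ⧸ N)
    rw [(QuotientGroup.eq_one_iff x).2 hx]
    rfl

theorem cdOver_subset (N : Subgroup G) : cdOver N ⊆ Cfsg.charDegrees G := by
  rintro d ⟨χ, _, rfl⟩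
  exact ⟨χ, rfl⟩

theorem cdOver_mono {K N : Subgroup G} (h : K ≤ N) : cdOver N ⊆ cdOver K := by
  rintro d ⟨χ, hχ, rfl⟩
  exact ⟨χ, fun x hx => hχ x (h hx), rfl⟩

theorem cdOver_dvd_index (N : Subgroup G) [N.Normal] {d : ℕ} (hd : d ∈ cdOver N) : d ∣ N.index := by
  rw [cdOver_eq_quot] at hd
  obtain ⟨χ, rfl⟩ := hd
  have := Cfsg.Agent.Lib.Helper25.charDegree_dvd_card χ
  rwa [← Subgroup.index_eq_card] at this

theorem exists_nonlinear_over (N : Subgroup G) [N.Normal] (h : ¬ commutator G ≤ N) :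
    ∃ d ∈ cdOver N, 1 < d := by
  by_contra hcon
  push Not at hcon
  apply h
  -- every irreducible character of `G ⧸ N` is linear
  have hlin : ∀ χ : Cfsg.IrrCharacter (G ⧸ N), (χ : G ⧸ N → ℂ) 1 = 1 := by
    intro χ
    obtain ⟨k, hk, hk1⟩ := Cfsg.Agent.Lib.Helper25.irr_one_eq_finrank χ
    have hmem : Cfsg.charDegree (χ : G ⧸ N → ℂ) ∈ cdOver N := by
      rw [cdOver_eq_quot]
      exact ⟨χ, rfl⟩
    have hle := hcon _ hmem
    rw [Cfsg.Agent.Lib.helper14.charDegree_of_natCast _ k hk1] at hle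
    have : k = 1 := by omega
    rw [hk1, this]
    simp
  have hcomm := Cfsg.Agent.Lib.Helper25.xs_comm_of_all_linear hlin
  rw [commutator_def, Subgroup.commutator_le]
  intro a _ b _
  have h1 := hcomm (a : G ⧸ N) (b : G ⧸ N)
  rw [← QuotientGroup.eq_one_iff]
  have h2 : ((⁅a, b⁆ : G) : G ⧸ N) = ⁅(a : G ⧸ N), (b : G ⧸ N)⁆ := by
    simp [commutatorElement_def]
  rw [h2, commutatorElement_eq_one_iff_mul_comm]
  exact h1

end basics

end Cfsg.Agent.Lib.Helper28.CD3
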