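import Mathlib
import Cfsg.Agent.S3975

set_option autoImplicit false

namespace Cfsg.Agent.Lib.helper23

open scoped BigOperators

/-! ### Elementary counting lemmas -/

theorem kul_card_split {α : Type*} [Finite α] (A B : α → Prop) :
    Nat.card {x // A x} = Nat.card {x // A x ∧ B x} + Nat.card {x // A x ∧ ¬ B x} := by
  classical
  have e : {x // A x} ≃ {x // A x ∧ B x} ⊕ {x // A x ∧ ¬ B x} :=
    { toFun := fun x => if h : B x.1 then Sum.inl ⟨x.1, x.2, h⟩ else Sum.inr ⟨x.1, x.2, h⟩
      invFun := fun y => Sum.elim (fun z => ⟨z.1, z.2.1⟩) (fun z => ⟨z.1, z.2.1⟩) y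
      left_inv := by
        intro x
        by_cases h : B x.1 <;> simp [h]
      right_inv := by
        rintro (⟨z, hz1, hz2⟩ | ⟨z, hz1, hz2⟩) <;> simp [hz2] }
  rw [Nat.card_congr e, Nat.card_sum]

theorem kul_sum_modEq {ι : Type*} (s : Finset ι) (f g : ι → ℕ) (m : ℕ)
    (h : ∀ i ∈ s, f i ≡ g i [MOD m]) : (∑ i ∈ s, f i) ≡ (∑ i ∈ s, g i) [MOD m] := by
  classical
  induction s using Finset.induction_on with
  | empty => simp [Nat.ModEq]
  | insert a s ha ih =>
    rw [Finset.sum_insert ha, Finset.sum_insert ha]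
    exact Nat.ModEq.add (h a (Finset.mem_insert_self a s))
      (ih (fun i hi => h i (Finset.mem_insert_of_mem hi)))

/-- double counting -/
theorem kul_double_count {α β : Type*} [Finite α] [Finite β] (A : α → Prop) (B : β → Prop)
    (R : α → β → Prop) [Fintype {a // A a}] [Fintype {b // B b}] :
    (∑ a : {a // A a}, Nat.card {b // B b ∧ R a.1 b}) =
      ∑ b : {b // B b}, Nat.card {a // A a ∧ R a b.1} := by
  rw [← Nat.card_sigma, ← Nat.card_sigma]
  apply Nat.card_congr
  exact
    { toFun := fun z => ⟨⟨z.2.1, z.2.2.1⟩, ⟨z.1.1, z.1.2, z.2.2.2⟩⟩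
      invFun := fun z => ⟨⟨z.2.1, z.2.2.1⟩, ⟨z.1.1, z.1.2, z.2.2.2⟩⟩
      left_inv := fun z => rfl
      right_inv := fun z => rfl }

/-! ### Orbit counting for p-groups -/

section orbits

variable {P X : Type*} [Group P] [MulAction P X] [Finite P] [Finite X] {p : ℕ} [hp : Fact p.Prime]

omit [Finite P] [Finite X] in
theorem kul_index_stab_smul (g : P) (x : X) :
    (MulAction.stabilizer P (g • x)).index = (MulAction.stabilizer P x).index := by
  rw [MulAction.stabilizer_smul_eq_stabilizer_map_conj]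
  exact Subgroup.index_map_equiv _ (MulAut.conj g)

/-- the number of points is congruent mod `p²` to the number of points in orbits of length
`1` or `p`. -/
theorem kul_orbit_modEq (hP : IsPGroup p P) :
    Nat.card X ≡ Nat.card {x : X // (MulAction.stabilizer P x).index ∣ p} [MOD p ^ 2] := by
  classical
  let Yc : SubMulAction P X :=
    { carrier := {x | ¬ (MulAction.stabilizer P x).index ∣ p}
      smul_mem' := by
        intro g x hx
        simp only [Set.mem_ofPred_eq] at hx ⊢
        rwa [kul_index_stab_smul] }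
  have hdvd : p ^ 2 ∣ Nat.card Yc := by
    apply Cfsg.Agent.S3975.dvd_card_of_forall_dvd_index (G := P) (X := Yc)
    intro y
    rw [SubMulAction.stabilizer_of_subMul]
    obtain ⟨k, hk⟩ := hP.index (MulAction.stabilizer P (y : X))
    have hy : ¬ (MulAction.stabilizer P (y : X)).index ∣ p := y.2
    rw [hk] at hy ⊢
    have h2 : 2 ≤ k := by
      by_contra hlt
      push Not at hlt
      apply hy
      have : k ≤ 1 := by omega
      calc p ^ k ∣ p ^ 1 := pow_dvd_pow p this
        _ = p := pow_one p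
    exact pow_dvd_pow p h2
  have hsplit : Nat.card X = Nat.card {x : X // (MulAction.stabilizer P x).index ∣ p} +
      Nat.card Yc := by
    have e := Equiv.sumCompl (fun x : X => (MulAction.stabilizer P x).index ∣ p)
    rw [← Nat.card_congr e, Nat.card_sum]
    rfl
  rw [hsplit]
  obtain ⟨c, hc⟩ := hdvd
  rw [hc]
  unfold Nat.ModEq
  exact Nat.add_mul_mod_self_left _ _ _

/-- weighted fixed-point-free counting. -/
theorem kul_fiber_dvd (hP : IsPGroup p P) (F : X → ℕ) (hF : ∀ (g : P) (x : X), F (g • x) = F x)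
    (hdiv : ∀ x, p ∣ F x) (hfree : ∀ x : X, MulAction.stabilizer P x ≠ ⊤) [Fintype X] :
    p ^ 2 ∣ ∑ x : X, F x := by
  classical
  let e := MulAction.selfEquivSigmaOrbits P X
  letI : Fintype (MulAction.orbitRel.Quotient P X) := Fintype.ofFinite _
  letI : ∀ ω : MulAction.orbitRel.Quotient P X, Fintype (MulAction.orbit P ω.out) :=
    fun ω => Fintype.ofFinite _
  have h1 : (∑ x : X, F x) = ∑ z : (Σ ω : MulAction.orbitRel.Quotient P X,
      MulAction.orbit P ω.out), F (e.symm z) := by
    rw [← Equiv.sum_comp e.symm]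
  rw [h1, Fintype.sum_sigma]
  apply Finset.dvd_sum
  intro ω _
  have h2 : ∀ y : MulAction.orbit P ω.out, F (e.symm ⟨ω, y⟩) = F ω.out := by
    intro y
    obtain ⟨g, hg⟩ := y.2
    have : e.symm ⟨ω, y⟩ = (y : X) := rfl
    rw [this, ← hg]
    exact hF g _
  rw [Finset.sum_congr rfl (fun y _ => h2 y), Finset.sum_const, smul_eq_mul, pow_two]
  apply Nat.mul_dvd_mul _ (hdiv _)
  rw [Finset.card_univ, ← Nat.card_eq_fintype_card, Nat.card_coe_set_eq,
    ← MulAction.index_stabilizer]
  obtain ⟨k, hk⟩ := hP.index (MulAction.stabilizer P ω.out)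
  rw [hk]
  have hk0 : k ≠ 0 := by
    intro h0
    rw [h0, pow_zero, Subgroup.index_eq_one] at hk
    exact hfree _ hk
  exact dvd_pow_self p hk0

end orbits

end Cfsg.Agent.Lib.helper23
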