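import Mathlib
import Cfsg.Agent.Lib.helper23.KulA

set_option autoImplicit false

namespace Cfsg.Agent.Lib.helper23

open scoped BigOperators

variable {G : Type*} [Group G]

/-- conjugate of a subgroup. -/
def kcj (g : G) (H : Subgroup G) : Subgroup G := H.map ((MulAut.conj g : G ≃* G) : G →* G)

theorem mem_kcj {g x : G} {H : Subgroup G} : x ∈ kcj g H ↔ g⁻¹ * x * g ∈ H := by
  unfold kcj
  rw [Subgroup.mem_map]
  constructor
  · rintro ⟨y, hy, rfl⟩
    have h1 : ((MulAut.conj g : G ≃* G) : G →* G) y = g * y * g⁻¹ := rfl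
    rw [h1]
    have : g⁻¹ * (g * y * g⁻¹) * g = y := by group
    rwa [this]
  · intro h
    refine ⟨g⁻¹ * x * g, h, ?_⟩
    have h1 : ((MulAut.conj g : G ≃* G) : G →* G) (g⁻¹ * x * g) = g * (g⁻¹ * x * g) * g⁻¹ := rfl
    rw [h1]
    group

theorem kcj_one (H : Subgroup G) : kcj 1 H = H := by
  ext x
  rw [mem_kcj]
  simp

theorem kcj_mul (g h : G) (H : Subgroup G) : kcj (g * h) H = kcj g (kcj h H) := by
  ext x
  rw [mem_kcj, mem_kcj, mem_kcj]
  have : (g * h)⁻¹ * x * (g * h) = h⁻¹ * (g⁻¹ * x * g) * h := by group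
  rw [this]

theorem card_kcj (g : G) (H : Subgroup G) : Nat.card (kcj g H) = Nat.card H := by
  unfold kcj
  exact Nat.card_congr
    (Subgroup.equivMapOfInjective H ((MulAut.conj g : G ≃* G) : G →* G)
      (MulAut.conj g).injective).symm.toEquiv

theorem kcj_le_kcj {g : G} {H K : Subgroup G} (h : H ≤ K) : kcj g H ≤ kcj g K := by
  intro x hx
  rw [mem_kcj] at hx ⊢
  exact h hx

theorem kcj_inv_kcj (g : G) (H : Subgroup G) : kcj g⁻¹ (kcj g H) = H := by
  rw [← kcj_mul, inv_mul_cancel, kcj_one]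

theorem kcj_kcj_inv (g : G) (H : Subgroup G) : kcj g (kcj g⁻¹ H) = H := by
  rw [← kcj_mul, mul_inv_cancel, kcj_one]

theorem kcj_le_kcj_iff {g : G} {H K : Subgroup G} : kcj g H ≤ kcj g K ↔ H ≤ K := by
  constructor
  · intro h
    have := kcj_le_kcj (g := g⁻¹) h
    rwa [kcj_inv_kcj, kcj_inv_kcj] at this
  · exact kcj_le_kcj

theorem kcj_eq_self_iff {g : G} {H : Subgroup G} :
    kcj g H = H ↔ g ∈ Subgroup.normalizer (H : Set G) :=
  Subgroup.mem_normalizer_iff_map_conj_eq.symm

theorem kcj_eq_of_mem {g : G} {H : Subgroup G} (hg : g ∈ H) : kcj g H = H :=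
  kcj_eq_self_iff.mpr (Subgroup.le_normalizer hg)

theorem kcj_normalizer (g : G) (H : Subgroup G) :
    Subgroup.normalizer ((kcj g H : Subgroup G) : Set G) = kcj g (Subgroup.normalizer (H : Set G)) := by
  ext x
  rw [mem_kcj, ← kcj_eq_self_iff, ← kcj_eq_self_iff]
  constructor
  · intro h
    rw [kcj_mul, kcj_mul]
    have := congrArg (kcj g⁻¹) h
    rw [kcj_inv_kcj] at this
    exact this
  · intro h
    rw [kcj_mul, kcj_mul] at h
    have := congrArg (kcj g) h
    rwa [kcj_kcj_inv] at this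

theorem kcj_inf (g : G) (H K : Subgroup G) : kcj g (H ⊓ K) = kcj g H ⊓ kcj g K := by
  ext x
  simp only [mem_kcj, Subgroup.mem_inf]

/-- conjugation action of a subgroup `R` on a conjugation-stable family of subgroups. -/
@[reducible] def kconjAct (R : Subgroup G) (C : Subgroup G → Prop)
    (hC : ∀ g ∈ R, ∀ H, C H → C (kcj g H)) : MulAction ↥R {H : Subgroup G // C H} where
  smul g H := ⟨kcj (g : G) H.1, hC g g.2 H.1 H.2⟩
  one_smul H := Subtype.ext (kcj_one H.1)
  mul_smul g h H := Subtype.ext (kcj_mul (g : G) (h : G) H.1)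

theorem kconjAct_stab (R : Subgroup G) (C : Subgroup G → Prop)
    (hC : ∀ g ∈ R, ∀ H, C H → C (kcj g H)) (H : {H : Subgroup G // C H}) :
    @MulAction.stabilizer ↥R _ _ (kconjAct R C hC) H = (Subgroup.normalizer (H.1 : Set G)).subgroupOf R := by
  ext g
  letI := kconjAct R C hC
  rw [MulAction.mem_stabilizer_iff, Subgroup.mem_subgroupOf, ← kcj_eq_self_iff]
  constructor
  · intro h
    exact congrArg Subtype.val h
  · intro h
    exact Subtype.ext h

/-- subgroups below `Q` versus subgroups of `↥Q`. -/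
def ksubEquiv (Q : Subgroup G) (m : ℕ) :
    {H : Subgroup G // Nat.card H = m ∧ H ≤ Q} ≃ {H' : Subgroup ↥Q // Nat.card H' = m} where
  toFun H := ⟨H.1.subgroupOf Q, by
    rw [Nat.card_congr (Subgroup.subgroupOfEquivOfLe H.2.2).toEquiv]; exact H.2.1⟩
  invFun H' := ⟨H'.1.map Q.subtype, by
    refine ⟨?_, Subgroup.map_subtype_le H'.1⟩
    exact (Nat.card_congr
      (Subgroup.equivMapOfInjective H'.1 Q.subtype Q.subtype_injective).symm.toEquiv).trans H'.2⟩
  left_inv H := by
    apply Subtype.ext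
    simp only
    rw [Subgroup.subgroupOf, Subgroup.map_comap_eq, Subgroup.range_subtype]
    exact inf_eq_right.mpr H.2.2
  right_inv H' := by
    apply Subtype.ext
    simp only
    rw [Subgroup.subgroupOf]
    exact Subgroup.comap_map_eq_self_of_injective Q.subtype_injective H'.1

end Cfsg.Agent.Lib.helper23
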