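import Mathlib
import Cfsg.Agent.Lib.helper23.KulB

set_option autoImplicit false

namespace Cfsg.Agent.Lib.helper23

open scoped BigOperators

variable {G : Type*} [Group G]

theorem kul_card_inf_mul_relIndex [Finite G] (H K : Subgroup G) :
    Nat.card (H ⊓ K : Subgroup G) * H.relIndex K = Nat.card K := by
  have h1 := Subgroup.card_mul_index (H.subgroupOf K)
  rw [← Subgroup.inf_subgroupOf_right,
    Nat.card_congr (Subgroup.subgroupOfEquivOfLe (inf_le_right : H ⊓ K ≤ K)).toEquiv,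
    Subgroup.inf_subgroupOf_right] at h1
  exact h1

theorem kul_relIndex_kcj [Finite G] (g : G) (A B : Subgroup G) :
    (kcj g A).relIndex (kcj g B) = A.relIndex B := by
  have h1 := kul_card_inf_mul_relIndex (kcj g A) (kcj g B)
  have h2 := kul_card_inf_mul_relIndex A B
  rw [← kcj_inf, card_kcj, card_kcj] at h1
  have hpos : 0 < Nat.card (A ⊓ B : Subgroup G) := Nat.card_pos
  exact Nat.eq_of_mul_eq_mul_left hpos (h1.trans h2.symm)

theorem kul_card_lt_of_lt [Finite G] {A B : Subgroup G} (h : A < B) : Nat.card A < Nat.card B := by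
  by_contra hge
  push Not at hge
  exact (ne_of_lt h) (Subgroup.eq_of_le_of_card_ge h.le hge)

/-- a subgroup between `A` and `B` with `|B| = p |A|`-type orders. -/
theorem kul_between [Finite G] {p : ℕ} (hp : p.Prime) {n : ℕ} {A B C : Subgroup G}
    (hA : Nat.card A * p = p ^ n) (hB : Nat.card B = p ^ n) (hAC : A ≤ C) (hCB : C ≤ B) :
    C = A ∨ C = B := by
  have h1 : Nat.card A ∣ Nat.card C := Subgroup.card_dvd_of_le hAC
  have h2 : Nat.card C ∣ Nat.card B := Subgroup.card_dvd_of_le hCB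
  obtain ⟨c, hc⟩ := h1
  rw [hB, ← hA, hc] at h2
  have hApos : 0 < Nat.card A := Nat.card_pos
  have h3 : c ∣ p := Nat.dvd_of_mul_dvd_mul_left hApos h2
  rcases (Nat.dvd_prime hp).mp h3 with h | h
  · left
    refine (Subgroup.eq_of_le_of_card_ge hAC ?_).symm
    rw [hc, h, mul_one]
  · right
    refine Subgroup.eq_of_le_of_card_ge hCB ?_
    rw [hc, h, hA, hB]

/-- the number of `S`-invariant subgroups of order `p^a` of an `S`-invariant subgroup `Q`. -/
theorem kul_normal_count [Finite G] {p : ℕ} [hp : Fact p.Prime] (S Q : Subgroup G)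
    (hS : IsPGroup p S) (hSQ : S ≤ Subgroup.normalizer (Q : Set G)) (a : ℕ)
    (ha : p ^ a ∣ Nat.card Q) :
    Nat.card {H : Subgroup G // Nat.card H = p ^ a ∧ H ≤ Q ∧
      S ≤ Subgroup.normalizer (H : Set G)} ≡ 1 [MOD p] := by
  have hC : ∀ g ∈ S, ∀ H : Subgroup G, (Nat.card H = p ^ a ∧ H ≤ Q) →
      (Nat.card (kcj g H) = p ^ a ∧ kcj g H ≤ Q) := by
    intro g hg H hH
    refine ⟨by rw [card_kcj]; exact hH.1, ?_⟩
    have := kcj_le_kcj (g := g) hH.2
    rwa [kcj_eq_self_iff.mpr (hSQ hg)] at this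
  letI act := kconjAct S (fun H => Nat.card H = p ^ a ∧ H ≤ Q) hC
  have h1 := hS.card_modEq_card_fixedPoints {H : Subgroup G // Nat.card H = p ^ a ∧ H ≤ Q}
  have h2 : Nat.card {H : Subgroup G // Nat.card H = p ^ a ∧ H ≤ Q} ≡ 1 [MOD p] := by
    rw [Nat.card_congr (ksubEquiv Q (p ^ a))]
    exact Cfsg.Agent.S3975.result p a hp.out ha
  have e : MulAction.fixedPoints ↥S {H : Subgroup G // Nat.card H = p ^ a ∧ H ≤ Q} ≃
      {H : Subgroup G // Nat.card H = p ^ a ∧ H ≤ Q ∧ S ≤ Subgroup.normalizer (H : Set G)} :=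
    { toFun := fun x => ⟨x.1.1, x.1.2.1, x.1.2.2, by
        intro g hg
        rw [← kcj_eq_self_iff]
        have := x.2 ⟨g, hg⟩
        exact congrArg Subtype.val this⟩
      invFun := fun H => ⟨⟨H.1, H.2.1, H.2.2.1⟩, by
        intro g
        apply Subtype.ext
        exact kcj_eq_self_iff.mpr (H.2.2.2 g.2)⟩
      left_inv := fun x => rfl
      right_inv := fun H => rfl }
  rw [← Nat.card_congr e]
  exact h1.symm.trans h2

end Cfsg.Agent.Lib.helper23
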