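import Mathlib
import Cfsg.Agent.Lib.helper23.KulC
import Cfsg.Agent.Lib.Helper21.MaxClassP
import Cfsg.Agent.Lib.Helper1.Frat

set_option autoImplicit false

namespace Cfsg.Agent.Lib.helper23

open scoped BigOperators

variable {G : Type*} [Group G]

/-- correspondence theorem with indices. -/
def kulQuotEquiv (N : Subgroup G) [N.Normal] (m : ℕ) :
    {K : Subgroup G // K.index = m ∧ N ≤ K} ≃ {K' : Subgroup (G ⧸ N) // K'.index = m} where
  toFun K := ⟨K.1.map (QuotientGroup.mk' N), by
    rw [Subgroup.index_map_eq _ (QuotientGroup.mk'_surjective N)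
      (by rw [QuotientGroup.ker_mk']; exact K.2.2)]
    exact K.2.1⟩
  invFun K' := ⟨K'.1.comap (QuotientGroup.mk' N), by
    refine ⟨?_, ?_⟩
    · rw [Subgroup.index_comap_of_surjective _ (QuotientGroup.mk'_surjective N)]
      exact K'.2
    · intro x hx
      rw [Subgroup.mem_comap]
      have : QuotientGroup.mk' N x = 1 := (QuotientGroup.eq_one_iff x).mpr hx
      rw [this]
      exact Subgroup.one_mem _⟩
  left_inv K := by
    apply Subtype.ext
    simp only
    rw [Subgroup.comap_map_eq, QuotientGroup.ker_mk']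
    exact sup_eq_left.mpr K.2.2
  right_inv K' := by
    apply Subtype.ext
    simp only
    exact Subgroup.map_comap_eq_self_of_surjective (QuotientGroup.mk'_surjective N) K'.1

section

variable [Finite G] {p : ℕ} [hp : Fact p.Prime]

theorem kul_card_of_index {n k : ℕ} (hG : Nat.card G = p ^ n) (hk : k ≤ n) (M : Subgroup G) :
    M.index = p ^ k ↔ Nat.card M = p ^ (n - k) := by
  have h1 := Subgroup.card_mul_index M
  rw [hG] at h1
  have h2 : p ^ n = p ^ (n - k) * p ^ k := by rw [← pow_add]; congr 1; omega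
  constructor
  · intro h
    rw [h, h2] at h1
    exact Nat.eq_of_mul_eq_mul_right (pow_pos hp.out.pos k) h1
  · intro h
    rw [h, h2] at h1
    exact Nat.eq_of_mul_eq_mul_left (pow_pos hp.out.pos (n - k)) h1

/-- the number of subgroups of index `p` in an elementary abelian group of rank at least 2. -/
theorem kul_elem_maximal (hcomm : ∀ x y : G, x * y = y * x) (hexp : ∀ x : G, x ^ p = 1)
    {d : ℕ} (hG : Nat.card G = p ^ d) (hd : 2 ≤ d) :
    Nat.card {M : Subgroup G // M.index = p} ≡ 1 + p [MOD p ^ 2] := by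
  classical
  have hnormal : ∀ K : Subgroup G, K.Normal := by
    intro K
    refine ⟨fun x hx g => ?_⟩
    rw [hcomm g x, mul_assoc, mul_inv_cancel, mul_one]
    exact hx
  -- pick M0
  obtain ⟨M0, hM0⟩ := Sylow.exists_subgroup_card_pow_prime p
    (show p ^ (d - 1) ∣ Nat.card G by rw [hG]; exact pow_dvd_pow p (by omega))
  have hM0i : M0.index = p := by
    have := (kul_card_of_index hG (show 1 ≤ d by omega) M0).mpr (by rw [hM0])
    rwa [pow_one] at this
  -- split off M0
  have hsplit := kul_card_split (fun M : Subgroup G => M.index = p) (fun M => M = M0)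
  have hone : Nat.card {M : Subgroup G // M.index = p ∧ M = M0} = 1 := by
    rw [Nat.card_eq_one_iff_unique]
    refine ⟨⟨?_⟩, ⟨⟨M0, hM0i, rfl⟩⟩⟩
    rintro ⟨a, ha1, ha2⟩ ⟨b, hb1, hb2⟩
    apply Subtype.ext
    simp only
    rw [ha2, hb2]
  rw [hone] at hsplit
  -- index of intersections
  have hinter : ∀ M : Subgroup G, M.index = p → M ≠ M0 → Nat.card (M ⊓ M0 : Subgroup G) = p ^ (d - 2) := by
    intro M hM hne
    haveI := hnormal M
    have h1 : M.relIndex M0 ∣ p := hM ▸ Subgroup.relIndex_dvd_index_of_normal M M0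
    have h2 : M.relIndex M0 ≠ 1 := by
      intro h
      have hle : M0 ≤ M := Subgroup.relIndex_eq_one.mp h
      have hMc : Nat.card M = p ^ (d - 1) := by
        have := (kul_card_of_index hG (show 1 ≤ d by omega) M).mp (by rw [pow_one]; exact hM)
        exact this
      exact hne (Subgroup.eq_of_le_of_card_ge hle (by rw [hMc, hM0])).symm
    have h3 : M.relIndex M0 = p := ((Nat.dvd_prime hp.out).mp h1).resolve_left h2
    have h4 := kul_card_inf_mul_relIndex M M0
    rw [h3, hM0] at h4
    have h5 : p ^ (d - 1) = p ^ (d - 2) * p := by rw [← pow_succ]; congr 1; omega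
    rw [h5] at h4
    exact Nat.eq_of_mul_eq_mul_right hp.out.pos h4
  -- the family D
  letI : Fintype {D : Subgroup G // Nat.card D = p ^ (d - 2) ∧ D ≤ M0} := Fintype.ofFinite _
  have hfib : Nat.card {M : Subgroup G // M.index = p ∧ ¬ M = M0} =
      ∑ D : {D : Subgroup G // Nat.card D = p ^ (d - 2) ∧ D ≤ M0},
        Nat.card {M : Subgroup G // (M.index = p ∧ ¬ M = M0) ∧ M ⊓ M0 = D.1} := by
    rw [← Nat.card_sigma]
    apply Nat.card_congr
    exact
      { toFun := fun M => ⟨⟨M.1 ⊓ M0, hinter M.1 M.2.1 M.2.2, inf_le_right⟩, ⟨M.1, M.2, rfl⟩⟩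
        invFun := fun z => ⟨z.2.1, z.2.2.1⟩
        left_inv := fun M => rfl
        right_inv := fun z => Sigma.subtype_ext (Subtype.ext z.2.2.2) rfl }
  have hfibcard : ∀ D : {D : Subgroup G // Nat.card D = p ^ (d - 2) ∧ D ≤ M0},
      Nat.card {M : Subgroup G // (M.index = p ∧ ¬ M = M0) ∧ M ⊓ M0 = D.1} = p := by
    intro D
    haveI := hnormal D.1
    have hDi : D.1.index = p ^ 2 := (kul_card_of_index hG hd D.1).mpr D.2.1
    -- subgroups of index p above D
    have hQ : Nat.card (G ⧸ D.1) = p ^ 2 := by rw [← Subgroup.index_eq_card, hDi]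
    have hQexp : ∀ q : G ⧸ D.1, q ^ p = 1 := by
      intro q
      obtain ⟨x, rfl⟩ := QuotientGroup.mk'_surjective D.1 q
      rw [← map_pow, hexp, map_one]
    have h1 := Cfsg.Agent.Lib.Helper21.card_subgroups_prime_order p hQ hQexp
    have h2 : Nat.card {M : Subgroup G // M.index = p ∧ D.1 ≤ M} = p + 1 := by
      rw [Nat.card_congr (kulQuotEquiv D.1 p), ← h1]
      apply Nat.card_congr
      refine Equiv.subtypeEquivRight (fun K' => ?_)
      have := kul_card_of_index hQ (show 1 ≤ 2 by omega) K'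
      rw [pow_one] at this
      exact this
    have hsplit2 := kul_card_split (fun M : Subgroup G => M.index = p ∧ D.1 ≤ M) (fun M => M = M0)
    have hone2 : Nat.card {M : Subgroup G // (M.index = p ∧ D.1 ≤ M) ∧ M = M0} = 1 := by
      rw [Nat.card_eq_one_iff_unique]
      refine ⟨⟨?_⟩, ⟨⟨M0, ⟨hM0i, D.2.2⟩, rfl⟩⟩⟩
      rintro ⟨a, ha1, ha2⟩ ⟨b, hb1, hb2⟩
      apply Subtype.ext
      simp only
      rw [ha2, hb2]
    rw [h2, hone2] at hsplit2
    have e : {M : Subgroup G // (M.index = p ∧ D.1 ≤ M) ∧ ¬ M = M0} ≃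
        {M : Subgroup G // (M.index = p ∧ ¬ M = M0) ∧ M ⊓ M0 = D.1} :=
      Equiv.subtypeEquivRight (fun M => by
        constructor
        · rintro ⟨⟨h1, h2⟩, h3⟩
          refine ⟨⟨h1, h3⟩, ?_⟩
          refine (Subgroup.eq_of_le_of_card_ge (le_inf h2 D.2.2) ?_).symm
          rw [hinter M h1 h3, D.2.1]
        · rintro ⟨⟨h1, h3⟩, h4⟩
          exact ⟨⟨h1, h4 ▸ inf_le_left⟩, h3⟩)
    rw [← Nat.card_congr e]
    omega
  rw [hfib, Finset.sum_congr rfl (fun D _ => hfibcard D), Finset.sum_const, smul_eq_mul,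
    Finset.card_univ, ← Nat.card_eq_fintype_card] at hsplit
  -- count of D
  have hD : Nat.card {D : Subgroup G // Nat.card D = p ^ (d - 2) ∧ D ≤ M0} ≡ 1 [MOD p] := by
    rw [Nat.card_congr (ksubEquiv M0 (p ^ (d - 2)))]
    exact Cfsg.Agent.S3975.result p (d - 2) hp.out (by rw [hM0]; exact pow_dvd_pow p (by omega))
  rw [hsplit]
  have h6 : Nat.card {D : Subgroup G // Nat.card D = p ^ (d - 2) ∧ D ≤ M0} * p ≡ 1 * p
      [MOD p * p] := Nat.ModEq.mul_right' p hD
  rw [one_mul, ← pow_two] at h6
  exact Nat.ModEq.add_left 1 h6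

/-- the pointwise form of the enumeration principle. -/
theorem kul_elem_count (hcomm : ∀ x y : G, x * y = y * x) (hexp : ∀ x : G, x ^ p = 1)
    {e : ℕ} (hG : Nat.card G = p ^ e) (he : 1 ≤ e) :
    1 + p * Nat.card {K : Subgroup G // K.index = p ^ 2} ≡
      Nat.card {M : Subgroup G // M.index = p} [MOD p ^ 2] := by
  rcases Nat.lt_or_ge e 2 with h2 | h2
  · have he1 : e = 1 := by omega
    subst he1
    rw [pow_one] at hG
    have h0 : Nat.card {K : Subgroup G // K.index = p ^ 2} = 0 := by
      rw [Nat.card_eq_zero]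
      left
      refine ⟨fun K => ?_⟩
      have h1 := K.1.index_dvd_card
      rw [K.2, hG] at h1
      have := Nat.le_of_dvd hp.out.pos h1
      have h3 : p * 1 < p * p := Nat.mul_lt_mul_of_pos_left hp.out.one_lt hp.out.pos
      rw [pow_two] at this
      omega
    have h1 : Nat.card {M : Subgroup G // M.index = p} = 1 := by
      rw [Nat.card_eq_one_iff_unique]
      have hbot : (⊥ : Subgroup G).index = p := by rw [Subgroup.index_bot, hG]
      refine ⟨⟨?_⟩, ⟨⟨⊥, hbot⟩⟩⟩
      have key : ∀ M : Subgroup G, M.index = p → M = ⊥ := by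
        intro M hM
        have h3 := Subgroup.card_mul_index M
        rw [hM, hG] at h3
        have h4 : Nat.card M = 1 := by
          have : Nat.card M * p = 1 * p := by rw [one_mul]; exact h3
          exact Nat.eq_of_mul_eq_mul_right hp.out.pos this
        exact Subgroup.card_eq_one.mp h4
      rintro ⟨a, ha⟩ ⟨b, hb⟩
      apply Subtype.ext
      simp only
      rw [key a ha, key b hb]
    rw [h0, h1, mul_zero, add_zero]
  · have h1 := kul_elem_maximal hcomm hexp hG h2
    have h3 : Nat.card {K : Subgroup G // K.index = p ^ 2} ≡ 1 [MOD p] := by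
      have e1 : {K : Subgroup G // K.index = p ^ 2} ≃ {K : Subgroup G // Nat.card K = p ^ (e - 2)} :=
        Equiv.subtypeEquivRight (fun K => kul_card_of_index hG h2 K)
      rw [Nat.card_congr e1]
      exact Cfsg.Agent.S3975.result p (e - 2) hp.out (by rw [hG]; exact pow_dvd_pow p (by omega))
    have h4 : p * Nat.card {K : Subgroup G // K.index = p ^ 2} ≡ p * 1 [MOD p * p] :=
      Nat.ModEq.mul_left' p h3
    rw [mul_one, ← pow_two] at h4
    exact (Nat.ModEq.add_left 1 h4).trans h1.symm

end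

end Cfsg.Agent.Lib.helper23
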