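import Mathlib
import Cfsg.Agent.Lib.helper23.KulE

set_option autoImplicit false

namespace Cfsg.Agent.Lib.helper23

open scoped BigOperators commutatorElement
open Cfsg.Agent.Lib.Helper1

variable {G : Type*} [Group G] [Finite G] {p : ℕ} [hp : Fact p.Prime]

theorem kul_isCoatom_of_index {n : ℕ} (hG : Nat.card G = p ^ n) (M : Subgroup G)
    (hM : M.index = p) : IsCoatom M := by
  have hMc : Nat.card M * p = p ^ n := by
    have := Subgroup.card_mul_index M
    rwa [hM, hG] at this
  refine ⟨?_, ?_⟩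
  · intro h
    rw [h, Subgroup.index_top] at hM
    exact hp.out.one_lt.ne hM
  · intro K hK
    have htop : Nat.card (⊤ : Subgroup G) = p ^ n := by rw [Subgroup.card_top, hG]
    rcases kul_between hp.out hMc htop hK.le le_top with h | h
    · exact absurd h (ne_of_gt hK)
    · exact h

theorem kul_frattini_le_of_index {n : ℕ} (hG : Nat.card G = p ^ n) (M : Subgroup G)
    (hM : M.index = p) : frattini G ≤ M :=
  frattini_le_coatom (kul_isCoatom_of_index hG M hM)

theorem kul_normal_of_frattini_le (hG : IsPGroup p G) (L : Subgroup G) (h : frattini G ≤ L) :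
    L.Normal := by
  refine ⟨fun x hx g => ?_⟩
  have h1 : g * x * g⁻¹ = ⁅g, x⁆ * x := by rw [commutatorElement_def]; group
  rw [h1]
  refine L.mul_mem (h (pgroup_commutator_le_frattini hG ?_)) hx
  rw [commutator_def]
  exact Subgroup.commutator_mem_commutator (Subgroup.mem_top g) (Subgroup.mem_top x)

theorem kul_quot_comm (hG : IsPGroup p G) (L : Subgroup G) [L.Normal] (h : frattini G ≤ L) :
    ∀ x y : G ⧸ L, x * y = y * x := by
  intro x y
  obtain ⟨a, rfl⟩ := QuotientGroup.mk'_surjective L x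
  obtain ⟨b, rfl⟩ := QuotientGroup.mk'_surjective L y
  rw [← map_mul, ← map_mul]
  change ((a * b : G) : G ⧸ L) = ((b * a : G) : G ⧸ L)
  rw [QuotientGroup.eq]
  have h1 : (a * b)⁻¹ * (b * a) = ⁅b⁻¹, a⁻¹⁆ := by rw [commutatorElement_def]; group
  rw [h1]
  apply h
  apply pgroup_commutator_le_frattini hG
  rw [commutator_def]
  exact Subgroup.commutator_mem_commutator (Subgroup.mem_top _) (Subgroup.mem_top _)

theorem kul_quot_exp (hG : IsPGroup p G) (L : Subgroup G) [L.Normal] (h : frattini G ≤ L) :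
    ∀ x : G ⧸ L, x ^ p = 1 := by
  intro x
  obtain ⟨a, rfl⟩ := QuotientGroup.mk'_surjective L x
  rw [← map_pow]
  exact (QuotientGroup.eq_one_iff _).mpr (h (pgroup_pow_mem_frattini hG a))

/-- the Frattini quotient of a non-cyclic `p`-group has order at least `p²`. -/
theorem kul_frattini_index {n : ℕ} (hG : Nat.card G = p ^ n) (hnc : ¬ IsCyclic G) :
    ∃ d, 2 ≤ d ∧ (frattini G).index = p ^ d := by
  have hpg : IsPGroup p G := IsPGroup.of_card hG
  obtain ⟨d, hd⟩ := hpg.index (frattini G)
  refine ⟨d, ?_, hd⟩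
  by_contra hlt
  push Not at hlt
  apply hnc
  -- G nontrivial
  have hnt : ∃ x : G, x ∉ frattini G ∨ (frattini G = ⊤ ∧ True) := by
    by_cases h : frattini G = ⊤
    · exact ⟨1, Or.inr ⟨h, trivial⟩⟩
    · obtain ⟨x, -, hx⟩ := SetLike.exists_of_lt (lt_top_iff_ne_top.mpr h)
      exact ⟨x, Or.inl hx⟩
  have hcoat : ∀ K : Subgroup G, K ≠ ⊤ → ∃ M : Subgroup G, IsCoatom M ∧ K ≤ M := by
    intro K hK
    rcases eq_top_or_exists_le_coatom K with h | h
    · exact absurd h hK
    · exact h
  by_cases htop : frattini G = ⊤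
  · -- no coatoms: G trivial
    have hbot : (⊥ : Subgroup G) = ⊤ := by
      by_contra hne
      obtain ⟨M, hM, -⟩ := hcoat ⊥ hne
      have := frattini_le_coatom hM
      rw [htop] at this
      exact hM.1 (top_le_iff.mp this)
    have hsub : Subsingleton G := by
      refine ⟨fun a b => ?_⟩
      have ha : a ∈ (⊥ : Subgroup G) := hbot ▸ Subgroup.mem_top a
      have hb : b ∈ (⊥ : Subgroup G) := hbot ▸ Subgroup.mem_top b
      rw [Subgroup.mem_bot] at ha hb
      rw [ha, hb]
    exact isCyclic_of_subsingleton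
  · -- d = 1
    have hd1 : d = 1 := by
      have : d ≠ 0 := by
        intro h0
        rw [h0, pow_zero, Subgroup.index_eq_one] at hd
        exact htop hd
      omega
    rw [hd1, pow_one] at hd
    have hΦ : IsCoatom (frattini G) := kul_isCoatom_of_index hG _ hd
    obtain ⟨x, -, hx⟩ := SetLike.exists_of_lt (lt_top_iff_ne_top.mpr htop)
    have hz : Subgroup.zpowers x = ⊤ := by
      by_contra hne
      obtain ⟨M, hM, hxM⟩ := hcoat _ hne
      have h1 : frattini G ≤ M := frattini_le_coatom hM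
      have h2 : frattini G = M := by
        rcases eq_or_lt_of_le h1 with h | h
        · exact h
        · exact absurd (hΦ.2 M h) hM.1
      apply hx
      rw [h2]
      exact hxM (Subgroup.mem_zpowers x)
    exact ⟨⟨x, fun y => by
      have : y ∈ Subgroup.zpowers x := hz ▸ Subgroup.mem_top y
      exact this⟩⟩

/-- the number of maximal subgroups of a non-cyclic `p`-group. -/
theorem kul_card_maximal {n : ℕ} (hG : Nat.card G = p ^ n) (hnc : ¬ IsCyclic G) :
    Nat.card {M : Subgroup G // M.index = p} ≡ 1 + p [MOD p ^ 2] := by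
  have hpg : IsPGroup p G := IsPGroup.of_card hG
  obtain ⟨d, hd2, hd⟩ := kul_frattini_index hG hnc
  haveI : (frattini G).Normal := kul_normal_of_frattini_le hpg _ le_rfl
  have e1 : {M : Subgroup G // M.index = p} ≃ {M : Subgroup G // M.index = p ∧ frattini G ≤ M} :=
    Equiv.subtypeEquivRight (fun M =>
      ⟨fun h => ⟨h, kul_frattini_le_of_index hG M h⟩, fun h => h.1⟩)
  rw [Nat.card_congr e1, Nat.card_congr (kulQuotEquiv (frattini G) p)]
  have hQ : Nat.card (G ⧸ frattini G) = p ^ d := by rw [← Subgroup.index_eq_card, hd]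
  exact kul_elem_maximal (kul_quot_comm hpg _ le_rfl) (kul_quot_exp hpg _ le_rfl) hQ hd2

theorem kul_card_K {n : ℕ} (hG : Nat.card G = p ^ n) (hnc : ¬ IsCyclic G) :
    Nat.card {K : Subgroup G // K.index = p ^ 2 ∧ frattini G ≤ K} ≡ 1 [MOD p] := by
  have hpg : IsPGroup p G := IsPGroup.of_card hG
  obtain ⟨d, hd2, hd⟩ := kul_frattini_index hG hnc
  haveI : (frattini G).Normal := kul_normal_of_frattini_le hpg _ le_rfl
  rw [Nat.card_congr (kulQuotEquiv (frattini G) (p ^ 2))]
  have hQ : Nat.card (G ⧸ frattini G) = p ^ d := by rw [← Subgroup.index_eq_card, hd]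
  have e1 : {K : Subgroup (G ⧸ frattini G) // K.index = p ^ 2} ≃
      {K : Subgroup (G ⧸ frattini G) // Nat.card K = p ^ (d - 2)} :=
    Equiv.subtypeEquivRight (fun K => kul_card_of_index hQ hd2 K)
  rw [Nat.card_congr e1]
  exact Cfsg.Agent.S3975.result p (d - 2) hp.out (by rw [hQ]; exact pow_dvd_pow p (by omega))

/-- Hall's enumeration principle modulo `p²`. -/
theorem kul_hall_enum {n a : ℕ} (hG : Nat.card G = p ^ n) (ha : a < n)
    [Fintype {M : Subgroup G // M.index = p}]
    [Fintype {K : Subgroup G // K.index = p ^ 2 ∧ frattini G ≤ K}] :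
    Nat.card {H : Subgroup G // Nat.card H = p ^ a} +
      p * ∑ K : {K : Subgroup G // K.index = p ^ 2 ∧ frattini G ≤ K},
        Nat.card {H : Subgroup G // Nat.card H = p ^ a ∧ H ≤ K.1} ≡
      ∑ M : {M : Subgroup G // M.index = p},
        Nat.card {H : Subgroup G // Nat.card H = p ^ a ∧ H ≤ M.1} [MOD p ^ 2] := by
  classical
  have hpg : IsPGroup p G := IsPGroup.of_card hG
  letI : Fintype {H : Subgroup G // Nat.card H = p ^ a} := Fintype.ofFinite _
  have hdc1 := kul_double_count (fun M : Subgroup G => M.index = p)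
    (fun H : Subgroup G => Nat.card H = p ^ a) (fun M H => H ≤ M)
  have hdc2 := kul_double_count (fun K : Subgroup G => K.index = p ^ 2 ∧ frattini G ≤ K)
    (fun H : Subgroup G => Nat.card H = p ^ a) (fun K H => H ≤ K)
  rw [hdc1, hdc2]
  have h0 : Nat.card {H : Subgroup G // Nat.card H = p ^ a} =
      ∑ _H : {H : Subgroup G // Nat.card H = p ^ a}, 1 := by
    rw [Finset.sum_const, smul_eq_mul, mul_one, Finset.card_univ, Nat.card_eq_fintype_card]
  rw [h0, Finset.mul_sum, ← Finset.sum_add_distrib]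
  apply kul_sum_modEq
  intro H _
  -- pointwise
  set L : Subgroup G := H.1 ⊔ frattini G with hL
  haveI hLn : L.Normal := kul_normal_of_frattini_le hpg L le_sup_right
  have hHne : H.1 ≠ ⊤ := by
    intro h
    have h1 := H.2
    rw [h, Subgroup.card_top, hG] at h1
    have := Nat.pow_right_injective hp.out.two_le h1
    omega
  obtain ⟨M, hM, hHM⟩ := (eq_top_or_exists_le_coatom H.1).resolve_left hHne
  have hLne : L ≠ ⊤ := by
    intro h
    have : L ≤ M := sup_le hHM (frattini_le_coatom hM)
    rw [h] at this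
    exact hM.1 (top_le_iff.mp this)
  obtain ⟨e, he⟩ := hpg.index L
  have he1 : 1 ≤ e := by
    by_contra h0
    have : e = 0 := by omega
    rw [this, pow_zero, Subgroup.index_eq_one] at he
    exact hLne he
  have hQ : Nat.card (G ⧸ L) = p ^ e := by rw [← Subgroup.index_eq_card, he]
  have key := kul_elem_count (kul_quot_comm hpg L le_sup_right) (kul_quot_exp hpg L le_sup_right)
    hQ he1
  have e1 : {M : Subgroup G // M.index = p ∧ H.1 ≤ M} ≃ {M : Subgroup G // M.index = p ∧ L ≤ M} :=
    Equiv.subtypeEquivRight (fun M => by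
      constructor
      · rintro ⟨h1, h2⟩
        exact ⟨h1, sup_le h2 (kul_frattini_le_of_index hG M h1)⟩
      · rintro ⟨h1, h2⟩
        exact ⟨h1, le_sup_left.trans h2⟩)
  have e2 : {K : Subgroup G // (K.index = p ^ 2 ∧ frattini G ≤ K) ∧ H.1 ≤ K} ≃
      {K : Subgroup G // K.index = p ^ 2 ∧ L ≤ K} :=
    Equiv.subtypeEquivRight (fun K => by
      constructor
      · rintro ⟨⟨h1, h2⟩, h3⟩
        exact ⟨h1, sup_le h3 h2⟩
      · rintro ⟨h1, h2⟩
        exact ⟨⟨h1, le_sup_right.trans h2⟩, le_sup_left.trans h2⟩)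
  rw [Nat.card_congr e1, Nat.card_congr e2, Nat.card_congr (kulQuotEquiv L p),
    Nat.card_congr (kulQuotEquiv L (p ^ 2))]
  exact key

end Cfsg.Agent.Lib.helper23
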