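import Mathlib
import Cfsg.Agent.Lib.helper23.KulC

set_option autoImplicit false

namespace Cfsg.Agent.Lib.helper23

open scoped BigOperators

variable {G : Type*} [Group G]

/-- the predicate defining the family `T_S`. -/
def kulT (P0 : Subgroup G) (p a : ℕ) (S H : Subgroup G) : Prop :=
  Nat.card H = p ^ a ∧ H ≤ S ∧ S ≤ Subgroup.normalizer (H : Set G) ∧ ¬ H ≤ P0

section

variable [Finite G] {p : ℕ} [hp : Fact p.Prime]

theorem kul_pgroup_card_le (P : Sylow p G) {n : ℕ} (hPn : Nat.card P = p ^ n) (S : Subgroup G)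
    (hS : IsPGroup p S) : ∃ m, m ≤ n ∧ Nat.card S = p ^ m := by
  obtain ⟨m, hm⟩ := IsPGroup.iff_card.mp hS
  refine ⟨m, ?_, hm⟩
  have h1 : p ^ m ∣ Nat.card G := hm ▸ Subgroup.card_subgroup_dvd_card S
  have h2 := P.card_eq_multiplicity
  rw [hPn] at h2
  have h3 : n = (Nat.card G).factorization p := Nat.pow_right_injective hp.out.two_le h2
  rw [h3]
  exact (hp.out.pow_dvd_iff_le_factorization Nat.card_pos.ne').mp h1

theorem kul_not_normalizes (P : Sylow p G) (H : Subgroup G) (hH : IsPGroup p H)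
    (h : (P : Subgroup G) ≤ Subgroup.normalizer (H : Set G)) : H ≤ (P : Subgroup G) := by
  have hsup : IsPGroup p (H ⊔ (P : Subgroup G) : Subgroup G) :=
    IsPGroup.to_sup_of_normal_left' hH P.2 h
  have h2 := P.is_maximal' hsup le_sup_right
  exact le_sup_left.trans h2.le

theorem kul_fact1 (P : Sylow p G) {n a : ℕ} (hPn : Nat.card P = p ^ n) (H : Subgroup G)
    (hH : Nat.card H = p ^ a)
    (hr : (Subgroup.normalizer (H : Set G)).relIndex (P : Subgroup G) ∣ p)
    (hHP : ¬ H ≤ (P : Subgroup G)) :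
    Nat.card (H ⊔ (Subgroup.normalizer (H : Set G) ⊓ (P : Subgroup G)) : Subgroup G) = p ^ n ∧
    (H ⊔ (Subgroup.normalizer (H : Set G) ⊓ (P : Subgroup G))).relIndex (P : Subgroup G) = p ∧
    kulT (P : Subgroup G) p a (H ⊔ (Subgroup.normalizer (H : Set G) ⊓ (P : Subgroup G))) H := by
  set P0 : Subgroup G := (P : Subgroup G) with hP0
  have hPn' : Nat.card P0 = p ^ n := hPn
  have hHp : IsPGroup p H := IsPGroup.of_card hH
  have hr1 : (Subgroup.normalizer (H : Set G)).relIndex P0 ≠ 1 := by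
    intro h
    exact hHP (kul_not_normalizes P H hHp (Subgroup.relIndex_eq_one.mp h))
  have hrp : (Subgroup.normalizer (H : Set G)).relIndex P0 = p :=
    ((Nat.dvd_prime hp.out).mp hr).resolve_left hr1
  set Q : Subgroup G := Subgroup.normalizer (H : Set G) ⊓ P0 with hQ
  have hQcard : Nat.card Q * p = p ^ n := by
    have := kul_card_inf_mul_relIndex (Subgroup.normalizer (H : Set G)) P0
    rw [hrp, hPn'] at this
    exact this
  set S : Subgroup G := H ⊔ Q with hS
  have hQp : IsPGroup p Q := P.2.to_le inf_le_right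
  have hSp : IsPGroup p S := IsPGroup.to_sup_of_normal_left' hHp hQp inf_le_left
  obtain ⟨m, hmn, hSm⟩ := kul_pgroup_card_le P hPn S hSp
  have hQS : Q < S := by
    refine lt_of_le_of_ne le_sup_right ?_
    intro h
    apply hHP
    have h1 : H ≤ S := le_sup_left
    rw [← h] at h1
    exact h1.trans inf_le_right
  have hlt := kul_card_lt_of_lt hQS
  have hmn' : m = n := by
    have h1 : p ^ n < p ^ (m + 1) := by
      rw [← hQcard, pow_succ, ← hSm]
      exact Nat.mul_lt_mul_of_pos_right hlt hp.out.pos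
    have := (Nat.pow_lt_pow_iff_right hp.out.one_lt).mp h1
    omega
  have hScard : Nat.card S = p ^ n := by rw [hSm, hmn']
  have hSP : S ⊓ P0 = Q := by
    have hle1 : Q ≤ S ⊓ P0 := le_inf le_sup_right inf_le_right
    rcases kul_between hp.out hQcard hPn' hle1 inf_le_right with h | h
    · exact h
    · exfalso
      have hPS : P0 ≤ S := inf_eq_right.mp h
      have hSeq : P0 = S := Subgroup.eq_of_le_of_card_ge hPS (by rw [hScard, hPn'])
      apply hHP
      rw [hSeq]
      exact le_sup_left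
  refine ⟨hScard, ?_, hH, le_sup_left, sup_le Subgroup.le_normalizer inf_le_left, hHP⟩
  have h1 := kul_card_inf_mul_relIndex S P0
  rw [hSP, hPn', ← hQcard] at h1
  exact Nat.eq_of_mul_eq_mul_left Nat.card_pos h1

theorem kul_fact2 (P : Sylow p G) {n a : ℕ} (hPn : Nat.card P = p ^ n) (S : Subgroup G)
    (hS : Nat.card S = p ^ n) (hSr : S.relIndex (P : Subgroup G) = p) (H : Subgroup G)
    (hT : kulT (P : Subgroup G) p a S H) :
    (Subgroup.normalizer (H : Set G)).relIndex (P : Subgroup G) ∣ p ∧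
      H ⊔ (Subgroup.normalizer (H : Set G) ⊓ (P : Subgroup G)) = S := by
  set P0 : Subgroup G := (P : Subgroup G) with hP0
  have hPn' : Nat.card P0 = p ^ n := hPn
  obtain ⟨hH, hHS, hSN, hHP⟩ := hT
  have hHp : IsPGroup p H := IsPGroup.of_card hH
  have hQ0 : Nat.card (S ⊓ P0 : Subgroup G) * p = p ^ n := by
    have := kul_card_inf_mul_relIndex S P0
    rw [hSr, hPn'] at this
    exact this
  have hQ' : Subgroup.normalizer (H : Set G) ⊓ P0 = S ⊓ P0 := by
    rcases kul_between hp.out hQ0 hPn' (inf_le_inf_right P0 hSN) inf_le_right with h | h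
    · exact h
    · exfalso
      exact hHP (kul_not_normalizes P H hHp (inf_eq_right.mp h))
  refine ⟨?_, ?_⟩
  · have h1 := kul_card_inf_mul_relIndex (Subgroup.normalizer (H : Set G)) P0
    rw [hQ', hPn', ← hQ0] at h1
    rw [Nat.eq_of_mul_eq_mul_left Nat.card_pos h1]
  · rw [hQ']
    rcases kul_between hp.out hQ0 hS (le_sup_right : S ⊓ P0 ≤ H ⊔ S ⊓ P0)
      (sup_le hHS inf_le_left) with h | h
    · exfalso
      apply hHP
      have h1 : H ≤ H ⊔ S ⊓ P0 := le_sup_left
      rw [h] at h1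
      exact h1.trans inf_le_right
    · exact h

theorem kulT_conj (P0 : Subgroup G) (a : ℕ) (g : G) (hg : g ∈ P0) (S H : Subgroup G)
    (h : kulT P0 p a S H) : kulT P0 p a (kcj g S) (kcj g H) := by
  obtain ⟨h1, h2, h3, h4⟩ := h
  refine ⟨by rw [card_kcj]; exact h1, kcj_le_kcj h2, ?_, ?_⟩
  · rw [kcj_normalizer]
    exact kcj_le_kcj h3
  · intro h5
    apply h4
    rw [← kcj_eq_of_mem hg] at h5
    exact kcj_le_kcj_iff.mp h5

theorem kulT_card_conj (P0 : Subgroup G) (a : ℕ) (g : G) (hg : g ∈ P0) (S : Subgroup G) :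
    Nat.card {H : Subgroup G // kulT P0 p a (kcj g S) H} =
      Nat.card {H : Subgroup G // kulT P0 p a S H} := by
  apply Nat.card_congr
  exact
    { toFun := fun H => ⟨kcj g⁻¹ H.1, by
        have := kulT_conj P0 a g⁻¹ (inv_mem hg) _ _ H.2
        rwa [kcj_inv_kcj] at this⟩
      invFun := fun H => ⟨kcj g H.1, kulT_conj P0 a g hg _ _ H.2⟩
      left_inv := fun H => Subtype.ext (kcj_kcj_inv g H.1)
      right_inv := fun H => Subtype.ext (kcj_inv_kcj g H.1) }

theorem kulT_dvd (P : Sylow p G) {n a : ℕ} (ha : a < n) (S : Subgroup G)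
    (hS : Nat.card S = p ^ n) (hSr : S.relIndex (P : Subgroup G) = p)
    (hPn : Nat.card P = p ^ n) :
    p ∣ Nat.card {H : Subgroup G // kulT (P : Subgroup G) p a S H} := by
  set P0 : Subgroup G := (P : Subgroup G) with hP0
  have hPn' : Nat.card P0 = p ^ n := hPn
  have hSp : IsPGroup p S := IsPGroup.of_card hS
  have hA := kul_normal_count S S hSp Subgroup.le_normalizer a
    (by rw [hS]; exact pow_dvd_pow p ha.le)
  have hQ0 : Nat.card (S ⊓ P0 : Subgroup G) * p = p ^ n := by
    have := kul_card_inf_mul_relIndex S P0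
    rw [hSr, hPn'] at this
    exact this
  have hn : n = (n - 1) + 1 := by omega
  have hQ0' : Nat.card (S ⊓ P0 : Subgroup G) = p ^ (n - 1) := by
    rw [hn, pow_succ] at hQ0
    exact Nat.eq_of_mul_eq_mul_right hp.out.pos hQ0
  have hnorm : S ≤ Subgroup.normalizer ((S ⊓ P0 : Subgroup G) : Set G) := by
    rw [← Subgroup.normal_subgroupOf_iff_le_normalizer (inf_le_left : S ⊓ P0 ≤ S)]
    apply Subgroup.normal_of_index_eq_minFac_card
    rw [hS, Nat.Prime.pow_minFac hp.out (by omega)]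
    have h1 := kul_card_inf_mul_relIndex (S ⊓ P0) S
    rw [inf_eq_left.mpr (inf_le_left : S ⊓ P0 ≤ S), hS, ← hQ0] at h1
    exact Nat.eq_of_mul_eq_mul_left Nat.card_pos h1
  have hB := kul_normal_count S (S ⊓ P0) hSp hnorm a
    (by rw [hQ0']; exact pow_dvd_pow p (by omega))
  have hsplit := kul_card_split
    (fun H : Subgroup G => Nat.card H = p ^ a ∧ H ≤ S ∧ S ≤ Subgroup.normalizer (H : Set G))
    (fun H => H ≤ P0)
  have e1 : {H : Subgroup G // (Nat.card H = p ^ a ∧ H ≤ S ∧
      S ≤ Subgroup.normalizer (H : Set G)) ∧ H ≤ P0} ≃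
      {H : Subgroup G // Nat.card H = p ^ a ∧ H ≤ S ⊓ P0 ∧
        S ≤ Subgroup.normalizer (H : Set G)} :=
    Equiv.subtypeEquivRight (fun H => by
      rw [le_inf_iff]
      tauto)
  have e2 : {H : Subgroup G // (Nat.card H = p ^ a ∧ H ≤ S ∧
      S ≤ Subgroup.normalizer (H : Set G)) ∧ ¬ H ≤ P0} ≃
      {H : Subgroup G // kulT P0 p a S H} :=
    Equiv.subtypeEquivRight (fun H => by
      unfold kulT
      tauto)
  rw [Nat.card_congr e1, Nat.card_congr e2] at hsplit
  rw [hsplit] at hA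
  have h3 : Nat.card {H : Subgroup G // Nat.card H = p ^ a ∧ H ≤ S ⊓ P0 ∧
        S ≤ Subgroup.normalizer (H : Set G)} +
      Nat.card {H : Subgroup G // kulT P0 p a S H} ≡
      Nat.card {H : Subgroup G // Nat.card H = p ^ a ∧ H ≤ S ⊓ P0 ∧
        S ≤ Subgroup.normalizer (H : Set G)} + 0 [MOD p] := by
    rw [add_zero]
    exact hA.trans hB.symm
  exact (Nat.modEq_zero_iff_dvd).mp (Nat.ModEq.add_left_cancel' _ h3)

/-- reduction to a Sylow subgroup. -/
theorem kul_sylow_reduction (P : Sylow p G) (n a : ℕ) (hPn : Nat.card P = p ^ n) (ha : a < n) :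
    Nat.card {H : Subgroup G // Nat.card H = p ^ a} ≡
      Nat.card {H : Subgroup ↥(P : Subgroup G) // Nat.card H = p ^ a} [MOD p ^ 2] := by
  classical
  set P0 : Subgroup G := (P : Subgroup G) with hP0
  have hPn' : Nat.card P0 = p ^ n := hPn
  have hPp : IsPGroup p ↥P0 := P.2
  -- step 1
  have hC1 : ∀ g ∈ P0, ∀ H : Subgroup G, Nat.card H = p ^ a → Nat.card (kcj g H) = p ^ a :=
    fun g _ H h => by rw [card_kcj]; exact h
  have s1 : Nat.card {H : Subgroup G // Nat.card H = p ^ a} ≡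
      Nat.card {H : Subgroup G // Nat.card H = p ^ a ∧
        (Subgroup.normalizer (H : Set G)).relIndex P0 ∣ p} [MOD p ^ 2] := by
    letI := kconjAct P0 (fun H => Nat.card H = p ^ a) hC1
    have h := kul_orbit_modEq (P := ↥P0) (X := {H : Subgroup G // Nat.card H = p ^ a}) hPp
    have e : {x : {H : Subgroup G // Nat.card H = p ^ a} //
        (MulAction.stabilizer ↥P0 x).index ∣ p} ≃
        {H : Subgroup G // Nat.card H = p ^ a ∧
          (Subgroup.normalizer (H : Set G)).relIndex P0 ∣ p} :=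
      (Equiv.subtypeEquivRight (fun x => by rw [kconjAct_stab]; exact Iff.rfl)).trans
        (Equiv.subtypeSubtypeEquivSubtypeInter _
          (fun H : Subgroup G => (Subgroup.normalizer (H : Set G)).relIndex P0 ∣ p))
    rwa [Nat.card_congr e] at h
  -- step 3
  have hC2 : ∀ g ∈ P0, ∀ H : Subgroup G, (Nat.card H = p ^ a ∧ H ≤ P0) →
      (Nat.card (kcj g H) = p ^ a ∧ kcj g H ≤ P0) := by
    intro g hg H h
    refine ⟨by rw [card_kcj]; exact h.1, ?_⟩
    have := kcj_le_kcj (g := g) h.2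
    rwa [kcj_eq_of_mem hg] at this
  have s3 : Nat.card {H : Subgroup G // Nat.card H = p ^ a ∧ H ≤ P0} ≡
      Nat.card {H : Subgroup G // (Nat.card H = p ^ a ∧ H ≤ P0) ∧
        (Subgroup.normalizer (H : Set G)).relIndex P0 ∣ p} [MOD p ^ 2] := by
    letI := kconjAct P0 (fun H => Nat.card H = p ^ a ∧ H ≤ P0) hC2
    have h := kul_orbit_modEq (P := ↥P0)
      (X := {H : Subgroup G // Nat.card H = p ^ a ∧ H ≤ P0}) hPp
    have e : {x : {H : Subgroup G // Nat.card H = p ^ a ∧ H ≤ P0} //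
        (MulAction.stabilizer ↥P0 x).index ∣ p} ≃
        {H : Subgroup G // (Nat.card H = p ^ a ∧ H ≤ P0) ∧
          (Subgroup.normalizer (H : Set G)).relIndex P0 ∣ p} :=
      (Equiv.subtypeEquivRight (fun x => by rw [kconjAct_stab]; exact Iff.rfl)).trans
        (Equiv.subtypeSubtypeEquivSubtypeInter _
          (fun H : Subgroup G => (Subgroup.normalizer (H : Set G)).relIndex P0 ∣ p))
    rwa [Nat.card_congr e] at h
  -- step 2
  have hsplit := kul_card_split
    (fun H : Subgroup G => Nat.card H = p ^ a ∧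
      (Subgroup.normalizer (H : Set G)).relIndex P0 ∣ p) (fun H => H ≤ P0)
  have e1 : {H : Subgroup G // (Nat.card H = p ^ a ∧
      (Subgroup.normalizer (H : Set G)).relIndex P0 ∣ p) ∧ H ≤ P0} ≃
      {H : Subgroup G // (Nat.card H = p ^ a ∧ H ≤ P0) ∧
        (Subgroup.normalizer (H : Set G)).relIndex P0 ∣ p} :=
    Equiv.subtypeEquivRight (fun H => by tauto)
  rw [Nat.card_congr e1] at hsplit
  -- step 4
  have s4 : p ^ 2 ∣ Nat.card {H : Subgroup G // (Nat.card H = p ^ a ∧
      (Subgroup.normalizer (H : Set G)).relIndex P0 ∣ p) ∧ ¬ H ≤ P0} := by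
    have hCy : ∀ g ∈ P0, ∀ S : Subgroup G, (Nat.card S = p ^ n ∧ S.relIndex P0 = p) →
        (Nat.card (kcj g S) = p ^ n ∧ (kcj g S).relIndex P0 = p) := by
      intro g hg S h
      refine ⟨by rw [card_kcj]; exact h.1, ?_⟩
      have := kul_relIndex_kcj g S P0
      rw [kcj_eq_of_mem hg] at this
      rw [this]
      exact h.2
    letI actY := kconjAct P0 (fun S : Subgroup G => Nat.card S = p ^ n ∧ S.relIndex P0 = p) hCy
    letI : Fintype {S : Subgroup G // Nat.card S = p ^ n ∧ S.relIndex P0 = p} :=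
      Fintype.ofFinite _
    have hsum : Nat.card {H : Subgroup G // (Nat.card H = p ^ a ∧
        (Subgroup.normalizer (H : Set G)).relIndex P0 ∣ p) ∧ ¬ H ≤ P0} =
        ∑ S : {S : Subgroup G // Nat.card S = p ^ n ∧ S.relIndex P0 = p},
          Nat.card {H : Subgroup G // kulT P0 p a S.1 H} := by
      rw [← Nat.card_sigma]
      apply Nat.card_congr
      exact
        { toFun := fun x =>
            ⟨⟨x.1 ⊔ (Subgroup.normalizer (x.1 : Set G) ⊓ P0),
              (kul_fact1 P hPn x.1 x.2.1.1 x.2.1.2 x.2.2).1,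
              (kul_fact1 P hPn x.1 x.2.1.1 x.2.1.2 x.2.2).2.1⟩,
             ⟨x.1, (kul_fact1 P hPn x.1 x.2.1.1 x.2.1.2 x.2.2).2.2⟩⟩
          invFun := fun z =>
            ⟨z.2.1, ⟨z.2.2.1, (kul_fact2 P hPn z.1.1 z.1.2.1 z.1.2.2 z.2.1 z.2.2).1⟩,
              z.2.2.2.2.2⟩
          left_inv := fun x => rfl
          right_inv := fun z =>
            Sigma.subtype_ext
              (Subtype.ext (kul_fact2 P hPn z.1.1 z.1.2.1 z.1.2.2 z.2.1 z.2.2).2) rfl }
    rw [hsum]
    apply kul_fiber_dvd hPp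
    · intro g S
      exact kulT_card_conj P0 a (g : G) g.2 S.1
    · intro S
      exact kulT_dvd P ha S.1 S.2.1 S.2.2 hPn
    · intro S h
      rw [kconjAct_stab, Subgroup.subgroupOf_eq_top] at h
      have hSp : IsPGroup p S.1 := IsPGroup.of_card S.2.1
      have hle := kul_not_normalizes P S.1 hSp h
      have h1 := kul_card_inf_mul_relIndex S.1 P0
      rw [inf_eq_left.mpr hle, S.2.1, S.2.2, hPn'] at h1
      have : p ^ n * 1 < p ^ n * p := Nat.mul_lt_mul_of_pos_left hp.out.one_lt (pow_pos hp.out.pos n)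
      omega
  -- conclusion
  rw [← Nat.card_congr (ksubEquiv P0 (p ^ a))]
  obtain ⟨c, hc⟩ := s4
  rw [hc] at hsplit
  have h5 : Nat.card {H : Subgroup G // Nat.card H = p ^ a ∧
        (Subgroup.normalizer (H : Set G)).relIndex P0 ∣ p} ≡
      Nat.card {H : Subgroup G // (Nat.card H = p ^ a ∧ H ≤ P0) ∧
        (Subgroup.normalizer (H : Set G)).relIndex P0 ∣ p} [MOD p ^ 2] := by
    rw [hsplit]
    unfold Nat.ModEq
    exact Nat.add_mul_mod_self_left _ _ _
  exact (s1.trans h5).trans s3.symm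

end

end Cfsg.Agent.Lib.helper23
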