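import Mathlib
import Cfsg.Agent.Lib.helper23.KulF
import Cfsg.Agent.Lib.helper23.KulD
import Cfsg.Agent.Lib.Helper10.SubgroupBasic
import Cfsg.Agent.S0127

set_option autoImplicit false

namespace Cfsg.Agent.Lib.helper23

open scoped BigOperators

universe u

/-- a cyclic `p`-group has exactly one subgroup of each possible order. -/
theorem kul_cyclic_count {C : Type*} [Group C] [Finite C] [IsCyclic C] {p : ℕ} [hp : Fact p.Prime]
    {m a : ℕ} (hC : Nat.card C = p ^ m) (ha : a ≤ m) :
    Nat.card {H : Subgroup C // Nat.card H = p ^ a} = 1 := by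
  rw [Nat.card_eq_one_iff_unique]
  obtain ⟨H0, hH0⟩ := Sylow.exists_subgroup_card_pow_prime p
    (show p ^ a ∣ Nat.card C by rw [hC]; exact pow_dvd_pow p ha)
  refine ⟨⟨?_⟩, ⟨⟨H0, hH0⟩⟩⟩
  rintro ⟨A, hA⟩ ⟨B, hB⟩
  apply Subtype.ext
  exact Cfsg.Agent.Lib.Helper10.eq_of_card_eq_of_isCyclic A B (hA.trans hB.symm)

/-- Kulakoff's theorem. -/
theorem kulakoff (p : ℕ) [hp : Fact p.Prime] (hp2 : p ≠ 2) :
    ∀ n : ℕ, ∀ (G : Type u) [Group G] [Finite G], Nat.card G = p ^ n → ¬ IsCyclic G →
      ∀ a : ℕ, 1 ≤ a → a < n →
        Nat.card {H : Subgroup G // Nat.card H = p ^ a} ≡ 1 + p [MOD p ^ 2] := by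
  intro n
  induction n using Nat.strong_induction_on with
  | _ n ih =>
  intro G _ _ hG hnc a ha1 han
  classical
  have hpg : IsPGroup p G := IsPGroup.of_card hG
  rcases Nat.lt_or_ge (a + 1) n with hlt | hge
  swap
  · -- a = n - 1
    have han' : a = n - 1 := by omega
    have e1 : {H : Subgroup G // Nat.card H = p ^ a} ≃ {M : Subgroup G // M.index = p} :=
      Equiv.subtypeEquivRight (fun M => by
        have := kul_card_of_index hG (show 1 ≤ n by omega) M
        rw [pow_one] at this
        rw [han']
        exact this.symm)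
    rw [Nat.card_congr e1]
    exact kul_card_maximal hG hnc
  · -- a ≤ n - 2
    letI : Fintype {M : Subgroup G // M.index = p} := Fintype.ofFinite _
    letI : Fintype {K : Subgroup G // K.index = p ^ 2 ∧ frattini G ≤ K} := Fintype.ofFinite _
    -- the a-independent evaluation
    have E : ∀ b : ℕ, 1 ≤ b → b + 1 < n →
        Nat.card {H : Subgroup G // Nat.card H = p ^ b} +
          p * Nat.card {K : Subgroup G // K.index = p ^ 2 ∧ frattini G ≤ K} ≡
        ∑ M : {M : Subgroup G // M.index = p},
          (if IsCyclic ↥M.1 then 1 else 1 + p) [MOD p ^ 2] := by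
      intro b hb1 hbn
      have hall := kul_hall_enum hG (show b < n by omega)
      -- the K-sum
      have hK : p * ∑ K : {K : Subgroup G // K.index = p ^ 2 ∧ frattini G ≤ K},
          Nat.card {H : Subgroup G // Nat.card H = p ^ b ∧ H ≤ K.1} ≡
          p * Nat.card {K : Subgroup G // K.index = p ^ 2 ∧ frattini G ≤ K} [MOD p ^ 2] := by
        have h1 : (∑ K : {K : Subgroup G // K.index = p ^ 2 ∧ frattini G ≤ K},
            Nat.card {H : Subgroup G // Nat.card H = p ^ b ∧ H ≤ K.1}) ≡
            ∑ _K : {K : Subgroup G // K.index = p ^ 2 ∧ frattini G ≤ K}, 1 [MOD p] := by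
          apply kul_sum_modEq
          intro K _
          rw [Nat.card_congr (ksubEquiv K.1 (p ^ b))]
          have hKc : Nat.card K.1 = p ^ (n - 2) :=
            (kul_card_of_index hG (show 2 ≤ n by omega) K.1).mp K.2.1
          exact Cfsg.Agent.S3975.result p b hp.out
            (by rw [hKc]; exact pow_dvd_pow p (by omega))
        rw [Finset.sum_const, smul_eq_mul, mul_one, Finset.card_univ,
          ← Nat.card_eq_fintype_card] at h1
        have h2 := Nat.ModEq.mul_left' p h1
        rwa [← pow_two] at h2
      -- the M-sum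
      have hM : (∑ M : {M : Subgroup G // M.index = p},
          Nat.card {H : Subgroup G // Nat.card H = p ^ b ∧ H ≤ M.1}) ≡
          ∑ M : {M : Subgroup G // M.index = p},
            (if IsCyclic ↥M.1 then 1 else 1 + p) [MOD p ^ 2] := by
        apply kul_sum_modEq
        intro M _
        rw [Nat.card_congr (ksubEquiv M.1 (p ^ b))]
        have hMc : Nat.card M.1 = p ^ (n - 1) := by
          have := (kul_card_of_index hG (show 1 ≤ n by omega) M.1).mp
            (by rw [pow_one]; exact M.2)
          exact this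
        by_cases hcyc : IsCyclic ↥M.1
        · rw [if_pos hcyc]
          haveI := hcyc
          rw [kul_cyclic_count hMc (show b ≤ n - 1 by omega)]
        · rw [if_neg hcyc]
          exact ih (n - 1) (by omega) ↥M.1 hMc hcyc b hb1 (by omega)
      exact ((Nat.ModEq.add_left _ hK.symm).trans hall).trans hM
    have Ea := E a ha1 hlt
    by_cases hγ : ∃ M : Subgroup G, M.index = p ∧ IsCyclic ↥M
    · -- a cyclic maximal subgroup
      obtain ⟨M1, hM1, hM1c⟩ := hγ
      have E1 := E 1 le_rfl (by omega)
      have h1 : Nat.card {H : Subgroup G // Nat.card H = p ^ a} ≡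
          Nat.card {H : Subgroup G // Nat.card H = p ^ 1} [MOD p ^ 2] :=
        Nat.ModEq.add_right_cancel' _ (Ea.trans E1.symm)
      refine h1.trans ?_
      obtain ⟨hΩe, hΩc⟩ := Cfsg.Agent.S0127.result hp2 hpg hnc M1 hM1c hM1
      set Ω : Subgroup G := Subgroup.closure {x : G | x ^ p = 1} with hΩ
      have e1 : {H : Subgroup G // Nat.card H = p ^ 1} ≃
          {H : Subgroup G // Nat.card H = p ^ 1 ∧ H ≤ Ω} :=
        Equiv.subtypeEquivRight (fun H => by
          constructor
          · intro h
            refine ⟨h, fun x hx => ?_⟩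
            apply Subgroup.subset_closure
            change x ^ p = 1
            have h2 : (⟨x, hx⟩ : H) ^ Nat.card H = 1 := pow_card_eq_one'
            rw [h, pow_one] at h2
            have h3 := congrArg Subtype.val h2
            simpa using h3
          · intro h
            exact h.1)
      rw [Nat.card_congr e1, Nat.card_congr (ksubEquiv Ω (p ^ 1)), pow_one]
      have hexp : ∀ q : ↥Ω, q ^ p = 1 := by
        intro q
        apply Subtype.ext
        rw [Subgroup.coe_pow, Subgroup.coe_one]
        exact hΩe.2 q.1 q.2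
      rw [Cfsg.Agent.Lib.Helper21.card_subgroups_prime_order p hΩc hexp, add_comm]
    · -- no cyclic maximal subgroup
      push Not at hγ
      have hsum : (∑ M : {M : Subgroup G // M.index = p},
          (if IsCyclic ↥M.1 then 1 else 1 + p)) =
          (1 + p) * Nat.card {M : Subgroup G // M.index = p} := by
        rw [Finset.sum_congr rfl (fun M _ => if_neg (hγ M.1 M.2)), Finset.sum_const, smul_eq_mul,
          Finset.card_univ, ← Nat.card_eq_fintype_card, mul_comm]
      rw [hsum] at Ea
      have hMmax := kul_card_maximal hG hnc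
      have hKc := kul_card_K hG hnc
      have h1 : p * Nat.card {K : Subgroup G // K.index = p ^ 2 ∧ frattini G ≤ K} ≡ p * 1
          [MOD p * p] := Nat.ModEq.mul_left' p hKc
      rw [← pow_two, mul_one] at h1
      have h2 : (1 + p) * Nat.card {M : Subgroup G // M.index = p} ≡ (1 + p) * (1 + p)
          [MOD p ^ 2] := Nat.ModEq.mul_left _ hMmax
      have h3 : Nat.card {H : Subgroup G // Nat.card H = p ^ a} + p ≡ (1 + p) * (1 + p)
          [MOD p ^ 2] := ((Nat.ModEq.add_left _ h1.symm).trans Ea).trans h2
      have h4 : (1 + p) * (1 + p) = (1 + p) + p + p ^ 2 * 1 := by ring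
      have h5 : (1 + p) + p + p ^ 2 * 1 ≡ (1 + p) + p [MOD p ^ 2] := by
        unfold Nat.ModEq
        exact Nat.add_mul_mod_self_left _ _ _
      rw [h4] at h3
      exact Nat.ModEq.add_right_cancel' p (h3.trans h5)

end Cfsg.Agent.Lib.helper23
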