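import Mathlib
import Cfsg.Agent.Lib.Helper18.ONE.Defs
import Cfsg.Agent.Lib.helper2.S5972COUNTDVDcore
import Cfsg.Agent.Lib.Helper13.S5972COUNT

set_option autoImplicit false

/-!
# Project ONE (designer helper18), rows CNTP + CNTM (helper23): cores with the statements of CP1 / CP2 / CM1 / CM2 as hypotheses.
-/

namespace Cfsg.Agent.Lib.Helper18.ONE

open Polynomial Module Cfsg.Agent.Lib.Helper13.S5955 Cfsg.Agent.Lib.helper15.S5972

/-- double counting of a relation all of whose rows have `N` elements and all of whose columns `b` have `A b` elements with `c * A b = K`. -/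
theorem onecnt_double {α β : Type*} [Finite α] [Finite β] (R : α → β → Prop) (N c K : ℕ)
    (hN : ∀ a, Nat.card {b // R a b} = N) (hK : ∀ b, c * Nat.card {a // R a b} = K) :
    c * (Nat.card α * N) = Nat.card β * K := by
  classical
  have := Fintype.ofFinite α
  have := Fintype.ofFinite β
  have e : (Σ a, {b // R a b}) ≃ (Σ b, {a // R a b}) :=
    { toFun := fun z => ⟨z.2.1, ⟨z.1, z.2.2⟩⟩
      invFun := fun z => ⟨z.2.1, ⟨z.1, z.2.2⟩⟩
      left_inv := fun _ => rfl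
      right_inv := fun _ => rfl }
  have h1 : Nat.card (Σ a, {b // R a b}) = Nat.card α * N := by
    rw [Nat.card_sigma, Finset.sum_congr rfl (fun a _ => hN a), Finset.sum_const, Finset.card_univ,
      smul_eq_mul, Nat.card_eq_fintype_card]
  have h2 : c * Nat.card (Σ b, {a // R a b}) = Nat.card β * K := by
    rw [Nat.card_sigma, Finset.mul_sum, Finset.sum_congr rfl (fun b _ => hK b), Finset.sum_const,
      Finset.card_univ, smul_eq_mul, Nat.card_eq_fintype_card]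
  rw [← h1, Nat.card_congr e, h2]

theorem onecnt_finite_sub {F : Type*} [Field F] [Fintype F] (d : ℕ) :
    Finite (Submodule F (Unit ⊕ (Fin d ⊕ Fin d) → F)) :=
  Finite.of_injective (fun W : Submodule F (Unit ⊕ (Fin d ⊕ Fin d) → F) =>
    (W : Set (Unit ⊕ (Fin d ⊕ Fin d) → F))) SetLike.coe_injective

/-- a prime `r ≠ p` dividing `a * q ^ k` divides `a` (`q` the order of a field of characteristic `p`). -/
theorem onecnt_prime_dvd {F : Type*} [Field F] [Fintype F] {p : ℕ} [Fact p.Prime] [CharP F p]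
    (r : ℕ) [Fact r.Prime] (hrp : r ≠ p) (a k : ℕ) (h : r ∣ a * Fintype.card F ^ k) : r ∣ a := by
  have hr : r.Prime := Fact.out
  rcases (Nat.Prime.dvd_mul hr).mp h with h1 | h1
  · exact h1
  · exfalso
    have h2 := hr.dvd_of_dvd_pow h1
    obtain ⟨n, _, hn⟩ := FiniteField.card F p
    rw [hn] at h2
    have h3 := hr.dvd_of_dvd_pow h2
    exact hrp ((Nat.prime_dvd_prime_iff_eq hr (Fact.out : p.Prime)).mp h3)

/-- CNTP with the statements of CP1 and CP2 (at `h = m / 2`) as hypotheses. -/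
theorem onecntp_core {F : Type*} [Field F] [Fintype F] {p : ℕ} [Fact p.Prime] [CharP F p]
    (hodd : Odd (Fintype.card F)) (d h : ℕ) (hh : h ≤ d) (r : ℕ)
    [Fact r.Prime] (hrp : r ≠ p)
    (hCP1 : ∃ N : ℕ, 0 < N ∧ ∀ W : NDp d (2 * h) F,
      Nat.card {U : Submodule F (Unit ⊕ (Fin d ⊕ Fin d) → F) //
        U ≤ W.1 ∧ Module.finrank F ↥U = h ∧ ∀ u ∈ U, Cfsg.quadFormOdd d F u = 0} = N)
    (hCP2 : ∀ U : Submodule F (Unit ⊕ (Fin d ⊕ Fin d) → F), Module.finrank F ↥U = h →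
      (∀ u ∈ U, Cfsg.quadFormOdd d F u = 0) →
      Nat.card {W : NDp d (2 * h) F // U ≤ W.1} = Fintype.card F ^ (h * (2 * d + 1 - 2 * h)))
    (hr : r ∣ Nat.card (NDp d (2 * h) F)) :
    ∃ j : ℕ, 2 * j < 2 * h ∧ r ∣ Fintype.card F ^ (2 * (d - j)) - 1 := by
  classical
  have hfin := onecnt_finite_sub (F := F) d
  obtain ⟨N, -, hN⟩ := hCP1
  have hN' : ∀ W : NDp d (2 * h) F, Nat.card {U : TSm d h F // U.1 ≤ W.1} = N := by
    intro W
    rw [← hN W]
    refine Nat.card_congr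
      { toFun := fun U => ⟨U.1.1, U.2, U.1.2.1, U.1.2.2⟩
        invFun := fun U => ⟨⟨U.1, U.2.2.1, U.2.2.2⟩, U.2.1⟩
        left_inv := fun _ => rfl
        right_inv := fun _ => rfl }
  have hK : ∀ U : TSm d h F, 1 * Nat.card {W : NDp d (2 * h) F // U.1 ≤ W.1} =
      Fintype.card F ^ (h * (2 * d + 1 - 2 * h)) := by
    intro U
    rw [one_mul]
    exact hCP2 U.1 U.2.1 U.2.2
  have hdc := onecnt_double (fun (W : NDp d (2 * h) F) (U : TSm d h F) => U.1 ≤ W.1) N 1 _ hN' hK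
  rw [one_mul] at hdc
  have h1 : r ∣ Nat.card (TSm d h F) * Fintype.card F ^ (h * (2 * d + 1 - 2 * h)) := by
    rw [← hdc]
    exact Dvd.dvd.mul_right hr N
  have h2 : r ∣ Nat.card (TSm d h F) := onecnt_prime_dvd r hrp _ _ h1
  obtain ⟨-, j, hj, hjr⟩ := s5972countdvd_core d h hh (ts_count hodd d h hh) r h2
  exact ⟨j, by omega, hjr⟩

/-- CNTM with the statements of CM1, CM2 (at `h = m / 2 ≥ 1`) and CNTP (at `m - 2`) as hypotheses. -/
theorem onecntm_core {F : Type*} [Field F] [Fintype F] {p : ℕ} [Fact p.Prime] [CharP F p]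
    (d h : ℕ) (hh1 : 1 ≤ h) (hh : h ≤ d) (r : ℕ) [Fact r.Prime] (hrp : r ≠ p)
    (hCM1 : ∃ N₁ : ℕ, 0 < N₁ ∧ ∀ W : NDm d (2 * h) F,
      Nat.card {W' : NDp d (2 * h - 2) F // W'.1 ≤ W.1} = N₁)
    (hCM2 : ∀ W' : NDp d (2 * h - 2) F,
      2 * (Fintype.card F + 1) * Nat.card {W : NDm d (2 * h) F // W'.1 ≤ W.1} =
        Fintype.card F ^ (2 * (d - h + 1) - 1) * (Fintype.card F ^ (2 * (d - h + 1)) - 1))
    (hCNTP : r ∣ Nat.card (NDp d (2 * h - 2) F) →
      ∃ j : ℕ, 2 * j < 2 * h - 2 ∧ r ∣ Fintype.card F ^ (2 * (d - j)) - 1)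
    (hr : r ∣ Nat.card (NDm d (2 * h) F)) :
    ∃ j : ℕ, 2 * j < 2 * h ∧ r ∣ Fintype.card F ^ (2 * (d - j)) - 1 := by
  classical
  have hfin := onecnt_finite_sub (F := F) d
  have hrpr : r.Prime := Fact.out
  obtain ⟨N₁, -, hN₁⟩ := hCM1
  have hdc := onecnt_double (fun (W : NDm d (2 * h) F) (W' : NDp d (2 * h - 2) F) => W'.1 ≤ W.1)
    N₁ (2 * (Fintype.card F + 1)) _ hN₁ hCM2
  have h1 : r ∣ Nat.card (NDp d (2 * h - 2) F) *
      (Fintype.card F ^ (2 * (d - h + 1) - 1) * (Fintype.card F ^ (2 * (d - h + 1)) - 1)) := by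
    rw [← hdc]
    exact Dvd.dvd.mul_left (Dvd.dvd.mul_right hr N₁) _
  rcases (Nat.Prime.dvd_mul hrpr).mp h1 with h2 | h2
  · obtain ⟨j, hj, hjr⟩ := hCNTP h2
    exact ⟨j, by omega, hjr⟩
  · rw [mul_comm] at h2
    have h3 : r ∣ Fintype.card F ^ (2 * (d - h + 1)) - 1 := onecnt_prime_dvd r hrp _ _ h2
    refine ⟨h - 1, by omega, ?_⟩
    have e : d - (h - 1) = d - h + 1 := by omega
    rw [e]
    exact h3

end Cfsg.Agent.Lib.Helper18.ONE
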