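import Mathlib
import Cfsg.Prelude.Def_IsolatedElements
import Cfsg.Agent.Lib.Helper5.InvSylow
import Cfsg.Agent.Lib.Lead.Coprime
import Cfsg.Agent.Lib.Helper1.Cores
import Cfsg.Agent.Lib.Helper1.PLength
import Cfsg.Agent.Lib.Helper18.Isolated

set_option autoImplicit false

namespace Cfsg.Agent.Lib.helper23

open scoped Pointwise

section Abstract

variable {Γ : Type*} [Group Γ]

/-- an element normalizing two subgroups normalizes their join -/
theorem zp_mem_normalizer_sup (A B : Subgroup Γ) (x : Γ)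
    (hA : x ∈ Subgroup.normalizer (A : Set Γ)) (hB : x ∈ Subgroup.normalizer (B : Set Γ)) :
    x ∈ Subgroup.normalizer ((A ⊔ B : Subgroup Γ) : Set Γ) := by
  rw [← Cfsg.Agent.Lib.Lead.conj_smul_eq_iff] at hA hB ⊢
  rw [Subgroup.smul_sup, hA, hB]

variable [Finite Γ]

theorem zp_lemZ {p q : ℕ} [Fact p.Prime] [Fact q.Prime]
    (x : Γ) (hx : orderOf x = p) (K : Subgroup Γ) [hKn : K.Normal]
    (hKcop : (Nat.card K).Coprime p) (hKx : ∀ h : Γ, h * x * h⁻¹ * x⁻¹ ∈ K)
    (Q : Subgroup Γ) [hQn : Q.Normal] (hQ : IsPGroup q Q) (hQK : Q ≤ K)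
    (hmax : ∀ R : Subgroup Γ, IsPGroup q R → x ∈ Subgroup.normalizer (R : Set Γ) → Q ≤ R → R = Q) :
    Nat.card Q = q ^ (Nat.card Γ).factorization q := by
  have hq : q.Prime := Fact.out
  have hAcard : Nat.card (Subgroup.zpowers x) = p := by rw [Nat.card_zpowers, hx]
  have hAsolv : Group.IsSolvable (Subgroup.zpowers x) :=
    Group.isSolvable_of_comm (fun a b => (Subgroup.zpowers_isMulCommutative x).is_comm.comm a b)
  have hAK : Subgroup.zpowers x ≤ Subgroup.normalizer (K : Set Γ) := by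
    rw [Subgroup.normalizer_eq_top]
    exact le_top
  have hcop : (Nat.card (Subgroup.zpowers x)).Coprime (Nat.card K) := by
    rw [hAcard]
    exact hKcop.symm
  have hQtop : Subgroup.normalizer (Q : Set Γ) = ⊤ := Subgroup.normalizer_eq_top Q
  -- invariant Sylow `q`-subgroup of `K`
  obtain ⟨Kq, hKqK, hKqpg, hAKq, hKqcard⟩ := Cfsg.Agent.Lib.Helper5.exists_invariant_sylow_sub
    (Subgroup.zpowers x) K hAK hcop hAsolv q
  have hKqQ : Kq ≤ Q := by
    have h1 : IsPGroup q (Kq ⊔ Q : Subgroup Γ) :=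
      hKqpg.to_sup_of_normal_right' hQ (by rw [hQtop]; exact le_top)
    have h2 : x ∈ Subgroup.normalizer ((Kq ⊔ Q : Subgroup Γ) : Set Γ) :=
      zp_mem_normalizer_sup Kq Q x (hAKq (Subgroup.mem_zpowers x)) (by rw [hQtop]; trivial)
    have h3 := hmax (Kq ⊔ Q) h1 h2 le_sup_right
    rw [← h3]
    exact le_sup_left
  -- `Γ = C K`
  have hcent : ∀ h : Γ, ∃ d ∈ K, h * d ∈ Subgroup.centralizer ({x} : Set Γ) := by
    intro h
    have hx' : ∀ a ∈ Subgroup.zpowers x, h⁻¹ * (a * h * a⁻¹) ∈ K := by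
      intro a ha
      obtain ⟨i, rfl⟩ := Subgroup.mem_zpowers_iff.mp ha
      rw [← QuotientGroup.eq_one_iff]
      have hc : Commute ((x : Γ) : Γ ⧸ K) ((h : Γ) : Γ ⧸ K) := by
        have h1 := (QuotientGroup.eq_one_iff _).mpr (hKx h)
        rw [QuotientGroup.mk_mul, QuotientGroup.mk_mul, QuotientGroup.mk_mul,
          QuotientGroup.mk_inv, QuotientGroup.mk_inv] at h1
        have h2 : ((h : Γ) : Γ ⧸ K) * ((x : Γ) : Γ ⧸ K) = ((x : Γ) : Γ ⧸ K) * ((h : Γ) : Γ ⧸ K) := by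
          calc ((h : Γ) : Γ ⧸ K) * ((x : Γ) : Γ ⧸ K)
              = (((h : Γ) : Γ ⧸ K) * ((x : Γ) : Γ ⧸ K) * ((h : Γ) : Γ ⧸ K)⁻¹ *
                ((x : Γ) : Γ ⧸ K)⁻¹) * (((x : Γ) : Γ ⧸ K) * ((h : Γ) : Γ ⧸ K)) := by group
            _ = ((x : Γ) : Γ ⧸ K) * ((h : Γ) : Γ ⧸ K) := by rw [h1, one_mul]
        exact h2.symm
      have hc' := (hc.zpow_left i)
      rw [QuotientGroup.mk_mul, QuotientGroup.mk_mul, QuotientGroup.mk_mul,
        QuotientGroup.mk_inv, QuotientGroup.mk_inv, QuotientGroup.mk_zpow]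
      rw [hc'.eq]
      group
    obtain ⟨d, hd, hdc⟩ := Cfsg.Agent.Lib.Lead.coset_fixed (Subgroup.zpowers x) K hAK hcop
      (Or.inl hAsolv) h hx'
    refine ⟨d, hd, ?_⟩
    rw [Subgroup.mem_centralizer_singleton_iff]
    exact ((Subgroup.mem_centralizer_iff.mp hdc) x (Subgroup.mem_zpowers x)).symm
  have hsup : Subgroup.centralizer ({x} : Set Γ) ⊔ K = ⊤ := by
    rw [eq_top_iff]
    intro h _
    obtain ⟨d, hd, hdc⟩ := hcent h
    have e : h = (h * d) * d⁻¹ := by group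
    rw [e]
    exact Subgroup.mul_mem_sup hdc (K.inv_mem hd)
  -- Sylow `q`-subgroup of the centralizer
  set C : Subgroup Γ := Subgroup.centralizer ({x} : Set Γ) with hC
  let R0' : Sylow q C := default
  set R0 : Subgroup Γ := (R0' : Subgroup C).map C.subtype with hR0
  have hR0C : R0 ≤ C := Subgroup.map_subtype_le _
  have hR0pg : IsPGroup q R0 := R0'.2.map C.subtype
  have hR0x : x ∈ Subgroup.normalizer (R0 : Set Γ) := by
    rw [Subgroup.mem_normalizer_iff]
    intro r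
    have key : ∀ r ∈ R0, x * r * x⁻¹ = r := by
      intro r hr
      have h1 := Subgroup.mem_centralizer_singleton_iff.mp (hR0C hr)
      rw [← h1, mul_inv_cancel_right]
    constructor
    · intro hr
      rw [key r hr]
      exact hr
    · intro hr
      have h2 := key _ hr
      have h3 : r = x * r * x⁻¹ := by
        have h4 : x * (x * r * x⁻¹) * x⁻¹ = x * r * x⁻¹ := h2
        have h5 : x * r * x⁻¹ = r := by
          have h6 : x⁻¹ * (x * (x * r * x⁻¹) * x⁻¹) * x = x⁻¹ * (x * r * x⁻¹) * x := by rw [h4]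
          have e1 : x⁻¹ * (x * (x * r * x⁻¹) * x⁻¹) * x = x * r * x⁻¹ := by group
          have e2 : x⁻¹ * (x * r * x⁻¹) * x = r := by group
          rw [e1, e2] at h6
          exact h6
        exact h5.symm
      rw [h3]
      exact hr
  have hR0Q : R0 ≤ Q := by
    have h1 : IsPGroup q (R0 ⊔ Q : Subgroup Γ) :=
      hR0pg.to_sup_of_normal_right' hQ (by rw [hQtop]; exact le_top)
    have h2 : x ∈ Subgroup.normalizer ((R0 ⊔ Q : Subgroup Γ) : Set Γ) :=
      zp_mem_normalizer_sup R0 Q x hR0x (by rw [hQtop]; trivial)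
    have h3 := hmax (R0 ⊔ Q) h1 h2 le_sup_right
    rw [← h3]
    exact le_sup_left
  -- `q` does not divide the index of `K`
  have hidx : ¬ q ∣ K.index := by
    have h1 : K.index = (K ⊓ C).relIndex C := by
      rw [Subgroup.inf_relIndex_right, ← Subgroup.relIndex_sup_right, hsup,
        Subgroup.relIndex_top_right]
    have h2 : (K ⊓ C).relIndex C ∣ R0.relIndex C :=
      Subgroup.relIndex_dvd_of_le_left C (le_inf (hR0Q.trans hQK) hR0C)
    have h3 : R0.relIndex C = (R0' : Subgroup C).index := by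
      rw [Subgroup.relIndex, hR0]
      congr 1
      exact Subgroup.comap_map_eq_self_of_injective C.subtype_injective _
    intro hd
    rw [h1] at hd
    have := hd.trans h2
    rw [h3] at this
    exact R0'.not_dvd_index this
  -- arithmetic
  have hK0 : Nat.card K ≠ 0 := Nat.card_pos.ne'
  have hfact : (Nat.card Γ).factorization q = (Nat.card K).factorization q := by
    rw [← Subgroup.card_mul_index K, Nat.factorization_mul hK0 (Subgroup.index_ne_zero_of_finite),
      Finsupp.add_apply, Nat.factorization_eq_zero_of_not_dvd hidx, add_zero]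
  obtain ⟨j, hj⟩ := hQ.exists_card_eq
  have h1 : j ≤ (Nat.card K).factorization q := by
    rw [← hq.pow_dvd_iff_le_factorization hK0, ← hj]
    exact Subgroup.card_dvd_of_le hQK
  have h2 : (Nat.card K).factorization q ≤ j := by
    have h3 : q ^ (Nat.card K).factorization q ∣ q ^ j := by
      rw [← hKqcard, ← hj]
      exact Subgroup.card_dvd_of_le hKqQ
    exact (Nat.pow_dvd_pow_iff_le_right hq.one_lt).mp h3
  rw [hj, hfact, le_antisymm h1 h2]

end Abstract

section Main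

variable {G : Type*} [Group G] [Finite G] {p : ℕ} [Fact p.Prime]

theorem zp_core_eq_bot (x : G) (hnz : ¬ Cfsg.InZStar p x)
    (hquot : ∀ (N : Subgroup G) [N.Normal], N ≠ ⊥ →
      Cfsg.InZStar p (QuotientGroup.mk x : G ⧸ N)) :
    Cfsg.pPrimeCore p G = ⊥ := by
  by_contra hne
  have hn := Cfsg.Agent.Lib.Helper1.pPrimeCore_normal (G := G) p
  have h1 := hquot (Cfsg.pPrimeCore p G) hne
  apply hnz
  intro g
  have h2 := h1 (QuotientGroup.mk g)
  rw [Cfsg.Agent.Lib.Helper1.pPrimeCore_quotient_eq_bot, Subgroup.mem_bot] at h2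
  rw [← QuotientGroup.eq_one_iff]
  simpa using h2

theorem zp_mem_smul {q : ℕ} (g : G) (P : Sylow q G) (y : G) (hy : y ∈ (P : Subgroup G)) :
    g * y * g⁻¹ ∈ ((g • P : Sylow q G) : Subgroup G) := by
  rw [Sylow.coe_subgroup_smul]
  have := Subgroup.smul_mem_pointwise_smul y (MulAut.conj g) (P : Subgroup G) hy
  simpa [MulAut.smul_def] using this

theorem zp_transitive (x : G) (hx : orderOf x = p) (hiso : Cfsg.IsIsolated x) (q : ℕ)
    [Fact q.Prime] (S₁ S₂ : Sylow q G)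
    (h1 : x ∈ Subgroup.normalizer ((S₁ : Subgroup G) : Set G))
    (h2 : x ∈ Subgroup.normalizer ((S₂ : Subgroup G) : Set G)) :
    ∃ c ∈ Subgroup.centralizer ({x} : Set G),
      (S₁ : Subgroup G).map (MulAut.conj c).toMonoidHom = (S₂ : Subgroup G) := by
  obtain ⟨g, hg⟩ := MulAction.exists_smul_eq G S₁ S₂
  set H : Subgroup G := Subgroup.normalizer ((S₁ : Subgroup G) : Set G) with hH
  have hx1 : x • S₁ = S₁ := Sylow.smul_eq_iff_mem_normalizer.mpr h1
  have hx2 : x • S₂ = S₂ := Sylow.smul_eq_iff_mem_normalizer.mpr h2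
  have hyH : g⁻¹ * x * g ∈ H := by
    apply Sylow.smul_eq_iff_mem_normalizer.mp
    rw [mul_smul, mul_smul, hg, hx2, ← hg, inv_smul_smul]
  have hpgx : IsPGroup p (Subgroup.zpowers (⟨x, h1⟩ : H)) :=
    IsPGroup.of_card (n := 1) (by rw [Nat.card_zpowers, Subgroup.orderOf_mk, hx, pow_one])
  have hoy : orderOf (g⁻¹ * x * g) = p := by
    have := Cfsg.Agent.Lib.Helper18.orderOf_conj_h18 g⁻¹ x
    rw [inv_inv] at this
    rw [this, hx]
  have hpgy : IsPGroup p (Subgroup.zpowers (⟨g⁻¹ * x * g, hyH⟩ : H)) :=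
    IsPGroup.of_card (n := 1) (by rw [Nat.card_zpowers, Subgroup.orderOf_mk, hoy, pow_one])
  obtain ⟨P', hP'⟩ := hpgx.exists_le_sylow
  obtain ⟨Q', hQ'⟩ := hpgy.exists_le_sylow
  obtain ⟨h, hh⟩ := MulAction.exists_smul_eq H Q' P'
  have hxP' : (⟨x, h1⟩ : H) ∈ (P' : Subgroup H) := hP' (Subgroup.mem_zpowers _)
  have hyQ' : (⟨g⁻¹ * x * g, hyH⟩ : H) ∈ (Q' : Subgroup H) := hQ' (Subgroup.mem_zpowers _)
  have hzP' : h * (⟨g⁻¹ * x * g, hyH⟩ : H) * h⁻¹ ∈ (P' : Subgroup H) := by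
    have := zp_mem_smul h Q' _ hyQ'
    rw [hh] at this
    exact this
  set R : Subgroup G := (P' : Subgroup H).map H.subtype with hR
  have hRpg : IsPGroup p R := P'.2.map H.subtype
  have hxR : x ∈ R := ⟨_, hxP', rfl⟩
  have hzR : (h : G) * (g⁻¹ * x * g) * (h : G)⁻¹ ∈ R := ⟨_, hzP', rfl⟩
  have hcomm := Cfsg.Agent.Lib.Helper18.isIsolated_commute_of_mem_pGroup hiso hRpg hxR _ hzR
  have hz : ((h : G) * g⁻¹) * x * ((h : G) * g⁻¹)⁻¹ = x := by
    apply hiso
    have e : ((h : G) * g⁻¹) * x * ((h : G) * g⁻¹)⁻¹ = (h : G) * (g⁻¹ * x * g) * (h : G)⁻¹ := by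
      group
    rw [e]
    exact hcomm.symm
  refine ⟨g * (h : G)⁻¹, ?_, ?_⟩
  · rw [Subgroup.mem_centralizer_singleton_iff]
    have h3 : ((h : G) * g⁻¹) * x = x * ((h : G) * g⁻¹) := by
      calc ((h : G) * g⁻¹) * x = (((h : G) * g⁻¹) * x * ((h : G) * g⁻¹)⁻¹) * ((h : G) * g⁻¹) := by
            group
        _ = x * ((h : G) * g⁻¹) := by rw [hz]
    calc g * (h : G)⁻¹ * x = ((h : G) * g⁻¹)⁻¹ * (x * ((h : G) * g⁻¹)) * ((h : G) * g⁻¹)⁻¹ := by
          group
      _ = ((h : G) * g⁻¹)⁻¹ * (((h : G) * g⁻¹) * x) * ((h : G) * g⁻¹)⁻¹ := by rw [h3]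
      _ = x * (g * (h : G)⁻¹) := by group
  · have hh' : ((h : G)⁻¹) • S₁ = S₁ :=
      Sylow.smul_eq_iff_mem_normalizer.mpr (H.inv_mem h.2)
    have hc : (g * (h : G)⁻¹) • S₁ = S₂ := by rw [mul_smul, hh', hg]
    have := congrArg (fun S : Sylow q G => (S : Subgroup G)) hc
    simp only [Sylow.coe_subgroup_smul] at this
    exact this

end Main

section Main2

variable {G : Type*} [Group G] [Finite G] {p : ℕ} [Fact p.Prime]

theorem zp_max_invariant (x : G) (hx : orderOf x = p) (hnz : ¬ Cfsg.InZStar p x)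
    (hmin : ∀ (H : Subgroup G) (hxH : x ∈ H), H ≠ ⊤ → Cfsg.InZStar p (⟨x, hxH⟩ : ↥H))
    (hquot : ∀ (N : Subgroup G) [N.Normal], N ≠ ⊥ →
      Cfsg.InZStar p (QuotientGroup.mk x : G ⧸ N))
    (q : ℕ) [Fact q.Prime] (Q : Subgroup G) (hQ : IsPGroup q Q)
    (hxQ : x ∈ Subgroup.normalizer (Q : Set G))
    (hmax : ∀ R : Subgroup G, IsPGroup q R → x ∈ Subgroup.normalizer (R : Set G) → Q ≤ R → R = Q) :
    Q = ⊥ ∨ ∃ S : Sylow q G, (S : Subgroup G) = Q := by
  have hq : q.Prime := Fact.out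
  have hp : p.Prime := Fact.out
  by_cases hqp : q = p
  · subst hqp
    right
    have hpg : IsPGroup q (Subgroup.zpowers x) :=
      IsPGroup.of_card (n := 1) (by rw [Nat.card_zpowers, hx, pow_one])
    have h1 : IsPGroup q (Subgroup.zpowers x ⊔ Q : Subgroup G) :=
      hpg.to_sup_of_normal_right' hQ (Subgroup.zpowers_le.mpr hxQ)
    obtain ⟨P, hP⟩ := h1.exists_le_sylow
    have hxP : x ∈ (P : Subgroup G) := hP (Subgroup.mem_sup_left (Subgroup.mem_zpowers x))
    exact ⟨P, hmax P P.2 (Subgroup.le_normalizer hxP) (le_sup_right.trans hP)⟩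
  by_cases hQ1 : Q = ⊥
  · left
    exact hQ1
  right
  have hO := zp_core_eq_bot x hnz hquot
  obtain ⟨j, hj⟩ := hQ.exists_card_eq
  have hQcop : (Nat.card Q).Coprime p := by
    rw [hj]
    exact Nat.Coprime.pow_left _ ((Nat.coprime_primes hq hp).mpr hqp)
  set H : Subgroup G := Subgroup.normalizer (Q : Set G) with hH
  have hHne : H ≠ ⊤ := by
    intro h
    have hQn : Q.Normal := Subgroup.normalizer_eq_top_iff.mp h
    have h1 := Cfsg.Agent.Lib.Helper1.le_pPrimeCore hQn hQcop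
    rw [hO] at h1
    exact hQ1 (le_bot_iff.mp h1)
  have hZ := hmin H hxQ hHne
  have hKn := Cfsg.Agent.Lib.Helper1.pPrimeCore_normal (G := H) p
  have hKcop := Cfsg.Agent.Lib.Helper1.pPrimeCore_card_coprime (G := H) p
  have hQle : Q ≤ H := Subgroup.le_normalizer
  have hQn' : (Q.subgroupOf H).Normal := Subgroup.normal_in_normalizer
  have hQ'pg : IsPGroup q (Q.subgroupOf H) := hQ.comap_subtype
  have hQ'card : Nat.card (Q.subgroupOf H) = Nat.card Q :=
    Nat.card_congr (Subgroup.subgroupOfEquivOfLe hQle).toEquiv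
  have hQ'K : Q.subgroupOf H ≤ Cfsg.pPrimeCore p H :=
    Cfsg.Agent.Lib.Helper1.le_pPrimeCore hQn' (by rw [hQ'card]; exact hQcop)
  have hmax' : ∀ R' : Subgroup H, IsPGroup q R' →
      (⟨x, hxQ⟩ : H) ∈ Subgroup.normalizer (R' : Set H) → Q.subgroupOf H ≤ R' →
      R' = Q.subgroupOf H := by
    intro R' hR' hxR' hQR'
    have h1 : IsPGroup q (R'.map H.subtype) := hR'.map H.subtype
    have h2 : x ∈ Subgroup.normalizer ((R'.map H.subtype : Subgroup G) : Set G) :=
      Subgroup.le_normalizer_map H.subtype ⟨_, hxR', rfl⟩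
    have h3 : Q ≤ R'.map H.subtype := by
      intro y hy
      exact ⟨⟨y, hQle hy⟩, hQR' (Subgroup.mem_subgroupOf.mpr hy), rfl⟩
    have h4 := hmax _ h1 h2 h3
    rw [← h4]
    exact (Subgroup.comap_map_eq_self_of_injective H.subtype_injective R').symm
  have hcard' := zp_lemZ (⟨x, hxQ⟩ : H) (by rw [Subgroup.orderOf_mk, hx])
    (Cfsg.pPrimeCore p H) hKcop hZ (Q.subgroupOf H) hQ'pg hQ'K hmax'
  rw [hQ'card] at hcard'
  have hnd : ¬ q ^ ((Nat.card H).factorization q + 1) ∣ Nat.card G := by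
    intro hd
    have := Sylow.prime_pow_dvd_card_normalizer hd hcard'
    exact Nat.pow_succ_factorization_not_dvd Nat.card_pos.ne' hq this
  have hG0 : Nat.card G ≠ 0 := Nat.card_pos.ne'
  have hfact : (Nat.card G).factorization q = (Nat.card H).factorization q := by
    apply le_antisymm
    · by_contra hlt
      push Not at hlt
      exact hnd ((hq.pow_dvd_iff_le_factorization hG0).mpr hlt)
    · rw [← hq.pow_dvd_iff_le_factorization hG0, ← hcard']
      exact Subgroup.card_subgroup_dvd_card Q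
  exact ⟨Sylow.ofCard Q (by rw [hcard', hfact]), rfl⟩

end Main2

end Cfsg.Agent.Lib.helper23
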