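import Mathlib
import Cfsg.Agent.Lib.helper23.ZpMin
import Cfsg.Agent.Lib.Helper10.PComp
import Cfsg.Agent.Lib.Helper1.MinNormal

set_option autoImplicit false

namespace Cfsg.Agent.Lib.helper23

open scoped Pointwise commutatorElement

section ZpSimple

variable {G : Type*} [Group G] [Finite G] {p : ℕ} [Fact p.Prime]

/-- a subnormal `p'`-subgroup is trivial when the `p'`-core is -/
theorem zq_sub_eq_bot (hO : Cfsg.pPrimeCore p G = ⊥) (N T : Subgroup G) (hN : N.Normal)
    (hTN : T ≤ N) (hT : (T.subgroupOf N).Normal) (hcop : (Nat.card T).Coprime p) : T = ⊥ := by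
  have hsub : T.IsSubnormal := Subgroup.IsSubnormal.step T N hTN hN.isSubnormal hT
  have h1 := Cfsg.Agent.Lib.Helper10.subnormal_coprime_le_pPrimeCore p T hsub hcop
  rw [hO] at h1
  exact le_bot_iff.mp h1

/-- the `p'`-core of a normal subgroup is trivial -/
theorem zq_core_sub_eq_bot (hO : Cfsg.pPrimeCore p G = ⊥) (N : Subgroup G) (hN : N.Normal) :
    Cfsg.pPrimeCore p N = ⊥ := by
  have h1 : ((Cfsg.pPrimeCore p N).map N.subtype) = ⊥ := by
    apply zq_sub_eq_bot hO N _ hN (Subgroup.map_subtype_le _)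
    · rw [Subgroup.subgroupOf, Subgroup.comap_map_eq_self_of_injective N.subtype_injective]
      exact Cfsg.Agent.Lib.Helper1.pPrimeCore_normal p
    · rw [Subgroup.card_map_of_injective N.subtype_injective]
      exact Cfsg.Agent.Lib.Helper1.pPrimeCore_card_coprime p
  exact (Subgroup.map_eq_bot_iff_of_injective _ N.subtype_injective).mp h1

theorem zq_normalClosure_eq_top (x : G) (hiso : Cfsg.IsIsolated x) (hnz : ¬ Cfsg.InZStar p x)
    (hmin : ∀ (H : Subgroup G) (hxH : x ∈ H), H ≠ ⊤ → Cfsg.InZStar p (⟨x, hxH⟩ : ↥H))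
    (hquot : ∀ (N : Subgroup G) [N.Normal], N ≠ ⊥ →
      Cfsg.InZStar p (QuotientGroup.mk x : G ⧸ N)) :
    Subgroup.normalClosure ({x} : Set G) = ⊤ := by
  have hO := zp_core_eq_bot x hnz hquot
  by_contra hne
  have hxL : x ∈ Subgroup.normalClosure ({x} : Set G) :=
    Subgroup.subset_normalClosure (Set.mem_singleton x)
  have hZ := hmin _ hxL hne
  have hcore := zq_core_sub_eq_bot hO (Subgroup.normalClosure ({x} : Set G))
    Subgroup.normalClosure_normal
  apply hnz
  intro g
  have hgL : g * x * g⁻¹ ∈ Subgroup.normalClosure ({x} : Set G) :=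
    Subgroup.normalClosure_normal.conj_mem x hxL g
  have h1 := hZ ⟨g * x * g⁻¹, hgL⟩
  rw [hcore, Subgroup.mem_bot] at h1
  have h2 : (g * x * g⁻¹) * x * (g * x * g⁻¹)⁻¹ * x⁻¹ = 1 := congrArg Subtype.val h1
  have hc : Commute x (g * x * g⁻¹) := by
    have h3 : (g * x * g⁻¹) * x = x * (g * x * g⁻¹) := by
      calc (g * x * g⁻¹) * x
          = ((g * x * g⁻¹) * x * (g * x * g⁻¹)⁻¹ * x⁻¹) * (x * (g * x * g⁻¹)) := by group
        _ = x * (g * x * g⁻¹) := by rw [h2, one_mul]
    exact h3.symm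
  rw [hiso g hc, mul_inv_cancel]
  exact Subgroup.one_mem _

/-- a normal subgroup containing `x` is everything -/
theorem zq_eq_top_of_mem (x : G) (hcl : Subgroup.normalClosure ({x} : Set G) = ⊤)
    (M : Subgroup G) (hM : M.Normal) (hx : x ∈ M) : M = ⊤ := by
  rw [eq_top_iff, ← hcl]
  exact Subgroup.normalClosure_le_normal (Set.singleton_subset_iff.mpr hx)

end ZpSimple

section ZpSimple2

variable {G : Type*} [Group G]

theorem zq_decomp (N : Subgroup G) [hN : N.Normal] (x : G) (htop : N ⊔ Subgroup.zpowers x = ⊤)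
    (g : G) : ∃ n ∈ N, ∃ z ∈ Subgroup.zpowers x, n * z = g := by
  have hg : g ∈ N ⊔ Subgroup.zpowers x := by
    rw [htop]
    exact Subgroup.mem_top g
  have h1 : g ∈ (N : Set G) * (Subgroup.zpowers x : Set G) := by
    rw [← Subgroup.normal_mul]
    exact hg
  obtain ⟨n, hn, z, hz, rfl⟩ := Set.mem_mul.mp h1
  exact ⟨n, hn, z, hz, rfl⟩

theorem zq_commutator_le (N : Subgroup G) [hN : N.Normal] (x : G)
    (htop : N ⊔ Subgroup.zpowers x = ⊤) : commutator G ≤ N := by
  rw [commutator_def, Subgroup.commutator_le]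
  intro g₁ _ g₂ _
  obtain ⟨o₁, ho₁, z₁, hz₁, rfl⟩ := zq_decomp N x htop g₁
  obtain ⟨o₂, ho₂, z₂, hz₂, rfl⟩ := zq_decomp N x htop g₂
  have hker : ∀ y : G, QuotientGroup.mk' N y = 1 ↔ y ∈ N := fun y => QuotientGroup.eq_one_iff y
  rw [← hker, map_commutatorElement]
  have e1 : QuotientGroup.mk' N (o₁ * z₁) = QuotientGroup.mk' N z₁ := by
    rw [map_mul, (hker o₁).mpr ho₁, one_mul]
  have e2 : QuotientGroup.mk' N (o₂ * z₂) = QuotientGroup.mk' N z₂ := by
    rw [map_mul, (hker o₂).mpr ho₂, one_mul]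
  rw [e1, e2, ← map_commutatorElement]
  have hcomm : ⁅z₁, z₂⁆ = 1 := by
    rw [commutatorElement_eq_one_iff_mul_comm]
    obtain ⟨i, rfl⟩ := Subgroup.mem_zpowers_iff.mp hz₁
    obtain ⟨j, rfl⟩ := Subgroup.mem_zpowers_iff.mp hz₂
    rw [← zpow_add, ← zpow_add, add_comm]
  rw [hcomm, map_one]

theorem zq_commutator_sup (x : G) (hcl : Subgroup.normalClosure ({x} : Set G) = ⊤) :
    commutator G ⊔ Subgroup.zpowers x = ⊤ := by
  rw [eq_top_iff, ← hcl, Subgroup.normalClosure, Subgroup.closure_le]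
  intro y hy
  rw [Group.mem_conjugatesOfSet_iff] at hy
  obtain ⟨a, ha, hay⟩ := hy
  rw [Set.mem_singleton_iff] at ha
  subst ha
  obtain ⟨g, rfl⟩ := isConj_iff.mp hay
  have e : g * a * g⁻¹ = ⁅g, a⁆ * a := by
    rw [commutatorElement_def]
    group
  rw [e]
  refine Subgroup.mul_mem_sup ?_ (Subgroup.mem_zpowers a)
  rw [commutator_def]
  exact Subgroup.commutator_mem_commutator (Subgroup.mem_top g) (Subgroup.mem_top a)

/-- if `N` and `x` commute with `c` and generate `G` then `c` is central -/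
theorem zq_central_of_commute (N : Subgroup G) (x c : G) (htop : N ⊔ Subgroup.zpowers x = ⊤)
    (hN : ∀ n ∈ N, n * c = c * n) (hx : x * c = c * x) : c ∈ Subgroup.center G := by
  have h1 : N ⊔ Subgroup.zpowers x ≤ Subgroup.centralizer {c} := by
    apply sup_le
    · intro n hn
      rw [Subgroup.mem_centralizer_singleton_iff]
      exact hN n hn
    · rw [Subgroup.zpowers_le, Subgroup.mem_centralizer_singleton_iff]
      exact hx
  rw [htop] at h1
  rw [Subgroup.mem_center_iff]
  intro g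
  have := h1 (Subgroup.mem_top g)
  rw [Subgroup.mem_centralizer_singleton_iff] at this
  exact this

end ZpSimple2

section ZpSimple3

variable {G : Type*} [Group G] [Finite G] {p : ℕ} [Fact p.Prime]

/-- a central Sylow subgroup has a normal complement -/
theorem zq_central_sylow (P : Sylow p G) (hc : (P : Subgroup G) ≤ Subgroup.center G) :
    ∃ Y : Subgroup G, Y.Normal ∧ Nat.card Y = (P : Subgroup G).index := by
  have hP : Subgroup.normalizer (P : Set G) ≤ Subgroup.centralizer (P : Set G) := by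
    have h1 : Subgroup.centralizer (P : Set G) = ⊤ :=
      Subgroup.centralizer_eq_top_iff_subset.mpr hc
    rw [h1]
    exact le_top
  refine ⟨(MonoidHom.transferSylow P hP).ker, inferInstance, ?_⟩
  exact (MonoidHom.ker_transferSylow_isComplement' P hP).index_eq_card.symm

/-- an element of order `p` of `T` commuting with `x` -/
theorem zq_exists_commuting (x : G) (hx : orderOf x = p) (hiso : Cfsg.IsIsolated x)
    (N : Subgroup G) [hN : N.Normal] (htop : N ⊔ Subgroup.zpowers x = ⊤)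
    (T : Subgroup G) (hNT : N ≤ Subgroup.normalizer (T : Set G)) (hpT : p ∣ Nat.card T) :
    ∃ c ∈ T, c ≠ 1 ∧ c * x = x * c := by
  have hp : p.Prime := Fact.out
  obtain ⟨c₀, hc₀⟩ := exists_prime_orderOf_dvd_card' (G := T) p hpT
  have hc₀' : orderOf (c₀ : G) = p := by rw [Subgroup.orderOf_coe, hc₀]
  have hpg0 : IsPGroup p (Subgroup.zpowers (c₀ : G)) :=
    IsPGroup.of_card (n := 1) (by rw [Nat.card_zpowers, hc₀', pow_one])
  have hpgx : IsPGroup p (Subgroup.zpowers x) :=
    IsPGroup.of_card (n := 1) (by rw [Nat.card_zpowers, hx, pow_one])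
  obtain ⟨P₁, hP₁⟩ := hpg0.exists_le_sylow
  obtain ⟨P, hP⟩ := hpgx.exists_le_sylow
  have hxP : x ∈ (P : Subgroup G) := hP (Subgroup.mem_zpowers x)
  obtain ⟨g, hg⟩ := MulAction.exists_smul_eq G P P₁
  obtain ⟨n, hn, z, hz, rfl⟩ := zq_decomp N x htop g
  have hzP : z • P = P :=
    Sylow.smul_eq_iff_mem_normalizer.mpr (Subgroup.le_normalizer (hP hz))
  rw [mul_smul, hzP] at hg
  have hc₀P₁ : (c₀ : G) ∈ (P₁ : Subgroup G) := hP₁ (Subgroup.mem_zpowers _)
  have hcP : n⁻¹ * (c₀ : G) * n ∈ (P : Subgroup G) := by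
    have h1 := zp_mem_smul n⁻¹ P₁ _ hc₀P₁
    rw [← hg, inv_smul_smul, inv_inv] at h1
    exact h1
  have hcT : n⁻¹ * (c₀ : G) * n ∈ T := by
    have h1 := (Subgroup.mem_normalizer_iff.mp (hNT (N.inv_mem hn)) (c₀ : G)).mp c₀.2
    rw [inv_inv] at h1
    exact h1
  refine ⟨n⁻¹ * (c₀ : G) * n, hcT, ?_, ?_⟩
  · intro h1
    have h2 : (c₀ : G) = 1 := by
      have e : (c₀ : G) = n * (n⁻¹ * (c₀ : G) * n) * n⁻¹ := by group
      rw [e, h1]
      group
    rw [h2, orderOf_one] at hc₀'
    exact hp.one_lt.ne hc₀'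
  · exact (Cfsg.Agent.Lib.Helper18.isIsolated_commute_of_mem_pGroup hiso P.2 hxP _ hcP).eq

end ZpSimple3

section ZpSimple4

variable {G : Type*} [Group G] [Finite G] {p : ℕ} [Fact p.Prime]

/-- a central minimal normal subgroup is impossible -/
theorem zq_central_false (x : G) (hiso : Cfsg.IsIsolated x)
    (hnz : ¬ Cfsg.InZStar p x)
    (hquot : ∀ (N : Subgroup G) [N.Normal], N ≠ ⊥ →
      Cfsg.InZStar p (QuotientGroup.mk x : G ⧸ N))
    (hO : Cfsg.pPrimeCore p G = ⊥)
    (N : Subgroup G) (hN : N.Normal) (hN1 : N ≠ ⊥)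
    (hNmin : ∀ M : Subgroup G, M.Normal → M ≤ N → M = ⊥ ∨ M = N)
    (hNc : N ≤ Subgroup.center G) (hpN : p ∣ Nat.card N) : False := by
  have hp : p.Prime := Fact.out
  obtain ⟨n₀, hn₀⟩ := exists_prime_orderOf_dvd_card' (G := N) p hpN
  have hn₀' : orderOf (n₀ : G) = p := by rw [Subgroup.orderOf_coe, hn₀]
  have hZn : (Subgroup.zpowers (n₀ : G)).Normal := by
    constructor
    intro y hy g
    have hyc : y ∈ Subgroup.center G := hNc ((Subgroup.zpowers_le.mpr n₀.2) hy)
    have h1 : g * y * g⁻¹ = y := by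
      rw [Subgroup.mem_center_iff] at hyc
      rw [hyc g]
      group
    rw [h1]
    exact hy
  have hZN : Subgroup.zpowers (n₀ : G) = N := by
    rcases hNmin _ hZn (Subgroup.zpowers_le.mpr n₀.2) with h | h
    · exfalso
      have h1 : (n₀ : G) ∈ (⊥ : Subgroup G) := h ▸ Subgroup.mem_zpowers _
      rw [Subgroup.mem_bot] at h1
      rw [h1, orderOf_one] at hn₀'
      exact hp.one_lt.ne hn₀'
    · exact h
  have hNcard : Nat.card N = p := by rw [← hZN, Nat.card_zpowers, hn₀']
  have hq := hquot N hN1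
  have hMbarn : (Cfsg.pPrimeCore p (G ⧸ N)).Normal := Cfsg.Agent.Lib.Helper1.pPrimeCore_normal p
  have hMbarc : (Nat.card (Cfsg.pPrimeCore p (G ⧸ N))).Coprime p :=
    Cfsg.Agent.Lib.Helper1.pPrimeCore_card_coprime p
  set M : Subgroup G := (Cfsg.pPrimeCore p (G ⧸ N)).comap (QuotientGroup.mk' N) with hM
  have hMn : M.Normal := hMbarn.comap _
  have hMcard : Nat.card M = Nat.card N * Nat.card (Cfsg.pPrimeCore p (G ⧸ N)) :=
    Cfsg.Agent.Lib.Helper10.card_comap_mk' N _
  have hNM : N ≤ M := by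
    intro y hy
    rw [hM, Subgroup.mem_comap]
    have h1 : QuotientGroup.mk' N y = 1 := (QuotientGroup.eq_one_iff y).mpr hy
    rw [h1]
    exact Subgroup.one_mem _
  have hcommM : ∀ g : G, g * x * g⁻¹ * x⁻¹ ∈ M := by
    intro g
    rw [hM, Subgroup.mem_comap]
    simpa using hq (QuotientGroup.mk g)
  have hN'card : Nat.card (N.subgroupOf M) = p := by
    rw [Nat.card_congr (Subgroup.subgroupOfEquivOfLe hNM).toEquiv, hNcard]
  have hN'idx : (N.subgroupOf M).index = Nat.card (Cfsg.pPrimeCore p (G ⧸ N)) := by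
    have h1 := Subgroup.card_mul_index (N.subgroupOf M)
    rw [hN'card, hMcard, hNcard] at h1
    exact Nat.eq_of_mul_eq_mul_left hp.pos h1
  have hN'pg : IsPGroup p (N.subgroupOf M) :=
    IsPGroup.of_card (n := 1) (by rw [hN'card, pow_one])
  have hnd : ¬ p ∣ (N.subgroupOf M).index := by
    rw [hN'idx]
    exact (Nat.Prime.coprime_iff_not_dvd hp).mp hMbarc.symm
  have hPc : ((hN'pg.toSylow hnd : Sylow p M) : Subgroup M) ≤ Subgroup.center M := by
    intro y hy
    have hy' : (y : G) ∈ N := Subgroup.mem_subgroupOf.mp hy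
    rw [Subgroup.mem_center_iff]
    intro g
    apply Subtype.ext
    have h1 := Subgroup.mem_center_iff.mp (hNc hy') (g : G)
    simpa using h1
  obtain ⟨Y', hY'n, hY'card⟩ := zq_central_sylow (hN'pg.toSylow hnd) hPc
  have hY'card' : Nat.card Y' = Nat.card (Cfsg.pPrimeCore p (G ⧸ N)) := by
    rw [hY'card]
    exact hN'idx
  have hY : Y'.map M.subtype = ⊥ := by
    apply zq_sub_eq_bot hO M _ hMn (Subgroup.map_subtype_le _)
    · rw [Subgroup.subgroupOf, Subgroup.comap_map_eq_self_of_injective M.subtype_injective]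
      exact hY'n
    · rw [Subgroup.card_map_of_injective M.subtype_injective, hY'card']
      exact hMbarc
  have hY'1 : Nat.card Y' = 1 := by
    have h1 := (Subgroup.map_eq_bot_iff_of_injective _ M.subtype_injective).mp hY
    rw [h1, Subgroup.card_bot]
  have hMN : N = M := by
    have h1 : Nat.card M = Nat.card N := by rw [hMcard, ← hY'card', hY'1, mul_one]
    exact Subgroup.eq_of_le_of_card_ge hNM (le_of_eq h1)
  apply hnz
  intro g
  have h1 : g * x * g⁻¹ * x⁻¹ ∈ Subgroup.center G := hNc (hMN ▸ hcommM g)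
  have hc : Commute x (g * x * g⁻¹) := by
    have hz := Subgroup.mem_center_iff.mp h1 x
    show x * (g * x * g⁻¹) = (g * x * g⁻¹) * x
    calc x * (g * x * g⁻¹) = (x * (g * x * g⁻¹ * x⁻¹)) * x := by group
      _ = ((g * x * g⁻¹ * x⁻¹) * x) * x := by rw [hz]
      _ = (g * x * g⁻¹) * x := by group
  rw [hiso g hc, mul_inv_cancel]
  exact Subgroup.one_mem _

end ZpSimple4

section ZpSimple5

variable {G : Type*} [Group G] [Finite G] {p : ℕ} [Fact p.Prime]

theorem zq_central_of_ne_top (x : G) (hcl : Subgroup.normalClosure ({x} : Set G) = ⊤)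
    (hO : Cfsg.pPrimeCore p G = ⊥)
    (hmin : ∀ (H : Subgroup G) (hxH : x ∈ H), H ≠ ⊤ → Cfsg.InZStar p (⟨x, hxH⟩ : ↥H))
    (N : Subgroup G) (hN : N.Normal) (hne : N ⊔ Subgroup.zpowers x ≠ ⊤) :
    N ≤ Subgroup.center G := by
  set H : Subgroup G := N ⊔ Subgroup.zpowers x with hH
  have hxH : x ∈ H := Subgroup.mem_sup_right (Subgroup.mem_zpowers x)
  have hNH : N ≤ H := le_sup_left
  have hZ := hmin H hxH hne
  have hKn := Cfsg.Agent.Lib.Helper1.pPrimeCore_normal (G := H) p
  have hKcop := Cfsg.Agent.Lib.Helper1.pPrimeCore_card_coprime (G := H) p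
  set Y : Subgroup G := (Cfsg.pPrimeCore p H).map H.subtype with hY
  have hYcard : Nat.card Y = Nat.card (Cfsg.pPrimeCore p H) :=
    Subgroup.card_map_of_injective H.subtype_injective
  have hYconj : ∀ m ∈ H, ∀ r ∈ Y, m * r * m⁻¹ ∈ Y := by
    rintro m hm _ ⟨r', hr', rfl⟩
    exact ⟨⟨m, hm⟩ * r' * ⟨m, hm⟩⁻¹, hKn.conj_mem r' hr' ⟨m, hm⟩, rfl⟩
  have hR : N ⊓ Y = ⊥ := by
    apply zq_sub_eq_bot hO N _ hN inf_le_left
    · constructor
      intro r hr m
      rw [Subgroup.mem_subgroupOf] at hr ⊢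
      refine ⟨?_, ?_⟩
      · exact (m * r * m⁻¹).2
      · have := hYconj (m : G) (hNH m.2) (r : G) hr.2
        simpa using this
    · exact Nat.Coprime.coprime_dvd_left (Subgroup.card_dvd_of_le inf_le_right)
        (hYcard ▸ hKcop)
  have hcomm : ∀ n ∈ N, n * x = x * n := by
    intro n hn
    have h1 : n * x * n⁻¹ * x⁻¹ ∈ N := by
      have h2 : x * n⁻¹ * x⁻¹ ∈ N := hN.conj_mem _ (N.inv_mem hn) x
      have e : n * x * n⁻¹ * x⁻¹ = n * (x * n⁻¹ * x⁻¹) := by group
      rw [e]
      exact N.mul_mem hn h2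
    have h3 : n * x * n⁻¹ * x⁻¹ ∈ Y := ⟨_, hZ ⟨n, hNH hn⟩, rfl⟩
    have h4 : n * x * n⁻¹ * x⁻¹ ∈ N ⊓ Y := ⟨h1, h3⟩
    rw [hR, Subgroup.mem_bot] at h4
    calc n * x = (n * x * n⁻¹ * x⁻¹) * (x * n) := by group
      _ = x * n := by rw [h4, one_mul]
  have hxC : x ∈ Subgroup.centralizer (N : Set G) := by
    rw [Subgroup.mem_centralizer_iff]
    exact hcomm
  have hCtop := zq_eq_top_of_mem x hcl (Subgroup.centralizer (N : Set G)) inferInstance hxC
  intro n hn
  rw [Subgroup.mem_center_iff]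
  intro g
  have hg : g ∈ Subgroup.centralizer (N : Set G) := hCtop ▸ Subgroup.mem_top g
  exact ((Subgroup.mem_centralizer_iff.mp hg) n hn).symm

theorem zq_main (x : G) (hx : orderOf x = p) (hiso : Cfsg.IsIsolated x)
    (hnz : ¬ Cfsg.InZStar p x)
    (hmin : ∀ (H : Subgroup G) (hxH : x ∈ H), H ≠ ⊤ → Cfsg.InZStar p (⟨x, hxH⟩ : ↥H))
    (hquot : ∀ (N : Subgroup G) [N.Normal], N ≠ ⊥ →
      Cfsg.InZStar p (QuotientGroup.mk x : G ⧸ N)) :
    IsSimpleGroup ↥(commutator G) ∧ ¬ IsMulCommutative ↥(commutator G) ∧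
      commutator G ⊔ Subgroup.zpowers x = ⊤ := by
  have hp : p.Prime := Fact.out
  have hO := zp_core_eq_bot x hnz hquot
  have hcl := zq_normalClosure_eq_top x hiso hnz hmin hquot
  have hsup := zq_commutator_sup x hcl
  have hx1 : x ≠ 1 := by
    intro h
    rw [h, orderOf_one] at hx
    exact hp.one_lt.ne hx
  have : Nontrivial G := ⟨⟨x, 1, hx1⟩⟩
  obtain ⟨N, hN, hN1, hNmin⟩ := Cfsg.Agent.Lib.Helper1.exists_minimal_normal (G := G)
  have hpN : p ∣ Nat.card N := by
    by_contra h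
    have hcop : (Nat.card N).Coprime p := ((Nat.Prime.coprime_iff_not_dvd hp).mpr h).symm
    have h1 := Cfsg.Agent.Lib.Helper1.le_pPrimeCore hN hcop
    rw [hO] at h1
    exact hN1 (le_bot_iff.mp h1)
  by_cases htop : N ⊔ Subgroup.zpowers x = ⊤
  swap
  · exfalso
    exact zq_central_false x hiso hnz hquot hO N hN hN1 hNmin
      (zq_central_of_ne_top x hcl hO hmin N hN htop) hpN
  obtain ⟨c, hcN, hc1, hcx⟩ := zq_exists_commuting x hx hiso N htop N Subgroup.le_normalizer hpN
  have hNnc : ¬ ∀ a ∈ N, ∀ b ∈ N, a * b = b * a := by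
    intro hcomm
    have hcc : c ∈ Subgroup.center G :=
      zq_central_of_commute N x c htop (fun n hn => hcomm n hn c hcN) hcx.symm
    have h1 : (Subgroup.center G ⊓ N).Normal := inferInstance
    rcases hNmin _ h1 inf_le_right with h | h
    · have h2 : c ∈ Subgroup.center G ⊓ N := ⟨hcc, hcN⟩
      rw [h] at h2
      exact hc1 (Subgroup.mem_bot.mp h2)
    · have hNc : N ≤ Subgroup.center G := h ▸ inf_le_left
      exact zq_central_false x hiso hnz hquot hO N hN hN1 hNmin hNc hpN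
  have hNN : ⁅N, N⁆ = N := by
    rcases hNmin ⁅N, N⁆ inferInstance (Subgroup.commutator_le_left N N) with h | h
    · exfalso
      apply hNnc
      intro a ha b hb
      have h1 := Subgroup.commutator_eq_bot_iff_le_centralizer.mp h
      exact ((Subgroup.mem_centralizer_iff.mp (h1 ha)) b hb).symm
    · exact h
  have hKN : commutator G = N := by
    apply le_antisymm
    · exact zq_commutator_le N x htop
    · rw [commutator_def, ← hNN]
      exact Subgroup.commutator_mono le_top le_top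
  rw [hKN]
  refine ⟨?_, ?_, htop⟩
  · refine { exists_pair_ne := ⟨⟨c, hcN⟩, 1, fun h => hc1 (congrArg Subtype.val h)⟩
             eq_bot_or_eq_top_of_normal := ?_ }
    intro T' hT'
    by_contra hne
    push Not at hne
    have hTN : T'.map N.subtype ≤ N := Subgroup.map_subtype_le _
    have hTsub : (T'.map N.subtype).subgroupOf N = T' :=
      Subgroup.comap_map_eq_self_of_injective N.subtype_injective T'
    have hT1 : T'.map N.subtype ≠ ⊥ := fun h =>
      hne.1 ((Subgroup.map_eq_bot_iff_of_injective _ N.subtype_injective).mp h)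
    have hTne : T'.map N.subtype ≠ N := by
      intro h
      apply hne.2
      rw [← hTsub, h]
      exact Subgroup.subgroupOf_self N
    have hTn : ((T'.map N.subtype).subgroupOf N).Normal := by
      rw [hTsub]
      exact hT'
    have hpT : p ∣ Nat.card (T'.map N.subtype) := by
      by_contra h
      have hcop : (Nat.card (T'.map N.subtype)).Coprime p :=
        ((Nat.Prime.coprime_iff_not_dvd hp).mpr h).symm
      exact hT1 (zq_sub_eq_bot hO N _ hN hTN hTn hcop)
    have hNT : N ≤ Subgroup.normalizer ((T'.map N.subtype : Subgroup G) : Set G) :=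
      (Subgroup.normal_subgroupOf_iff_le_normalizer hTN).mp hTn
    obtain ⟨c', hc'T, hc'1, hc'x⟩ := zq_exists_commuting x hx hiso N htop _ hNT hpT
    set T : Subgroup G := T'.map N.subtype with hT
    -- the core of the conjugates of `T` under powers of `x`
    let D : Subgroup G := ⨅ i : ℤ, MulAut.conj (x ^ i) • T
    have hD : ∀ y : G, y ∈ D ↔ ∀ i : ℤ, (x ^ i)⁻¹ * y * x ^ i ∈ T := by
      intro y
      rw [Subgroup.mem_iInf]
      apply forall_congr'
      intro i
      rw [Subgroup.mem_pointwise_smul_iff_inv_smul_mem, ← map_inv, MulAut.smul_def,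
        MulAut.conj_apply, inv_inv]
    have hc'D : c' ∈ D := by
      rw [hD]
      intro i
      have h1 : Commute c' (x ^ i) := Commute.zpow_right hc'x i
      have e : (x ^ i)⁻¹ * c' * x ^ i = c' := by
        rw [mul_assoc, h1.eq, ← mul_assoc, inv_mul_cancel, one_mul]
      rw [e]
      exact hc'T
    have hDT : D ≤ T := by
      intro y hy
      have := (hD y).mp hy 0
      simpa using this
    have hxD : x ∈ Subgroup.normalizer (D : Set G) := by
      apply Subgroup.mem_normalizer_fintype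
      intro y hy
      have hy' := (hD y).mp hy
      show x * y * x⁻¹ ∈ D
      rw [hD]
      intro i
      have h1 := hy' (i - 1)
      have e : (x ^ i)⁻¹ * (x * y * x⁻¹) * x ^ i = (x ^ (i - 1))⁻¹ * y * x ^ (i - 1) := by
        rw [zpow_sub_one]
        group
      rw [e]
      exact h1
    have hND : N ≤ Subgroup.normalizer (D : Set G) := by
      intro n hn
      apply Subgroup.mem_normalizer_fintype
      intro y hy
      have hy' := (hD y).mp hy
      show n * y * n⁻¹ ∈ D
      rw [hD]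
      intro i
      have h1 : (x ^ i)⁻¹ * n * x ^ i ∈ N := by
        have := hN.conj_mem n hn (x ^ i)⁻¹
        rw [inv_inv] at this
        exact this
      have h2 := (Subgroup.mem_normalizer_iff.mp (hNT h1) _).mp (hy' i)
      have e : (x ^ i)⁻¹ * (n * y * n⁻¹) * x ^ i =
          ((x ^ i)⁻¹ * n * x ^ i) * ((x ^ i)⁻¹ * y * x ^ i) * ((x ^ i)⁻¹ * n * x ^ i)⁻¹ := by
        group
      rw [e]
      exact h2
    have hDn : D.Normal := by
      rw [← Subgroup.normalizer_eq_top_iff, eq_top_iff, ← htop]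
      exact sup_le hND (Subgroup.zpowers_le.mpr hxD)
    rcases hNmin D hDn (hDT.trans hTN) with h | h
    · rw [h] at hc'D
      exact hc'1 (Subgroup.mem_bot.mp hc'D)
    · apply hTne
      exact le_antisymm hTN (h ▸ hDT)
  · intro hcomm
    apply hNnc
    intro a ha b hb
    have := hcomm.is_comm.comm (⟨a, ha⟩ : N) ⟨b, hb⟩
    exact congrArg Subtype.val this

end ZpSimple5

end Cfsg.Agent.Lib.helper23
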