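import Mathlib
import Cfsg.Agent.Lib.Helper22.S6002.Defs

set_option autoImplicit false
set_option linter.unusedVariables false
set_option linter.unusedSectionVars false
set_option linter.unusedSimpArgs false
set_option linter.unnecessarySeqFocus false
open scoped MatrixGroups

/-!
# Project S6002 (designer helper22), rows X2, X3, X4 (helper23): the explicit matrices `xc c`.
-/

namespace Cfsg.Agent.Lib.Helper22.S6002

variable {ι : Type} [Fintype ι] [DecidableEq ι] {F : Type*} [Field F]

/-- X2 [S]. -/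
theorem xc_pow3 : (xc (-1 : F)) ^ 3 = 1 := by
  rw [pow_succ, pow_succ, pow_one, xc, Matrix.fromBlocks_multiply, Matrix.fromBlocks_multiply,
    ← Matrix.fromBlocks_one]
  congr 1 <;>
  · ext i j
    fin_cases i <;> fin_cases j <;> simp [Matrix.mul_apply, Fin.sum_univ_two]

/-- X3 [S-M].  Entrywise, `linear_combination` with `hc`. -/
theorem xc_pow5 (c : F) (hc : c ^ 2 + c = 1) : (xc c) ^ 5 = 1 := by
  rw [pow_succ, pow_succ, pow_succ, pow_succ, pow_one, xc, Matrix.fromBlocks_multiply,
    Matrix.fromBlocks_multiply, Matrix.fromBlocks_multiply, Matrix.fromBlocks_multiply,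
    ← Matrix.fromBlocks_one]
  congr 1 <;>
  · ext i j
    fin_cases i <;> fin_cases j <;> simp [Matrix.mul_apply, Fin.sum_univ_two] <;>
    first
      | linear_combination (1 - c) * hc
      | linear_combination (-c ^ 2 + c + 1) * hc
      | linear_combination (c ^ 2 - c - 1) * hc
      | linear_combination (c ^ 3 - c ^ 2 - 2 * c + 1) * hc

/-- X4 [S].  `u = -e_{inl 0} + e_{inr 0}`, `φ = e_{inl 0} + e_{inr 0}`. -/
theorem xc_transv : ∃ u φ : Fin 2 ⊕ Fin 2 → F, xc (2 : F) = 1 + Matrix.vecMulVec u φ ∧ φ ⬝ᵥ u = 0 := by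
  refine ⟨Sum.elim ![-1, 0] ![1, 0], Sum.elim ![1, 0] ![1, 0], ?_, ?_⟩
  · ext i j
    rcases i with i | i <;> rcases j with j | j <;> fin_cases i <;> fin_cases j <;>
      simp [xc, Matrix.vecMulVec_apply, Matrix.one_apply] <;> norm_num
  · simp [dotProduct, Fintype.sum_sum_type]

end Cfsg.Agent.Lib.Helper22.S6002
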