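import Mathlib
import Cfsg.Agent.Lib.Helper22.S6002.Defs

set_option autoImplicit false
set_option linter.unusedVariables false
set_option linter.unusedSectionVars false
open scoped MatrixGroups

/-!
# Project S6002 (designer helper22), row A1 (`exists_c`, helper23): the golden ratio in `𝔽_p`, `p ≡ 0, ±1 (mod 5)`.
-/

namespace Cfsg.Agent.Lib.Helper22.S6002

variable {ι : Type} [Fintype ι] [DecidableEq ι] {F : Type*} [Field F]

/-- the elements `2`, `3` of `ZMod 5` have order 4. -/
theorem s6002a1_ord (x : ZMod 5) (hx : x = 2 ∨ x = 3) : orderOf x = 4 := by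
  have h := orderOf_eq_prime_pow (x := x) (p := 2) (n := 1)
    (by rcases hx with rfl | rfl <;> decide) (by rcases hx with rfl | rfl <;> decide)
  simpa using h

/-- A1 [M]. -/
theorem exists_c [Fintype F] {p : ℕ} [Fact p.Prime] [CharP F p] (hF : Fintype.card F = p)
    (h : ¬ orderOf (p : ZMod 5) = 4) : ∃ c : F, c ^ 2 + c = 1 := by
  have hp : p.Prime := Fact.out
  have : Fact (Nat.Prime 5) := ⟨Nat.prime_five⟩
  have hmod : ((p : ℕ) : ZMod 5) = ((p % 5 : ℕ) : ZMod 5) := by
    rw [ZMod.natCast_mod]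
  have hp2 : p ≠ 2 := by
    rintro rfl
    apply h
    exact s6002a1_ord _ (Or.inl (by norm_num))
  by_cases hp5 : p = 5
  · refine ⟨2, ?_⟩
    have h5 : ((5 : ℕ) : F) = 0 := by
      rw [← hp5]
      exact CharP.cast_eq_zero F p
    push_cast at h5
    linear_combination h5
  have hlt : p % 5 < 5 := Nat.mod_lt _ (by norm_num)
  have hne0 : p % 5 ≠ 0 := by
    intro h0
    have hdvd : 5 ∣ p := Nat.dvd_of_mod_eq_zero h0
    exact hp5 ((Nat.prime_dvd_prime_iff_eq Nat.prime_five hp).mp hdvd).symm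
  have hne2 : p % 5 ≠ 2 := by
    intro h2
    apply h
    rw [hmod, h2]
    exact s6002a1_ord _ (Or.inl (by norm_num))
  have hne3 : p % 5 ≠ 3 := by
    intro h3
    apply h
    rw [hmod, h3]
    exact s6002a1_ord _ (Or.inr (by norm_num))
  have hsq5 : IsSquare ((p : ℕ) : ZMod 5) := by
    rw [hmod]
    have h14 : p % 5 = 1 ∨ p % 5 = 4 := by omega
    rcases h14 with h1 | h1
    · rw [h1]
      exact ⟨1, by norm_num⟩
    · rw [h1]
      exact ⟨2, by norm_num⟩
  have hsq : IsSquare ((5 : ℕ) : ZMod p) :=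
    (ZMod.exists_sq_eq_prime_iff_of_mod_four_eq_one (p := 5) (q := p) (by norm_num) hp2).mp hsq5
  obtain ⟨a, ha⟩ := hsq
  let φ : ZMod p →+* F := ZMod.castHom (dvd_refl p) F
  have hs : (φ a) * (φ a) = (5 : F) := by
    rw [← map_mul, ← ha, map_natCast]
    norm_num
  have h2 : (2 : F) ≠ 0 := by
    intro h
    have h2' : ((2 : ℕ) : F) = 0 := by
      push_cast
      exact h
    have hdvd := (CharP.cast_eq_zero_iff F p 2).mp h2'
    exact hp2 ((Nat.prime_dvd_prime_iff_eq hp Nat.prime_two).mp hdvd)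
  refine ⟨(-1 + φ a) / 2, ?_⟩
  field_simp
  linear_combination hs

end Cfsg.Agent.Lib.Helper22.S6002
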