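import Mathlib
import Cfsg.Agent.Lib.helper17.STM.Defs
import Cfsg.Agent.Lib.helper17.STM.Defs2
import Cfsg.Agent.Lib.Helper16.STMF11
import Cfsg.Agent.Lib.Helper21.STMF12
import Cfsg.Agent.Lib.Helper21.STMF14b
import Cfsg.Agent.Lib.helper23.STMF15core

/-!
# Project STM (designer helper17), row F15 `InD_w`, VERBATIM (helper23): `stmf15_core` on F11 `ww_same` (helper16), F12 `ww_gen`, F13 `ww_opp`, F14b `w_ws` (helper21).
-/

set_option autoImplicit false

namespace Cfsg.Agent.Lib.helper17.STM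

open Cfsg.Agent.Lib.helper15.St2 Cfsg.Agent.Lib.helper3.STC Cfsg.Agent.Lib.Lead.STD

universe v w

namespace SysM

variable {F : Type*} [Field F] {A B : F} [Fact (∀ r : F, r ^ 2 ≠ -B + A * r)] {ι : Type*} [DecidableEq ι] {G : Type*} [Group G] (S : SysM F A B ι G)

section F
variable (o : ι ⊕ ι)

/-- F15 [M]  **`InD` is stable under `w o k 1`.**  On `cell0`: `cell o k` by definition.  On `cell o j`: `j = k`: `ww_same`, F15a: `cell0`; `j = ng k`: F13, F15a: `cellN`; else F12, F15a: `cell o j`.  On `cellN`: F14b, F15a: `cell o (ng k)`. -/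
theorem InD_w [Finite F] {k : ι ⊕ ι} (hk : k ≠ o) (hk' : k ≠ ng o) {g : G} (hg : S.InD o g) : S.InD o (S.w o k 1 * g) :=
  S.stmf15_core o (fun h h' => S.ww_same o h h') (fun h1 h2 h3 h4 h5 h6 => S.ww_gen o h1 h2 h3 h4 h5 h6)
    (fun h h' => S.ww_opp o h h') (fun h h' => S.w_ws o h h') hk hk' hg

end F

end SysM

end Cfsg.Agent.Lib.helper17.STM
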