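import Mathlib
import Cfsg.Agent.Lib.helper3.C6U.Defs

set_option autoImplicit false
set_option linter.unusedVariables false
set_option linter.unusedSectionVars false

/-!
# Project C6U (designer helper3), row A7 (`tau_prime`, helper23): the golden ratio in the prime field, `p ≡ ±1 (mod 5)`.
-/

namespace Cfsg.Agent.Lib.helper3.C6U

open Polynomial Matrix
open Cfsg.Agent.Lib.Helper10.C6P
open scoped MatrixGroups

variable {F : Type*} [Field F]

section fin

variable [Fintype F] {p : ℕ} [Fact p.Prime] [CharP F p]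

/-- A7 [M]. -/
theorem tau_prime (hF : Fintype.card F = p ^ 2) (hp5 : p % 5 = 1 ∨ p % 5 = 4) :
    ∃ τ : F, τ ^ 2 + τ = 1 ∧ τ ^ p = τ := by
  have hp : p.Prime := Fact.out
  have : Fact (Nat.Prime 5) := ⟨Nat.prime_five⟩
  have hp2 : p ≠ 2 := by
    rintro rfl
    omega
  have hmod : ((p : ℕ) : ZMod 5) = ((p % 5 : ℕ) : ZMod 5) := by
    rw [ZMod.natCast_mod]
  have hsq5 : IsSquare ((p : ℕ) : ZMod 5) := by
    rw [hmod]
    rcases hp5 with h1 | h1
    · rw [h1]
      exact ⟨1, by norm_num⟩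
    · rw [h1]
      exact ⟨2, by norm_num⟩
  have hsq : IsSquare ((5 : ℕ) : ZMod p) :=
    (ZMod.exists_sq_eq_prime_iff_of_mod_four_eq_one (p := 5) (q := p) (by norm_num) hp2).mp hsq5
  obtain ⟨a, ha⟩ := hsq
  have h2z : (2 : ZMod p) ≠ 0 := by
    intro h
    have h2' : ((2 : ℕ) : ZMod p) = 0 := by
      push_cast
      exact h
    have hdvd := (ZMod.natCast_eq_zero_iff 2 p).mp h2'
    exact hp2 ((Nat.prime_dvd_prime_iff_eq hp Nat.prime_two).mp hdvd)
  let φ : ZMod p →+* F := ZMod.castHom (dvd_refl p) F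
  obtain ⟨t, ht⟩ : ∃ t : ZMod p, t ^ 2 + t = 1 := by
    refine ⟨(-1 + a) / 2, ?_⟩
    have ha' : a * a = 5 := by
      rw [← ha]
      norm_num
    field_simp
    linear_combination ha'
  refine ⟨φ t, ?_, ?_⟩
  · rw [← map_pow, ← map_add, ht, map_one]
  · rw [← map_pow, ZMod.pow_card]

end fin

end Cfsg.Agent.Lib.helper3.C6U
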