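import Mathlib
import Cfsg.Agent.Lib.Helper18.PRL.Defs
import Cfsg.Agent.Lib.Helper1.MaxClass

set_option autoImplicit false

namespace Cfsg.Agent.Lib.Helper18.PRL

open scoped commutatorElement

universe u

/-- Commutators with central values are multiplicative in the first variable. -/
theorem h23_comm_mul_left {X : Type*} [Group X] (x y a : X) (hc : ⁅y, a⁆ ∈ Subgroup.center X) :
    ⁅x * y, a⁆ = ⁅x, a⁆ * ⁅y, a⁆ := by
  have h1 : ⁅x * y, a⁆ = x * ⁅y, a⁆ * x⁻¹ * ⁅x, a⁆ := by
    simp only [commutatorElement_def]
    group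
  rw [h1]
  have h2 : x * ⁅y, a⁆ = ⁅y, a⁆ * x := Subgroup.mem_center_iff.mp hc x
  have h3 : ⁅y, a⁆ * ⁅x, a⁆ = ⁅x, a⁆ * ⁅y, a⁆ := (Subgroup.mem_center_iff.mp hc _).symm
  rw [h2, mul_assoc ⁅y, a⁆ x x⁻¹, mul_inv_cancel, mul_one, h3]

/-- Power law for commutators with central values. -/
theorem h23_comm_pow_left {X : Type*} [Group X] (y a : X) (hc : ⁅y, a⁆ ∈ Subgroup.center X)
    (k : ℕ) : ⁅y ^ k, a⁆ = ⁅y, a⁆ ^ k := by
  induction k with
  | zero => simp
  | succ k ih =>
    rw [pow_succ, h23_comm_mul_left (y ^ k) y a hc, ih, pow_succ]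

/-- A group of order `p ^ k`, `k ≤ 2`, is commutative. -/
theorem h23_comm_of_card_le_sq {p : ℕ} [hp : Fact p.Prime] {H : Type*} [Group H] (k : ℕ)
    (hk : k ≤ 2) (hH : Nat.card H = p ^ k) (a b : H) : a * b = b * a := by
  interval_cases k
  · rw [pow_zero] at hH
    haveI : Subsingleton H := (Nat.card_eq_one_iff_unique.mp hH).1
    exact Subsingleton.elim _ _
  · rw [pow_one] at hH
    haveI : IsCyclic H := isCyclic_of_prime_card hH
    exact IsCyclic.commGroup.mul_comm a b
  · haveI := IsPGroup.isMulCommutative_of_card_eq_prime_sq hH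
    exact mul_comm' a b

/-- A subgroup of a group of order `p ^ 3` containing two non-commuting elements is everything. -/
theorem h23_eq_of_noncomm {p : ℕ} [hp : Fact p.Prime] {X : Type*} [Group X] [Finite X]
    (E H : Subgroup X) (hE : Nat.card E = p ^ 3) (hHE : H ≤ E) (a b : X) (ha : a ∈ H) (hb : b ∈ H)
    (hab : a * b ≠ b * a) : H = E := by
  have hdvd : Nat.card H ∣ p ^ 3 := by
    rw [← hE]
    exact Subgroup.card_dvd_of_le hHE
  obtain ⟨k, hk3, hk⟩ := (Nat.dvd_prime_pow hp.out).mp hdvd
  by_cases hk2 : k ≤ 2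
  · exfalso
    apply hab
    have := h23_comm_of_card_le_sq (p := p) k hk2 hk (⟨a, ha⟩ : H) ⟨b, hb⟩
    exact congrArg Subtype.val this
  · have : k = 3 := by omega
    apply Subgroup.eq_of_le_of_card_ge hHE
    rw [hE, hk, this]

/-- PRL-PB -/
theorem class_of_nonabelian_centric (p : ℕ) [Fact p.Prime] (n : ℕ) (X : Type u) [Group X]
    [Finite X] (hX : Nat.card X = p ^ n) (E : Subgroup X) (hE : Nat.card E = p ^ 3)
    (hna : ¬ IsMulCommutative ↥E) (hC : Subgroup.centralizer (E : Set X) ≤ E) (hne : E ≠ ⊤) :
    Group.nilpotencyClass X = n - 1 := by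
  classical
  have hp : p.Prime := Fact.out
  have hpg : IsPGroup p X := IsPGroup.of_card hX
  haveI : Group.IsNilpotent X := hpg.isNilpotent
  -- non-commuting pair in `E`
  obtain ⟨a, ha, b, hb, hab⟩ : ∃ a ∈ E, ∃ b ∈ E, a * b ≠ b * a := by
    by_contra hcon
    push Not at hcon
    apply hna
    exact ⟨⟨fun x y => Subtype.ext (hcon x x.2 y y.2)⟩⟩
  have hn3 : 3 ≤ n := by
    have h1 : p ^ 3 ∣ p ^ n := by
      rw [← hE, ← hX]
      exact Subgroup.card_subgroup_dvd_card E
    exact (Nat.pow_dvd_pow_iff_le_right hp.one_lt).mp h1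
  haveI : Nontrivial X := by
    rw [← Finite.one_lt_card_iff_nontrivial, hX]
    exact Nat.one_lt_pow (by omega) hp.one_lt
  -- the centre
  have hZC : Subgroup.center X ≤ Subgroup.centralizer (E : Set X) := Subgroup.center_le_centralizer _
  have hZE : Subgroup.center X ≤ E := hZC.trans hC
  -- everything commuting with `a` and `b` centralizes `E`
  have hcent : ∀ y : X, y * a = a * y → y * b = b * y → y ∈ Subgroup.centralizer (E : Set X) := by
    intro y hya hyb
    have hH : E ⊓ Subgroup.centralizer ({y} : Set X) = E := by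
      apply h23_eq_of_noncomm (p := p) E _ hE inf_le_left a b
      · refine Subgroup.mem_inf.mpr ⟨ha, ?_⟩
        rw [Subgroup.mem_centralizer_iff]
        intro w hw
        rw [Set.mem_singleton_iff] at hw
        rw [hw]
        exact hya
      · refine Subgroup.mem_inf.mpr ⟨hb, ?_⟩
        rw [Subgroup.mem_centralizer_iff]
        intro w hw
        rw [Set.mem_singleton_iff] at hw
        rw [hw]
        exact hyb
      · exact hab
    rw [Subgroup.mem_centralizer_iff]
    intro e he
    have he' : e ∈ E ⊓ Subgroup.centralizer ({y} : Set X) := by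
      rw [hH]
      exact he
    have := (Subgroup.mem_inf.mp he').2
    rw [Subgroup.mem_centralizer_iff] at this
    exact (this y (Set.mem_singleton y)).symm
  -- the centralizer of `E` has order at most `p`, hence equals the centre, of order `p`
  have hCcard : Nat.card (Subgroup.centralizer (E : Set X)) ∣ p := by
    -- `C_X(E)` embeds in `Z(E)`, and `|Z(E)| = p`
    have hZEcard : Nat.card (Subgroup.center ↥E) = p := by
      obtain ⟨k, hk0, hk⟩ := IsPGroup.card_center_eq_prime_pow (G := ↥E) hE (by norm_num)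
      have hk3 : k ≤ 3 := by
        have h1 : p ^ k ∣ p ^ 3 := by
          rw [← hk, ← hE]
          exact Subgroup.card_subgroup_dvd_card _
        exact (Nat.pow_dvd_pow_iff_le_right hp.one_lt).mp h1
      have hk1 : k = 1 := by
        by_contra hk1
        have hk2 : 2 ≤ k := by omega
        -- quotient of order `≤ p` is cyclic, so `E` abelian
        have hidx := Subgroup.card_mul_index (Subgroup.center ↥E)
        rw [hk, hE] at hidx
        have hsplit : p ^ 3 = p ^ k * p ^ (3 - k) := by
          rw [← pow_add]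
          congr 1
          omega
        rw [hsplit] at hidx
        have hI : (Subgroup.center ↥E).index = p ^ (3 - k) :=
          Nat.eq_of_mul_eq_mul_left (pow_pos hp.pos k) hidx
        have hq : Nat.card (↥E ⧸ Subgroup.center ↥E) = p ^ (3 - k) := by
          rw [← Subgroup.index_eq_card, hI]
        have hcyc : IsCyclic (↥E ⧸ Subgroup.center ↥E) := by
          have h01 : 3 - k = 0 ∨ 3 - k = 1 := by omega
          rcases h01 with h0 | h1
          · rw [h0, pow_zero] at hq
            haveI : Subsingleton (↥E ⧸ Subgroup.center ↥E) :=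
              (Nat.card_eq_one_iff_unique.mp hq).1
            infer_instance
          · rw [h1, pow_one] at hq
            exact isCyclic_of_prime_card hq
        apply hna
        exact isMulCommutative_of_isCyclic_quotient_center_self ↥E
      rw [hk, hk1, pow_one]
    -- injection `C_X(E) → Z(E)`
    have hinj : Nat.card (Subgroup.centralizer (E : Set X)) ≤ Nat.card (Subgroup.center ↥E) := by
      apply Nat.card_le_card_of_injective
        (fun c : Subgroup.centralizer (E : Set X) =>
          (⟨⟨(c : X), hC c.2⟩, by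
            rw [Subgroup.mem_center_iff]
            intro e
            apply Subtype.ext
            have := c.2
            rw [Subgroup.mem_centralizer_iff] at this
            simpa using this (e : X) e.2⟩ : Subgroup.center ↥E))
      intro c d hcd
      apply Subtype.ext
      have := congrArg (fun w : Subgroup.center ↥E => ((w : ↥E) : X)) hcd
      simpa using this
    rw [hZEcard] at hinj
    obtain ⟨k, hk⟩ := (hpg.to_subgroup (Subgroup.centralizer (E : Set X))).exists_card_eq
    rw [hk] at hinj ⊢
    have : k ≤ 1 := by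
      by_contra hcon
      push Not at hcon
      have : p ^ 2 ≤ p ^ k := Nat.pow_le_pow_right hp.pos hcon
      have hp2 : p < p ^ 2 := by
        calc p = p ^ 1 := (pow_one p).symm
          _ < p ^ 2 := Nat.pow_lt_pow_right hp.one_lt (by norm_num)
      omega
    calc p ^ k ∣ p ^ 1 := pow_dvd_pow p this
      _ = p := pow_one p
  haveI := hpg.center_nontrivial
  have hZcard : Nat.card (Subgroup.center X) = p := by
    have h1 : Nat.card (Subgroup.center X) ∣ p :=
      (Subgroup.card_dvd_of_le hZC).trans hCcard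
    rcases (Nat.dvd_prime hp).mp h1 with h | h
    · exfalso
      have := Finite.one_lt_card_iff_nontrivial.mpr ‹Nontrivial (Subgroup.center X)›
      omega
    · exact h
  have hCZ : Subgroup.centralizer (E : Set X) = Subgroup.center X := by
    symm
    apply Subgroup.eq_of_le_of_card_ge hZC
    rw [hZcard]
    exact Nat.le_of_dvd hp.pos hCcard
  -- the quotient
  set π := QuotientGroup.mk' (Subgroup.center X) with hπ
  have hπs : Function.Surjective π := QuotientGroup.mk'_surjective _
  have hQcard : Nat.card (X ⧸ Subgroup.center X) = p ^ (n - 1) := by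
    have h1 := Subgroup.card_mul_index (Subgroup.center X)
    rw [hZcard, hX, Subgroup.index_eq_card] at h1
    have hsplit : p ^ n = p * p ^ (n - 1) := by
      rw [← pow_succ']
      congr 1
      omega
    rw [hsplit] at h1
    exact Nat.eq_of_mul_eq_mul_left hp.pos h1
  have hcm : (E.map π).comap π = E := by
    rw [Subgroup.comap_map_eq, hπ, QuotientGroup.ker_mk']
    exact sup_eq_left.mpr hZE
  have hAcard : Nat.card (E.map π) = p ^ 2 := by
    have hidx : ((E.map π).comap π).index = (E.map π).index :=
      Subgroup.index_comap_of_surjective _ hπs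
    rw [hcm] at hidx
    have h1 := Subgroup.card_mul_index E
    have h2 := Subgroup.card_mul_index (E.map π)
    rw [hE, hX] at h1
    rw [hQcard, ← hidx] at h2
    have hsplit : p ^ n = p ^ 3 * p ^ (n - 3) := by
      rw [← pow_add]
      congr 1
      omega
    rw [hsplit] at h1
    have hI : E.index = p ^ (n - 3) := Nat.eq_of_mul_eq_mul_left (pow_pos hp.pos 3) h1
    rw [hI] at h2
    have hsplit2 : p ^ (n - 1) = p ^ 2 * p ^ (n - 3) := by
      rw [← pow_add]
      congr 1
      omega
    rw [hsplit2] at h2
    exact Nat.eq_of_mul_eq_mul_right (pow_pos hp.pos _) h2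
  -- `[e₁, e₂] ∈ Z(X)` for `e₁, e₂ ∈ E`
  have hEE : ∀ e₁ ∈ E, ∀ e₂ ∈ E, ⁅e₁, e₂⁆ ∈ Subgroup.center X := by
    intro e₁ h₁ e₂ h₂
    have hcomm := h23_comm_of_card_le_sq (p := p) 2 le_rfl hAcard
      (⟨π e₁, Subgroup.mem_map_of_mem π h₁⟩ : E.map π) ⟨π e₂, Subgroup.mem_map_of_mem π h₂⟩
    have h3 : π e₁ * π e₂ = π e₂ * π e₁ := congrArg Subtype.val hcomm
    have h4 : π ⁅e₁, e₂⁆ = 1 := by
      rw [map_commutatorElement, commutatorElement_eq_one_iff_mul_comm]
      exact h3
    rw [hπ, QuotientGroup.mk'_apply, QuotientGroup.eq_one_iff] at h4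
    exact h4
  -- the key: `[x, E] ≤ Z(X)` forces `x ∈ E`
  have hkey : ∀ x : X, (∀ e ∈ E, ⁅x, e⁆ ∈ Subgroup.center X) → x ∈ E := by
    intro x hx
    set z := ⁅a, b⁆ with hz
    have hzZ : z ∈ Subgroup.center X := hEE a ha b hb
    have hz1 : z ≠ 1 := by
      intro h1
      exact hab (commutatorElement_eq_one_iff_mul_comm.mp h1)
    -- `Z(X) = ⟨z⟩`
    have hgen : ∀ c ∈ Subgroup.center X, ∃ i : ℕ, c = z ^ i := by
      intro c hc
      have hzo : orderOf (⟨z, hzZ⟩ : Subgroup.center X) = p := by
        have h1 : orderOf (⟨z, hzZ⟩ : Subgroup.center X) ∣ p := by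
          rw [← hZcard]
          exact orderOf_dvd_natCard _
        rcases (Nat.dvd_prime hp).mp h1 with h | h
        · exfalso
          rw [orderOf_eq_one_iff] at h
          exact hz1 (congrArg Subtype.val h)
        · exact h
      have htop : Subgroup.zpowers (⟨z, hzZ⟩ : Subgroup.center X) = ⊤ := by
        apply Subgroup.eq_top_of_card_eq
        rw [Nat.card_zpowers, hzo, hZcard]
      have hmem : (⟨c, hc⟩ : Subgroup.center X) ∈ Subgroup.zpowers (⟨z, hzZ⟩ : Subgroup.center X) := by
        rw [htop]
        exact Subgroup.mem_top _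
      rw [← mem_powers_iff_mem_zpowers, Submonoid.mem_powers_iff] at hmem
      obtain ⟨i, hi⟩ := hmem
      refine ⟨i, ?_⟩
      have := congrArg Subtype.val hi
      simpa using this.symm
    have hzp : z ^ p = 1 := by
      have h1 : (⟨z, hzZ⟩ : Subgroup.center X) ^ p = 1 := by
        rw [← hZcard]
        exact pow_card_eq_one'
      have := congrArg Subtype.val h1
      simpa using this
    obtain ⟨i, hi⟩ := hgen _ (hx a ha)
    obtain ⟨j, hj⟩ := hgen _ (hx b hb)
    -- `ba`-commutator
    have hba : ⁅b, a⁆ = z⁻¹ := by rw [hz, commutatorElement_inv]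
    have hbaZ : ⁅b, a⁆ ∈ Subgroup.center X := hEE b hb a ha
    set e := a ^ ((p - 1) * j) * b ^ i with he
    have heE : e ∈ E := E.mul_mem (E.pow_mem ha _) (E.pow_mem hb _)
    -- `[e, a] = z⁻ⁱ`
    have h1 : ⁅e, a⁆ = (z⁻¹) ^ i := by
      have hc1 : ⁅b ^ i, a⁆ ∈ Subgroup.center X := hEE _ (E.pow_mem hb _) a ha
      rw [he, h23_comm_mul_left _ _ a hc1, h23_comm_pow_left b a hbaZ, hba]
      have : ⁅a ^ ((p - 1) * j), a⁆ = 1 := by
        rw [commutatorElement_eq_one_iff_mul_comm]
        exact ((Commute.refl a).pow_left _).eq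
      rw [this, one_mul]
    -- `[e, b] = z^((p-1)j)`
    have h2 : ⁅e, b⁆ = z ^ ((p - 1) * j) := by
      have hc1 : ⁅b ^ i, b⁆ ∈ Subgroup.center X := hEE _ (E.pow_mem hb _) b hb
      rw [he, h23_comm_mul_left _ _ b hc1, h23_comm_pow_left a b hzZ]
      have : ⁅b ^ i, b⁆ = 1 := by
        rw [commutatorElement_eq_one_iff_mul_comm]
        exact ((Commute.refl b).pow_left _).eq
      rw [this, mul_one]
    -- `x * e` commutes with `a` and `b`
    have h3 : ⁅x * e, a⁆ = 1 := by
      rw [h23_comm_mul_left x e a (hEE e heE a ha), hi, h1, inv_pow, mul_inv_cancel]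
    have h4 : ⁅x * e, b⁆ = 1 := by
      rw [h23_comm_mul_left x e b (hEE e heE b hb), hj, h2, ← pow_add]
      have : j + (p - 1) * j = p * j := by
        have hp1 : 1 ≤ p := hp.pos
        calc j + (p - 1) * j = (1 + (p - 1)) * j := by ring
          _ = p * j := by rw [Nat.add_sub_cancel' hp1]
      rw [this, pow_mul, hzp, one_pow]
    have h5 := hcent (x * e) (commutatorElement_eq_one_iff_mul_comm.mp h3)
      (commutatorElement_eq_one_iff_mul_comm.mp h4)
    have h6 : x * e ∈ E := hC h5
    have : x = x * e * e⁻¹ := by group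
    rw [this]
    exact E.mul_mem h6 (E.inv_mem heE)
  -- the image of `E` is self-centralizing
  have hself : Subgroup.centralizer ((E.map π : Subgroup (X ⧸ Subgroup.center X)) : Set _) =
      E.map π := by
    apply le_antisymm
    · intro q hq
      obtain ⟨x, rfl⟩ := hπs q
      rw [Subgroup.mem_centralizer_iff] at hq
      have hxE : x ∈ E := by
        apply hkey
        intro e he
        have h1 := hq (π e) (Subgroup.mem_map_of_mem π he)
        have h2 : π ⁅x, e⁆ = 1 := by
          rw [map_commutatorElement, commutatorElement_eq_one_iff_mul_comm]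
          exact h1.symm
        rw [hπ, QuotientGroup.mk'_apply, QuotientGroup.eq_one_iff] at h2
        exact h2
      exact Subgroup.mem_map_of_mem π hxE
    · intro q hq
      rw [Subgroup.mem_centralizer_iff]
      intro w hw
      have := h23_comm_of_card_le_sq (p := p) 2 le_rfl hAcard
        (⟨w, hw⟩ : E.map π) ⟨q, hq⟩
      exact congrArg Subtype.val this
  have hclassQ := Cfsg.Agent.Lib.Helper1.class_of_self_centralizing p (n - 1)
    (X ⧸ Subgroup.center X) hQcard (E.map π) hAcard hself
  rw [Group.nilpotencyClass_eq_quotient_center_plus_one, hclassQ]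
  omega

end Cfsg.Agent.Lib.Helper18.PRL
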