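import Mathlib
import Cfsg.Agent.Lib.Helper24.MNP.Defs

set_option autoImplicit false

namespace Cfsg.Agent.Lib.Helper24.MNP

open scoped commutatorElement
open Cfsg.Agent.Lib.Helper24.SCH (SchAct)

universe u

section C

variable {P : Type u} [Group P] [Finite P] {p q : ℕ} [Fact p.Prime] {α : MulAut P}

theorem mnpc1_pow_mem {P : Type u} [Group P] (β : MulAut P) (S : Subgroup P)
    (hS : ∀ s ∈ S, β s ∈ S) (n : ℕ) : ∀ s ∈ S, (β ^ n) s ∈ S := by
  induction n with
  | zero => intro s hs; simpa using hs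
  | succ n ih =>
    intro s hs
    rw [pow_succ, MulAut.mul_apply]
    exact ih _ (hS s hs)

theorem mnpc1_pow_fix {P : Type u} [Group P] (β : MulAut P) (x : P) (hx : β x = x) (n : ℕ) :
    (β ^ n) x = x := by
  induction n with
  | zero => simp
  | succ n ih => rw [pow_succ, MulAut.mul_apply, hx, ih]

theorem mnpc1_inv {P : Type u} [Group P] (α : MulAut P) (q : ℕ) (hq : 1 < q) (hα : α ^ q = 1)
    (j : ℕ) (hj : j.Coprime q) : ∃ j' : ℕ, (α ^ j) ^ j' = α := by
  obtain ⟨m, -, hm⟩ := Nat.exists_mul_mod_eq_one_of_coprime hj hq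
  refine ⟨m, ?_⟩
  rw [← pow_mul]
  have h1 : j * m = q * (j * m / q) + 1 := by
    have := Nat.div_add_mod (j * m) q
    omega
  rw [h1, pow_succ, pow_mul, hα, one_pow, one_mul]

theorem schAct_pow (h : SchAct p q P α) (j : ℕ) (hj : j.Coprime q) :
    SchAct p q P (α ^ j) ∧ ∀ x, (α ^ j) x = x ↔ α x = x := by
  obtain ⟨j', hj'⟩ := mnpc1_inv α q h.qprime.one_lt h.powq j hj
  have hfix : ∀ x, (α ^ j) x = x ↔ α x = x := by
    intro x
    constructor
    · intro hx
      have := mnpc1_pow_fix (α ^ j) x hx j'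
      rwa [hj'] at this
    · intro hx
      exact mnpc1_pow_fix α x hx j
  refine ⟨⟨h.pgroup, h.qprime, h.qne, ?_, ?_, ?_⟩, hfix⟩
  · rw [← pow_mul, mul_comm, pow_mul, h.powq, one_pow]
  · intro h1
    apply h.ne_one
    rw [← hj', h1, one_pow]
  · intro S hS hne s hs
    have hS' : ∀ s ∈ S, α s ∈ S := by
      intro s hs
      have := mnpc1_pow_mem (α ^ j) S hS j' s hs
      rwa [hj'] at this
    exact (hfix s).2 (h.min S hS' hne s hs)

end C

end Cfsg.Agent.Lib.Helper24.MNP
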