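import Mathlib
import Cfsg.Agent.Lib.Helper24.MNP.Defs

set_option autoImplicit false

namespace Cfsg.Agent.Lib.Helper24.MNP

open scoped commutatorElement
open Cfsg.Agent.Lib.Helper24.SCH (SchAct)

universe u

theorem mnpc5_iter {P : Type u} [Group P] {V : Type u} [AddCommGroup V] (α : MulAut P) (A : V ≃+ V)
    (π : P →* Multiplicative V)
    (hπα : ∀ x, π (α x) = Multiplicative.ofAdd (A (Multiplicative.toAdd (π x)))) (j : ℕ) :
    ∀ x, π ((α ^ j) x) = Multiplicative.ofAdd ((⇑A)^[j] (Multiplicative.toAdd (π x))) := by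
  induction j with
  | zero => intro x; simp
  | succ n ih =>
    intro x
    rw [pow_succ, MulAut.mul_apply, ih, hπα, Function.iterate_succ_apply]
    rfl

theorem mnpc5_core {K : Type u} [Field K] {p q : ℕ} {P : Type u} [Group P] {α : MulAut P}
    (ζ : K) (hζ0 : ζ ≠ 0)
    (hC3 : ∃ (V : Type u) (_ : AddCommGroup V) (_ : Finite V) (A : V ≃+ V) (π : P →* Multiplicative V),
      (∀ v : V, p • v = 0) ∧ (∀ v, (⇑A)^[q] v = v) ∧ (∃ v, A v ≠ v) ∧
      (∀ S : AddSubgroup V, (∀ v ∈ S, A v ∈ S) → S = ⊥ ∨ S = ⊤) ∧ Function.Surjective π ∧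
      (∀ x, π x = 1 ↔ α x = x) ∧ ∀ x, π (α x) = Multiplicative.ofAdd (A (Multiplicative.toAdd (π x))))
    (hC4 : ∀ {V : Type u} [AddCommGroup V] [Finite V] (_ : ∀ v : V, p • v = 0)
      (A : V ≃+ V) (_ : ∀ v, (⇑A)^[q] v = v) (_ : ∃ v, A v ≠ v)
      (_ : ∀ S : AddSubgroup V, (∀ v ∈ S, A v ∈ S) → S = ⊥ ∨ S = ⊤),
      ∃ j : ℕ, j.Coprime q ∧ ∃ θ : K ≃+ V, ∀ w, θ (ζ * w) = (⇑A)^[j] (θ w)) :
    ∃ (j : ℕ) (π : P →* Multiplicative K), j.Coprime q ∧ Function.Surjective π ∧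
      (∀ x, π x = 1 ↔ α x = x) ∧ ∀ x, π ((α ^ j) x) = alphaK ζ hζ0 (π x) := by
  obtain ⟨V, iV, iF, A, π, hV, hAq, hA1, hirr, hπs, hπ1, hπα⟩ := hC3
  obtain ⟨j, hj, θ, hθ⟩ := hC4 hV A hAq hA1 hirr
  refine ⟨j, (AddEquiv.toMultiplicative θ.symm).toMonoidHom.comp π, hj, ?_, ?_, ?_⟩
  · exact (AddEquiv.toMultiplicative θ.symm).surjective.comp hπs
  · intro x
    rw [← hπ1 x]
    constructor
    · intro hx
      have : (AddEquiv.toMultiplicative θ.symm) (π x) = (AddEquiv.toMultiplicative θ.symm) 1 := by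
        rw [map_one]; exact hx
      exact (AddEquiv.toMultiplicative θ.symm).injective this
    · intro hx
      show (AddEquiv.toMultiplicative θ.symm) (π x) = 1
      rw [hx, map_one]
  · intro x
    show (AddEquiv.toMultiplicative θ.symm) (π ((α ^ j) x)) =
      alphaK ζ hζ0 ((AddEquiv.toMultiplicative θ.symm) (π x))
    rw [mnpc5_iter α A π hπα j x, alphaK_apply]
    show Multiplicative.ofAdd (θ.symm ((⇑A)^[j] (Multiplicative.toAdd (π x)))) =
      Multiplicative.ofAdd (ζ * θ.symm (Multiplicative.toAdd (π x)))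
    congr 1
    rw [AddEquiv.symm_apply_eq, hθ, AddEquiv.apply_symm_apply]

end Cfsg.Agent.Lib.Helper24.MNP
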