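import Mathlib
import Cfsg.Agent.Lib.Helper24.MNP.Defs
import Cfsg.Agent.Lib.Helper21.MNPC3
import Cfsg.Agent.Lib.Helper24.MNPC4
import Cfsg.Agent.Lib.helper23.MNPC5core

set_option autoImplicit false

namespace Cfsg.Agent.Lib.Helper24.MNP

open scoped commutatorElement
open Cfsg.Agent.Lib.Helper24.SCH (SchAct)

universe u

section C'

variable {K : Type u} [Field K] [Finite K] {p q : ℕ} [Fact p.Prime] [Fact q.Prime] [CharP K p]

variable {P : Type u} [Group P] [Finite P] {α : MulAut P}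

theorem exists_piP (hpq : p ≠ q) {a : ℕ} (hK : Nat.card K = p ^ a) (ha : a = orderOf (p : ZMod q))
    (ζ : K) (hζ : orderOf ζ = q) (hζ0 : ζ ≠ 0) (h : SchAct p q P α) :
    ∃ (j : ℕ) (π : P →* Multiplicative K), j.Coprime q ∧ Function.Surjective π ∧
      (∀ x, π x = 1 ↔ α x = x) ∧ ∀ x, π ((α ^ j) x) = alphaK ζ hζ0 (π x) :=
  mnpc5_core ζ hζ0 (exists_bar h) (fun hV A hAq hA1 hirr => lin_model hpq hK ha ζ hζ hV A hAq hA1 hirr)

end C'

end Cfsg.Agent.Lib.Helper24.MNP
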