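import Mathlib
import Cfsg.Agent.Lib.Lead.W2P.Defs
import Cfsg.Agent.Lib.Helper25.Gagola
import Cfsg.Agent.Lib.Helper25.CharOrth

/-! W2P-FAITH core (helper23): an irreducible character whose restriction to `P` has no trivial
constituent is faithful, given that every non-trivial normal subgroup contains `P` (piece NORMAL) -/

set_option autoImplicit false
set_option linter.unusedVariables false
set_option linter.unusedSectionVars false
open scoped ComplexConjugate
open Classical

namespace Cfsg.Agent.Lib.Lead.W2P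

open MulAction Cfsg.Agent.Lib.helper6.PermChar Cfsg.Agent.Lib.Helper25

universe u v

section A

variable {G : Type u} [Group G] [Fintype G] {p : ℕ} [Fact p.Prime]

/-- FAITH with the conclusion of NORMAL as a hypothesis -/
theorem w2pfaith_core (P : Subgroup G) (hcard : Nat.card P = p)
    (hN : ∀ K : Subgroup G, K.Normal → K ≠ ⊥ → P ≤ K) (χ : Cfsg.IrrCharacter G)
    (hP : ∑ x : ↥P, (χ : G → ℂ) (x : G) = 0) :
    ∀ g : G, (χ : G → ℂ) g = (χ : G → ℂ) 1 → g = 1 := by
  have hp : p.Prime := Fact.out
  intro g hg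
  by_contra hg1
  have hK : irrKer χ ≠ ⊥ := by
    intro h
    apply hg1
    have hmem : g ∈ irrKer χ := (mem_irrKer χ g).2 hg
    rw [h] at hmem
    exact Subgroup.mem_bot.1 hmem
  have hle := hN (irrKer χ) inferInstance hK
  have hsum : ∑ x : ↥P, (χ : G → ℂ) (x : G) = (p : ℂ) * (χ : G → ℂ) 1 := by
    have hval : ∀ x : ↥P, (χ : G → ℂ) (x : G) = (χ : G → ℂ) 1 :=
      fun x => (mem_irrKer χ (x : G)).1 (hle x.2)
    rw [Finset.sum_congr rfl (fun x _ => hval x), Finset.sum_const,
      Finset.card_univ, nsmul_eq_mul, ← Nat.card_eq_fintype_card, hcard]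
  rw [hsum] at hP
  exact (mul_ne_zero (Nat.cast_ne_zero.2 hp.ne_zero) (irr_one_ne_zero χ)) hP

end A

end Cfsg.Agent.Lib.Lead.W2P
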