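import Mathlib
import Cfsg.Agent.Lib.Lead.W2P.Defs
import Cfsg.Agent.Lib.helper23.W2PFAITHcore
import Cfsg.Agent.Lib.Helper1.W2PNORMAL

/-! W2P-FAITH (helper23): an irreducible character whose restriction to `P` has no trivial constituent
is faithful -/

set_option autoImplicit false
set_option linter.unusedVariables false
set_option linter.unusedSectionVars false
open scoped ComplexConjugate
open Classical

namespace Cfsg.Agent.Lib.Lead.W2P

open MulAction Cfsg.Agent.Lib.helper6.PermChar Cfsg.Agent.Lib.Helper25

universe u v

section A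

variable {G : Type u} [Group G] [Fintype G] {Ω : Type v} [Fintype Ω] [DecidableEq Ω] [MulAction G Ω]
  {p : ℕ} [Fact p.Prime]

variable {P : Sylow p G}

/-- FAITH : an irreducible character whose restriction to `P` has no trivial constituent is faithful -/
theorem faithful_of_sum_zero (S : Setting G Ω p P) (χ : Cfsg.IrrCharacter G)
    (hP : ∑ x : ↥(P : Subgroup G), (χ : G → ℂ) (x : G) = 0) :
    ∀ g : G, (χ : G → ℂ) g = (χ : G → ℂ) 1 → g = 1 :=
  w2pfaith_core (P : Subgroup G) S.cardP (fun K hK hK1 => le_of_normal S K hK hK1) χ hP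

end A

end Cfsg.Agent.Lib.Lead.W2P
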