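import Mathlib
import Cfsg.Agent.Lib.helper7.CEU.Defs
import Cfsg.Agent.Lib.Helper27.STU.Defs3
import Cfsg.Agent.Lib.Helper18.STUK2
import Cfsg.Agent.Lib.Helper24.STCI1

/-!
# Project CEU (designer helper7; S2089, `n ≥ 4`), row M2 `split_of_sysU`, VERBATIM (helper23)

A lifted system gives a section: restrict the lifted system `P` to the subgroup `Γ₀` it generates; by `SysU.bijective_of_rep`
(`Helper18.STUK2`) the restriction of `σ` to `Γ₀` is bijective; the section is its inverse.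
Extra: `ceum2_restrict_gen` (the restriction of a system to the subgroup generated by its root elements generates).
-/

set_option autoImplicit false

namespace Cfsg.Agent.Lib.helper7.CEU

open Cfsg.Agent.Lib.helper15.St2 Cfsg.Agent.Lib.helper7.Ce Cfsg.Agent.Lib.helper3.STC Cfsg.Agent.Lib.Helper27.STU

open Cfsg.Agent.Lib.helper7.CEC (I2 I3 I4 U2 U3)

section M

universe u v w w₀

variable {F : Type u} [Field F] [StarRing F] {od : Prop} {ι : Type v} {Γ : Type w} {G : Type w₀} [Group Γ] [Group G] {S : SysU F od ι G} {σ : Γ →* G}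
  {h : IsCE σ}

/-- the restriction of a system to the subgroup generated by its root elements generates -/
theorem ceum2_restrict_gen (P : SysU F od ι Γ)
    (hs : ∀ a b, a ≠ b → a ≠ ng b → ∀ t, P.xs a b t ∈ P.XQ (fun _ _ => True))
    (hl : ∀ a ξ, P.xl a ξ ∈ P.XQ (fun _ _ => True)) :
    (P.restrict (P.XQ (fun _ _ => True)) hs hl).XQ (fun _ _ => True) = ⊤ := by
  have h : ({g : ↥(P.XQ (fun _ _ => True)) | ∃ a b t, a ≠ b ∧ a ≠ ng b ∧ True ∧
        g = (P.restrict (P.XQ (fun _ _ => True)) hs hl).xs a b t} ∪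
      {g : ↥(P.XQ (fun _ _ => True)) | ∃ a ξ, True ∧ g = (P.restrict (P.XQ (fun _ _ => True)) hs hl).xl a ξ}) =
      ((↑) : ↥(P.XQ (fun _ _ => True)) → Γ) ⁻¹' ({g | ∃ a b t, a ≠ b ∧ a ≠ ng b ∧ True ∧ g = P.xs a b t} ∪
        {g | ∃ a ξ, True ∧ g = P.xl a ξ}) := by
    ext ⟨g, hg⟩
    constructor
    · rintro (⟨a, b, t, hab, hab', -, h⟩ | ⟨a, ξ, -, h⟩)
      · refine Or.inl ⟨a, b, t, hab, hab', trivial, ?_⟩
        rw [← P.restrict_xs_coe _ hs hl hab hab' t]
        exact congrArg Subtype.val h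
      · exact Or.inr ⟨a, ξ, trivial, congrArg Subtype.val h⟩
    · rintro (⟨a, b, t, hab, hab', -, h⟩ | ⟨a, ξ, -, h⟩)
      · refine Or.inl ⟨a, b, t, hab, hab', trivial, Subtype.ext ?_⟩
        rw [P.restrict_xs_coe _ hs hl hab hab' t]
        exact h
      · exact Or.inr ⟨a, ξ, trivial, Subtype.ext h⟩
  exact (congrArg Subgroup.closure h).trans Subgroup.closure_closure_coe_preimage

/-- M2 [M]  (SHARED with the odd case)  a section from a lifted system. -/
theorem split_of_sysU [Finite F] (hF : Hyp F) [Finite ι] {V : Type*} [AddCommGroup V] [Module F V] (S : SysU F od ι G) (R : S.Rep V)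
    (hgen : S.XQ (fun _ _ => True) = ⊤) {σ : Γ →* G} (P : SysU F od ι Γ)
    (hPs : ∀ a b : ι ⊕ ι, ab a ≠ ab b → ∀ t, σ (P.xs a b t) = S.xs a b t) (hPl : ∀ a ξ, σ (P.xl a ξ) = S.xl a ξ) :
    ∃ s : G →* Γ, ∀ g, σ (s g) = g := by
  have hs : ∀ a b, a ≠ b → a ≠ ng b → ∀ t, P.xs a b t ∈ P.XQ (fun _ _ => True) :=
    fun a b hab hab' t => Subgroup.subset_closure (Or.inl ⟨a, b, t, hab, hab', trivial, rfl⟩)
  have hl : ∀ a ξ, P.xl a ξ ∈ P.XQ (fun _ _ => True) :=
    fun a ξ => Subgroup.subset_closure (Or.inr ⟨a, ξ, trivial, rfl⟩)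
  have hgen₀ := ceum2_restrict_gen P hs hl
  have hbij : Function.Bijective (σ.comp (P.XQ (fun _ _ => True)).subtype) := by
    refine SysU.bijective_of_rep hF R hgen (P.restrict (P.XQ (fun _ _ => True)) hs hl)
      (σ.comp (P.XQ (fun _ _ => True)).subtype) hgen₀ ?_ ?_
    · intro a b hab hab' t
      have hab2 : ab a ≠ ab b := by
        intro e
        rcases ab_eq_iff.1 e with e | e
        · exact hab e
        · exact hab' e
      show σ (((P.restrict (P.XQ (fun _ _ => True)) hs hl).xs a b t : ↥(P.XQ (fun _ _ => True))) : Γ) = S.xs a b t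
      rw [P.restrict_xs_coe _ hs hl hab hab' t]
      exact hPs a b hab2 t
    · intro a ξ
      exact hPl a ξ
  refine ⟨(P.XQ (fun _ _ => True)).subtype.comp (MulEquiv.ofBijective _ hbij).symm.toMonoidHom, fun g => ?_⟩
  exact (MulEquiv.ofBijective _ hbij).apply_symm_apply g

end M

end Cfsg.Agent.Lib.helper7.CEU
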