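import Mathlib
import Cfsg.Agent.Lib.helper7.CEU.Defs
import Cfsg.Agent.Lib.Helper27.STU.Defs3
import Cfsg.Agent.Lib.Helper24.STCI1
import Cfsg.Agent.Lib.Helper24.CECT10

/-!
# Project CEU (designer helper7; S2089, `n ≥ 4`), row T9a `HCs_of_HTs`, VERBATIM (helper23)

Case analysis, port of `Helper24.CECT10` (`HC_of_HT`).
-/

set_option autoImplicit false

namespace Cfsg.Agent.Lib.helper7.CEU

open Cfsg.Agent.Lib.helper15.St2 Cfsg.Agent.Lib.helper7.Ce Cfsg.Agent.Lib.helper3.STC Cfsg.Agent.Lib.Helper27.STU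

open Cfsg.Agent.Lib.helper7.CEC (I2 I3 I4 U2 U3)

section T

variable {F : Type*} [Field F] [StarRing F] {od : Prop} {ι : Type*} {Γ G : Type*} [Group Γ] [Group G] {S : SysU F od ι G} {σ : Γ →* G}

open Cfsg.Agent.Lib.helper7.CEC (cect10_sw cect10_ne cect10_ne') in
/-- T9 [M]  case analysis (model CEC T10, `Helper24.CECT10`). -/
theorem HCs_of_HTs (hT : HTs S σ) : HCs S σ := by
  intro a b c d hab hab' hcd hcd' hbc had hbd hac t u
  have sAB := cect10_ne hab hab'
  have hdb' : d ≠ ng b := cect10_sw hbd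
  by_cases hca : c = a
  · subst hca
    by_cases hdb : d = b
    · subst hdb
      exact hT.t1 c d sAB t u
    · exact hT.t3r c b d sAB (cect10_ne hcd hcd') (cect10_ne (Ne.symm hdb) hbd) t u
  · by_cases hcb : c = ng b
    · subst hcb
      rw [S.sym (ng b) d hcd hcd' u, ng_ng]
      have hdb : d ≠ b := fun h => hcd' (by rw [h])
      by_cases hda : d = ng a
      · subst hda
        rw [ng_ng]
        exact hT.t1 a b sAB t _
      · refine hT.t3c a b (ng d) sAB ?_ ?_ t _
        · rw [ab_ng]
          exact cect10_ne hdb hdb'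
        · rw [ab_ng]
          exact cect10_ne had (cect10_sw hda)
    · have sAC := cect10_ne (Ne.symm hca) hac
      have sBC := cect10_ne hbc (cect10_sw hcb)
      by_cases hda : d = ng a
      · subst hda
        rw [S.sym c (ng a) hcd hcd' u, ng_ng]
        refine hT.t3r a b (ng c) sAB ?_ ?_ t _
        · rw [ab_ng]; exact sAC
        · rw [ab_ng]; exact sBC
      · by_cases hdb : d = b
        · subst hdb
          exact hT.t3c a d c sAB (Ne.symm sBC) sAC t u
        · exact hT.t4 a b c d sAB (cect10_ne hcd hcd') sAC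
            (cect10_ne had (cect10_sw hda)) sBC
            (cect10_ne (Ne.symm hdb) hbd) t u

end T

end Cfsg.Agent.Lib.helper7.CEU
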