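import Mathlib
import Cfsg.Agent.Lib.helper7.CEU.Defs
import Cfsg.Agent.Lib.Helper27.STU.Defs3
import Cfsg.Agent.Lib.Helper27.STUH8

/-!
# Project CEU (designer helper7; S2089, `n ≥ 4`), row G5 `hl_ratio`, VERBATIM (helper23)

The long torus element `S.hl a ξ η` depends only on the ratio `ξ.c / η.c` (through `S.r1 a`, `stuh8_hl_eq`, `stuh8_mat_H`).
-/

set_option autoImplicit false

namespace Cfsg.Agent.Lib.helper7.CEU

open Cfsg.Agent.Lib.helper15.St2 Cfsg.Agent.Lib.helper7.Ce Cfsg.Agent.Lib.helper3.STC Cfsg.Agent.Lib.Helper27.STU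

open Cfsg.Agent.Lib.helper7.CEC (I2 I3 I4 U2 U3)

section G

variable {F : Type*} [Field F] [StarRing F] {od : Prop} {ι : Type*} {Γ G : Type*} [Group Γ] [Group G] {S : SysU F od ι G} {σ : Γ →* G}

/-- G5 [S-M]  the long torus element depends only on the ratio: through `S.r1 a`, `SysU.stuh8_hl_eq` and `stuh8_mat_H` (`Helper27.STUH8`), `SUm.mat_injective`. -/
theorem hl_ratio (S : SysU F od ι G) (a : ι ⊕ ι) {ξ η ξ' η' : Lam F od} (hξ : ξ.c ≠ 0) (hη : η.c ≠ 0) (hξ' : ξ'.c ≠ 0) (hη' : η'.c ≠ 0)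
    (hr : ξ.c / η.c = ξ'.c / η'.c) : S.hl a ξ η = S.hl a ξ' η' := by
  obtain ⟨ρ, hρ⟩ := S.r1 a
  rw [S.stuh8_hl_eq ρ hρ, S.stuh8_hl_eq ρ hρ]
  congr 1
  apply SUm.mat_injective
  rw [stuh8_mat_H hξ hη, stuh8_mat_H hξ' hη', hr]

end G

end Cfsg.Agent.Lib.helper7.CEU
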