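import Mathlib
import Cfsg.Agent.Lib.helper17.T3.DefsC

/-!
# T3C row A6 (helper23): cardinality facts on the finite fields `F ⊆ K`, `|K| = |F|³`
`card_K_facts`, `exists_ne_zero_one`, `exists_sq_ne_one'` verbatim from `helper17/T3/SkelC.lean.txt`.
-/

set_option autoImplicit false

namespace Cfsg.Agent.Lib.helper17.T3

open Cfsg.Agent.Lib.helper15.St2 Cfsg.Agent.Lib.helper7.Ce Matrix

variable {F K : Type*} [Field F] [Field K] [Algebra F K]

/-- a finite type in which every element is one of three given ones has at most three elements -/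
theorem t3ca6h23_card_le_three {α : Type*} [Finite α] [DecidableEq α] (a b c : α)
    (h : ∀ x : α, x = a ∨ x = b ∨ x = c) : Nat.card α ≤ 3 := by
  have : Fintype α := Fintype.ofFinite α
  rw [Nat.card_eq_fintype_card]
  have hsub : (Finset.univ : Finset α) ⊆ {a, b, c} := by
    intro x _
    rcases h x with h | h | h <;> simp [h]
  calc Fintype.card α = (Finset.univ : Finset α).card := rfl
    _ ≤ ({a, b, c} : Finset α).card := Finset.card_le_card hsub
    _ ≤ 3 := Finset.card_le_three

/-- a finite type in which every element is one of two given ones has at most two elements -/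
theorem t3ca6h23_card_le_two {α : Type*} [Finite α] [DecidableEq α] (a b : α)
    (h : ∀ x : α, x = a ∨ x = b) : Nat.card α ≤ 2 := by
  have : Fintype α := Fintype.ofFinite α
  rw [Nat.card_eq_fintype_card]
  have hsub : (Finset.univ : Finset α) ⊆ {a, b} := by
    intro x _
    rcases h x with h | h <;> simp [h]
  calc Fintype.card α = (Finset.univ : Finset α).card := rfl
    _ ≤ ({a, b} : Finset α).card := Finset.card_le_card hsub
    _ ≤ 2 := Finset.card_le_two

/-- `F` is finite when `K` is -/
theorem t3ca6h23_finite_F [Finite K] : Finite F :=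
  Finite.of_injective (algebraMap F K) (algebraMap F K).injective

/-- [A6] [S] cardinalities: `|F| ≥ 2` (a field), `8 ≤ |F|³`; `4` and `9` are not cubes. -/
theorem card_K_facts [Finite K] (hcard : Nat.card K = Nat.card F ^ 3) : 8 ≤ Nat.card K ∧ Nat.card K ≠ 9 := by
  have : Finite F := t3ca6h23_finite_F (F := F) (K := K)
  have h2 : 2 ≤ Nat.card F := by
    have : 1 < Nat.card F := Finite.one_lt_card
    omega
  rw [hcard]
  constructor
  · calc 8 = 2 ^ 3 := by norm_num
      _ ≤ Nat.card F ^ 3 := Nat.pow_le_pow_left h2 3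
  · intro h9
    have h3 : Nat.card F < 3 := by
      by_contra hge
      push Not at hge
      have : 3 ^ 3 ≤ Nat.card F ^ 3 := Nat.pow_le_pow_left hge 3
      omega
    interval_cases (Nat.card F) <;> omega

/-- [A6] [S] `F \ {0, 1}` is nonempty. -/
theorem exists_ne_zero_one [Finite K] (hF : 3 ≤ Nat.card F) : ∃ c : F, c ≠ 0 ∧ c ≠ 1 := by
  classical
  have : Finite F := t3ca6h23_finite_F (F := F) (K := K)
  by_contra hcon
  push Not at hcon
  have h2 : Nat.card F ≤ 2 := by
    apply t3ca6h23_card_le_two (0 : F) 1
    intro x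
    by_cases hx : x = 0
    · exact Or.inl hx
    · exact Or.inr (hcon x hx)
  omega

/-- [A6] [S] `u² = 1` has at most two solutions, `0` is a third excluded element, and `|K| ≥ 4`. -/
theorem exists_sq_ne_one' [Finite K] (hK : 4 ≤ Nat.card K) : ∃ u : K, u ≠ 0 ∧ u ^ 2 ≠ 1 := by
  classical
  by_contra hcon
  push Not at hcon
  have h3 : Nat.card K ≤ 3 := by
    apply t3ca6h23_card_le_three (0 : K) 1 (-1)
    intro x
    by_cases hx : x = 0
    · exact Or.inl hx
    · right
      have h1 := hcon x hx
      rw [sq] at h1
      exact mul_self_eq_one_iff.mp h1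
  omega

end Cfsg.Agent.Lib.helper17.T3
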