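import Mathlib
import Cfsg.Prelude.Def_GeometricClasses
import Cfsg.Agent.Lib.Helper27.ASC.Defs
import Cfsg.Agent.Lib.helper23.ASCO.Defs
import Cfsg.Agent.Lib.Lead.Reindex
import Cfsg.Agent.Lib.Helper28.OTrans
import Cfsg.Agent.Lib.Helper16.SpinG2
import Cfsg.Agent.S0292
import Cfsg.Agent.Lib.helper23.ASCOMain
import Cfsg.Agent.Lib.Helper10.ASCOGRAMSTD
import Cfsg.Agent.Lib.Helper25.ASCOGRAMTR
import Cfsg.Agent.Lib.Helper18.ASCOTRTS
import Cfsg.Agent.Lib.Helper24.ASCOTRND
import Cfsg.Agent.Lib.Helper24.ASCOTRFR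
import Cfsg.Agent.Lib.Helper25.ASCOTRSUB
import Cfsg.Agent.Lib.Helper18.ASCOTRRES

set_option autoImplicit false
set_option linter.unusedVariables false
set_option linter.unusedSectionVars false

namespace Cfsg.Agent.Lib.helper23.ASCO

open Cfsg Cfsg.Geo Cfsg.Agent.Lib.Helper27.ASC Cfsg.Agent.Lib.Lead Cfsg.Agent.Lib.Helper16
open scoped MatrixGroups Matrix

variable {F : Type*} [Field F] [Fintype F]

/-- maximality is transported by a group isomorphism -/
theorem asco_isMaximalIn_map {G G' : Type*} [Group G] [Group G'] (φ : G ≃* G') (K H : Subgroup G)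
    (h : IsMaximalIn K H) : IsMaximalIn (K.map φ.toMonoidHom) (H.map φ.toMonoidHom) := by
  have hinj : Function.Injective φ.toMonoidHom := φ.injective
  refine ⟨(Subgroup.map_lt_map_iff_of_injective hinj).2 h.1, fun M hHM hMK => ?_⟩
  have hM : (M.comap φ.toMonoidHom).map φ.toMonoidHom = M :=
    Subgroup.map_comap_eq_self_of_surjective φ.surjective M
  rcases h.2 (M.comap φ.toMonoidHom)
      (by rw [← Subgroup.map_le_iff_le_comap]; exact hHM)
      (by
        intro x hx
        obtain ⟨k, hk, hkx⟩ := hMK (Subgroup.mem_comap.1 hx)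
        rwa [← hinj hkx]) with h1 | h1
  · left; rw [← hM, h1]
  · right; rw [← hM, h1]

/-- The theorem for any index type of prime cardinality `r ≥ 7`. -/
theorem asco_any {ι : Type} [Fintype ι] [DecidableEq ι] {r : ℕ} (hcard : Fintype.card ι = r)
    (hr : r.Prime) (hr7 : 7 ≤ r) (h2 : (2 : F) ≠ 0)
    (Q : QuadraticForm F (ι → F)) (hQ : (QuadraticMap.polarBilin Q).Nondegenerate)
    (hG : GramPrime (⇑Q)) (H : Subgroup (GL ι F)) (hH : IsMaximalIn (omegaGL (⇑Q)) H) :
    ConclO r (⇑Q) H := by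
  let e : ι ≃ Fin r := Fintype.equivFinOfCardEq hcard
  have hH' := asco_isMaximalIn_map (RI.glReindex (F := F) e) _ _ hH
  rw [Cfsg.Agent.Lib.Helper28.OTrans.map_omegaGL] at hH'
  have hc := asco_prime hr hr7 h2 (RI.qReindex e Q) (RI.qReindex_nondeg e Q hQ)
    (gramPrime_reindex e (⇑Q) hG) _ hH'
  rcases hc with h | h | ⟨hp, h⟩ | h | h
  · exact Or.inl (classTS_transport e (⇑Q) H h)
  · exact Or.inr (Or.inl (classND_transport e (⇑Q) H h))
  · exact Or.inr (Or.inr (Or.inl ⟨hp, classFrame_transport e r (⇑Q) H h⟩))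
  · exact Or.inr (Or.inr (Or.inr (Or.inl (classSub_transport e (⇑Q) H h))))
  · exact Or.inr (Or.inr (Or.inr (Or.inr (residual_transport e H h))))

/-- the standard odd-dimensional form, `2m + 1 = r` prime, `r ≥ 7` -/
theorem asco_std (m r : ℕ) (hm : 2 * m + 1 = r) (hr : r.Prime) (hr7 : 7 ≤ r)
    (hodd : Odd (Fintype.card F)) (H : Subgroup (GL (Unit ⊕ (Fin m ⊕ Fin m)) F))
    (hH : IsMaximalIn (omegaGL (quadFormOdd m F)) H) : ConclO r (quadFormOdd m F) H := by
  have h2 : (2 : F) ≠ 0 := Cfsg.Agent.S0292.two_ne_zero_of_odd rfl hodd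
  have hcard : Fintype.card (Unit ⊕ (Fin m ⊕ Fin m)) = r := by
    simp only [Fintype.card_sum, Fintype.card_fin, Fintype.card_unit]
    omega
  have := asco_any hcard hr hr7 h2 (qfOdd m F) (Cfsg.Agent.S0292.nondeg_odd h2 m)
    (by rw [qfOdd_coe]; exact gramPrime_quadFormOdd m) H (by rw [qfOdd_coe]; exact hH)
  rw [qfOdd_coe] at this
  exact this

end Cfsg.Agent.Lib.helper23.ASCO
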