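import Mathlib

set_option autoImplicit false

namespace Cfsg.Agent.Lib.helper23

variable {G : Type*} [Group G]

theorem sylow_le_of_normal_of_not_dvd_index [Finite G] {p : ℕ} [Fact p.Prime]
    (H : Subgroup G) [H.Normal] (hp : ¬ p ∣ H.index) (P : Sylow p G) : (P : Subgroup G) ≤ H := by
  have h1 : IsPGroup p ((P : Subgroup G).map (QuotientGroup.mk' H)) := P.isPGroup'.map _
  obtain ⟨n, hn⟩ := IsPGroup.iff_card.mp h1
  have h2 : Nat.card ((P : Subgroup G).map (QuotientGroup.mk' H)) ∣ H.index := by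
    rw [Subgroup.index]
    exact Subgroup.card_subgroup_dvd_card _
  have h3 : n = 0 := by
    by_contra hn0
    apply hp
    rw [hn] at h2
    exact (dvd_pow_self p hn0).trans h2
  rw [h3, pow_zero, Subgroup.card_eq_one] at hn
  rw [← QuotientGroup.ker_mk' H]
  exact (Subgroup.map_eq_bot_iff _).mp hn

theorem card_sylow_of_normal_of_not_dvd_index [Finite G] {p : ℕ} [Fact p.Prime]
    (H : Subgroup G) [H.Normal] (hp : ¬ p ∣ H.index) :
    Nat.card (Sylow p H) = Nat.card (Sylow p G) := by
  symm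
  apply Nat.card_congr
  refine Equiv.ofBijective
    (fun P : Sylow p G => P.subtype (sylow_le_of_normal_of_not_dvd_index H hp P)) ⟨?_, ?_⟩
  · intro P Q h
    exact Sylow.subtype_injective h
  · intro Q
    obtain ⟨P, hP⟩ := Q.exists_comap_subtype_eq
    refine ⟨P, ?_⟩
    apply Sylow.ext
    rw [Sylow.coe_subtype]
    exact hP

theorem card_sylow_quotient_of_le_center [Finite G] {p : ℕ} [Fact p.Prime]
    (Z : Subgroup G) [Z.Normal] (hZ : Z ≤ Subgroup.center G) :
    Nat.card (Sylow p (G ⧸ Z)) = Nat.card (Sylow p G) := by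
  symm
  apply Nat.card_congr
  refine Equiv.ofBijective
    (Sylow.mapSurjective (QuotientGroup.mk'_surjective Z) : Sylow p G → Sylow p (G ⧸ Z))
    ⟨?_, Sylow.mapSurjective_surjective _ p⟩
  intro P Q h
  have h1 : (P : Subgroup G).map (QuotientGroup.mk' Z) = (Q : Subgroup G).map (QuotientGroup.mk' Z) := by
    have := congrArg (fun R : Sylow p (G ⧸ Z) => (R : Subgroup (G ⧸ Z))) h
    simpa using this
  have h2 : (P : Subgroup G) ⊔ Z = (Q : Subgroup G) ⊔ Z := by
    have := congrArg (Subgroup.comap (QuotientGroup.mk' Z)) h1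
    rwa [Subgroup.comap_map_eq, Subgroup.comap_map_eq, QuotientGroup.ker_mk'] at this
  have h3 : (Q : Subgroup G) ≤ Subgroup.normalizer ((P : Subgroup G) : Set G) := by
    have : (Q : Subgroup G) ≤ (P : Subgroup G) ⊔ Z := by rw [h2]; exact le_sup_left
    refine this.trans (sup_le Subgroup.le_normalizer ?_)
    exact hZ.trans (Subgroup.center_le_normalizer _)
  have h4 := Q.isPGroup'.inf_normalizer_sylow P
  have h5 : (Q : Subgroup G) ≤ (P : Subgroup G) := by
    have : (Q : Subgroup G) ⊓ Subgroup.normalizer ((P : Subgroup G) : Set G) = Q :=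
      inf_eq_left.mpr h3
    have h6 : (Q : Subgroup G) ⊓ (P : Subgroup G) = Q := h4.symm.trans this
    exact inf_eq_left.mp h6
  exact Sylow.ext (Q.is_maximal' P.isPGroup' h5)

end Cfsg.Agent.Lib.helper23
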