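import Mathlib
import Cfsg.Agent.Lib.Helper28.CD3.Defs

/-! CD3-MAXK (helper23): a maximal normal subgroup `K ≥ L` with `G / K` nonabelian -/

set_option autoImplicit false
open scoped commutatorElement

namespace Cfsg.Agent.Lib.Helper28.CD3

universe u

section partA
variable {G : Type u} [Group G] [Finite G]

-- piece MAXK
theorem exists_maxK (L : Subgroup G) [L.Normal] (hL : ¬ commutator G ≤ L) :
    ∃ K : Subgroup G, K.Normal ∧ L ≤ K ∧ ¬ commutator G ≤ K ∧
      ∀ N : Subgroup G, N.Normal → K < N → commutator G ≤ N := by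
  classical
  set S : Set (Subgroup G) := {K | K.Normal ∧ L ≤ K ∧ ¬ commutator G ≤ K} with hS
  have hfin : S.Finite := Set.toFinite S
  have hne : S.Nonempty := ⟨L, inferInstance, le_refl L, hL⟩
  obtain ⟨K, hK⟩ := hfin.exists_maximal hne
  obtain ⟨hKn, hLK, hKc⟩ := hK.prop
  refine ⟨K, hKn, hLK, hKc, ?_⟩
  intro N hN hKN
  by_contra hc
  have hNS : N ∈ S := ⟨hN, le_trans hLK hKN.le, hc⟩
  exact absurd (hK.le_of_ge hNS hKN.le) (not_le_of_gt hKN)

end partA

end Cfsg.Agent.Lib.Helper28.CD3
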