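import Mathlib
import Cfsg.Agent.Lib.Helper28.CD3.Defs
import Cfsg.Agent.Lib.helper23.CD3DERQ

/-! CD3-SYLA core (helper23): the Sylow case with `G' ≤ F` is impossible, with the conclusions of CDF, QDIV
and SMALL as hypotheses -/

set_option autoImplicit false
open scoped commutatorElement

namespace Cfsg.Agent.Lib.Helper28.CD3

universe u

section partB
variable {G : Type u} [Group G] [Finite G]

/-- SYLA with the conclusions of CDF, QDIV and SMALL (for `F`) as hypotheses -/
theorem cd3syla_core {m n q : ℕ} {F : Subgroup G} (h : BData G m n q F)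
    (hab : commutator G ≤ F)
    (hCDF : ∀ φ : Cfsg.IrrCharacter F,
      ∃ d ∈ ({1, m, n} : Set ℕ), Cfsg.charDegree (φ : F → ℂ) = ordProj[q] d)
    (hQDIV : (q ∣ m ∧ ¬ q ∣ n) ∨ (¬ q ∣ m ∧ q ∣ n))
    (hSMALL : (Cfsg.charDegrees F).ncard ≤ 2 → derivedSeries F 2 = ⊥) : False := by
  have hq := h.hq
  have hnd : ∀ k : ℕ, ¬ q ∣ k → ordProj[q] k = 1 := by
    intro k hk
    rw [Nat.factorization_eq_zero_of_not_dvd hk, pow_zero]
  have h1 : ordProj[q] 1 = 1 := by simp
  -- the degrees of `F` lie in a set with two elements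
  have hsub : ∃ x : ℕ, Cfsg.charDegrees F ⊆ ({1, x} : Set ℕ) := by
    rcases hQDIV with ⟨_, hn⟩ | ⟨hm, _⟩
    · refine ⟨ordProj[q] m, ?_⟩
      rintro d ⟨φ, rfl⟩
      obtain ⟨e, he, hφ⟩ := hCDF φ
      rw [hφ]
      rcases he with rfl | rfl | he
      · left; exact h1
      · right; rfl
      · rw [Set.mem_singleton_iff] at he
        left; rw [he]; exact hnd n hn
    · refine ⟨ordProj[q] n, ?_⟩
      rintro d ⟨φ, rfl⟩
      obtain ⟨e, he, hφ⟩ := hCDF φ
      rw [hφ]
      rcases he with rfl | rfl | he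
      · left; exact h1
      · left; exact hnd _ hm
      · rw [Set.mem_singleton_iff] at he
        right; rw [he]; rfl
  obtain ⟨x, hx⟩ := hsub
  have hcard : (Cfsg.charDegrees F).ncard ≤ 2 := by
    have hfin : ({1, x} : Set ℕ).Finite := Set.toFinite _
    calc (Cfsg.charDegrees F).ncard ≤ ({1, x} : Set ℕ).ncard := Set.ncard_le_ncard hx hfin
      _ ≤ ({x} : Set ℕ).ncard + 1 := Set.ncard_insert_le 1 {x}
      _ = 2 := by rw [Set.ncard_singleton]
  have hF2 := hSMALL hcard
  have hG1 : derivedSeries G 1 ≤ F := by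
    rw [derivedSeries_one]
    exact hab
  exact h.hce.hne (derived_of_sub F 1 2 hG1 hF2)

end partB

end Cfsg.Agent.Lib.Helper28.CD3
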