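import Mathlib
import Cfsg.Agent.Lib.Helper28.CD3.Defs
import Cfsg.Agent.Lib.helper23.CD3SYLAcore
import Cfsg.Agent.Lib.Helper25.CD3CDF
import Cfsg.Agent.Lib.Helper25.CD3QDIVcore
import Cfsg.Agent.Lib.Helper19.CD3BFAB
import Cfsg.Agent.Lib.Helper16.CD3BTOP
import Cfsg.Agent.Lib.Helper28.CD3SMALL

/-! CD3-SYLA (helper23): the Sylow case with `G' ≤ F` is impossible -/

set_option autoImplicit false
open scoped commutatorElement

namespace Cfsg.Agent.Lib.Helper28.CD3

universe u

section partB
variable {G : Type u} [Group G] [Finite G]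

-- piece SYLA
theorem syl_ab {m n q : ℕ} {F : Subgroup G} (h : BData G m n q F) (hsyl : ¬ q ∣ F.index)
    (hab : commutator G ≤ F) : False :=
  cd3syla_core h hab (fun φ => cdF_of_sylow h hsyl φ)
    (cd3qdiv_core h (F_not_abelian h) (F_ne_top h))
    (fun hc => dl_of_ncard_le_two hc)

end partB

end Cfsg.Agent.Lib.Helper28.CD3
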