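import Cfsg.Agent.Lib.Helper27.WSP.Defs

/-! # WSP-C1 : the Weyl operators multiply with the cocycle `wc` -/

set_option autoImplicit false
set_option linter.unusedSectionVars false
set_option linter.unusedVariables false

namespace Cfsg.Agent.Lib.Helper27.WSP

open Matrix

section C

variable {F : Type*} [Field F] {n : ℕ}

/-- the symplectic form in terms of the two halves -/
theorem h23_sympForm_eq (v w : Fin n ⊕ Fin n → F) :
    Cfsg.sympForm n F v w = vr v ⬝ᵥ vl w - vl v ⬝ᵥ vr w := by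
  unfold Cfsg.sympForm vl vr
  rw [Matrix.J, Matrix.fromBlocks_mulVec]
  simp only [dotProduct, Fintype.sum_sum_type, Sum.elim_inl, Sum.elim_inr, Matrix.zero_mulVec,
    Matrix.neg_mulVec, Matrix.one_mulVec, zero_add, add_zero, Pi.neg_apply, Function.comp_apply,
    mul_neg, Finset.sum_neg_distrib]
  ring

theorem h23_vl_add (v w : Fin n ⊕ Fin n → F) : vl (v + w) = vl v + vl w := rfl

theorem h23_vr_add (v w : Fin n ⊕ Fin n → F) : vr (v + w) = vr v + vr w := rfl

theorem h23_vl_zero : vl (0 : Fin n ⊕ Fin n → F) = 0 := rfl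

theorem h23_vr_zero : vr (0 : Fin n ⊕ Fin n → F) = 0 := rfl

theorem h23_vl_neg (v : Fin n ⊕ Fin n → F) : vl (-v) = -vl v := rfl

theorem h23_vr_neg (v : Fin n ⊕ Fin n → F) : vr (-v) = -vr v := rfl

/-- C1 -/
theorem weyl_mul (h2 : (2 : F) ≠ 0) (ψ : AddChar F ℂ) (v w : Fin n ⊕ Fin n → F) :
    weyl ψ v * weyl ψ w = wc ψ v w • weyl ψ (v + w) := by
  refine LinearMap.ext fun f => ?_
  funext x
  rw [Module.End.mul_apply, weyl_apply, weyl_apply, LinearMap.smul_apply, Pi.smul_apply,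
    smul_eq_mul, weyl_apply, wc, h23_sympForm_eq, h23_vl_add, h23_vr_add, ← mul_assoc,
    ← mul_assoc, ← AddChar.map_add_eq_mul, ← AddChar.map_add_eq_mul, add_assoc x]
  congr 2
  simp only [add_dotProduct, dotProduct_add]
  rw [dotProduct_comm (vr v) (vl w)]
  have h : (2 : F) * 2⁻¹ = 1 := mul_inv_cancel₀ h2
  linear_combination (-(vl w ⬝ᵥ vr v)) * h

/-- C1 -/
theorem weyl_zero (ψ : AddChar F ℂ) : weyl ψ (0 : Fin n ⊕ Fin n → F) = 1 := by
  refine LinearMap.ext fun f => ?_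
  funext x
  rw [weyl_apply, h23_vl_zero, h23_vr_zero]
  simp

end C

end Cfsg.Agent.Lib.Helper27.WSP
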