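import Cfsg.Agent.Lib.Helper27.WSP.Defs

/-! # WSP-C2 : the Weyl operators of nonzero vectors have trace zero -/

set_option autoImplicit false
set_option linter.unusedSectionVars false
set_option linter.unusedVariables false

namespace Cfsg.Agent.Lib.Helper27.WSP

open Matrix

section C

/-- the trace of an endomorphism of a space of functions on a finite set -/
theorem h23_trace_pi {X : Type*} [Fintype X] [DecidableEq X] (T : Module.End ℂ (X → ℂ)) :
    LinearMap.trace ℂ (X → ℂ) T = ∑ x, T (Pi.single x 1) x := by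
  rw [LinearMap.trace_eq_matrix_trace ℂ (Pi.basisFun ℂ X) T, Matrix.trace]
  refine Finset.sum_congr rfl fun x _ => ?_
  rw [Matrix.diag_apply, LinearMap.toMatrix_apply, Pi.basisFun_apply, Pi.basisFun_repr]

variable {F : Type*} [Field F] {n : ℕ}

/-- the sum of a nontrivial character over the values of a nonzero linear form vanishes -/
theorem h23_sum_dot [Fintype F] (ψ : AddChar F ℂ) (hψ : ψ ≠ 1) (a : Fin n → F) (ha : a ≠ 0) :
    ∑ x : Fin n → F, ψ (a ⬝ᵥ x) = 0 := by
  classical
  let φ : (Fin n → F) →+ F :=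
    { toFun := fun x => a ⬝ᵥ x
      map_zero' := dotProduct_zero a
      map_add' := dotProduct_add a }
  have hne : ψ.compAddMonoidHom φ ≠ 1 := by
    obtain ⟨t0, ht0⟩ := (AddChar.ne_one_iff).mp hψ
    obtain ⟨i, hi⟩ : ∃ i, a i ≠ 0 := by
      by_contra hcon
      push Not at hcon
      exact ha (funext hcon)
    refine (AddChar.ne_one_iff).mpr ⟨Pi.single i (t0 / a i), ?_⟩
    rw [AddChar.compAddMonoidHom_apply]
    show ψ (a ⬝ᵥ Pi.single i (t0 / a i)) ≠ 1
    rw [dotProduct_single, mul_div_cancel₀ _ hi]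
    exact ht0
  have := AddChar.sum_eq_zero_of_ne_one hne
  simp only [AddChar.compAddMonoidHom_apply] at this
  exact this

/-- C2 -/
theorem trace_weyl [Fintype F] (ψ : AddChar F ℂ) (hψ : ψ ≠ 1) (v : Fin n ⊕ Fin n → F)
    (hv : v ≠ 0) : LinearMap.trace ℂ ((Fin n → F) → ℂ) (weyl ψ v) = 0 := by
  classical
  rw [h23_trace_pi]
  by_cases hb : vr v = 0
  · have ha : vl v ≠ 0 := by
      intro ha
      apply hv
      funext i
      rcases i with i | i
      · exact congrFun ha i
      · exact congrFun hb i
    rw [← h23_sum_dot ψ hψ (vl v) ha]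
    refine Finset.sum_congr rfl fun x _ => ?_
    rw [weyl_apply, hb, add_zero, dotProduct_zero, mul_zero, add_zero, Pi.single_eq_same, mul_one]
  · refine Finset.sum_eq_zero fun x _ => ?_
    rw [weyl_apply, Pi.single_eq_of_ne, mul_zero]
    intro h
    exact hb (by simpa using h)

end C

end Cfsg.Agent.Lib.Helper27.WSP
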