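import Cfsg.Agent.Lib.Helper27.WSP.Defs

/-! # WSP-O1 : `f ↦ f(-x)` and the Weyl operators -/

set_option autoImplicit false
set_option linter.unusedSectionVars false
set_option linter.unusedVariables false

namespace Cfsg.Agent.Lib.Helper27.WSP

open Matrix

section O

variable {F : Type*} [Field F] {n : ℕ}

/-- O1 -/
theorem negOp_weyl (ψ : AddChar F ℂ) (v : Fin n ⊕ Fin n → F) :
    negOp n F * weyl ψ v = weyl ψ (-v) * negOp n F := by
  refine LinearMap.ext fun f => ?_
  funext x
  rw [Module.End.mul_apply, Module.End.mul_apply, negOp_apply, weyl_apply, weyl_apply,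
    negOp_apply]
  have e1 : vl (-v) = -vl v := rfl
  have e2 : vr (-v) = -vr v := rfl
  rw [e1, e2]
  congr 2
  · simp only [neg_dotProduct, dotProduct_neg, neg_neg]
  · rw [neg_add, neg_neg]

/-- O1 -/
theorem negOp_mul_self : negOp n F * negOp n F = 1 := by
  refine LinearMap.ext fun f => ?_
  funext x
  rw [Module.End.mul_apply, negOp_apply, negOp_apply, neg_neg]
  rfl

end O

end Cfsg.Agent.Lib.Helper27.WSP
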