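import Cfsg.Agent.Lib.helper23.PgJ

set_option autoImplicit false

/-!
# Enumeration of the elements of a checked chain, with pruning; centralisers

The elements of the group of a checked chain are the products of transversal elements.  The
enumeration follows the levels; a branch is cut when the images of the base points chosen so far
are not compatible with a condition (`prune`).  For the centraliser of `v`, with the second base
point the image of the first one under `v`, only one branch survives at the second level.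
On the first `md` levels the product of the transversal elements chosen so far is stored as a
table (`mk` builds a table from a function, `lk` looks up in a table).
-/

namespace Cfsg.Agent.Lib.helper23

open Subgroup MulAction

/-- iterate a lookup function -/
def pgIter (g : ℕ → ℕ) (k p : ℕ) : ℕ := @Nat.rec (fun _ => ℕ) p (fun _ ih => g ih) k

theorem pgIter_succ (g : ℕ → ℕ) (k p : ℕ) : pgIter g (k + 1) p = g (pgIter g k p) := rfl

theorem pgIter_perm {n : ℕ} (h : Equiv.Perm (Fin n)) (g : ℕ → ℕ)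
    (hg : ∀ p : Fin n, g p.1 = (h p).1) (k : ℕ) (p : Fin n) :
    pgIter g k p.1 = ((h ^ k) p).1 := by
  induction k with
  | zero => rfl
  | succ k ih =>
    rw [pgIter_succ, ih, hg, pow_succ', Equiv.Perm.mul_apply]

/-- the table of a function, `w` bits per entry: Horner scheme from the top -/
def pgMk (w n : ℕ) (f : ℕ → ℕ) : ℕ :=
  @Nat.rec (fun _ => ℕ) 0
    (fun m ih => Nat.add (Nat.mul ih (Nat.pow 2 w)) (f (Nat.sub (Nat.sub n 1) m))) n

/-- lookup in a table, `w` bits per entry -/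
def pgLk (w T i : ℕ) : ℕ := Nat.land (Nat.shiftRight T (Nat.mul w i)) (Nat.sub (Nat.pow 2 w) 1)

theorem pgLk_eq (w T i : ℕ) : pgLk w T i = T / (2 ^ w) ^ i % 2 ^ w := by
  unfold pgLk
  change (T >>> (w * i)) &&& (2 ^ w - 1) = _
  rw [Nat.and_two_pow_sub_one_eq_mod, Nat.shiftRight_eq_div_pow, pow_mul]

/-- the Horner scheme for the entries `n - m, …, n - 1` -/
def pgMkAux (w n : ℕ) (f : ℕ → ℕ) (m : ℕ) : ℕ :=
  @Nat.rec (fun _ => ℕ) 0
    (fun m ih => Nat.add (Nat.mul ih (Nat.pow 2 w)) (f (Nat.sub (Nat.sub n 1) m))) m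

theorem pgMkAux_succ (w n : ℕ) (f : ℕ → ℕ) (m : ℕ) :
    pgMkAux w n f (m + 1) = pgMkAux w n f m * 2 ^ w + f (n - 1 - m) := rfl

theorem pgMkAux_lk (w n : ℕ) (f : ℕ → ℕ) (hf : ∀ k < n, f k < 2 ^ w) :
    ∀ m ≤ n, ∀ i < m, pgLk w (pgMkAux w n f m) i = f (n - m + i) := by
  intro m
  induction m with
  | zero => intro _ i hi; exact absurd hi (Nat.not_lt_zero _)
  | succ m ih =>
    intro hm i hi
    rw [pgLk_eq, pgMkAux_succ]
    have hpos : 0 < 2 ^ w := Nat.pos_of_ne_zero (by positivity)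
    cases i with
    | zero =>
      rw [pow_zero, Nat.div_one, Nat.mul_add_mod_self_right, Nat.mod_eq_of_lt (hf _ (by omega))]
      congr 1
      omega
    | succ i =>
      have h1 : (pgMkAux w n f m * 2 ^ w + f (n - 1 - m)) / (2 ^ w) ^ (i + 1) =
          pgMkAux w n f m / (2 ^ w) ^ i := by
        rw [pow_succ', ← Nat.div_div_eq_div_mul, Nat.mul_comm, Nat.mul_add_div hpos,
          Nat.div_eq_of_lt (hf _ (by omega)), Nat.add_zero]
      rw [h1, ← pgLk_eq, ih (by omega) i (by omega)]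
      congr 1
      omega

theorem pgMk_lk (w n : ℕ) (f : ℕ → ℕ) (hf : ∀ k < n, f k < 2 ^ w) (i : ℕ) (hi : i < n) :
    pgLk w (pgMk w n f) i = f i := by
  have := pgMkAux_lk w n f hf n le_rfl i hi
  rw [Nat.sub_self, Nat.zero_add] at this
  exact this

/-- one step of the enumeration -/
def pgEnumStep (n w : ℕ) (prune : List (ℕ × ℕ) → Bool) (L : PgLvlW)
    (ih : ℕ → (ℕ → ℕ) → List (ℕ × ℕ) → Bool) (md : ℕ) (pre : ℕ → ℕ) (imgs : List (ℕ × ℕ))
    (z : ℕ) : Bool :=
  cond (L.inO z)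
    (pgForce (pre z) (fun y => cond (prune ((L.b, y) :: imgs))
      (@Nat.rec (fun _ => Bool)
        (ih 0 (fun p => pre (pgEvalW L.own (L.path z) p)) ((L.b, y) :: imgs))
        (fun md' _ => pgForce (pgMk w n (fun p => pre (pgEvalW L.own (L.path z) p)))
          (fun T => ih md' (fun p => pgLk w T p) ((L.b, y) :: imgs)))
        md)
      true))
    true

/-- enumeration of the elements of the group of a chain: `pre` is the product of the transversal
elements chosen so far, `imgs` the pairs of a base point and its image -/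
def pgEnumM (n w : ℕ) (prune : List (ℕ × ℕ) → Bool) (test : (ℕ → ℕ) → Bool) :
    List PgLvlW → ℕ → (ℕ → ℕ) → List (ℕ × ℕ) → Bool :=
  @List.rec PgLvlW (fun _ => ℕ → (ℕ → ℕ) → List (ℕ × ℕ) → Bool)
    (fun _ pre _ => test pre)
    (fun L _ ih md pre imgs => pgAll n (fun z => pgEnumStep n w prune L ih md pre imgs z))

theorem pgEnumM_nil (n w : ℕ) (prune : List (ℕ × ℕ) → Bool) (test : (ℕ → ℕ) → Bool) (md : ℕ)
    (pre : ℕ → ℕ) (imgs : List (ℕ × ℕ)) : pgEnumM n w prune test [] md pre imgs = test pre := rfl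

theorem pgEnumM_cons (n w : ℕ) (prune : List (ℕ × ℕ) → Bool) (test : (ℕ → ℕ) → Bool)
    (L : PgLvlW) (C : List PgLvlW) (md : ℕ) (pre : ℕ → ℕ) (imgs : List (ℕ × ℕ)) :
    pgEnumM n w prune test (L :: C) md pre imgs =
      pgAll n (fun z => pgEnumStep n w prune L (pgEnumM n w prune test C) md pre imgs z) := rfl

theorem pgEnumStep_spec {n w : ℕ} {prune : List (ℕ × ℕ) → Bool} {L : PgLvlW}
    {ih : ℕ → (ℕ → ℕ) → List (ℕ × ℕ) → Bool} {md : ℕ} {pre : ℕ → ℕ} {imgs : List (ℕ × ℕ)}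
    {z : ℕ} (h : pgEnumStep n w prune L ih md pre imgs z = true) (hz : L.inO z = true)
    (hp : prune ((L.b, pre z) :: imgs) = true) :
    ∃ md' : ℕ, ∃ pre' : ℕ → ℕ, ih md' pre' ((L.b, pre z) :: imgs) = true ∧
      (pre' = (fun p => pre (pgEvalW L.own (L.path z) p)) ∨
        pre' = (fun p => pgLk w (pgMk w n (fun p => pre (pgEvalW L.own (L.path z) p))) p)) := by
  unfold pgEnumStep at h
  rw [hz] at h
  simp only [cond_true, pgForce_eq] at h
  rw [hp] at h
  simp only [cond_true] at h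
  cases md with
  | zero => exact ⟨0, _, h, Or.inl rfl⟩
  | succ md' =>
    exact ⟨md', _, h, Or.inr rfl⟩

theorem pgEnumM_sound {n w : ℕ} (hw : n ≤ 2 ^ w) (R : PgRigid n)
    (prune : List (ℕ × ℕ) → Bool)
    (test : (ℕ → ℕ) → Bool) (h : Equiv.Perm (Fin n))
    (hprune : ∀ l : List (ℕ × ℕ), (∀ q ∈ l, ∃ hq : q.1 < n, (h ⟨q.1, hq⟩).1 = q.2) →
      prune l = true) :
    ∀ C : List PgLvlW, pgChkW n R.base C = true → pgGrpW n C ≤ R.A →
    ∀ (md : ℕ) (pre : ℕ → ℕ) (W : Equiv.Perm (Fin n)) (imgs : List (ℕ × ℕ)),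
      (∀ p : Fin n, pre p.1 = (W p).1) →
      (∀ q ∈ imgs, ∃ hq : q.1 < n, (h ⟨q.1, hq⟩).1 = q.2) →
      pgEnumM n w prune test C md pre imgs = true →
      ∀ h' ∈ pgGrpW n C, h = W * h' →
      ∃ f : ℕ → ℕ, (∀ p : Fin n, f p.1 = (h p).1) ∧ test f = true := by
  intro C
  induction C with
  | nil =>
    intro _ _ md pre W imgs hpre _ hen h' hh' hW
    rw [pgGrpW_nil, Subgroup.mem_bot] at hh'
    rw [hh', mul_one] at hW
    rw [pgEnumM_nil] at hen
    refine ⟨pre, ?_, hen⟩
    intro p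
    rw [hW]
    exact hpre p
  | cons L C ih =>
    intro hchk hA md pre W imgs hpre himgs hen h' hh' hW
    obtain ⟨hb, hstab, -, -, hmono⟩ := pgLvlW_main R hchk hA
    have horb := pgLvlW_orbit R hchk hA hb h' hh'
    have hchk' := hchk
    rw [pgChkW_cons, Bool.and_eq_true] at hchk'
    have h1 := hchk'.1
    unfold pgChkLvlW at h1
    rw [Bool.and_eq_true] at h1
    obtain ⟨-, -, hok, -, -, hU, -⟩ := pgChkLvlW0_spec h1.1
    set z : Fin n := h' ⟨L.b, hb⟩ with hz
    rw [pgEnumM_cons] at hen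
    have hen1 := (pgAll_iff _ _).1 hen z.1 z.2
    have hy : pre z.1 = (h ⟨L.b, hb⟩).1 := by
      rw [hpre z, hW, Equiv.Perm.mul_apply]
    have himgs' : ∀ q ∈ (L.b, pre z.1) :: imgs, ∃ hq : q.1 < n, (h ⟨q.1, hq⟩).1 = q.2 := by
      intro q hq
      rcases List.mem_cons.1 hq with rfl | hq
      · exact ⟨hb, hy.symm⟩
      · exact himgs q hq
    obtain ⟨md', pre', hen2, hpre'⟩ := pgEnumStep_spec hen1 horb (hprune _ himgs')
    set u := pgWordPerm n L.own (L.path z.1) with hu
    have humem : u ∈ pgGrpW n (L :: C) := pgWordPerm_mem hok _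
    have hub : u ⟨L.b, hb⟩ = z := by
      apply Fin.ext
      rw [hu, pgWordPerm_apply hok]
      exact (hU z.1 z.2 horb).2
    have hh'' : u⁻¹ * h' ∈ pgGrpW n C := by
      apply hstab _ (mul_mem (inv_mem humem) hh')
      rw [Equiv.Perm.mul_apply, ← hz, ← hub]
      simp
    have hcomp : ∀ p : Fin n, pre (pgEvalW L.own (L.path z.1) p.1) = ((W * u) p).1 := by
      intro p
      rw [Equiv.Perm.mul_apply, ← hpre, hu, pgWordPerm_apply hok]
    refine ih (pgChkW_tail hchk) (le_trans hmono hA) md' pre' (W * u) _ ?_ himgs' hen2 _ hh'' ?_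
    · intro p
      rcases hpre' with rfl | rfl
      · exact hcomp p
      · show pgLk w (pgMk w n fun p => pre (pgEvalW L.own (L.path z.1) p)) p.1 = _
        rw [pgMk_lk w n _ ?_ p.1 p.2]
        · exact hcomp p
        · intro k hk
          have := hcomp ⟨k, hk⟩
          simp only at this
          rw [this]
          exact lt_of_lt_of_le ((W * u) ⟨k, hk⟩).2 hw
    · rw [hW]
      group

/-! ### Centralisers -/

/-- the pruning condition for the centraliser of the permutation with lookup function `vf` -/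
def pgCentPrune (vf : ℕ → ℕ) (l : List (ℕ × ℕ)) : Bool :=
  pgAllL l (fun q => pgAllL l (fun q' =>
    cond (Nat.beq q'.1 (vf q.1)) (Nat.beq q'.2 (vf q.2)) true))

theorem pgCentPrune_sound {n : ℕ} {vf : ℕ → ℕ} {v h : Equiv.Perm (Fin n)}
    (hv : ∀ p : Fin n, vf p.1 = (v p).1) (hc : ∀ p : Fin n, h (v p) = v (h p))
    (l : List (ℕ × ℕ)) (hl : ∀ q ∈ l, ∃ hq : q.1 < n, (h ⟨q.1, hq⟩).1 = q.2) :
    pgCentPrune vf l = true := by
  unfold pgCentPrune
  rw [pgAllL_iff]
  intro q hq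
  rw [pgAllL_iff]
  intro q' hq'
  obtain ⟨h1, e1⟩ := hl q hq
  obtain ⟨h2, e2⟩ := hl q' hq'
  cases hb : Nat.beq q'.1 (vf q.1) with
  | false => rfl
  | true =>
    rw [Nat.beq_eq] at hb
    simp only [cond_true]
    rw [Nat.beq_eq, ← e2, ← e1, hv]
    have : (⟨q'.1, h2⟩ : Fin n) = v ⟨q.1, h1⟩ := by
      apply Fin.ext
      rw [← hv]
      exact hb
    rw [this, hc]

/-- one of the listed powers of the function is the identity: the function is stored as a
table first -/
def pgExpTest (n w : ℕ) (Ks : List ℕ) (f : ℕ → ℕ) : Bool :=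
  pgForce (pgMk w n f) (fun T =>
    pgAnyL Ks (fun K => pgAll n (fun p => Nat.beq (pgIter (pgLk w T) K p) p)))

theorem pgExpTest_sound {n w : ℕ} (hw : n ≤ 2 ^ w) {Ks : List ℕ} {f : ℕ → ℕ}
    {h : Equiv.Perm (Fin n)} (hf : ∀ p : Fin n, f p.1 = (h p).1)
    (ht : pgExpTest n w Ks f = true) : ∃ K ∈ Ks, h ^ K = 1 := by
  unfold pgExpTest at ht
  rw [pgForce_eq] at ht
  obtain ⟨K, hK, hK2⟩ := (pgAnyL_iff _ _).1 ht
  refine ⟨K, hK, ?_⟩
  have hlk : ∀ p : Fin n, pgLk w (pgMk w n f) p.1 = (h p).1 := by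
    intro p
    rw [pgMk_lk w n f ?_ p.1 p.2, hf]
    intro k hk
    rw [hf ⟨k, hk⟩]
    exact lt_of_lt_of_le (h ⟨k, hk⟩).2 hw
  ext p
  have := (pgAll_iff _ _).1 hK2 p.1 p.2
  rw [Nat.beq_eq, pgIter_perm h _ hlk] at this
  exact this

/-- the test at the leaves for the centraliser: an element commuting with `v` has one of the
listed exponents -/
def pgCentTest (n w : ℕ) (vf : ℕ → ℕ) (Ks : List ℕ) (f : ℕ → ℕ) : Bool :=
  cond (pgAll n (fun p => Nat.beq (f (vf p)) (vf (f p)))) (pgExpTest n w Ks f) true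

theorem pgCent_main {n w : ℕ} (hw : n ≤ 2 ^ w) (R : PgRigid n) {C : List PgLvlW}
    (hchk : pgChkW n R.base C = true) (hA : pgGrpW n C ≤ R.A)
    (vf : ℕ → ℕ) (Ks : List ℕ) (md : ℕ)
    (v : Equiv.Perm (Fin n)) (hv : ∀ p : Fin n, vf p.1 = (v p).1)
    (hen : pgEnumM n w (pgCentPrune vf) (pgCentTest n w vf Ks) C md (fun p => p) [] = true) :
    ∀ h ∈ pgGrpW n C, h * v = v * h → ∃ K ∈ Ks, h ^ K = 1 := by
  intro h hh hcomm
  have hc : ∀ p : Fin n, h (v p) = v (h p) := by
    intro p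
    rw [← Equiv.Perm.mul_apply, ← Equiv.Perm.mul_apply, hcomm]
  obtain ⟨f, hf, ht⟩ := pgEnumM_sound hw R (pgCentPrune vf) (pgCentTest n w vf Ks) h
    (pgCentPrune_sound hv hc) C hchk hA md (fun p => p) 1 [] (fun _ => rfl)
    (fun _ hq => absurd hq List.not_mem_nil) hen h hh (one_mul h).symm
  unfold pgCentTest at ht
  have hcm : pgAll n (fun p => Nat.beq (f (vf p)) (vf (f p))) = true := by
    rw [pgAll_iff]
    intro p hp
    rw [Nat.beq_eq]
    have e1 : vf p = (v ⟨p, hp⟩).1 := hv ⟨p, hp⟩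
    have e2 : f p = (h ⟨p, hp⟩).1 := hf ⟨p, hp⟩
    rw [e1, e2, hf, hv, hc]
  rw [hcm] at ht
  exact pgExpTest_sound hw hf ht

/-- the first level in pieces -/
theorem pgEnumM_of_pieces {n w : ℕ} {prune : List (ℕ × ℕ) → Bool} {test : (ℕ → ℕ) → Bool}
    {L : PgLvlW} {C : List PgLvlW} {md : ℕ} {pre : ℕ → ℕ} {imgs : List (ℕ × ℕ)}
    (h : ∀ z < n, pgEnumStep n w prune L (pgEnumM n w prune test C) md pre imgs z = true) :
    pgEnumM n w prune test (L :: C) md pre imgs = true := by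
  rw [pgEnumM_cons, pgAll_iff]
  exact h

/-- the steps for the points `lo, …, lo + cnt - 1` -/
def pgEnumPiece (n w : ℕ) (prune : List (ℕ × ℕ) → Bool) (test : (ℕ → ℕ) → Bool)
    (L : PgLvlW) (C : List PgLvlW) (md : ℕ) (lo cnt : ℕ) : Bool :=
  pgAll cnt (fun k => pgForce (Nat.add lo k) (fun z =>
    pgEnumStep n w prune L (pgEnumM n w prune test C) md (fun p => p) [] z))

theorem pgEnumPiece_spec {n w : ℕ} {prune : List (ℕ × ℕ) → Bool} {test : (ℕ → ℕ) → Bool}
    {L : PgLvlW} {C : List PgLvlW} {md lo cnt : ℕ}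
    (h : pgEnumPiece n w prune test L C md lo cnt = true) (z : ℕ) (h1 : lo ≤ z)
    (h2 : z < lo + cnt) :
    pgEnumStep n w prune L (pgEnumM n w prune test C) md (fun p => p) [] z = true := by
  have := (pgAll_iff _ _).1 h (z - lo) (by omega)
  rw [pgForce_eq] at this
  have e : Nat.add lo (z - lo) = z := by simp only [Nat.add_eq]; omega
  rw [e] at this
  exact this

/-! ### Conjugation to representatives -/

/-- the function is the identity, or one of the certificates `(c, j, T)` works: the `j`-th power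
of the conjugate by the word `c` is the permutation with table `T` -/
def pgConjTest (n w : ℕ) (gs : List PFun) (certs : List (List ℕ × ℕ × ℕ)) (f : ℕ → ℕ) : Bool :=
  pgForce (pgMk w n f) (fun T =>
    pgAll n (fun p => Nat.beq (pgLk w T p) p) ||
    pgAnyL certs (fun c => pgAllL c.1 (fun j => Nat.blt j (Nat.mul 2 gs.length)) &&
      pgAll n (fun p => Nat.beq
        (pgIter (fun q => pgEvalW gs c.1 (pgLk w T (pgEvalW gs (pgInvW gs.length c.1) q))) c.2.1 p)
        (pgLk w c.2.2 p))))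

theorem pgConjTest_sound {n w : ℕ} (hw : n ≤ 2 ^ w) {gs : List PFun}
    (hgs : ∀ P ∈ gs, P.ok n = true) {certs : List (List ℕ × ℕ × ℕ)} {f : ℕ → ℕ}
    {h : Equiv.Perm (Fin n)} (hf : ∀ p : Fin n, f p.1 = (h p).1)
    (ht : pgConjTest n w gs certs f = true) :
    h = 1 ∨ ∃ c ∈ certs, ∃ a ∈ closure (pgSet n gs),
      ∀ p : Fin n, (((a * h * a⁻¹) ^ c.2.1) p).1 = pgLk w c.2.2 p.1 := by
  unfold pgConjTest at ht
  rw [pgForce_eq, Bool.or_eq_true] at ht
  have hlk : ∀ p : Fin n, pgLk w (pgMk w n f) p.1 = (h p).1 := by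
    intro p
    rw [pgMk_lk w n f ?_ p.1 p.2, hf]
    intro k hk
    rw [hf ⟨k, hk⟩]
    exact lt_of_lt_of_le (h ⟨k, hk⟩).2 hw
  rcases ht with ht | ht
  · left
    ext p
    have := (pgAll_iff _ _).1 ht p.1 p.2
    rw [Nat.beq_eq, hlk] at this
    exact this
  · right
    obtain ⟨c, hc, hc2⟩ := (pgAnyL_iff _ _).1 ht
    rw [Bool.and_eq_true] at hc2
    obtain ⟨hlet, hc3⟩ := hc2
    have hlet' : ∀ j ∈ c.1, j < 2 * gs.length := by
      intro j hj
      have := (pgAllL_iff _ _).1 hlet j hj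
      simpa using this
    refine ⟨c, hc, pgWordPerm n gs c.1, pgWordPerm_mem hgs _, ?_⟩
    intro p
    have := (pgAll_iff _ _).1 hc3 p.1 p.2
    rw [Nat.beq_eq] at this
    rw [← this]
    symm
    apply pgIter_perm
    intro q
    rw [Equiv.Perm.mul_apply, Equiv.Perm.mul_apply, ← pgInvW_perm hgs c.1 hlet',
      pgWordPerm_apply hgs]
    have e : pgEvalW gs (pgInvW gs.length c.1) q.1 =
        ((pgWordPerm n gs (pgInvW gs.length c.1)) q).1 := (pgWordPerm_apply hgs _ q).symm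
    rw [e, hlk]

/-- membership by sifting, for a permutation given by a pair of tables -/
theorem pgSift_mem {n : ℕ} (R : PgRigid n) {C : List PgLvlW}
    (hchk : pgChkW n R.base C = true) (hA : pgGrpW n C ≤ R.A) {P : PFun} (hP : P.ok n = true)
    (hPA : P.perm n ∈ R.A) (hs : pgSiftW n R.base C P.f = true) : P.perm n ∈ pgGrpW n C :=
  pgSiftW_sound R C hchk hA P.f (P.perm n) hPA (fun p => (PFun.perm_apply hP p).symm) hs

end Cfsg.Agent.Lib.helper23
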