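import Cfsg.Agent.Lib.helper23.PgU

set_option autoImplicit false

/-!
# Equality tests for functions representing permutations; centralisers with a general test;
pairs of elements of a chain
-/

namespace Cfsg.Agent.Lib.helper23

open Subgroup MulAction

/-- a function represents a permutation -/
def PgRep {n : ℕ} (f : ℕ → ℕ) (a : Equiv.Perm (Fin n)) : Prop := ∀ p : Fin n, f p.1 = (a p).1

theorem PgRep.mul {n : ℕ} {f g : ℕ → ℕ} {a b : Equiv.Perm (Fin n)} (hf : PgRep f a)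
    (hg : PgRep g b) : PgRep (fun p => f (g p)) (a * b) := by
  intro p
  change f (g p.1) = _
  rw [hg p, hf (b p)]
  rfl

theorem PgRep.one {n : ℕ} : PgRep (fun p => p) (1 : Equiv.Perm (Fin n)) := fun _ => rfl

theorem PgRep.perm {n : ℕ} {P : PFun} (h : P.ok n = true) : PgRep P.f (P.perm n) :=
  fun p => (PFun.perm_apply h p).symm

theorem PgRep.perm_inv {n : ℕ} {P : PFun} (h : P.ok n = true) : PgRep P.g (P.perm n)⁻¹ :=
  fun p => (PFun.perm_inv_apply h p).symm

/-- equality of two functions on the points -/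
def pgEq (n : ℕ) (F G : ℕ → ℕ) : Bool := pgAll n (fun p => Nat.beq (F p) (G p))

theorem pgEq_iff {n : ℕ} {F G : ℕ → ℕ} {a b : Equiv.Perm (Fin n)} (hF : PgRep F a)
    (hG : PgRep G b) : pgEq n F G = true ↔ a = b := by
  unfold pgEq
  rw [pgAll_iff]
  constructor
  · intro h
    ext p
    have := h p.1 p.2
    rw [Nat.beq_eq, hF p, hG p] at this
    exact this
  · rintro rfl p hp
    rw [Nat.beq_eq, hF ⟨p, hp⟩, hG ⟨p, hp⟩]

theorem pgEq_false_iff {n : ℕ} {F G : ℕ → ℕ} {a b : Equiv.Perm (Fin n)} (hF : PgRep F a)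
    (hG : PgRep G b) : pgEq n F G = false ↔ a ≠ b := by
  have := pgEq_iff hF hG
  cases h : pgEq n F G
  · simp only [true_iff]
    intro hab
    rw [this.2 hab] at h
    exact absurd h (by decide)
  · simp only [Bool.true_eq_false, false_iff, not_not]
    exact this.1 h

/-- the elements commuting with `v` satisfy the test -/
theorem pgCent_gen {n w : ℕ} (hw : n ≤ 2 ^ w) (R : PgRigid n) {C : List PgLvlW}
    (hchk : pgChkW n R.base C = true) (hA : pgGrpW n C ≤ R.A)
    (vf : ℕ → ℕ) (test : (ℕ → ℕ) → Bool) (md : ℕ)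
    (v : Equiv.Perm (Fin n)) (hv : PgRep vf v)
    (hen : pgEnumM n w (pgCentPrune vf)
      (fun f => cond (pgAll n (fun p => Nat.beq (f (vf p)) (vf (f p)))) (test f) true)
      C md (fun p => p) [] = true) :
    ∀ h ∈ pgGrpW n C, h * v = v * h → ∃ f : ℕ → ℕ, PgRep f h ∧ test f = true := by
  intro h hh hcomm
  have hc : ∀ p : Fin n, h (v p) = v (h p) := by
    intro p
    rw [← Equiv.Perm.mul_apply, ← Equiv.Perm.mul_apply, hcomm]
  obtain ⟨f, hf, ht⟩ := pgEnumM_sound hw R (pgCentPrune vf) _ h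
    (pgCentPrune_sound hv hc) C hchk hA md (fun p => p) 1 [] (fun _ => rfl)
    (fun _ hq => absurd hq List.not_mem_nil) hen h hh (one_mul h).symm
  refine ⟨f, hf, ?_⟩
  have hcm : pgAll n (fun p => Nat.beq (f (vf p)) (vf (f p))) = true := by
    rw [pgAll_iff]
    intro p hp
    rw [Nat.beq_eq]
    have e1 : vf p = (v ⟨p, hp⟩).1 := hv ⟨p, hp⟩
    have e2 : f p = (h ⟨p, hp⟩).1 := hf ⟨p, hp⟩
    rw [e1, e2, hf, hv, hc]
  simp only [hcm, cond_true] at ht
  exact ht

/-- all elements of a chain, stored as tables -/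
theorem pgEnumM_tab {n w : ℕ} (hw : n ≤ 2 ^ w) (R : PgRigid n) {C : List PgLvlW}
    (hchk : pgChkW n R.base C = true) (hA : pgGrpW n C ≤ R.A) (test : ℕ → Bool)
    (hen : pgEnumM n w pgNoPrune (fun f => pgForce (pgMk w n f) test) C 0 (fun p => p) [] =
      true) :
    ∀ h ∈ pgGrpW n C, ∃ T : ℕ, PgRep (pgLk w T) h ∧ test T = true := by
  intro h hh
  obtain ⟨f, hf, ht⟩ := pgEnumM_all hw R hchk hA _ 0 hen h hh
  rw [pgForce_eq] at ht
  refine ⟨pgMk w n f, ?_, ht⟩
  intro p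
  rw [pgMk_lk w n f ?_ p.1 p.2, hf]
  intro k hk
  rw [hf ⟨k, hk⟩]
  exact lt_of_lt_of_le (h ⟨k, hk⟩).2 hw

/-- all pairs of elements of two chains, stored as tables -/
theorem pgEnumM_pairs {n w : ℕ} (hw : n ≤ 2 ^ w) (R : PgRigid n) {C D : List PgLvlW}
    (hchk : pgChkW n R.base C = true) (hA : pgGrpW n C ≤ R.A)
    (hchkD : pgChkW n R.base D = true) (hAD : pgGrpW n D ≤ R.A) (test : ℕ → ℕ → Bool)
    (hen : pgEnumM n w pgNoPrune (fun f => pgForce (pgMk w n f) (fun T =>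
      pgEnumM n w pgNoPrune (fun f' => pgForce (pgMk w n f') (fun T' => test T T')) D 0
        (fun p => p) [])) C 0 (fun p => p) [] = true) :
    ∀ h ∈ pgGrpW n C, ∀ h' ∈ pgGrpW n D, ∃ T T' : ℕ, PgRep (pgLk w T) h ∧ PgRep (pgLk w T') h' ∧
      test T T' = true := by
  intro h hh h' hh'
  obtain ⟨T, hT, ht⟩ := pgEnumM_tab hw R hchk hA _ hen h hh
  obtain ⟨T', hT', ht'⟩ := pgEnumM_tab hw R hchkD hAD _ ht h' hh'
  exact ⟨T, T', hT, hT', ht'⟩

end Cfsg.Agent.Lib.helper23
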