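import Cfsg.Agent.Lib.helper23.PgI

set_option autoImplicit false

/-!
# Assembly lemmas for checked chains
-/

namespace Cfsg.Agent.Lib.helper23

open Subgroup MulAction

theorem pgChkLvlW_of2 {n : ℕ} {base : List ℕ} {L : PgLvlW} {Ls : List PgLvlW} {s0 s1 : PFun}
    (hown : L.own = [s0, s1]) (h0 : pgChkLvlW0 n L Ls = true)
    (h1 : pgChkGenW n base L Ls s0 0 n = true) (h2 : pgChkGenW n base L Ls s1 0 n = true) :
    pgChkLvlW n base L Ls = true := by
  unfold pgChkLvlW
  rw [h0, Bool.true_and, pgAllL_iff, hown]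
  intro a ha
  rcases List.mem_cons.1 ha with rfl | ha
  · exact h1
  · rcases List.mem_cons.1 ha with rfl | ha
    · exact h2
    · exact absurd ha List.not_mem_nil

/-- the generators of a chain are words in the generators of a group: containment -/
theorem pgGrpW_le_of_words {n : ℕ} {C : List PgLvlW} {gs : List PFun} {ws : List (List ℕ)}
    (hok : ∀ P ∈ pgOwnW C, P.ok n = true) (hgs : ∀ P ∈ gs, P.ok n = true)
    (h : pgAll (pgOwnW C).length (fun j => pgAll n (fun p =>
      Nat.beq (((pgOwnW C).getD j PFun.one).f p) (pgEvalW gs (ws.getD j []) p))) = true) :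
    pgGrpW n C ≤ closure (pgSet n gs) := by
  apply (closure_le _).2
  rintro x ⟨P, hP, rfl⟩
  obtain ⟨j, hj, rfl⟩ := List.mem_iff_getElem.1 hP
  have h1 := (pgAll_iff _ _).1 h j hj
  have : ((pgOwnW C)[j]).perm n = pgWordPerm n gs (ws.getD j []) := by
    ext i
    rw [PFun.perm_apply (hok _ hP), pgWordPerm_apply hgs]
    have := (pgAll_iff _ _).1 h1 i.1 i.2
    rw [List.getD_eq_getElem _ _ hj, Nat.beq_eq] at this
    exact this
  rw [SetLike.mem_coe, this]
  exact pgWordPerm_mem hgs _

/-- a subgroup of a point stabiliser from a subgroup of the group of permutations -/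
theorem pg_transfer {α : Type*} (H T : Subgroup (Equiv.Perm α)) (x : α) (hTH : T ≤ H)
    (hfix : ∀ g ∈ T, g x = x) (N : ℕ) (hs : IsSimpleGroup T) (hc : Nat.card T = N) :
    ∃ T' : Subgroup (stabilizer H x), IsSimpleGroup T' ∧ Nat.card T' = N := by
  have hle : T.subgroupOf H ≤ stabilizer H x := by
    intro g hg
    rw [mem_stabilizer_iff]
    exact hfix g.1 (Subgroup.mem_subgroupOf.1 hg)
  let e : ((T.subgroupOf H).subgroupOf (stabilizer H x)) ≃* T :=
    (Subgroup.subgroupOfEquivOfLe hle).trans (Subgroup.subgroupOfEquivOfLe hTH)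
  refine ⟨(T.subgroupOf H).subgroupOf (stabilizer H x), ?_, ?_⟩
  · exact e.isSimpleGroup
  · rw [Nat.card_congr e.toEquiv, hc]

end Cfsg.Agent.Lib.helper23
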