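import Mathlib
import Cfsg.Agent.Lib.Helper18.OPE.Defs2
import Cfsg.Agent.Lib.helper23.ONECNTcore

set_option autoImplicit false
set_option linter.unusedVariables false
set_option linter.unusedSectionVars false

/-!
# Project OPE (designer helper18), row CNTP (helper23): core with the statements of CP1 / CP2 / TSCNT as hypotheses.
-/

namespace Cfsg.Agent.Lib.Helper18.OPE

open Polynomial Module Cfsg.Agent.Lib.Helper13.S5955 Cfsg.Agent.Lib.helper15.S5972

theorem opecntp_finite_sub {F : Type*} [Field F] [Fintype F] (d : ℕ) :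
    Finite (Submodule F (Fin d ⊕ Fin d → F)) :=
  Finite.of_injective (fun W : Submodule F (Fin d ⊕ Fin d → F) =>
    (W : Set (Fin d ⊕ Fin d → F))) SetLike.coe_injective

/-- CNTP with the statements of CP1, CP2 and TSCNT (at `h = m / 2`) as hypotheses. -/
theorem opecntp_core {F : Type*} [Field F] [Fintype F] {p : ℕ} [Fact p.Prime] [CharP F p]
    (d h : ℕ) (r : ℕ) [Fact r.Prime] (hrp : r ≠ p) (i : ℕ)
    (hCP1 : ∃ N : ℕ, 0 < N ∧ ∀ W : HYP d (2 * h) F,
      Nat.card {U : Submodule F (Fin d ⊕ Fin d → F) //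
        U ≤ W.1 ∧ Module.finrank F ↥U = h ∧ ∀ u ∈ U, Cfsg.quadFormPlus d F u = 0} = N)
    (hCP2 : ∀ U : Submodule F (Fin d ⊕ Fin d → F), Module.finrank F ↥U = h →
      (∀ u ∈ U, Cfsg.quadFormPlus d F u = 0) →
      Nat.card {W : HYP d (2 * h) F // U ≤ W.1} = Fintype.card F ^ (h * (2 * d - 2 * h)))
    (hTS : r ∣ Nat.card {U : Submodule F (Fin d ⊕ Fin d → F) //
      Module.finrank F ↥U = h ∧ ∀ u ∈ U, Cfsg.quadFormPlus d F u = 0} → CH i d h)
    (hr : r ∣ Nat.card (HYP d (2 * h) F)) : CH i d h := by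
  classical
  have hfin := opecntp_finite_sub (F := F) d
  obtain ⟨N, -, hN⟩ := hCP1
  have hN' : ∀ W : HYP d (2 * h) F,
      Nat.card {U : {U : Submodule F (Fin d ⊕ Fin d → F) //
        Module.finrank F ↥U = h ∧ ∀ u ∈ U, Cfsg.quadFormPlus d F u = 0} // U.1 ≤ W.1} = N := by
    intro W
    rw [← hN W]
    refine Nat.card_congr
      { toFun := fun U => ⟨U.1.1, U.2, U.1.2.1, U.1.2.2⟩
        invFun := fun U => ⟨⟨U.1, U.2.2.1, U.2.2.2⟩, U.2.1⟩
        left_inv := fun _ => rfl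
        right_inv := fun _ => rfl }
  have hK : ∀ U : {U : Submodule F (Fin d ⊕ Fin d → F) //
        Module.finrank F ↥U = h ∧ ∀ u ∈ U, Cfsg.quadFormPlus d F u = 0},
      1 * Nat.card {W : HYP d (2 * h) F // U.1 ≤ W.1} =
      Fintype.card F ^ (h * (2 * d - 2 * h)) := by
    intro U
    rw [one_mul]
    exact hCP2 U.1 U.2.1 U.2.2
  have hdc := Cfsg.Agent.Lib.Helper18.ONE.onecnt_double
    (fun (W : HYP d (2 * h) F) (U : {U : Submodule F (Fin d ⊕ Fin d → F) //
        Module.finrank F ↥U = h ∧ ∀ u ∈ U, Cfsg.quadFormPlus d F u = 0}) => U.1 ≤ W.1) N 1 _ hN' hK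
  rw [one_mul] at hdc
  have h1 : r ∣ Nat.card {U : Submodule F (Fin d ⊕ Fin d → F) //
        Module.finrank F ↥U = h ∧ ∀ u ∈ U, Cfsg.quadFormPlus d F u = 0} *
      Fintype.card F ^ (h * (2 * d - 2 * h)) := by
    rw [← hdc]
    exact Dvd.dvd.mul_right hr N
  exact hTS (Cfsg.Agent.Lib.Helper18.ONE.onecnt_prime_dvd r hrp _ _ h1)

end Cfsg.Agent.Lib.Helper18.OPE
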