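import Mathlib
import Cfsg.Agent.Lib.Helper18.OPE.Defs2
import Cfsg.Agent.Lib.helper23.OPECNTPcore
import Cfsg.Agent.Lib.Lead.OPECP2
import Cfsg.Agent.Lib.Helper21.OPECP1
import Cfsg.Agent.Lib.Helper24.OPETSCNTcore
import Cfsg.Agent.Lib.helper7.OTSCOUNTDVD
import Cfsg.Agent.Lib.Helper16.PlusFam

set_option autoImplicit false
set_option linter.unusedVariables false
set_option linter.unusedSectionVars false

/-!
# Project OPE (designer helper18), row CNTP (helper23): `hyp_count_ch`, verbatim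
(core `opecntp_core` + CP1 `hyp_ts_const` (helper21) + CP2 `ts_ext_count` (lead) + helper24's `opetscnt_core` + helper7's OTS `q_count_dvd`).
-/

namespace Cfsg.Agent.Lib.Helper18.OPE

open Polynomial Module Cfsg.Agent.Lib.Helper13.S5955 Cfsg.Agent.Lib.helper15.S5972

/-- the standard hyperbolic form is a standard space of type `+` (own copy of OTS `q_std_plus`). -/
theorem opecntp_std_plus {F : Type*} [Field F] [Fintype F] (d : ℕ) :
    Cfsg.Agent.Lib.Helper13.OTS.QStd (Cfsg.Agent.Lib.Helper16.qfPlus d F) d 1 where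
  nd := Cfsg.Agent.Lib.Helper16.qfPlus_nondeg d F
  card := by
    rw [Fintype.card_sum, Fintype.card_fin]
    omega
  ty := by
    rw [Cfsg.Agent.Lib.Helper16.qfPlus_coe]
    exact Cfsg.Agent.Lib.Helper16.OSemi.isType_plus d
  eps := Or.inl rfl

/-- the statement of TSCNT (own copy, from helper24's core and helper7's `q_count_dvd`). -/
theorem opecntp_ts_count_ch {F : Type*} [Field F] [Fintype F] {p : ℕ} [Fact p.Prime] [CharP F p]
    (d h : ℕ) (hh : h + 1 ≤ d) (r : ℕ) [Fact r.Prime] (hr2 : r ≠ 2) (i : ℕ)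
    (hi : i = orderOf ((Fintype.card F : ℕ) : ZMod r))
    (hr : r ∣ Nat.card {U : Submodule F (Fin d ⊕ Fin d → F) //
      Module.finrank F ↥U = h ∧ ∀ u ∈ U, Cfsg.quadFormPlus d F u = 0}) : CH i d h :=
  opetscnt_core d h hh r hr2 i hi hr
    (fun h' => Cfsg.Agent.Lib.Helper13.OTS.q_count_dvd (Cfsg.Agent.Lib.Helper16.qfPlus d F) d 1
      (opecntp_std_plus d) h hh r h')

/-- CNTP [M-L] (port of ONE `ndp_count_dvd`, helper23/ONECNTP.lean): double count `{(U, W) : U ≤ W}`: `#HYP · N = #TS_h · q^(…)` (CP1, CP2); `r ≠ p`, `q` a power of `p`: `r ∣ #TS_h`; TSCNT. -/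
theorem hyp_count_ch {F : Type*} [Field F] [Fintype F] {p : ℕ} [Fact p.Prime] [CharP F p]
    (d m : ℕ) (hme : Even m) (hmd : m < d) (r : ℕ) [Fact r.Prime] (hrp : r ≠ p) (hr2 : r ≠ 2)
    (i : ℕ) (hi : i = orderOf ((Fintype.card F : ℕ) : ZMod r))
    (hr : r ∣ Nat.card (HYP d m F)) : CH i d (m / 2) := by
  obtain ⟨h, hm⟩ := hme
  have hm2 : m = 2 * h := by omega
  subst hm2
  have hh : h ≤ d := by omega
  have hh1 : h + 1 ≤ d := by omega
  have e : 2 * h / 2 = h := by omega
  rw [e]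
  exact opecntp_core d h r hrp i (hyp_ts_const d h)
    (fun U hU hUs => ts_ext_count d h hh U hU hUs)
    (fun hdvd => opecntp_ts_count_ch d h hh1 r hr2 i hi hdvd) hr

end Cfsg.Agent.Lib.Helper18.OPE
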