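import Mathlib
import Cfsg.Agent.Lib.Helper1.SLN.Defs
import Cfsg.Agent.Lib.helper6.SLPM4

/-!
# Project SLN / SL7 (designer helper1, S2290 + S2288), row F1 (helper23): `glue_of_list`, VERBATIM.
-/

set_option autoImplicit false

namespace Cfsg.Agent.Lib.Helper1.SLN

open Matrix Equiv
open Cfsg.Agent.Lib.helper17.SLP

universe u v

section FF

variable {F : Type u} [Field F]

/-- conjugation by a fixed element, as a homomorphism -/
def slnf1_conj {G : Type v} [Group G] (a : G) : G →* G := (MulAut.conj a).toMonoidHom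

theorem slnf1_conj_apply {G : Type v} [Group G] (a g : G) : slnf1_conj a g = a * g * a⁻¹ := rfl

/-- membership in `gens2 ζ` -/
theorem slnf1_mem_gens2 (ζ : Fˣ) (m : Matrix.SpecialLinearGroup (Fin 2) F) :
    m ∈ gens2 ζ ↔ m = xM (1 : F) ∨ m = hM ζ ∨ m = wM := by
  simp [gens2]

theorem slnf1_closure_gens2 [Fintype F] (ζ : Fˣ) (hζ : ∀ y : Fˣ, y ∈ Subgroup.zpowers ζ) :
    Subgroup.closure {m : Matrix.SpecialLinearGroup (Fin 2) F | m ∈ gens2 ζ} = ⊤ := by
  have h := Cfsg.Agent.Lib.helper17.SLP.closure_M (F := F) ζ hζ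
  have e : {m : Matrix.SpecialLinearGroup (Fin 2) F | m ∈ gens2 ζ} = {xM (1 : F), hM ζ, wM} := by
    ext m
    simp [gens2]
  rw [e]
  exact h

/-- F1 [M] -/
theorem glue_of_list [Fintype F] (M : ℕ) (ζ : Fˣ) (hζ : ∀ y : Fˣ, y ∈ Subgroup.zpowers ζ)
    (Z : List (alternatingGroup (Fin (M + 4))))
    (hZ : Subgroup.closure {τ | τ ∈ Z} = stab01 M)
    {G : Type v} [Group G] (α : alternatingGroup (Fin (M + 4)) →* G)
    (β : Matrix.SpecialLinearGroup (Fin 3) F →* G)
    (h : ∀ x ∈ glueList (F := F) M ζ Z, Monoid.Coprod.lift α β x = 1) : Glue M α β := by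
  have hcl := slnf1_closure_gens2 (F := F) ζ hζ
  -- the four families of relators
  have h2 : α (c3 M) = β cM := by
    have := h (Monoid.Coprod.inl (c3 M) * (Monoid.Coprod.inr cM)⁻¹) (by simp [glueList])
    simpa [mul_inv_eq_one] using this
  have h3 : ∀ m ∈ gens2 (F := F) ζ,
      α (t23 M) * β (emb23 m) * (α (t23 M))⁻¹ = β (emb23 (flip2 m)) := by
    intro m hm
    have := h (Monoid.Coprod.inl (t23 M) * Monoid.Coprod.inr (emb23 m) *
      (Monoid.Coprod.inl (t23 M))⁻¹ * (Monoid.Coprod.inr (emb23 (flip2 m)))⁻¹) (by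
        simp only [glueList, List.mem_append, List.mem_map]
        exact Or.inl (Or.inl (Or.inr ⟨m, hm, rfl⟩)))
    simpa [mul_inv_eq_one] using this
  have h4 : ∀ τ ∈ Z, ∀ m ∈ gens2 (F := F) ζ,
      α τ * β (emb23 m) * (α τ)⁻¹ = β (emb23 m) := by
    intro τ hτ m hm
    have := h (Monoid.Coprod.inl τ * Monoid.Coprod.inr (emb23 m) *
      (Monoid.Coprod.inl τ)⁻¹ * (Monoid.Coprod.inr (emb23 m))⁻¹) (by
        simp only [glueList, List.mem_append, List.mem_map]
        exact Or.inl (Or.inr ⟨(τ, m), List.mem_product.2 ⟨hτ, hm⟩, rfl⟩))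
    simpa [mul_inv_eq_one] using this
  have h5 : ∀ m ∈ gens2 (F := F) ζ, ∀ m' ∈ gens2 (F := F) ζ,
      Commute (β (emb23 m)) (α (rho M) * β (emb23 m') * (α (rho M))⁻¹) := by
    intro m hm m' hm'
    have := h (Monoid.Coprod.inr (emb23 m) *
      (Monoid.Coprod.inl (rho M) * Monoid.Coprod.inr (emb23 m') * (Monoid.Coprod.inl (rho M))⁻¹) *
      (Monoid.Coprod.inr (emb23 m))⁻¹ *
      (Monoid.Coprod.inl (rho M) * Monoid.Coprod.inr (emb23 m') * (Monoid.Coprod.inl (rho M))⁻¹)⁻¹) (by
        simp only [glueList, List.mem_append, List.mem_map]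
        exact Or.inr ⟨(m, m'), List.mem_product.2 ⟨hm, hm'⟩, rfl⟩)
    simp only [map_mul, map_inv, Monoid.Coprod.lift_apply_inl, Monoid.Coprod.lift_apply_inr] at this
    have e := mul_inv_eq_one.1 this
    have e' := mul_inv_eq_iff_eq_mul.1 e
    exact e'
  refine ⟨h2, ?_, ?_, ?_⟩
  · -- g3
    intro m
    have hh : (slnf1_conj (α (t23 M))).comp (β.comp emb23) =
        (β.comp emb23).comp (flip2 (F := F)) := by
      apply MonoidHom.eq_of_eqOn_dense hcl
      intro m hm
      exact h3 m hm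
    exact DFunLike.congr_fun hh m
  · -- g4
    have h4' : ∀ τ ∈ Z, ∀ m : Matrix.SpecialLinearGroup (Fin 2) F,
        α τ * β (emb23 m) * (α τ)⁻¹ = β (emb23 m) := by
      intro τ hτ m
      have hh : (slnf1_conj (α τ)).comp (β.comp emb23) = (β.comp (emb23 (F := F))) := by
        apply MonoidHom.eq_of_eqOn_dense hcl
        intro m hm
        exact h4 τ hτ m hm
      exact DFunLike.congr_fun hh m
    intro τ hτ m
    rw [← hZ] at hτ
    induction hτ using Subgroup.closure_induction with
    | mem x hx => exact h4' x hx m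
    | one => simp
    | mul x y _ _ hx hy =>
      rw [map_mul, _root_.mul_inv_rev]
      calc α x * α y * β (emb23 m) * ((α y)⁻¹ * (α x)⁻¹)
          = α x * (α y * β (emb23 m) * (α y)⁻¹) * (α x)⁻¹ := by group
        _ = β (emb23 m) := by rw [hy, hx]
    | inv x _ hx =>
      rw [map_inv, inv_inv]
      calc (α x)⁻¹ * β (emb23 m) * α x
          = (α x)⁻¹ * (α x * β (emb23 m) * (α x)⁻¹) * α x := by rw [hx]
        _ = β (emb23 m) := by group
  · -- g5
    have step1 : ∀ m' ∈ gens2 (F := F) ζ, ∀ m : Matrix.SpecialLinearGroup (Fin 2) F,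
        Commute (β (emb23 m)) (α (rho M) * β (emb23 m') * (α (rho M))⁻¹) := by
      intro m' hm' m
      have hm : m ∈ Subgroup.closure {m : Matrix.SpecialLinearGroup (Fin 2) F | m ∈ gens2 ζ} := by
        rw [hcl]; exact Subgroup.mem_top m
      induction hm using Subgroup.closure_induction with
      | mem x hx => exact h5 x hx m' hm'
      | one => simp
      | mul x y _ _ hx hy =>
        rw [map_mul, map_mul]
        exact hx.mul_left hy
      | inv x _ hx =>
        rw [map_inv, map_inv]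
        exact hx.inv_left
    intro m m'
    have hm' : m' ∈ Subgroup.closure {m : Matrix.SpecialLinearGroup (Fin 2) F | m ∈ gens2 ζ} := by
      rw [hcl]; exact Subgroup.mem_top m'
    induction hm' using Subgroup.closure_induction with
    | mem x hx => exact step1 x hx m
    | one => simp
    | mul x y _ _ hx hy =>
      have e : α (rho M) * β (emb23 (x * y)) * (α (rho M))⁻¹ =
          (α (rho M) * β (emb23 x) * (α (rho M))⁻¹) * (α (rho M) * β (emb23 y) * (α (rho M))⁻¹) := by
        rw [map_mul, map_mul]; group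
      rw [e]
      exact hx.mul_right hy
    | inv x _ hx =>
      have e : α (rho M) * β (emb23 x⁻¹) * (α (rho M))⁻¹ =
          (α (rho M) * β (emb23 x) * (α (rho M))⁻¹)⁻¹ := by
        rw [map_inv, map_inv]; group
      rw [e]
      exact hx.inv_right

end FF

end Cfsg.Agent.Lib.Helper1.SLN
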