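import Mathlib
import Cfsg.Agent.Lib.Helper1.SLN.Defs

/-!
# Project SLN / SL7 (designer helper1), row F2 (`glueList_model`): CORE (helper23).

`slnf2_core`: a glued pair `α`, `β` (`Glue M α β`) kills all the relators of `glueList M ζ Z`
(`Z ⊆ stab01 M`).  The verbatim row is this at `glueM M` (MG6).
-/

set_option autoImplicit false

namespace Cfsg.Agent.Lib.Helper1.SLN

open Matrix Equiv
open Cfsg.Agent.Lib.helper17.SLP

universe u v

section FF

variable {F : Type u} [Field F]

theorem slnf2_core (M : ℕ) (ζ : Fˣ) (Z : List (alternatingGroup (Fin (M + 4))))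
    (hZ : ∀ τ ∈ Z, τ ∈ stab01 M)
    {G : Type v} [Group G] (α : alternatingGroup (Fin (M + 4)) →* G)
    (β : Matrix.SpecialLinearGroup (Fin 3) F →* G) (H : Glue M α β) :
    ∀ x ∈ glueList (F := F) M ζ Z, Monoid.Coprod.lift α β x = 1 := by
  intro x hx
  simp only [glueList, List.mem_append, List.mem_map, List.mem_singleton] at hx
  rcases hx with ((hx | ⟨m, _, rfl⟩) | ⟨p, hp, rfl⟩) | ⟨p, _, rfl⟩
  · rw [hx]
    simp only [map_mul, map_inv, Monoid.Coprod.lift_apply_inl, Monoid.Coprod.lift_apply_inr]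
    rw [mul_inv_eq_one]
    exact H.g2
  · simp only [map_mul, map_inv, Monoid.Coprod.lift_apply_inl, Monoid.Coprod.lift_apply_inr]
    rw [mul_inv_eq_one]
    exact H.g3 m
  · simp only [map_mul, map_inv, Monoid.Coprod.lift_apply_inl, Monoid.Coprod.lift_apply_inr]
    rw [mul_inv_eq_one]
    exact H.g4 p.1 (hZ p.1 (List.mem_product.1 hp).1) p.2
  · simp only [map_mul, map_inv, Monoid.Coprod.lift_apply_inl, Monoid.Coprod.lift_apply_inr]
    rw [mul_inv_eq_one, mul_inv_eq_iff_eq_mul]
    exact H.g5 p.1 p.2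

end FF

end Cfsg.Agent.Lib.Helper1.SLN
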