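import Cfsg.Agent.Lib.Helper27.WSP.Defs
import Cfsg.Agent.Lib.helper23.WSPC2

/-! # WSP-O2 : the trace of `f ↦ f(-x)` and the dimension of the space of odd functions -/

set_option autoImplicit false
set_option linter.unusedSectionVars false
set_option linter.unusedVariables false

namespace Cfsg.Agent.Lib.Helper27.WSP

open Matrix

section O

variable {F : Type*} [Field F] {n : ℕ}

/-- a finite field of odd order has `2 ≠ 0` -/
theorem h23_two_ne_zero [Fintype F] (hodd : Odd (Fintype.card F)) : (2 : F) ≠ 0 := by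
  apply Ring.two_ne_zero
  intro h
  have := FiniteField.even_card_iff_char_two.mp h
  have h1 := Nat.odd_iff.mp hodd
  omega

theorem h23_neg_eq_self_iff [Fintype F] (hodd : Odd (Fintype.card F)) (x : Fin n → F) :
    -x = x ↔ x = 0 := by
  constructor
  · intro h
    funext i
    have hi : -(x i) = x i := congrFun h i
    have h2 : (2 : F) * x i = 0 := by linear_combination -hi
    rcases mul_eq_zero.mp h2 with h3 | h3
    · exact absurd h3 (h23_two_ne_zero hodd)
    · exact h3
  · rintro rfl
    simp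

/-- O2 -/
theorem trace_negOp [Fintype F] (hodd : Odd (Fintype.card F)) :
    LinearMap.trace ℂ ((Fin n → F) → ℂ) (negOp n F) = 1 := by
  classical
  rw [h23_trace_pi]
  have : ∀ x : Fin n → F, negOp n F (Pi.single x 1) x = if x = 0 then (1 : ℂ) else 0 := by
    intro x
    rw [negOp_apply, Pi.single_apply]
    simp only [h23_neg_eq_self_iff hodd]
  simp only [this]
  rw [Finset.sum_ite_eq' Finset.univ (0 : Fin n → F) (fun _ => (1 : ℂ))]
  simp

/-- the projection onto the odd functions -/
noncomputable def h23_oddProj (n : ℕ) (F : Type*) [Field F] :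
    Module.End ℂ ((Fin n → F) → ℂ) :=
  (2⁻¹ : ℂ) • (1 - negOp n F)

theorem h23_oddProj_apply (f : (Fin n → F) → ℂ) (x : Fin n → F) :
    h23_oddProj n F f x = 2⁻¹ * (f x - f (-x)) := by
  unfold h23_oddProj
  rw [LinearMap.smul_apply, Pi.smul_apply, LinearMap.sub_apply, Pi.sub_apply, negOp_apply,
    smul_eq_mul]
  rfl

theorem h23_oddProj_isProj : LinearMap.IsProj (Wodd n F) (h23_oddProj n F) := by
  constructor
  · intro f
    rw [mem_Wodd]
    intro x
    rw [h23_oddProj_apply, h23_oddProj_apply, neg_neg]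
    ring
  · intro f hf
    rw [mem_Wodd] at hf
    funext x
    rw [h23_oddProj_apply, hf x]
    ring

/-- O2 -/
theorem finrank_Wodd [Fintype F] (hodd : Odd (Fintype.card F)) :
    Module.finrank ℂ ↥(Wodd n F) = (Fintype.card F ^ n - 1) / 2 := by
  classical
  have h1 := (h23_oddProj_isProj (n := n) (F := F)).trace
  have h2 : LinearMap.trace ℂ ((Fin n → F) → ℂ) (h23_oddProj n F) =
      2⁻¹ * ((Fintype.card F ^ n : ℕ) - 1) := by
    unfold h23_oddProj
    rw [map_smul, map_sub, trace_negOp hodd, LinearMap.trace_one,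
      Module.finrank_fintype_fun_eq_card, Fintype.card_fun, Fintype.card_fin, smul_eq_mul]
  rw [h2] at h1
  obtain ⟨k, hk⟩ : ∃ k, Fintype.card F ^ n = 2 * k + 1 := by
    have := (hodd.pow (n := n))
    obtain ⟨k, hk⟩ := this
    exact ⟨k, hk⟩
  rw [hk] at h1 ⊢
  have h3 : (Module.finrank ℂ ↥(Wodd n F) : ℂ) = (k : ℂ) := by
    rw [← h1]
    push_cast
    ring
  have h4 : Module.finrank ℂ ↥(Wodd n F) = k := by exact_mod_cast h3
  rw [h4]
  omega

end O

end Cfsg.Agent.Lib.Helper27.WSP
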