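import Mathlib

set_option autoImplicit false

namespace Cfsg.Agent.Lib.helper23

open scoped commutatorElement

/-- a finite group whose odd-order elements lie in a normal solvable subgroup is solvable -/
theorem os_odd_elems_solvable {C : Type*} [Group C] [Finite C] (Z : Subgroup C) [Z.Normal]
    (hZ : Group.IsSolvable Z) (hodd : ∀ c : C, Odd (orderOf c) → c ∈ Z) :
    Group.IsSolvable C := by
  have hp : IsPGroup 2 (C ⧸ Z) := by
    intro q
    induction q using QuotientGroup.induction_on with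
    | H c =>
      have hpos : orderOf c ≠ 0 := (orderOf_pos c).ne'
      obtain ⟨s, m, hm, hsm⟩ := Nat.exists_eq_two_pow_mul_odd hpos
      refine ⟨s, ?_⟩
      rw [← QuotientGroup.mk_pow, QuotientGroup.eq_one_iff]
      apply hodd
      rw [orderOf_pow_of_dvd (pow_ne_zero s two_ne_zero) (by rw [hsm]; exact dvd_mul_right _ _),
        hsm, Nat.mul_div_cancel_left _ (pow_pos two_pos s)]
      exact hm
  haveI : Fact (Nat.Prime 2) := ⟨Nat.prime_two⟩
  haveI : Group.IsNilpotent (C ⧸ Z) := hp.isNilpotent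
  haveI : Group.IsSolvable (C ⧸ Z) := inferInstance
  haveI := hZ
  exact Group.isSolvable_of_ker_le_range Z.subtype (QuotientGroup.mk' Z)
    (by rw [QuotientGroup.ker_mk', Subgroup.range_subtype])

/-- version for subgroups of an ambient group, with a central subgroup -/
theorem os_odd_elems_solvable' {A : Type*} [Group A] [Finite A] (C Z : Subgroup A) (hZC : Z ≤ C)
    (hcent : ∀ c ∈ C, ∀ z ∈ Z, c * z = z * c) (hodd : ∀ c ∈ C, Odd (orderOf c) → c ∈ Z) :
    Group.IsSolvable C := by
  haveI : (Z.subgroupOf C).Normal := by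
    constructor
    intro z hz c
    rw [Subgroup.mem_subgroupOf] at hz ⊢
    have h1 := hcent c.1 c.2 z.1 hz
    have h2 : ((c * z * c⁻¹ : C) : A) = z.1 := by
      rw [Subgroup.coe_mul, Subgroup.coe_mul, Subgroup.coe_inv, h1, mul_inv_cancel_right]
    rw [h2]; exact hz
  have hZsolv : Group.IsSolvable (Z.subgroupOf C) := by
    apply Group.isSolvable_of_comm
    intro a b
    apply Subtype.ext
    apply Subtype.ext
    have ha : (a.1 : A) ∈ Z := Subgroup.mem_subgroupOf.mp a.2
    have hb : (b.1 : A) ∈ Z := Subgroup.mem_subgroupOf.mp b.2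
    have := hcent a.1.1 a.1.2 b.1.1 hb
    simpa using this
  refine os_odd_elems_solvable (Z.subgroupOf C) hZsolv (fun c hc => ?_)
  rw [Subgroup.mem_subgroupOf]
  apply hodd c.1 c.2
  rw [Subgroup.orderOf_coe]
  exact hc

/-- a group whose commutators lie in a solvable subgroup is solvable -/
theorem os_comm_le_solvable {A : Type*} [Group A] (S C : Subgroup A) (hCS : C ≤ S)
    (hC : Group.IsSolvable C) (h : ∀ a ∈ S, ∀ b ∈ S, ⁅a, b⁆ ∈ C) : Group.IsSolvable S := by
  haveI := hC
  haveI : Group.IsSolvable (C.subgroupOf S) :=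
    Group.isSolvable_of_isSolvable_injective (f := (Subgroup.subgroupOfEquivOfLe hCS).toMonoidHom)
      (Subgroup.subgroupOfEquivOfLe hCS).injective
  refine Group.isSolvable_of_ker_le_range (C.subgroupOf S).subtype (Abelianization.of (G := S)) ?_
  rw [Abelianization.ker_of, Subgroup.range_subtype, commutator_def, Subgroup.commutator_le]
  intro a _ b _
  rw [Subgroup.mem_subgroupOf]
  have : ((⁅a, b⁆ : S) : A) = ⁅(a : A), (b : A)⁆ := by
    simp [commutatorElement_def]
  rw [this]
  exact h a.1 a.2 b.1 b.2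

/-- the centralizer of a full cycle of prime length consists of its powers -/
theorem os_cyc_cent {G X : Type*} [Group G] [Fintype X] [MulAction G X] [FaithfulSMul G X]
    (hp : (Fintype.card X).Prime) (x₀ : G) (hx₀ : orderOf x₀ = Fintype.card X)
    (σ : Equiv.Perm X) (hσ : ∀ x, σ (x₀ • x) = x₀ • σ x) : ∃ i : ℤ, ∀ x, σ x = x₀ ^ i • x := by
  classical
  have hord : orderOf (MulAction.toPermHom G X x₀) = Fintype.card X := by
    rw [orderOf_injective (MulAction.toPermHom G X) MulAction.toPerm_injective x₀, hx₀]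
  obtain ⟨π, hπdef⟩ : ∃ π : Equiv.Perm X, π = MulAction.toPermHom G X x₀ := ⟨_, rfl⟩
  rw [← hπdef] at hord
  have hπ : ∀ x, π x = x₀ • x := by intro x; rw [hπdef]; rfl
  have hπz : ∀ (i : ℤ) (x : X), (π ^ i) x = x₀ ^ i • x := by
    intro i x
    rw [hπdef, ← map_zpow]; rfl
  have hcyc : π.IsCycle := Equiv.Perm.isCycle_of_prime_order'' hp hord
  have hsupp : π.support = Finset.univ := by
    apply Finset.eq_univ_of_card
    rw [← hcyc.orderOf, hord]
  have hmove : ∀ x, π x ≠ x := by
    intro x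
    apply Equiv.Perm.mem_support.mp
    rw [hsupp]; exact Finset.mem_univ x
  have hne : Nonempty X := Fintype.card_pos_iff.mp hp.pos
  obtain ⟨a⟩ := hne
  obtain ⟨i, hi⟩ := hcyc.sameCycle (hmove a) (hmove (σ a))
  have hcomm : Commute σ π := by
    ext x
    rw [Equiv.Perm.mul_apply, Equiv.Perm.mul_apply, hπ, hπ, hσ]
  refine ⟨i, fun y => ?_⟩
  obtain ⟨j, hj⟩ := hcyc.sameCycle (hmove a) (hmove y)
  have h1 : σ y = (π ^ j) (σ a) := by
    rw [← hj, ← Equiv.Perm.mul_apply, (hcomm.zpow_right j).eq, Equiv.Perm.mul_apply]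
  rw [h1, ← hi, ← Equiv.Perm.mul_apply, (Commute.zpow_zpow_self π j i).eq, Equiv.Perm.mul_apply, hj,
    hπz]

end Cfsg.Agent.Lib.helper23
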