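import Cfsg.Agent.Lib.helper23.O73CAux
import Cfsg.Agent.Lib.Helper22.O73CCA
import Cfsg.Agent.Lib.Helper22.O73CCV
import Cfsg.Agent.Lib.Helper13.O73CCR

/-!
Project O73C, piece IN : four invariants separating the classes of the representatives, except
`rep 3` / `rep 4` (helper23).
-/

set_option autoImplicit false

namespace Cfsg.Agent.Lib.Helper28.O73C

open Cfsg.Agent.Lib.Helper12.O73 Matrix

/-! ### the invariants -/

/-- `(g - 1)^2 = 0` -/
def h23_J1 (g : GO) : Prop :=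
  ∀ v : I7 → K, g.mat *ᵥ (g.mat *ᵥ v - v) - (g.mat *ᵥ v - v) = 0

/-- a fixed vector of norm `q` -/
def h23_JQ (q : K) (g : GO) : Prop :=
  ∃ v : I7 → K, g.mat *ᵥ v = v ∧ Cfsg.quadFormOdd 3 K v = q

/-- a vector `(g - 1) v` of norm one -/
def h23_J4 (g : GO) : Prop :=
  ∃ v : I7 → K, Cfsg.quadFormOdd 3 K (g.mat *ᵥ v - v) = 1

theorem h23_conj_sub (h g : GO) (v : I7 → K) :
    (h * g * h⁻¹).mat *ᵥ (h.mat *ᵥ v) - h.mat *ᵥ v = h.mat *ᵥ (g.mat *ᵥ v - v) := by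
  rw [h23_mulVec_mul, h23_inv_mulVec, h23_mulVec_mul, Matrix.mulVec_sub]

theorem h23_J1_conj_of (h g : GO) (hJ : h23_J1 g) : h23_J1 (h * g * h⁻¹) := by
  intro w
  have hw : w = h.mat *ᵥ (h⁻¹.mat *ᵥ w) := (h23_mulVec_inv h w).symm
  rw [hw, h23_conj_sub, h23_conj_sub, hJ, Matrix.mulVec_zero]

theorem h23_JQ_conj_of (q : K) (h g : GO) (hJ : h23_JQ q g) : h23_JQ q (h * g * h⁻¹) := by
  obtain ⟨v, hv, hq⟩ := hJ
  refine ⟨h.mat *ᵥ v, ?_, ?_⟩
  · rw [h23_mulVec_mul, h23_inv_mulVec, h23_mulVec_mul, hv]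
  · rw [h23_quad_mulVec, hq]

theorem h23_J4_conj_of (h g : GO) (hJ : h23_J4 g) : h23_J4 (h * g * h⁻¹) := by
  obtain ⟨v, hv⟩ := hJ
  refine ⟨h.mat *ᵥ v, ?_⟩
  rw [h23_conj_sub, h23_quad_mulVec, hv]

theorem h23_conj_back (h g : GO) : h⁻¹ * (h * g * h⁻¹) * h⁻¹⁻¹ = g := by group

theorem h23_J1_conj (h g : GO) : h23_J1 (h * g * h⁻¹) ↔ h23_J1 g :=
  ⟨fun hJ => by
    have := h23_J1_conj_of h⁻¹ _ hJ
    rwa [h23_conj_back] at this, h23_J1_conj_of h g⟩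

theorem h23_JQ_conj (q : K) (h g : GO) : h23_JQ q (h * g * h⁻¹) ↔ h23_JQ q g :=
  ⟨fun hJ => by
    have := h23_JQ_conj_of q h⁻¹ _ hJ
    rwa [h23_conj_back] at this, h23_JQ_conj_of q h g⟩

theorem h23_J4_conj (h g : GO) : h23_J4 (h * g * h⁻¹) ↔ h23_J4 g :=
  ⟨fun hJ => by
    have := h23_J4_conj_of h⁻¹ _ hJ
    rwa [h23_conj_back] at this, h23_J4_conj_of h g⟩

/-! ### the checks -/

/-- the zero vector -/
def h23_z7 : V7 := ⟨0, 0, 0, 0, 0, 0, 0⟩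

theorem h23_z7_toVec : h23_z7.toVec = 0 := by
  funext i
  rcases i with i | i | i
  · simp [V7.toVec, Cfsg.Agent.Lib.Helper12.O73.vec, h23_z7]
  · fin_cases i <;> simp [V7.toVec, Cfsg.Agent.Lib.Helper12.O73.vec, h23_z7]
  · fin_cases i <;> simp [V7.toVec, Cfsg.Agent.Lib.Helper12.O73.vec, h23_z7]

theorem h23_z7_red : h23_z7.red = true := by decide

theorem h23_nv_vec {g : GO} {m : M7} (hg : Rep g m) (a : V7) :
    g.mat *ᵥ a.toVec - a.toVec = (nv m a).toVec := by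
  rw [toVec_nv]
  unfold Rep at hg
  rw [hg]

theorem h23_qV_lt (a : V7) : qV a < 3 := by
  unfold qV
  exact Nat.mod_lt _ (by norm_num)

theorem h23_cast_inj {a b : ℕ} (ha : a < 3) (hb : b < 3) (h : (a : K) = (b : K)) : a = b := by
  have h1 := (ZMod.natCast_eq_natCast_iff' a b 3).mp h
  rwa [Nat.mod_eq_of_lt ha, Nat.mod_eq_of_lt hb] at h1

/-- check for `J1` with expected value `t` (witness `w` for the negative case) -/
def h23_c1 (m : M7) (t : Bool) (w : V7) : Bool :=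
  if t then allV (fun a => decide (nv m (nv m a) = h23_z7))
  else !decide (nv m (nv m w) = h23_z7)

/-- check for `JQ q` with expected value `t` (witness `w` for the positive case) -/
def h23_cq (m : M7) (q : ℕ) (t : Bool) (w : V7) : Bool :=
  if t then decide (mv m w = w) && decide (qV w = q)
  else allV (fun a => a.red && !(decide (mv m a = a) && decide (qV a = q)))

/-- check for `J4` with expected value `t` (witness `w` for the positive case) -/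
def h23_c4 (m : M7) (t : Bool) (w : V7) : Bool :=
  if t then decide (qV (nv m w) = 1)
  else allV (fun a => !decide (qV (nv m a) = 1))

theorem h23_c1_sound {g : GO} {m : M7} (hg : Rep g m) (t : Bool) (w : V7)
    (h : h23_c1 m t w = true) : h23_J1 g ↔ t = true := by
  cases t with
  | true =>
    refine ⟨fun _ => rfl, fun _ => ?_⟩
    intro v
    have h' : allV (fun a => decide (nv m (nv m a) = h23_z7)) = true := by
      simpa [h23_c1] using h
    obtain ⟨a, hav, hp⟩ := allV_spec _ h' v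
    have hp' : nv m (nv m a) = h23_z7 := by simpa using hp
    rw [← hav, h23_nv_vec hg, h23_nv_vec hg, hp', h23_z7_toVec]
  | false =>
    refine ⟨fun hJ => ?_, fun h0 => absurd h0 (by decide)⟩
    exfalso
    have h' : nv m (nv m w) ≠ h23_z7 := by
      simpa [h23_c1] using h
    apply h'
    apply toVec_inj _ _ (nv_red _ _) h23_z7_red
    have := hJ w.toVec
    rw [h23_nv_vec hg, h23_nv_vec hg] at this
    rw [this, h23_z7_toVec]

theorem h23_cq_sound {g : GO} {m : M7} (hg : Rep g m) (q : ℕ) (hq : q < 3) (t : Bool) (w : V7)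
    (h : h23_cq m q t w = true) : h23_JQ (q : K) g ↔ t = true := by
  cases t with
  | true =>
    refine ⟨fun _ => rfl, fun _ => ?_⟩
    have h' : mv m w = w ∧ qV w = q := by
      simpa [h23_cq] using h
    refine ⟨w.toVec, ?_, ?_⟩
    · rw [rep_mulVec hg, h'.1]
    · rw [← qV_spec, h'.2]
  | false =>
    refine ⟨fun hJ => ?_, fun h0 => absurd h0 (by decide)⟩
    exfalso
    obtain ⟨v, hv, hqv⟩ := hJ
    have h' : allV (fun a => a.red && !(decide (mv m a = a) && decide (qV a = q))) = true := by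
      simpa [h23_cq] using h
    obtain ⟨a, hav, hp⟩ := allV_spec _ h' v
    rw [Bool.and_eq_true] at hp
    obtain ⟨hred, hp2⟩ := hp
    have h1 : mv m a = a := by
      apply toVec_inj _ _ (mv_red _ _) hred
      rw [← rep_mulVec hg, hav, hv]
    have h2 : qV a = q := by
      apply h23_cast_inj (h23_qV_lt a) hq
      rw [qV_spec, hav, hqv]
    simp [h1, h2] at hp2

theorem h23_c4_sound {g : GO} {m : M7} (hg : Rep g m) (t : Bool) (w : V7)
    (h : h23_c4 m t w = true) : h23_J4 g ↔ t = true := by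
  cases t with
  | true =>
    refine ⟨fun _ => rfl, fun _ => ?_⟩
    have h' : qV (nv m w) = 1 := by
      simpa [h23_c4] using h
    refine ⟨w.toVec, ?_⟩
    rw [h23_nv_vec hg, ← qV_spec, h', Nat.cast_one]
  | false =>
    refine ⟨fun hJ => ?_, fun h0 => absurd h0 (by decide)⟩
    exfalso
    obtain ⟨v, hv⟩ := hJ
    have h' : allV (fun a => !decide (qV (nv m a) = 1)) = true := by
      simpa [h23_c4] using h
    obtain ⟨a, hav, hp⟩ := allV_spec _ h' v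
    have hp' : qV (nv m a) ≠ 1 := by simpa using hp
    apply hp'
    apply h23_cast_inj (h23_qV_lt _) (by norm_num)
    rw [qV_spec, ← h23_nv_vec hg, hav, hv, Nat.cast_one]

/-! ### the tables -/

/-- values of `J1` -/
def h23_t1 : ℕ → Bool
  | 0 => true
  | _ => false

/-- values of `JQ 1` -/
def h23_t2 : ℕ → Bool
  | 0 => true
  | 1 => true
  | 2 => true
  | 6 => true
  | _ => false

/-- values of `JQ 2` -/
def h23_t3 : ℕ → Bool
  | 0 => true
  | 1 => true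
  | 2 => true
  | 5 => true
  | _ => false

/-- values of `J4` -/
def h23_t4 : ℕ → Bool
  | 0 => false
  | 1 => false
  | _ => true

/-- witnesses against `J1` -/
def h23_w1 : ℕ → V7
  | 1 => ⟨0, 0, 0, 0, 0, 1, 0⟩
  | 5 => ⟨0, 0, 0, 0, 0, 1, 0⟩
  | 6 => ⟨0, 0, 0, 0, 0, 1, 0⟩
  | _ => ⟨0, 0, 0, 0, 0, 0, 1⟩

/-- witnesses for `JQ 1` -/
def h23_w2 : ℕ → V7
  | 0 => ⟨0, 1, 0, 0, 1, 0, 0⟩
  | 1 => ⟨0, 0, 0, 1, 0, 0, 1⟩
  | 2 => ⟨0, 0, 1, 0, 0, 1, 0⟩
  | _ => ⟨1, 0, 0, 0, 0, 0, 0⟩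

/-- witnesses for `JQ 2` -/
def h23_w3 : ℕ → V7
  | 0 => ⟨0, 1, 0, 0, 2, 0, 0⟩
  | 1 => ⟨0, 1, 0, 0, 2, 0, 0⟩
  | 2 => ⟨0, 0, 1, 0, 0, 2, 0⟩
  | _ => ⟨0, 0, 0, 1, 0, 0, 2⟩

/-- witnesses for `J4` -/
def h23_w4 : ℕ → V7
  | 5 => ⟨0, 0, 0, 0, 0, 1, 0⟩
  | 6 => ⟨0, 0, 0, 0, 1, 1, 0⟩
  | _ => ⟨0, 0, 0, 0, 0, 0, 1⟩

/-- all four checks for the class number `c` on the matrix `m` -/
def h23_chkRep (c : ℕ) (m : M7) : Bool :=
  h23_c1 m (h23_t1 c) (h23_w1 c) && h23_cq m 1 (h23_t2 c) (h23_w2 c) &&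
    h23_cq m 2 (h23_t3 c) (h23_w3 c) && h23_c4 m (h23_t4 c) (h23_w4 c)

set_option maxRecDepth 1000000 in
theorem h23_chk_all : ∀ c < 7,
    h23_chkRep c (rep c) = true ∧ h23_chkRep c (mm (rep c) (rep c)) = true := by
  decide +kernel

theorem h23_tab_sep : ∀ c < 7, ∀ c' < 7, c ≠ c' → ¬(c = 3 ∧ c' = 4) → ¬(c = 4 ∧ c' = 3) →
    ¬(h23_t1 c = h23_t1 c' ∧ h23_t2 c = h23_t2 c' ∧ h23_t3 c = h23_t3 c' ∧
      h23_t4 c = h23_t4 c') := by
  intro c hc c' hc' hne h34 h43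
  interval_cases c <;> interval_cases c' <;>
    first
    | exact absurd rfl hne
    | exact absurd ⟨rfl, rfl⟩ h34
    | exact absurd ⟨rfl, rfl⟩ h43
    | decide

theorem h23_sig (c : ℕ) (g : GO) (m : M7) (hg : Rep g m) (hm : h23_chkRep c m = true) :
    (h23_J1 g ↔ h23_t1 c = true) ∧ (h23_JQ ((1 : ℕ) : K) g ↔ h23_t2 c = true) ∧
      (h23_JQ ((2 : ℕ) : K) g ↔ h23_t3 c = true) ∧ (h23_J4 g ↔ h23_t4 c = true) := by
  unfold h23_chkRep at hm
  simp only [Bool.and_eq_true] at hm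
  obtain ⟨⟨⟨h1, h2⟩, h3⟩, h4⟩ := hm
  exact ⟨h23_c1_sound hg _ _ h1, h23_cq_sound hg 1 (by norm_num) _ _ h2,
    h23_cq_sound hg 2 (by norm_num) _ _ h3, h23_c4_sound hg _ _ h4⟩

/-- IN -/
theorem inv_sep (c c' : ℕ) (hc : c < 7) (hc' : c' < 7) (hne : c ≠ c')
    (h34 : ¬(c = 3 ∧ c' = 4)) (h43 : ¬(c = 4 ∧ c' = 3)) (r r' h : GO)
    (hr : Rep r (rep c)) (hr' : Rep r' (rep c')) :
    h * r * h⁻¹ ≠ r' ∧ h * r * h⁻¹ ≠ r' ^ 2 := by
  have hsep : ∀ (r'' : GO) (m'' : M7), Rep r'' m'' → h23_chkRep c' m'' = true →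
      h * r * h⁻¹ ≠ r'' := by
    intro r'' m'' hr'' hm'' heq
    obtain ⟨a1, a2, a3, a4⟩ := h23_sig c r (rep c) hr (h23_chk_all c hc).1
    obtain ⟨b1, b2, b3, b4⟩ := h23_sig c' r'' m'' hr'' hm''
    rw [← heq] at b1 b2 b3 b4
    rw [h23_J1_conj] at b1
    rw [h23_JQ_conj] at b2 b3
    rw [h23_J4_conj] at b4
    apply h23_tab_sep c hc c' hc' hne h34 h43
    exact ⟨Bool.eq_iff_iff.mpr (a1.symm.trans b1), Bool.eq_iff_iff.mpr (a2.symm.trans b2),
      Bool.eq_iff_iff.mpr (a3.symm.trans b3), Bool.eq_iff_iff.mpr (a4.symm.trans b4)⟩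
  refine ⟨hsep r' (rep c') hr' (h23_chk_all c' hc').1, ?_⟩
  apply hsep (r' ^ 2) (mm (rep c') (rep c')) _ (h23_chk_all c' hc').2
  rw [pow_two]
  exact rep_mul hr' hr'

end Cfsg.Agent.Lib.Helper28.O73C
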