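import Cfsg.Agent.Lib.helper23.PgH

set_option autoImplicit false

/-!
# Chunked versions of the basic check of a level
-/

namespace Cfsg.Agent.Lib.helper23

/-- bounded universal quantifier over the range `lo ≤ z < lo + cnt` -/
def pgAllR (lo cnt : ℕ) (p : ℕ → Bool) : Bool :=
  pgAll cnt (fun k => pgForce (Nat.add lo k) p)

theorem pgAllR_append {p : ℕ → Bool} {lo c1 c2 : ℕ} (h1 : pgAllR lo c1 p = true)
    (h2 : pgAllR (lo + c1) c2 p = true) : pgAllR lo (c1 + c2) p = true := by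
  unfold pgAllR at h1 h2 ⊢
  rw [pgAll_add, Bool.and_eq_true]
  refine ⟨h1, ?_⟩
  rw [pgAll_iff] at h2 ⊢
  intro k hk
  have := h2 k hk
  simp only [Nat.add_eq] at this ⊢
  rwa [Nat.add_assoc] at this

theorem pgAll_of_R {p : ℕ → Bool} {n : ℕ} (h : pgAllR 0 n p = true) : pgAll n p = true := by
  unfold pgAllR at h
  rw [pgAll_iff] at h ⊢
  intro k hk
  have := h k hk
  rw [pgForce_eq] at this
  have e : Nat.add 0 k = k := by simp
  rwa [e] at this

/-- the first part of the basic check of a level -/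
def pgChkLvlA (n : ℕ) (L : PgLvlW) (Ls : List PgLvlW) : Bool :=
  (Nat.blt L.b n && pgAllL (pgOwnW Ls) (fun s => Nat.beq (s.f L.b) L.b)) &&
    (L.inO L.b && Nat.beq (L.path L.b).length 0)

/-- the generators are permutations: one generator, a range of points -/
def pgChkOkR (n : ℕ) (s : PFun) (lo cnt : ℕ) : Bool :=
  pgAllR lo cnt (fun i => (Nat.blt (s.f i) n && Nat.beq (s.g (s.f i)) i) &&
    (Nat.blt (s.g i) n && Nat.beq (s.f (s.g i)) i))

/-- the transversal check on a range of points -/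
def pgChkUWR (L : PgLvlW) (lo cnt : ℕ) : Bool :=
  pgAllR lo cnt (fun z => cond (L.inO z)
    (pgAllL (L.path z) (fun j => Nat.blt j (Nat.mul 2 L.own.length)) &&
      Nat.beq (pgEvalW L.own (L.path z) L.b) z)
    true)

/-- one generator of the next level is the given word: test on a range of points -/
def pgChkSubWR (L : PgLvlW) (s : PFun) (w : List ℕ) (lo cnt : ℕ) : Bool :=
  pgAllR lo cnt (fun p => Nat.beq (s.f p) (pgEvalW L.own w p))

theorem pgChkOkR_append {n : ℕ} {s : PFun} {lo c1 c2 : ℕ} (h1 : pgChkOkR n s lo c1 = true)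
    (h2 : pgChkOkR n s (lo + c1) c2 = true) : pgChkOkR n s lo (c1 + c2) = true :=
  pgAllR_append h1 h2

theorem pgChkUWR_append {L : PgLvlW} {lo c1 c2 : ℕ} (h1 : pgChkUWR L lo c1 = true)
    (h2 : pgChkUWR L (lo + c1) c2 = true) : pgChkUWR L lo (c1 + c2) = true :=
  pgAllR_append h1 h2

theorem pgChkSubWR_append {L : PgLvlW} {s : PFun} {w : List ℕ} {lo c1 c2 : ℕ}
    (h1 : pgChkSubWR L s w lo c1 = true)
    (h2 : pgChkSubWR L s w (lo + c1) c2 = true) : pgChkSubWR L s w lo (c1 + c2) = true :=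
  pgAllR_append h1 h2

theorem pgChkLvlW0_of2 {n : ℕ} {L : PgLvlW} {Ls : List PgLvlW} {s0 s1 t0 t1 : PFun}
    {w0 w1 : List ℕ} (hown : L.own = [s0, s1]) (hnext : pgOwnW Ls = [t0, t1])
    (hsub : L.sub = [w0, w1]) (hA : pgChkLvlA n L Ls = true)
    (hok0 : pgChkOkR n s0 0 n = true) (hok1 : pgChkOkR n s1 0 n = true)
    (hU : pgChkUWR L 0 n = true)
    (hS0 : pgChkSubWR L t0 w0 0 n = true) (hS1 : pgChkSubWR L t1 w1 0 n = true) :
    pgChkLvlW0 n L Ls = true := by
  unfold pgChkLvlA at hA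
  simp only [Bool.and_eq_true] at hA
  obtain ⟨⟨a1, a2⟩, a3, a4⟩ := hA
  unfold pgChkLvlW0
  simp only [Bool.and_eq_true]
  refine ⟨⟨⟨a1, a2⟩, ?_, a3, a4⟩, ?_, ?_⟩
  · rw [hown, pgAllL_iff]
    intro s hs
    rcases List.mem_cons.1 hs with rfl | hs
    · exact pgAll_of_R hok0
    · rcases List.mem_cons.1 hs with rfl | hs
      · exact pgAll_of_R hok1
      · exact absurd hs List.not_mem_nil
  · exact pgAll_of_R hU
  · unfold pgChkSubW
    rw [hnext, hsub, Bool.and_eq_true]
    refine ⟨rfl, ?_⟩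
    rw [pgAll_iff]
    intro j hj
    change j < 2 at hj
    rcases j with _ | _ | j
    · exact pgAll_of_R hS0
    · exact pgAll_of_R hS1
    · omega

end Cfsg.Agent.Lib.helper23
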