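import Cfsg.Agent.Lib.Helper10.RULBITSGEN
import Cfsg.Agent.Lib.Helper10.RULBITSPAR
import Cfsg.Agent.Lib.Helper10.RULBITSWT
import Cfsg.Agent.Lib.helper23.PgR

set_option autoImplicit false

/-!
# A verified depth first search over bit masks with parity equations and a weight bound
-/

namespace Cfsg.Agent.Lib.helper23

/-- kernel friendly bit test -/
def rulBit (m k : ℕ) : Bool := Nat.beq (Nat.land (Nat.shiftRight m k) 1) 1

theorem rulBit_eq (m k : ℕ) : rulBit m k = m.testBit k := by
  have h0 : rulBit m k = Nat.beq ((m >>> k) &&& 1) 1 := rfl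
  rw [h0, Nat.testBit_eq_decide_div_mod_eq, Nat.shiftRight_eq_div_pow, Nat.and_one_is_mod]
  rcases Nat.mod_two_eq_zero_or_one (m / 2 ^ k) with h | h <;> rw [h] <;> rfl

/-- kernel friendly equality of booleans -/
def rulBeq (a b : Bool) : Bool := cond a b (cond b false true)

theorem rulBeq_iff (a b : Bool) : rulBeq a b = true ↔ a = b := by
  cases a <;> cases b <;> simp [rulBeq]

/-- all parity equations `(M, β)` of the list hold for `u` -/
def rulEqsOk (b : List (ℕ × Bool)) (u : ℕ) : Bool :=
  pgAllL b (fun e => rulBeq (rulPar (Nat.land e.1 u)) e.2)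

theorem rulEqsOk_iff (b : List (ℕ × Bool)) (u : ℕ) :
    rulEqsOk b u = true ↔ ∀ e ∈ b, rulPar (e.1 &&& u) = e.2 := by
  unfold rulEqsOk
  rw [pgAllL_iff]
  constructor
  · intro h e he
    exact (rulBeq_iff _ _).1 (h e he)
  · intro h e he
    exact (rulBeq_iff _ _).2 (h e he)

/-- depth first search: all masks `u ⊆ A` on the positions `k, k+1, …` (one per bucket) extending
the partial mask, with at most `B` bits inside `W`, satisfying the parity equations of the buckets
(bucket `j` is tested as soon as position `k + j` is decided), satisfy `P` -/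
def rulDfs (A W B : ℕ) (P : ℕ → Bool) (bk : List (List (ℕ × Bool))) : ℕ → ℕ → ℕ → Bool :=
  @List.rec (List (ℕ × Bool)) (fun _ => ℕ → ℕ → ℕ → Bool)
    (fun _ u _ => P u)
    (fun b _ ih k u w =>
      cond (cond (rulEqsOk b u) (ih (Nat.succ k) u w) true)
        (cond (rulBit A k)
          (pgForce (Nat.lor u (Nat.shiftLeft 1 k)) fun u1 =>
           pgForce (cond (rulBit W k) (Nat.succ w) w) fun w1 =>
           cond (Nat.ble w1 B) (cond (rulEqsOk b u1) (ih (Nat.succ k) u1 w1) true) true)
          true)
        false)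
    bk

theorem rulDfs_nil (A W B : ℕ) (P : ℕ → Bool) (k u w : ℕ) :
    rulDfs A W B P [] k u w = P u := rfl

theorem rulDfs_cons (A W B : ℕ) (P : ℕ → Bool) (b : List (ℕ × Bool))
    (bk : List (List (ℕ × Bool))) (k u w : ℕ) :
    rulDfs A W B P (b :: bk) k u w =
      cond (cond (rulEqsOk b u) (rulDfs A W B P bk (k + 1) u w) true)
        (cond (rulBit A k)
          (cond (Nat.ble (cond (rulBit W k) (w + 1) w) B)
            (cond (rulEqsOk b (u ||| 1 <<< k))
              (rulDfs A W B P bk (k + 1) (u ||| 1 <<< k) (cond (rulBit W k) (w + 1) w)) true) true)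
          true)
        false := by
  show (cond (cond (rulEqsOk b u) (rulDfs A W B P bk (Nat.succ k) u w) true)
        (cond (rulBit A k)
          (pgForce (Nat.lor u (Nat.shiftLeft 1 k)) fun u1 =>
           pgForce (cond (rulBit W k) (Nat.succ w) w) fun w1 =>
           cond (Nat.ble w1 B) (cond (rulEqsOk b u1)
             (rulDfs A W B P bk (Nat.succ k) u1 w1) true) true)
          true)
        false) = _
  rw [pgForce_eq, pgForce_eq]
  rfl

/-! ### bit lemmas -/

theorem rul_testBit_mod (u k j : ℕ) : (u % 2 ^ k).testBit j = (decide (j < k) && u.testBit j) :=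
  Nat.testBit_mod_two_pow u k j

theorem rul_mod_succ_false {u k : ℕ} (h : u.testBit k = false) : u % 2 ^ (k + 1) = u % 2 ^ k := by
  apply Nat.eq_of_testBit_eq
  intro j
  rw [rul_testBit_mod, rul_testBit_mod]
  by_cases hj : j < k
  · have : j < k + 1 := by omega
    simp [hj, this]
  · by_cases hjk : j = k
    · subst hjk
      simp [h]
    · have : ¬ j < k + 1 := by omega
      simp [hj, this]

theorem rul_mod_succ_true {u k : ℕ} (h : u.testBit k = true) :
    u % 2 ^ (k + 1) = u % 2 ^ k ||| 1 <<< k := by
  apply Nat.eq_of_testBit_eq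
  intro j
  rw [rul_testBit_mod, Nat.testBit_or, rul_testBit_mod, Nat.one_shiftLeft, Nat.testBit_two_pow]
  by_cases hj : j < k
  · have h1 : j < k + 1 := by omega
    have h2 : k ≠ j := by omega
    simp [hj, h1, h2]
  · by_cases hjk : j = k
    · subst hjk
      simp [h]
    · have h1 : ¬ j < k + 1 := by omega
      have h2 : k ≠ j := by omega
      simp [hj, h1, h2]

theorem rul_and_mod {M u k : ℕ} (hM : M < 2 ^ k) : M &&& u = M &&& (u % 2 ^ k) := by
  apply Nat.eq_of_testBit_eq
  intro j
  rw [Nat.testBit_and, Nat.testBit_and, rul_testBit_mod]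
  by_cases hj : j < k
  · simp [hj]
  · have : M.testBit j = false := by
      apply Nat.testBit_lt_two_pow
      calc M < 2 ^ k := hM
        _ ≤ 2 ^ j := Nat.pow_le_pow_right (by norm_num) (by omega)
    simp [this]

theorem rul_mod_and (u W k : ℕ) : (u % 2 ^ k) &&& W = (u &&& W) % 2 ^ k := by
  apply Nat.eq_of_testBit_eq
  intro j
  rw [Nat.testBit_and, rul_testBit_mod, rul_testBit_mod, Nat.testBit_and, Bool.and_assoc]

theorem rul_and_two_pow (W k : ℕ) : 1 <<< k &&& W = if W.testBit k then 2 ^ k else 0 := by
  apply Nat.eq_of_testBit_eq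
  intro j
  rw [Nat.testBit_and, Nat.one_shiftLeft, Nat.testBit_two_pow]
  by_cases hjk : k = j
  · subst hjk
    by_cases hW : W.testBit k
    · simp [hW]
    · simp [hW]
  · by_cases hW : W.testBit k
    · simp [hW, hjk]
    · simp [hW, hjk]

theorem rulWt_step {up W k : ℕ} (hup : up < 2 ^ k) (hk : k < 56) :
    rulWt ((up ||| 1 <<< k) &&& W) = rulWt (up &&& W) + (if W.testBit k then 1 else 0) := by
  have h1 : (up ||| 1 <<< k) &&& W = (up &&& W) ||| (1 <<< k &&& W) := by
    apply Nat.eq_of_testBit_eq
    intro j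
    simp only [Nat.testBit_and, Nat.testBit_or]
    cases up.testBit j <;> cases (1 <<< k).testBit j <;> cases W.testBit j <;> rfl
  have h2 : (up &&& W) &&& (1 <<< k &&& W) = 0 := by
    apply Nat.eq_of_testBit_eq
    intro j
    simp only [Nat.testBit_and, Nat.one_shiftLeft, Nat.testBit_two_pow, Nat.zero_testBit]
    by_cases hjk : k = j
    · subst hjk
      have : up.testBit k = false := Nat.testBit_lt_two_pow hup
      simp [this]
    · simp [hjk]
  rw [h1, rulWt_or_disjoint _ _ h2, rul_and_two_pow]
  split_ifs with hW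
  · rw [rulWt_two_pow hk]
  · rw [rulWt_zero]

/-- soundness of the search -/
theorem rulDfs_sound {A W B : ℕ} {P : ℕ → Bool} :
    ∀ (bk : List (List (ℕ × Bool))) (k w u : ℕ),
      rulDfs A W B P bk k (u % 2 ^ k) w = true →
      w ≤ rulWt ((u % 2 ^ k) &&& W) →
      u < 2 ^ (k + bk.length) → k + bk.length ≤ 56 →
      (∀ j, u.testBit j = true → A.testBit j = true) →
      rulWt (u &&& W) ≤ B →
      (∀ j (hj : j < bk.length), ∀ e ∈ bk[j], e.1 < 2 ^ (k + j + 1)) →
      (∀ b ∈ bk, ∀ e ∈ b, rulPar (e.1 &&& u) = e.2) →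
      P u = true := by
  intro bk
  induction bk with
  | nil =>
    intro k w u hok _ hu _ _ _ _ _
    rw [rulDfs_nil] at hok
    simp only [List.length_nil, Nat.add_zero] at hu
    rwa [Nat.mod_eq_of_lt hu] at hok
  | cons b bk ih =>
    intro k w u hok hw hu h56 hA hB hbk heq
    rw [rulDfs_cons] at hok
    simp only [List.length_cons] at hu h56
    have hk56 : k < 56 := by omega
    have hb : ∀ e ∈ b, e.1 < 2 ^ (k + 1) := by
      intro e he
      have := hbk 0 (by simp) e (by simpa using he)
      simpa using this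
    have hbk' : ∀ j (hj : j < bk.length), ∀ e ∈ bk[j], e.1 < 2 ^ (k + 1 + j + 1) := by
      intro j hj e he
      have := hbk (j + 1) (by simp; omega) e (by simpa using he)
      rw [show k + (j + 1) + 1 = k + 1 + j + 1 by omega] at this
      exact this
    have heq' : ∀ b' ∈ bk, ∀ e ∈ b', rulPar (e.1 &&& u) = e.2 :=
      fun b' hb' => heq b' (List.mem_cons_of_mem _ hb')
    have hu' : u < 2 ^ (k + 1 + bk.length) := by
      rw [show k + 1 + bk.length = k + (bk.length + 1) by omega]
      exact hu
    have heqs : rulEqsOk b (u % 2 ^ (k + 1)) = true := by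
      rw [rulEqsOk_iff]
      intro e he
      rw [← rul_and_mod (hb e he)]
      exact heq b (List.mem_cons_self ..) e he
    have hmono : rulWt ((u % 2 ^ (k + 1)) &&& W) ≤ B := by
      rw [rul_mod_and]
      exact le_trans (rulWt_mod_le _ _) hB
    cases hbit : u.testBit k with
    | false =>
      have hmod := rul_mod_succ_false hbit
      rw [hmod] at heqs
      rw [heqs] at hok
      have h1 : rulDfs A W B P bk (k + 1) (u % 2 ^ k) w = true := by
        cases hd : rulDfs A W B P bk (k + 1) (u % 2 ^ k) w with
        | true => rfl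
        | false => rw [hd] at hok; simp at hok
      rw [← hmod] at h1
      refine ih (k + 1) w u h1 ?_ hu' (by omega) hA hB hbk' heq'
      rw [hmod]
      exact hw
    | true =>
      have hmod := rul_mod_succ_true hbit
      have hAk : rulBit A k = true := by rw [rulBit_eq]; exact hA k hbit
      have hup : u % 2 ^ k < 2 ^ k := Nat.mod_lt _ (Nat.two_pow_pos k)
      have hstep := rulWt_step (W := W) hup hk56
      rw [← hmod] at hstep
      have hw1 : (cond (rulBit W k) (w + 1) w) ≤ rulWt ((u % 2 ^ (k + 1)) &&& W) := by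
        rw [hstep, rulBit_eq]
        cases hWk : W.testBit k with
        | true => simp; omega
        | false => simp; omega
      have hble : Nat.ble (cond (rulBit W k) (w + 1) w) B = true := by
        rw [Nat.ble_eq]
        exact le_trans hw1 hmono
      rw [hAk, hble, ← hmod, heqs] at hok
      have h1 : rulDfs A W B P bk (k + 1) (u % 2 ^ (k + 1)) (cond (rulBit W k) (w + 1) w) = true := by
        cases hd : rulDfs A W B P bk (k + 1) (u % 2 ^ (k + 1)) (cond (rulBit W k) (w + 1) w) with
        | true => rfl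
        | false => rw [hd] at hok; simp at hok
      exact ih (k + 1) _ u h1 hw1 hu' (by omega) hA hB hbk' heq'

end Cfsg.Agent.Lib.helper23
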