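import Mathlib
import Cfsg.Prelude.Def_ChevStructure
import Cfsg.Prelude.Def_LieTypes
import Cfsg.Prelude.Def_ChevB2
import Cfsg.Agent.Lib.helper8.BTT.Defs
import Cfsg.Agent.S2326

/-!
# Project BTT (S2154, designer helper8), row GRP10 (`filP_le_U`): CORE (helper23).

`bttgrp10_core`: `G ∩ FilP ℓ ≤ U` as soon as `FilP ℓ` is closed under products and inverses, its
elements have `p`-power order, `U ⊆ Par ℓ`, and `Par ℓ` normalises `FilP ℓ` (the cited statements
GEN2 `filP_mul`, GEN4 `filP_inv`, GEN9 `filP_pow_eq_one`, GRP7 `B_par`, GEN6 `par_conj_filP` enter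
as hypotheses; S2326 is cited).
-/

set_option autoImplicit false

namespace Cfsg.Agent.Lib.helper8.BTT

open Cfsg.Lie Cfsg.Lie.ChevalleyDatum

universe u

section generic
variable {ι : Type*} [DecidableEq ι] {F : Type*} [Field F]

theorem bttgrp10_filP_one (ℓ : ι → ℝ) : FilP ℓ (1 : Matrix ι ι F) := by
  intro i j h
  simp at h

end generic

section grp
variable {F : Type u} [Field F] (D : ChevalleyDatum)

/-- GRP10 core. -/
theorem bttgrp10_core (hD : D ∈ [chevG2, chevB2, chevD4, chevF4, chevE6, chevE7, chevE8])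
    [Fintype F] (p : ℕ) [Fact p.Prime] [CharP F p] (ℓ : D.Idx → ℝ)
    (hmul : ∀ M M' : Matrix D.Idx D.Idx F, FilP ℓ M → FilP ℓ M' → FilP ℓ (M * M'))
    (hinv : ∀ g : GL D.Idx F, FilP ℓ (g : Matrix D.Idx D.Idx F) →
      FilP ℓ ((g⁻¹ : GL D.Idx F) : Matrix D.Idx D.Idx F))
    (hpow : ∀ g : GL D.Idx F, FilP ℓ (g : Matrix D.Idx D.Idx F) → ∃ k : ℕ, g ^ (p ^ k) = 1)
    (hUpar : ∀ u : GL D.Idx F, u ∈ D.posUnipotent F → Par ℓ (u : Matrix D.Idx D.Idx F))
    (hconj : ∀ b g : GL D.Idx F, Par ℓ (b : Matrix D.Idx D.Idx F) →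
      FilP ℓ (g : Matrix D.Idx D.Idx F) →
      FilP ℓ ((b * g * b⁻¹ : GL D.Idx F) : Matrix D.Idx D.Idx F))
    (q : GL D.Idx F) (hqG : q ∈ D.group F) (hq : FilP ℓ (q : Matrix D.Idx D.Idx F)) :
    q ∈ D.posUnipotent F := by
  obtain ⟨P, hP⟩ := Cfsg.Agent.S2326.result (F := F) p D hD
  -- the subgroup `Q = G ∩ FilP ℓ` of `G`
  let Q : Subgroup ↥(D.group F) :=
    { carrier := {g | FilP ℓ ((g : GL D.Idx F) : Matrix D.Idx D.Idx F)}
      mul_mem' := by
        intro a b ha hb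
        have h := hmul _ _ ha hb
        simpa using h
      one_mem' := by
        have h := bttgrp10_filP_one (F := F) ℓ
        simpa using h
      inv_mem' := by
        intro a ha
        have h := hinv (a : GL D.Idx F) ha
        simpa using h }
  have hQmem : ∀ g : ↥(D.group F), g ∈ Q ↔ FilP ℓ ((g : GL D.Idx F) : Matrix D.Idx D.Idx F) :=
    fun g => Iff.rfl
  have hQp : IsPGroup p Q := by
    intro g
    obtain ⟨k, hk⟩ := hpow ((g : ↥(D.group F)) : GL D.Idx F) ((hQmem g).1 g.2)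
    refine ⟨k, ?_⟩
    apply Subtype.ext
    apply Subtype.ext
    have : (((g ^ p ^ k : ↥Q) : ↥(D.group F)) : GL D.Idx F) =
        (((g : ↥(D.group F)) : GL D.Idx F)) ^ p ^ k := by
      simp
    rw [this, hk]
    rfl
  have hnorm : (P : Subgroup ↥(D.group F)) ≤ Subgroup.normalizer (Q : Set ↥(D.group F)) := by
    intro u hu
    rw [hP, Subgroup.mem_subgroupOf] at hu
    have hupar := hUpar _ hu
    have hupar' : Par ℓ (((u⁻¹ : ↥(D.group F)) : GL D.Idx F) : Matrix D.Idx D.Idx F) := by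
      have : ((u⁻¹ : ↥(D.group F)) : GL D.Idx F) ∈ D.posUnipotent F := by
        simpa using (D.posUnipotent F).inv_mem hu
      exact hUpar _ this
    rw [Subgroup.mem_normalizer_iff]
    intro g
    constructor
    · intro hg
      have h := hconj _ _ hupar ((hQmem g).1 hg)
      rw [hQmem]
      simpa using h
    · intro hg
      have h := hconj _ _ hupar' ((hQmem _).1 hg)
      rw [hQmem]
      have e : ((u⁻¹ : ↥(D.group F)) : GL D.Idx F) * ((u * g * u⁻¹ : ↥(D.group F)) : GL D.Idx F) *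
          (((u⁻¹ : ↥(D.group F)) : GL D.Idx F))⁻¹ = (g : GL D.Idx F) := by
        simp [mul_assoc]
      rw [e] at h
      exact h
  have hsup : IsPGroup p (Q ⊔ (P : Subgroup ↥(D.group F)) : Subgroup ↥(D.group F)) :=
    IsPGroup.to_sup_of_normal_left' hQp P.isPGroup' hnorm
  have heq := P.is_maximal' hsup le_sup_right
  have hqQ : (⟨q, hqG⟩ : ↥(D.group F)) ∈ Q := (hQmem _).2 hq
  have hqP : (⟨q, hqG⟩ : ↥(D.group F)) ∈ (P : Subgroup ↥(D.group F)) := by
    rw [← heq]
    exact Subgroup.mem_sup_left hqQ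
  rw [hP, Subgroup.mem_subgroupOf] at hqP
  exact hqP

end grp

end Cfsg.Agent.Lib.helper8.BTT
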