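import Cfsg.Agent.Lib.helper23.PgH
import Cfsg.Agent.Lib.helper23.PgD
import Cfsg.Agent.Lib.Helper12.Maximal

set_option autoImplicit false

/-!
# Consequences of a checked chain: orbits, stabilisers, maximality of the point stabiliser,
simplicity
-/

namespace Cfsg.Agent.Lib.helper23

open Subgroup MulAction

/-- the orbit of the base point lies in the orbit mask -/
theorem pgLvlW_orbit {n : ℕ} (R : PgRigid n) {L : PgLvlW} {C : List PgLvlW}
    (h : pgChkW n R.base (L :: C) = true) (hA : pgGrpW n (L :: C) ≤ R.A) (hb : L.b < n) :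
    ∀ g ∈ pgGrpW n (L :: C), L.inO (g ⟨L.b, hb⟩).1 = true := by
  have h' := h
  rw [pgChkW_cons, Bool.and_eq_true] at h'
  have h1 := h'.1
  unfold pgChkLvlW at h1
  rw [Bool.and_eq_true] at h1
  have hgs' := pgChkW_own_ok n R.base _ h'.2
  obtain ⟨-, hfix, hok, hOb, hpb, hU, -⟩ := pgChkLvlW0_spec h1.1
  have hmono := pgGrpW_mono h1.1 hgs'
  have huz : ∀ z : Fin n, L.inO z.1 = true →
      (pgWordPerm n L.own (L.path z.1)) ⟨L.b, hb⟩ = z := by
    intro z hz
    apply Fin.ext
    rw [pgWordPerm_apply hok]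
    exact (hU z.1 z.2 hz).2
  have key := pg_closure_sub (pgSet n L.own) (pgGrpW n C) ⟨L.b, hb⟩
    (Finset.univ.filter (fun z : Fin n => L.inO z.1 = true))
    (fun z => pgWordPerm n L.own (L.path z.1))
    (by simpa using hOb)
    (by
      change pgWordPerm n L.own (L.path L.b) = 1
      rw [hpb]
      rfl)
    (by
      rintro s ⟨P, hP, rfl⟩ z hz
      simp only [Finset.mem_filter, Finset.mem_univ, true_and] at hz
      have hchk := (pgAllL_iff _ _).1 h1.2 P hP
      obtain ⟨c1, c2⟩ := pgChkGenW_spec hchk z.1 (Nat.zero_le _) (by simp) hz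
      have hPz : ((P.perm n) z).1 = P.f z.1 := PFun.perm_apply (hok P hP) z
      have hyn : P.f z.1 < n := by rw [← hPz]; exact ((P.perm n) z).2
      obtain ⟨hlety, -⟩ := hU (P.f z.1) hyn c1
      have hinv := pgInvW_perm hok (L.path (P.f z.1)) hlety
      have hPA : P.perm n ∈ R.A := hA (subset_closure ⟨P, hP, rfl⟩)
      refine ⟨?_, ?_⟩
      · simp only [Finset.mem_filter, Finset.mem_univ, true_and]
        rw [hPz]
        exact c1
      · apply pgSiftW_sound R C h'.2 (le_trans hmono hA) _ _ _ _ c2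
        · refine R.A.mul_mem (R.A.mul_mem (R.A.inv_mem ?_) hPA) ?_
          · exact hA (pgWordPerm_mem hok _)
          · exact hA (pgWordPerm_mem hok _)
        · intro p
          rw [Equiv.Perm.mul_apply, Equiv.Perm.mul_apply, hPz, ← hinv, pgWordPerm_apply hok,
            PFun.perm_apply (hok P hP), pgWordPerm_apply hok])
    (by
      intro z hz
      simp only [Finset.mem_filter, Finset.mem_univ, true_and] at hz
      exact huz z hz)
  intro g hg
  have := (key g hg).1
  simpa using this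

theorem pgChkW_tail {n : ℕ} {base : List ℕ} {L : PgLvlW} {C : List PgLvlW}
    (h : pgChkW n base (L :: C) = true) : pgChkW n base C = true := by
  rw [pgChkW_cons, Bool.and_eq_true] at h
  exact h.2

/-- an element of the group of a checked chain fixing all base points is the identity -/
theorem pgFixBase {n : ℕ} (R : PgRigid n) : ∀ C : List PgLvlW, pgChkW n R.base C = true →
    pgGrpW n C ≤ R.A → ∀ g ∈ pgGrpW n C,
      (∀ L ∈ C, ∀ hb : L.b < n, g ⟨L.b, hb⟩ = ⟨L.b, hb⟩) → g = 1 := by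
  intro C
  induction C with
  | nil =>
    intro _ _ g hg _
    rw [pgGrpW_nil] at hg
    exact Subgroup.mem_bot.1 hg
  | cons L C ih =>
    intro h hA g hg hfix
    obtain ⟨hb, h1, -, -, hmono⟩ := pgLvlW_main R h hA
    apply ih (pgChkW_tail h) (le_trans hmono hA) g (h1 g hg (hfix L List.mem_cons_self hb))
    intro L' hL' hb'
    exact hfix L' (List.mem_cons_of_mem L hL') hb'

/-- the stabiliser of the base point is the group of the tail -/
theorem pgStabW {n : ℕ} (R : PgRigid n) {L : PgLvlW} {C : List PgLvlW}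
    (h : pgChkW n R.base (L :: C) = true) (hA : pgGrpW n (L :: C) ≤ R.A) (hb : L.b < n) :
    (stabilizer (pgGrpW n (L :: C)) (⟨L.b, hb⟩ : Fin n)).map (pgGrpW n (L :: C)).subtype =
      pgGrpW n C := by
  obtain ⟨_, h1, -, -, hmono⟩ := pgLvlW_main R h hA
  have h' := h
  rw [pgChkW_cons, Bool.and_eq_true] at h'
  have h0 := h'.1
  unfold pgChkLvlW at h0
  rw [Bool.and_eq_true] at h0
  obtain ⟨-, hfix, -⟩ := pgChkLvlW0_spec h0.1
  have hfix' := pgGrpW_fix (b := ⟨L.b, hb⟩) hfix (pgChkW_own_ok n R.base _ h'.2)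
  ext g
  constructor
  · rintro ⟨⟨g', hg'⟩, hs, rfl⟩
    exact h1 g' hg' (mem_stabilizer_iff.1 hs)
  · intro hg
    refine ⟨⟨g, hmono hg⟩, ?_, rfl⟩
    rw [SetLike.mem_coe, mem_stabilizer_iff]
    exact hfix' g hg

theorem pgStabW_card {n : ℕ} (R : PgRigid n) {L : PgLvlW} {C : List PgLvlW}
    (h : pgChkW n R.base (L :: C) = true) (hA : pgGrpW n (L :: C) ≤ R.A) (hb : L.b < n) :
    Nat.card (stabilizer (pgGrpW n (L :: C)) (⟨L.b, hb⟩ : Fin n)) = pgOrdW n C := by
  obtain ⟨_, -, -, -, hmono⟩ := pgLvlW_main R h hA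
  rw [← pgCardW R C (pgChkW_tail h) (le_trans hmono hA), ← pgStabW R h hA hb]
  exact (Subgroup.card_map_of_injective (Subgroup.subtype_injective _)).symm

/-- classes of the point stabiliser -/
structure PgCls where
  /-- the number of classes -/
  k : ℕ
  /-- the class of a point -/
  cls : ℕ → ℕ
  /-- the representative of a class -/
  rep : ℕ → ℕ
  /-- a word in the generators of the stabiliser mapping the representative to the point -/
  cpath : ℕ → List ℕ
  /-- the sizes of the classes -/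
  sz : ℕ → ℕ

/-- the check of the classes: `x` the base point, `gs` the generators of its stabiliser -/
def pgChkCls (n x : ℕ) (inY : ℕ → Bool) (gs : List PFun) (K : PgCls) : Bool :=
  pgAll n (fun y => cond (inY y)
    (((Nat.blt (K.cls y) K.k && Nat.blt (K.rep (K.cls y)) n) &&
      Nat.beq (pgEvalW gs (K.cpath y) (K.rep (K.cls y))) y) &&
      cond (Nat.beq (K.cls y) (K.cls x)) (Nat.beq y x) true)
    true) &&
  pgAll K.k (fun i => Nat.beq (pgCount n (fun y => inY y && Nat.beq (K.cls y) i)) (K.sz i))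

theorem pgCoatomW {n : ℕ} (R : PgRigid n) {L L2 : PgLvlW} {D : List PgLvlW}
    (h : pgChkW n R.base (L :: L2 :: D) = true) (hA : pgGrpW n (L :: L2 :: D) ≤ R.A)
    (hb : L.b < n) (K : PgCls) (hk : 0 < K.k)
    (hK : pgChkCls n L.b L.inO L2.own K = true)
    (hne : ∃ y : Fin n, L.inO y.1 = true ∧ y.1 ≠ L.b)
    (harith : ∀ I : Finset (Fin K.k), (⟨K.cls L.b % K.k, Nat.mod_lt _ hk⟩ : Fin K.k) ∈ I →
      (∀ i ∈ I, K.sz i.1 ≠ 0) → (∑ i ∈ I, K.sz i.1) ∣ pgCount n L.inO →
      I = {(⟨K.cls L.b % K.k, Nat.mod_lt _ hk⟩ : Fin K.k)} ∨ ∀ i : Fin K.k, K.sz i.1 ≠ 0 → i ∈ I) :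
    IsCoatom (stabilizer (pgGrpW n (L :: L2 :: D)) (⟨L.b, hb⟩ : Fin n)) := by
  obtain ⟨_, h1, -, htr, hmono⟩ := pgLvlW_main R h hA
  have horb := pgLvlW_orbit R h hA hb
  have hok2 : ∀ P ∈ L2.own, P.ok n = true := pgChkW_own_ok n R.base _ (pgChkW_tail h)
  have h' := h
  rw [pgChkW_cons, Bool.and_eq_true] at h'
  have h0 := h'.1
  unfold pgChkLvlW at h0
  rw [Bool.and_eq_true] at h0
  obtain ⟨-, hfix, -, hOb, -⟩ := pgChkLvlW0_spec h0.1
  have hfix' := pgGrpW_fix (b := ⟨L.b, hb⟩) hfix (pgChkW_own_ok n R.base _ h'.2)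
  unfold pgChkCls at hK
  rw [Bool.and_eq_true] at hK
  obtain ⟨hK1, hK2⟩ := hK
  have hcls : ∀ y : Fin n, L.inO y.1 = true → K.cls y.1 < K.k ∧ K.rep (K.cls y.1) < n ∧
      pgEvalW L2.own (K.cpath y.1) (K.rep (K.cls y.1)) = y.1 ∧
      (K.cls y.1 = K.cls L.b → y.1 = L.b) := by
    intro y hy
    have := (pgAll_iff _ _).1 hK1 y.1 y.2
    rw [hy] at this
    simp only [cond_true, Bool.and_eq_true, Nat.blt_eq, Nat.beq_eq] at this
    refine ⟨this.1.1.1, this.1.1.2, this.1.2, ?_⟩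
    intro hc
    have h3 := this.2
    have e : Nat.beq (K.cls y.1) (K.cls L.b) = true := by rw [Nat.beq_eq]; exact hc
    rw [e] at h3
    simpa using h3
  have hYcard : {y : Fin n | L.inO y.1 = true}.ncard = pgCount n L.inO := by
    have : {y : Fin n | L.inO y.1 = true} =
        ↑(Finset.univ.filter (fun y : Fin n => L.inO y.1 = true)) := by
      ext y; simp
    rw [this, Set.ncard_coe_finset, pgCount_fin]
  apply Cfsg.Agent.Lib.Helper12.isCoatom_stabilizer_of_classes (⟨L.b, hb⟩ : Fin n)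
    {y : Fin n | L.inO y.1 = true} (Set.toFinite _) ?_
    (fun y => (⟨K.cls y.1 % K.k, Nat.mod_lt _ hk⟩ : Fin K.k)) ?_ (fun i => K.sz i.1) ?_ ?_ ?_ ?_
  · intro y
    constructor
    · intro hy
      obtain ⟨g, hg, hgy⟩ := htr y hy
      exact ⟨⟨g, hg⟩, hgy⟩
    · rintro ⟨g, rfl⟩
      exact horb g.1 g.2
  · intro y hy y' hy' hc
    obtain ⟨c1, c2, c3, -⟩ := hcls y hy
    obtain ⟨c1', c2', c3', -⟩ := hcls y' hy'
    have hcc : K.cls y.1 = K.cls y'.1 := by
      have := congrArg Fin.val hc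
      simp only at this
      rwa [Nat.mod_eq_of_lt c1, Nat.mod_eq_of_lt c1'] at this
    have e1 : (pgWordPerm n L2.own (K.cpath y.1)) ⟨K.rep (K.cls y.1), c2⟩ = y := by
      apply Fin.ext
      rw [pgWordPerm_apply hok2]
      exact c3
    have e2 : (pgWordPerm n L2.own (K.cpath y'.1)) ⟨K.rep (K.cls y.1), c2⟩ = y' := by
      apply Fin.ext
      rw [pgWordPerm_apply hok2]
      simp only [hcc]
      exact c3'
    have hm : ∀ w, pgWordPerm n L2.own w ∈ pgGrpW n (L2 :: D) := fun w => pgWordPerm_mem hok2 w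
    have hk' : pgWordPerm n L2.own (K.cpath y'.1) * (pgWordPerm n L2.own (K.cpath y.1))⁻¹ ∈
        pgGrpW n (L2 :: D) := mul_mem (hm _) (inv_mem (hm _))
    refine ⟨⟨_, hmono hk'⟩, ?_, ?_⟩
    · rw [mem_stabilizer_iff]
      exact hfix' _ hk'
    · change (pgWordPerm n L2.own (K.cpath y'.1) * (pgWordPerm n L2.own (K.cpath y.1))⁻¹) y = y'
      rw [Equiv.Perm.mul_apply, Equiv.Perm.inv_eq_iff_eq.2 e1.symm, e2]
  · intro i
    have : {y : Fin n | y ∈ {y : Fin n | L.inO y.1 = true} ∧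
        (⟨K.cls y.1 % K.k, Nat.mod_lt _ hk⟩ : Fin K.k) = i} =
        ↑(Finset.univ.filter (fun y : Fin n => (L.inO y.1 && Nat.beq (K.cls y.1) i.1) = true)) := by
      ext y
      simp only [Set.mem_ofPred_eq, Finset.coe_filter, Finset.mem_univ, true_and,
        Bool.and_eq_true, Nat.beq_eq]
      constructor
      · rintro ⟨hy, hc⟩
        refine ⟨hy, ?_⟩
        have := congrArg Fin.val hc
        simp only at this
        rwa [Nat.mod_eq_of_lt (hcls y hy).1] at this
      · rintro ⟨hy, hc⟩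
        refine ⟨hy, ?_⟩
        apply Fin.ext
        simp only
        rw [hc, Nat.mod_eq_of_lt i.2]
    rw [this, Set.ncard_coe_finset, pgCount_fin (p := fun y => L.inO y && Nat.beq (K.cls y) i.1)]
    simpa using (pgAll_iff _ _).1 hK2 i.1 i.2
  · intro y hy hc
    have hxy : L.inO (⟨L.b, hb⟩ : Fin n).1 = true := hOb
    have := congrArg Fin.val hc
    simp only at this
    rw [Nat.mod_eq_of_lt (hcls y hy).1, Nat.mod_eq_of_lt (hcls ⟨L.b, hb⟩ hxy).1] at this
    exact Fin.ext ((hcls y hy).2.2.2 this)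
  · obtain ⟨y, hy, hne'⟩ := hne
    exact ⟨y, hy, fun hc => hne' (congrArg Fin.val hc)⟩
  · rw [hYcard]
    exact harith

/-- simplicity of the group of a checked chain -/
theorem pgSimpleW {n : ℕ} (R : PgRigid n) {L : PgLvlW} {C : List PgLvlW}
    (h : pgChkW n R.base (L :: C) = true) (hA : pgGrpW n (L :: C) ≤ R.A) (hb : L.b < n)
    (hmax : IsCoatom (stabilizer (pgGrpW n (L :: C)) (⟨L.b, hb⟩ : Fin n)))
    (hbase : ∀ L' ∈ L :: C, L.inO L'.b = true)
    (k : ℕ) (hk : Nat.Coprime k (pgOrdW n C))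
    (hpow : pgAll L.own.length (fun j => pgAll n
      (fun p => Nat.beq (pgEvalW L.own (pgPowW [j] k) p) p)) = true)
    (hnt : ∃ s ∈ L.own, ∃ p < n, s.f p ≠ p) : IsSimpleGroup (pgGrpW n (L :: C)) := by
  obtain ⟨_, -, -, htr, -⟩ := pgLvlW_main R h hA
  have hok : ∀ P ∈ L.own, P.ok n = true := pgChkW_own_ok n R.base _ h
  apply pg_simple2 (pgSet n L.own) (⟨L.b, hb⟩ : Fin n) hmax ?_ (pgOrdW n C)
    (pgStabW_card R h hA hb) ?_ ?_
  · intro g hg hfix
    apply pgFixBase R (L :: C) h hA g hg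
    intro L' hL' hb'
    obtain ⟨x, hx, hxb⟩ := htr ⟨L'.b, hb'⟩ (hbase L' hL')
    rw [← hxb]
    exact hfix x hx
  · rintro s ⟨P, hP, rfl⟩
    obtain ⟨j, hj, rfl⟩ := List.mem_iff_getElem.1 hP
    refine ⟨k, ?_, hk⟩
    have h1 := (pgAll_iff _ _).1 hpow j hj
    have h2 := pgPow_eq_one hok h1
    have h3 : pgWordPerm n L.own [j] = (L.own[j]).perm n := by
      unfold pgWordPerm pgLetter
      have : Nat.blt j L.own.length = true := by simpa using hj
      simp only [List.map_cons, List.map_nil, List.prod_cons, List.prod_nil, mul_one, this,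
        cond_true]
      rw [List.getD_eq_getElem _ _ hj]
    rw [← h3]
    exact h2
  · obtain ⟨s, hs, p, hp, hsp⟩ := hnt
    refine ⟨s.perm n, ⟨s, hs, rfl⟩, ?_⟩
    intro h1
    apply hsp
    have := PFun.perm_apply (hok s hs) ⟨p, hp⟩
    rw [h1] at this
    exact this.symm

end Cfsg.Agent.Lib.helper23
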