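import Mathlib
import Cfsg.Agent.Lib.helper23.PgI

set_option autoImplicit false

/-!
# Restriction of a permutation group to an invariant part; suborbits of a point stabiliser;
orbits on cosets transported along an isomorphism
-/

namespace Cfsg.Agent.Lib.helper23

open Subgroup MulAction

section res

variable {α β : Type*}

/-- the restricted function -/
noncomputable def pgResFun (ι : β → α) (G : Subgroup (Equiv.Perm α))
    (hinv : ∀ g ∈ G, ∀ b, ∃ b', g (ι b) = ι b') (g : G) (b : β) : β :=
  Classical.choose (hinv g.1 g.2 b)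

theorem pgResFun_spec (ι : β → α) (G : Subgroup (Equiv.Perm α))
    (hinv : ∀ g ∈ G, ∀ b, ∃ b', g (ι b) = ι b') (g : G) (b : β) :
    ι (pgResFun ι G hinv g b) = g.1 (ι b) :=
  (Classical.choose_spec (hinv g.1 g.2 b)).symm

/-- restriction of a permutation group to an invariant part, given by an injection -/
noncomputable def pgResHom (ι : β → α) (hι : Function.Injective ι) (G : Subgroup (Equiv.Perm α))
    (hinv : ∀ g ∈ G, ∀ b, ∃ b', g (ι b) = ι b') : G →* Equiv.Perm β where
  toFun g := ⟨pgResFun ι G hinv g, pgResFun ι G hinv g⁻¹, by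
      intro b
      apply hι
      rw [pgResFun_spec ι G hinv, pgResFun_spec ι G hinv]
      simp, by
      intro b
      apply hι
      rw [pgResFun_spec ι G hinv, pgResFun_spec ι G hinv]
      simp⟩
  map_one' := by
    ext b
    apply hι
    change ι (pgResFun ι G hinv 1 b) = _
    rw [pgResFun_spec ι G hinv]
    simp
  map_mul' g h := by
    ext b
    apply hι
    change ι (pgResFun ι G hinv (g * h) b) = ι (pgResFun ι G hinv g (pgResFun ι G hinv h b))
    rw [pgResFun_spec ι G hinv, pgResFun_spec ι G hinv, pgResFun_spec ι G hinv]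
    simp

theorem pgResHom_spec (ι : β → α) (hι : Function.Injective ι) (G : Subgroup (Equiv.Perm α))
    (hinv : ∀ g ∈ G, ∀ b, ∃ b', g (ι b) = ι b') (g : G) (b : β) :
    ι (pgResHom ι hι G hinv g b) = g.1 (ι b) :=
  pgResFun_spec ι G hinv g b

theorem pgResHom_injective (ι : β → α) (hι : Function.Injective ι) (G : Subgroup (Equiv.Perm α))
    (hinv : ∀ g ∈ G, ∀ b, ∃ b', g (ι b) = ι b')
    (hfix : ∀ g ∈ G, (∀ b, g (ι b) = ι b) → g = 1) :
    Function.Injective (pgResHom ι hι G hinv) := by
  rw [injective_iff_map_eq_one]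
  intro g hg
  apply Subtype.ext
  apply hfix g.1 g.2
  intro b
  rw [← pgResHom_spec ι hι G hinv g b, hg]
  rfl

/-- invariance of the part follows from invariance under the generators and their inverses -/
theorem pgInv_of_closure (ι : β → α) (S : Set (Equiv.Perm α))
    (h1 : ∀ s ∈ S, ∀ b, ∃ b', s (ι b) = ι b')
    (h2 : ∀ s ∈ S, ∀ b, ∃ b', s⁻¹ (ι b) = ι b') :
    ∀ g ∈ closure S, ∀ b, ∃ b', g (ι b) = ι b' := by
  have key : ∀ g ∈ closure S, (∀ b, ∃ b', g (ι b) = ι b') ∧ (∀ b, ∃ b', g⁻¹ (ι b) = ι b') := by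
    intro g hg
    induction hg using closure_induction with
    | mem s hs => exact ⟨h1 s hs, h2 s hs⟩
    | one => exact ⟨fun b => ⟨b, rfl⟩, fun b => ⟨b, by simp⟩⟩
    | mul x y _ _ hx hy =>
      refine ⟨fun b => ?_, fun b => ?_⟩
      · obtain ⟨b1, e1⟩ := hy.1 b
        obtain ⟨b2, e2⟩ := hx.1 b1
        exact ⟨b2, by rw [Equiv.Perm.mul_apply, e1, e2]⟩
      · obtain ⟨b1, e1⟩ := hx.2 b
        obtain ⟨b2, e2⟩ := hy.2 b1
        exact ⟨b2, by rw [mul_inv_rev, Equiv.Perm.mul_apply, e1, e2]⟩
    | inv x _ ih =>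
      refine ⟨ih.2, ?_⟩
      rw [inv_inv]
      exact ih.1
  exact fun g hg => (key g hg).1

/-- the range of the restriction of a closure -/
theorem pgResHom_range (ι : β → α) (hι : Function.Injective ι) (S : Set (Equiv.Perm α))
    (hinv : ∀ g ∈ closure S, ∀ b, ∃ b', g (ι b) = ι b') (S' : Set (Equiv.Perm β))
    (h1 : ∀ s (hs : s ∈ S), pgResHom ι hι (closure S) hinv ⟨s, subset_closure hs⟩ ∈ S')
    (h2 : ∀ s' ∈ S', ∃ s, ∃ hs : s ∈ S, pgResHom ι hι (closure S) hinv ⟨s, subset_closure hs⟩ = s') :
    (pgResHom ι hι (closure S) hinv).range = closure S' := by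
  apply le_antisymm
  · rintro _ ⟨⟨g, hg⟩, rfl⟩
    induction hg using closure_induction with
    | mem s hs => exact subset_closure (h1 s hs)
    | one =>
      have : (⟨1, Subgroup.one_mem _⟩ : closure S) = 1 := rfl
      rw [this, map_one]
      exact Subgroup.one_mem _
    | mul x y hx hy ihx ihy =>
      have : (⟨x * y, mul_mem hx hy⟩ : closure S) = ⟨x, hx⟩ * ⟨y, hy⟩ := rfl
      rw [this, map_mul]
      exact mul_mem ihx ihy
    | inv x hx ih =>
      have : (⟨x⁻¹, inv_mem hx⟩ : closure S) = (⟨x, hx⟩ : closure S)⁻¹ := rfl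
      rw [this, map_inv]
      exact inv_mem ih
  · rw [closure_le]
    intro s' hs'
    obtain ⟨s, hs, rfl⟩ := h2 s' hs'
    exact ⟨_, rfl⟩

/-- a surjection between finite groups of the same order is an isomorphism -/
noncomputable def pgEquivOfRange {G K : Type*} [Group G] [Group K] [Finite G] (f : G →* K)
    (T : Subgroup K) (hT : f.range = T) (hc : Nat.card G = Nat.card T) : G ≃* T :=
  have hinj : Function.Injective f := by
    have hs : Function.Surjective f.rangeRestrict := f.rangeRestrict_surjective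
    have hcard : Nat.card G = Nat.card f.range := by rw [hc, hT]
    have hb : Function.Bijective f.rangeRestrict :=
      (Nat.bijective_iff_surjective_and_card f.rangeRestrict).2 ⟨hs, hcard⟩
    intro a b hab
    apply hb.1
    apply Subtype.ext
    exact hab
  (MonoidHom.ofInjective hinj).trans (MulEquiv.subgroupCongr hT)

theorem pgEquivOfRange_apply {G K : Type*} [Group G] [Group K] [Finite G] (f : G →* K)
    (T : Subgroup K) (hT : f.range = T) (hc : Nat.card G = Nat.card T) (g : G) :
    ((pgEquivOfRange f T hT hc g : T) : K) = f g := rfl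

end res

section suborbit

variable {G X : Type*} [Group G] [MulAction G X]

/-- an orbit of the point stabiliser, away from the point, stays in the orbit of the group and
away from the point -/
theorem pgSuborbit_sub (x y : X) (hy : y ∈ orbit G x) (hyx : y ≠ x) :
    ∀ z ∈ orbit (stabilizer G x) y, z ∈ orbit G x ∧ z ≠ x := by
  rintro z ⟨h, rfl⟩
  obtain ⟨g, rfl⟩ := hy
  change (h : G) • (g • x) ∈ orbit G x ∧ (h : G) • (g • x) ≠ x
  change g • x ≠ x at hyx
  refine ⟨⟨h.1 * g, by change (h.1 * g) • x = _; rw [mul_smul]⟩, ?_⟩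
  intro hz
  apply hyx
  have h1 : (h.1)⁻¹ • ((h : G) • (g • x)) = (h.1)⁻¹ • x := congrArg _ hz
  rw [inv_smul_smul] at h1
  rw [h1]
  have := h.2
  rw [mem_stabilizer_iff] at this
  rw [inv_smul_eq_iff, this]

/-- two suborbits from two connected classes exhausting the orbit, when the point stabiliser
cannot be transitive on the rest -/
theorem pgSuborbit_two [Finite G] [DecidableEq X] (x y1 y2 : X) (A1 A2 : Finset X)
    (h1 : ∀ z ∈ A1, z ∈ orbit (stabilizer G x) y1)
    (h2 : ∀ z ∈ A2, z ∈ orbit (stabilizer G x) y2)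
    (hB : ∀ z ∈ orbit G x, z = x ∨ z ∈ A1 ∨ z ∈ A2)
    (hy1 : y1 ∈ orbit G x) (hy2 : y2 ∈ orbit G x) (hy1x : y1 ≠ x) (hy2x : y2 ≠ x)
    (hd : Disjoint A1 A2)
    (hnd : ¬ (A1.card + A2.card) ∣ Nat.card (stabilizer G x)) :
    (orbit (stabilizer G x) y1).ncard = A1.card ∧ (orbit (stabilizer G x) y2).ncard = A2.card := by
  have s1 : ∀ z ∈ orbit (stabilizer G x) y1, z ∈ A1 ∨ z ∈ A2 := by
    intro z hz
    obtain ⟨hzB, hzx⟩ := pgSuborbit_sub x y1 hy1 hy1x z hz
    rcases hB z hzB with h | h
    · exact absurd h hzx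
    · exact h
  have s2 : ∀ z ∈ orbit (stabilizer G x) y2, z ∈ A1 ∨ z ∈ A2 := by
    intro z hz
    obtain ⟨hzB, hzx⟩ := pgSuborbit_sub x y2 hy2 hy2x z hz
    rcases hB z hzB with h | h
    · exact absurd h hzx
    · exact h
  have hdvd : ∀ y : X, (orbit (stabilizer G x) y).ncard ∣ Nat.card (stabilizer G x) := by
    intro y
    have := MulAction.index_stabilizer (stabilizer G x) y
    rw [← this]
    exact Subgroup.index_dvd_card _
  by_cases hcase : y2 ∈ orbit (stabilizer G x) y1
  · exfalso
    have heq : orbit (stabilizer G x) y2 = orbit (stabilizer G x) y1 := orbit_eq_iff.2 hcase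
    have : orbit (stabilizer G x) y1 = ↑(A1 ∪ A2) := by
      ext z
      simp only [Finset.coe_union, Set.mem_union, Finset.mem_coe]
      constructor
      · exact s1 z
      · rintro (h | h)
        · exact h1 z h
        · rw [← heq]; exact h2 z h
    apply hnd
    rw [← Finset.card_union_of_disjoint hd, ← Set.ncard_coe_finset, ← this]
    exact hdvd y1
  · have hdisj : ∀ z, z ∈ orbit (stabilizer G x) y1 → z ∈ orbit (stabilizer G x) y2 → False := by
      intro z hz1 hz2
      apply hcase
      have e1 : orbit (stabilizer G x) z = orbit (stabilizer G x) y1 := orbit_eq_iff.2 hz1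
      have e2 : orbit (stabilizer G x) z = orbit (stabilizer G x) y2 := orbit_eq_iff.2 hz2
      rw [← e1, e2]
      exact mem_orbit_self y2
    have o1 : orbit (stabilizer G x) y1 = ↑A1 := by
      ext z
      simp only [Finset.mem_coe]
      constructor
      · intro hz
        rcases s1 z hz with h | h
        · exact h
        · exact (hdisj z hz (h2 z h)).elim
      · exact h1 z
    have o2 : orbit (stabilizer G x) y2 = ↑A2 := by
      ext z
      simp only [Finset.mem_coe]
      constructor
      · intro hz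
        rcases s2 z hz with h | h
        · exact (hdisj z (h1 z h) hz).elim
        · exact h
      · exact h2 z
    rw [o1, o2, Set.ncard_coe_finset, Set.ncard_coe_finset]
    exact ⟨rfl, rfl⟩

end suborbit

section transport

variable {J D X : Type*} [Group J] [Group D] [MulAction D X]

/-- the index of the preimage of a point stabiliser -/
theorem pgIndex_comap (e : J ≃* D) (x : X) :
    ((stabilizer D x).comap e.toMonoidHom).index = (orbit D x).ncard := by
  rw [Subgroup.index_comap_of_surjective _ e.surjective]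
  exact MulAction.index_stabilizer D x

/-- the orbits of the preimage of a point stabiliser on its cosets -/
theorem pgOrbit_quot (e : J ≃* D) (x : X) (g' : D) :
    (orbit ((stabilizer D x).comap e.toMonoidHom)
      ((QuotientGroup.mk (e.symm g') : J ⧸ (stabilizer D x).comap e.toMonoidHom))).ncard =
    (orbit (stabilizer D x) (g' • x)).ncard := by
  set H := (stabilizer D x).comap e.toMonoidHom with hH
  let ψ : J ⧸ H → X := Quotient.lift (fun j : J => e j • x) (by
    intro a b hab
    have hab' : a⁻¹ * b ∈ H := QuotientGroup.leftRel_apply.1 hab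
    rw [hH, Subgroup.mem_comap, mem_stabilizer_iff] at hab'
    change e a • x = e b • x
    have : e (a⁻¹ * b) • x = x := hab'
    rw [map_mul, map_inv, mul_smul, inv_smul_eq_iff] at this
    exact this.symm)
  have hψ : ∀ j : J, ψ (QuotientGroup.mk j) = e j • x := fun j => rfl
  have hinj : Function.Injective ψ := by
    intro c1 c2
    refine Quotient.inductionOn₂' c1 c2 ?_
    intro a b hab
    change e a • x = e b • x at hab
    apply Quotient.sound'
    apply QuotientGroup.leftRel_apply.2
    rw [hH, Subgroup.mem_comap, mem_stabilizer_iff]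
    change e (a⁻¹ * b) • x = x
    rw [map_mul, map_inv, mul_smul, inv_smul_eq_iff]
    exact hab.symm
  have himg : ψ '' orbit H (QuotientGroup.mk (e.symm g') : J ⧸ H) =
      orbit (stabilizer D x) (g' • x) := by
    ext z
    constructor
    · rintro ⟨_, ⟨h, rfl⟩, rfl⟩
      have hh : e h.1 ∈ stabilizer D x := h.2
      refine ⟨⟨e h.1, hh⟩, ?_⟩
      change e h.1 • (g' • x) = ψ (QuotientGroup.mk (h.1 * e.symm g'))
      rw [hψ, map_mul, mul_smul, MulEquiv.apply_symm_apply]
    · rintro ⟨k, rfl⟩
      have hk : e.symm k.1 ∈ H := by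
        rw [hH, Subgroup.mem_comap]
        change e (e.symm k.1) ∈ _
        rw [MulEquiv.apply_symm_apply]
        exact k.2
      refine ⟨_, ⟨⟨e.symm k.1, hk⟩, rfl⟩, ?_⟩
      change ψ (QuotientGroup.mk (e.symm k.1 * e.symm g')) = k.1 • (g' • x)
      rw [hψ, map_mul, mul_smul, MulEquiv.apply_symm_apply, MulEquiv.apply_symm_apply]
  rw [← himg, Set.ncard_image_of_injective _ hinj]

end transport

section top

/-- the trivial rigid ambient group: all permutations, every point in the base -/
def pgRigidAll (n : ℕ) : PgRigid n where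
  A := ⊤
  base := List.range n
  rigid := by
    intro g _ h
    apply Equiv.ext
    intro i
    exact h i.1 (List.mem_range.2 i.2) i.2

theorem pgChkLvlW_ofAllX {n : ℕ} {base : List ℕ} {L : PgLvlW} {Ls : List PgLvlW}
    (h0 : pgChkLvlW0 n L Ls = true)
    (h1 : ∀ s ∈ L.own, pgChkGenW n base L Ls s 0 n = true) :
    pgChkLvlW n base L Ls = true := by
  unfold pgChkLvlW
  rw [h0, Bool.true_and, pgAllL_iff]
  exact h1

/-- the classes of a checked class structure are connected under the point stabiliser -/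
theorem pgCls_orbit {n : ℕ} (R : PgRigid n) {L L2 : PgLvlW} {D : List PgLvlW}
    (h : pgChkW n R.base (L :: L2 :: D) = true) (hA : pgGrpW n (L :: L2 :: D) ≤ R.A)
    (hb : L.b < n) (K : PgCls) (hK : pgChkCls n L.b L.inO L2.own K = true)
    (y : Fin n) (hy : L.inO y.1 = true) :
    K.cls y.1 < K.k ∧ (K.cls y.1 = K.cls L.b → y.1 = L.b) ∧
    ∃ hr : K.rep (K.cls y.1) < n,
      y ∈ orbit (stabilizer (pgGrpW n (L :: L2 :: D)) (⟨L.b, hb⟩ : Fin n))
        (⟨K.rep (K.cls y.1), hr⟩ : Fin n) := by
  obtain ⟨_, h1, -, htr, hmono⟩ := pgLvlW_main R h hA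
  have hok2 : ∀ P ∈ L2.own, P.ok n = true := pgChkW_own_ok n R.base _ (pgChkW_tail h)
  have h' := h
  rw [pgChkW_cons, Bool.and_eq_true] at h'
  have h0 := h'.1
  unfold pgChkLvlW at h0
  rw [Bool.and_eq_true] at h0
  obtain ⟨-, hfix, -, hOb, -⟩ := pgChkLvlW0_spec h0.1
  have hfix' := pgGrpW_fix (b := ⟨L.b, hb⟩) hfix (pgChkW_own_ok n R.base _ h'.2)
  unfold pgChkCls at hK
  rw [Bool.and_eq_true] at hK
  obtain ⟨hK1, -⟩ := hK
  have := (pgAll_iff _ _).1 hK1 y.1 y.2
  rw [hy] at this
  simp only [cond_true, Bool.and_eq_true, Nat.blt_eq, Nat.beq_eq] at this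
  refine ⟨this.1.1.1, ?_, this.1.1.2, ?_⟩
  · intro hc
    have h3 := this.2
    have e : Nat.beq (K.cls y.1) (K.cls L.b) = true := by rw [Nat.beq_eq]; exact hc
    rw [e] at h3
    simpa using h3
  · have hm : pgWordPerm n L2.own (K.cpath y.1) ∈ pgGrpW n (L2 :: D) := pgWordPerm_mem hok2 _
    refine ⟨⟨⟨_, hmono hm⟩, ?_⟩, ?_⟩
    · rw [mem_stabilizer_iff]
      exact hfix' _ hm
    · change (pgWordPerm n L2.own (K.cpath y.1)) ⟨K.rep (K.cls y.1), this.1.1.2⟩ = y
      apply Fin.ext
      rw [pgWordPerm_apply hok2]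
      exact this.1.2

end top

end Cfsg.Agent.Lib.helper23
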