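import Cfsg.Agent.Lib.helper23.HsqChk
import Cfsg.Agent.Lib.helper23.PgY

set_option autoImplicit false
set_option maxRecDepth 1000000
set_option Elab.async false

/-!
# The Higman–Sims group on 100 points: order, transitivity, the suborbits of lengths 22 and 77
-/

namespace Cfsg.Agent.Lib.helper23

open Subgroup MulAction

/-- an invariant set containing a point on which the point stabiliser is connected is its orbit -/
theorem pgSuborbit_inv {G X : Type*} [Group G] [MulAction G X] [DecidableEq X] (x y : X)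
    (A : Finset X) (hinv : ∀ g ∈ stabilizer G x, ∀ z ∈ A, g • z ∈ A) (hy : y ∈ A)
    (hA : ∀ z ∈ A, z ∈ orbit (stabilizer G x) y) :
    (orbit (stabilizer G x) y).ncard = A.card := by
  have : orbit (stabilizer G x) y = ↑A := by
    ext z
    simp only [Finset.mem_coe]
    constructor
    · rintro ⟨h, rfl⟩
      exact hinv h.1 h.2 y hy
    · exact hA z
  rw [this, Set.ncard_coe_finset]

/-- the chain of the point stabiliser -/
def hsqC2 : List PgLvlW := [hsqL2, hsqL3, hsqL4, hsqL5, hsqL6]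

theorem hsqA : pgGrpW 100 hsqC ≤ (pgRigidAll 100).A := le_top

theorem hsqok : ∀ P ∈ hsqL1.own, P.ok 100 = true :=
  pgChkW_own_ok 100 (pgRigidAll 100).base hsqC hsqchkC

theorem hsqord : pgOrdW 100 hsqC = 44352000 := by decide +kernel

theorem hsqord2 : pgOrdW 100 hsqC2 = 443520 := by decide +kernel

/-- the Higman–Sims group on 100 points -/
abbrev HS100 : Subgroup (Equiv.Perm (Fin 100)) := closure (pgSet 100 hsqL1.own)

theorem HS100_eq : HS100 = pgGrpW 100 hsqC := rfl

theorem HS100_card : Nat.card HS100 = 44352000 := by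
  rw [HS100_eq, pgCardW (pgRigidAll 100) hsqC hsqchkC hsqA, hsqord]

instance : Finite HS100 := Nat.finite_of_card_ne_zero (by rw [HS100_card]; norm_num)

theorem hsqb1 : hsqL1.b < 100 := by decide

/-- the base point -/
def hsqx : Fin 100 := ⟨hsqL1.b, hsqb1⟩

theorem HS100_stab_card : Nat.card (stabilizer HS100 hsqx) = 443520 := by
  have := pgStabW_card (pgRigidAll 100) hsqchkC hsqA hsqb1
  rw [← hsqord2]
  exact this

/-! ### the graph -/

theorem hsqgraph : pgAllL hsqL1.own (fun P => pgChkGraphFun 100 hsqnb P.f &&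
    pgChkGraphFun 100 hsqnb P.g) = true := by decide +kernel

theorem HS100_le_graph : HS100 ≤ pgGraphGrp 100 hsqnb := by
  rw [closure_le]
  rintro _ ⟨P, hP, rfl⟩
  have := (pgAllL_iff _ _).1 hsqgraph P hP
  rw [Bool.and_eq_true] at this
  exact pgGraph_mem (hsqok P hP) this.1 this.2

/-! ### transitivity -/

theorem hsqall1 : pgAll 100 (fun z => hsqL1.inO z) = true := by decide +kernel

theorem HS100_trans (z : Fin 100) : ∃ g ∈ HS100, g hsqx = z := by
  obtain ⟨hb, -, -, h4, -⟩ := pgLvlW_main (pgRigidAll 100) hsqchkC hsqA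
  exact h4 z ((pgAll_iff _ _).1 hsqall1 z.1 z.2)

instance HS100_pretrans : IsPretransitive HS100 (Fin 100) := by
  rw [isPretransitive_iff_base hsqx]
  intro z
  obtain ⟨g, hg, hgz⟩ := HS100_trans z
  exact ⟨⟨g, hg⟩, hgz⟩

/-! ### the suborbits -/

theorem hsqcls : pgChkCls 100 hsqL1.b hsqL1.inO hsqL2.own hsqK = true := by decide +kernel

theorem hsqrep1 : hsqK.rep 1 < 100 := by decide
theorem hsqrep2 : hsqK.rep 2 < 100 := by decide

/-- a point of the suborbit of length 22 -/
def hsqy1 : Fin 100 := ⟨hsqK.rep 1, hsqrep1⟩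

/-- a point of the suborbit of length 77 -/
def hsqy2 : Fin 100 := ⟨hsqK.rep 2, hsqrep2⟩

theorem hsqcnt1 : pgCount 100 (fun y => hsqL1.inO y && Nat.beq (hsqK.cls y) 1) = 22 := by
  decide +kernel

theorem hsqcnt2 : pgCount 100 (fun y => hsqL1.inO y && Nat.beq (hsqK.cls y) 2) = 77 := by
  decide +kernel

theorem hsqiff1 : ∀ z : Fin 100, (hsqL1.inO z.1 && Nat.beq (hsqK.cls z.1) 1) = true ↔
    z.1 ∈ hsqnb hsqx.1 := by decide +kernel

theorem hsqiff2 : ∀ z : Fin 100, (hsqL1.inO z.1 && Nat.beq (hsqK.cls z.1) 2) = true ↔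
    (z ≠ hsqx ∧ z.1 ∉ hsqnb hsqx.1) := by decide +kernel

theorem HS100_suborbits : (orbit (stabilizer HS100 hsqx) hsqy1).ncard = 22 ∧
    (orbit (stabilizer HS100 hsqx) hsqy2).ncard = 77 := by
  have hcls := pgCls_orbit (pgRigidAll 100) hsqchkC hsqA hsqb1 hsqK hsqcls
  set A1 : Finset (Fin 100) := Finset.univ.filter
    (fun y : Fin 100 => (hsqL1.inO y.1 && Nat.beq (hsqK.cls y.1) 1) = true) with hA1
  set A2 : Finset (Fin 100) := Finset.univ.filter
    (fun y : Fin 100 => (hsqL1.inO y.1 && Nat.beq (hsqK.cls y.1) 2) = true) with hA2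
  have c1 : A1.card = 22 := by
    rw [hA1, pgCount_fin 100 (fun y => hsqL1.inO y && Nat.beq (hsqK.cls y) 1), hsqcnt1]
  have c2 : A2.card = 77 := by
    rw [hA2, pgCount_fin 100 (fun y => hsqL1.inO y && Nat.beq (hsqK.cls y) 2), hsqcnt2]
  have hgr : ∀ g ∈ stabilizer HS100 hsqx, ∀ z : Fin 100,
      ((g : HS100) • z : Fin 100).1 ∈ hsqnb hsqx.1 ↔ z.1 ∈ hsqnb hsqx.1 := by
    intro g hg z
    have h1 := HS100_le_graph g.2 hsqx z
    have h2 : (g : Equiv.Perm (Fin 100)) hsqx = hsqx := mem_stabilizer_iff.1 hg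
    rw [h2] at h1
    exact h1
  constructor
  · rw [← c1]
    apply pgSuborbit_inv
    · intro g hg z hz
      rw [hA1, Finset.mem_filter] at hz ⊢
      refine ⟨Finset.mem_univ _, ?_⟩
      rw [hsqiff1] at hz ⊢
      exact (hgr g hg z).2 hz.2
    · rw [hA1, Finset.mem_filter]
      exact ⟨Finset.mem_univ _, by decide +kernel⟩
    · intro z hz
      rw [hA1, Finset.mem_filter, Bool.and_eq_true, Nat.beq_eq] at hz
      obtain ⟨-, -, hr, ho⟩ := hcls z hz.2.1
      have e : (⟨hsqK.rep (hsqK.cls z.1), hr⟩ : Fin 100) = hsqy1 := by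
        apply Fin.ext
        change hsqK.rep (hsqK.cls z.1) = hsqK.rep 1
        rw [hz.2.2]
      rw [e] at ho
      exact ho
  · rw [← c2]
    apply pgSuborbit_inv
    · intro g hg z hz
      rw [hA2, Finset.mem_filter] at hz ⊢
      refine ⟨Finset.mem_univ _, ?_⟩
      rw [hsqiff2] at hz ⊢
      refine ⟨?_, fun h => hz.2.2 ((hgr g hg z).1 h)⟩
      intro h
      apply hz.2.1
      have h2 : (g : Equiv.Perm (Fin 100)) hsqx = hsqx := mem_stabilizer_iff.1 hg
      have h3 : (g : Equiv.Perm (Fin 100)) z = hsqx := h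
      rw [← h2] at h3
      exact (g : Equiv.Perm (Fin 100)).injective h3
    · rw [hA2, Finset.mem_filter]
      exact ⟨Finset.mem_univ _, by decide +kernel⟩
    · intro z hz
      rw [hA2, Finset.mem_filter, Bool.and_eq_true, Nat.beq_eq] at hz
      obtain ⟨-, -, hr, ho⟩ := hcls z hz.2.1
      have e : (⟨hsqK.rep (hsqK.cls z.1), hr⟩ : Fin 100) = hsqy2 := by
        apply Fin.ext
        change hsqK.rep (hsqK.cls z.1) = hsqK.rep 2
        rw [hz.2.2]
      rw [e] at ho
      exact ho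

end Cfsg.Agent.Lib.helper23
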