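import Cfsg.Agent.Lib.helper23.HsqMain
import Cfsg.Agent.Lib.helper3.HSRecog

set_option autoImplicit false

/-!
# The Higman–Sims group on 100 points is the Higman–Sims group of the definitions
-/

namespace Cfsg.Agent.Lib.helper23

open Subgroup MulAction

theorem HS100_r3 : Cfsg.Agent.Lib.helper3.R3Hyp HS100 hsqx hsqy1 hsqy2 22 77 where
  trans := HS100_pretrans
  hk := HS100_suborbits.1
  hl := HS100_suborbits.2
  hkl := by norm_num
  hk1 := by norm_num
  hl1 := by norm_num
  hn := by simp

/-- the group on 100 points is the Higman–Sims group of the definitions -/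
theorem HS100_equiv : Nonempty (HS100 ≃* Cfsg.Spor.HS) :=
  Cfsg.Agent.Lib.helper3.hs_recog HS100_r3 HS100_card

end Cfsg.Agent.Lib.helper23
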