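import Cfsg.Agent.Lib.helper23.U4pData
import Cfsg.Agent.Lib.helper23.PgX

set_option autoImplicit false
set_option maxRecDepth 1000000
set_option Elab.async false

/-!
# The unitary group of degree 4 over 9 elements on 280 isotropic points: the checks of the stabiliser chain
-/

namespace Cfsg.Agent.Lib.helper23

open Subgroup MulAction

theorem u4pchk0x4 : pgChkLvlW0 280 u4pL4 [] = true := by decide +kernel
theorem u4pchk0x3 : pgChkLvlW0 280 u4pL3 [u4pL4] = true := by decide +kernel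
theorem u4pchk0x2 : pgChkLvlW0 280 u4pL2 [u4pL3, u4pL4] = true := by decide +kernel
theorem u4pchk0x1 : pgChkLvlW0 280 u4pL1 [u4pL2, u4pL3, u4pL4] = true := by decide +kernel

theorem u4pcl4x0 : pgChkGenW 280 (List.range 280) u4pL4 []
    (u4pgen u4pT4x0 u4pI4x0) 0 280 = true := by
  decide +kernel
theorem u4pcl4x1 : pgChkGenW 280 (List.range 280) u4pL4 []
    (u4pgen u4pT4x1 u4pI4x1) 0 280 = true := by
  decide +kernel
theorem u4pcl3x0 : pgChkGenW 280 (List.range 280) u4pL3 [u4pL4]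
    (u4pgen u4pT3x0 u4pI3x0) 0 280 = true := by
  decide +kernel
theorem u4pcl3x1 : pgChkGenW 280 (List.range 280) u4pL3 [u4pL4]
    (u4pgen u4pT3x1 u4pI3x1) 0 280 = true := by
  decide +kernel
theorem u4pcl2x0 : pgChkGenW 280 (List.range 280) u4pL2 [u4pL3, u4pL4]
    (u4pgen u4pT2x0 u4pI2x0) 0 280 = true := by
  decide +kernel
theorem u4pcl2x1 : pgChkGenW 280 (List.range 280) u4pL2 [u4pL3, u4pL4]
    (u4pgen u4pT2x1 u4pI2x1) 0 280 = true := by
  decide +kernel
theorem u4pcl1x0 : pgChkGenW 280 (List.range 280) u4pL1 [u4pL2, u4pL3, u4pL4]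
    (u4pgen u4pT1x0 u4pI1x0) 0 280 = true := by
  decide +kernel
theorem u4pcl1x1 : pgChkGenW 280 (List.range 280) u4pL1 [u4pL2, u4pL3, u4pL4]
    (u4pgen u4pT1x1 u4pI1x1) 0 280 = true := by
  decide +kernel

theorem u4pchkL4 : pgChkLvlW 280 (List.range 280) u4pL4 [] = true := by
  apply pgChkLvlW_ofAllX u4pchk0x4
  intro s hs
  change s ∈ [u4pgen u4pT4x0 u4pI4x0, u4pgen u4pT4x1 u4pI4x1] at hs
  simp only [List.mem_cons, List.not_mem_nil, or_false] at hs
  rcases hs with rfl | rfl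
  · exact u4pcl4x0
  · exact u4pcl4x1

theorem u4pchkL3 : pgChkLvlW 280 (List.range 280) u4pL3 [u4pL4] = true := by
  apply pgChkLvlW_ofAllX u4pchk0x3
  intro s hs
  change s ∈ [u4pgen u4pT3x0 u4pI3x0, u4pgen u4pT3x1 u4pI3x1] at hs
  simp only [List.mem_cons, List.not_mem_nil, or_false] at hs
  rcases hs with rfl | rfl
  · exact u4pcl3x0
  · exact u4pcl3x1

theorem u4pchkL2 : pgChkLvlW 280 (List.range 280) u4pL2 [u4pL3, u4pL4] = true := by
  apply pgChkLvlW_ofAllX u4pchk0x2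
  intro s hs
  change s ∈ [u4pgen u4pT2x0 u4pI2x0, u4pgen u4pT2x1 u4pI2x1] at hs
  simp only [List.mem_cons, List.not_mem_nil, or_false] at hs
  rcases hs with rfl | rfl
  · exact u4pcl2x0
  · exact u4pcl2x1

theorem u4pchkL1 : pgChkLvlW 280 (List.range 280) u4pL1 [u4pL2, u4pL3, u4pL4] = true := by
  apply pgChkLvlW_ofAllX u4pchk0x1
  intro s hs
  change s ∈ [u4pgen u4pT1x0 u4pI1x0, u4pgen u4pT1x1 u4pI1x1] at hs
  simp only [List.mem_cons, List.not_mem_nil, or_false] at hs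
  rcases hs with rfl | rfl
  · exact u4pcl1x0
  · exact u4pcl1x1

/-- the stabiliser chain -/
def u4pC : List PgLvlW := [u4pL1, u4pL2, u4pL3, u4pL4]

theorem u4pchkC : pgChkW 280 (pgRigidAll 280).base u4pC = true := by
  change pgChkW 280 (List.range 280) [u4pL1, u4pL2, u4pL3, u4pL4] = true
  rw [pgChkW_cons, pgChkW_cons, pgChkW_cons, pgChkW_cons, u4pchkL1, u4pchkL2, u4pchkL3, u4pchkL4]
  rfl

end Cfsg.Agent.Lib.helper23
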