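import Mathlib

set_option autoImplicit false

/-!
# Simplicity from a maximal point stabiliser and generators of coprime order
-/

namespace Cfsg.Agent.Lib.helper23

open Subgroup MulAction

theorem pg_simple2 {n : ℕ} (S : Set (Equiv.Perm (Fin n))) (b : Fin n)
    (hmax : IsCoatom (stabilizer (closure S) b))
    (hcore : ∀ g ∈ closure S, (∀ h ∈ closure S, g (h b) = h b) → g = 1)
    (m : ℕ) (hm : Nat.card (stabilizer (closure S) b) = m)
    (hS : ∀ s ∈ S, ∃ k, s ^ k = 1 ∧ Nat.Coprime k m)
    (hnt : ∃ s ∈ S, s ≠ 1) : IsSimpleGroup (closure S) := by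
  have : Nontrivial (closure S) := by
    obtain ⟨s, hs, hs1⟩ := hnt
    refine ⟨⟨⟨s, subset_closure hs⟩, 1, ?_⟩⟩
    intro h
    exact hs1 (congrArg Subtype.val h)
  refine ⟨fun N hN => ?_⟩
  by_cases hle : N ≤ stabilizer (closure S) b
  · left
    rw [Subgroup.eq_bot_iff_forall]
    intro x hx
    apply Subtype.ext
    apply hcore x.1 x.2
    intro h hh
    have h1 : (⟨h, hh⟩ : closure S)⁻¹ * x * ⟨h, hh⟩ ∈ N := by
      have := hN.conj_mem x hx (⟨h, hh⟩ : closure S)⁻¹
      simpa using this
    have h2 := hle h1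
    rw [mem_stabilizer_iff] at h2
    have h3 : (h⁻¹ * x.1 * h) b = b := h2
    rw [Equiv.Perm.mul_apply, Equiv.Perm.mul_apply, Equiv.Perm.inv_eq_iff_eq] at h3
    exact h3
  · right
    have hsup : stabilizer (closure S) b ⊔ N = ⊤ := by
      apply hmax.2
      apply lt_of_le_of_ne le_sup_left
      intro h
      apply hle
      rw [h]
      exact le_sup_right
    have hidx : N.index ∣ m := by
      have h1 : N.relIndex (stabilizer (closure S) b ⊔ N) = N.relIndex (stabilizer (closure S) b) :=
        Subgroup.relIndex_sup_right _ _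
      rw [hsup, Subgroup.relIndex_top_right] at h1
      rw [h1, ← hm]
      exact Subgroup.index_dvd_card _
    have hmem : ∀ s ∈ S, ∀ hs : s ∈ closure S, (⟨s, hs⟩ : closure S) ∈ N := by
      intro s hsS hs
      obtain ⟨k, hk, hcop⟩ := hS s hsS
      rw [← QuotientGroup.eq_one_iff]
      have h1 : ((⟨s, hs⟩ : closure S) : closure S ⧸ N) ^ k = 1 := by
        rw [← QuotientGroup.mk_pow]
        have : (⟨s, hs⟩ : closure S) ^ k = 1 := Subtype.ext (by simpa using hk)
        rw [this]
        rfl
      have h2 : orderOf ((⟨s, hs⟩ : closure S) : closure S ⧸ N) ∣ k := orderOf_dvd_of_pow_eq_one h1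
      have h3 : orderOf ((⟨s, hs⟩ : closure S) : closure S ⧸ N) ∣ m := by
        refine dvd_trans (orderOf_dvd_natCard _) ?_
        rw [← Subgroup.index_eq_card]
        exact hidx
      have h4 := Nat.dvd_gcd h2 h3
      rw [Nat.Coprime] at hcop
      rw [hcop, Nat.dvd_one] at h4
      exact orderOf_eq_one_iff.1 h4
    rw [eq_top_iff]
    rintro ⟨x, hx⟩ -
    have : closure S ≤ N.map (closure S).subtype := by
      apply (closure_le _).2
      intro s hs
      exact ⟨⟨s, subset_closure hs⟩, hmem s hs _, rfl⟩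
    obtain ⟨y, hy, hxy⟩ := this hx
    have : y = ⟨x, hx⟩ := Subtype.ext hxy
    rw [← this]
    exact hy

end Cfsg.Agent.Lib.helper23
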