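import Cfsg.Agent.Lib.helper23.PgF
import Cfsg.Agent.Lib.helper23.PgG

set_option autoImplicit false

/-!
# Packed words, splitting of the closure check into chunks, and consequences of a checked chain
-/

namespace Cfsg.Agent.Lib.helper23

open Subgroup

/-- `k` letters of `bits` bits each -/
def pgUnpackAux (bits : ℕ) (k : ℕ) : ℕ → List ℕ :=
  @Nat.rec (fun _ => ℕ → List ℕ) (fun _ => [])
    (fun _ ih y => Nat.land y (Nat.sub (Nat.pow 2 bits) 1) :: ih (Nat.shiftRight y bits)) k

/-- a packed word: the length in the low 8 bits, then the letters -/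
def pgUnpack (bits : ℕ) (x : ℕ) : List ℕ :=
  pgUnpackAux bits (Nat.land x 255) (Nat.shiftRight x 8)

theorem pgAll_add (a c : ℕ) (p : ℕ → Bool) :
    pgAll (a + c) p = (pgAll a p && pgAll c (fun k => p (a + k))) := by
  rw [Bool.eq_iff_iff, Bool.and_eq_true, pgAll_iff, pgAll_iff, pgAll_iff]
  constructor
  · intro h
    exact ⟨fun k hk => h k (by omega), fun k hk => h (a + k) (by omega)⟩
  · rintro ⟨h1, h2⟩ k hk
    by_cases hka : k < a
    · exact h1 k hka
    · have := h2 (k - a) (by omega)
      rwa [show a + (k - a) = k by omega] at this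

theorem pgChkGenW_append {n : ℕ} {base : List ℕ} {L : PgLvlW} {Ls : List PgLvlW} {s : PFun}
    {lo c1 c2 : ℕ} (h1 : pgChkGenW n base L Ls s lo c1 = true)
    (h2 : pgChkGenW n base L Ls s (lo + c1) c2 = true) :
    pgChkGenW n base L Ls s lo (c1 + c2) = true := by
  unfold pgChkGenW at h1 h2 ⊢
  rw [pgAll_add, Bool.and_eq_true]
  refine ⟨h1, ?_⟩
  rw [pgAll_iff] at h2 ⊢
  intro k hk
  have := h2 k hk
  simp only [Nat.add_eq] at this ⊢
  rwa [Nat.add_assoc] at this

end Cfsg.Agent.Lib.helper23
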