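import Mathlib

set_option autoImplicit false

/-!
# Matrix groups permuting a finite set of lines

A group `K` acting by matrices, a family `vec : Fin N → ι → F` of nonzero pairwise non-proportional
vectors: the elements of `K` permuting the lines of the family form a subgroup with a homomorphism
to the symmetric group; an element fixing the lines of a frame acts as a scalar.
-/

namespace Cfsg.Agent.Lib.helper23

open Matrix

section
variable {K : Type*} [Group K] {ι : Type} [Fintype ι] [DecidableEq ι] {F : Type*} [Field F]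
  {N : ℕ}

/-- nonzero, pairwise non-proportional vectors -/
structure PgLines (vec : Fin N → ι → F) : Prop where
  ne : ∀ p, vec p ≠ 0
  inj : ∀ p p' (c : F), vec p = c • vec p' → p = p'

/-- the matrix of `g` maps the line of `p` to the line of `p'` -/
def PgRel (ρ : K →* Matrix ι ι F) (vec : Fin N → ι → F) (g : K) (p p' : Fin N) : Prop :=
  ∃ c : F, ρ g *ᵥ vec p = c • vec p'

variable {ρ : K →* Matrix ι ι F} {vec : Fin N → ι → F}

theorem pgRho_inv_mul (g : K) : ρ g⁻¹ * ρ g = 1 := by
  rw [← map_mul, inv_mul_cancel, map_one]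

theorem pgRho_ne (hL : PgLines vec) (g : K) (p : Fin N) : ρ g *ᵥ vec p ≠ 0 := by
  intro h
  have : ρ g⁻¹ *ᵥ (ρ g *ᵥ vec p) = vec p := by
    rw [mulVec_mulVec, pgRho_inv_mul, one_mulVec]
  rw [h, mulVec_zero] at this
  exact hL.ne p this.symm

theorem PgRel.one (p : Fin N) : PgRel ρ vec 1 p p := ⟨1, by simp⟩

theorem PgRel.mul {a b : K} {p p1 p2 : Fin N} (hb : PgRel ρ vec b p p1)
    (ha : PgRel ρ vec a p1 p2) : PgRel ρ vec (a * b) p p2 := by
  obtain ⟨c1, h1⟩ := hb
  obtain ⟨c2, h2⟩ := ha
  refine ⟨c1 * c2, ?_⟩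
  rw [map_mul, ← mulVec_mulVec, h1, mulVec_smul, h2, smul_smul]

theorem PgRel.unique (hL : PgLines vec) {g : K} {p p1 p2 : Fin N} (h1 : PgRel ρ vec g p p1)
    (h2 : PgRel ρ vec g p p2) : p1 = p2 := by
  obtain ⟨c1, h1⟩ := h1
  obtain ⟨c2, h2⟩ := h2
  have hc1 : c1 ≠ 0 := by
    rintro rfl
    rw [zero_smul] at h1
    exact pgRho_ne hL g p h1
  apply hL.inj p1 p2 (c1⁻¹ * c2)
  rw [← smul_smul, ← h2, h1, smul_smul, inv_mul_cancel₀ hc1, one_smul]

theorem PgRel.inv (hL : PgLines vec) {g : K} {p p' : Fin N} (h : PgRel ρ vec g p p') :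
    PgRel ρ vec g⁻¹ p' p := by
  obtain ⟨c, h⟩ := h
  have hc : c ≠ 0 := by
    rintro rfl
    rw [zero_smul] at h
    exact pgRho_ne hL g p h
  refine ⟨c⁻¹, ?_⟩
  have : ρ g⁻¹ *ᵥ (ρ g *ᵥ vec p) = vec p := by
    rw [mulVec_mulVec, pgRho_inv_mul, one_mulVec]
  rw [h, mulVec_smul] at this
  rw [← this, smul_smul, inv_mul_cancel₀ hc, one_smul]

variable (ρ vec)

/-- the elements permuting the lines -/
def pgPStab (hL : PgLines vec) : Subgroup K where
  carrier := {g | ∀ p, ∃ p', PgRel ρ vec g p p'}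
  one_mem' := fun p => ⟨p, PgRel.one p⟩
  mul_mem' := by
    intro a b ha hb p
    obtain ⟨p1, h1⟩ := hb p
    obtain ⟨p2, h2⟩ := ha p1
    exact ⟨p2, h1.mul h2⟩
  inv_mem' := by
    intro a ha
    choose f hf using ha
    have hinj : Function.Injective f := by
      intro p q hpq
      have h1 := (hf p).inv hL
      have h2 := (hf q).inv hL
      rw [hpq] at h1
      exact h1.unique hL h2
    have hsurj : Function.Surjective f := Finite.injective_iff_surjective.1 hinj
    intro p
    obtain ⟨q, rfl⟩ := hsurj p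
    exact ⟨q, (hf q).inv hL⟩

variable {ρ vec}

theorem mem_pgPStab (hL : PgLines vec) (g : K) :
    g ∈ pgPStab ρ vec hL ↔ ∀ p, ∃ p', PgRel ρ vec g p p' := Iff.rfl

/-- the image of a point -/
noncomputable def pgImg (hL : PgLines vec) (g : pgPStab ρ vec hL) (p : Fin N) : Fin N :=
  Classical.choose (g.2 p)

theorem pgImg_spec (hL : PgLines vec) (g : pgPStab ρ vec hL) (p : Fin N) :
    PgRel ρ vec g.1 p (pgImg hL g p) := Classical.choose_spec (g.2 p)

theorem pgImg_eq (hL : PgLines vec) (g : pgPStab ρ vec hL) {p p' : Fin N}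
    (h : PgRel ρ vec g.1 p p') : pgImg hL g p = p' :=
  (pgImg_spec hL g p).unique hL h

variable (ρ vec)

/-- the permutation action on the lines -/
noncomputable def pgPHom (hL : PgLines vec) : pgPStab ρ vec hL →* Equiv.Perm (Fin N) where
  toFun g :=
    { toFun := pgImg hL g
      invFun := pgImg hL g⁻¹
      left_inv := by
        intro p
        apply pgImg_eq
        exact (pgImg_spec hL g p).inv hL
      right_inv := by
        intro p
        apply pgImg_eq
        have := (pgImg_spec hL g⁻¹ p).inv hL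
        simpa using this }
  map_one' := by
    ext p
    simp only [Equiv.coe_fn_mk, Equiv.Perm.coe_one, id_eq]
    rw [pgImg_eq hL 1 (PgRel.one p)]
  map_mul' := by
    intro a b
    ext p
    simp only [Equiv.coe_fn_mk, Equiv.Perm.coe_mul, Function.comp_apply]
    rw [pgImg_eq hL (a * b) ((pgImg_spec hL b p).mul (pgImg_spec hL a (pgImg hL b p)))]

variable {ρ vec}

theorem pgPHom_apply (hL : PgLines vec) (g : pgPStab ρ vec hL) (p : Fin N) :
    pgPHom ρ vec hL g p = pgImg hL g p := rfl

theorem pgPHom_apply_eq (hL : PgLines vec) (g : pgPStab ρ vec hL) {p p' : Fin N}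
    (h : PgRel ρ vec g.1 p p') : pgPHom ρ vec hL g p = p' := pgImg_eq hL g h

theorem pgPHom_rel (hL : PgLines vec) (g : pgPStab ρ vec hL) (p : Fin N) :
    PgRel ρ vec g.1 p (pgPHom ρ vec hL g p) := pgImg_spec hL g p

/-- a scalar matrix fixes all lines -/
theorem pgPHom_eq_one_of_scalar (hL : PgLines vec) (g : pgPStab ρ vec hL) (c : F)
    (h : ρ g.1 = c • (1 : Matrix ι ι F)) : pgPHom ρ vec hL g = 1 := by
  ext p
  rw [pgPHom_apply_eq hL g (p' := p)]
  · rfl
  · exact ⟨c, by rw [h, smul_mulVec, one_mulVec]⟩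

/-- an element fixing the lines of the basis vectors and the line of a vector without zero
coordinates acts as a scalar -/
theorem pg_scalar_of_frame (M : Matrix ι ι F) (u : ι → F) (hu : ∀ i, u i ≠ 0)
    (hbasis : ∀ i : ι, ∃ c : F, M *ᵥ Pi.single i 1 = c • Pi.single i 1)
    (hfull : ∃ d : F, M *ᵥ u = d • u) : ∃ d : F, M = d • (1 : Matrix ι ι F) := by
  choose c hc using hbasis
  obtain ⟨d, hd⟩ := hfull
  have hM : M = diagonal c := by
    ext i j
    have := congrFun (hc j) i
    rw [mulVec_single_one] at this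
    simp only [col_apply, Pi.smul_apply, smul_eq_mul] at this
    rw [this, diagonal_apply]
    by_cases hij : i = j
    · subst hij
      simp
    · rw [if_neg hij, Pi.single_eq_of_ne hij, mul_zero]
  refine ⟨d, ?_⟩
  rw [hM]
  have hcd : ∀ i, c i = d := by
    intro i
    have := congrFun hd i
    rw [hM, mulVec_diagonal, Pi.smul_apply, smul_eq_mul] at this
    exact mul_right_cancel₀ (hu i) this
  ext i j
  rw [diagonal_apply, Matrix.smul_apply, one_apply, smul_eq_mul]
  by_cases hij : i = j
  · rw [if_pos hij, if_pos hij, hcd, mul_one]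
  · rw [if_neg hij, if_neg hij, mul_zero]

end

end Cfsg.Agent.Lib.helper23
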