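import Cfsg.Agent.Lib.helper23.U4A
import Cfsg.Agent.Lib.helper23.PgM
import Cfsg.Agent.Lib.helper23.PgW
import Cfsg.Agent.Lib.helper23.PgX
import Cfsg.Agent.S0280

set_option autoImplicit false
set_option maxRecDepth 1000000
set_option Elab.async false

/-!
# The special unitary group of degree 4 over 9 elements on the 280 isotropic points
-/

namespace Cfsg.Agent.Lib.helper23

open Cfsg.Agent.Lib.Helper19.L27 Matrix Subgroup

/-- the special unitary group -/
abbrev SU49 : Subgroup (Matrix.SpecialLinearGroup (Fin 4) F9) := Cfsg.SU 4 F9 3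

theorem f9card' : Fintype.card F9 = 3 ^ 2 := by rw [F9.card]; norm_num

theorem su49_card : Nat.card SU49 = 13063680 := by
  have h := Cfsg.Agent.S0278.result f9card' 4 (by norm_num)
  have hp : (3 : ℕ) ^ (4 * (4 - 1) / 2) * (∏ i ∈ Finset.range 4,
      (if Even i then 3 ^ (i + 1) + 1 else 3 ^ (i + 1) - 1)) = 52254720 := by
    decide
  rw [hp] at h
  change (3 + 1) * Nat.card SU49 = 52254720 at h
  omega

instance : Finite SU49 := Nat.finite_of_card_ne_zero (by rw [su49_card]; norm_num)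

theorem su49_center_card : Nat.card (Subgroup.center SU49) = 4 := by
  rw [Cfsg.Agent.S0279.card_center_SU f9card' (by norm_num)]
  rfl

/-- the matrix of an element -/
def u4Rho : SU49 →* Matrix (Fin 4) (Fin 4) F9 := (Cfsg.slToMat 4 F9).comp SU49.subtype

theorem u4Rho_apply (g : SU49) : u4Rho g = g.1.1 := rfl

/-- the numbering of the coordinates -/
def u4e : Fin 4 ≃ Fin 4 := Equiv.refl _

/-- the vectors of the isotropic points -/
def u4vec : Fin 280 → Fin 4 → F9 := fun p => pg9Dec u4e (u4V p.1)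

theorem u4Lines : PgLines u4vec := pg9Lines_of_chk u4e u4vchk

theorem u4mem_of_isU (A : Matrix (Fin 4) (Fin 4) F9) (hd : A.det = 1) (hU : u4IsU A) :
    (⟨A, hd⟩ : Matrix.SpecialLinearGroup (Fin 4) F9) ∈ SU49 := by
  obtain ⟨σ, hσ⟩ := Cfsg.Agent.Lib.Lead.exists_frob f9card'
  refine (Cfsg.Agent.S0279.mem_SU_iff' σ hσ _).2 ?_
  show Aᵀ * A.map σ = 1
  apply Matrix.ext
  intro i j
  rw [Matrix.mul_apply, Fin.sum_univ_four]
  simp only [Matrix.transpose_apply, Matrix.map_apply, hσ]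
  rw [Matrix.one_apply]
  exact hU i j

/-- the first generator -/
def u4g1 : SU49 := ⟨⟨u4Mat u4M1, u4det1⟩, u4mem_of_isU _ u4det1 u4unit1⟩

/-- the second generator -/
def u4g2 : SU49 := ⟨⟨u4Mat u4M2, u4det2⟩, u4mem_of_isU _ u4det2 u4unit2⟩

/-- the scalar -/
def u4gz : SU49 := ⟨⟨u4Mat u4MZ, u4detZ⟩, u4mem_of_isU _ u4detZ u4unitZ⟩

/-- the permutation group of degree 280 -/
abbrev P280 : Subgroup (Equiv.Perm (Fin 280)) := pgGrpW 280 u4pC

theorem u4pA : pgGrpW 280 u4pC ≤ (pgRigidAll 280).A := le_top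

theorem u4pok : ∀ P ∈ u4pL1.own, P.ok 280 = true :=
  pgChkW_own_ok 280 (pgRigidAll 280).base u4pC u4pchkC

theorem P280_card : Nat.card P280 = 3265920 := by
  rw [pgCardW (pgRigidAll 280) u4pC u4pchkC u4pA, u4pord]

theorem u4pown : u4pL1.own = [u4pgen u4pT1x0 u4pI1x0, u4pgen u4pT1x1 u4pI1x1] := rfl

theorem u4pmem0 : u4pgen u4pT1x0 u4pI1x0 ∈ u4pL1.own := by rw [u4pown]; simp

theorem u4pmem1 : u4pgen u4pT1x1 u4pI1x1 ∈ u4pL1.own := by rw [u4pown]; simp

/-- the stabiliser of the set of isotropic points -/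
abbrev u4S : Subgroup SU49 := pgPStab u4Rho u4vec u4Lines

/-- the action on the isotropic points -/
noncomputable abbrev u4Phi : u4S →* Equiv.Perm (Fin 280) := pgPHom u4Rho u4vec u4Lines

theorem u4Mat_tab' (T : ℕ) : PgTab9 u4e T (u4Mat T) := fun _ _ => rfl

theorem u4gen1 : ∃ hg : u4g1 ∈ u4S, u4Phi ⟨u4g1, hg⟩ = (u4pgen u4pT1x0 u4pI1x0).perm 280 :=
  pg9_gen_of_chk (ρ := u4Rho) u4e u4Lines u4g1 (u4Mat_tab' u4M1) (u4pok _ u4pmem0) u4pts1

theorem u4gen2 : ∃ hg : u4g2 ∈ u4S, u4Phi ⟨u4g2, hg⟩ = (u4pgen u4pT1x1 u4pI1x1).perm 280 :=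
  pg9_gen_of_chk (ρ := u4Rho) u4e u4Lines u4g2 (u4Mat_tab' u4M2) (u4pok _ u4pmem1) u4pts2

theorem u4scalar_mem (g : SU49) (c : F9) (h : u4Rho g = c • (1 : Matrix (Fin 4) (Fin 4) F9)) :
    g ∈ u4S := by
  intro p
  exact ⟨p, c, by rw [h, smul_mulVec, one_mulVec]⟩

theorem u4gz_rho : u4Rho u4gz = (pg9El 0 1) • (1 : Matrix (Fin 4) (Fin 4) F9) := u4MZ_eq

theorem u4gz_mem : u4gz ∈ u4S := u4scalar_mem u4gz _ u4gz_rho

theorem u4gz_ker : (⟨u4gz, u4gz_mem⟩ : u4S) ∈ u4Phi.ker :=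
  pgPHom_eq_one_of_scalar u4Lines _ _ u4gz_rho

theorem u4Rho_injective : Function.Injective u4Rho := by
  intro a b h
  apply Subtype.ext
  apply Subtype.ext
  exact h

theorem u4gz_order : orderOf (⟨u4gz, u4gz_mem⟩ : u4S) = 4 := by
  have hpow : ∀ k : ℕ, u4Rho (u4gz ^ k) = (pg9El 0 1 : F9) ^ k • (1 : Matrix (Fin 4) (Fin 4) F9) := by
    intro k
    rw [map_pow, u4gz_rho, smul_pow, one_pow]
  have h2 : (⟨u4gz, u4gz_mem⟩ : u4S) ^ 2 ^ 1 ≠ 1 := by
    intro h
    have h' : u4gz ^ 2 = 1 := by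
      have := congrArg Subtype.val h
      simpa using this
    have := hpow 2
    rw [h', map_one] at this
    have h00 := congrFun (congrFun this 0) 0
    rw [Matrix.smul_apply, Matrix.one_apply_eq, smul_eq_mul, mul_one] at h00
    exact u4Z_pow.1 h00.symm
  have h4 : (⟨u4gz, u4gz_mem⟩ : u4S) ^ 2 ^ (1 + 1) = 1 := by
    apply Subtype.ext
    apply u4Rho_injective
    have := hpow 4
    rw [u4Z_pow.2, one_smul] at this
    show u4Rho (u4gz ^ 4) = u4Rho 1
    rw [map_one]
    exact this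
  have := orderOf_eq_prime_pow h2 h4
  simpa using this

theorem u4ker_ge : 4 ≤ Nat.card u4Phi.ker := by
  have h1 : Subgroup.zpowers (⟨u4gz, u4gz_mem⟩ : u4S) ≤ u4Phi.ker := by
    rw [Subgroup.zpowers_le]
    exact u4gz_ker
  have h2 := Subgroup.card_le_of_le h1
  rw [Nat.card_zpowers, u4gz_order] at h2
  exact h2

theorem u4range_ge : P280 ≤ u4Phi.range := by
  change Subgroup.closure _ ≤ _
  rw [Subgroup.closure_le]
  rintro _ ⟨P, hP, rfl⟩
  change P ∈ u4pL1.own at hP
  rw [u4pown] at hP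
  simp only [List.mem_cons, List.not_mem_nil, or_false] at hP
  rcases hP with rfl | rfl
  · obtain ⟨hg, e⟩ := u4gen1
    exact ⟨_, e⟩
  · obtain ⟨hg, e⟩ := u4gen2
    exact ⟨_, e⟩

theorem u4counts : Nat.card u4Phi.ker = 4 ∧ Nat.card u4Phi.range = 3265920 ∧
    Nat.card u4S = 13063680 := by
  have h1 := Subgroup.card_mul_index u4Phi.ker
  rw [Subgroup.index_ker] at h1
  have h2 : Nat.card u4S ≤ 13063680 := by
    rw [← su49_card]
    exact Subgroup.card_le_card_group u4S
  have h3 := u4ker_ge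
  have h4 : 3265920 ≤ Nat.card u4Phi.range := by
    rw [← P280_card]
    exact Subgroup.card_le_of_le u4range_ge
  have h5 := Nat.mul_le_mul h3 h4
  have h6 : Nat.card u4Phi.ker = 4 := by
    by_contra hne
    have h7 : 5 ≤ Nat.card u4Phi.ker := by omega
    have h8 := Nat.mul_le_mul h7 h4
    omega
  rw [h6] at h1
  refine ⟨h6, by omega, by omega⟩

theorem u4S_top : u4S = ⊤ := by
  apply Subgroup.eq_top_of_card_eq
  rw [u4counts.2.2, su49_card]

theorem u4all (g : SU49) : g ∈ u4S := by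
  rw [u4S_top]
  exact Subgroup.mem_top g

theorem u4range : u4Phi.range = P280 := by
  symm
  apply Subgroup.eq_of_le_of_card_ge u4range_ge
  rw [u4counts.2.1, P280_card]

/-- the stabiliser is the whole group -/
noncomputable def u4Top : SU49 ≃* u4S :=
  Subgroup.topEquiv.symm.trans (MulEquiv.subgroupCongr u4S_top.symm)

theorem u4Top_val (g : SU49) : (u4Top g).1 = g := rfl

/-- the action of the whole group -/
noncomputable def u4Psi : SU49 →* Equiv.Perm (Fin 280) := u4Phi.comp u4Top.toMonoidHom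

theorem u4Psi_apply (g : SU49) : u4Psi g = u4Phi (u4Top g) := rfl

theorem u4Psi_range : u4Psi.range = P280 := by
  rw [← u4range]
  ext s
  constructor
  · rintro ⟨g, rfl⟩
    exact ⟨u4Top g, rfl⟩
  · rintro ⟨g, rfl⟩
    refine ⟨u4Top.symm g, ?_⟩
    rw [u4Psi_apply, MulEquiv.apply_symm_apply]

theorem u4Psi_ker_card : Nat.card u4Psi.ker = 4 := by
  have h1 := Subgroup.card_mul_index u4Psi.ker
  rw [Subgroup.index_ker, u4Psi_range, P280_card, su49_card] at h1
  generalize Nat.card u4Psi.ker = k at h1 ⊢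
  omega

theorem u4center_le : Subgroup.center SU49 ≤ u4Psi.ker := by
  intro g hg
  rw [Subgroup.mem_center_iff] at hg
  obtain ⟨l, hl⟩ := Cfsg.Agent.S0279.central_is_scalar f9card' (by norm_num) g.1 (by
    intro B hB
    have := hg ⟨B, hB⟩
    exact (congrArg Subtype.val this).symm)
  rw [MonoidHom.mem_ker, u4Psi_apply]
  apply pgPHom_eq_one_of_scalar u4Lines (u4Top g) l
  change g.1.1 = _
  rw [hl]
  apply Matrix.ext
  intro i j
  simp [Matrix.scalar_apply, Matrix.diagonal_apply, Matrix.one_apply]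

theorem u4Psi_ker : u4Psi.ker = Subgroup.center SU49 := by
  symm
  apply Subgroup.eq_of_le_of_card_ge u4center_le
  rw [u4Psi_ker_card, su49_center_card]

/-- the projective special unitary group is the permutation group of degree 280 -/
noncomputable def u4PsuEquiv : Cfsg.PSU 4 F9 3 ≃* P280 :=
  ((QuotientGroup.quotientMulEquivOfEq u4Psi_ker.symm).trans
    (QuotientGroup.quotientKerEquivRange u4Psi)).trans (MulEquiv.subgroupCongr u4Psi_range)

end Cfsg.Agent.Lib.helper23
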