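import Mathlib
import Cfsg.Prelude.Def_Classical

set_option autoImplicit false

/-!
# Transport of the special unitary groups along an isomorphism of fields
-/

namespace Cfsg.Agent.Lib.helper23

open Matrix

section
variable {F F' : Type*} [Field F] [Field F'] {n : ℕ}

/-- the isomorphism of the special linear groups -/
noncomputable def suSlEquiv (e : F ≃+* F') :
    Matrix.SpecialLinearGroup (Fin n) F ≃* Matrix.SpecialLinearGroup (Fin n) F' where
  toFun := Matrix.SpecialLinearGroup.map e.toRingHom
  invFun := Matrix.SpecialLinearGroup.map e.symm.toRingHom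
  left_inv y := by
    apply Subtype.ext
    ext i j
    simp [Matrix.SpecialLinearGroup.map_apply_coe]
  right_inv y := by
    apply Subtype.ext
    ext i j
    simp [Matrix.SpecialLinearGroup.map_apply_coe]
  map_mul' := map_mul _

theorem suSlEquiv_coe (e : F ≃+* F') (A : Matrix.SpecialLinearGroup (Fin n) F) :
    (suSlEquiv e A).1 = (A.1).map e := by
  ext i j
  simp [suSlEquiv, Matrix.SpecialLinearGroup.map_apply_coe]

theorem suHerm_map (e : F ≃+* F') (q : ℕ) (a b : Fin n → F) :
    Cfsg.hermForm n F' q (fun i => e (a i)) (fun i => e (b i)) = e (Cfsg.hermForm n F q a b) := by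
  unfold Cfsg.hermForm
  rw [map_sum]
  apply Finset.sum_congr rfl
  intro i _
  rw [map_mul, map_pow]

theorem suMulVec_map (e : F ≃+* F') (M : Matrix (Fin n) (Fin n) F) (u : Fin n → F) :
    (M.map e) *ᵥ (fun i => e (u i)) = fun i => e ((M *ᵥ u) i) := by
  funext i
  simp only [Matrix.mulVec, dotProduct, Matrix.map_apply]
  rw [map_sum]
  apply Finset.sum_congr rfl
  intro j _
  rw [map_mul]

theorem suMem_map (e : F ≃+* F') (q : ℕ) (A : Matrix.SpecialLinearGroup (Fin n) F)
    (hA : A ∈ Cfsg.SU n F q) : suSlEquiv e A ∈ Cfsg.SU n F' q := by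
  intro u' v'
  have hu : u' = fun i => e (e.symm (u' i)) := by funext i; simp
  have hv : v' = fun i => e (e.symm (v' i)) := by funext i; simp
  have hM : (Cfsg.slToMat n F') (suSlEquiv e A) = (A.1).map e := suSlEquiv_coe e A
  rw [hM, hu, hv, suMulVec_map, suMulVec_map, suHerm_map, suHerm_map]
  exact congrArg e (hA _ _)

theorem suSlEquiv_symm (e : F ≃+* F') :
    (suSlEquiv (n := n) e).symm = suSlEquiv e.symm := rfl

theorem suMem_iff (e : F ≃+* F') (q : ℕ) (A : Matrix.SpecialLinearGroup (Fin n) F) :
    suSlEquiv e A ∈ Cfsg.SU n F' q ↔ A ∈ Cfsg.SU n F q := by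
  constructor
  · intro h
    have := suMem_map e.symm q _ h
    rw [← suSlEquiv_symm, MulEquiv.symm_apply_apply] at this
    exact this
  · exact suMem_map e q A

/-- the isomorphism of the special unitary groups -/
noncomputable def suEquiv (e : F ≃+* F') (q : ℕ) : Cfsg.SU n F q ≃* Cfsg.SU n F' q where
  toFun A := ⟨suSlEquiv e A.1, suMem_map e q A.1 A.2⟩
  invFun B := ⟨(suSlEquiv e).symm B.1, by
    rw [← suMem_iff e q, MulEquiv.apply_symm_apply]
    exact B.2⟩
  left_inv A := by
    apply Subtype.ext
    exact (suSlEquiv e).symm_apply_apply A.1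
  right_inv B := by
    apply Subtype.ext
    exact (suSlEquiv e).apply_symm_apply B.1
  map_mul' A B := by
    apply Subtype.ext
    exact map_mul (suSlEquiv e) A.1 B.1

end

/-- an isomorphism of groups gives an isomorphism of the quotients by the centres -/
noncomputable def quotCenterEquiv {G H : Type*} [Group G] [Group H] (e : G ≃* H) :
    G ⧸ Subgroup.center G ≃* H ⧸ Subgroup.center H :=
  QuotientGroup.congr (Subgroup.center G) (Subgroup.center H) e (by
    ext y
    rw [Subgroup.mem_map, Subgroup.mem_center_iff]
    constructor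
    · rintro ⟨x, hx, rfl⟩ z
      obtain ⟨w, rfl⟩ := e.surjective z
      rw [Subgroup.mem_center_iff] at hx
      change e w * e x = e x * e w
      rw [← map_mul, ← map_mul, hx w]
    · intro h
      refine ⟨e.symm y, ?_, e.apply_symm_apply y⟩
      rw [Subgroup.mem_center_iff]
      intro w
      apply e.injective
      rw [map_mul, map_mul, e.apply_symm_apply]
      exact h (e w))

/-- the isomorphism of the projective special unitary groups -/
noncomputable def psuEquiv {F F' : Type*} [Field F] [Field F'] {n : ℕ} (e : F ≃+* F') (q : ℕ) :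
    Cfsg.PSU n F q ≃* Cfsg.PSU n F' q :=
  quotCenterEquiv (suEquiv e q)

end Cfsg.Agent.Lib.helper23
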