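import Cfsg.Agent.Lib.helper23.U6pData
import Cfsg.Agent.Lib.helper23.PgX

set_option autoImplicit false
set_option maxRecDepth 1000000
set_option Elab.async false

namespace Cfsg.Agent.Lib.helper23

theorem u6pcl1x1c0 : pgChkGenW 693 (List.range 693) u6pL1 [u6pL2, u6pL3, u6pL4, u6pL5]
    (u6pgen u6pT1x1 u6pI1x1) 0 100 = true := by decide +kernel

theorem u6pcl1x1c100 : pgChkGenW 693 (List.range 693) u6pL1 [u6pL2, u6pL3, u6pL4, u6pL5]
    (u6pgen u6pT1x1 u6pI1x1) 100 100 = true := by decide +kernel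

theorem u6pcl1x1c200 : pgChkGenW 693 (List.range 693) u6pL1 [u6pL2, u6pL3, u6pL4, u6pL5]
    (u6pgen u6pT1x1 u6pI1x1) 200 100 = true := by decide +kernel

theorem u6pcl1x1c300 : pgChkGenW 693 (List.range 693) u6pL1 [u6pL2, u6pL3, u6pL4, u6pL5]
    (u6pgen u6pT1x1 u6pI1x1) 300 100 = true := by decide +kernel

theorem u6pcl1x1c400 : pgChkGenW 693 (List.range 693) u6pL1 [u6pL2, u6pL3, u6pL4, u6pL5]
    (u6pgen u6pT1x1 u6pI1x1) 400 100 = true := by decide +kernel

theorem u6pcl1x1c500 : pgChkGenW 693 (List.range 693) u6pL1 [u6pL2, u6pL3, u6pL4, u6pL5]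
    (u6pgen u6pT1x1 u6pI1x1) 500 100 = true := by decide +kernel

theorem u6pcl1x1c600 : pgChkGenW 693 (List.range 693) u6pL1 [u6pL2, u6pL3, u6pL4, u6pL5]
    (u6pgen u6pT1x1 u6pI1x1) 600 93 = true := by decide +kernel


end Cfsg.Agent.Lib.helper23
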