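import Cfsg.Agent.Lib.helper23.U6pData
import Cfsg.Agent.Lib.helper23.PgX

set_option autoImplicit false
set_option maxRecDepth 1000000
set_option Elab.async false

namespace Cfsg.Agent.Lib.helper23

theorem u6pcl2x0c0 : pgChkGenW 693 (List.range 693) u6pL2 [u6pL3, u6pL4, u6pL5]
    (u6pgen u6pT2x0 u6pI2x0) 0 140 = true := by decide +kernel

theorem u6pcl2x0c140 : pgChkGenW 693 (List.range 693) u6pL2 [u6pL3, u6pL4, u6pL5]
    (u6pgen u6pT2x0 u6pI2x0) 140 140 = true := by decide +kernel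

theorem u6pcl2x0c280 : pgChkGenW 693 (List.range 693) u6pL2 [u6pL3, u6pL4, u6pL5]
    (u6pgen u6pT2x0 u6pI2x0) 280 140 = true := by decide +kernel

theorem u6pcl2x0c420 : pgChkGenW 693 (List.range 693) u6pL2 [u6pL3, u6pL4, u6pL5]
    (u6pgen u6pT2x0 u6pI2x0) 420 140 = true := by decide +kernel

theorem u6pcl2x0c560 : pgChkGenW 693 (List.range 693) u6pL2 [u6pL3, u6pL4, u6pL5]
    (u6pgen u6pT2x0 u6pI2x0) 560 133 = true := by decide +kernel

theorem u6pcl2x1c0 : pgChkGenW 693 (List.range 693) u6pL2 [u6pL3, u6pL4, u6pL5]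
    (u6pgen u6pT2x1 u6pI2x1) 0 140 = true := by decide +kernel

theorem u6pcl2x1c140 : pgChkGenW 693 (List.range 693) u6pL2 [u6pL3, u6pL4, u6pL5]
    (u6pgen u6pT2x1 u6pI2x1) 140 140 = true := by decide +kernel

theorem u6pcl2x1c280 : pgChkGenW 693 (List.range 693) u6pL2 [u6pL3, u6pL4, u6pL5]
    (u6pgen u6pT2x1 u6pI2x1) 280 140 = true := by decide +kernel

theorem u6pcl2x1c420 : pgChkGenW 693 (List.range 693) u6pL2 [u6pL3, u6pL4, u6pL5]
    (u6pgen u6pT2x1 u6pI2x1) 420 140 = true := by decide +kernel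

theorem u6pcl2x1c560 : pgChkGenW 693 (List.range 693) u6pL2 [u6pL3, u6pL4, u6pL5]
    (u6pgen u6pT2x1 u6pI2x1) 560 133 = true := by decide +kernel


end Cfsg.Agent.Lib.helper23
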