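import Cfsg.Agent.Lib.helper23.U6pData
import Cfsg.Agent.Lib.helper23.PgX

set_option autoImplicit false
set_option maxRecDepth 1000000
set_option Elab.async false

namespace Cfsg.Agent.Lib.helper23

theorem u6pcl3x0 : pgChkGenW 693 (List.range 693) u6pL3 [u6pL4, u6pL5]
    (u6pgen u6pT3x0 u6pI3x0) 0 693 = true := by decide +kernel

theorem u6pcl3x1 : pgChkGenW 693 (List.range 693) u6pL3 [u6pL4, u6pL5]
    (u6pgen u6pT3x1 u6pI3x1) 0 693 = true := by decide +kernel

theorem u6pcl4x0 : pgChkGenW 693 (List.range 693) u6pL4 [u6pL5]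
    (u6pgen u6pT4x0 u6pI4x0) 0 693 = true := by decide +kernel

theorem u6pcl4x1 : pgChkGenW 693 (List.range 693) u6pL4 [u6pL5]
    (u6pgen u6pT4x1 u6pI4x1) 0 693 = true := by decide +kernel

theorem u6pcl5x0 : pgChkGenW 693 (List.range 693) u6pL5 []
    (u6pgen u6pT5x0 u6pI5x0) 0 693 = true := by decide +kernel

theorem u6pcl5x1 : pgChkGenW 693 (List.range 693) u6pL5 []
    (u6pgen u6pT5x1 u6pI5x1) 0 693 = true := by decide +kernel


end Cfsg.Agent.Lib.helper23
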