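import Cfsg.Agent.Lib.helper23.U6pChk0
import Cfsg.Agent.Lib.helper23.U6pChk1p0
import Cfsg.Agent.Lib.helper23.U6pChk1p1
import Cfsg.Agent.Lib.helper23.U6pChk2p0
import Cfsg.Agent.Lib.helper23.U6pChkS

set_option autoImplicit false
set_option maxRecDepth 1000000
set_option Elab.async false

namespace Cfsg.Agent.Lib.helper23

open Subgroup MulAction

/-!
# The unitary group of degree 6 over 4 elements on 693 isotropic points: the checks of the stabiliser chain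
-/

theorem u6pcl1x0 : pgChkGenW 693 (List.range 693) u6pL1 [u6pL2, u6pL3, u6pL4, u6pL5]
    (u6pgen u6pT1x0 u6pI1x0) 0 693 = true :=
  pgChkGenW_append (lo := 0) (c1 := 600) (c2 := 93) (pgChkGenW_append (lo := 0) (c1 := 500) (c2 := 100) (pgChkGenW_append (lo := 0) (c1 := 400) (c2 := 100) (pgChkGenW_append (lo := 0) (c1 := 300) (c2 := 100) (pgChkGenW_append (lo := 0) (c1 := 200) (c2 := 100) (pgChkGenW_append (lo := 0) (c1 := 100) (c2 := 100) (u6pcl1x0c0) u6pcl1x0c100) u6pcl1x0c200) u6pcl1x0c300) u6pcl1x0c400) u6pcl1x0c500) u6pcl1x0c600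

theorem u6pcl1x1 : pgChkGenW 693 (List.range 693) u6pL1 [u6pL2, u6pL3, u6pL4, u6pL5]
    (u6pgen u6pT1x1 u6pI1x1) 0 693 = true :=
  pgChkGenW_append (lo := 0) (c1 := 600) (c2 := 93) (pgChkGenW_append (lo := 0) (c1 := 500) (c2 := 100) (pgChkGenW_append (lo := 0) (c1 := 400) (c2 := 100) (pgChkGenW_append (lo := 0) (c1 := 300) (c2 := 100) (pgChkGenW_append (lo := 0) (c1 := 200) (c2 := 100) (pgChkGenW_append (lo := 0) (c1 := 100) (c2 := 100) (u6pcl1x1c0) u6pcl1x1c100) u6pcl1x1c200) u6pcl1x1c300) u6pcl1x1c400) u6pcl1x1c500) u6pcl1x1c600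

theorem u6pcl2x0 : pgChkGenW 693 (List.range 693) u6pL2 [u6pL3, u6pL4, u6pL5]
    (u6pgen u6pT2x0 u6pI2x0) 0 693 = true :=
  pgChkGenW_append (lo := 0) (c1 := 560) (c2 := 133) (pgChkGenW_append (lo := 0) (c1 := 420) (c2 := 140) (pgChkGenW_append (lo := 0) (c1 := 280) (c2 := 140) (pgChkGenW_append (lo := 0) (c1 := 140) (c2 := 140) (u6pcl2x0c0) u6pcl2x0c140) u6pcl2x0c280) u6pcl2x0c420) u6pcl2x0c560

theorem u6pcl2x1 : pgChkGenW 693 (List.range 693) u6pL2 [u6pL3, u6pL4, u6pL5]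
    (u6pgen u6pT2x1 u6pI2x1) 0 693 = true :=
  pgChkGenW_append (lo := 0) (c1 := 560) (c2 := 133) (pgChkGenW_append (lo := 0) (c1 := 420) (c2 := 140) (pgChkGenW_append (lo := 0) (c1 := 280) (c2 := 140) (pgChkGenW_append (lo := 0) (c1 := 140) (c2 := 140) (u6pcl2x1c0) u6pcl2x1c140) u6pcl2x1c280) u6pcl2x1c420) u6pcl2x1c560

theorem u6pchkL5 : pgChkLvlW 693 (List.range 693) u6pL5 [] = true := by
  apply pgChkLvlW_ofAllX u6pchk0x5
  intro s hs
  change s ∈ [u6pgen u6pT5x0 u6pI5x0, u6pgen u6pT5x1 u6pI5x1] at hs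
  simp only [List.mem_cons, List.not_mem_nil, or_false] at hs
  rcases hs with rfl | rfl
  · exact u6pcl5x0
  · exact u6pcl5x1

theorem u6pchkL4 : pgChkLvlW 693 (List.range 693) u6pL4 [u6pL5] = true := by
  apply pgChkLvlW_ofAllX u6pchk0x4
  intro s hs
  change s ∈ [u6pgen u6pT4x0 u6pI4x0, u6pgen u6pT4x1 u6pI4x1] at hs
  simp only [List.mem_cons, List.not_mem_nil, or_false] at hs
  rcases hs with rfl | rfl
  · exact u6pcl4x0
  · exact u6pcl4x1

theorem u6pchkL3 : pgChkLvlW 693 (List.range 693) u6pL3 [u6pL4, u6pL5] = true := by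
  apply pgChkLvlW_ofAllX u6pchk0x3
  intro s hs
  change s ∈ [u6pgen u6pT3x0 u6pI3x0, u6pgen u6pT3x1 u6pI3x1] at hs
  simp only [List.mem_cons, List.not_mem_nil, or_false] at hs
  rcases hs with rfl | rfl
  · exact u6pcl3x0
  · exact u6pcl3x1

theorem u6pchkL2 : pgChkLvlW 693 (List.range 693) u6pL2 [u6pL3, u6pL4, u6pL5] = true := by
  apply pgChkLvlW_ofAllX u6pchk0x2
  intro s hs
  change s ∈ [u6pgen u6pT2x0 u6pI2x0, u6pgen u6pT2x1 u6pI2x1] at hs
  simp only [List.mem_cons, List.not_mem_nil, or_false] at hs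
  rcases hs with rfl | rfl
  · exact u6pcl2x0
  · exact u6pcl2x1

theorem u6pchkL1 : pgChkLvlW 693 (List.range 693) u6pL1 [u6pL2, u6pL3, u6pL4, u6pL5] = true := by
  apply pgChkLvlW_ofAllX u6pchk0x1
  intro s hs
  change s ∈ [u6pgen u6pT1x0 u6pI1x0, u6pgen u6pT1x1 u6pI1x1] at hs
  simp only [List.mem_cons, List.not_mem_nil, or_false] at hs
  rcases hs with rfl | rfl
  · exact u6pcl1x0
  · exact u6pcl1x1

/-- the stabiliser chain -/
def u6pC : List PgLvlW := [u6pL1, u6pL2, u6pL3, u6pL4, u6pL5]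

theorem u6pchkC : pgChkW 693 (List.range 693) u6pC = true := by
  change pgChkW 693 (List.range 693) [u6pL1, u6pL2, u6pL3, u6pL4, u6pL5] = true
  rw [pgChkW_cons, pgChkW_cons, pgChkW_cons, pgChkW_cons, pgChkW_cons, u6pchkL1, u6pchkL2, u6pchkL3, u6pchkL4, u6pchkL5]
  rfl

end Cfsg.Agent.Lib.helper23
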