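import Cfsg.Agent.Lib.helper23.U6A
import Cfsg.Agent.Lib.helper23.PgM
import Cfsg.Agent.Lib.helper23.PgW
import Cfsg.Agent.Lib.helper23.PgX
import Cfsg.Agent.S0280

set_option autoImplicit false
set_option maxRecDepth 1000000
set_option Elab.async false

/-!
# The special unitary group of degree 6 over 4 elements on the 693 isotropic points
-/

namespace Cfsg.Agent.Lib.helper23

open Matrix Subgroup

/-- the special unitary group -/
abbrev SU64 : Subgroup (Matrix.SpecialLinearGroup (Fin 6) GF4) := Cfsg.SU 6 GF4 2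

theorem f4card' : Fintype.card GF4 = 2 ^ 2 := by rw [GF4.card]; norm_num

theorem su64_card : Nat.card SU64 = 27590492160 := by
  have h := Cfsg.Agent.S0278.result f4card' 6 (by norm_num)
  have hp : (2 : ℕ) ^ (6 * (6 - 1) / 2) * (∏ i ∈ Finset.range 6,
      (if Even i then 2 ^ (i + 1) + 1 else 2 ^ (i + 1) - 1)) = 82771476480 := by
    decide
  rw [hp] at h
  change (2 + 1) * Nat.card SU64 = 82771476480 at h
  omega

instance : Finite SU64 := Nat.finite_of_card_ne_zero (by rw [su64_card]; norm_num)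

theorem su64_center_card : Nat.card (Subgroup.center SU64) = 3 := by
  rw [Cfsg.Agent.S0279.card_center_SU f4card' (by norm_num)]
  rfl

/-- the matrix of an element -/
def u6Rho : SU64 →* Matrix (Fin 6) (Fin 6) GF4 := (Cfsg.slToMat 6 GF4).comp SU64.subtype

theorem u6Rho_apply (g : SU64) : u6Rho g = g.1.1 := rfl

/-- the numbering of the coordinates -/
def u6e : Fin 6 ≃ Fin 6 := Equiv.refl _

/-- the vectors of the isotropic points -/
def u6vec : Fin 693 → Fin 6 → GF4 := fun p => pg4Dec u6e (u6V p.1)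

theorem u6Lines : PgLines u6vec := pg4Lines_of_chk u6e u6vchk

theorem u6mem_of_isU (A : Matrix (Fin 6) (Fin 6) GF4) (hd : A.det = 1) (hU : u6IsU A) :
    (⟨A, hd⟩ : Matrix.SpecialLinearGroup (Fin 6) GF4) ∈ SU64 := by
  obtain ⟨σ, hσ⟩ := Cfsg.Agent.Lib.Lead.exists_frob f4card'
  refine (Cfsg.Agent.S0279.mem_SU_iff' σ hσ _).2 ?_
  show Aᵀ * A.map σ = 1
  apply Matrix.ext
  intro i j
  rw [Matrix.mul_apply, Fin.sum_univ_six]
  simp only [Matrix.transpose_apply, Matrix.map_apply, hσ]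
  rw [Matrix.one_apply]
  exact hU i j

theorem u6detA : (u6Mat u6MA).det = 1 := by
  have h : u6Mat u6MA * u6Mat u6MA = 1 := by
    rw [← u6mul_eq]
    apply Matrix.ext
    intro i j
    rw [u6sqA i j, Matrix.one_apply]
  have h2 := congrArg Matrix.det h
  rw [Matrix.det_mul, Matrix.det_one, ← pow_two] at h2
  exact u6gf4_sq _ h2

theorem u6detB : (u6Mat u6MB).det = 1 := by
  have h : u6MB8 * (u6MB2 * u6Mat u6MB) = 1 := by
    rw [← u6mul_eq, ← u6mul_eq]
    apply Matrix.ext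
    intro i j
    rw [u6powB i j, Matrix.one_apply]
  have e2 : u6MB2 = u6Mat u6MB * u6Mat u6MB := u6mul_eq _ _
  have e4 : u6MB4 = u6MB2 * u6MB2 := u6mul_eq _ _
  have e8 : u6MB8 = u6MB4 * u6MB4 := u6mul_eq _ _
  have h2 := congrArg Matrix.det h
  rw [e8, e4, e2] at h2
  simp only [Matrix.det_mul, Matrix.det_one] at h2
  apply u6gf4_p11
  rw [← h2]
  ring

theorem u6MZ_eq' : u6Mat u6MZ = (pg4El 0 1) • (1 : Matrix (Fin 6) (Fin 6) GF4) := by
  apply Matrix.ext
  intro i j
  rw [u6MZ_eq i j, Matrix.smul_apply, Matrix.one_apply, smul_eq_mul]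
  split_ifs <;> simp

theorem u6detZ : (u6Mat u6MZ).det = 1 := by
  rw [u6MZ_eq', Matrix.det_smul, Matrix.det_one, mul_one, Fintype.card_fin]
  have := u6Z_pow.2
  calc (pg4El 0 1 : GF4) ^ 6 = ((pg4El 0 1 : GF4) ^ 3) ^ 2 := by ring
    _ = 1 := by rw [this, one_pow]

/-- the first generator -/
def u6gA : SU64 := ⟨⟨u6Mat u6MA, u6detA⟩, u6mem_of_isU _ u6detA u6unitA⟩

/-- the second generator -/
def u6gB : SU64 := ⟨⟨u6Mat u6MB, u6detB⟩, u6mem_of_isU _ u6detB u6unitB⟩

/-- the scalar -/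
def u6gz : SU64 := ⟨⟨u6Mat u6MZ, u6detZ⟩, u6mem_of_isU _ u6detZ u6unitZ⟩

/-- the permutation group of degree 693 -/
abbrev P693 : Subgroup (Equiv.Perm (Fin 693)) := pgGrpW 693 u6pC

theorem u6pA : pgGrpW 693 u6pC ≤ (pgRigidAll 693).A := le_top

theorem u6pok : ∀ P ∈ u6pL1.own, P.ok 693 = true :=
  pgChkW_own_ok 693 (pgRigidAll 693).base u6pC u6pchkC

theorem P693_card : Nat.card P693 = 9196830720 := by
  rw [pgCardW (pgRigidAll 693) u6pC u6pchkC u6pA, u6pord]

theorem u6pown : u6pL1.own = [u6pgen u6pT1x0 u6pI1x0, u6pgen u6pT1x1 u6pI1x1] := rfl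

theorem u6pmem0 : u6pgen u6pT1x0 u6pI1x0 ∈ u6pL1.own := by rw [u6pown]; simp

theorem u6pmem1 : u6pgen u6pT1x1 u6pI1x1 ∈ u6pL1.own := by rw [u6pown]; simp

/-- the stabiliser of the set of isotropic points -/
abbrev u6S : Subgroup SU64 := pgPStab u6Rho u6vec u6Lines

/-- the action on the isotropic points -/
noncomputable abbrev u6Phi : u6S →* Equiv.Perm (Fin 693) := pgPHom u6Rho u6vec u6Lines

theorem u6Mat_tab' (T : ℕ) : PgTab4 u6e T (u6Mat T) := fun _ _ => rfl

theorem u6gen1 : ∃ hg : u6gA ∈ u6S, u6Phi ⟨u6gA, hg⟩ = (u6pgen u6pT1x0 u6pI1x0).perm 693 :=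
  pg4_gen_of_chk (ρ := u6Rho) u6e u6Lines u6gA (u6Mat_tab' u6MA) (u6pok _ u6pmem0) u6pts1

theorem u6gen2 : ∃ hg : u6gB ∈ u6S, u6Phi ⟨u6gB, hg⟩ = (u6pgen u6pT1x1 u6pI1x1).perm 693 :=
  pg4_gen_of_chk (ρ := u6Rho) u6e u6Lines u6gB (u6Mat_tab' u6MB) (u6pok _ u6pmem1) u6pts2

theorem u6scalar_mem (g : SU64) (c : GF4) (h : u6Rho g = c • (1 : Matrix (Fin 6) (Fin 6) GF4)) :
    g ∈ u6S := by
  intro p
  exact ⟨p, c, by rw [h, smul_mulVec, one_mulVec]⟩

theorem u6gz_rho : u6Rho u6gz = (pg4El 0 1) • (1 : Matrix (Fin 6) (Fin 6) GF4) := u6MZ_eq'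

theorem u6gz_mem : u6gz ∈ u6S := u6scalar_mem u6gz _ u6gz_rho

theorem u6gz_ker : (⟨u6gz, u6gz_mem⟩ : u6S) ∈ u6Phi.ker :=
  pgPHom_eq_one_of_scalar u6Lines _ _ u6gz_rho

theorem u6Rho_injective : Function.Injective u6Rho := by
  intro a b h
  apply Subtype.ext
  apply Subtype.ext
  exact h

theorem u6gz_order : orderOf (⟨u6gz, u6gz_mem⟩ : u6S) = 3 := by
  have hpow : ∀ k : ℕ, u6Rho (u6gz ^ k) = (pg4El 0 1 : GF4) ^ k • (1 : Matrix (Fin 6) (Fin 6) GF4) := by
    intro k
    rw [map_pow, u6gz_rho, smul_pow, one_pow]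
  haveI : Fact (Nat.Prime 3) := ⟨by norm_num⟩
  apply orderOf_eq_prime
  · apply Subtype.ext
    apply u6Rho_injective
    have := hpow 3
    rw [u6Z_pow.2, one_smul] at this
    show u6Rho (u6gz ^ 3) = u6Rho 1
    rw [map_one]
    exact this
  · intro h
    have h' : u6gz = 1 := congrArg Subtype.val h
    have := hpow 1
    rw [pow_one, pow_one, h', map_one] at this
    have h00 := congrFun (congrFun this 0) 0
    rw [Matrix.smul_apply, Matrix.one_apply_eq, smul_eq_mul, mul_one] at h00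
    exact u6Z_pow.1 h00.symm

theorem u6ker_ge : 3 ≤ Nat.card u6Phi.ker := by
  have h1 : Subgroup.zpowers (⟨u6gz, u6gz_mem⟩ : u6S) ≤ u6Phi.ker := by
    rw [Subgroup.zpowers_le]
    exact u6gz_ker
  have h2 := Subgroup.card_le_of_le h1
  rw [Nat.card_zpowers, u6gz_order] at h2
  exact h2

theorem u6range_ge : P693 ≤ u6Phi.range := by
  change Subgroup.closure _ ≤ _
  rw [Subgroup.closure_le]
  rintro _ ⟨P, hP, rfl⟩
  change P ∈ u6pL1.own at hP
  rw [u6pown] at hP
  simp only [List.mem_cons, List.not_mem_nil, or_false] at hP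
  rcases hP with rfl | rfl
  · obtain ⟨hg, e⟩ := u6gen1
    exact ⟨_, e⟩
  · obtain ⟨hg, e⟩ := u6gen2
    exact ⟨_, e⟩

theorem u6counts : Nat.card u6Phi.ker = 3 ∧ Nat.card u6Phi.range = 9196830720 ∧
    Nat.card u6S = 27590492160 := by
  have h1 := Subgroup.card_mul_index u6Phi.ker
  rw [Subgroup.index_ker] at h1
  have h2 : Nat.card u6S ≤ 27590492160 := by
    rw [← su64_card]
    exact Subgroup.card_le_card_group u6S
  have h3 := u6ker_ge
  have h4 : 9196830720 ≤ Nat.card u6Phi.range := by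
    rw [← P693_card]
    exact Subgroup.card_le_of_le u6range_ge
  have h5 := Nat.mul_le_mul h3 h4
  have h6 : Nat.card u6Phi.ker = 3 := by
    by_contra hne
    have h7 : 4 ≤ Nat.card u6Phi.ker := by omega
    have h8 := Nat.mul_le_mul h7 h4
    omega
  rw [h6] at h1
  refine ⟨h6, by omega, by omega⟩

theorem u6S_top : u6S = ⊤ := by
  apply Subgroup.eq_top_of_card_eq
  rw [u6counts.2.2, su64_card]

theorem u6range : u6Phi.range = P693 := by
  symm
  apply Subgroup.eq_of_le_of_card_ge u6range_ge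
  rw [u6counts.2.1, P693_card]

/-- the stabiliser is the whole group -/
noncomputable def u6Top : SU64 ≃* u6S :=
  Subgroup.topEquiv.symm.trans (MulEquiv.subgroupCongr u6S_top.symm)

theorem u6Top_val (g : SU64) : (u6Top g).1 = g := rfl

/-- the action of the whole group -/
noncomputable def u6Psi : SU64 →* Equiv.Perm (Fin 693) := u6Phi.comp u6Top.toMonoidHom

theorem u6Psi_apply (g : SU64) : u6Psi g = u6Phi (u6Top g) := rfl

theorem u6Psi_range : u6Psi.range = P693 := by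
  rw [← u6range]
  ext s
  constructor
  · rintro ⟨g, rfl⟩
    exact ⟨u6Top g, rfl⟩
  · rintro ⟨g, rfl⟩
    refine ⟨u6Top.symm g, ?_⟩
    rw [u6Psi_apply, MulEquiv.apply_symm_apply]

theorem u6Psi_ker_card : Nat.card u6Psi.ker = 3 := by
  have h1 := Subgroup.card_mul_index u6Psi.ker
  rw [Subgroup.index_ker, u6Psi_range, P693_card, su64_card] at h1
  generalize Nat.card u6Psi.ker = k at h1 ⊢
  omega

theorem u6center_le : Subgroup.center SU64 ≤ u6Psi.ker := by
  intro g hg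
  rw [Subgroup.mem_center_iff] at hg
  obtain ⟨l, hl⟩ := Cfsg.Agent.S0279.central_is_scalar f4card' (by norm_num) g.1 (by
    intro B hB
    have := hg ⟨B, hB⟩
    exact (congrArg Subtype.val this).symm)
  rw [MonoidHom.mem_ker, u6Psi_apply]
  apply pgPHom_eq_one_of_scalar u6Lines (u6Top g) l
  change g.1.1 = _
  rw [hl]
  apply Matrix.ext
  intro i j
  simp [Matrix.scalar_apply, Matrix.diagonal_apply, Matrix.one_apply]

theorem u6Psi_ker : u6Psi.ker = Subgroup.center SU64 := by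
  symm
  apply Subgroup.eq_of_le_of_card_ge u6center_le
  rw [u6Psi_ker_card, su64_center_card]

/-- the projective special unitary group is the permutation group of degree 693 -/
noncomputable def u6PsuEquiv : Cfsg.PSU 6 GF4 2 ≃* P693 :=
  ((QuotientGroup.quotientMulEquivOfEq u6Psi_ker.symm).trans
    (QuotientGroup.quotientKerEquivRange u6Psi)).trans (MulEquiv.subgroupCongr u6Psi_range)

end Cfsg.Agent.Lib.helper23
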