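import Mathlib
import Cfsg.Agent.Lib.Lead.B3P.Defs
import Cfsg.Agent.Lib.helper2.CharNat
import Cfsg.Agent.Lib.helper2.PModular2
import Cfsg.Agent.S0139

/-!
# B3P piece PHI1 : finite-sum identities for `Phi`
-/

set_option autoImplicit false
set_option linter.unusedVariables false
set_option linter.unusedSectionVars false
set_option linter.style.haveILetI false
open scoped ComplexConjugate
open Classical

namespace Cfsg.Agent.Lib.Lead.B3P

open Cfsg.Agent.Lib.helper7 Cfsg.Agent.Lib.helper7.Br Polynomial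

variable {G : Type*} [Group G]

/-- piece PHI1 -/
theorem phi_classFunction [Fintype G] (x : GA ℂ G) : Cfsg.IsClassFunction G (Phi x) := by
  intro g h
  rw [Phi_apply, Phi_apply]
  refine Fintype.sum_equiv (Equiv.mulLeft h⁻¹) _ _ fun z => ?_
  congr 1
  simp only [Equiv.coe_mulLeft]
  group

/-- piece PHI1 -/
theorem phi_add [Fintype G] (x y : GA ℂ G) : Phi (x + y) = Phi x + Phi y := by
  funext g
  rw [Pi.add_apply, Phi_apply, Phi_apply, Phi_apply, ← Finset.sum_add_distrib]
  rfl

/-- piece PHI1 -/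
theorem phi_sum [Fintype G] (x : GA ℂ G) : ∑ y : G, Phi x y = (Nat.card G : ℂ) * aug x := by
  have h1 : ∀ z : G, ∑ y : G, x (z⁻¹ * y⁻¹ * z) = aug x := by
    intro z
    unfold aug
    refine Fintype.sum_bijective (fun y => z⁻¹ * y⁻¹ * z) ?_ _ _ fun y => rfl
    refine ⟨fun a b hab => ?_, fun b => ⟨(z * b * z⁻¹)⁻¹, by group⟩⟩
    have h2 : a⁻¹ = b⁻¹ := mul_left_cancel (mul_right_cancel hab)
    exact inv_injective h2
  simp only [Phi_apply]
  rw [Finset.sum_comm]
  simp only [h1]
  rw [Finset.sum_const, Finset.card_univ, Nat.card_eq_fintype_card, nsmul_eq_mul]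

/-- piece PHI1 -/
theorem phi_comm [Fintype G] (a b : GA ℂ G) : Phi (a * b) = Phi (b * a) := by
  funext y
  rw [Phi_apply, Phi_apply]
  simp only [GA.mul_apply a b, GA.mul_apply' b a]
  rw [Finset.sum_comm]
  rw [Finset.sum_comm (f := fun z h => b (z⁻¹ * y⁻¹ * z * h⁻¹) * a h)]
  refine Finset.sum_congr rfl fun h _ => ?_
  refine Fintype.sum_equiv (Equiv.mulRight h) _ _ fun z => ?_
  rw [mul_comm]
  congr 2
  simp only [Equiv.coe_mulRight]
  group

end Cfsg.Agent.Lib.Lead.B3P
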