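import Mathlib
import Cfsg.Agent.Lib.Lead.B3P.Defs
import Cfsg.Agent.Lib.helper2.CharNat
import Cfsg.Agent.Lib.helper2.PModular2
import Cfsg.Agent.S0139

/-!
# B3P piece KER : the kernel of a character is a normal subgroup
-/

set_option autoImplicit false
set_option linter.unusedVariables false
set_option linter.unusedSectionVars false
set_option linter.style.haveILetI false
open scoped ComplexConjugate
open Classical

namespace Cfsg.Agent.Lib.Lead.B3P

open Cfsg.Agent.Lib.helper7 Cfsg.Agent.Lib.helper7.Br Polynomial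

variable {G : Type*} [Group G]

/-- piece KER -/
theorem isCharacter_ker [Finite G] {ψ : G → ℂ} (h : Cfsg.IsCharacter G ψ) :
    ∃ N : Subgroup G, N.Normal ∧ ∀ g : G, g ∈ N ↔ ψ g = ψ 1 := by
  obtain ⟨n, ρ, rfl⟩ := h
  refine ⟨MonoidHom.ker ρ, MonoidHom.normal_ker ρ, fun g => ?_⟩
  rw [MonoidHom.mem_ker, Representation.char_one]
  rw [Cfsg.Agent.S0139.result ρ g]
  rfl

end Cfsg.Agent.Lib.Lead.B3P
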