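import Mathlib
import Cfsg.Prelude.Def_Transfer

set_option autoImplicit false

/-!
# The shape `2^{1+4} . A5` of a centraliser, and its transport along isomorphisms
-/

namespace Cfsg.Agent.Lib.helper23

/-- the centraliser of `t` has a normal extraspecial subgroup of order 32 with quotient the
alternating group of degree five -/
def CentShape {G : Type*} [Group G] (t : G) : Prop :=
  ∃ (Q : Subgroup ↥(Subgroup.centralizer ({t} : Set G))) (_ : Q.Normal),
    Nat.card Q = 32 ∧ Cfsg.IsExtraspecial 2 Q ∧
    Nonempty (↥(Subgroup.centralizer ({t} : Set G)) ⧸ Q ≃* alternatingGroup (Fin 5))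

section

variable {P P' : Type*} [Group P] [Group P']

theorem cs_comap_frattini (e : P ≃* P') : (frattini P').comap e.toMonoidHom = frattini P := by
  apply le_antisymm
  · have h1 : frattini P' ≤ (frattini P).comap e.symm.toMonoidHom :=
      frattini_le_comap_frattini_of_surjective e.symm.surjective
    intro x hx
    have h2 := h1 hx
    rw [Subgroup.mem_comap] at h2
    simpa using h2
  · exact frattini_le_comap_frattini_of_surjective e.surjective

theorem cs_comap_center (e : P ≃* P') :
    (Subgroup.center P').comap e.toMonoidHom = Subgroup.center P := by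
  ext x
  rw [Subgroup.mem_comap, Subgroup.mem_center_iff, Subgroup.mem_center_iff]
  constructor
  · intro h y
    apply e.injective
    rw [map_mul, map_mul]
    exact h (e y)
  · intro h y'
    obtain ⟨y, rfl⟩ := e.surjective y'
    change e y * e x = e x * e y
    rw [← map_mul, ← map_mul, h y]

theorem cs_comap_commutator (e : P ≃* P') :
    (commutator P').comap e.toMonoidHom = commutator P := by
  have h1 : (commutator P).map e.toMonoidHom = commutator P' := by
    rw [map_commutator_eq, commutator_def]
    have : e.toMonoidHom.range = ⊤ := MonoidHom.range_eq_top.mpr e.surjective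
    rw [this]
  rw [← h1, Subgroup.comap_map_eq_self_of_injective e.injective]

theorem cs_xs_of_mulEquiv {p : ℕ} (e : P ≃* P') (h : Cfsg.IsExtraspecial p P) :
    Cfsg.IsExtraspecial p P' := by
  obtain ⟨⟨hp, hf, hk⟩, hc⟩ := h
  have hsurj : Function.Surjective e.toMonoidHom := e.surjective
  refine ⟨⟨hp.of_equiv e, ?_, ?_⟩, ?_⟩
  · apply Subgroup.comap_injective hsurj
    rw [cs_comap_frattini, cs_comap_center, hf]
  · apply Subgroup.comap_injective hsurj
    rw [cs_comap_commutator, cs_comap_center, hk]
  · rw [← hc, ← cs_comap_center e]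
    have hcard : Nat.card ↥((Subgroup.center P').comap e.toMonoidHom) =
        Nat.card ↥(Subgroup.center P') := by
      have hinj : Function.Injective e.toMonoidHom := e.injective
      have := Subgroup.card_map_of_injective (K := (Subgroup.center P').comap e.toMonoidHom)
        hinj
      rw [Subgroup.map_comap_eq_self_of_surjective hsurj] at this
      exact this.symm
    exact hcard.symm

end

/-- the centralisers of corresponding elements -/
def centEquiv {G G' : Type*} [Group G] [Group G'] (e : G ≃* G') (t : G) :
    ↥(Subgroup.centralizer ({t} : Set G)) ≃* ↥(Subgroup.centralizer ({e t} : Set G')) where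
  toFun c := ⟨e c.1, by
    rw [Subgroup.mem_centralizer_iff]
    intro h hh
    rw [Set.mem_singleton_iff] at hh
    subst hh
    have := (Subgroup.mem_centralizer_iff.1 c.2) t rfl
    rw [← map_mul, ← map_mul, this]⟩
  invFun c := ⟨e.symm c.1, by
    rw [Subgroup.mem_centralizer_iff]
    intro h hh
    rw [Set.mem_singleton_iff] at hh
    subst hh
    have := (Subgroup.mem_centralizer_iff.1 c.2) (e h) rfl
    apply e.injective
    rw [map_mul, map_mul, e.apply_symm_apply]
    exact this⟩
  left_inv c := Subtype.ext (e.symm_apply_apply _)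
  right_inv c := Subtype.ext (e.apply_symm_apply _)
  map_mul' a b := Subtype.ext (map_mul e _ _)

theorem CentShape.map {G G' : Type*} [Group G] [Group G'] (e : G ≃* G') {t : G}
    (h : CentShape t) : CentShape (e t) := by
  obtain ⟨Q, hQn, hcard, hxs, ⟨φ⟩⟩ := h
  let ψ := centEquiv e t
  let Q' : Subgroup ↥(Subgroup.centralizer ({e t} : Set G')) := Q.comap ψ.symm.toMonoidHom
  have hQ'n : Q'.Normal := hQn.comap _
  have hmap : Q'.map ψ.symm.toMonoidHom = Q :=
    Subgroup.map_comap_eq_self_of_surjective ψ.symm.surjective Q
  have hinj : Function.Injective ψ.symm.toMonoidHom := ψ.symm.injective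
  -- the isomorphism of `Q'` with `Q`
  let θ : ↥Q' ≃* ↥Q := (MulEquiv.subgroupMap ψ.symm Q').trans (MulEquiv.subgroupCongr hmap)
  refine ⟨Q', hQ'n, ?_, cs_xs_of_mulEquiv θ.symm hxs, ?_⟩
  · rw [← hcard]
    exact Nat.card_congr θ.toEquiv
  · exact ⟨(QuotientGroup.congr Q' Q ψ.symm hmap).trans φ⟩

theorem CentShape.conj {G : Type*} [Group G] {t : G} (h : CentShape t) (c : G) :
    CentShape (c * t * c⁻¹) := by
  have := h.map (MulAut.conj c)
  rwa [MulAut.conj_apply] at this

end Cfsg.Agent.Lib.helper23
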