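import Cfsg.Agent.Lib.helper23.McLD

set_option autoImplicit false

/-!
# Transitivity of the stabiliser of the standard McLaughlin frame on the 275 vectors
-/

namespace Cfsg.Agent.Lib.helper23

open Cfsg
open Cfsg.Agent.Lib.Lead.LX Cfsg.Agent.Lib.Lead.CW Cfsg.Agent.Lib.Lead.CO Cfsg.Agent.Lib.Lead.CP
open Cfsg.Agent.Lib.helper3 Cfsg.Agent.Lib.helper4 Cfsg.Agent.S0398 Cfsg.Agent.S1571
open Cfsg.Agent.Lib.Lead.LC Cfsg.Agent.Lib.Lead.LC3 Cfsg.Agent.Lib.Lead.HS

/-- permutations fixing `∞` and `0` lie in the stabiliser of the standard frame -/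
theorem mcl_rel_perm (π : Equiv.Perm GolayPt) (hπ : π ∈ M24) (h0 : π none = none)
    (h1 : π (some 0) = some 0) (y y' : ↥leechLattice) (h : (permE π hπ) y = y') :
    mclRel y y' := by
  have hU := mcl_perm_fix_U π hπ h1
  have hV := perm_fix π hπ h0 h1
  refine ⟨⟨permE π hπ, permE_mem π hπ⟩, hV, ?_, h⟩
  rw [← mclU_sub_v32, Cfsg.Agent.Lib.Lead.CP.map_sub']
  show (permE π hπ) mclU - (permE π hπ) v32 = mclU - v32
  rw [hU, hV]

theorem mcl_rel_A (y y' : ↥leechLattice) (hy : y ∈ mclFA) (hy' : y' ∈ mclFA) : mclRel y y' := by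
  rw [mem_mclFA] at hy hy'
  obtain ⟨j, hj, rfl⟩ := hy
  obtain ⟨j', hj', rfl⟩ := hy'
  obtain ⟨π, hπ, a, b, c⟩ := exists_perm_h j j' hj hj'
  exact mcl_rel_perm π hπ a b _ _ (mcl_perm_L1 π hπ j j' hj hj' b c)

theorem mcl_rel_B (y y' : ↥leechLattice) (hy : y ∈ mclFB) (hy' : y' ∈ mclFB) : mclRel y y' := by
  rw [mem_mclFB] at hy hy'
  obtain ⟨k, hk, rfl⟩ := hy
  obtain ⟨k', hk', rfl⟩ := hy'
  obtain ⟨π, hπ, a, b, c⟩ := exists_perm_o k k' hk hk'
  exact mcl_rel_perm π hπ a b _ _ (perm_oL π hπ k k' hk hk' c)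

theorem mcl_rel_C (y y' : ↥leechLattice) (hy : y ∈ mclFC) (hy' : y' ∈ mclFC) : mclRel y y' := by
  rw [mem_mclFC] at hy hy'
  obtain ⟨k, hk, rfl⟩ := hy
  obtain ⟨k', hk', rfl⟩ := hy'
  obtain ⟨π, hπ, a, b, c⟩ := mcl_exists_perm_z k k' hk hk'
  exact mcl_rel_perm π hπ a b _ _ (mcl_perm_L3 π hπ k k' hk hk' b c)

theorem mcl_rel_fix_U (g : ↥Co0) (h1 : g.1 v32 = v32) (h2 : g.1 W1 = W1) : g.1 mclU = mclU := by
  unfold mclU
  rw [map_add', h1, h2]

/-- the configuration is stable under the stabiliser of the frame -/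
theorem mcl_rel_mem (x y : ↥leechLattice) (hx : x ∈ mclX mclU v32) (h : mclRel x y) :
    y ∈ mclX mclU v32 := by
  obtain ⟨g, h1, h2, rfl⟩ := h
  have hU := mcl_rel_fix_U g h1 h2
  obtain ⟨a, b, c⟩ := hx
  refine ⟨?_, ?_, ?_⟩
  · rw [g.2.2]
    exact a
  · have : mclU - g.1 x = g.1 (mclU - x) := by rw [Cfsg.Agent.Lib.Lead.CP.map_sub', hU]
    rw [this, g.2.2]
    exact b
  · have := dot_map g v32 x
    rw [h1] at this
    rw [this]
    exact c

theorem mcl_filter_all_or_none (F : Finset ↥leechLattice) (x : ↥leechLattice)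
    [DecidablePred (mclRel x)] (hF : ∀ y ∈ F, ∀ y' ∈ F, mclRel y y') :
    (F.filter (mclRel x)).card = 0 ∨
      ((F.filter (mclRel x)).card = F.card ∧ ∀ y ∈ F, mclRel x y) := by
  by_cases h : ∃ y ∈ F, mclRel x y
  · obtain ⟨y, hy, hxy⟩ := h
    have hall : ∀ y' ∈ F, mclRel x y' := fun y' hy' => hxy.trans (hF y hy y' hy')
    right
    exact ⟨by rw [Finset.filter_true_of_mem hall], hall⟩
  · left
    rw [Finset.card_eq_zero, Finset.filter_eq_empty_iff]
    intro y hy hxy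
    exact h ⟨y, hy, hxy⟩

/-- the stabiliser of the standard frame is transitive on the configuration -/
theorem mcl_frame_trans (x x' : ↥leechLattice) (hx : x ∈ mclX mclU v32)
    (hx' : x' ∈ mclX mclU v32) : mclRel x x' := by
  classical
  have hx0 := (mcl_mem_X0 x).1 hx
  have hdvd := mcl_rel_dvd x hx0.1 hx0.2.2
  have hset : {y | mclRel x y}
      = ↑(((mclFA ∪ mclFB) ∪ mclFC).filter (mclRel x)) := by
    ext y
    rw [Finset.mem_coe, Finset.mem_filter, ← mcl_X0_eq]
    constructor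
    · intro h
      exact ⟨mcl_rel_mem x y hx h, h⟩
    · intro h
      exact h.2
  rw [hset, Set.ncard_coe_finset, Finset.filter_union,
    Finset.card_union_of_disjoint (Finset.disjoint_filter_filter mcl_disj_ABC),
    Finset.filter_union,
    Finset.card_union_of_disjoint (Finset.disjoint_filter_filter mcl_disj_AB)] at hdvd
  have hpos : 0 < (mclFA.filter (mclRel x)).card + (mclFB.filter (mclRel x)).card
      + (mclFC.filter (mclRel x)).card := by
    have hxm : x ∈ ((mclFA ∪ mclFB) ∪ mclFC).filter (mclRel x) := by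
      rw [Finset.mem_filter, ← mcl_X0_eq]
      exact ⟨hx, mclRel.refl x⟩
    have := Finset.card_pos.2 ⟨x, hxm⟩
    rw [Finset.filter_union,
      Finset.card_union_of_disjoint (Finset.disjoint_filter_filter mcl_disj_ABC),
      Finset.filter_union,
      Finset.card_union_of_disjoint (Finset.disjoint_filter_filter mcl_disj_AB)] at this
    exact this
  have hA := mcl_filter_all_or_none mclFA x (fun y hy y' hy' => mcl_rel_A y y' hy hy')
  have hB := mcl_filter_all_or_none mclFB x (fun y hy y' hy' => mcl_rel_B y y' hy hy')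
  have hC := mcl_filter_all_or_none mclFC x (fun y hy y' hy' => mcl_rel_C y y' hy hy')
  rw [card_mclFA] at hA
  rw [card_mclFB] at hB
  rw [card_mclFC] at hC
  rw [mcl_X0_eq] at hx'
  rcases hA with a0 | ⟨a1, fa⟩ <;> rcases hB with b0 | ⟨b1, fb⟩ <;>
    rcases hC with c0 | ⟨c1, fc⟩ <;> first
    | (exfalso; omega)
    | (rcases Finset.mem_union.1 hx' with h | h
       · rcases Finset.mem_union.1 h with h | h
         · exact fa x' h
         · exact fb x' h
       · exact fc x' h)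

/-- the McLaughlin configuration: count and transitivity -/
theorem mcl_main (u v : ↥leechLattice) (hu : sqNorm u.1 = 48) (hv : sqNorm v.1 = 32)
    (huv : sqNorm (u - v).1 = 32) :
    (mclX u v).ncard = 275 ∧ ∀ x ∈ mclX u v, ∀ x' ∈ mclX u v,
      ∃ g : ↥Co0, g.1 u = u ∧ g.1 v = v ∧ g.1 x = x' := by
  have hd : dotInt v.1 (u - v).1 = -8 := by
    have e : u.1 = v.1 + (u - v).1 := by
      show u.1 = v.1 + (u.1 - v.1)
      abel
    have := sqNorm_add v.1 (u - v).1
    rw [← e, hu, hv, huv] at this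
    omega
  obtain ⟨g0, hg1, hg2⟩ := oct_trans v (u - v) hv huv hd
  have hgu : g0.1 u = mclU := by
    have e : u = v + (u - v) := by abel
    rw [e, map_add', hg1, hg2]
    rfl
  have transport : ∀ x : ↥leechLattice, x ∈ mclX u v ↔ g0.1 x ∈ mclX mclU v32 := by
    intro x
    unfold mclX
    rw [Set.mem_ofPred_eq, Set.mem_ofPred_eq, g0.2.2 x, ← hgu, ← Cfsg.Agent.Lib.Lead.CP.map_sub', g0.2.2 (u - x), ← hg1,
      dot_map]
  constructor
  · rw [← mcl_card_X0]
    apply Set.ncard_congr (fun x _ => g0.1 x)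
    · intro x hx
      exact (transport x).1 hx
    · intro a b _ _ h
      exact g0.1.injective h
    · intro y hy
      refine ⟨g0⁻¹.1 y, ?_, apply_inv_apply g0 y⟩
      rw [transport, apply_inv_apply]
      exact hy
  · intro x hx x' hx'
    obtain ⟨k, hk1, hk2, hk3⟩ := mcl_frame_trans _ _ ((transport x).1 hx) ((transport x').1 hx')
    have hkU := mcl_rel_fix_U k hk1 hk2
    refine ⟨g0⁻¹ * k * g0, ?_, ?_, ?_⟩
    · show g0⁻¹.1 (k.1 (g0.1 u)) = u
      rw [hgu, hkU, ← hgu, inv_apply_apply]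
    · show g0⁻¹.1 (k.1 (g0.1 v)) = v
      rw [hg1, hk1, ← hg1, inv_apply_apply]
    · show g0⁻¹.1 (k.1 (g0.1 x)) = x'
      rw [hk3, inv_apply_apply]

end Cfsg.Agent.Lib.helper23
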