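import Mathlib
import Cfsg.Prelude.Def_ChevStructure
import Cfsg.Agent.Lib.helper14.TWI.Defs
import Cfsg.Agent.Lib.helper14.INVLENb
import Cfsg.Agent.Lib.Helper22.TWIM2C
import Cfsg.Agent.Lib.Helper16.TWIORB1

/-! TWI-M2O (helper23): the cell jump `w ↦ s_O w s_O` for an orbit `O`, with the length of the new cell -/

set_option autoImplicit false
set_option linter.unusedVariables false

namespace Cfsg.Agent.Lib.helper14.TWI

open Cfsg.Lie Cfsg.Lie.ChevalleyDatum Cfsg.Agent.Lib.helper8 Cfsg.Agent.Lib.helper14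
  Cfsg.Agent.Lib.helper14.INV

universe u

variable {F : Type u} [Field F]

/-- a tail of an orbit is an orbit -/
theorem twim2o_isOrb_tail (D : ChevalleyDatum) (j : ℕ) (O : List ℕ) (h : IsOrb D (j :: O)) :
    IsOrb D O :=
  ⟨(List.nodup_cons.mp h.1).2, fun k hk => h.2.1 k (List.mem_cons_of_mem _ hk),
    fun a ha b hb hab => h.2.2 a (List.mem_cons_of_mem _ ha) b (List.mem_cons_of_mem _ hb) hab⟩

/-- the reflections of `O` fix a fundamental root orthogonal to all of them -/
theorem twim2o_sW_fix (D : ChevalleyDatum) (O : List ℕ) (r : ℕ)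
    (h : ∀ k ∈ O, D.reflectRoot k r = r) : h8sW D O r = r := by
  induction O with
  | nil => rfl
  | cons k O ih =>
    show D.reflectRoot k (h8sW D O r) = r
    rw [ih (fun a ha => h a (List.mem_cons_of_mem _ ha))]
    exact h k List.mem_cons_self

/-- M2O : the cell jump for an orbit, with the length of the new cell -/
theorem cell_conj_neg_orb (D : ChevalleyDatum) (hB : H8Base.{u} D) (hB0 : H8Base.{0} D)
    (hA : H8ReflAll D) (hC : H8CommAll.{u} D) (hBN : H8BN D) (hW : H8BN2 D) (hO2 : H8Ord2 D)
    (w : List ℕ) (hw : ValidW D w) (y : GL D.Idx F) (hy : InCell D hB y w) (O : List ℕ)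
    (hO : IsOrb D O) (hinv : ∀ r < D.nroots, h8sW D w (h8sW D w r) = r)
    (hpos : ∀ j ∈ O, D.IsPosRoot (h8sW D w (D.simple j)))
    (hne : ∀ j ∈ O, ∀ k ∈ O, h8sW D w (D.simple j) ≠ D.simple k) :
    InCell D hB (xNegO D hB O * y * (xNegO D hB O : GL D.Idx F)⁻¹) (O ++ w ++ O.reverse) ∧
      len D hA (O ++ w ++ O.reverse) = len D hA w + 2 * O.length := by
  induction O with
  | nil =>
    constructor
    · have e : (xNegO D hB ([] : List ℕ) : GL D.Idx F) = 1 := by
        unfold xNegO
        simp
      rw [e, one_mul, inv_one, mul_one]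
      simpa using hy
    · simp
  | cons j O ih =>
    have hO' := twim2o_isOrb_tail D j O hO
    have hjr : j < D.rank := hO.2.1 j List.mem_cons_self
    have hjO : j ∉ O := (List.nodup_cons.mp hO.1).1
    obtain ⟨ih1, ih2⟩ := ih hO' (fun k hk => hpos k (List.mem_cons_of_mem _ hk))
      (fun a ha b hb => hne a (List.mem_cons_of_mem _ ha) b (List.mem_cons_of_mem _ hb))
    have hOv : ValidW D O := fun k hk => hO'.2.1 k hk
    have hOrv : ValidW D O.reverse := fun k hk => hO'.2.1 k (List.mem_reverse.mp hk)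
    obtain ⟨-, o2, o3, o4⟩ := orb_sW D hB0 hA hBN hW hO2 O hO'
    -- the word `w' = O ++ w ++ O.reverse`
    have hv' : ValidW D (O ++ w ++ O.reverse) := by
      intro k hk
      simp only [List.mem_append, List.mem_reverse] at hk
      rcases hk with (hk | hk) | hk
      · exact hO'.2.1 k hk
      · exact hw k hk
      · exact hO'.2.1 k hk
    have hlt : ∀ (v : List ℕ), ValidW D v → ∀ r < D.nroots, h8sW D v r < D.nroots :=
      fun v hv r hr => h8sW_lt D hA v hv r hr
    have hw'eq : ∀ r < D.nroots, h8sW D (O ++ w ++ O.reverse) r =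
        h8sW D O (h8sW D w (h8sW D O r)) := by
      intro r hr
      rw [h8sW_append, h8sW_append, o4 r hr]
    have hinv' : ∀ r < D.nroots,
        h8sW D (O ++ w ++ O.reverse) (h8sW D (O ++ w ++ O.reverse) r) = r := by
      intro r hr
      have h1 : h8sW D O r < D.nroots := hlt O hOv r hr
      have h2 : h8sW D w (h8sW D O r) < D.nroots := hlt w hw _ h1
      have h3 : h8sW D O (h8sW D w (h8sW D O r)) < D.nroots := hlt O hOv _ h2
      rw [hw'eq r hr, hw'eq _ h3, o3 _ h2, hinv _ h1, o3 r hr]
    -- `s_O p_j = p_j`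
    have hpj : D.IsPosRoot (D.simple j) := h8simple_pos D hBN j hjr
    have hfix : h8sW D O (D.simple j) = D.simple j := by
      apply twim2o_sW_fix
      intro k hk
      exact hO.2.2 k (List.mem_cons_of_mem _ hk) j List.mem_cons_self
        (fun h => hjO (h ▸ hk))
    have hrpos : D.IsPosRoot (h8sW D w (D.simple j)) := hpos j List.mem_cons_self
    have hrne : ∀ k ∈ O, h8sW D w (D.simple j) ≠ D.simple k :=
      fun k hk => hne j List.mem_cons_self k (List.mem_cons_of_mem _ hk)
    obtain ⟨p1, p2⟩ := o2 _ hrpos hrne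
    have hw'j : h8sW D (O ++ w ++ O.reverse) (D.simple j) =
        h8sW D O (h8sW D w (D.simple j)) := by
      rw [hw'eq _ hpj.1, hfix]
    have hpos' : D.IsPosRoot (h8sW D (O ++ w ++ O.reverse) (D.simple j)) := by
      rw [hw'j]; exact p1
    have hne' : h8sW D (O ++ w ++ O.reverse) (D.simple j) ≠ D.simple j := by
      rw [hw'j]
      intro h
      have h1 := congrArg (h8sW D O) h
      rw [o3 _ hrpos.1, hfix] at h1
      exact hne j List.mem_cons_self j List.mem_cons_self h1
    have hcell := cell_conj_neg_cell D hB hA hC hBN hW (O ++ w ++ O.reverse) hv' _ ih1 j hjr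
      hinv' hpos' hne'
    have hlen := len_conj_simple_b D hB0 hA hBN hW hO2 (O ++ w ++ O.reverse) hv' j hjr
      hinv' hpos' hne'
    have hword : (j :: O) ++ w ++ (j :: O).reverse = j :: (O ++ w ++ O.reverse ++ [j]) := by
      simp
    have hx : (xNegO D hB (j :: O) : GL D.Idx F) =
        h8xU D hB (D.neg (D.simple j)) (1 : F) * xNegO D hB O := by
      unfold xNegO
      rw [List.map_cons, List.prod_cons]
    constructor
    · rw [hword, hx]
      have e : h8xU D hB (D.neg (D.simple j)) (1 : F) * xNegO D hB O * y *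
          (h8xU D hB (D.neg (D.simple j)) (1 : F) * xNegO D hB O)⁻¹ =
          h8xU D hB (D.neg (D.simple j)) (1 : F) *
            (xNegO D hB O * y * (xNegO D hB O : GL D.Idx F)⁻¹) *
            (h8xU D hB (D.neg (D.simple j)) (1 : F))⁻¹ := by
        group
      rw [e]
      exact hcell
    · rw [hword, hlen, ih2, List.length_cons]
      ring

end Cfsg.Agent.Lib.helper14.TWI
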