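import Mathlib
import Cfsg.Prelude.Def_ChevStructure
import Cfsg.Prelude.Def_LieTwisted
import Cfsg.Agent.Lib.helper14.TWI.D4Defs

/-! TWI-INST0 (helper23): `card K = q ^ 3`, characteristic two, implies that `q` is a prime power -/

set_option autoImplicit false
set_option linter.unusedVariables false

namespace Cfsg.Agent.Lib.helper14.TWI

open Cfsg.Lie Cfsg.Lie.ChevalleyDatum Cfsg.Agent.Lib.helper8 Cfsg.Agent.Lib.helper14
  Cfsg.Agent.Lib.helper14.INV

universe u

variable {K : Type u} [Field K]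

/-- INST0 -/
theorem d4_primePow [Fintype K] [CharP K 2] (q : ℕ) (hK : Fintype.card K = q ^ 3) : IsPrimePow q := by
  obtain ⟨n, h2, hn⟩ := FiniteField.card K 2
  rw [hK] at hn
  have hdvd : q ∣ 2 ^ (n : ℕ) := by
    rw [← hn]
    exact dvd_pow_self q (by norm_num)
  obtain ⟨m, _, hm⟩ := (Nat.dvd_prime_pow h2).1 hdvd
  rw [isPrimePow_nat_iff]
  refine ⟨2, m, h2, ?_, hm.symm⟩
  rcases Nat.eq_zero_or_pos m with h0 | h0
  · exfalso
    rw [h0, pow_zero] at hm
    rw [hm, one_pow] at hn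
    have hpos : 0 < (n : ℕ) := n.pos
    have : 1 < 2 ^ (n : ℕ) := Nat.one_lt_two_pow hpos.ne'
    omega
  · exact h0

end Cfsg.Agent.Lib.helper14.TWI
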