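import Mathlib
import Cfsg.Prelude.Def_ChevStructure
import Cfsg.Prelude.Def_LieTwisted
import Cfsg.Agent.Lib.helper14.TWI.D4Defs
import Cfsg.Agent.Lib.Helper11.INVSTDN

/-! TWI-STDN (helper23): the standard involutions of `D₄` lie in `N` and square to `1` -/

set_option autoImplicit false
set_option linter.unusedVariables false

namespace Cfsg.Agent.Lib.helper14.TWI

open Cfsg.Lie Cfsg.Lie.ChevalleyDatum Cfsg.Agent.Lib.helper8 Cfsg.Agent.Lib.helper14
  Cfsg.Agent.Lib.helper14.INV

universe u

variable {K : Type u} [Field K]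

set_option maxRecDepth 100000 in
/-- the Boolean check of STDN for the three standard sets -/
theorem twistdn_chk : ∀ k < 3, invstdnListChk chevD4 (d4Std.getD k []) = true := by
  decide +kernel

/-- STDN : the standard involutions lie in `N` and square to `1` -/
theorem d4_std_N [CharP K 2] (hB : H8Base.{u} chevD4) (k : ℕ) (hk : k < 3) :
    (n1 chevD4 hB (d4Std.getD k []) : GL chevD4.Idx K) ∈ chevD4.monomialSubgroup K ∧
    (n1 chevD4 hB (d4Std.getD k []) : GL chevD4.Idx K) * n1 chevD4 hB (d4Std.getD k []) = 1 := by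
  have hC := h8commAll.{u} chevD4 (by simp)
  exact invstdn_list chevD4 hB hC _ (twistdn_chk k hk)

end Cfsg.Agent.Lib.helper14.TWI
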