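import Mathlib
import Cfsg.Agent.Lib.helper8.RSM.Defs
import Cfsg.Agent.Lib.helper4.RSMC1

/-! RSM row E2 (`avg_map`), helper23. -/

set_option autoImplicit false

namespace Cfsg.Agent.Lib.helper8.RSM

universe u v w

variable {G : Type u} [Group G] {K : Type v} [Field K] [Fintype K] {m : ℕ}
variable {Γ : Type w} [Group Γ] {σ : Γ →* G}

/-- `N` is multiplicative on powers. -/
theorem rsme2_nrm_pow (a : K) (i : ℕ) : nrm m (a ^ i) = nrm m a ^ i := by
  unfold nrm
  rw [mul_pow, ← pow_mul, ← pow_mul, ← pow_mul, ← pow_mul]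
  congr 2
  ring

/-- the action of `h0 ^ i` on `U` -/
theorem rsme2_h0_pow_conj (RU : ReeU G K m) (i : ℕ) (t u v : K) :
    RU.h0 ^ i * RU.x t u v * (RU.h0 ^ i)⁻¹ =
      RU.x (RU.a0 ^ i * t) (nrm m RU.a0 ^ i * u) ((RU.a0 * nrm m RU.a0) ^ i * v) := by
  induction i with
  | zero => simp
  | succ i ih =>
    have h1 : RU.h0 ^ (i + 1) * RU.x t u v * (RU.h0 ^ (i + 1))⁻¹ =
        RU.h0 * (RU.h0 ^ i * RU.x t u v * (RU.h0 ^ i)⁻¹) * RU.h0⁻¹ := by
      rw [pow_succ']
      group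
    rw [h1, ih, RU.h0_conj]
    apply rsmc1_congr RU <;> ring

/-- E2 [M]. The image of the averaged element: C7, C1 and induction on `n`. -/
theorem avg_map (RU : ReeU G K m) (H0 : Γ) (hH0 : σ H0 = RU.h0) (n : ℕ) (w : Γ) (u v : K)
    (hw : σ w = RU.x 0 u v) :
    σ (avg H0 n w) = RU.x 0 ((∑ i ∈ Finset.range n, nrm m RU.a0 ^ i) * u)
      ((∑ i ∈ Finset.range n, (RU.a0 * nrm m RU.a0) ^ i) * v) := by
  induction n with
  | zero =>
    have h0 : avg H0 0 w = 1 := by simp [avg]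
    rw [h0, map_one, Finset.range_zero, Finset.sum_empty, Finset.sum_empty, zero_mul, zero_mul]
    exact (x_basic RU).1.symm
  | succ n ih =>
    have h1 : avg H0 (n + 1) w = avg H0 n w * (H0 ^ n * w * (H0 ^ n)⁻¹) := by
      unfold avg
      rw [List.range_succ, List.map_append, List.prod_append]
      simp
    rw [h1, map_mul, ih, map_mul, map_mul, map_inv, map_pow, hH0, hw, rsme2_h0_pow_conj,
      mul_zero, rsmc1_right, Finset.sum_range_succ, Finset.sum_range_succ]
    apply rsmc1_congr RU <;> ring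

end Cfsg.Agent.Lib.helper8.RSM
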