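import Mathlib
import Cfsg.Agent.Lib.helper17.OMP.Defs
import Cfsg.Agent.Lib.Helper18.SP4T3

/-!
# Project OMP (designer helper17; S2295), row A11 (`two_all`): CORE (helper23)

Type II at the base pair, all parameters.  Hypotheses: the statements of E3 `hE_conj_tv`, E8 `wE_conj_tv_ab`, A7 `wE_comm_PP`,
A10 `hE_PP_ab`, `hE_PP_fst` (the last three for the given `p Φ y`).
-/

set_option autoImplicit false

namespace Cfsg.Agent.Lib.helper17.OMP

open Matrix Cfsg.Agent.Lib.helper14.CTE Cfsg.Agent.Lib.helper14.CTA Cfsg.Agent.Lib.helper17.SLN Cfsg.Agent.Lib.Helper28.CTD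
  Cfsg.Agent.Lib.helper3.STC Cfsg.Agent.Lib.Lead.STD

universe u v w

section A

variable {F : Type u} [Field F] {G : Type v} [Group G] {ι : Type w} [Fintype ι] [DecidableEq ι]

omit [Fintype ι] [DecidableEq ι] in
/-- conjugates of commuting elements commute -/
theorem ompa11_conj {g a b : G} (h : Commute a b) : Commute (g * a * g⁻¹) (g * b * g⁻¹) := by
  show g * a * g⁻¹ * (g * b * g⁻¹) = g * b * g⁻¹ * (g * a * g⁻¹)
  calc g * a * g⁻¹ * (g * b * g⁻¹) = g * (a * b) * g⁻¹ := by group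
    _ = g * (b * a) * g⁻¹ := by rw [h.eq]
    _ = g * b * g⁻¹ * (g * a * g⁻¹) := by group

theorem ompa11_tv_zero (i j : ι) : (tv i j (0 : F) : Matrix.SpecialLinearGroup ι F) = 1 := by
  have h := tv_add (F := F) i j 0 0
  rw [add_zero] at h
  exact (mul_eq_left.1 h.symm)

/-- the parameters `t` for which `Φ (tv i j t)` commutes with a given element form an additive subgroup -/
def ompa11_centAdd (Φ : Matrix.SpecialLinearGroup ι F →* G) (i j : ι) (Q : G) : AddSubgroup F where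
  carrier := {t | Commute (Φ (tv i j t)) Q}
  zero_mem' := by
    show Commute (Φ (tv i j 0)) Q
    rw [ompa11_tv_zero, map_one]
    exact Commute.one_left Q
  add_mem' := by
    intro a b ha hb
    show Commute (Φ (tv i j (a + b))) Q
    rw [tv_add, map_mul]
    exact Commute.mul_left ha hb
  neg_mem' := by
    intro a ha
    show Commute (Φ (tv i j (-a))) Q
    rw [← tv_inv, map_inv]
    exact Commute.inv_left ha

theorem ompa11_mem_centAdd (Φ : Matrix.SpecialLinearGroup ι F →* G) (i j : ι) (Q : G) (t : F) :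
    t ∈ ompa11_centAdd Φ i j Q ↔ Commute (Φ (tv i j t)) Q := Iff.rfl

theorem ompa11_PP_zero (p : Pts ι) (Φ : Matrix.SpecialLinearGroup ι F →* G) (y : G) (a b k : ι) :
    PP p Φ y a b k 0 = 1 := by
  unfold PP
  rw [ompa11_tv_zero, map_one, mul_one, mul_inv_cancel]

/-- A11, core -/
theorem ompa11_core [Fintype F] (p : Pts ι) (Φ : Matrix.SpecialLinearGroup ι F →* G) (y : G) (H : OG p Φ y)
    (hE3 : ∀ (i j : ι), i ≠ j → ∀ s : F, s ≠ 0 → ∀ a b : ι, a ≠ b → ∀ t : F,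
      (hE i j s : Matrix.SpecialLinearGroup ι F) * tv a b t * (hE i j s)⁻¹ =
        tv a b ((if a = i then s else if a = j then s⁻¹ else 1) * (if b = i then s else if b = j then s⁻¹ else 1)⁻¹ * t))
    (hE8 : ∀ (a b : ι), a ≠ b → ∀ t : F,
      (wE a b : Matrix.SpecialLinearGroup ι F) * tv a b t * (wE a b)⁻¹ = tv b a (-t))
    (hA7 : ∀ (a b k : ι), a ≠ b → a ≠ k → b ≠ k → ∀ t : F, Commute (Φ (wE a b)) (PP p Φ y a b k t))
    (hA10ab : ∀ (a b k : ι), a ≠ b → a ≠ k → b ≠ k → ∀ s : F, s ≠ 0 → ∀ t : F,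
      Commute (Φ (hE a b s)) (PP p Φ y a b k t))
    (hA10fst : ∀ (a b k m : ι), a ≠ b → a ≠ k → b ≠ k → m ≠ a → m ≠ b → ∀ s : F, s ≠ 0 → ∀ t : F,
      Φ (hE a m s) * PP p Φ y a b k t * (Φ (hE a m s))⁻¹ = PP p Φ y a b k (s * t))
    (t u : F) :
    Commute (Φ (tv p.o0 p.o1 t)) (PP p Φ y p.o0 p.o1 p.o2 u) ∧ Commute (Φ (tv p.o1 p.o0 t)) (PP p Φ y p.o0 p.o1 p.o2 u) := by
  have h01 := p.h01
  have h02 := p.h02
  have h12 := p.h12
  have h03 := p.h03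
  have h13 := p.h13
  -- (1) `x_01(t)` commutes with `P 1`
  have hsq : ∀ s : F, s ≠ 0 → Commute (Φ (tv p.o0 p.o1 (s * s))) (PP p Φ y p.o0 p.o1 p.o2 1) := by
    intro s hs
    have hc := hA10ab p.o0 p.o1 p.o2 h01 h02 h12 s hs 1
    have e1 : Φ (hE p.o0 p.o1 s) * PP p Φ y p.o0 p.o1 p.o2 1 * (Φ (hE p.o0 p.o1 s))⁻¹ = PP p Φ y p.o0 p.o1 p.o2 1 := by
      rw [hc.eq, mul_inv_cancel_right]
    have e2 : Φ (hE p.o0 p.o1 s) * Φ (tv p.o0 p.o1 1) * (Φ (hE p.o0 p.o1 s))⁻¹ = Φ (tv p.o0 p.o1 (s * s)) := by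
      rw [← map_inv, ← map_mul, ← map_mul, hE3 p.o0 p.o1 h01 s hs p.o0 p.o1 h01 1]
      rw [if_pos rfl, if_neg h01.symm, if_pos rfl, inv_inv, mul_one]
    have := ompa11_conj (g := Φ (hE p.o0 p.o1 s)) H.two
    rwa [e1, e2] at this
  have h1 : ∀ t : F, Commute (Φ (tv p.o0 p.o1 t)) (PP p Φ y p.o0 p.o1 p.o2 1) := by
    intro t
    rw [← ompa11_mem_centAdd]
    have hle : AddSubgroup.closure (Set.range fun s : Fˣ => ((s : F)) ^ 2) ≤
        ompa11_centAdd Φ p.o0 p.o1 (PP p Φ y p.o0 p.o1 p.o2 1) := by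
      rw [AddSubgroup.closure_le]
      rintro x ⟨s, rfl⟩
      show Commute (Φ (tv p.o0 p.o1 ((s : F) ^ 2))) _
      rw [sq]
      exact hsq s s.ne_zero
    rw [Cfsg.Agent.Lib.helper3.SP4.sq_span] at hle
    exact hle (AddSubgroup.mem_top t)
  -- (2) `x_10(t)` commutes with `P 1`
  have h2 : ∀ t : F, Commute (Φ (tv p.o1 p.o0 t)) (PP p Φ y p.o0 p.o1 p.o2 1) := by
    intro t
    have hc := hA7 p.o0 p.o1 p.o2 h01 h02 h12 1
    have e1 : Φ (wE p.o0 p.o1) * PP p Φ y p.o0 p.o1 p.o2 1 * (Φ (wE p.o0 p.o1))⁻¹ = PP p Φ y p.o0 p.o1 p.o2 1 := by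
      rw [hc.eq, mul_inv_cancel_right]
    have e2 : Φ (wE p.o0 p.o1) * Φ (tv p.o0 p.o1 (-t)) * (Φ (wE p.o0 p.o1))⁻¹ = Φ (tv p.o1 p.o0 t) := by
      rw [← map_inv, ← map_mul, ← map_mul, hE8 p.o0 p.o1 h01 (-t), neg_neg]
    have := ompa11_conj (g := Φ (wE p.o0 p.o1)) (h1 (-t))
    rwa [e1, e2] at this
  -- (3) all `u`
  by_cases hu : u = 0
  · subst hu
    rw [ompa11_PP_zero]
    exact ⟨Commute.one_right _, Commute.one_right _⟩
  · have e1 : Φ (hE p.o0 p.o3 u) * PP p Φ y p.o0 p.o1 p.o2 1 * (Φ (hE p.o0 p.o3 u))⁻¹ = PP p Φ y p.o0 p.o1 p.o2 u := by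
      rw [hA10fst p.o0 p.o1 p.o2 p.o3 h01 h02 h12 h03.symm h13.symm u hu 1, mul_one]
    constructor
    · have e2 : Φ (hE p.o0 p.o3 u) * Φ (tv p.o0 p.o1 (u⁻¹ * t)) * (Φ (hE p.o0 p.o3 u))⁻¹ = Φ (tv p.o0 p.o1 t) := by
        rw [← map_inv, ← map_mul, ← map_mul, hE3 p.o0 p.o3 h03 u hu p.o0 p.o1 h01 (u⁻¹ * t)]
        rw [if_pos rfl, if_neg h01.symm, if_neg h13, inv_one, mul_one, mul_inv_cancel_left₀ hu]
      have := ompa11_conj (g := Φ (hE p.o0 p.o3 u)) (h1 (u⁻¹ * t))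
      rwa [e1, e2] at this
    · have e2 : Φ (hE p.o0 p.o3 u) * Φ (tv p.o1 p.o0 (u * t)) * (Φ (hE p.o0 p.o3 u))⁻¹ = Φ (tv p.o1 p.o0 t) := by
        rw [← map_inv, ← map_mul, ← map_mul, hE3 p.o0 p.o3 h03 u hu p.o1 p.o0 h01.symm (u * t)]
        rw [if_neg h01.symm, if_neg h13, if_pos rfl, one_mul, inv_mul_cancel_left₀ hu]
      have := ompa11_conj (g := Φ (hE p.o0 p.o3 u)) (h2 (u * t))
      rwa [e1, e2] at this

end A

end Cfsg.Agent.Lib.helper17.OMP
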