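import Mathlib
import Cfsg.Agent.Lib.helper17.OMP.Defs
import Cfsg.Agent.Lib.helper23.OMPA11core

/-!
# Project OMP (designer helper17; S2295), row A12 (`two_gen`): CORE (helper23)

Type II everywhere.  Hypotheses: the statements of A11 `two_all`, E9 `exists_Mv3`, E7 `Mv1.conj_tv`, A9 `PP_conj`, A3 `yy_swap`,
A7 `NN_swap` (for the given `p Φ y`).
-/

set_option autoImplicit false

namespace Cfsg.Agent.Lib.helper17.OMP

open Matrix Cfsg.Agent.Lib.helper14.CTE Cfsg.Agent.Lib.helper14.CTA Cfsg.Agent.Lib.helper17.SLN Cfsg.Agent.Lib.Helper28.CTD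
  Cfsg.Agent.Lib.helper3.STC Cfsg.Agent.Lib.Lead.STD

universe u v w

section A

variable {F : Type u} [Field F] {G : Type v} [Group G] {ι : Type w} [Fintype ι] [DecidableEq ι]

/-- A12, core -/
theorem ompa12_core (p : Pts ι) (Φ : Matrix.SpecialLinearGroup ι F →* G) (y : G)
    (hA11 : ∀ t u : F, Commute (Φ (tv p.o0 p.o1 t)) (PP p Φ y p.o0 p.o1 p.o2 u) ∧
      Commute (Φ (tv p.o1 p.o0 t)) (PP p Φ y p.o0 p.o1 p.o2 u))
    (hE9 : ∀ (a b c a' b' c' : ι), a ≠ b → a ≠ c → b ≠ c → a' ≠ b' → a' ≠ c' → b' ≠ c' →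
      ∃ g : Matrix.SpecialLinearGroup ι F, Mv1 g a a' ∧ Mv1 g b b' ∧ Mv1 g c c')
    (hE7 : ∀ {g : Matrix.SpecialLinearGroup ι F} {a b c d : ι}, Mv1 g a c → Mv1 g b d → a ≠ b → c ≠ d → ∀ t : F,
      g * tv a b t * g⁻¹ = tv c d t)
    (hA9 : ∀ (g : Matrix.SpecialLinearGroup ι F) (a b k a' b' k' : ι), a ≠ b → a ≠ k → b ≠ k → a' ≠ b' → a' ≠ k' → b' ≠ k' →
      Mv1 g a a' → Mv1 g b b' → Mv1 g k k' → ∀ t : F, Φ g * PP p Φ y a b k t * (Φ g)⁻¹ = PP p Φ y a' b' k' t)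
    (hA3 : ∀ (i j : ι), i ≠ j → yy p Φ y j i = (yy p Φ y i j)⁻¹)
    (hA7 : ∀ (a b k : ι), a ≠ b → a ≠ k → b ≠ k → ∀ t : F, NN p Φ y b a k (-t) = NN p Φ y a b k t)
    (a b k : ι) (hab : a ≠ b) (hak : a ≠ k) (hbk : b ≠ k) (t u : F) :
    (Commute (Φ (tv a b t)) (PP p Φ y a b k u) ∧ Commute (Φ (tv b a t)) (PP p Φ y a b k u)) ∧
      (Commute (Φ (tv a b t)) (NN p Φ y a b k u) ∧ Commute (Φ (tv b a t)) (NN p Φ y a b k u)) := by
  have hPP : ∀ (a b k : ι), a ≠ b → a ≠ k → b ≠ k → ∀ t u : F,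
      Commute (Φ (tv a b t)) (PP p Φ y a b k u) ∧ Commute (Φ (tv b a t)) (PP p Φ y a b k u) := by
    intro a b k hab hak hbk t u
    obtain ⟨g, ha, hb, hk⟩ := hE9 p.o0 p.o1 p.o2 a b k p.h01 p.h02 p.h12 hab hak hbk
    have e1 : Φ g * PP p Φ y p.o0 p.o1 p.o2 u * (Φ g)⁻¹ = PP p Φ y a b k u :=
      hA9 g p.o0 p.o1 p.o2 a b k p.h01 p.h02 p.h12 hab hak hbk ha hb hk u
    have e2 : Φ g * Φ (tv p.o0 p.o1 t) * (Φ g)⁻¹ = Φ (tv a b t) := by
      rw [← map_inv, ← map_mul, ← map_mul, hE7 ha hb p.h01 hab t]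
    have e3 : Φ g * Φ (tv p.o1 p.o0 t) * (Φ g)⁻¹ = Φ (tv b a t) := by
      rw [← map_inv, ← map_mul, ← map_mul, hE7 hb ha p.h01.symm hab.symm t]
    have c1 := ompa11_conj (g := Φ g) (hA11 t u).1
    have c2 := ompa11_conj (g := Φ g) (hA11 t u).2
    rw [e1, e2] at c1
    rw [e1, e3] at c2
    exact ⟨c1, c2⟩
  have hNN : ∀ (a b k : ι), a ≠ b → a ≠ k → b ≠ k → ∀ t u : F, Commute (Φ (tv a b t)) (NN p Φ y a b k u) := by
    intro a b k hab hak hbk t u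
    have h1 := (hPP a k b hak hab hbk.symm u t).2
    have e0 : yy p Φ y k b = (yy p Φ y b k)⁻¹ := hA3 b k hbk
    have e1 : yy p Φ y b k * PP p Φ y a k b t * (yy p Φ y b k)⁻¹ = Φ (tv a b t) := by
      unfold PP
      rw [e0]
      group
    have e2 : yy p Φ y b k * Φ (tv k a u) * (yy p Φ y b k)⁻¹ = NN p Φ y a b k u := rfl
    have c := ompa11_conj (g := yy p Φ y b k) h1
    rw [e1, e2] at c
    exact c.symm
  refine ⟨hPP a b k hab hak hbk t u, hNN a b k hab hak hbk t u, ?_⟩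
  rw [← hA7 a b k hab hak hbk u]
  exact hNN b a k hab.symm hbk hak t (-u)

end A

end Cfsg.Agent.Lib.helper17.OMP
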