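import Mathlib
import Cfsg.Agent.Lib.helper8.RSM.Defs

/-! RSM row E1 (`torus_lift`), helper23. -/

set_option autoImplicit false

namespace Cfsg.Agent.Lib.helper8.RSM

universe u v w

variable {G : Type u} [Group G] {K : Type v} [Field K] [Fintype K] {m : ℕ}
variable {Γ : Type w} [Group Γ] {σ : Γ →* G}

/-- E1 [S-M]. A lift `g` of `h0` has `g ^ (q - 1) ∈ σ.ker`; `H0 = g ^ q` (`q ≡ 1 mod (q - 1)`,
`3 ∣ q`). -/
theorem torus_lift (RU : ReeU G K m) (hs : Function.Surjective σ) (h3 : ∀ κ ∈ σ.ker, κ ^ 3 = 1) :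
    ∃ H0 : Γ, σ H0 = RU.h0 ∧ H0 ^ (3 ^ (2 * m + 1) - 1) = 1 := by
  obtain ⟨g, hg⟩ := hs RU.h0
  have hq1 : 1 ≤ 3 ^ (2 * m + 1) := Nat.one_le_pow _ _ (by norm_num)
  have hq : 3 ^ (2 * m + 1) = (3 ^ (2 * m + 1) - 1) + 1 := (Nat.sub_add_cancel hq1).symm
  have hker : g ^ (3 ^ (2 * m + 1) - 1) ∈ σ.ker := by
    rw [MonoidHom.mem_ker, map_pow, hg]
    exact RU.h0_pow
  have hk3 : (g ^ (3 ^ (2 * m + 1) - 1)) ^ 3 = 1 := h3 _ hker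
  refine ⟨g ^ 3 ^ (2 * m + 1), ?_, ?_⟩
  · rw [map_pow, hg]
    conv_lhs => rw [hq]
    rw [pow_succ, RU.h0_pow, one_mul]
  · rw [← pow_mul, mul_comm, pow_mul]
    generalize g ^ (3 ^ (2 * m + 1) - 1) = k at hk3 ⊢
    have h2 : 3 ^ (2 * m + 1) = 3 * 3 ^ (2 * m) := by rw [pow_succ, mul_comm]
    rw [h2, pow_mul, hk3, one_pow]

end Cfsg.Agent.Lib.helper8.RSM
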