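import Mathlib
import Cfsg.Agent.Lib.helper2.MI2.Defs

/-!
# MI2 row D1 (helper23): `|X| |X^⊥| = 2^(2m)` for a subspace `X` of `V m` — `card_perp` VERBATIM from `helper2/MI2/Skel.lean.txt`.
-/

set_option autoImplicit false
set_option linter.unusedVariables false
set_option linter.unusedSectionVars false

namespace Cfsg.Agent.Lib.helper2.MI2

open Matrix

variable {m : ℕ}

/-- the symplectic form over `ZMod 2` as a bilinear form is nondegenerate -/
theorem mi2d1_nondeg (m : ℕ) : (Cfsg.Agent.Lib.helper6.SB.sB m (ZMod 2)).Nondegenerate := by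
  constructor
  · intro x hx
    by_contra hne
    obtain ⟨y, hy⟩ := Cfsg.Agent.Lib.helper6.sympForm_nondeg m x hne
    apply hy
    have := hx y
    rwa [Cfsg.Agent.Lib.helper6.SB.sB_apply] at this
  · intro y hy
    by_contra hne
    obtain ⟨x, hx⟩ := Cfsg.Agent.Lib.helper6.sympForm_nondeg m y hne
    apply hx
    have h1 := hy x
    rw [Cfsg.Agent.Lib.helper6.SB.sB_apply] at h1
    have h2 : ff x y = 0 := h1
    have h3 : ff y x = 0 := by rw [ff_comm]; exact h2
    exact h3

/-- `perp X` is the carrier of the orthogonal complement -/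
theorem mi2d1_perp_eq (X : Submodule (ZMod 2) (V m)) :
    perp (X : Set (V m)) = (((Cfsg.Agent.Lib.helper6.SB.sB m (ZMod 2)).orthogonal X : Submodule (ZMod 2) (V m)) : Set (V m)) := by
  ext y
  simp only [perp, Set.mem_ofPred_eq, SetLike.mem_coe, LinearMap.BilinForm.mem_orthogonal_iff,
    Cfsg.Agent.Lib.helper6.SB.sB_apply]
  rfl

theorem mi2d1_card_sub (W : Submodule (ZMod 2) (V m)) : Nat.card W = 2 ^ Module.finrank (ZMod 2) W := by
  rw [Module.natCard_eq_pow_finrank (K := ZMod 2) (V := W), Nat.card_zmod]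

theorem mi2d1_finrank_V (m : ℕ) : Module.finrank (ZMod 2) (V m) = 2 * m := by
  rw [Module.finrank_fintype_fun_eq_card, Fintype.card_sum, Fintype.card_fin]
  ring

/-- **D1** [M-H] `|X| |X^⊥| = 2^(2m)` for a subspace `X`. -/
theorem card_perp (X : Submodule (ZMod 2) (V m)) :
    Nat.card X * Nat.card (perp (X : Set (V m))) = 2 ^ (2 * m) := by
  rw [mi2d1_perp_eq X]
  have h1 := LinearMap.BilinForm.finrank_orthogonal (mi2d1_nondeg m) X
  have h2 : Module.finrank (ZMod 2) X ≤ Module.finrank (ZMod 2) (V m) := Submodule.finrank_le X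
  rw [mi2d1_finrank_V] at h1 h2
  have h3 : Nat.card (((Cfsg.Agent.Lib.helper6.SB.sB m (ZMod 2)).orthogonal X : Submodule (ZMod 2) (V m)) : Set (V m))
      = 2 ^ Module.finrank (ZMod 2) ((Cfsg.Agent.Lib.helper6.SB.sB m (ZMod 2)).orthogonal X) :=
    mi2d1_card_sub _
  rw [h3, mi2d1_card_sub X, h1, ← pow_add]
  congr 1
  exact Nat.add_sub_of_le h2

end Cfsg.Agent.Lib.helper2.MI2
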