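import Mathlib
import Cfsg.Agent.Lib.helper2.MI2.Defs

/-!
# MI2 row I3 (helper23): `|X_v(H)| = 2 |H ∩ Q_v|` when `tv v ∉ H` — `card_XA` VERBATIM from `helper2/MI2/Skel.lean.txt`.
-/

set_option autoImplicit false
set_option linter.unusedVariables false
set_option linter.unusedSectionVars false

namespace Cfsg.Agent.Lib.helper2.MI2

open Matrix

variable {m : ℕ}

theorem mi2i3_z2c : ∀ c c' : ZMod 2, c ≠ c' → c + c' = 1 := by decide

theorem mi2i3_qe_zero_one (v : V m) : qe v 0 1 = tv v := by
  unfold qe; rw [sg_zero_right, one_mul, tvc_one]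

/-- the `c` with `qe v w c ∈ H` is unique when `tv v ∉ H` -/
theorem mi2i3_c_unique (H : Subgroup (G m)) {v w : V m} (htv : tv v ∉ H) (h : ff v w = 0) {c c' : ZMod 2}
    (hc : qe v w c ∈ H) (hc' : qe v w c' ∈ H) : c = c' := by
  by_contra hne
  have hmul := H.mul_mem hc hc'
  rw [qe_mul h h, v_add_self, ff_self, add_zero] at hmul
  have h1 : c + c' = 1 := mi2i3_z2c c c' hne
  rw [h1, mi2i3_qe_zero_one] at hmul
  exact htv hmul

theorem mi2i3_z2a : ∀ a b : ZMod 2, a ≠ b → 1 + a = b := by decide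
theorem mi2i3_z2b : ∀ a : ZMod 2, 1 + a ≠ a := by decide

/-- **I3** [M] `|X_v(H)| = 2 |H ∩ Q_v|` when `tv v ∉ H`. -/
theorem card_XA (H : Subgroup (G m)) {v : V m} (hv : v ≠ 0) (htv : tv v ∉ H) :
    Nat.card (XA H v) = 2 * Nat.card ↥(H ⊓ Qv v) := by
  classical
  obtain ⟨x, hx⟩ := exists_ff_eq_one hv
  have hxv : ff x v = 1 := by rw [ff_comm]; exact hx
  -- the map
  let f : XA H v → ↥(H ⊓ Qv v) × ZMod 2 := fun w =>
    (⟨qe v w.1 (Classical.choose w.2.2), ⟨Classical.choose_spec w.2.2, qe_mem_Qv w.2.1 _⟩⟩, ff x w.1)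
  have hf : Function.Bijective f := by
    constructor
    · rintro ⟨w, hw⟩ ⟨w', hw'⟩ he
      have he1 : qe v w (Classical.choose hw.2) = qe v w' (Classical.choose hw'.2) :=
        congrArg (fun p => (p.1 : G m)) he
      have he2 : ff x w = ff x w' := congrArg (fun p => p.2) he
      rcases ((qe_eq_iff hv hw.1 hw'.1 _ _).1 he1).1 with h1 | h1
      · exact Subtype.ext h1.symm
      · exfalso
        rw [h1, ff_add_right, hxv] at he2
        exact mi2i3_z2b _ he2.symm
    · rintro ⟨⟨g, hgH, hgQ⟩, b⟩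
      obtain ⟨w, c, hw, rfl⟩ := hgQ
      by_cases hb : ff x w = b
      · have hwX : w ∈ XA H v := ⟨hw, c, hgH⟩
        refine ⟨⟨w, hwX⟩, ?_⟩
        have hcc : Classical.choose hwX.2 = c :=
          mi2i3_c_unique H htv hw (Classical.choose_spec hwX.2) hgH
        apply Prod.ext
        · apply Subtype.ext
          show qe v w (Classical.choose hwX.2) = qe v w c
          rw [hcc]
        · exact hb
      · have hw2 : ff v (v + w) = 0 := by rw [ff_add_right, ff_self, hw, add_zero]
        have hq : qe v (v + w) c = qe v w c := qe_add_self hw c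
        have hwX : v + w ∈ XA H v := ⟨hw2, c, by rw [hq]; exact hgH⟩
        refine ⟨⟨v + w, hwX⟩, ?_⟩
        have hcc : Classical.choose hwX.2 = c :=
          mi2i3_c_unique H htv hw2 (Classical.choose_spec hwX.2) (by rw [hq]; exact hgH)
        apply Prod.ext
        · apply Subtype.ext
          show qe v (v + w) (Classical.choose hwX.2) = qe v w c
          rw [hcc, hq]
        · show ff x (v + w) = b
          rw [ff_add_right, hxv]
          exact mi2i3_z2a _ _ hb
  rw [Nat.card_eq_of_bijective f hf, Nat.card_prod, Nat.card_zmod, mul_comm]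

end Cfsg.Agent.Lib.helper2.MI2
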