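import Cfsg.Agent.Lib.helper23.A8wChk

set_option autoImplicit false
set_option maxRecDepth 1000000
set_option Elab.async false

/-!
# The split extension `2^6 : A8` on 64 points: centralisers of the representatives
-/

namespace Cfsg.Agent.Lib.helper23

theorem a8wcent7A : pgEnumM 64 6 (pgCentPrune (a8wlk a8wR7A))
    (pgCentTest 64 6 (a8wlk a8wR7A) a8wKs) a8wC 2 (fun p => p) [] = true := by decide +kernel

theorem a8wcent5A : pgEnumM 64 6 (pgCentPrune (a8wlk a8wR5A))
    (pgCentTest 64 6 (a8wlk a8wR5A) a8wKs) a8wC 2 (fun p => p) [] = true := by decide +kernel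

theorem a8wcent3B : pgEnumM 64 6 (pgCentPrune (a8wlk a8wR3B))
    (pgCentTest 64 6 (a8wlk a8wR3B) a8wKs) a8wC 2 (fun p => p) [] = true := by decide +kernel

theorem a8wcent3A : pgEnumM 64 6 (pgCentPrune (a8wlk a8wR3A))
    (pgCentTest 64 6 (a8wlk a8wR3A) a8wKs) a8wC 2 (fun p => p) [] = true := by decide +kernel

end Cfsg.Agent.Lib.helper23
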