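import Cfsg.Agent.Lib.helper23.A8wData

set_option autoImplicit false
set_option maxRecDepth 1000000
set_option Elab.async false

/-!
# The split extension `2^6 : A8` on 64 points: the checks
-/

namespace Cfsg.Agent.Lib.helper23

/-- the exponents -/
def a8wKs : List ℕ := [7, 8, 10, 12, 15]

/-! ### The chains -/

theorem a8wchk : pgChkW 64 (List.range 64) a8wC = true := by decide +kernel
theorem a8word : pgOrdW 64 a8wC = 2 ^ 12 * 3 ^ 2 * 5 ^ 1 * 7 ^ 1 := by decide +kernel

theorem a8wS2chk : pgChkW 64 (List.range 64) a8wS2C = true := by decide +kernel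
theorem a8wS3chk : pgChkW 64 (List.range 64) a8wS3C = true := by decide +kernel
theorem a8wS5chk : pgChkW 64 (List.range 64) a8wS5C = true := by decide +kernel
theorem a8wS7chk : pgChkW 64 (List.range 64) a8wS7C = true := by decide +kernel
theorem a8wNchk : pgChkW 64 (List.range 64) a8wNC = true := by decide +kernel

theorem a8wS2ord : pgOrdW 64 a8wS2C = 2 ^ 12 := by decide +kernel
theorem a8wS3ord : pgOrdW 64 a8wS3C = 3 ^ 2 := by decide +kernel
theorem a8wS5ord : pgOrdW 64 a8wS5C = 5 ^ 1 := by decide +kernel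
theorem a8wS7ord : pgOrdW 64 a8wS7C = 7 ^ 1 := by decide +kernel
theorem a8wNord : pgOrdW 64 a8wNC = 64 := by decide +kernel

/-! ### The generators of the subgroups and the representatives lie in the group -/

theorem a8wS2sift : pgAllL a8wS2L1.own (fun s => pgSiftW 64 (List.range 64) a8wC s.f) = true := by
  decide +kernel
theorem a8wS3sift : pgAllL a8wS3L1.own (fun s => pgSiftW 64 (List.range 64) a8wC s.f) = true := by
  decide +kernel
theorem a8wS5sift : pgAllL a8wS5L1.own (fun s => pgSiftW 64 (List.range 64) a8wC s.f) = true := by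
  decide +kernel
theorem a8wS7sift : pgAllL a8wS7L1.own (fun s => pgSiftW 64 (List.range 64) a8wC s.f) = true := by
  decide +kernel
theorem a8wNsift : pgAllL a8wNL1.own (fun s => pgSiftW 64 (List.range 64) a8wC s.f) = true := by
  decide +kernel

/-- the representatives -/
def a8wReps : List PFun := [a8wgen a8wR3A a8wRi3A, a8wgen a8wR3B a8wRi3B, a8wgen a8wR5A a8wRi5A,
  a8wgen a8wR7A a8wRi7A]

theorem a8wRepsOk : pgAllL a8wReps (fun s => s.ok 64 &&
    pgSiftW 64 (List.range 64) a8wC s.f) = true := by
  decide +kernel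

/-! ### The elements of the subgroups -/

theorem a8wS2test : pgEnumM 64 6 pgNoPrune (pgExpTest 64 6 [8]) a8wS2C 0 (fun p => p) [] =
    true := by
  decide +kernel

theorem a8wS3test : pgEnumM 64 6 pgNoPrune (pgConjTest 64 6 a8wL1.own a8wCert3) a8wS3C 0
    (fun p => p) [] = true := by
  decide +kernel

theorem a8wS5test : pgEnumM 64 6 pgNoPrune (pgConjTest 64 6 a8wL1.own a8wCert5) a8wS5C 0
    (fun p => p) [] = true := by
  decide +kernel

theorem a8wS7test : pgEnumM 64 6 pgNoPrune (pgConjTest 64 6 a8wL1.own a8wCert7) a8wS7C 0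
    (fun p => p) [] = true := by
  decide +kernel

theorem a8wNtest : pgEnumM 64 6 pgNoPrune (pgExpTest 64 6 [2]) a8wNC 0 (fun p => p) [] =
    true := by
  decide +kernel

/-! ### The subgroup of order 64 is normal -/

theorem a8wNnorm : pgAllL a8wL1.own (fun s => pgAllL a8wNL1.own (fun t =>
    pgSiftW 64 (List.range 64) a8wNC (fun p => s.f (t.f (s.g p))) &&
    pgSiftW 64 (List.range 64) a8wNC (fun p => s.g (t.f (s.f p))))) = true := by
  decide +kernel

/-! ### Words of given orders -/

theorem a8wWitOk : pgAllL a8wWit (fun kw => Nat.blt 0 kw.1 && pgOrdTest 64 a8wL1.own kw.1 kw.2) =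
    true := by
  decide +kernel

end Cfsg.Agent.Lib.helper23
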