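import Cfsg.Agent.Lib.helper23.PgU

set_option autoImplicit false
set_option maxRecDepth 100000

namespace Cfsg.Agent.Lib.helper23

/-! ### The split extension of the six-dimensional module by the alternating group of degree 8,
on 64 points: data -/

/-- lookup in a packed table, 6 bits per entry -/
def a8wlk (T i : ℕ) : ℕ := Nat.land (Nat.shiftRight T (Nat.mul 6 i)) 63

/-- a generator from its table and the table of its inverse -/
def a8wgen (T T' : ℕ) : PFun := ⟨fun i => a8wlk T i, fun i => a8wlk T' i⟩

/-- the word of a point -/
def a8wpath (l : List (List ℕ)) (z : ℕ) : List ℕ := l.getD z []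

/-- the group, level 1: orbit -/
def a8wM1 : ℕ := 18446744073709551615

/-- the group, level 1: words -/
def a8wP1 : List (List ℕ) := [[], [2], [1, 2], [0, 2], [1, 1, 2], [3, 1, 0, 2], [1, 0, 2], [2, 1, 0, 2], [1, 1, 1, 2], [0, 1, 1, 1, 2], [1, 3, 1, 0, 2], [2, 1, 3, 1, 0, 2], [1, 1, 0, 2], [2, 1, 1, 0, 2], [1, 2, 1, 0, 2], [0, 2, 1, 1, 0, 2], [4, 4, 4, 2], [4, 3, 4, 4, 2], [3, 4, 4, 4, 2], [2, 3, 4, 4, 4, 2], [1, 1, 3, 1, 0, 2], [2, 1, 1, 3, 1, 0, 2], [1, 2, 1, 3, 1, 0, 2], [4, 2, 4, 4, 3, 4, 2], [1, 1, 1, 0, 2], [2, 1, 1, 1, 0, 2], [1, 2, 1, 1, 0, 2], [0, 2, 1, 1, 1, 0, 2], [1, 1, 2, 1, 0, 2], [3, 2, 4, 4, 0, 2], [2, 4, 4, 0, 2], [4, 4, 0, 2], [4, 4, 2], [4, 3, 4, 2], [3, 4, 4, 2], [2, 3, 4, 4, 2], [1, 3, 4, 4, 4, 2], [2, 1, 3, 4, 4, 4, 2], [1, 2, 3, 4, 4, 4, 2], [4, 2, 4, 4, 4, 0, 2], [4, 4, 4, 3, 4, 2], [2, 4, 4, 4, 3, 4, 2], [1, 2, 1, 1, 3, 1, 0, 2], [0, 2, 4, 4, 4, 3, 4, 2], [0, 2, 4, 4, 3, 4, 2], [3, 2, 4, 4, 3, 4, 2], [2, 4, 4, 3, 4, 2], [4, 4, 3, 4, 2], [4, 4, 4, 0, 2], [2, 4, 4, 4, 0, 2], [1, 2, 1, 1, 1, 0, 2], [4, 2, 1, 1, 1, 0, 2], [1, 1, 2, 1, 1, 0, 2], [0, 1, 1, 2, 1,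 1, 0, 2], [2, 4, 4, 3, 4, 4, 2], [4, 4, 3, 4, 4, 2], [4, 0, 2, 1, 1, 0, 2], [4, 2, 1, 1, 0, 2], [2, 1, 3, 4, 4, 2], [1, 3, 4, 4, 2], [2, 3, 4, 2], [3, 4, 2], [4, 0, 2], [4, 2]]

/-- the group, level 1: generator 0 -/
def a8wT1x0 : ℕ := 38767103392266797231984903023331578145532315170042945024157380426451662558332764196644938411784756718803943655215296

/-- the group, level 1: inverse of generator 0 -/
def a8wI1x0 : ℕ := 38170536000116515923991826705113013552403013131716670982284112312863655120273872028280233057649929805789290624725120

/-- the group, level 1: generator 1 -/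
def a8wT1x1 : ℕ := 645283548189881871705250089823465582597677765830247929809883494744530684242856735294343216666468068040224051576960

/-- the group, level 1: inverse of generator 1 -/
def a8wI1x1 : ℕ := 20004243484008506970341092750908264845170491766896284778509854710157414698273868895215847786682175110495142218833856

/-- the group, level 1: generator 2 -/
def a8wT1x2 : ℕ := 38785894046477796734063897174144120276038548239137820597213547525249938134362416931136555728799268220627106168057857

/-- the group, level 1: inverse of generator 2 -/
def a8wI1x2 : ℕ := 38785894046477796734063897174144120276038548239137820597213547525249938134362416931136555728799268220627106168057857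

/-- the group, level 1 -/
def a8wL1 : PgLvlW := ⟨0, pgBit a8wM1, a8wpath a8wP1, [a8wgen a8wT1x0 a8wI1x0, a8wgen a8wT1x1 a8wI1x1, a8wgen a8wT1x2 a8wI1x2], [[5, 3, 4, 4, 5, 4, 4, 3, 5, 1, 1, 2, 1, 1, 0, 2, 5, 1, 0, 1, 1, 1, 4, 4, 4, 3, 4, 2], [5, 4, 4, 2, 3, 1, 0, 2, 5, 1, 0, 0, 4, 0, 2]]⟩

/-- the group, level 2: orbit -/
def a8wM2 : ℕ := 16753814026744960894

/-- the group, level 2: words -/
def a8wP2 : List (List ℕ) := [[], [], [3, 3, 2, 1, 1], [3, 2, 1, 1], [1, 1, 1, 0, 1, 1], [1, 2, 3, 3, 2, 1, 1], [0, 3, 3, 3], [], [2, 3, 3, 2, 1, 1], [0, 3, 0, 1, 1], [0, 1, 1, 1], [], [3, 3, 3], [], [], [], [3, 0, 3, 0, 1, 1], [3, 0, 1, 1], [2, 1, 1, 1], [], [1, 0, 1, 1], [], [], [], [1, 1, 1], [], [], [], [], [], [], [3, 3, 0, 3, 0, 1, 1], [3, 3, 0, 1, 1], [1], [2, 1, 1], [], [1, 0, 3, 0, 1, 1], [], [], [], [0, 1, 1], [], [], [], [], [], [], [2, 1, 1, 0, 1, 1], [1, 1], [], [], [], [], [], [], [1, 1, 0, 1, 1], [], [], [], [3, 3], [], [1, 0, 3, 3, 3], [3, 3, 3, 0, 1, 1], [3]]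

/-- the group, level 2: generator 0 -/
def a8wT2x0 : ℕ := 39389941583313861606486776568347405900654998636240984855807863135439633516541462129150000270774420956941220225286208

/-- the group, level 2: inverse of generator 0 -/
def a8wI2x0 : ℕ := 39391162825529664600658918079967145054704856647824684396293272703294218958964866943290348581010436303909004857606208

/-- the group, level 2: generator 1 -/
def a8wT2x1 : ℕ := 923869662258440572309306898624606676134086402886554659264951399878576218779427616315013999863422126317138935822400

/-- the group, level 2: inverse of generator 1 -/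
def a8wI2x1 : ℕ := 36363239161291166874618003656693033487689124519086610340313315629211265238298838266910285740279730278955489159798720

/-- the group, level 2 -/
def a8wL2 : PgLvlW := ⟨1, pgBit a8wM2, a8wpath a8wP2, [a8wgen a8wT2x0 a8wI2x0, a8wgen a8wT2x1 a8wI2x1], [[1, 3, 3, 3, 0, 1, 1, 0, 1, 2, 1, 1, 0, 1, 1], [3, 3, 2, 3, 2, 3, 3, 3, 3, 3, 2, 1, 2, 1, 1, 3, 3, 0, 3, 0, 1, 1]]⟩

/-- the group, level 3: orbit -/
def a8wM3 : ℕ := 13835058068167263036

/-- the group, level 3: words -/
def a8wP3 : List (List ℕ) := [[], [], [], [0, 1, 0, 0], [2, 2], [3, 0], [], [], [1, 0, 0], [2], [], [], [], [], [], [], [0, 0], [3, 2], [], [], [], [], [], [], [], [], [], [], [], [], [], [], [3, 0, 0], [1, 0], [], [], [], [], [], [], [], [], [], [], [], [], [], [], [], [], [], [], [], [], [], [], [], [], [], [], [], [], [0], [1, 2, 2]]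

/-- the group, level 3: generator 0 -/
def a8wT3x0 : ℕ := 10627245327053516274336054582131054462306386717415768894095794190421283526211320928817207836160062319002050518573120

/-- the group, level 3: inverse of generator 0 -/
def a8wI3x0 : ℕ := 1867738470637949005291457018844524426153244112647319700484028774815964632332230353156474666366565559693474835501120

/-- the group, level 3: generator 1 -/
def a8wT3x1 : ℕ := 20023644684716489161697463885751169658325886979171999183379243887811477375937010761221712307358636524299259187306560

/-- the group, level 3: inverse of generator 1 -/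
def a8wI3x1 : ℕ := 2511642267452902337035616650608609491615426411321626855433028737502964798726212467143358700675239770821313589682240

/-- the group, level 3 -/
def a8wL3 : PgLvlW := ⟨2, pgBit a8wM3, a8wpath a8wP3, [a8wgen a8wT3x0 a8wI3x0, a8wgen a8wT3x1 a8wI3x1], [[2, 3, 1, 0, 2, 2, 3, 0, 3, 0], [0, 0, 2, 2, 0, 0, 3, 3, 3, 0, 0]]⟩

/-- the group, level 4: orbit -/
def a8wM4 : ℕ := 9223372041149808912

/-- the group, level 4: words -/
def a8wP4 : List (List ℕ) := [[], [], [], [], [], [], [], [], [0], [], [], [], [], [], [], [], [1], [], [], [], [], [], [], [], [], [], [], [], [], [], [], [], [2], [], [], [], [], [], [], [], [], [], [], [], [], [], [], [], [], [], [], [], [], [], [], [], [], [], [], [], [], [], [], [0, 1]]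

/-- the group, level 4: generator 0 -/
def a8wT4x0 : ℕ := 20023645021406004209159634472633906816445845826420956394322114667063419640273414472998012904676984065493054775894080

/-- the group, level 4: inverse of generator 0 -/
def a8wI4x0 : ℕ := 10016787199544183252811430924521274315120394603341933122824379216981982124694026772040227891733661449724752772735040

/-- the group, level 4: generator 1 -/
def a8wT4x1 : ℕ := 39392078309850149166343602972631302944566728313516133761139218867999718959484983107916410904134458078511388919865408

/-- the group, level 4: inverse of generator 1 -/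
def a8wI4x1 : ℕ := 39392078608077734285546854567225472660127693542671002187433876926346798333347245016098990289888947196387935356985408

/-- the group, level 4 -/
def a8wL4 : PgLvlW := ⟨4, pgBit a8wM4, a8wpath a8wP4, [a8wgen a8wT4x0 a8wI4x0, a8wgen a8wT4x1 a8wI4x1], [[0, 2, 2, 2, 1], [0, 3, 2, 2, 3]]⟩

/-- the group, level 5: orbit -/
def a8wM5 : ℕ := 9223372041149808896

/-- the group, level 5: words -/
def a8wP5 : List (List ℕ) := [[], [], [], [], [], [], [], [], [], [], [], [], [], [], [], [], [1], [], [], [], [], [], [], [], [], [], [], [], [], [], [], [], [3], [], [], [], [], [], [], [], [], [], [], [], [], [], [], [], [], [], [], [], [], [], [], [], [], [], [], [], [], [], [], [0]]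

/-- the group, level 5: generator 0 -/
def a8wT5x0 : ℕ := 5013356797475322666423480261322186313512545711773731643953111534367668637199769485769171899746024906985592232616000

/-- the group, level 5: inverse of generator 0 -/
def a8wI5x0 : ℕ := 5013356797475322666423480261322186313512545711773731643953111534367668637199769485769171899746024906985592232616000

/-- the group, level 5: generator 1 -/
def a8wT5x1 : ℕ := 39392078757191540176962421898787245177116158770741974866523796290965460739884535139118743875928909752929476957446208

/-- the group, level 5: inverse of generator 1 -/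
def a8wI5x1 : ℕ := 39392078757191504625458577806972679653530617008398865847890873941663193230472843009892504274407467047799695627526208

/-- the group, level 5 -/
def a8wL5 : PgLvlW := ⟨8, pgBit a8wM5, a8wpath a8wP5, [a8wgen a8wT5x0 a8wI5x0, a8wgen a8wT5x1 a8wI5x1], [[2, 0, 1, 2, 1], [2, 1, 0, 2, 0]]⟩

/-- the group, level 6: orbit -/
def a8wM6 : ℕ := 9223372041149808640

/-- the group, level 6: words -/
def a8wP6 : List (List ℕ) := [[], [], [], [], [], [], [], [], [], [], [], [], [], [], [], [], [], [], [], [], [], [], [], [], [], [], [], [], [], [], [], [], [0], [], [], [], [], [], [], [], [], [], [], [], [], [], [], [], [], [], [], [], [], [], [], [], [], [], [], [], [], [], [], [1]]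

/-- the group, level 6: generator 0 -/
def a8wT6x0 : ℕ := 10016786155747550900778420625232100819255863406196084906547011368491590617028172387010783736919851964907613273727040

/-- the group, level 6: inverse of generator 0 -/
def a8wI6x0 : ℕ := 20023644872292180541992145094849090756406685069663915539683353913743303362553253207407006199776875068368259899990080

/-- the group, level 6: generator 1 -/
def a8wT6x1 : ℕ := 20023644872292180541992145094849090756406685069663915539683353913743303362553253207407006199776875068368259899990080

/-- the group, level 6: inverse of generator 1 -/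
def a8wI6x1 : ℕ := 10016786155747550900778420625232100819255863406196084906547011368491590617028172387010783736919851964907613273727040

/-- the group, level 6 -/
def a8wL6 : PgLvlW := ⟨16, pgBit a8wM6, a8wpath a8wP6, [a8wgen a8wT6x0 a8wI6x0, a8wgen a8wT6x1 a8wI6x1], []⟩

/-- the group: the chain -/
def a8wC : List PgLvlW := [a8wL1, a8wL2, a8wL3, a8wL4, a8wL5, a8wL6]

/-- representative of the class 3A -/
def a8wR3A : ℕ := 39372992114369918237811518624574212285913592553000379017574832421181980696833633984579909576051713523829657945505921

/-- the inverse of the representative of the class 3A -/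
def a8wRi3A : ℕ := 39382313444322757935645057907598281833165567897631538969119016302324291397275611604150175386183843415840719205306370

/-- representative of the class 3B -/
def a8wR3B : ℕ := 10035873729401086150783517552656223136804620189902387351837510746953424908509663731038994340980549005332454849642625

/-- the inverse of the representative of the class 3B -/
def a8wRi3B : ℕ := 2521407878549296361184115305639963044476685807727763708822164275099358095483241964745249191423017062455415396896770

/-- representative of the class 5A -/
def a8wR5A : ℕ := 31456566456229177943531660076120147707397000929276174650563519424818523657819575786750412067450179676138445275265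

/-- the inverse of the representative of the class 5A -/
def a8wRi5A : ℕ := 10309579802969814211703700944693647335673056075604528609244237579517250869126858788670146798923278565606621103788095

/-- representative of the class 7A -/
def a8wR7A : ℕ := 21861452732788460542974346468580098601597293666893361556177828206280116659206195780579277209531708624561835405766785

/-- the inverse of the representative of the class 7A -/
def a8wRi7A : ℕ := 10700825272074177362539317307377064606002660589739699562994085339544408802156388884057299157322935065105215227170825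

/-- Sylow 2-subgroup, level 1: orbit -/
def a8wS2M1 : ℕ := 18446744073709551615

/-- Sylow 2-subgroup, level 1: words -/
def a8wS2P1 : List (List ℕ) := [[], [0], [1, 0], [1], [8, 1], [2, 1], [2], [2, 0], [6, 3], [7, 3], [3, 2], [3, 2, 0], [3], [3, 0], [3, 1, 0], [3, 1], [6, 3, 2], [7, 3, 2], [4, 3, 2], [3, 6, 0], [4, 3], [4, 3, 0], [7, 3, 0], [6, 3, 0], [4], [4, 0], [4, 1, 0], [4, 1], [6, 5, 0], [7, 5, 0], [4, 2], [6, 0], [6, 7, 3], [7, 6, 3], [8, 4, 3], [15, 3, 0], [3, 16, 1], [4, 8, 3], [7, 3, 1], [6, 3, 1, 0], [16, 1], [5, 4, 0], [16, 5, 1], [5, 4, 1], [1, 7, 1], [7, 5, 1], [7, 4, 1], [7, 1], [5], [5, 0], [5, 1, 0], [5, 1], [8, 5, 1], [5, 2, 1], [5, 2], [5, 2, 0], [6, 3, 1], [8, 3, 1], [5, 3, 2], [15, 3], [5, 3], [8, 3], [8, 6, 3], [5, 3, 1]]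

/-- Sylow 2-subgroup, level 1: generator 0 -/
def a8wS2T1x0 : ℕ := 38785894046477796734063897174144120276038548239137820597213547525249938134362416931136555728799268220627106168057857

/-- Sylow 2-subgroup, level 1: inverse of generator 0 -/
def a8wS2I1x0 : ℕ := 38785894046477796734063897174144120276038548239137820597213547525249938134362416931136555728799268220627106168057857

/-- Sylow 2-subgroup, level 1: generator 1 -/
def a8wS2T1x1 : ℕ := 37535647328017635079781184161447349518249833056037867444459513319110825654427186914176864585734821300123112602341507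

/-- Sylow 2-subgroup, level 1: inverse of generator 1 -/
def a8wS2I1x1 : ℕ := 37535647328017635079781184161447349518249833056037867444459513319110825654427186914176864585734821300123112602341507

/-- Sylow 2-subgroup, level 1: generator 2 -/
def a8wS2T1x2 : ℕ := 35640117657822850670959334478314964066495607160815685425258688031155974457234090790139224746634641941233296999727558

/-- Sylow 2-subgroup, level 1: inverse of generator 2 -/
def a8wS2I1x2 : ℕ := 35640117657822850670959334478314964066495607160815685425258688031155974457234090790139224746634641941233296999727558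

/-- Sylow 2-subgroup, level 1: generator 3 -/
def a8wS2T1x3 : ℕ := 31886935018010733056139029348076885224587276253052487288895430073468986187259043334193667579425953309275439721407308

/-- Sylow 2-subgroup, level 1: inverse of generator 3 -/
def a8wS2I1x3 : ℕ := 31886935018010733056139029348076885224587276253052487288895430073468986187259043334193667579425953309275439721407308

/-- Sylow 2-subgroup, level 1: generator 4 -/
def a8wS2T1x4 : ℕ := 24381790682374649042397601332355576328153333881715073137533825158701315852563721886295854375631809333175195068638808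

/-- Sylow 2-subgroup, level 1: inverse of generator 4 -/
def a8wS2I1x4 : ℕ := 24381790682374649042397601332355576328153333881715073137533825158701315852563721886295854375631809333175195068638808

/-- Sylow 2-subgroup, level 1: generator 5 -/
def a8wS2T1x5 : ℕ := 9371502607557669029073170535534939550667020343135457865159948204673474552965662072817432376290869492662976111389808

/-- Sylow 2-subgroup, level 1: inverse of generator 5 -/
def a8wS2I1x5 : ℕ := 9371502607557669029073170535534939550667020343135457865159948204673474552965662072817432376290869492662976111389808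

/-- Sylow 2-subgroup, level 1: generator 6 -/
def a8wS2T1x6 : ℕ := 36673063577428845592855016987796247625445509483716993752625135386126357712904510465482809023819413598941112879478720

/-- Sylow 2-subgroup, level 1: inverse of generator 6 -/
def a8wS2I1x6 : ℕ := 5084108529264514411802313426092330883336374313254905016207686746767718940070862439941068680039284657449768723842560

/-- Sylow 2-subgroup, level 1: generator 7 -/
def a8wS2T1x7 : ℕ := 22734219100458013938064069578059871083014583646697080235814256404388833919115427739113640469334156973884569848580032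

/-- Sylow 2-subgroup, level 1: inverse of generator 7 -/
def a8wS2I1x7 : ℕ := 10557830855618075797819382030095320677494197220309503523903653343375310557418145963796521219488697145731886451197440

/-- Sylow 2-subgroup, level 1: generator 8 -/
def a8wS2T1x8 : ℕ := 5619698749880819355168334064678126114561081143484768635235839839769728238150183709600041420798119995477265377939520

/-- Sylow 2-subgroup, level 1: inverse of generator 8 -/
def a8wS2I1x8 : ℕ := 5619698749880819355168334064678126114561081143484768635235839839769728238150183709600041420798119995477265377939520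

/-- Sylow 2-subgroup, level 1 -/
def a8wS2L1 : PgLvlW := ⟨0, pgBit a8wS2M1, a8wpath a8wS2P1, [a8wgen a8wS2T1x0 a8wS2I1x0, a8wgen a8wS2T1x1 a8wS2I1x1, a8wgen a8wS2T1x2 a8wS2I1x2, a8wgen a8wS2T1x3 a8wS2I1x3, a8wgen a8wS2T1x4 a8wS2I1x4, a8wgen a8wS2T1x5 a8wS2I1x5, a8wgen a8wS2T1x6 a8wS2I1x6, a8wgen a8wS2T1x7 a8wS2I1x7, a8wgen a8wS2T1x8 a8wS2I1x8], [[15], [16], [17]]⟩

/-- Sylow 2-subgroup, level 2: orbit -/
def a8wS2M2 : ℕ := 2164260930

/-- Sylow 2-subgroup, level 2: words -/
def a8wS2P2 : List (List ℕ) := [[], [], [], [], [], [], [0, 0], [], [], [], [], [], [], [], [], [], [], [], [], [], [], [], [], [], [0], [], [], [], [], [], [], [3], [], [], [], [], [], [], [], [], [], [], [], [], [], [], [], [], [], [], [], [], [], [], [], [], [], [], [], [], [], [], [], []]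

/-- Sylow 2-subgroup, level 2: generator 0 -/
def a8wS2T2x0 : ℕ := 5084108529264514411802313426092330883336374313254905016207686746767718940070862439941068680039284657449768723842560

/-- Sylow 2-subgroup, level 2: inverse of generator 0 -/
def a8wS2I2x0 : ℕ := 36673063577428845592855016987796247625445509483716993752625135386126357712904510465482809023819413598941112879478720

/-- Sylow 2-subgroup, level 2: generator 1 -/
def a8wS2T2x1 : ℕ := 10557830855618075797819382030095320677494197220309503523903653343375310557418145963796521219488697145731886451197440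

/-- Sylow 2-subgroup, level 2: inverse of generator 1 -/
def a8wS2I2x1 : ℕ := 22734219100458013938064069578059871083014583646697080235814256404388833919115427739113640469334156973884569848580032

/-- Sylow 2-subgroup, level 2: generator 2 -/
def a8wS2T2x2 : ℕ := 5619698749880819355168334064678126114561081143484768635235839839769728238150183709600041420798119995477265377939520

/-- Sylow 2-subgroup, level 2: inverse of generator 2 -/
def a8wS2I2x2 : ℕ := 5619698749880819355168334064678126114561081143484768635235839839769728238150183709600041420798119995477265377939520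

/-- Sylow 2-subgroup, level 2 -/
def a8wS2L2 : PgLvlW := ⟨1, pgBit a8wS2M2, a8wpath a8wS2P2, [a8wgen a8wS2T2x0 a8wS2I2x0, a8wgen a8wS2T2x1 a8wS2I2x1, a8wgen a8wS2T2x2 a8wS2I2x2], [[5], [1, 3], [0, 5, 0]]⟩

/-- Sylow 2-subgroup, level 3: orbit -/
def a8wS2M3 : ℕ := 60

/-- Sylow 2-subgroup, level 3: words -/
def a8wS2P3 : List (List ℕ) := [[], [], [], [1], [1, 0], [0], [], [], [], [], [], [], [], [], [], [], [], [], [], [], [], [], [], [], [], [], [], [], [], [], [], [], [], [], [], [], [], [], [], [], [], [], [], [], [], [], [], [], [], [], [], [], [], [], [], [], [], [], [], [], [], [], [], []]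

/-- Sylow 2-subgroup, level 3: generator 0 -/
def a8wS2T3x0 : ℕ := 5619698749880819355168334064678126114561081143484768635235839839769728238150183709600041420798119995477265377939520

/-- Sylow 2-subgroup, level 3: inverse of generator 0 -/
def a8wS2I3x0 : ℕ := 5619698749880819355168334064678126114561081143484768635235839839769728238150183709600041420798119995477265377939520

/-- Sylow 2-subgroup, level 3: generator 1 -/
def a8wS2T3x1 : ℕ := 38786042040783099064723890712969664471745851062106416535761122726056605679293082575297116680520641820754607950278720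

/-- Sylow 2-subgroup, level 3: inverse of generator 1 -/
def a8wS2I3x1 : ℕ := 38786042040783099064723890712969664471745851062106416535761122726056605679293082575297116680520641820754607950278720

/-- Sylow 2-subgroup, level 3: generator 2 -/
def a8wS2T3x2 : ℕ := 10016786155747604228034186763229989187730864039058892350555153605811053309521935587074533678723694835267964546850880

/-- Sylow 2-subgroup, level 3: inverse of generator 2 -/
def a8wS2I3x2 : ℕ := 10016786155747604228034186763229989187730864039058892350555153605811053309521935587074533678723694835267964546850880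

/-- Sylow 2-subgroup, level 3 -/
def a8wS2L3 : PgLvlW := ⟨2, pgBit a8wS2M3, a8wpath a8wS2P3, [a8wgen a8wS2T3x0 a8wS2I3x0, a8wgen a8wS2T3x1 a8wS2I3x1, a8wgen a8wS2T3x2 a8wS2I3x2], [[2], [4, 5, 1]]⟩

/-- Sylow 2-subgroup, level 4: orbit -/
def a8wS2M4 : ℕ := 9223372041149808896

/-- Sylow 2-subgroup, level 4: words -/
def a8wS2P4 : List (List ℕ) := [[], [], [], [], [], [], [], [], [], [], [], [], [], [], [], [], [1, 0], [], [], [], [], [], [], [], [], [], [], [], [], [], [], [], [0], [], [], [], [], [], [], [], [], [], [], [], [], [], [], [], [], [], [], [], [], [], [], [], [], [], [], [], [], [], [], [1]]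

/-- Sylow 2-subgroup, level 4: generator 0 -/
def a8wS2T4x0 : ℕ := 10016786155747604228034186763229989187730864039058892350555153605811053309521935587074533678723694835267964546850880

/-- Sylow 2-subgroup, level 4: inverse of generator 0 -/
def a8wS2I4x0 : ℕ := 10016786155747604228034186763229989187730864039058892350555153605811053309521935587074533678723694835267964546850880

/-- Sylow 2-subgroup, level 4: generator 1 -/
def a8wS2T4x1 : ℕ := 5013356797475322666423480261322186313512545711773731643953111534367668637199769485769171899746024906985592232616000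

/-- Sylow 2-subgroup, level 4: inverse of generator 1 -/
def a8wS2I4x1 : ℕ := 5013356797475322666423480261322186313512545711773731643953111534367668637199769485769171899746024906985592232616000

/-- Sylow 2-subgroup, level 4 -/
def a8wS2L4 : PgLvlW := ⟨8, pgBit a8wS2M4, a8wpath a8wS2P4, [a8wgen a8wS2T4x0 a8wS2I4x0, a8wgen a8wS2T4x1 a8wS2I4x1], []⟩

/-- Sylow 2-subgroup: the chain -/
def a8wS2C : List PgLvlW := [a8wS2L1, a8wS2L2, a8wS2L3, a8wS2L4]

/-- Sylow 3-subgroup, level 1: orbit -/
def a8wS3M1 : ℕ := 14

/-- Sylow 3-subgroup, level 1: words -/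
def a8wS3P1 : List (List ℕ) := [[], [], [2], [0], [], [], [], [], [], [], [], [], [], [], [], [], [], [], [], [], [], [], [], [], [], [], [], [], [], [], [], [], [], [], [], [], [], [], [], [], [], [], [], [], [], [], [], [], [], [], [], [], [], [], [], [], [], [], [], [], [], [], [], []]

/-- Sylow 3-subgroup, level 1: generator 0 -/
def a8wS3T1x0 : ℕ := 38767103392266797231984903023331578145532315170042945024157380426451662558332764196644938411784756718803943655215296

/-- Sylow 3-subgroup, level 1: inverse of generator 0 -/
def a8wS3I1x0 : ℕ := 38170536000116515923991826705113013552403013131716670982284112312863655120273872028280233057649929805789290624725120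

/-- Sylow 3-subgroup, level 1: generator 1 -/
def a8wS3T1x1 : ℕ := 39392078608077734285546854567225472660127693542671002187433876926346798333347245016098990289888947196387935356985408

/-- Sylow 3-subgroup, level 1: inverse of generator 1 -/
def a8wS3I1x1 : ℕ := 39392078309850149166343602972631302944566728313516133761139218867999718959484983107916410904134458078511388919865408

/-- Sylow 3-subgroup, level 1 -/
def a8wS3L1 : PgLvlW := ⟨1, pgBit a8wS3M1, a8wpath a8wS3P1, [a8wgen a8wS3T1x0 a8wS3I1x0, a8wgen a8wS3T1x1 a8wS3I1x1], [[3]]⟩

/-- Sylow 3-subgroup, level 2: orbit -/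
def a8wS3M2 : ℕ := 65808

/-- Sylow 3-subgroup, level 2: words -/
def a8wS3P2 : List (List ℕ) := [[], [], [], [], [], [], [], [], [1], [], [], [], [], [], [], [], [0], [], [], [], [], [], [], [], [], [], [], [], [], [], [], [], [], [], [], [], [], [], [], [], [], [], [], [], [], [], [], [], [], [], [], [], [], [], [], [], [], [], [], [], [], [], [], []]

/-- Sylow 3-subgroup, level 2: generator 0 -/
def a8wS3T2x0 : ℕ := 39392078309850149166343602972631302944566728313516133761139218867999718959484983107916410904134458078511388919865408

/-- Sylow 3-subgroup, level 2: inverse of generator 0 -/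
def a8wS3I2x0 : ℕ := 39392078608077734285546854567225472660127693542671002187433876926346798333347245016098990289888947196387935356985408

/-- Sylow 3-subgroup, level 2 -/
def a8wS3L2 : PgLvlW := ⟨4, pgBit a8wS3M2, a8wpath a8wS3P2, [a8wgen a8wS3T2x0 a8wS3I2x0], []⟩

/-- Sylow 3-subgroup: the chain -/
def a8wS3C : List PgLvlW := [a8wS3L1, a8wS3L2]

/-- Sylow 5-subgroup, level 1: orbit -/
def a8wS5M1 : ℕ := 9223372036854841351

/-- Sylow 5-subgroup, level 1: words -/
def a8wS5P1 : List (List ℕ) := [[], [0], [0, 0], [], [], [], [], [], [], [], [], [], [], [], [], [], [1, 1], [], [], [], [], [], [], [], [], [], [], [], [], [], [], [], [], [], [], [], [], [], [], [], [], [], [], [], [], [], [], [], [], [], [], [], [], [], [], [], [], [], [], [], [], [], [], [1]]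

/-- Sylow 5-subgroup, level 1: generator 0 -/
def a8wS5T1x0 : ℕ := 31456566456229177943531660076120147707397000929276174650563519424818523657819575786750412067450179676138445275265

/-- Sylow 5-subgroup, level 1: inverse of generator 0 -/
def a8wS5I1x0 : ℕ := 10309579802969814211703700944693647335673056075604528609244237579517250869126858788670146798923278565606621103788095

/-- Sylow 5-subgroup, level 1 -/
def a8wS5L1 : PgLvlW := ⟨0, pgBit a8wS5M1, a8wpath a8wS5P1, [a8wgen a8wS5T1x0 a8wS5I1x0], []⟩

/-- Sylow 5-subgroup: the chain -/
def a8wS5C : List PgLvlW := [a8wS5L1]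

/-- Sylow 7-subgroup, level 1: orbit -/
def a8wS7M1 : ℕ := 1099515822727

/-- Sylow 7-subgroup, level 1: words -/
def a8wS7P1 : List (List ℕ) := [[], [0], [0, 0], [], [], [], [], [0, 0, 0], [], [1], [], [], [], [], [], [], [], [], [], [], [], [], [1, 1, 1], [], [], [], [], [], [], [], [], [], [], [], [], [], [], [], [], [], [1, 1], [], [], [], [], [], [], [], [], [], [], [], [], [], [], [], [], [], [], [], [], [], [], []]

/-- Sylow 7-subgroup, level 1: generator 0 -/
def a8wS7T1x0 : ℕ := 21861452732788460542974346468580098601597293666893361556177828206280116659206195780579277209531708624561835405766785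

/-- Sylow 7-subgroup, level 1: inverse of generator 0 -/
def a8wS7I1x0 : ℕ := 10700825272074177362539317307377064606002660589739699562994085339544408802156388884057299157322935065105215227170825

/-- Sylow 7-subgroup, level 1 -/
def a8wS7L1 : PgLvlW := ⟨0, pgBit a8wS7M1, a8wpath a8wS7P1, [a8wgen a8wS7T1x0 a8wS7I1x0], []⟩

/-- Sylow 7-subgroup: the chain -/
def a8wS7C : List PgLvlW := [a8wS7L1]

/-- the normal subgroup of order 64, level 1: orbit -/
def a8wNM1 : ℕ := 18446744073709551615

/-- the normal subgroup of order 64, level 1: words -/
def a8wNP1 : List (List ℕ) := [[], [0], [1, 0], [1], [2, 1, 0], [2, 1], [2], [2, 0], [3, 2, 1, 0], [3, 2, 1], [3, 2], [3, 2, 0], [3], [3, 0], [3, 1, 0], [3, 1], [4, 3, 2, 1, 0], [4, 3, 2, 1], [4, 3, 2], [4, 3, 2, 0], [4, 3], [4, 3, 0], [4, 3, 1, 0], [4, 3, 1], [4], [4, 0], [4, 1, 0], [4, 1], [4, 2, 1, 0], [4, 2, 1], [4, 2], [4, 2, 0], [5, 4, 3, 2, 1, 0], [5, 4, 3, 2, 1], [5, 4, 3, 2], [5, 4, 3, 2, 0], [5, 4, 3], [5, 4, 3, 0], [5, 4, 3, 1, 0], [5, 4, 3, 1], [5, 4], [5, 4, 0], [5, 4, 1, 0], [5, 4, 1], [5, 4, 2, 1, 0], [5, 4, 2, 1], [5, 4, 2], [5,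 4, 2, 0], [5], [5, 0], [5, 1, 0], [5, 1], [5, 2, 1, 0], [5, 2, 1], [5, 2], [5, 2, 0], [5, 3, 2, 1, 0], [5, 3, 2, 1], [5, 3, 2], [5, 3, 2, 0], [5, 3], [5, 3, 0], [5, 3, 1, 0], [5, 3, 1]]

/-- the normal subgroup of order 64, level 1: generator 0 -/
def a8wNT1x0 : ℕ := 38785894046477796734063897174144120276038548239137820597213547525249938134362416931136555728799268220627106168057857

/-- the normal subgroup of order 64, level 1: inverse of generator 0 -/
def a8wNI1x0 : ℕ := 38785894046477796734063897174144120276038548239137820597213547525249938134362416931136555728799268220627106168057857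

/-- the normal subgroup of order 64, level 1: generator 1 -/
def a8wNT1x1 : ℕ := 37535647328017635079781184161447349518249833056037867444459513319110825654427186914176864585734821300123112602341507

/-- the normal subgroup of order 64, level 1: inverse of generator 1 -/
def a8wNI1x1 : ℕ := 37535647328017635079781184161447349518249833056037867444459513319110825654427186914176864585734821300123112602341507

/-- the normal subgroup of order 64, level 1: generator 2 -/
def a8wNT1x2 : ℕ := 35640117657822850670959334478314964066495607160815685425258688031155974457234090790139224746634641941233296999727558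

/-- the normal subgroup of order 64, level 1: inverse of generator 2 -/
def a8wNI1x2 : ℕ := 35640117657822850670959334478314964066495607160815685425258688031155974457234090790139224746634641941233296999727558

/-- the normal subgroup of order 64, level 1: generator 3 -/
def a8wNT1x3 : ℕ := 31886935018010733056139029348076885224587276253052487288895430073468986187259043334193667579425953309275439721407308

/-- the normal subgroup of order 64, level 1: inverse of generator 3 -/
def a8wNI1x3 : ℕ := 31886935018010733056139029348076885224587276253052487288895430073468986187259043334193667579425953309275439721407308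

/-- the normal subgroup of order 64, level 1: generator 4 -/
def a8wNT1x4 : ℕ := 24381790682374649042397601332355576328153333881715073137533825158701315852563721886295854375631809333175195068638808

/-- the normal subgroup of order 64, level 1: inverse of generator 4 -/
def a8wNI1x4 : ℕ := 24381790682374649042397601332355576328153333881715073137533825158701315852563721886295854375631809333175195068638808

/-- the normal subgroup of order 64, level 1: generator 5 -/
def a8wNT1x5 : ℕ := 9371502607557669029073170535534939550667020343135457865159948204673474552965662072817432376290869492662976111389808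

/-- the normal subgroup of order 64, level 1: inverse of generator 5 -/
def a8wNI1x5 : ℕ := 9371502607557669029073170535534939550667020343135457865159948204673474552965662072817432376290869492662976111389808

/-- the normal subgroup of order 64, level 1 -/
def a8wNL1 : PgLvlW := ⟨0, pgBit a8wNM1, a8wpath a8wNP1, [a8wgen a8wNT1x0 a8wNI1x0, a8wgen a8wNT1x1 a8wNI1x1, a8wgen a8wNT1x2 a8wNI1x2, a8wgen a8wNT1x3 a8wNI1x3, a8wgen a8wNT1x4 a8wNI1x4, a8wgen a8wNT1x5 a8wNI1x5], []⟩

/-- the normal subgroup of order 64: the chain -/
def a8wNC : List PgLvlW := [a8wNL1]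

/-- conjugations of the elements of the Sylow 3-subgroup to the representatives -/
def a8wCert3 : List (List ℕ × ℕ × ℕ) :=
  [([4, 4, 5, 0, 4, 4, 4, 3, 1, 3, 1], 2, a8wR3B),
   ([4, 4, 5, 0, 4], 1, a8wR3A),
   ([0, 5], 2, a8wR3A),
   ([4, 5, 0, 4, 4], 1, a8wR3A),
   ([4, 4, 5, 0, 4, 4, 4, 3, 1, 3, 1], 1, a8wR3B),
   ([1, 1, 3, 5, 1, 3, 1, 0, 1], 1, a8wR3B),
   ([3, 1, 5, 3, 1, 1, 1, 0, 1], 1, a8wR3B),
   ([0, 5], 1, a8wR3A)]

/-- conjugations of the elements of the Sylow 5-subgroup to the representatives -/
def a8wCert5 : List (List ℕ × ℕ × ℕ) :=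
  [([], 1, a8wR5A),
   ([], 3, a8wR5A),
   ([], 2, a8wR5A),
   ([], 4, a8wR5A)]

/-- conjugations of the elements of the Sylow 7-subgroup to the representatives -/
def a8wCert7 : List (List ℕ × ℕ × ℕ) :=
  [([], 1, a8wR7A),
   ([], 4, a8wR7A),
   ([], 5, a8wR7A),
   ([], 2, a8wR7A),
   ([], 3, a8wR7A),
   ([], 6, a8wR7A)]

/-- words with the orders 1, 2, 3, 4, 5, 6, 7, 8, 10, 12, 15 -/
def a8wWit : List (ℕ × List ℕ) :=
  [(1, []), (2, [2]), (3, [0]), (4, [0, 4, 4]), (5, [0, 1, 0, 4, 4]), (6, [0, 1]), (7, [1]), (8, [0, 1, 1, 0, 4, 4, 4, 2]), (10, [0, 1, 0, 2, 4, 4]), (12, [0, 1, 0, 2, 1, 1]), (15, [0, 1, 1])]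

end Cfsg.Agent.Lib.helper23
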