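import Mathlib

set_option autoImplicit false

/-!
# Fibre powers over a quotient by a normal subgroup of exponent two

The tuples of elements of a finite group `H` that are congruent modulo a normal subgroup `W` of
exponent two form a group with the same element orders as `H`, of order at least `|W| ^ k`.
-/

namespace Cfsg.Agent.Lib.helper23

variable {H : Type*} [Group H]

/-- tuples whose entries are congruent modulo the normal subgroup `W` -/
def fibPow (W : Subgroup H) [W.Normal] (k : ℕ) : Subgroup (Fin (k + 1) → H) where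
  carrier := {f | ∀ i, (QuotientGroup.mk (f i) : H ⧸ W) = QuotientGroup.mk (f 0)}
  one_mem' := by
    intro i
    rfl
  mul_mem' := by
    intro f g hf hg i
    simp only [Pi.mul_apply, QuotientGroup.mk_mul]
    rw [hf i, hg i]
  inv_mem' := by
    intro f hf i
    simp only [Pi.inv_apply, QuotientGroup.mk_inv]
    rw [hf i]

theorem mem_fibPow {W : Subgroup H} [W.Normal] {k : ℕ} {f : Fin (k + 1) → H} :
    f ∈ fibPow W k ↔ ∀ i, (QuotientGroup.mk (f i) : H ⧸ W) = QuotientGroup.mk (f 0) := Iff.rfl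

theorem orderOf_dvd_two_mul_of_congr {W : Subgroup H} [W.Normal] (hW2 : ∀ w ∈ W, w ^ 2 = 1)
    {x y : H} (h : (QuotientGroup.mk x : H ⧸ W) = QuotientGroup.mk y) :
    orderOf y ∣ orderOf x * 2 := by
  apply orderOf_dvd_of_pow_eq_one
  rw [pow_mul]
  apply hW2
  rw [← QuotientGroup.eq_one_iff, QuotientGroup.mk_pow, ← h, ← QuotientGroup.mk_pow,
    pow_orderOf_eq_one]
  rfl

theorem fibPow_orderOf [Finite H] {W : Subgroup H} [W.Normal] (hW2 : ∀ w ∈ W, w ^ 2 = 1) {k : ℕ}
    {f : Fin (k + 1) → H} (hf : f ∈ fibPow W k) : ∃ i, orderOf f = orderOf (f i) := by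
  obtain ⟨i0, hi0⟩ := Finite.exists_max (fun i => orderOf (f i))
  refine ⟨i0, ?_⟩
  have hcong : ∀ i j, (QuotientGroup.mk (f i) : H ⧸ W) = QuotientGroup.mk (f j) := by
    intro i j
    rw [hf i, hf j]
  have hdvd : ∀ i, orderOf (f i) ∣ orderOf (f i0) := by
    intro i
    have ha : 0 < orderOf (f i) := orderOf_pos _
    have hle : orderOf (f i) ≤ orderOf (f i0) := hi0 i
    obtain ⟨c, hc⟩ := orderOf_dvd_two_mul_of_congr hW2 (hcong i i0)
    have hc2 : c ≤ 2 := by
      by_contra hlt'
      have hlt : 3 ≤ c := not_le.1 hlt'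
      have : orderOf (f i0) * 3 ≤ orderOf (f i0) * c := Nat.mul_le_mul_left _ hlt
      omega
    interval_cases c
    · omega
    · exact ⟨2, by omega⟩
    · exact ⟨1, by omega⟩
  apply Nat.dvd_antisymm
  · apply orderOf_dvd_of_pow_eq_one
    funext i
    rw [Pi.pow_apply, Pi.one_apply]
    exact orderOf_dvd_iff_pow_eq_one.1 (hdvd i)
  · apply orderOf_dvd_of_pow_eq_one
    have := congrFun (pow_orderOf_eq_one f) i0
    rwa [Pi.pow_apply] at this

theorem fibPow_range [Finite H] {W : Subgroup H} [W.Normal] (hW2 : ∀ w ∈ W, w ^ 2 = 1) (k : ℕ) :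
    Set.range (orderOf : ↥(fibPow W k) → ℕ) = Set.range (orderOf : H → ℕ) := by
  ext n
  constructor
  · rintro ⟨f, rfl⟩
    obtain ⟨i, hi⟩ := fibPow_orderOf hW2 f.2
    exact ⟨f.1 i, by rw [← Subgroup.orderOf_coe, hi]⟩
  · rintro ⟨h, rfl⟩
    refine ⟨⟨fun _ => h, fun _ => rfl⟩, ?_⟩
    rw [← Subgroup.orderOf_coe]
    rw [orderOf_eq_orderOf_iff]
    intro n
    constructor
    · intro hn
      have := congrFun hn 0
      rwa [Pi.pow_apply] at this
    · intro hn
      funext i
      rw [Pi.pow_apply, hn]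
      rfl

theorem fibPow_card [Finite H] {W : Subgroup H} [W.Normal] (hW : W ≠ ⊥) (k : ℕ) :
    k < Nat.card ↥(fibPow W k) := by
  have h2 : 2 ≤ Nat.card W := (Subgroup.one_lt_card_iff_ne_bot W).2 hW
  let φ : (Fin (k + 1) → W) → ↥(fibPow W k) := fun u =>
    ⟨fun i => (u i : H), fun i => by
      rw [(QuotientGroup.eq_one_iff _).2 (u i).2, (QuotientGroup.eq_one_iff _).2 (u 0).2]⟩
  have hφ : Function.Injective φ := by
    intro u v huv
    funext i
    apply Subtype.ext
    have := congrFun (congrArg Subtype.val huv) i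
    exact this
  have h1 := Nat.card_le_card_of_injective φ hφ
  rw [Nat.card_fun, Nat.card_eq_fintype_card (α := Fin (k + 1)), Fintype.card_fin] at h1
  calc k < 2 ^ k := Nat.lt_two_pow_self
    _ ≤ 2 ^ (k + 1) := Nat.pow_le_pow_right (by norm_num) (Nat.le_succ k)
    _ ≤ Nat.card W ^ (k + 1) := Nat.pow_le_pow_left h2 _
    _ ≤ _ := h1

/-- a finite group with a nontrivial normal subgroup of exponent two has the same element orders
as groups of arbitrarily large order -/
theorem exists_large_isospectral {H : Type} [Group H] [Finite H] (W : Subgroup H) [W.Normal]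
    (hW2 : ∀ w ∈ W, w ^ 2 = 1) (hW : W ≠ ⊥) (N : ℕ) :
    ∃ (K : Type) (_ : Group K) (_ : Fintype K), N < Fintype.card K ∧
      Set.range (orderOf : K → ℕ) = Set.range (orderOf : H → ℕ) := by
  refine ⟨↥(fibPow W N), inferInstance, Fintype.ofFinite _, ?_, fibPow_range hW2 N⟩
  rw [Fintype.card_eq_nat_card]
  exact fibPow_card hW N

end Cfsg.Agent.Lib.helper23
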