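import Cfsg.Agent.Lib.helper23.J2pData

set_option autoImplicit false
set_option maxRecDepth 1000000
set_option Elab.async false

/-!
# The Hall–Janko group on 315 points: the checks of the stabiliser chain
-/

namespace Cfsg.Agent.Lib.helper23

open Subgroup MulAction

/-- the trivial rigid ambient group: all permutations, every point in the base -/
def pgRigidTop (n : ℕ) : PgRigid n where
  A := ⊤
  base := List.range n
  rigid := by
    intro g _ h
    apply Equiv.ext
    intro i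
    exact h i.1 (List.mem_range.2 i.2) i.2

theorem pgChkLvlW_ofAll {n : ℕ} {base : List ℕ} {L : PgLvlW} {Ls : List PgLvlW}
    (h0 : pgChkLvlW0 n L Ls = true)
    (h1 : ∀ s ∈ L.own, pgChkGenW n base L Ls s 0 n = true) :
    pgChkLvlW n base L Ls = true := by
  unfold pgChkLvlW
  rw [h0, Bool.true_and, pgAllL_iff]
  exact h1

theorem j2pchk0x4 : pgChkLvlW0 315 j2pL4 [] = true := by decide +kernel
theorem j2pchk0x3 : pgChkLvlW0 315 j2pL3 [j2pL4] = true := by decide +kernel
theorem j2pchk0x2 : pgChkLvlW0 315 j2pL2 [j2pL3, j2pL4] = true := by decide +kernel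
theorem j2pchk0x1 : pgChkLvlW0 315 j2pL1 [j2pL2, j2pL3, j2pL4] = true := by decide +kernel

theorem j2pcl4x0 : pgChkGenW 315 (List.range 315) j2pL4 [] (j2pgen j2pT4x0 j2pI4x0) 0 315 = true := by
  decide +kernel
theorem j2pcl4x1 : pgChkGenW 315 (List.range 315) j2pL4 [] (j2pgen j2pT4x1 j2pI4x1) 0 315 = true := by
  decide +kernel
theorem j2pcl3x0 : pgChkGenW 315 (List.range 315) j2pL3 [j2pL4] (j2pgen j2pT3x0 j2pI3x0) 0 315 =
    true := by
  decide +kernel
theorem j2pcl3x1 : pgChkGenW 315 (List.range 315) j2pL3 [j2pL4] (j2pgen j2pT3x1 j2pI3x1) 0 315 =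
    true := by
  decide +kernel
theorem j2pcl2x0 : pgChkGenW 315 (List.range 315) j2pL2 [j2pL3, j2pL4] (j2pgen j2pT2x0 j2pI2x0)
    0 315 = true := by
  decide +kernel
theorem j2pcl2x1 : pgChkGenW 315 (List.range 315) j2pL2 [j2pL3, j2pL4] (j2pgen j2pT2x1 j2pI2x1)
    0 315 = true := by
  decide +kernel
theorem j2pcl1x0 : pgChkGenW 315 (List.range 315) j2pL1 [j2pL2, j2pL3, j2pL4]
    (j2pgen j2pT1x0 j2pI1x0) 0 315 = true := by
  decide +kernel
theorem j2pcl1x1 : pgChkGenW 315 (List.range 315) j2pL1 [j2pL2, j2pL3, j2pL4]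
    (j2pgen j2pT1x1 j2pI1x1) 0 315 = true := by
  decide +kernel
theorem j2pcl1x2 : pgChkGenW 315 (List.range 315) j2pL1 [j2pL2, j2pL3, j2pL4]
    (j2pgen j2pT1x2 j2pI1x2) 0 315 = true := by
  decide +kernel
theorem j2pcl1x3 : pgChkGenW 315 (List.range 315) j2pL1 [j2pL2, j2pL3, j2pL4]
    (j2pgen j2pT1x3 j2pI1x3) 0 315 = true := by
  decide +kernel

end Cfsg.Agent.Lib.helper23
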