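import Cfsg.Agent.Lib.helper23.PgT

set_option autoImplicit false

/-!
# Element orders from Sylow subgroups and centralisers of representatives, general exponents
-/

namespace Cfsg.Agent.Lib.helper23

theorem not_dvd_2357 (a b c d : ℕ) :
    (¬ 2 ∣ 3 ^ b * 5 ^ c * 7 ^ d) ∧ (¬ 3 ∣ 2 ^ a * 5 ^ c * 7 ^ d) ∧
    (¬ 5 ∣ 2 ^ a * 3 ^ b * 7 ^ d) ∧ (¬ 7 ∣ 2 ^ a * 3 ^ b * 5 ^ c) := by
  have h2 : Nat.Prime 2 := by norm_num
  have h3 : Nat.Prime 3 := by norm_num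
  have h5 : Nat.Prime 5 := by norm_num
  have h7 : Nat.Prime 7 := by norm_num
  have aux : ∀ p q k : ℕ, p.Prime → q.Prime → p ≠ q → ¬ p ∣ q ^ k := by
    intro p q k hp hq hne h
    exact hne ((Nat.prime_dvd_prime_iff_eq hp hq).1 (hp.dvd_of_dvd_pow h))
  refine ⟨?_, ?_, ?_, ?_⟩
  · intro h
    rcases (Nat.Prime.dvd_mul h2).1 h with h | h
    · rcases (Nat.Prime.dvd_mul h2).1 h with h | h
      · exact aux 2 3 b h2 h3 (by norm_num) h
      · exact aux 2 5 c h2 h5 (by norm_num) h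
    · exact aux 2 7 d h2 h7 (by norm_num) h
  · intro h
    rcases (Nat.Prime.dvd_mul h3).1 h with h | h
    · rcases (Nat.Prime.dvd_mul h3).1 h with h | h
      · exact aux 3 2 a h3 h2 (by norm_num) h
      · exact aux 3 5 c h3 h5 (by norm_num) h
    · exact aux 3 7 d h3 h7 (by norm_num) h
  · intro h
    rcases (Nat.Prime.dvd_mul h5).1 h with h | h
    · rcases (Nat.Prime.dvd_mul h5).1 h with h | h
      · exact aux 5 2 a h5 h2 (by norm_num) h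
      · exact aux 5 3 b h5 h3 (by norm_num) h
    · exact aux 5 7 d h5 h7 (by norm_num) h
  · intro h
    rcases (Nat.Prime.dvd_mul h7).1 h with h | h
    · rcases (Nat.Prime.dvd_mul h7).1 h with h | h
      · exact aux 7 2 a h7 h2 (by norm_num) h
      · exact aux 7 3 b h7 h3 (by norm_num) h
    · exact aux 7 5 c h7 h5 (by norm_num) h

theorem exponents_of_sylow_data' {G : Type*} [Group G] [Finite G] (Ks : List ℕ) (a b c d : ℕ)
    (hcard : Nat.card G = 2 ^ a * 3 ^ b * 5 ^ c * 7 ^ d)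
    (P2 P3 P5 P7 : Subgroup G) (h2 : Nat.card P2 = 2 ^ a) (h3 : Nat.card P3 = 3 ^ b)
    (h5 : Nat.card P5 = 5 ^ c) (h7 : Nat.card P7 = 7 ^ d) (R : Set G)
    (hR : ∀ r ∈ R, ∀ h : G, h * r = r * h → ∃ K ∈ Ks, h ^ K = 1)
    (hP2 : ∀ w ∈ P2, ∃ K ∈ Ks, w ^ K = 1)
    (hP : ∀ w : G, (w ∈ P3 ∨ w ∈ P5 ∨ w ∈ P7) → w ≠ 1 →
      ∃ c : G, ∃ j : ℕ, (c * w * c⁻¹) ^ j ∈ R) :
    ∀ g : G, ∃ K ∈ Ks, g ^ K = 1 := by
  intro g
  obtain ⟨nd2, nd3, nd5, nd7⟩ := not_dvd_2357 a b c d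
  have hidx : ∀ (P : Subgroup G) (p k m : ℕ), p.Prime → Nat.card P = p ^ k →
      2 ^ a * 3 ^ b * 5 ^ c * 7 ^ d = p ^ k * m → ¬ p ∣ m → ¬ p ∣ P.index := by
    intro P p k m hp hPc hm hnd hd
    apply hnd
    have h1 := Subgroup.card_mul_index P
    rw [hcard, hPc, hm] at h1
    have : P.index = m := Nat.eq_of_mul_eq_mul_left (pow_pos hp.pos k) h1
    rwa [this] at hd
  -- the case of an odd prime dividing the order
  have key : ∀ (p : ℕ) [Fact p.Prime] (P : Subgroup G) (k : ℕ), Nat.card P = p ^ k →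
      ¬ p ∣ P.index → (P = P3 ∨ P = P5 ∨ P = P7) → p ∣ orderOf g → ∃ K ∈ Ks, g ^ K = 1 := by
    intro p hp P k hPc hPi hPP hpg
    obtain ⟨m, hm⟩ := hpg
    have hgpos : 0 < orderOf g := orderOf_pos g
    have hmpos : 0 < m := by
      rcases Nat.eq_zero_or_pos m with h | h
      · rw [h, mul_zero] at hm; omega
      · exact h
    set u := g ^ m with hu
    have hou : orderOf u = p ^ 1 := by
      rw [pow_one, hu, orderOf_pow' g hmpos.ne', hm, Nat.gcd_mul_left_left,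
        Nat.mul_div_cancel _ hmpos]
    obtain ⟨c1, hc1⟩ := conj_mem_of_pgroup P hPc hPi u hou
    have hne : c1 * u * c1⁻¹ ≠ 1 := by
      intro h
      have : u = 1 := by
        have := congrArg (fun t => c1⁻¹ * t * c1) h
        simpa [mul_assoc] using this
      rw [this, orderOf_one, pow_one] at hou
      exact hp.out.one_lt.ne hou
    have hmem : c1 * u * c1⁻¹ ∈ P3 ∨ c1 * u * c1⁻¹ ∈ P5 ∨ c1 * u * c1⁻¹ ∈ P7 := by
      rcases hPP with rfl | rfl | rfl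
      · exact Or.inl hc1
      · exact Or.inr (Or.inl hc1)
      · exact Or.inr (Or.inr hc1)
    obtain ⟨c, j, hr⟩ := hP _ hmem hne
    set e := c * c1 with he
    have hr' : (c * (c1 * u * c1⁻¹) * c⁻¹) ^ j = e * u ^ j * e⁻¹ := by
      have : c * (c1 * u * c1⁻¹) * c⁻¹ = e * u * e⁻¹ := by rw [he]; group
      rw [this, conj_pow]
    rw [hr'] at hr
    have hcomm : (e * g * e⁻¹) * (e * u ^ j * e⁻¹) = (e * u ^ j * e⁻¹) * (e * g * e⁻¹) := by
      have : g * u ^ j = u ^ j * g := by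
        rw [hu, ← pow_mul, ← pow_succ', ← pow_succ]
      calc (e * g * e⁻¹) * (e * u ^ j * e⁻¹) = e * (g * u ^ j) * e⁻¹ := by group
        _ = e * (u ^ j * g) * e⁻¹ := by rw [this]
        _ = (e * u ^ j * e⁻¹) * (e * g * e⁻¹) := by group
    obtain ⟨K, hK, hK1⟩ := hR _ hr _ hcomm
    refine ⟨K, hK, ?_⟩
    rw [conj_pow] at hK1
    have := congrArg (fun t => e⁻¹ * t * e) hK1
    simpa [mul_assoc] using this
  by_cases h7d : 7 ∣ orderOf g
  · haveI : Fact (Nat.Prime 7) := ⟨by norm_num⟩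
    exact key 7 P7 d h7 (hidx P7 7 d (2 ^ a * 3 ^ b * 5 ^ c) (by norm_num) h7 (by ring)
      nd7) (Or.inr (Or.inr rfl)) h7d
  by_cases h5d : 5 ∣ orderOf g
  · haveI : Fact (Nat.Prime 5) := ⟨by norm_num⟩
    exact key 5 P5 c h5 (hidx P5 5 c (2 ^ a * 3 ^ b * 7 ^ d) (by norm_num) h5 (by ring)
      nd5) (Or.inr (Or.inl rfl)) h5d
  by_cases h3d : 3 ∣ orderOf g
  · haveI : Fact (Nat.Prime 3) := ⟨by norm_num⟩
    exact key 3 P3 b h3 (hidx P3 3 b (2 ^ a * 5 ^ c * 7 ^ d) (by norm_num) h3 (by ring)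
      nd3) (Or.inl rfl) h3d
  -- the order is a power of two
  have hdvd : orderOf g ∣ 2 ^ a * 3 ^ b * 5 ^ c * 7 ^ d := by
    rw [← hcard]
    exact orderOf_dvd_natCard g
  have hc3 : Nat.Coprime (orderOf g) 3 :=
    (Nat.coprime_comm.1 ((Nat.Prime.coprime_iff_not_dvd (by norm_num)).2 h3d))
  have hc5 : Nat.Coprime (orderOf g) 5 :=
    (Nat.coprime_comm.1 ((Nat.Prime.coprime_iff_not_dvd (by norm_num)).2 h5d))
  have hc7 : Nat.Coprime (orderOf g) 7 :=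
    (Nat.coprime_comm.1 ((Nat.Prime.coprime_iff_not_dvd (by norm_num)).2 h7d))
  have h1 : orderOf g ∣ 2 ^ a * 3 ^ b * 5 ^ c := (hc7.pow_right d).dvd_of_dvd_mul_right hdvd
  have h2' : orderOf g ∣ 2 ^ a * 3 ^ b := (hc5.pow_right c).dvd_of_dvd_mul_right h1
  have h3' : orderOf g ∣ 2 ^ a := (hc3.pow_right b).dvd_of_dvd_mul_right h2'
  obtain ⟨a', -, ha⟩ := (Nat.dvd_prime_pow Nat.prime_two).1 h3'
  haveI : Fact (Nat.Prime 2) := ⟨Nat.prime_two⟩
  obtain ⟨c0, hc0⟩ := conj_mem_of_pgroup P2 h2 (hidx P2 2 a (3 ^ b * 5 ^ c * 7 ^ d) Nat.prime_two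
    h2 (by ring) nd2) g ha
  obtain ⟨K, hK, hK1⟩ := hP2 _ hc0
  refine ⟨K, hK, ?_⟩
  rw [conj_pow] at hK1
  have := congrArg (fun t => c0⁻¹ * t * c0) hK1
  simpa [mul_assoc] using this

end Cfsg.Agent.Lib.helper23
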