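import Cfsg.Agent.Lib.helper23.A8wCent
import Cfsg.Agent.Lib.helper23.J2pChk
import Cfsg.Agent.Lib.helper23.PgV
import Cfsg.Agent.Lib.helper23.FibPow

set_option autoImplicit false
set_option maxRecDepth 1000000

/-!
# The element orders of the split extension `2^6 : A8` on 64 points, and its fibre powers
-/

namespace Cfsg.Agent.Lib.helper23

open Subgroup

theorem a8wchkC : pgChkW 64 (pgRigidTop 64).base a8wC = true := a8wchk

theorem a8wok : ∀ P ∈ pgOwnW a8wC, P.ok 64 = true :=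
  pgChkW_own_ok 64 (pgRigidTop 64).base a8wC a8wchkC

theorem a8wA : pgGrpW 64 a8wC ≤ (pgRigidTop 64).A := le_top

theorem a8wcard : Nat.card (pgGrpW 64 a8wC) = 2 ^ 12 * 3 ^ 2 * 5 ^ 1 * 7 ^ 1 := by
  rw [pgCardW (pgRigidTop 64) a8wC a8wchkC a8wA, a8word]

theorem a8w_sub_of_sift {C : List PgLvlW} (hchk : pgChkW 64 (List.range 64) C = true)
    (hs : pgAllL (pgOwnW C) (fun s => pgSiftW 64 (List.range 64) a8wC s.f) = true) :
    pgGrpW 64 C ≤ pgGrpW 64 a8wC := by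
  apply (closure_le _).2
  rintro x ⟨P, hP, rfl⟩
  have hok := pgChkW_own_ok 64 _ C hchk P hP
  exact pgSift_mem (pgRigidTop 64) a8wchkC a8wA hok (mem_top _) ((pgAllL_iff _ _).1 hs P hP)

theorem a8wS2le : pgGrpW 64 a8wS2C ≤ pgGrpW 64 a8wC := a8w_sub_of_sift a8wS2chk a8wS2sift
theorem a8wS3le : pgGrpW 64 a8wS3C ≤ pgGrpW 64 a8wC := a8w_sub_of_sift a8wS3chk a8wS3sift
theorem a8wS5le : pgGrpW 64 a8wS5C ≤ pgGrpW 64 a8wC := a8w_sub_of_sift a8wS5chk a8wS5sift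
theorem a8wS7le : pgGrpW 64 a8wS7C ≤ pgGrpW 64 a8wC := a8w_sub_of_sift a8wS7chk a8wS7sift
theorem a8wNle : pgGrpW 64 a8wNC ≤ pgGrpW 64 a8wC := a8w_sub_of_sift a8wNchk a8wNsift

theorem a8wS2card : Nat.card (pgGrpW 64 a8wS2C) = 2 ^ 12 :=
  (pgCardW (pgRigidTop 64) a8wS2C a8wS2chk le_top).trans a8wS2ord
theorem a8wS3card : Nat.card (pgGrpW 64 a8wS3C) = 3 ^ 2 :=
  (pgCardW (pgRigidTop 64) a8wS3C a8wS3chk le_top).trans a8wS3ord
theorem a8wS5card : Nat.card (pgGrpW 64 a8wS5C) = 5 ^ 1 :=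
  (pgCardW (pgRigidTop 64) a8wS5C a8wS5chk le_top).trans a8wS5ord
theorem a8wS7card : Nat.card (pgGrpW 64 a8wS7C) = 7 ^ 1 :=
  (pgCardW (pgRigidTop 64) a8wS7C a8wS7chk le_top).trans a8wS7ord
theorem a8wNcard : Nat.card (pgGrpW 64 a8wNC) = 64 :=
  (pgCardW (pgRigidTop 64) a8wNC a8wNchk le_top).trans a8wNord

theorem a8w_card_subgroupOf {H : Subgroup (Equiv.Perm (Fin 64))} (h : H ≤ pgGrpW 64 a8wC) :
    Nat.card (H.subgroupOf (pgGrpW 64 a8wC)) = Nat.card H :=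
  Nat.card_congr (subgroupOfEquivOfLe h).toEquiv

/-! ### The representatives -/

theorem a8wRepOk {P : PFun} (hP : P ∈ a8wReps) : P.ok 64 = true := by
  have := (pgAllL_iff _ _).1 a8wRepsOk P hP
  rw [Bool.and_eq_true] at this
  exact this.1

theorem a8wmemR3A : a8wgen a8wR3A a8wRi3A ∈ a8wReps := List.mem_cons_self
theorem a8wmemR3B : a8wgen a8wR3B a8wRi3B ∈ a8wReps := List.mem_cons_of_mem _ List.mem_cons_self
theorem a8wmemR5A : a8wgen a8wR5A a8wRi5A ∈ a8wReps :=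
  List.mem_cons_of_mem _ (List.mem_cons_of_mem _ List.mem_cons_self)
theorem a8wmemR7A : a8wgen a8wR7A a8wRi7A ∈ a8wReps :=
  List.mem_cons_of_mem _ (List.mem_cons_of_mem _ (List.mem_cons_of_mem _ List.mem_cons_self))

theorem a8w_cent_of {T T' : ℕ} (hok : (a8wgen T T').ok 64 = true)
    (hen : pgEnumM 64 6 (pgCentPrune (a8wlk T)) (pgCentTest 64 6 (a8wlk T) a8wKs) a8wC 2
      (fun p => p) [] = true) :
    ∀ h ∈ pgGrpW 64 a8wC, h * (a8wgen T T').perm 64 = (a8wgen T T').perm 64 * h →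
      ∃ K ∈ a8wKs, h ^ K = 1 :=
  pgCent_main (by norm_num) (pgRigidTop 64) a8wchkC a8wA (a8wlk T) a8wKs 2 _
    (fun p => (PFun.perm_apply hok p).symm) hen

theorem a8w_cent_reps {P : PFun} (hP : P ∈ a8wReps) :
    ∀ h ∈ pgGrpW 64 a8wC, h * P.perm 64 = P.perm 64 * h → ∃ K ∈ a8wKs, h ^ K = 1 := by
  unfold a8wReps at hP
  simp only [List.mem_cons, List.not_mem_nil, or_false] at hP
  rcases hP with rfl | rfl | rfl | rfl
  · exact a8w_cent_of (a8wRepOk a8wmemR3A) a8wcent3A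
  · exact a8w_cent_of (a8wRepOk a8wmemR3B) a8wcent3B
  · exact a8w_cent_of (a8wRepOk a8wmemR5A) a8wcent5A
  · exact a8w_cent_of (a8wRepOk a8wmemR7A) a8wcent7A

theorem a8w_rep_of_table (x : Equiv.Perm (Fin 64)) (T : ℕ)
    (hT : T = a8wR3A ∨ T = a8wR3B ∨ T = a8wR5A ∨ T = a8wR7A)
    (hx : ∀ p : Fin 64, (x p).1 = pgLk 6 T p.1) : ∃ P ∈ a8wReps, x = P.perm 64 := by
  have key : ∀ T' : ℕ, a8wgen T T' ∈ a8wReps → ∃ P ∈ a8wReps, x = P.perm 64 := by
    intro T' hmem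
    refine ⟨_, hmem, Equiv.ext fun p => Fin.ext ?_⟩
    rw [hx, PFun.perm_apply (a8wRepOk hmem)]
    rfl
  rcases hT with rfl | rfl | rfl | rfl
  · exact key _ a8wmemR3A
  · exact key _ a8wmemR3B
  · exact key _ a8wmemR5A
  · exact key _ a8wmemR7A

theorem a8wCertTabs : pgAllL (a8wCert3 ++ a8wCert5 ++ a8wCert7) (fun c =>
    Nat.beq c.2.2 a8wR3A || Nat.beq c.2.2 a8wR3B || Nat.beq c.2.2 a8wR5A
      || Nat.beq c.2.2 a8wR7A) = true := by
  decide +kernel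

theorem a8wCertTab {c : List ℕ × ℕ × ℕ} (hc : c ∈ a8wCert3 ∨ c ∈ a8wCert5 ∨ c ∈ a8wCert7) :
    c.2.2 = a8wR3A ∨ c.2.2 = a8wR3B ∨ c.2.2 = a8wR5A ∨ c.2.2 = a8wR7A := by
  have hmem : c ∈ a8wCert3 ++ a8wCert5 ++ a8wCert7 := by
    simp only [List.mem_append]
    tauto
  have := (pgAllL_iff _ _).1 a8wCertTabs c hmem
  simp only [Bool.or_eq_true] at this
  rcases this with ((h | h) | h) | h
  · exact Or.inl (Nat.eq_of_beq_eq_true h)
  · exact Or.inr (Or.inl (Nat.eq_of_beq_eq_true h))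
  · exact Or.inr (Or.inr (Or.inl (Nat.eq_of_beq_eq_true h)))
  · exact Or.inr (Or.inr (Or.inr (Nat.eq_of_beq_eq_true h)))

theorem a8w_conj_of_test {C : List PgLvlW} {certs : List (List ℕ × ℕ × ℕ)}
    (hchk : pgChkW 64 (List.range 64) C = true)
    (hcerts : ∀ c ∈ certs, c ∈ a8wCert3 ∨ c ∈ a8wCert5 ∨ c ∈ a8wCert7)
    (ht : pgEnumM 64 6 pgNoPrune (pgConjTest 64 6 a8wL1.own certs) C 0 (fun p => p) [] = true) :
    ∀ h ∈ pgGrpW 64 C, h ≠ 1 → ∃ a ∈ pgGrpW 64 a8wC, ∃ j : ℕ, ∃ P ∈ a8wReps,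
      (a * h * a⁻¹) ^ j = P.perm 64 := by
  intro h hh h1
  obtain ⟨f, hf, htf⟩ := pgEnumM_all (by norm_num) (pgRigidTop 64) hchk le_top _ 0 ht h hh
  have hgs : ∀ P ∈ a8wL1.own, P.ok 64 = true := a8wok
  rcases pgConjTest_sound (by norm_num) hgs hf htf with h0 | ⟨c, hc, a, ha, hx⟩
  · exact absurd h0 h1
  · obtain ⟨P, hP, hPe⟩ := a8w_rep_of_table _ c.2.2 (a8wCertTab (hcerts c hc)) hx
    exact ⟨a, ha, c.2.1, P, hP, hPe⟩

/-! ### The exponents -/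

theorem a8w_exponent : ∀ g ∈ pgGrpW 64 a8wC, ∃ K ∈ a8wKs, g ^ K = 1 := by
  have main := exponents_of_sylow_data' (G := ↥(pgGrpW 64 a8wC)) a8wKs 12 2 1 1 a8wcard
    ((pgGrpW 64 a8wS2C).subgroupOf _) ((pgGrpW 64 a8wS3C).subgroupOf _)
    ((pgGrpW 64 a8wS5C).subgroupOf _) ((pgGrpW 64 a8wS7C).subgroupOf _)
    ((a8w_card_subgroupOf a8wS2le).trans a8wS2card)
    ((a8w_card_subgroupOf a8wS3le).trans a8wS3card)
    ((a8w_card_subgroupOf a8wS5le).trans a8wS5card)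
    ((a8w_card_subgroupOf a8wS7le).trans a8wS7card)
    {x | ∃ P ∈ a8wReps, x.1 = P.perm 64}
    (by
      rintro r ⟨P, hP, hr⟩ h hcomm
      have hc : h.1 * P.perm 64 = P.perm 64 * h.1 := by
        rw [← hr, ← Subgroup.coe_mul, hcomm, Subgroup.coe_mul]
      obtain ⟨K, hK, hpow⟩ := a8w_cent_reps hP h.1 h.2 hc
      exact ⟨K, hK, Subtype.ext (by rw [Subgroup.coe_pow, hpow]; rfl)⟩)
    (by
      intro w hw
      rw [mem_subgroupOf] at hw
      obtain ⟨f, hf, htf⟩ := pgEnumM_all (by norm_num) (pgRigidTop 64) a8wS2chk le_top _ 0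
        a8wS2test w.1 hw
      obtain ⟨K, hK, hpow⟩ := pgExpTest_sound (by norm_num) hf htf
      rw [List.mem_singleton] at hK
      subst hK
      exact ⟨8, by decide, Subtype.ext (by rw [Subgroup.coe_pow, hpow]; rfl)⟩)
    (by
      intro w hw hw1
      have hw1' : w.1 ≠ 1 := fun h => hw1 (Subtype.ext h)
      have key : ∃ a ∈ pgGrpW 64 a8wC, ∃ j : ℕ, ∃ P ∈ a8wReps,
          (a * w.1 * a⁻¹) ^ j = P.perm 64 := by
        rcases hw with hw | hw | hw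
        · exact a8w_conj_of_test a8wS3chk (fun c hc => Or.inl hc) a8wS3test w.1
            (mem_subgroupOf.1 hw) hw1'
        · exact a8w_conj_of_test a8wS5chk (fun c hc => Or.inr (Or.inl hc)) a8wS5test w.1
            (mem_subgroupOf.1 hw) hw1'
        · exact a8w_conj_of_test a8wS7chk (fun c hc => Or.inr (Or.inr hc)) a8wS7test w.1
            (mem_subgroupOf.1 hw) hw1'
      obtain ⟨a, ha, j, P, hP, he⟩ := key
      refine ⟨⟨a, ha⟩, j, P, hP, ?_⟩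
      rw [← he]
      rfl)
  intro g hg
  obtain ⟨K, hK, hpow⟩ := main ⟨g, hg⟩
  exact ⟨K, hK, by simpa using congrArg Subtype.val hpow⟩

theorem a8wdivs : ∀ K ∈ a8wKs, ∀ d, d ≤ 15 → d ∣ K →
    d ∈ ([1, 2, 3, 4, 5, 6, 7, 8, 10, 12, 15] : List ℕ) := by
  decide

theorem a8w_orderOf_mem (g : Equiv.Perm (Fin 64)) (hg : g ∈ pgGrpW 64 a8wC) :
    orderOf g ∈ ([1, 2, 3, 4, 5, 6, 7, 8, 10, 12, 15] : List ℕ) := by
  obtain ⟨K, hK, hpow⟩ := a8w_exponent g hg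
  have hd := orderOf_dvd_of_pow_eq_one hpow
  have hK15 : K ≤ 15 := by
    have : ∀ K ∈ a8wKs, K ≤ 15 := by decide
    exact this K hK
  have hK0 : 0 < K := by
    have : ∀ K ∈ a8wKs, 0 < K := by decide
    exact this K hK
  exact a8wdivs K hK _ ((Nat.le_of_dvd hK0 hd).trans hK15) hd

theorem a8w_orderOf_exists {k : ℕ} (hk : k ∈ ([1, 2, 3, 4, 5, 6, 7, 8, 10, 12, 15] : List ℕ)) :
    ∃ g ∈ pgGrpW 64 a8wC, orderOf g = k := by
  have hmap : a8wWit.map Prod.fst = [1, 2, 3, 4, 5, 6, 7, 8, 10, 12, 15] := by decide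
  rw [← hmap, List.mem_map] at hk
  obtain ⟨⟨k', wd⟩, hwd, rfl⟩ := hk
  have := (pgAllL_iff _ _).1 a8wWitOk (k', wd) hwd
  rw [Bool.and_eq_true] at this
  have hk0 : 0 < k' := by simpa using this.1
  exact ⟨pgWordPerm 64 a8wL1.own wd, pgWordPerm_mem a8wok wd, pgOrdTest_sound a8wok hk0 this.2⟩

theorem a8w_order_range : Set.range (orderOf : ↥(pgGrpW 64 a8wC) → ℕ) =
    {k | k ∈ ([1, 2, 3, 4, 5, 6, 7, 8, 10, 12, 15] : List ℕ)} := by
  ext k
  constructor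
  · rintro ⟨g, rfl⟩
    rw [← Subgroup.orderOf_coe]
    exact a8w_orderOf_mem g.1 g.2
  · intro hk
    obtain ⟨g, hg, hgo⟩ := a8w_orderOf_exists hk
    exact ⟨⟨g, hg⟩, by rw [← Subgroup.orderOf_coe]; exact hgo⟩

/-! ### The normal subgroup of order 64 -/

theorem a8wNok : ∀ P ∈ pgOwnW a8wNC, P.ok 64 = true :=
  pgChkW_own_ok 64 (pgRigidTop 64).base a8wNC a8wNchk

theorem a8wN_conj {s : PFun} (hs : s ∈ a8wL1.own) :
    (∀ x ∈ pgGrpW 64 a8wNC, s.perm 64 * x * (s.perm 64)⁻¹ ∈ pgGrpW 64 a8wNC) ∧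
    (∀ x ∈ pgGrpW 64 a8wNC, (s.perm 64)⁻¹ * x * s.perm 64 ∈ pgGrpW 64 a8wNC) := by
  have hsok : s.ok 64 = true := a8wok s hs
  have h1 := (pgAllL_iff _ _).1 a8wNnorm s hs
  rw [pgAllL_iff] at h1
  constructor
  · have : pgGrpW 64 a8wNC ≤ (pgGrpW 64 a8wNC).comap (MulAut.conj (s.perm 64)).toMonoidHom := by
      apply (closure_le _).2
      rintro x ⟨t, ht, rfl⟩
      have h2 := h1 t ht
      rw [Bool.and_eq_true] at h2
      have htok : t.ok 64 = true := a8wNok t ht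
      rw [SetLike.mem_coe, mem_comap]
      refine pgSiftW_sound (pgRigidTop 64) a8wNC a8wNchk le_top _ _ (mem_top _) ?_ h2.1
      intro p
      change _ = ((s.perm 64 * t.perm 64 * (s.perm 64)⁻¹) p).1
      rw [Equiv.Perm.mul_apply, Equiv.Perm.mul_apply, PFun.perm_apply hsok, PFun.perm_apply htok,
        PFun.perm_inv_apply hsok]
    intro x hx
    exact this hx
  · have : pgGrpW 64 a8wNC ≤
        (pgGrpW 64 a8wNC).comap (MulAut.conj (s.perm 64)⁻¹).toMonoidHom := by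
      apply (closure_le _).2
      rintro x ⟨t, ht, rfl⟩
      have h2 := h1 t ht
      rw [Bool.and_eq_true] at h2
      have htok : t.ok 64 = true := a8wNok t ht
      rw [SetLike.mem_coe, mem_comap]
      refine pgSiftW_sound (pgRigidTop 64) a8wNC a8wNchk le_top _ _ (mem_top _) ?_ h2.2
      intro p
      change _ = (((s.perm 64)⁻¹ * t.perm 64 * (s.perm 64)⁻¹⁻¹) p).1
      rw [inv_inv, Equiv.Perm.mul_apply, Equiv.Perm.mul_apply, PFun.perm_inv_apply hsok,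
        PFun.perm_apply htok, PFun.perm_apply hsok]
    intro x hx
    have := this hx
    rw [mem_comap] at this
    simpa using this

theorem a8wN_le_normalizer : pgGrpW 64 a8wC ≤ normalizer (pgGrpW 64 a8wNC) := by
  apply (closure_le _).2
  rintro x ⟨s, hs, rfl⟩
  obtain ⟨h1, h2⟩ := a8wN_conj hs
  rw [SetLike.mem_coe, mem_normalizer_iff]
  intro y
  constructor
  · exact h1 y
  · intro hy
    have := h2 _ hy
    have e : (s.perm 64)⁻¹ * (s.perm 64 * y * (s.perm 64)⁻¹) * s.perm 64 = y := by group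
    rwa [e] at this

instance a8wN_normal : ((pgGrpW 64 a8wNC).subgroupOf (pgGrpW 64 a8wC)).Normal :=
  normal_subgroupOf_of_le_normalizer a8wN_le_normalizer

theorem a8wN_exp : ∀ w ∈ (pgGrpW 64 a8wNC).subgroupOf (pgGrpW 64 a8wC), w ^ 2 = 1 := by
  intro w hw
  rw [mem_subgroupOf] at hw
  obtain ⟨f, hf, htf⟩ := pgEnumM_all (by norm_num) (pgRigidTop 64) a8wNchk le_top _ 0
    a8wNtest w.1 hw
  obtain ⟨K, hK, hpow⟩ := pgExpTest_sound (by norm_num) hf htf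
  rw [List.mem_singleton] at hK
  subst hK
  exact Subtype.ext (by rw [Subgroup.coe_pow, hpow]; rfl)

theorem a8wN_ne_bot : (pgGrpW 64 a8wNC).subgroupOf (pgGrpW 64 a8wC) ≠ ⊥ := by
  intro h
  have h1 := (a8w_card_subgroupOf a8wNle).trans a8wNcard
  rw [h, Subgroup.card_bot] at h1
  omega

/-- groups of arbitrarily large order with the element orders 1, …, 8, 10, 12, 15 -/
theorem a8w_large (N : ℕ) :
    ∃ (K : Type) (_ : Group K) (_ : Fintype K), N < Fintype.card K ∧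
      Set.range (orderOf : K → ℕ) = {k | k ∈ ([1, 2, 3, 4, 5, 6, 7, 8, 10, 12, 15] : List ℕ)} := by
  obtain ⟨K, i1, i2, h1, h2⟩ := exists_large_isospectral
    ((pgGrpW 64 a8wNC).subgroupOf (pgGrpW 64 a8wC)) a8wN_exp a8wN_ne_bot N
  exact ⟨K, i1, i2, h1, h2.trans a8w_order_range⟩

end Cfsg.Agent.Lib.helper23
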