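import Cfsg.Agent.Lib.helper23.TwistA

set_option autoImplicit false

namespace Cfsg.Agent.Lib.helper23

open MulAction

section ahavg

variable {H : Type*} [Group H] [Fintype H] {Ω : Type*} [Fintype Ω] [DecidableEq Ω]
  [MulAction H Ω]


/-- number of group elements sending `i` to `x` in a transitive action -/
theorem ah_count_one (htr : ∀ x y : Ω, ∃ g : H, g • x = y) (i x : Ω) :
    (Finset.univ.filter (fun k : H => k • i = x)).card * Fintype.card Ω = Fintype.card H := by
  have h1 : Fintype.card H
      = ∑ y : Ω, (Finset.univ.filter (fun k : H => k • i = y)).card := by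
    rw [← Finset.card_univ (α := H)]
    exact Finset.card_eq_sum_card_fiberwise (f := fun k : H => k • i) (t := Finset.univ)
      (fun k _ => Finset.mem_univ _)
  have h2 : ∀ y : Ω, (Finset.univ.filter (fun k : H => k • i = y)).card
      = (Finset.univ.filter (fun k : H => k • i = x)).card := by
    intro y
    obtain ⟨h, hh⟩ := htr y x
    refine Finset.card_bij' (fun k _ => h * k) (fun k _ => h⁻¹ * k) ?_ ?_ ?_ ?_
    · intro k hk
      simp only [Finset.mem_filter, Finset.mem_univ, true_and] at hk ⊢
      rw [mul_smul, hk, hh]
    · intro k hk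
      simp only [Finset.mem_filter, Finset.mem_univ, true_and] at hk ⊢
      rw [mul_smul, hk, ← hh, inv_smul_smul]
    · intro k _
      simp
    · intro k _
      simp
  rw [h1, Finset.sum_congr rfl (fun y _ => h2 y), Finset.sum_const, Finset.card_univ, smul_eq_mul,
    mul_comm]


/-- number of group elements sending `(i, j)` to `(x, y)` in a doubly transitive action -/
theorem ah_count_two (h2t : TwoTrans H Ω) (i j x y : Ω) (hij : i ≠ j) (hxy : x ≠ y) :
    (Finset.univ.filter (fun k : H => k • i = x ∧ k • j = y)).card
      * (Fintype.card Ω * Fintype.card Ω - Fintype.card Ω) = Fintype.card H := by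
  have h1 : Fintype.card H
      = ∑ t ∈ (Finset.univ : Finset Ω).offDiag,
          (Finset.univ.filter (fun k : H => (k • i, k • j) = t)).card := by
    rw [← Finset.card_univ (α := H)]
    refine Finset.card_eq_sum_card_fiberwise (f := fun k : H => (k • i, k • j))
      (t := (Finset.univ : Finset Ω).offDiag) (fun k _ => ?_)
    rw [Finset.mem_coe, Finset.mem_offDiag]
    refine ⟨Finset.mem_univ _, Finset.mem_univ _, ?_⟩
    intro h
    exact hij (MulAction.injective k h)
  have h2 : ∀ t ∈ (Finset.univ : Finset Ω).offDiag,
      (Finset.univ.filter (fun k : H => (k • i, k • j) = t)).card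
      = (Finset.univ.filter (fun k : H => k • i = x ∧ k • j = y)).card := by
    intro t ht
    rw [Finset.mem_offDiag] at ht
    obtain ⟨h, hh1, hh2⟩ := h2t t.1 t.2 x y ht.2.2 hxy
    refine Finset.card_bij' (fun k _ => h * k) (fun k _ => h⁻¹ * k) ?_ ?_ ?_ ?_
    · intro k hk
      simp only [Finset.mem_filter, Finset.mem_univ, true_and] at hk ⊢
      have hk1 : k • i = t.1 := by rw [← hk]
      have hk2 : k • j = t.2 := by rw [← hk]
      rw [mul_smul, mul_smul, hk1, hk2, hh1, hh2]
      exact ⟨rfl, rfl⟩
    · intro k hk
      simp only [Finset.mem_filter, Finset.mem_univ, true_and] at hk ⊢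
      rw [mul_smul, mul_smul, hk.1, hk.2, ← hh1, ← hh2, inv_smul_smul, inv_smul_smul]
    · intro k _
      simp
    · intro k _
      simp
  rw [h1, Finset.sum_congr rfl h2, Finset.sum_const, Finset.offDiag_card, Finset.card_univ,
    smul_eq_mul, mul_comm]


/-- the fibre count over a fixed point of `u` -/
theorem ah_fibre_fix (htr : ∀ x y : Ω, ∃ g : H, g • x = y) (b u : Ω → Ω) (i : Ω) (hi : u i = i) :
    (Finset.univ.filter (fun k : H => b (k • i) = k • (u i))).card * Fintype.card Ω
      = (Finset.univ.filter (fun x : Ω => b x = x)).card * Fintype.card H := by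
  have h1 : (Finset.univ.filter (fun k : H => b (k • i) = k • (u i))).card
      = ∑ x : Ω, ((Finset.univ.filter (fun k : H => b (k • i) = k • (u i))).filter
          (fun k : H => k • i = x)).card :=
    Finset.card_eq_sum_card_fiberwise (f := fun k : H => k • i) (t := Finset.univ)
      (fun k _ => Finset.mem_univ _)
  have h2 : ∀ x : Ω, ((Finset.univ.filter (fun k : H => b (k • i) = k • (u i))).filter
      (fun k : H => k • i = x)).card * Fintype.card Ω
      = if b x = x then Fintype.card H else 0 := by
    intro x
    by_cases hx : b x = x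
    · rw [if_pos hx, ← ah_count_one htr i x]
      congr 2
      ext k
      simp only [Finset.mem_filter, Finset.mem_univ, true_and]
      constructor
      · intro h; exact h.2
      · intro h; exact ⟨by rw [hi, h, hx], h⟩
    · rw [if_neg hx]
      have : ((Finset.univ.filter (fun k : H => b (k • i) = k • (u i))).filter
          (fun k : H => k • i = x)) = ∅ := by
        rw [Finset.eq_empty_iff_forall_notMem]
        intro k hk
        simp only [Finset.mem_filter, Finset.mem_univ, true_and] at hk
        apply hx
        have := hk.1
        rw [hi, hk.2] at this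
        exact this
      rw [this, Finset.card_empty, zero_mul]
  rw [h1, Finset.sum_mul, Finset.sum_congr rfl (fun x _ => h2 x), Finset.sum_ite,
    Finset.sum_const_zero, add_zero, Finset.sum_const, smul_eq_mul]


/-- the fibre count over a moved point of `u` -/
theorem ah_fibre_move (h2t : TwoTrans H Ω) (b u : Ω → Ω) (i : Ω) (hi : u i ≠ i) :
    (Finset.univ.filter (fun k : H => b (k • i) = k • (u i))).card
        * (Fintype.card Ω * Fintype.card Ω - Fintype.card Ω)
      = (Finset.univ.filter (fun x : Ω => b x ≠ x)).card * Fintype.card H := by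
  have h1 : (Finset.univ.filter (fun k : H => b (k • i) = k • (u i))).card
      = ∑ x : Ω, ((Finset.univ.filter (fun k : H => b (k • i) = k • (u i))).filter
          (fun k : H => k • i = x)).card :=
    Finset.card_eq_sum_card_fiberwise (f := fun k : H => k • i) (t := Finset.univ)
      (fun k _ => Finset.mem_univ _)
  have h2 : ∀ x : Ω, ((Finset.univ.filter (fun k : H => b (k • i) = k • (u i))).filter
      (fun k : H => k • i = x)).card * (Fintype.card Ω * Fintype.card Ω - Fintype.card Ω)
      = if b x ≠ x then Fintype.card H else 0 := by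
    intro x
    by_cases hx : b x = x
    · rw [if_neg (not_not.mpr hx)]
      have : ((Finset.univ.filter (fun k : H => b (k • i) = k • (u i))).filter
          (fun k : H => k • i = x)) = ∅ := by
        rw [Finset.eq_empty_iff_forall_notMem]
        intro k hk
        simp only [Finset.mem_filter, Finset.mem_univ, true_and] at hk
        apply hi
        have h3 := hk.1
        rw [hk.2, hx, ← hk.2] at h3
        exact (MulAction.injective k h3).symm
      rw [this, Finset.card_empty, zero_mul]
    · rw [if_pos hx, ← ah_count_two h2t i (u i) x (b x) (Ne.symm hi) (Ne.symm hx)]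
      congr 2
      ext k
      simp only [Finset.mem_filter, Finset.mem_univ, true_and]
      constructor
      · intro h; exact ⟨h.2, by rw [← h.1, h.2]⟩
      · intro h; exact ⟨by rw [h.1, h.2], h.1⟩
  rw [h1, Finset.sum_mul, Finset.sum_congr rfl (fun x _ => h2 x), Finset.sum_ite,
    Finset.sum_const_zero, add_zero, Finset.sum_const, smul_eq_mul]


/-- the averaging identity -/
theorem ah_average (h2t : TwoTrans H Ω) (hn : ∃ a b : Ω, a ≠ b) (b u : Ω → Ω) :
    (∑ k : H, (Finset.univ.filter (fun i : Ω => b (k • i) = k • (u i))).card)
        * (Fintype.card Ω * Fintype.card Ω - Fintype.card Ω)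
      = Fintype.card H *
        ((Finset.univ.filter (fun x : Ω => u x = x)).card
            * (Finset.univ.filter (fun x : Ω => b x = x)).card * (Fintype.card Ω - 1)
          + (Finset.univ.filter (fun x : Ω => u x ≠ x)).card
            * (Finset.univ.filter (fun x : Ω => b x ≠ x)).card) := by
  have htr : ∀ x y : Ω, ∃ g : H, g • x = y := h2t.trans hn
  have hswap : ∑ k : H, (Finset.univ.filter (fun i : Ω => b (k • i) = k • (u i))).card
      = ∑ i : Ω, (Finset.univ.filter (fun k : H => b (k • i) = k • (u i))).card := by
    simp_rw [Finset.card_filter]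
    exact Finset.sum_comm
  have hM : Fintype.card Ω * Fintype.card Ω - Fintype.card Ω
      = Fintype.card Ω * (Fintype.card Ω - 1) := by
    rw [Nat.mul_sub_one]
  have hterm : ∀ i : Ω, (Finset.univ.filter (fun k : H => b (k • i) = k • (u i))).card
        * (Fintype.card Ω * Fintype.card Ω - Fintype.card Ω)
      = if u i = i then (Finset.univ.filter (fun x : Ω => b x = x)).card * Fintype.card H
            * (Fintype.card Ω - 1)
        else (Finset.univ.filter (fun x : Ω => b x ≠ x)).card * Fintype.card H := by
    intro i
    by_cases hi : u i = i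
    · rw [if_pos hi, hM, ← mul_assoc, ah_fibre_fix htr b u i hi]
    · rw [if_neg hi, ah_fibre_move h2t b u i hi]
  rw [hswap, Finset.sum_mul, Finset.sum_congr rfl (fun i _ => hterm i), Finset.sum_ite,
    Finset.sum_const, Finset.sum_const, smul_eq_mul, smul_eq_mul]
  ring

end ahavg

end Cfsg.Agent.Lib.helper23
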