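import Cfsg.Agent.Lib.helper23.AHavg

set_option autoImplicit false

namespace Cfsg.Agent.Lib.helper23

open Equiv

section ahconf

variable {α : Type*} [Fintype α] [DecidableEq α]

/-- the number of agreements of `b ∘ k` and `k ∘ u` -/
def ahVal (b u k : Perm α) : ℕ := (Finset.univ.filter (fun i : α => b (k i) = k (u i))).card

/-- number of fixed points -/
def ahFix (a : Perm α) : ℕ := (Finset.univ.filter (fun i : α => a i = i)).card

theorem ah_inv_apply (f : Perm α) (x : α) : f⁻¹ (f x) = x := Equiv.Perm.inv_eq_iff_eq.mpr rfl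

theorem ah_apply_inv (f : Perm α) (x : α) : f (f⁻¹ x) = x := (Equiv.eq_symm_apply f).mp rfl

theorem ahVal_eq_fix (a b k : Perm α) : ahVal b a⁻¹ k = ahFix (a * (k⁻¹ * b * k)) := by
  unfold ahVal ahFix
  congr 1
  ext i
  rw [Finset.mem_filter, Finset.mem_filter]
  refine and_congr_right (fun _ => ?_)
  show b (k i) = k (a⁻¹ i) ↔ a (k⁻¹ (b (k i))) = i
  constructor
  · intro h
    rw [h, ah_inv_apply, ah_apply_inv]
  · intro h
    have h1 : k⁻¹ (b (k i)) = a⁻¹ i := by
      rw [← h, ah_inv_apply, h]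
    rw [← h1, ah_apply_inv]

theorem ahFix_inv (a : Perm α) : ahFix a⁻¹ = ahFix a := by
  unfold ahFix
  congr 1
  ext i
  rw [Finset.mem_filter, Finset.mem_filter]
  refine and_congr_right (fun _ => ?_)
  rw [Perm.inv_eq_iff_eq, eq_comm]

theorem ahFix_mul_comm (x y : Perm α) : ahFix (x * y) = ahFix (y * x) := by
  unfold ahFix
  refine Finset.card_bij' (fun i _ => y i) (fun i _ => y⁻¹ i) ?_ ?_ ?_ ?_
  · intro i hi
    rw [Finset.mem_filter] at hi ⊢
    refine ⟨Finset.mem_univ _, ?_⟩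
    have h1 : x (y i) = i := hi.2
    show y (x (y i)) = y i
    rw [h1]
  · intro i hi
    rw [Finset.mem_filter] at hi ⊢
    refine ⟨Finset.mem_univ _, ?_⟩
    have h1 : y (x i) = i := hi.2
    show x (y (y⁻¹ i)) = y⁻¹ i
    rw [ah_apply_inv]
    have : y⁻¹ (y (x i)) = y⁻¹ i := by rw [h1]
    rw [ah_inv_apply] at this
    exact this
  · intro i _
    exact ah_inv_apply y i
  · intro i _
    exact ah_apply_inv y i

theorem ahFix_natCard (a : Perm α) : Nat.card (Function.fixedPoints ⇑a) = ahFix a := by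
  unfold ahFix
  rw [Nat.card_eq_fintype_card, ← Fintype.card_subtype]
  rfl

theorem ahFix_add_moved (a : Perm α) :
    ahFix a + (Finset.univ.filter (fun i : α => a i ≠ i)).card = Fintype.card α := by
  unfold ahFix
  rw [Finset.card_filter_add_card_filter_not, Finset.card_univ]

theorem ah_exists_moved (a : Perm α) (ha : a ≠ 1) : ∃ x, a x ≠ x := by
  by_contra h
  push Not at h
  exact ha (Perm.ext h)

/-- a nontrivial permutation moves at least two points -/
theorem ah_two_le_moved (a : Perm α) (ha : a ≠ 1) :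
    2 ≤ (Finset.univ.filter (fun i : α => a i ≠ i)).card := by
  obtain ⟨x, hx⟩ := ah_exists_moved a ha
  have h1 : ({x, a x} : Finset α) ⊆ Finset.univ.filter (fun i : α => a i ≠ i) := by
    intro i hi
    rw [Finset.mem_insert, Finset.mem_singleton] at hi
    simp only [Finset.mem_filter, Finset.mem_univ, true_and]
    rcases hi with rfl | rfl
    · exact hx
    · intro h
      exact hx (a.injective h)
  have h2 : ({x, a x} : Finset α).card = 2 := Finset.card_pair (Ne.symm hx)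
  calc 2 = ({x, a x} : Finset α).card := h2.symm
    _ ≤ _ := Finset.card_le_card h1

/-- lower bound for the nested configuration -/
theorem ah_L1_val (b u σ : Perm α) (x : α) (hx : u x ≠ x)
    (hfix : ∀ t, u t = t → b (σ t) = σ t) (hagree : b (σ x) = σ (u x)) :
    ahFix u + 1 ≤ ahVal b u σ := by
  unfold ahFix ahVal
  have hxn : x ∉ Finset.univ.filter (fun i : α => u i = i) := by
    rw [Finset.mem_filter]
    intro h
    exact hx h.2
  rw [← Finset.card_insert_of_notMem hxn]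
  apply Finset.card_le_card
  intro i hi
  rw [Finset.mem_insert, Finset.mem_filter] at hi
  rw [Finset.mem_filter]
  refine ⟨Finset.mem_univ _, ?_⟩
  rcases hi with rfl | ⟨-, hi⟩
  · exact hagree
  · rw [hi]
    exact hfix i hi

/-- parity adjustment -/
theorem ah_parity (σ : Perm α) (c d : α) (hcd : c ≠ d) :
    σ ∈ alternatingGroup α ∨ σ * swap c d ∈ alternatingGroup α := by
  rw [Perm.mem_alternatingGroup, Perm.mem_alternatingGroup, Perm.sign_mul, Perm.sign_swap hcd]
  rcases Int.units_eq_one_or (Perm.sign σ) with h | h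
  · left; exact h
  · right; rw [h]; rfl

theorem ah_parity' (σ : Perm α) (c d : α) (hcd : c ≠ d) :
    σ ∈ alternatingGroup α ∨ swap c d * σ ∈ alternatingGroup α := by
  rw [Perm.mem_alternatingGroup, Perm.mem_alternatingGroup, Perm.sign_mul, Perm.sign_swap hcd]
  rcases Int.units_eq_one_or (Perm.sign σ) with h | h
  · left; exact h
  · right; rw [h]; rfl

theorem ah_vec2_inj (x y : α) (h : x ≠ y) : Function.Injective ![x, y] := by
  intro i j hij
  fin_cases i <;> fin_cases j <;> simp_all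

/-- the nested configuration exists with an even permutation -/
theorem ah_L1_exists (hN : 5 ≤ Fintype.card α) (b u : Perm α) (hu : u ≠ 1) (hb : b ≠ 1)
    (hle : ahFix u ≤ ahFix b) :
    ∃ σ ∈ alternatingGroup α, ahFix u + 1 ≤ ahVal b u σ := by
  obtain ⟨x, hx⟩ := ah_exists_moved u hu
  obtain ⟨p, hp⟩ := ah_exists_moved b hb
  have hcard : Fintype.card {t : α // u t = t} ≤ Fintype.card {t : α // b t = t} := by
    rw [Fintype.card_subtype, Fintype.card_subtype]
    exact hle
  obtain ⟨ι⟩ := Function.Embedding.nonempty_of_card_le hcard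
  have hux : u (u x) ≠ u x := fun h => hx (u.injective h)
  have hbp : b (b p) ≠ b p := fun h => hp (b.injective h)
  have hf : Function.Injective
      (Sum.elim (fun t : {t : α // u t = t} => (t : α)) ![x, u x]) := by
    refine Function.Injective.sumElim Subtype.val_injective (ah_vec2_inj x (u x) (Ne.symm hx)) ?_
    intro t i h
    fin_cases i
    · exact hx (by rw [← show (t : α) = x from h]; exact t.2)
    · exact hux (by rw [← show (t : α) = u x from h]; exact t.2)
  have hg : Function.Injective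
      (Sum.elim (fun t : {t : α // u t = t} => ((ι t : {t : α // b t = t}) : α)) ![p, b p]) := by
    refine Function.Injective.sumElim (Subtype.val_injective.comp ι.injective)
      (ah_vec2_inj p (b p) (Ne.symm hp)) ?_
    intro t i h
    fin_cases i
    · exact hp (by rw [← show ((ι t : {t : α // b t = t}) : α) = p from h]; exact (ι t).2)
    · exact hbp (by rw [← show ((ι t : {t : α // b t = t}) : α) = b p from h]; exact (ι t).2)
  obtain ⟨σ₀, hσ₀⟩ := Perm.exists_extending_pair _ _ hf hg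
  have h1 : ∀ t, u t = t → b (σ₀ t) = σ₀ t := by
    intro t ht
    have := hσ₀ (Sum.inl ⟨t, ht⟩)
    simp only [Sum.elim_inl] at this
    rw [this]
    exact (ι ⟨t, ht⟩).2
  have h2 : σ₀ x = p := hσ₀ (Sum.inr 0)
  have h3 : σ₀ (u x) = b p := hσ₀ (Sum.inr 1)
  -- parity
  have hS : 2 < ((Finset.univ.erase x).erase (u x)).card := by
    rw [Finset.card_erase_of_mem (Finset.mem_erase.mpr ⟨hx, Finset.mem_univ _⟩),
      Finset.card_erase_of_mem (Finset.mem_univ _), Finset.card_univ]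
    omega
  obtain ⟨c₁, c₂, c₃, hc₁, hc₂, hc₃, h12, h13, h23⟩ := Finset.two_lt_card_iff.mp hS
  have hmem : ∀ c, c ∈ (Finset.univ.erase x).erase (u x) → c ≠ x ∧ c ≠ u x := by
    intro c hc
    rw [Finset.mem_erase, Finset.mem_erase] at hc
    exact ⟨hc.2.1, hc.1⟩
  have hpair : ∃ c d : α, c ≠ d ∧ c ≠ x ∧ c ≠ u x ∧ d ≠ x ∧ d ≠ u x ∧ (u c = c ↔ u d = d) := by
    have m1 := hmem _ hc₁
    have m2 := hmem _ hc₂
    have m3 := hmem _ hc₃
    by_cases e1 : u c₁ = c₁
    · by_cases e2 : u c₂ = c₂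
      · exact ⟨c₁, c₂, h12, m1.1, m1.2, m2.1, m2.2, iff_of_true e1 e2⟩
      · by_cases e3 : u c₃ = c₃
        · exact ⟨c₁, c₃, h13, m1.1, m1.2, m3.1, m3.2, iff_of_true e1 e3⟩
        · exact ⟨c₂, c₃, h23, m2.1, m2.2, m3.1, m3.2, iff_of_false e2 e3⟩
    · by_cases e2 : u c₂ = c₂
      · by_cases e3 : u c₃ = c₃
        · exact ⟨c₂, c₃, h23, m2.1, m2.2, m3.1, m3.2, iff_of_true e2 e3⟩
        · exact ⟨c₁, c₃, h13, m1.1, m1.2, m3.1, m3.2, iff_of_false e1 e3⟩
      · exact ⟨c₁, c₂, h12, m1.1, m1.2, m2.1, m2.2, iff_of_false e1 e2⟩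
  obtain ⟨c, d, hcd, hcx, hcux, hdx, hdux, hstat⟩ := hpair
  rcases ah_parity σ₀ c d hcd with hev | hev
  · exact ⟨σ₀, hev, ah_L1_val b u σ₀ x hx h1 (by rw [h2, h3])⟩
  · refine ⟨σ₀ * swap c d, hev, ah_L1_val b u _ x hx ?_ ?_⟩
    · intro t ht
      rw [Perm.mul_apply]
      apply h1
      by_cases htc : t = c
      · rw [htc, swap_apply_left]; exact hstat.mp (htc ▸ ht)
      · by_cases htd : t = d
        · rw [htd, swap_apply_right]; exact hstat.mpr (htd ▸ ht)
        · rw [swap_apply_of_ne_of_ne htc htd]; exact ht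
    · rw [Perm.mul_apply, Perm.mul_apply, swap_apply_of_ne_of_ne (Ne.symm hcx) (Ne.symm hdx),
        swap_apply_of_ne_of_ne (Ne.symm hcux) (Ne.symm hdux), h2, h3]


theorem ah_vec3_inj (x y z : α) (hxy : x ≠ y) (hxz : x ≠ z) (hyz : y ≠ z) :
    Function.Injective ![x, y, z] := by
  intro i j hij
  fin_cases i <;> fin_cases j <;> simp_all

theorem ah_vec4_inj (x y z w : α) (hxy : x ≠ y) (hxz : x ≠ z) (hxw : x ≠ w) (hyz : y ≠ z)
    (hyw : y ≠ w) (hzw : z ≠ w) : Function.Injective ![x, y, z, w] := by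
  intro i j hij
  fin_cases i <;> fin_cases j <;> simp_all

/-- two disjoint arcs in a permutation moving at least four points -/
theorem ah_two_arcs (π : Perm α)
    (h4 : 4 ≤ (Finset.univ.filter (fun i : α => π i ≠ i)).card) :
    ∃ i j : α, π i ≠ i ∧ π j ≠ j ∧ j ≠ i ∧ j ≠ π i ∧ π j ≠ i := by
  have hne : (Finset.univ.filter (fun i : α => π i ≠ i)).Nonempty := by
    rw [← Finset.card_pos]; omega
  obtain ⟨i, hi⟩ := hne
  rw [Finset.mem_filter] at hi
  have hlt : ({i, π i, π⁻¹ i} : Finset α).card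
      < (Finset.univ.filter (fun i : α => π i ≠ i)).card :=
    lt_of_le_of_lt Finset.card_le_three (by omega)
  obtain ⟨j, hj, hjn⟩ := Finset.exists_mem_notMem_of_card_lt_card hlt
  rw [Finset.mem_filter] at hj
  rw [Finset.mem_insert, Finset.mem_insert, Finset.mem_singleton] at hjn
  push Not at hjn
  refine ⟨i, j, hi.2, hj.2, hjn.1, hjn.2.1, ?_⟩
  intro h
  apply hjn.2.2
  rw [← h, ah_inv_apply]

theorem ah_two_val (b u σ : Perm α) (x x' : α) (hxx : x ≠ x') (h1 : b (σ x) = σ (u x))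
    (h2 : b (σ x') = σ (u x')) : 2 ≤ ahVal b u σ := by
  unfold ahVal
  rw [← Finset.card_pair hxx]
  apply Finset.card_le_card
  intro i hi
  rw [Finset.mem_insert, Finset.mem_singleton] at hi
  rw [Finset.mem_filter]
  refine ⟨Finset.mem_univ _, ?_⟩
  rcases hi with rfl | rfl
  · exact h1
  · exact h2

/-- two agreements with an even permutation when both permutations move almost everything -/
theorem ah_L2_exists (hN : 5 ≤ Fintype.card α) (b u : Perm α) (hu0 : ahFix u = 0)
    (hb1 : ahFix b ≤ 1) : ∃ σ ∈ alternatingGroup α, 2 ≤ ahVal b u σ := by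
  have hsu := ahFix_add_moved u
  have hsb := ahFix_add_moved b
  by_cases hA : (∃ p, b p ≠ p ∧ b (b p) ≠ p) ∧ (∃ x, u x ≠ x ∧ u (u x) ≠ x)
  · obtain ⟨⟨p, hp1, hp2⟩, ⟨x, hx1, hx2⟩⟩ := hA
    have hp3 : b (b p) ≠ b p := fun h => hp1 (b.injective h)
    have hx3 : u (u x) ≠ u x := fun h => hx1 (u.injective h)
    obtain ⟨σ₀, hσ₀⟩ := Perm.exists_extending_pair ![x, u x, u (u x)] ![p, b p, b (b p)]
      (ah_vec3_inj _ _ _ (Ne.symm hx1) (Ne.symm hx2) (Ne.symm hx3))
      (ah_vec3_inj _ _ _ (Ne.symm hp1) (Ne.symm hp2) (Ne.symm hp3))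
    have e0 : σ₀ x = p := hσ₀ 0
    have e1 : σ₀ (u x) = b p := hσ₀ 1
    have e2 : σ₀ (u (u x)) = b (b p) := hσ₀ 2
    have hS : 1 < (((Finset.univ.erase x).erase (u x)).erase (u (u x))).card := by
      have m1 : x ∈ (Finset.univ : Finset α) := Finset.mem_univ _
      have m2 : u x ∈ (Finset.univ : Finset α).erase x := Finset.mem_erase.mpr ⟨hx1, Finset.mem_univ _⟩
      have m3 : u (u x) ∈ ((Finset.univ : Finset α).erase x).erase (u x) :=
        Finset.mem_erase.mpr ⟨hx3, Finset.mem_erase.mpr ⟨hx2, Finset.mem_univ _⟩⟩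
      rw [Finset.card_erase_of_mem m3, Finset.card_erase_of_mem m2, Finset.card_erase_of_mem m1,
        Finset.card_univ]
      omega
    obtain ⟨c, hc, d, hd, hcd⟩ := Finset.one_lt_card.mp hS
    rw [Finset.mem_erase, Finset.mem_erase, Finset.mem_erase] at hc hd
    rcases ah_parity σ₀ c d hcd with hev | hev
    · exact ⟨σ₀, hev, ah_two_val b u σ₀ x (u x) (Ne.symm hx1) (by rw [e0, e1]) (by rw [e1, e2])⟩
    · refine ⟨σ₀ * swap c d, hev, ah_two_val b u _ x (u x) (Ne.symm hx1) ?_ ?_⟩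
      · rw [Perm.mul_apply, Perm.mul_apply,
          swap_apply_of_ne_of_ne (Ne.symm hc.2.2.1) (Ne.symm hd.2.2.1),
          swap_apply_of_ne_of_ne (Ne.symm hc.2.1) (Ne.symm hd.2.1), e0, e1]
      · rw [Perm.mul_apply, Perm.mul_apply,
          swap_apply_of_ne_of_ne (Ne.symm hc.2.1) (Ne.symm hd.2.1),
          swap_apply_of_ne_of_ne (Ne.symm hc.1) (Ne.symm hd.1), e1, e2]
  · have hinv : (∀ p, b p ≠ p → b (b p) = p) ∨ (∀ x, u x ≠ x → u (u x) = x) := by
      by_contra hcon
      push Not at hcon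
      obtain ⟨⟨p, hp1, hp2⟩, ⟨x, hx1, hx2⟩⟩ := hcon
      exact hA ⟨⟨p, hp1, hp2⟩, ⟨x, hx1, hx2⟩⟩
    obtain ⟨p, p', hp, hp', h1, h2, h3⟩ := ah_two_arcs b (by omega)
    obtain ⟨x, x', hx, hx', g1, g2, g3⟩ := ah_two_arcs u (by omega)
    have h4 : b p' ≠ b p := fun h => h1 (b.injective h)
    have g4 : u x' ≠ u x := fun h => g1 (u.injective h)
    obtain ⟨σ₀, hσ₀⟩ := Perm.exists_extending_pair ![x, u x, x', u x'] ![p, b p, p', b p']
      (ah_vec4_inj _ _ _ _ (Ne.symm hx) (Ne.symm g1) (Ne.symm g3) (Ne.symm g2) (Ne.symm g4)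
        (Ne.symm hx'))
      (ah_vec4_inj _ _ _ _ (Ne.symm hp) (Ne.symm h1) (Ne.symm h3) (Ne.symm h2) (Ne.symm h4)
        (Ne.symm hp'))
    have e0 : σ₀ x = p := hσ₀ 0
    have e1 : σ₀ (u x) = b p := hσ₀ 1
    have e2 : σ₀ x' = p' := hσ₀ 2
    have e3 : σ₀ (u x') = b p' := hσ₀ 3
    rcases hinv with hb2 | hu2
    · rcases ah_parity' σ₀ p (b p) (Ne.symm hp) with hev | hev
      · exact ⟨σ₀, hev, ah_two_val b u σ₀ x x' (Ne.symm g1) (by rw [e0, e1]) (by rw [e2, e3])⟩
      · refine ⟨swap p (b p) * σ₀, hev, ah_two_val b u _ x x' (Ne.symm g1) ?_ ?_⟩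
        · rw [Perm.mul_apply, Perm.mul_apply, e0, e1, swap_apply_left, swap_apply_right,
            hb2 p hp]
        · rw [Perm.mul_apply, Perm.mul_apply, e2, e3, swap_apply_of_ne_of_ne h1 h2,
            swap_apply_of_ne_of_ne h3 h4]
    · rcases ah_parity σ₀ x (u x) (Ne.symm hx) with hev | hev
      · exact ⟨σ₀, hev, ah_two_val b u σ₀ x x' (Ne.symm g1) (by rw [e0, e1]) (by rw [e2, e3])⟩
      · refine ⟨σ₀ * swap x (u x), hev, ah_two_val b u _ (u x) x' (Ne.symm g2) ?_ ?_⟩
        · rw [Perm.mul_apply, Perm.mul_apply, swap_apply_right, hu2 x hx, swap_apply_left, e0, e1]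
        · rw [Perm.mul_apply, Perm.mul_apply, swap_apply_of_ne_of_ne g1 g2,
            swap_apply_of_ne_of_ne g3 g4, e2, e3]


end ahconf

end Cfsg.Agent.Lib.helper23
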