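import Cfsg.Agent.Lib.helper23.AHconf

set_option autoImplicit false

namespace Cfsg.Agent.Lib.helper23

open Equiv MulAction

section aharith

theorem ah_arith_key (M Fa Su Fb Sb : ℕ) (h1 : Fa + Su = M + 1) (h2 : Fb + Sb = M + 1) :
    (Fa + 1) * ((M + 1) * M) + (M + 1)
      = Fa * Fb * M + Su * Sb + (M + 1) * (Fa * Sb + Fb) := by
  have e1 : (Su : ℤ) = M + 1 - Fa := by
    have : ((Fa + Su : ℕ) : ℤ) = ((M + 1 : ℕ) : ℤ) := by rw [h1]
    push_cast at this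
    linarith
  have e2 : (Sb : ℤ) = M + 1 - Fb := by
    have : ((Fb + Sb : ℕ) : ℤ) = ((M + 1 : ℕ) : ℤ) := by rw [h2]
    push_cast at this
    linarith
  zify
  rw [e1, e2]
  ring

theorem ah_arith1 (N Fa Su Fb Sb v : ℕ) (hN : 5 ≤ N) (h1 : Fa + Su = N) (h2 : Fb + Sb = N)
    (hSb : 2 ≤ Sb) (hc : 1 ≤ Fa ∨ 2 ≤ Fb) (hv : Fa + 1 ≤ v) :
    v * (N * N - N) ≠ Fa * Fb * (N - 1) + Su * Sb := by
  obtain ⟨M, rfl⟩ : ∃ M, N = M + 1 := ⟨N - 1, by omega⟩
  have hM : (M + 1) * (M + 1) - (M + 1) = (M + 1) * M := by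
    apply Nat.sub_eq_of_eq_add
    ring
  rw [hM, Nat.add_sub_cancel]
  have key := ah_arith_key M Fa Su Fb Sb h1 h2
  have h3 : 2 ≤ Fa * Sb + Fb := by
    rcases hc with hc | hc
    · have : 1 * 2 ≤ Fa * Sb := Nat.mul_le_mul hc hSb
      omega
    · omega
  have h4 : (Fa + 1) * ((M + 1) * M) ≤ v * ((M + 1) * M) := Nat.mul_le_mul_right _ hv
  have h5 : (M + 1) * 2 ≤ (M + 1) * (Fa * Sb + Fb) := Nat.mul_le_mul_left _ h3
  omega

theorem ah_arith2 (N Su Fb Sb v : ℕ) (hN : 5 ≤ N) (h1 : 0 + Su = N) (h2 : Fb + Sb = N)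
    (hv : 2 ≤ v) :
    v * (N * N - N) ≠ 0 * Fb * (N - 1) + Su * Sb := by
  obtain ⟨M, rfl⟩ : ∃ M, N = M + 1 := ⟨N - 1, by omega⟩
  have hM : (M + 1) * (M + 1) - (M + 1) = (M + 1) * M := by
    apply Nat.sub_eq_of_eq_add
    ring
  rw [hM, Nat.add_sub_cancel]
  have hSu : Su = M + 1 := by omega
  subst hSu
  have h4 : 2 * ((M + 1) * M) ≤ v * ((M + 1) * M) := Nat.mul_le_mul_right _ hv
  have h5 : (M + 1) * Sb ≤ (M + 1) * (M + 1) := Nat.mul_le_mul_left _ (by omega)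
  have h6 : (M + 1) * (M + 1) < 2 * ((M + 1) * M) := by nlinarith
  omega

end aharith

section ahmain

variable {α : Type*} [Fintype α] [DecidableEq α]

theorem ah_alt_twoTrans (hN : 5 ≤ Fintype.card α) : TwoTrans ↥(alternatingGroup α) α := by
  have h1 := alternatingGroup.isMultiplyPretransitive α
  have hc : Nat.card α = Fintype.card α := Nat.card_eq_fintype_card
  have h2 : IsMultiplyPretransitive (↥(alternatingGroup α)) α 2 := by
    apply isMultiplyPretransitive_of_le (n := Nat.card α - 2) _ (Nat.sub_le _ _)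
    omega
  intro x y x' y' hxy hxy'
  exact (is_two_pretransitive_iff.mp h2) hxy hxy'

theorem ah_nonconst (hN : 5 ≤ Fintype.card α) (b u k₀ : Perm α)
    (hk₀ : k₀ ∈ alternatingGroup α)
    (hne : ahVal b u k₀ * (Fintype.card α * Fintype.card α - Fintype.card α)
      ≠ ahFix u * ahFix b * (Fintype.card α - 1)
        + (Finset.univ.filter (fun i : α => u i ≠ i)).card
          * (Finset.univ.filter (fun i : α => b i ≠ i)).card) :
    ∃ k₁ ∈ alternatingGroup α, ahVal b u k₁ ≠ ahVal b u k₀ := by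
  by_contra hcon
  push Not at hcon
  have hn : ∃ x y : α, x ≠ y := by
    have h1 : 1 < Fintype.card α := by omega
    obtain ⟨x, y, hxy⟩ := Fintype.exists_pair_of_one_lt_card h1
    exact ⟨x, y, hxy⟩
  have hav := ah_average (H := ↥(alternatingGroup α)) (ah_alt_twoTrans hN) hn (⇑b) (⇑u)
  have hsum : (∑ k : ↥(alternatingGroup α),
      (Finset.univ.filter (fun i : α => b (k • i) = k • (u i))).card)
      = Fintype.card ↥(alternatingGroup α) * ahVal b u k₀ := by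
    have h3 : ∀ k : ↥(alternatingGroup α),
        (Finset.univ.filter (fun i : α => b (k • i) = k • (u i))).card = ahVal b u k₀ := by
      intro k
      exact hcon (k : Perm α) k.property
    rw [Finset.sum_congr rfl (fun k _ => h3 k), Finset.sum_const,
      Finset.card_univ, smul_eq_mul]
  rw [hsum, mul_assoc] at hav
  have hpos : 0 < Fintype.card ↥(alternatingGroup α) := Fintype.card_pos
  exact hne (Nat.eq_of_mul_eq_mul_left hpos hav)

theorem ah_main_le (hN : 5 ≤ Fintype.card α) (a b : Perm α) (ha : a ≠ 1) (hb : b ≠ 1)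
    (hle : ahFix a ≤ ahFix b) :
    ∃ k₀ ∈ alternatingGroup α, ∃ k₁ ∈ alternatingGroup α,
      ahFix (a * (k₀⁻¹ * b * k₀)) ≠ ahFix (a * (k₁⁻¹ * b * k₁)) := by
  have hu : a⁻¹ ≠ 1 := by
    intro h
    exact ha (inv_eq_one.mp h)
  have hle' : ahFix a⁻¹ ≤ ahFix b := by rw [ahFix_inv]; exact hle
  have h1 := ahFix_add_moved a⁻¹
  have h2 := ahFix_add_moved b
  have hSb := ah_two_le_moved b hb
  suffices h : ∃ k₀ ∈ alternatingGroup α,
      ahVal b a⁻¹ k₀ * (Fintype.card α * Fintype.card α - Fintype.card α)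
      ≠ ahFix a⁻¹ * ahFix b * (Fintype.card α - 1)
        + (Finset.univ.filter (fun i : α => a⁻¹ i ≠ i)).card
          * (Finset.univ.filter (fun i : α => b i ≠ i)).card by
    obtain ⟨k₀, hk₀, hne⟩ := h
    obtain ⟨k₁, hk₁, hne1⟩ := ah_nonconst hN b a⁻¹ k₀ hk₀ hne
    refine ⟨k₀, hk₀, k₁, hk₁, ?_⟩
    rw [← ahVal_eq_fix, ← ahVal_eq_fix]
    exact fun h => hne1 h.symm
  by_cases hc : 1 ≤ ahFix a⁻¹ ∨ 2 ≤ ahFix b
  · obtain ⟨σ, hσ, hval⟩ := ah_L1_exists hN b a⁻¹ hu hb hle'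
    exact ⟨σ, hσ, ah_arith1 _ _ _ _ _ _ hN h1 h2 hSb hc hval⟩
  · push Not at hc
    have hu0 : ahFix a⁻¹ = 0 := by omega
    have hb1 : ahFix b ≤ 1 := by omega
    obtain ⟨σ, hσ, hval⟩ := ah_L2_exists hN b a⁻¹ hu0 hb1
    refine ⟨σ, hσ, ?_⟩
    rw [hu0] at h1 ⊢
    exact ah_arith2 _ _ _ _ _ hN h1 h2 hval

theorem ah_main (hN : 5 ≤ Fintype.card α) (a b : Perm α) (ha : a ≠ 1) (hb : b ≠ 1) :
    ∃ g₁ h₁ g₂ h₂ : Perm α, g₁ ∈ alternatingGroup α ∧ h₁ ∈ alternatingGroup α ∧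
      g₂ ∈ alternatingGroup α ∧ h₂ ∈ alternatingGroup α ∧
      ahFix (g₁ * a * g₁⁻¹ * (h₁ * b * h₁⁻¹)) ≠ ahFix (g₂ * a * g₂⁻¹ * (h₂ * b * h₂⁻¹)) := by
  rcases le_total (ahFix a) (ahFix b) with hle | hle
  · obtain ⟨k₀, hk₀, k₁, hk₁, hne⟩ := ah_main_le hN a b ha hb hle
    refine ⟨1, k₀⁻¹, 1, k₁⁻¹, Subgroup.one_mem _, Subgroup.inv_mem _ hk₀, Subgroup.one_mem _,
      Subgroup.inv_mem _ hk₁, ?_⟩
    rw [inv_inv, inv_inv, inv_one, one_mul, mul_one]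
    exact hne
  · obtain ⟨k₀, hk₀, k₁, hk₁, hne⟩ := ah_main_le hN b a hb ha hle
    refine ⟨k₀⁻¹, 1, k₁⁻¹, 1, Subgroup.inv_mem _ hk₀, Subgroup.one_mem _, Subgroup.inv_mem _ hk₁,
      Subgroup.one_mem _, ?_⟩
    rw [inv_inv, inv_inv, inv_one, one_mul, mul_one, ahFix_mul_comm (k₀⁻¹ * a * k₀) b,
      ahFix_mul_comm (k₁⁻¹ * a * k₁) b]
    exact hne

end ahmain

end Cfsg.Agent.Lib.helper23
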