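import Mathlib
import Cfsg.Agent.Lib.Helper10.BGL.AlgDefs

/-!
# Project BGL (designer Helper10; S2189 / S2190), block ALG, row AL6 (`alg_spec_card`), verbatim from `SkelALG.lean.txt` (helper23)
-/

set_option autoImplicit false

namespace Cfsg.Agent.Lib.Helper10.BGL

open Cfsg.Lie Cfsg.Lie.ChevalleyDatum Cfsg.Agent.Lib.helper8 Cfsg.Agent.Lib.helper7.Sf

universe u

/-- `GeneralLinearGroup.map` of an injective ring homomorphism is injective -/
theorem bglal6_map_injective {n : Type*} [Fintype n] [DecidableEq n] {R S : Type*} [CommRing R] [CommRing S]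
    (f : R →+* S) (hf : Function.Injective f) :
    Function.Injective (Matrix.GeneralLinearGroup.map (n := n) f) := by
  unfold Matrix.GeneralLinearGroup.map
  apply Units.map_injective
  intro A B hAB
  exact Matrix.map_injective hf hAB

/-- AL6 [S].  `GeneralLinearGroup.map R.subtype` is injective, so the comap embeds into `M`; the
map is a quotient of the comap. -/
theorem alg_spec_card (D : ChevalleyDatum) {k : Type u} [Field k] (R : Subring k) {F : Type u}
    [Field F] (π : R →+* F) (M : Subgroup (GL D.Idx k)) [Finite M] :
    Finite (specM D R π M) ∧ Nat.card (specM D R π M) ≤ Nat.card M := by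
  have hinj : Function.Injective (Matrix.GeneralLinearGroup.map (n := D.Idx) R.subtype) :=
    bglal6_map_injective R.subtype Subtype.val_injective
  set C : Subgroup (GL D.Idx R) := M.comap (Matrix.GeneralLinearGroup.map R.subtype) with hC
  let f : C → M := fun x => ⟨Matrix.GeneralLinearGroup.map R.subtype x.1, x.2⟩
  have hf : Function.Injective f := by
    intro x y hxy
    apply Subtype.ext
    apply hinj
    exact congrArg Subtype.val hxy
  have hCfin : Finite C := Finite.of_injective f hf
  have hCcard : Nat.card C ≤ Nat.card M := Nat.card_le_card_of_injective f hf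
  let g : C → specM D R π M := fun x => ⟨Matrix.GeneralLinearGroup.map π x.1, Subgroup.mem_map_of_mem _ x.2⟩
  have hg : Function.Surjective g := by
    rintro ⟨y, x, hx, rfl⟩
    exact ⟨⟨x, hx⟩, rfl⟩
  have hSfin : Finite (specM D R π M) := Finite.of_surjective g hg
  exact ⟨hSfin, (Nat.card_le_card_of_surjective g hg).trans hCcard⟩

end Cfsg.Agent.Lib.Helper10.BGL
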