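import Mathlib
import Cfsg.Agent.Lib.Helper10.BGL.AlgDefs
import Cfsg.Agent.Lib.helper23.BGLAL6

/-!
# Project BGL (designer Helper10; S2189 / S2190), block ALG, row AL7 (`alg_spec_entry`): CORE (helper23)

The per-`π` bound: every entry `e` of every `g ∈ M` has `π(e)^(p^n) = π(e)` for some `1 ≤ n ≤ |M|`.
Hypotheses: the conclusions of AL4 `alg_spec_group` (`hAL4`) and AL5 `alg_spec_Lq` (`hAL5`) for the given `π`; AL6 is cited.
-/

set_option autoImplicit false

namespace Cfsg.Agent.Lib.Helper10.BGL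

open Cfsg.Lie Cfsg.Lie.ChevalleyDatum Cfsg.Agent.Lib.helper8 Cfsg.Agent.Lib.helper7.Sf

universe u

/-- a matrix over `k` with entries (of it and of its inverse) in the subring `R` lifts to `GL(R)` -/
theorem bglal7_lift {n : Type*} [Fintype n] [DecidableEq n] {k : Type*} [Field k] (R : Subring k) (g : GL n k)
    (hg : ∀ i j, (g : Matrix n n k) i j ∈ R) (hg' : ∀ i j, ((g⁻¹ : GL n k) : Matrix n n k) i j ∈ R) :
    ∃ g' : GL n R, Matrix.GeneralLinearGroup.map R.subtype g' = g ∧
      ∀ i j, (g' : Matrix n n R) i j = ⟨(g : Matrix n n k) i j, hg i j⟩ := by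
  set A : Matrix n n R := Matrix.of fun i j => ⟨(g : Matrix n n k) i j, hg i j⟩ with hA
  set B : Matrix n n R := Matrix.of fun i j => ⟨((g⁻¹ : GL n k) : Matrix n n k) i j, hg' i j⟩ with hB
  have hAm : (RingHom.mapMatrix R.subtype) A = (g : Matrix n n k) := by
    ext i j
    rfl
  have hBm : (RingHom.mapMatrix R.subtype) B = ((g⁻¹ : GL n k) : Matrix n n k) := by
    ext i j
    rfl
  have hinj : Function.Injective (RingHom.mapMatrix (m := n) R.subtype) := by
    intro X Y hXY
    exact Matrix.map_injective Subtype.val_injective hXY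
  have hAB : A * B = 1 := by
    apply hinj
    rw [map_mul, hAm, hBm, map_one, ← Units.val_mul, mul_inv_cancel, Units.val_one]
  have hBA : B * A = 1 := by
    apply hinj
    rw [map_mul, hAm, hBm, map_one, ← Units.val_mul, inv_mul_cancel, Units.val_one]
  refine ⟨⟨A, B, hAB, hBA⟩, ?_, fun i j => rfl⟩
  apply Units.ext
  ext i j
  rfl

/-- the characteristic of the target of a ring homomorphism from a subring of a field of characteristic `p` -/
theorem bglal7_charP {k : Type*} [Field k] (p : ℕ) [Fact p.Prime] [CharP k p] (R : Subring k) {F : Type*} [Field F]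
    (π : R →+* F) : CharP F p := by
  have h0 : ((p : R) : k) = 0 := by
    rw [Subring.coe_natCast]
    exact CharP.cast_eq_zero k p
  have h1 : (p : R) = 0 := Subtype.ext h0
  have h2 : (p : F) = 0 := by
    rw [← map_natCast π, h1, map_zero]
  obtain ⟨c, hc⟩ := CharP.exists F
  have hdvd : c ∣ p := (CharP.cast_eq_zero_iff F c p).1 h2
  rcases (Nat.dvd_prime (Fact.out : p.Prime)).1 hdvd with h | h
  · subst h
    exact absurd rfl (CharP.char_ne_one F 1)
  · subst h
    exact hc

theorem bglal7_nroots_pos (D : ChevalleyDatum)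
    (hD : D ∈ [chevG2, chevB2, chevD4, chevF4, chevE6, chevE7, chevE8]) : 0 < D.nroots := by
  simp only [List.mem_cons, List.mem_nil_iff, or_false] at hD
  rcases hD with rfl | rfl | rfl | rfl | rfl | rfl | rfl <;> decide

/-- AL7, core: the conclusions of AL4 and AL5 as hypotheses -/
theorem bglal7_core (D : ChevalleyDatum)
    (hD : D ∈ [chevG2, chevB2, chevD4, chevF4, chevE6, chevE7, chevE8])
    {k : Type u} [Field k] (p : ℕ) [Fact p.Prime] [CharP k p] (a : ℕ)
    (hfin : ∀ (K : Type u) [Field K] [Finite K] [CharP K p] (H : Subgroup (GL D.Idx K)),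
      H ≤ D.group K → Lq D K (p ^ a) ≤ H → ∃ r : ℕ, 1 ≤ r ∧ Lq D K ((p ^ a) ^ r) ≤ H ∧
        ∀ h ∈ H, RatM D ((p ^ a) ^ r) ((h : GL D.Idx K) : Matrix D.Idx D.Idx K))
    (M : Subgroup (GL D.Idx k)) (hMfin : Finite M) (R : Subring k)
    (hRe : ∀ g ∈ M, ∀ i j, (g : Matrix D.Idx D.Idx k) i j ∈ R)
    {F : Type u} [Field F] [Finite F] (π : R →+* F)
    (hAL4 : specM D R π M ≤ D.group F) (hAL5 : Lq D F (p ^ a) ≤ specM D R π M)
    (g : GL D.Idx k) (hg : g ∈ M) (i j : D.Idx) :
    ∃ n : ℕ, 1 ≤ n ∧ n ≤ Nat.card M ∧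
      π ⟨(g : Matrix D.Idx D.Idx k) i j, hRe g hg i j⟩ ^ (p ^ n) =
        π ⟨(g : Matrix D.Idx D.Idx k) i j, hRe g hg i j⟩ := by
  have : CharP F p := bglal7_charP p R π
  have := hMfin
  obtain ⟨r, hr1, hLr, hrat⟩ := hfin F (specM D R π M) hAL4 hAL5
  have : ExpChar F p := ExpChar.prime (Fact.out : p.Prime)
  have hQp : (p ^ a) ^ r = p ^ (a * r) := by rw [pow_mul]
  set K' : Subfield F := RingHom.eqLocusField (iterateFrobenius F p (a * r)) (RingHom.id F) with hK'
  have hmemK : ∀ c : F, c ∈ K' ↔ c ^ ((p ^ a) ^ r) = c := by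
    intro c
    rw [hQp]
    show iterateFrobenius F p (a * r) c = RingHom.id F c ↔ _
    rw [iterateFrobenius_def, RingHom.id_apply]
  have : Fintype K' := Fintype.ofFinite K'
  have : CharP K' p := RingHom.charP K'.subtype Subtype.val_injective p
  obtain ⟨n, -, hn⟩ := FiniteField.card K' p
  refine ⟨n, n.pos, ?_, ?_⟩
  · have hB := h8base_all.{u} D hD
    have hA := h8reflAll D hD
    have hW := h8bn2_all D hD
    have h0 := bglal7_nroots_pos D hD
    let f : K' → specM D R π M := fun c =>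
      ⟨h8xU D hB 0 c.1, hLr (x_mem_Lq D ((p ^ a) ^ r) 0 c.1 ((hmemK c.1).1 c.2) _ (h8xU_val D hB 0 c.1))⟩
    have hf : Function.Injective f := by
      intro c c' h
      apply Subtype.ext
      exact h8xU_inj_t' D hB hA hW 0 h0 c.1 c'.1 (congrArg Subtype.val h)
    have h1 : Nat.card K' ≤ Nat.card (specM D R π M) := by
      have := (alg_spec_card D R π M).1
      exact Nat.card_le_card_of_injective f hf
    have h2 := (alg_spec_card D R π M).2
    have h3 : Nat.card K' = p ^ (n : ℕ) := by rw [Nat.card_eq_fintype_card, hn]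
    have h4 : (n : ℕ) < p ^ (n : ℕ) := Nat.lt_pow_self (Fact.out : p.Prime).one_lt
    omega
  · obtain ⟨g', hg'1, hg'2⟩ := bglal7_lift R g (hRe g hg) (hRe g⁻¹ (inv_mem hg))
    have hmem : Matrix.GeneralLinearGroup.map π g' ∈ specM D R π M := by
      apply Subgroup.mem_map_of_mem
      show Matrix.GeneralLinearGroup.map R.subtype g' ∈ M
      rw [hg'1]
      exact hg
    have h5 := hrat _ hmem i j
    rw [Matrix.GeneralLinearGroup.map_apply, hg'2] at h5
    have h7 : π ⟨(g : Matrix D.Idx D.Idx k) i j, hRe g hg i j⟩ ∈ K' := (hmemK _).2 h5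
    have h8 := FiniteField.pow_card (⟨_, h7⟩ : K')
    rw [hn] at h8
    exact congrArg Subtype.val h8

end Cfsg.Agent.Lib.Helper10.BGL
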