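import Mathlib
import Cfsg.Agent.Lib.Helper10.BGL.AlgDefs
import Cfsg.Agent.Lib.helper23.BGLAL7core
import Cfsg.Agent.Lib.Helper29.BGLAL4
import Cfsg.Agent.Lib.Helper29.BGLAL5

/-!
# Project BGL (designer Helper10; S2189 / S2190), block ALG, row AL7 (`alg_spec_entry`), verbatim from `SkelALG.lean.txt` (helper23)

The verbatim wrapper of `bglal7_core` with AL4 `alg_spec_group` and AL5 `alg_spec_Lq` (helper29).
-/

set_option autoImplicit false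
set_option linter.unusedVariables false

namespace Cfsg.Agent.Lib.Helper10.BGL

open Cfsg.Lie Cfsg.Lie.ChevalleyDatum Cfsg.Agent.Lib.helper8 Cfsg.Agent.Lib.helper7.Sf

universe u

/-- AL7 [M].  See the header of `SkelALG.lean.txt`. -/
theorem alg_spec_entry (D : ChevalleyDatum)
    (hD : D ∈ [chevG2, chevB2, chevD4, chevF4, chevE6, chevE7, chevE8])
    {k : Type u} [Field k] [IsAlgClosed k] (p : ℕ) [Fact p.Prime] [CharP k p] (a : ℕ) (ha : 1 ≤ a)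
    (hfin : ∀ (K : Type u) [Field K] [Finite K] [CharP K p] (H : Subgroup (GL D.Idx K)),
      H ≤ D.group K → Lq D K (p ^ a) ≤ H → ∃ r : ℕ, 1 ≤ r ∧ Lq D K ((p ^ a) ^ r) ≤ H ∧
        ∀ h ∈ H, RatM D ((p ^ a) ^ r) ((h : GL D.Idx K) : Matrix D.Idx D.Idx K))
    (M : Subgroup (GL D.Idx k)) (hMfin : Finite M) (hMG : M ≤ D.group k)
    (hLM : Lq D k (p ^ a) ≤ M) (R : Subring k)
    (hRq : ∀ c : k, c ^ (p ^ a) = c → c ∈ R)
    (hw : ∀ g ∈ M, ∃ w : List (ℕ × k), (∀ pr ∈ w, pr.2 ∈ R) ∧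
      (g : Matrix D.Idx D.Idx k) = D.wordMat k w)
    (hRe : ∀ g ∈ M, ∀ i j, (g : Matrix D.Idx D.Idx k) i j ∈ R)
    {F : Type u} [Field F] [Finite F] (π : R →+* F)
    (g : GL D.Idx k) (hg : g ∈ M) (i j : D.Idx) :
    ∃ n : ℕ, 1 ≤ n ∧ n ≤ Nat.card M ∧
      π ⟨(g : Matrix D.Idx D.Idx k) i j, hRe g hg i j⟩ ^ (p ^ n) =
        π ⟨(g : Matrix D.Idx D.Idx k) i j, hRe g hg i j⟩ :=
  bglal7_core D hD p a hfin M hMfin R hRe π (alg_spec_group D hD R π M hw)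
    (alg_spec_Lq D hD p a ha R π M hRq hLM) g hg i j

end Cfsg.Agent.Lib.Helper10.BGL
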