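import Mathlib
import Cfsg.Agent.Lib.helper3.BSZ.Defs
import Cfsg.Agent.Lib.Helper5.BSZA01
import Cfsg.Agent.Lib.Helper16.BSZA06
import Cfsg.Agent.Lib.Helper21.BSZF01

/-! BSZ row F05 (`S_case`), second copy as a core (hypotheses: statements of A12 and F03), helper23. -/

set_option autoImplicit false

namespace Cfsg.Agent.Lib.helper3.BSZ

open Cfsg Cfsg.Agent.Lib.helper3

variable {F : Type*} [Field F] [Fintype F] {m : ℕ}

/-- F05 as a core: `hA12` is the statement of A12 `isSylCen_comm`, `hF03` that of F03 `subStab_gD`. -/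
theorem bszf05_h23_core (hF : Fintype.card F = 2 ^ (2 * m + 1)) (hm : 1 ≤ m)
    (hA12 : ∀ {G : Type} [Group G] {H : Subgroup G}, IsSylCen H → ∀ x ∈ H, ∀ y ∈ H, x * y = y * x)
    (hF03 : ∀ (K' : Subfield F) {k : Fˣ}, (k : F) ∈ K' → gD hF k ∈ subStab m K')
    (IH : ∀ (K : Type) [Field K] [Fintype K] (k : ℕ), Fintype.card K = 2 ^ (2 * k + 1) → 1 ≤ k → k < m →
      ∀ H' : Subgroup (Sz K k), H' ≠ ⊤ → BinH H' → (H' = ⊥ ∨ IsSylCen H'))
    (K' : Subfield F) (k : ℕ) (hk : 1 ≤ k) (hkm : k < m) (hK' : Nat.card K' = 2 ^ (2 * k + 1)) :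
    ¬ BinH (subStab m K') := by
  classical
  intro hB
  have h2 : (2 : F) = 0 := sz_two hF
  -- an element outside the subfield
  have hβ : ∃ β : F, β ∉ K' := by
    by_contra hcon
    push Not at hcon
    have htop : K' = ⊤ := by
      ext x
      simp [hcon x]
    have hc : Nat.card K' = Fintype.card F := by
      rw [htop, ← Nat.card_eq_fintype_card]
      exact Nat.card_congr (Subfield.topEquiv (K := F)).toEquiv
    rw [hK', hF] at hc
    have := Nat.pow_right_injective (le_refl 2) hc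
    omega
  obtain ⟨β, hβ⟩ := hβ
  obtain ⟨K, iK, iK', hKc, -, ⟨e⟩⟩ := subStab_iso hF hm K' k hk hK'
  set S := subStab m K' with hS
  set g := gT hF 0 β with hg
  have hginv : g⁻¹ = g := by
    rw [hg, gT_inv, zero_mul, add_zero]
  -- the binary subgroup `L` of `Sz K k`
  have hB1 : BinH ((S ⊓ cj S g).subgroupOf S) := binary_stab S hB g
  have hB2 : BinH (((S ⊓ cj S g).subgroupOf S).map e.toMonoidHom) :=
    (binary_iso e _).mp hB1
  -- translations over the subfield lie in `S ⊓ cj S g`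
  have hT : ∀ a ∈ K', ∀ b ∈ K', gT hF a b ∈ S ⊓ cj S g := by
    intro a ha b hb
    have h1 : gT hF a b ∈ S := subStab_gT hF K' ha hb
    have : g⁻¹ * gT hF a b * g = gT hF a b := by
      rw [hg, mul_assoc, gT_central, ← mul_assoc, inv_mul_cancel, one_mul]
    refine ⟨h1, (mem_map_conj_iff S g _).mpr ?_⟩
    rw [this]
    exact h1
  obtain ⟨μ, hμK, hμ0, hμ1⟩ := subK_exists_ne K' hK' hk
  -- two non-commuting elements of `L`
  set x1 : S := ⟨gT hF 1 0, (hT 1 K'.one_mem 0 K'.zero_mem).1⟩ with hx1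
  set x2 : S := ⟨gT hF μ 0, (hT μ hμK 0 K'.zero_mem).1⟩ with hx2
  have hx1m : x1 ∈ (S ⊓ cj S g).subgroupOf S := by
    rw [Subgroup.mem_subgroupOf]
    exact hT 1 K'.one_mem 0 K'.zero_mem
  have hx2m : x2 ∈ (S ⊓ cj S g).subgroupOf S := by
    rw [Subgroup.mem_subgroupOf]
    exact hT μ hμK 0 K'.zero_mem
  have hnc : x1 * x2 ≠ x2 * x1 := by
    intro h
    have h' : gT hF 1 0 * gT hF μ 0 = gT hF μ 0 * gT hF 1 0 := congrArg Subtype.val h
    rw [gT_mul, gT_mul] at h'
    have h3 := (gT_injective hF h').2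
    rw [szθ_one] at h3
    have h4 : μ + szθ m μ = 0 := by
      have : szθ m μ = μ := by
        have h5 : (0 : F) + 0 + 1 * μ = 0 + 0 + szθ m μ * 1 := h3
        simp only [zero_add, one_mul, mul_one] at h5
        exact h5.symm
      rw [this, ← two_mul, h2, zero_mul]
    exact szθ_add_self_ne_zero hF hμ0 hμ1 h4
  set L := ((S ⊓ cj S g).subgroupOf S).map e.toMonoidHom with hL
  have hy1 : e x1 ∈ L := ⟨x1, hx1m, rfl⟩
  have hy2 : e x2 ∈ L := ⟨x2, hx2m, rfl⟩
  have hync : e x1 * e x2 ≠ e x2 * e x1 := by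
    intro h
    apply hnc
    apply e.injective
    rw [map_mul, map_mul, h]
  have hLbot : L ≠ ⊥ := by
    intro h
    rw [h] at hy1 hy2
    rw [Subgroup.mem_bot] at hy1 hy2
    rw [hy1, hy2] at hync
    exact hync rfl
  have hLsc : ¬ IsSylCen L := fun h => hync (hA12 h _ hy1 _ hy2)
  have hLtop : L = ⊤ := by
    by_contra hne
    rcases IH K k hKc hk hkm L hne hB2 with h | h
    · exact hLbot h
    · exact hLsc h
  -- hence `S ≤ cj S g`
  have hSle : ∀ s ∈ S, g⁻¹ * s * g ∈ S := by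
    intro s hs
    have h1 : e ⟨s, hs⟩ ∈ L := by rw [hLtop]; exact Subgroup.mem_top _
    obtain ⟨y, hy, hye⟩ := h1
    have h3 : y = ⟨s, hs⟩ := e.injective hye
    subst h3
    have hy' := (Subgroup.mem_subgroupOf).mp hy
    exact (mem_map_conj_iff S g s).mp hy'.2
  -- the torus element
  set l : Fˣ := Units.mk0 μ hμ0 with hl
  have hl1 : l ≠ 1 := by
    intro h
    apply hμ1
    have := congrArg Units.val h
    simpa [hl] using this
  have hDl : gD hF l ∈ S := hF03 K' (by simpa [hl] using hμK)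
  have h5 : g⁻¹ * gD hF l * g ∈ S := hSle _ hDl
  have h6 : g⁻¹ * gD hF l * g * (gD hF l)⁻¹ ∈ S := S.mul_mem h5 (S.inv_mem hDl)
  set ν : F := (l : F) ^ 2 * szθ m (l : F) ^ 2 with hν
  have h7 : g⁻¹ * gD hF l * g * (gD hF l)⁻¹ = gT hF 0 (β + ν * β) := by
    have h8 : gD hF l * g * (gD hF l)⁻¹ = gT hF 0 (ν * β) := by
      rw [hg, gD_conj_gT, mul_zero]
    calc g⁻¹ * gD hF l * g * (gD hF l)⁻¹ = g⁻¹ * (gD hF l * g * (gD hF l)⁻¹) := by group
      _ = gT hF 0 β * gT hF 0 (ν * β) := by rw [h8, hginv]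
      _ = gT hF 0 (β + ν * β) := by
        rw [gT_mul, szθ_zero, zero_mul, add_zero, add_zero]
  rw [h7] at h6
  have h9 : β + ν * β ∈ K' := subStab_gT_zero hF K' h6
  have hνK : ν ∈ K' := by
    have hlK : (l : F) ∈ K' := by simpa [hl] using hμK
    exact K'.mul_mem (K'.pow_mem hlK 2) (K'.pow_mem (subK_szθ K' hlK) 2)
  have hν1 : ν ≠ 1 := sz_nu_ne_one hF hl1
  have h10 : (1 + ν) ≠ 0 := by
    intro h
    apply hν1
    have : ν = -1 := by linear_combination h
    rw [this]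
    have : (-1 : F) = 1 := by linear_combination (-1 : F) * h2
    exact this
  apply hβ
  have h11 : β = (1 + ν)⁻¹ * (β + ν * β) := by
    field_simp
  rw [h11]
  exact K'.mul_mem (K'.inv_mem (K'.add_mem K'.one_mem hνK)) h9

end Cfsg.Agent.Lib.helper3.BSZ
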