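import Mathlib
import Cfsg.Prelude.Def_ChevStructure
import Cfsg.Prelude.Def_LieTypes
import Cfsg.Prelude.Def_ChevB2
import Cfsg.Agent.Lib.helper8.BTT.Defs
import Cfsg.Agent.Lib.helper23.BTTGRP10core
import Cfsg.Agent.Lib.helper8.BTTGEN1
import Cfsg.Agent.Lib.helper2.BTTGEN4
import Cfsg.Agent.Lib.Helper21.BTTGEN9
import Cfsg.Agent.Lib.Helper18.BTTGRP7
import Cfsg.Agent.Lib.Helper13.BTTGEN6

/-!
# Project BTT (S2154, designer helper8), row GRP10 (helper23): `filP_le_U`, VERBATIM.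
-/

set_option autoImplicit false

namespace Cfsg.Agent.Lib.helper8.BTT

open Cfsg.Lie Cfsg.Lie.ChevalleyDatum

universe u

section grp
variable {F : Type u} [Field F] (D : ChevalleyDatum)

/-- GRP10 [M]: `G ∩ FilP ℓ_L ≤ U` for dominant `L`: it is a `p`-subgroup (GEN2, GEN4, GEN9)
normalised by `U` (GRP7, GEN6), and `U` is a Sylow `p`-subgroup (S2326). -/
theorem filP_le_U (hD : D ∈ [chevG2, chevB2, chevD4, chevF4, chevE6, chevE7, chevE8])
    [Fintype F] (p : ℕ) [Fact p.Prime] [CharP F p]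
    (L : Fin D.nroots → ℝ) (hL : L ∈ levE D) (hdom : Dom D L) (q : GL D.Idx F)
    (hqG : q ∈ D.group F) (hq : FilP (lvl D L) (q : Matrix D.Idx D.Idx F)) :
    q ∈ D.posUnipotent F :=
  bttgrp10_core D hD p (lvl D L)
    (fun M M' h h' => filP_mul (lvl D L) M M' h h')
    (fun g h => filP_inv (lvl D L) g h)
    (fun g h => filP_pow_eq_one p (lvl D L) g h)
    (fun u hu => B_par D hD L hL hdom u (Subgroup.mem_sup_left hu))
    (fun b g hb hg => par_conj_filP (lvl D L) b g hb hg)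
    q hqG hq

end grp

end Cfsg.Agent.Lib.helper8.BTT
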