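import Mathlib
import Cfsg.Prelude.Def_ChevStructure
import Cfsg.Agent.Lib.helper8.BTT.Defs
import Cfsg.Agent.Lib.Helper22.BTTGEN3
import Cfsg.Agent.Lib.Helper25.BTTGEN5

/-!
# Project BTT (S2154, designer helper8), row GRP11 (`levi_lev`): CORE (helper23).

`bttgrp11_core`: the Levi subgroup `L_J` preserves a grading as soon as `H` and the root elements
`x_r(t)`, `r ∈ Φ_J`, do (the cited statements GRP2 `x_lev` + ROOT4 `dom_zero` and GRP3 `H_lev` enter
as hypotheses; GEN3 `lev_one` `lev_mul` and GEN5 `lev_inv` are cited).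
-/

set_option autoImplicit false

namespace Cfsg.Agent.Lib.helper8.BTT

open Cfsg.Lie Cfsg.Lie.ChevalleyDatum

universe u

/-- the subgroup of `GL` of the matrices preserving the grading `ℓ` -/
def bttgrp11_levSub {ι : Type*} [Fintype ι] [DecidableEq ι] {F : Type*} [Field F] (ℓ : ι → ℝ) :
    Subgroup (GL ι F) where
  carrier := {g | Lev ℓ ℓ (g : Matrix ι ι F)}
  mul_mem' := by
    intro a b ha hb
    have h := lev_mul ℓ ℓ ℓ (b : Matrix ι ι F) (a : Matrix ι ι F) hb ha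
    simpa using h
  one_mem' := by
    have h := lev_one (F := F) ℓ
    simpa using h
  inv_mem' := by
    intro a ha
    exact lev_inv ℓ ℓ a ha

theorem bttgrp11_mem_levSub {ι : Type*} [Fintype ι] [DecidableEq ι] {F : Type*} [Field F]
    (ℓ : ι → ℝ) (g : GL ι F) :
    g ∈ bttgrp11_levSub (F := F) ℓ ↔ Lev ℓ ℓ (g : Matrix ι ι F) := Iff.rfl

section grp
variable {F : Type u} [Field F] (D : ChevalleyDatum)

/-- GRP11 core: `L_J ⊆ Lev ℓ ℓ` if `H ⊆ Lev ℓ ℓ` and `x_r(t) ∈ Lev ℓ ℓ` for `r ∈ Φ_J`. -/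
theorem bttgrp11_core (ℓ : D.Idx → ℝ) (J : Set ℕ)
    (hx : ∀ (s : ℕ) (t : F), D.InRootSub J s → Lev ℓ ℓ (D.x F s t))
    (hH : ∀ h : GL D.Idx F, h ∈ D.diagonalSubgroup F → Lev ℓ ℓ (h : Matrix D.Idx D.Idx F))
    (l : GL D.Idx F) (hl : l ∈ D.leviSubgroup F J) :
    Lev ℓ ℓ (l : Matrix D.Idx D.Idx F) := by
  have hle : D.leviSubgroup F J ≤ bttgrp11_levSub (F := F) ℓ := by
    unfold ChevalleyDatum.leviSubgroup
    refine sup_le (fun h hh => hH h hh) ?_
    rw [Subgroup.closure_le]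
    rintro g ⟨r, t, hr, hg⟩
    show Lev ℓ ℓ (g : Matrix D.Idx D.Idx F)
    rw [hg]
    exact hx r t hr
  exact hle hl

end grp

end Cfsg.Agent.Lib.helper8.BTT
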