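import Mathlib
import Cfsg.Prelude.Def_ChevStructure
import Cfsg.Prelude.Def_LieTypes
import Cfsg.Prelude.Def_ChevB2
import Cfsg.Agent.Lib.helper8.BTT.Defs
import Cfsg.Agent.Lib.helper23.BTTGRP11core
import Cfsg.Agent.Lib.Helper26.BTTGRP2
import Cfsg.Agent.Lib.Helper9.BTTROOT4
import Cfsg.Agent.Lib.helper15.BTTGRP3

/-!
# Project BTT (S2154, designer helper8), row GRP11 (helper23): `levi_lev`, VERBATIM.
-/

set_option autoImplicit false

namespace Cfsg.Agent.Lib.helper8.BTT

open Cfsg.Lie Cfsg.Lie.ChevalleyDatum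

universe u

section grp
variable {F : Type u} [Field F] (D : ChevalleyDatum)

/-- GRP11 [S-M]: the Levi subgroup of the zero set preserves the grading (GRP2 `x_lev`, GRP3,
ROOT4 `dom_zero`, GEN3, GEN5). -/
theorem levi_lev (hD : D ∈ [chevG2, chevB2, chevD4, chevF4, chevE6, chevE7, chevE8])
    (L : Fin D.nroots → ℝ) (hL : L ∈ levE D) (l : GL D.Idx F)
    (hl : l ∈ D.leviSubgroup F (zeroSet D L)) :
    Lev (lvl D L) (lvl D L) (l : Matrix D.Idx D.Idx F) :=
  bttgrp11_core D (lvl D L) (zeroSet D L)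
    (fun s t hs => x_lev D hD L hL s hs.1 t (dom_zero D hD L hL s hs))
    (fun h hh => H_lev D hD (lvl D L) h hh)
    l hl

end grp

end Cfsg.Agent.Lib.helper8.BTT
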