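import Mathlib
import Cfsg.Agent.Lib.helper3.C6U.Defs

set_option autoImplicit false
set_option linter.unusedVariables false
set_option linter.unusedSectionVars false

/-!
# Project C6U (designer helper3), row A6 (`tau_five`, helper23): the golden ratio in `F_{p²}` when `ord_5(p) = 4`.
-/

namespace Cfsg.Agent.Lib.helper3.C6U

open Polynomial Matrix
open Cfsg.Agent.Lib.Helper10.C6P
open scoped MatrixGroups

variable {F : Type*} [Field F]

section fin

variable [Fintype F] {p : ℕ} [Fact p.Prime] [CharP F p]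

/-- `ord_5(p) = 4` means `p ≡ 2, 3 (mod 5)`. -/
theorem c6ua6_mod (p : ℕ) (h5 : orderOf (p : ZMod 5) = 4) : p % 5 = 2 ∨ p % 5 = 3 := by
  have hp4 : (p : ZMod 5) ^ 4 = 1 := by
    rw [← h5]
    exact pow_orderOf_eq_one _
  have hp2 : (p : ZMod 5) ^ 2 ≠ 1 := by
    intro h
    have := orderOf_dvd_of_pow_eq_one h
    rw [h5] at this
    omega
  have hmod : ((p : ℕ) : ZMod 5) = ((p % 5 : ℕ) : ZMod 5) := by
    rw [ZMod.natCast_mod]
  rw [hmod] at hp4 hp2
  have hlt : p % 5 < 5 := Nat.mod_lt _ (by norm_num)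
  interval_cases (p % 5)
  · exfalso; revert hp4; decide
  · exfalso; apply hp2; decide
  · left; rfl
  · right; rfl
  · exfalso; apply hp2; decide

/-- `p` is not a square modulo 5. -/
theorem c6ua6_not_sq (p : ℕ) (h5 : orderOf (p : ZMod 5) = 4) : ¬ IsSquare ((p : ℕ) : ZMod 5) := by
  have hmod : ((p : ℕ) : ZMod 5) = ((p % 5 : ℕ) : ZMod 5) := by
    rw [ZMod.natCast_mod]
  rw [hmod]
  rcases c6ua6_mod p h5 with h | h
  · rw [h]
    rintro ⟨y, hy⟩
    revert hy
    revert y
    decide
  · rw [h]
    rintro ⟨y, hy⟩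
    revert hy
    revert y
    decide

/-- the Frobenius conjugate of a root of `X² + X - 1` outside the prime field. -/
theorem c6ua6_frob (h5 : orderOf (p : ZMod 5) = 4) (τ : F) (hτ : τ ^ 2 + τ = 1) :
    τ ^ p = -1 - τ := by
  have hp : p.Prime := Fact.out
  have : Fact (Nat.Prime 5) := ⟨Nat.prime_five⟩
  have hmod5 := c6ua6_mod p h5
  have hp5 : p ≠ 5 := by
    rintro rfl
    omega
  have h5F : (5 : F) ≠ 0 := by
    intro h
    have h' : ((5 : ℕ) : F) = 0 := by
      push_cast
      exact h
    have hdvd := (CharP.cast_eq_zero_iff F p 5).mp h'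
    exact hp5 ((Nat.prime_dvd_prime_iff_eq hp Nat.prime_five).mp hdvd)
  -- `τ ^ p` is again a root
  have hroot : (τ ^ p) ^ 2 + τ ^ p = 1 := by
    have h1 : (τ ^ 2 + τ) ^ p = (τ ^ 2) ^ p + τ ^ p := add_pow_char (τ ^ 2) τ p
    rw [hτ, one_pow] at h1
    rw [← pow_mul, mul_comm, pow_mul]
    exact h1.symm
  have hprod : (τ ^ p - τ) * (τ ^ p - (-1 - τ)) = 0 := by
    linear_combination hroot - hτ
  rcases mul_eq_zero.mp hprod with h | h
  · exfalso
    have hfix : τ ^ p = τ := sub_eq_zero.mp h
    by_cases hp2 : p = 2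
    · subst hp2
      have h2F : ((2 : ℕ) : F) = 0 := CharP.cast_eq_zero F 2
      push_cast at h2F
      have : (1 : F) = 0 := by
        linear_combination (-1 : F) * hτ + hfix + τ * h2F
      exact one_ne_zero this
    · -- `s = 2 τ + 1` is a square root of `5` fixed by Frobenius
      have hs2 : (2 * τ + 1) ^ 2 = 5 := by linear_combination 4 * hτ
      have hs0 : (2 * τ + 1) ≠ 0 := by
        intro h0
        rw [h0] at hs2
        apply h5F
        rw [← hs2]
        ring
      have hsp : (2 * τ + 1) ^ p = 2 * τ + 1 := by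
        have h1 : (2 * τ + 1) ^ p = (2 * τ) ^ p + 1 ^ p := add_pow_char (2 * τ) 1 p
        rw [h1, mul_pow, one_pow, hfix]
        have h2 : ((2 : ℕ) : F) ^ p = ((2 : ℕ) : F) := by
          have := map_natCast (frobenius F p) 2
          rwa [frobenius_def] at this
        push_cast at h2
        rw [h2]
      have hpodd : p = 2 * (p / 2) + 1 := by
        have := hp.eq_one_or_self_of_dvd 2
        rcases Nat.even_or_odd p with he | ho
        · exfalso
          rcases this he.two_dvd with h | h
          · omega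
          · exact hp2 h.symm
        · obtain ⟨k, hk⟩ := ho
          omega
      have hs1 : (2 * τ + 1) ^ (2 * (p / 2)) = 1 := by
        have h3 : (2 * τ + 1) ^ (2 * (p / 2)) * (2 * τ + 1) = 1 * (2 * τ + 1) := by
          rw [← pow_succ, ← hpodd, hsp, one_mul]
        exact mul_right_cancel₀ hs0 h3
      have h5pow : (5 : F) ^ (p / 2) = 1 := by
        rw [← hs2, ← pow_mul]
        exact hs1
      -- transport to `ZMod p`
      let φ : ZMod p →+* F := ZMod.castHom (dvd_refl p) F
      have hφinj : Function.Injective φ := φ.injective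
      have h5z : (5 : ZMod p) ^ (p / 2) = 1 := by
        apply hφinj
        rw [map_pow, map_one, map_ofNat]
        exact h5pow
      have h5z0 : (5 : ZMod p) ≠ 0 := by
        intro h
        have h' : φ 5 = φ 0 := by rw [h]
        rw [map_ofNat, map_zero] at h'
        exact h5F h'
      have hsq : IsSquare ((5 : ℕ) : ZMod p) := by
        push_cast
        exact (ZMod.euler_criterion p h5z0).mpr h5z
      have hsq5 : IsSquare ((p : ℕ) : ZMod 5) :=
        (ZMod.exists_sq_eq_prime_iff_of_mod_four_eq_one (p := 5) (q := p) (by norm_num) hp2).mpr hsq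
      exact c6ua6_not_sq p h5 hsq5
  · exact sub_eq_zero.mp h

/-- a root of `X² + X - 1` exists in `F_{p²}`. -/
theorem c6ua6_exists (hF : Fintype.card F = p ^ 2) (h5 : orderOf (p : ZMod 5) = 4) :
    ∃ τ : F, τ ^ 2 + τ = 1 := by
  classical
  have hp : p.Prime := Fact.out
  have hmod5 := c6ua6_mod p h5
  have hp5 : p ≠ 5 := by
    rintro rfl
    omega
  by_cases hp2 : p = 2
  · subst hp2
    have h2F : ((2 : ℕ) : F) = 0 := CharP.cast_eq_zero F 2
    push_cast at h2F
    have hcard : 2 < Fintype.card F := by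
      rw [hF]
      norm_num
    obtain ⟨a, b, c, hab, hac, hbc⟩ := Fintype.two_lt_card_iff.mp hcard
    obtain ⟨x, hx0, hx1⟩ : ∃ x : F, x ≠ 0 ∧ x ≠ 1 := by
      by_cases ha0 : a = 0
      · by_cases hb1 : b = 1
        · refine ⟨c, ?_, ?_⟩
          · rw [← ha0]; exact fun h => hac h.symm
          · rw [← hb1]; exact fun h => hbc h.symm
        · refine ⟨b, ?_, hb1⟩
          rw [← ha0]; exact fun h => hab h.symm
      · by_cases ha1 : a = 1
        · by_cases hb0 : b = 0
          · refine ⟨c, ?_, ?_⟩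
            · rw [← hb0]; exact fun h => hbc h.symm
            · rw [← ha1]; exact fun h => hac h.symm
          · refine ⟨b, hb0, ?_⟩
            rw [← ha1]; exact fun h => hab h.symm
        · exact ⟨a, ha0, ha1⟩
    have hx3 : x ^ 3 = 1 := by
      have := FiniteField.pow_card_sub_one_eq_one x hx0
      rw [hF] at this
      exact this
    have hfac : (x - 1) * (x ^ 2 + x + 1) = 0 := by linear_combination hx3
    rcases mul_eq_zero.mp hfac with h | h
    · exact absurd (sub_eq_zero.mp h) hx1
    · exact ⟨x, by linear_combination h - h2F⟩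
  · have h5F : (5 : F) ≠ 0 := by
      intro h
      have h' : ((5 : ℕ) : F) = 0 := by
        push_cast
        exact h
      have hdvd := (CharP.cast_eq_zero_iff F p 5).mp h'
      exact hp5 ((Nat.prime_dvd_prime_iff_eq hp Nat.prime_five).mp hdvd)
    have h2F : (2 : F) ≠ 0 := by
      intro h
      have h' : ((2 : ℕ) : F) = 0 := by
        push_cast
        exact h
      have hdvd := (CharP.cast_eq_zero_iff F p 2).mp h'
      exact hp2 ((Nat.prime_dvd_prime_iff_eq hp Nat.prime_two).mp hdvd)
    have hchar : ringChar F ≠ 2 := by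
      rw [ringChar.eq F p]
      exact hp2
    have hpodd : p = 2 * (p / 2) + 1 := by
      have := hp.eq_one_or_self_of_dvd 2
      rcases Nat.even_or_odd p with he | ho
      · exfalso
        rcases this he.two_dvd with h | h
        · omega
        · exact hp2 h.symm
      · obtain ⟨k, hk⟩ := ho
        omega
    -- `5 ^ (p - 1) = 1`
    have h5p : (5 : F) ^ (2 * (p / 2)) = 1 := by
      have h2 : ((5 : ℕ) : F) ^ p = ((5 : ℕ) : F) := by
        have := map_natCast (frobenius F p) 5
        rwa [frobenius_def] at this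
      push_cast at h2
      have h3 : (5 : F) ^ (2 * (p / 2)) * 5 = 1 * 5 := by
        rw [← pow_succ, ← hpodd, h2, one_mul]
      exact mul_right_cancel₀ h5F h3
    have hexp : Fintype.card F / 2 = 2 * (p / 2) * (p / 2 + 1) := by
      rw [hF]
      obtain ⟨j, hj⟩ : ∃ j, p / 2 = j := ⟨_, rfl⟩
      rw [hj] at hpodd ⊢
      rw [hpodd]
      have : (2 * j + 1) ^ 2 = 2 * (2 * j * (j + 1)) + 1 := by ring
      rw [this]
      omega
    have hsq : IsSquare (5 : F) := by
      rw [FiniteField.isSquare_iff hchar h5F, hexp, pow_mul, h5p, one_pow]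
    obtain ⟨s, hs⟩ := hsq
    refine ⟨(-1 + s) / 2, ?_⟩
    field_simp
    linear_combination -hs

/-- A6 [M]. -/
theorem tau_five (hF : Fintype.card F = p ^ 2) (h5 : orderOf (p : ZMod 5) = 4) :
    ∃ τ : F, τ ^ 2 + τ = 1 ∧ τ ^ p = -1 - τ ∧ Irreducible (X ^ 2 - C τ * X + 1 : F[X]) := by
  have hp : p.Prime := Fact.out
  have hmod5 := c6ua6_mod p h5
  have hp5 : p ≠ 5 := by
    rintro rfl
    omega
  obtain ⟨τ, hτ⟩ := c6ua6_exists hF h5
  refine ⟨τ, hτ, c6ua6_frob h5 τ hτ, ?_⟩
  have hdeg : (X ^ 2 - C τ * X + 1 : F[X]).natDegree = 2 := by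
    compute_degree!
  apply Polynomial.irreducible_of_degree_le_three_of_not_isRoot
  · rw [hdeg]
    decide
  · intro a ha
    rw [IsRoot.def] at ha
    simp only [eval_add, eval_sub, eval_mul, eval_pow, eval_X, eval_C, eval_one] at ha
    have ha0 : a ≠ 0 := by
      rintro rfl
      simp at ha
    have hP : a ^ 4 + a ^ 3 + a ^ 2 + a + 1 = 0 := by
      linear_combination (a ^ 2) * hτ + (2 * τ * a + a + (a ^ 2 - τ * a + 1)) * ha
    have ha5 : a ^ 5 = 1 := by linear_combination (a - 1) * hP
    have hap : a ^ (p ^ 2 - 1) = 1 := by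
      have := FiniteField.pow_card_sub_one_eq_one a ha0
      rwa [hF] at this
    have hcop : Nat.Coprime 5 (p ^ 2 - 1) := by
      rw [Nat.Prime.coprime_iff_not_dvd Nat.prime_five]
      intro hdvd
      have h1 : p ^ 2 % 5 = (p % 5) ^ 2 % 5 := Nat.pow_mod p 2 5
      have hpos : 1 ≤ p ^ 2 := Nat.one_le_pow _ _ hp.pos
      have h2 : p ^ 2 % 5 = 4 := by
        rcases hmod5 with h | h <;> rw [h1, h] <;> norm_num
      omega
    have ha1 : a = 1 := by
      have h1 : a ^ Nat.gcd 5 (p ^ 2 - 1) = 1 := pow_gcd_eq_one.mpr ⟨ha5, hap⟩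
      rw [hcop] at h1
      simpa using h1
    rw [ha1] at ha
    have h5F : ((5 : ℕ) : F) = 0 := by
      push_cast
      have hτ2 : τ = 2 := by linear_combination -ha
      rw [hτ2] at hτ
      linear_combination hτ
    have hdvd := (CharP.cast_eq_zero_iff F p 5).mp h5F
    exact hp5 ((Nat.prime_dvd_prime_iff_eq hp Nat.prime_five).mp hdvd)

end fin

end Cfsg.Agent.Lib.helper3.C6U
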