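import Mathlib
import Cfsg.Agent.Lib.helper3.C6U.Defs

set_option autoImplicit false
set_option linter.unusedVariables false
set_option linter.unusedSectionVars false

/-!
# Project C6U (designer helper3), row A8 (`norm_form`, helper23): an anisotropic binary form over a finite field is universal.
-/

namespace Cfsg.Agent.Lib.helper3.C6U

open Polynomial Matrix
open Cfsg.Agent.Lib.Helper10.C6P
open scoped MatrixGroups

variable {F : Type*} [Field F]

section fin

variable [Fintype F] {p : ℕ} [Fact p.Prime] [CharP F p]

/-- A8 [M] : an anisotropic binary quadratic form over a finite field is universal. -/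
theorem norm_form (τ : F) (hirr : Irreducible (X ^ 2 - C τ * X + 1 : F[X])) (c : F) (hc : c ≠ 0) :
    ∃ α β : F, α ^ 2 + τ * α * β + β ^ 2 = c := by
  by_cases h2 : ringChar F = 2
  · obtain ⟨a, ha⟩ := FiniteField.isSquare_of_char_two h2 c
    refine ⟨a, 0, ?_⟩
    rw [ha]
    ring
  · have h2' : (2 : F) ≠ 0 := Ring.two_ne_zero h2
    have h4 : (4 : F) ≠ 0 := by
      have : (4 : F) = 2 * 2 := by norm_num
      rw [this]
      exact mul_ne_zero h2' h2'
    have hcard : Fintype.card F % 2 = 1 := FiniteField.odd_card_of_char_ne_two h2
    -- the discriminant is non-zero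
    have hd : (4 - τ ^ 2 : F) ≠ 0 := by
      intro hd
      have hfac : (X ^ 2 - C τ * X + 1 : F[X]) = (X - C (τ / 2)) * (X - C (τ / 2)) := by
        have h1 : (1 : F[X]) = C (τ / 2) * C (τ / 2) := by
          rw [← C_mul, ← C_1]
          congr 1
          field_simp
          linear_combination hd
        have h2 : C τ = C (τ / 2) + C (τ / 2) := by
          rw [← C_add]
          congr 1
          field_simp
          ring
        rw [h2]
        linear_combination h1
      rw [hfac] at hirr
      have hnu : ¬ IsUnit (X - C (τ / 2) : F[X]) := not_isUnit_X_sub_C _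
      rcases hirr.isUnit_or_isUnit rfl with h | h
      · exact hnu h
      · exact hnu h
    have hf2 : degree (X ^ 2 : F[X]) = 2 := by
      rw [degree_X_pow]
      rfl
    have hg2 : degree (C ((4 - τ ^ 2) / 4) * X ^ 2 - C c : F[X]) = 2 := by
      have hne : (4 - τ ^ 2) / 4 ≠ 0 := div_ne_zero hd h4
      compute_degree!
    obtain ⟨a, b, hab⟩ := FiniteField.exists_root_sum_quadratic hf2 hg2 hcard
    simp only [eval_pow, eval_X, eval_sub, eval_mul, eval_C] at hab
    refine ⟨a - τ * b / 2, b, ?_⟩
    field_simp
    field_simp at hab
    linear_combination hab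

end fin

end Cfsg.Agent.Lib.helper3.C6U
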