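import Mathlib
import Cfsg.Agent.Lib.helper3.C6U.Defs
import Cfsg.Agent.Lib.helper3.S5953.Defs
import Cfsg.Agent.Lib.Helper20.S5953T1
import Cfsg.Agent.Lib.Helper1.C6UE3

set_option autoImplicit false
set_option linter.unusedVariables false
set_option linter.unusedSectionVars false

/-!
# Project C6U (designer helper3), row E5 (`nf_five`, helper23), part a: the two primary components `ker f₁(u)`, `ker f₂(u)`.
-/

namespace Cfsg.Agent.Lib.helper3.C6U

open Polynomial Matrix
open Cfsg.Agent.Lib.Helper10.C6P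
open Cfsg.Agent.Lib.helper3.S5953
open scoped MatrixGroups

variable {F : Type*} [Field F]

section fin

variable [Fintype F] {p : ℕ} [Fact p.Prime] [CharP F p]

theorem c6ue5_zero_right (x : Fin 4 → F) : hermI (Fin 4) F p x 0 = 0 := by
  have h := c6ue3_add_right (p := p) x 0 0
  rw [add_zero] at h
  have h' : hermI (Fin 4) F p x 0 + 0 = hermI (Fin 4) F p x 0 + hermI (Fin 4) F p x 0 := by
    rw [add_zero]
    exact h
  exact (add_left_cancel h').symm

theorem c6ue5_neg_right (x y : Fin 4 → F) :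
    hermI (Fin 4) F p x (-y) = -hermI (Fin 4) F p x y := by
  have h := c6ue3_add_right (p := p) x y (-y)
  rw [add_neg_cancel, c6ue5_zero_right] at h
  exact eq_neg_of_add_eq_zero_right h.symm

theorem c6ue5_sub_right (x y y' : Fin 4 → F) :
    hermI (Fin 4) F p x (y - y') = hermI (Fin 4) F p x y - hermI (Fin 4) F p x y' := by
  rw [sub_eq_add_neg, c6ue3_add_right, c6ue5_neg_right, ← sub_eq_add_neg]

theorem c6ue5_neg_left (x y : Fin 4 → F) :
    hermI (Fin 4) F p (-x) y = -hermI (Fin 4) F p x y := by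
  have h := hermI_smul_left p (-1 : F) x y
  rw [neg_one_smul, neg_one_mul] at h
  exact h

theorem c6ue5_sub_left (x x' y : Fin 4 → F) :
    hermI (Fin 4) F p (x - x') y = hermI (Fin 4) F p x y - hermI (Fin 4) F p x' y := by
  rw [sub_eq_add_neg, hermI_add_left, c6ue5_neg_left, ← sub_eq_add_neg]

/-- right non-degeneracy -/
theorem c6ue5_nd_right (y : Fin 4 → F) (h : ∀ x, hermI (Fin 4) F p x y = 0) : y = 0 := by
  classical
  funext j
  have h1 := h (Pi.single j 1)
  unfold hermI at h1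
  rw [Finset.sum_eq_single j] at h1
  · rw [Pi.single_eq_same, one_mul] at h1
    exact pow_eq_zero_iff (Fact.out : p.Prime).ne_zero |>.mp h1
  · intro b _ hb
    rw [Pi.single_eq_of_ne hb, zero_mul]
  · intro hj
    exact absurd (Finset.mem_univ j) hj

/-- the matrix `f_t(u) = u² - t u + 1` -/
def c6ue5_A (u : M4 F) (t : F) : M4 F := u * u - t • u + 1

theorem c6ue5_A_mulVec (u : M4 F) (t : F) (x : Fin 4 → F) :
    c6ue5_A u t *ᵥ x = u *ᵥ (u *ᵥ x) - t • (u *ᵥ x) + x := by
  unfold c6ue5_A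
  rw [Matrix.add_mulVec, Matrix.sub_mulVec, Matrix.one_mulVec, Matrix.smul_mulVec, Matrix.mulVec_mulVec]

/-- the primary component `ker f_t(u)` -/
def c6ue5_W (u : M4 F) (t : F) : Submodule F (Fin 4 → F) := LinearMap.ker (Matrix.mulVecLin (c6ue5_A u t))

theorem c6ue5_mem (u : M4 F) (t : F) (x : Fin 4 → F) :
    x ∈ c6ue5_W u t ↔ u *ᵥ (u *ᵥ x) = t • (u *ᵥ x) - x := by
  unfold c6ue5_W
  rw [LinearMap.mem_ker, Matrix.mulVecLin_apply, c6ue5_A_mulVec]
  constructor
  · intro h
    have : u *ᵥ (u *ᵥ x) = (u *ᵥ (u *ᵥ x) - t • (u *ᵥ x) + x) + (t • (u *ᵥ x) - x) := by abel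
    rw [this, h, zero_add]
  · intro h
    rw [h]
    abel

theorem c6ue5_inv (u : M4 F) (t : F) (x : Fin 4 → F) (hx : x ∈ c6ue5_W u t) : u *ᵥ x ∈ c6ue5_W u t := by
  rw [c6ue5_mem] at hx ⊢
  rw [hx, Matrix.mulVec_sub, Matrix.mulVec_smul, hx]

/-- the primary components are totally isotropic -/
theorem c6ue5_ti (u : M4 F) (hU : IsU p u) (t : F) (hne : t ≠ t ^ p) (x y : Fin 4 → F)
    (hx : x ∈ c6ue5_W u t) (hy : y ∈ c6ue5_W u t) : hermI (Fin 4) F p x y = 0 := by
  rw [c6ue5_mem] at hx hy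
  have h1 := c6ue3_pres u hU (u *ᵥ x) y
  rw [hx, c6ue5_sub_left, hermI_smul_left, c6ue3_pres u hU x y] at h1
  have h2 := c6ue3_pres u hU x (u *ᵥ y)
  rw [hy, c6ue5_sub_right, hermI_smul_right, c6ue3_pres u hU x y] at h2
  have h3 : (t - t ^ p) * hermI (Fin 4) F p x y = 0 := by linear_combination h1 - h2
  rcases mul_eq_zero.mp h3 with h | h
  · exact absurd (sub_eq_zero.mp h) hne
  · exact h

/-- no eigenvectors in a primary component -/
theorem c6ue5_noeig (u : M4 F) (t : F) (hroot : ∀ l : F, l ^ 2 - t * l + 1 ≠ 0) (x : Fin 4 → F)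
    (hx : x ∈ c6ue5_W u t) (hx0 : x ≠ 0) : LinearIndependent F ![x, u *ᵥ x] := by
  rw [LinearIndependent.pair_iff]
  intro a b hab
  rw [c6ue5_mem] at hx
  by_cases hb : b = 0
  · subst hb
    rw [zero_smul, add_zero] at hab
    rcases smul_eq_zero.mp hab with h | h
    · exact ⟨h, rfl⟩
    · exact absurd h hx0
  · exfalso
    -- `u x = l x` with `l = -a / b`
    have hux : u *ᵥ x = (-a / b) • x := by
      have h1 : b • (u *ᵥ x) = -(a • x) := eq_neg_of_add_eq_zero_right hab
      have h2 : u *ᵥ x = b⁻¹ • (b • (u *ᵥ x)) := by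
        rw [smul_smul, inv_mul_cancel₀ hb, one_smul]
      rw [h2, h1, smul_neg, smul_smul, ← neg_smul]
      congr 1
      field_simp
    rw [hux, Matrix.mulVec_smul, hux, smul_smul, smul_smul] at hx
    have h3 : ((-a / b) ^ 2 - t * (-a / b) + 1) • x = 0 := by
      have : ((-a / b) ^ 2 - t * (-a / b) + 1) • x =
          ((-a / b) * (-a / b)) • x - (t * (-a / b)) • x + x := by
        rw [add_smul, sub_smul, one_smul, sq]
      rw [this, hx]
      abel
    rcases smul_eq_zero.mp h3 with h | h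
    · exact hroot _ h
    · exact hx0 h

/-- the two primary components are disjoint -/
theorem c6ue5_disj (u : M4 F) (hu : u ^ 5 = 1) (t s : F) (hts : t ≠ s) :
    Disjoint (c6ue5_W u t) (c6ue5_W u s) := by
  rw [Submodule.disjoint_def]
  intro x hx hy
  rw [c6ue5_mem] at hx hy
  have h1 : (t - s) • (u *ᵥ x) = 0 := by
    have : (t - s) • (u *ᵥ x) = (t • (u *ᵥ x) - x) - (s • (u *ᵥ x) - x) := by
      rw [sub_smul]
      abel
    rw [this, ← hx, ← hy, sub_self]
  have h2 : u *ᵥ x = 0 := by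
    rcases smul_eq_zero.mp h1 with h | h
    · exact absurd (sub_eq_zero.mp h) hts
    · exact h
  have h3 : (u ^ 4 * u) *ᵥ x = 0 := by
    rw [← Matrix.mulVec_mulVec, h2, Matrix.mulVec_zero]
  rw [← pow_succ, hu, Matrix.one_mulVec] at h3
  exact h3

end fin

end Cfsg.Agent.Lib.helper3.C6U
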