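import Mathlib
import Cfsg.Agent.Lib.helper23.C6UE5a

set_option autoImplicit false
set_option linter.unusedVariables false
set_option linter.unusedSectionVars false

/-!
# Project C6U (designer helper3), row E5 (`nf_five`, helper23), part b: arithmetic, and the components are non-zero.
-/

namespace Cfsg.Agent.Lib.helper3.C6U

open Polynomial Matrix
open Cfsg.Agent.Lib.Helper10.C6P
open Cfsg.Agent.Lib.helper3.S5953
open scoped MatrixGroups

variable {F : Type*} [Field F]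

section fin

variable [Fintype F] {p : ℕ} [Fact p.Prime] [CharP F p]

/-- an irreducible `X² - τ X + 1` has no root -/
theorem c6ue5_noroot (τ : F) (hirr : Irreducible (X ^ 2 - C τ * X + 1 : F[X])) (l : F) :
    l ^ 2 - τ * l + 1 ≠ 0 := by
  intro h
  have hroot : IsRoot (X ^ 2 - C τ * X + 1 : F[X]) l := by
    rw [IsRoot.def]
    simp only [eval_add, eval_sub, eval_mul, eval_pow, eval_X, eval_C, eval_one]
    exact h
  have hdeg := degree_eq_one_of_irreducible_of_root hirr hroot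
  have hdeg2 : (X ^ 2 - C τ * X + 1 : F[X]).degree = 2 := by
    compute_degree!
  rw [hdeg2] at hdeg
  norm_num at hdeg

/-- the conjugate polynomial has no root either -/
theorem c6ue5_noroot' (hF : Fintype.card F = p ^ 2) (τ : F)
    (hirr : Irreducible (X ^ 2 - C τ * X + 1 : F[X])) (l : F) :
    l ^ 2 - (τ ^ p) * l + 1 ≠ 0 := by
  intro h
  apply c6ue5_noroot τ hirr (l ^ p)
  have h1 : (l ^ 2 - τ ^ p * l + 1) ^ p = (0 : F) ^ p := by rw [h]
  have h2 : (l ^ 2 - τ ^ p * l + 1) ^ p = (l ^ p) ^ 2 - (τ ^ p) ^ p * l ^ p + 1 := by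
    have := map_add (frobenius F p) (l ^ 2 - τ ^ p * l) 1
    rw [map_sub, map_mul, map_pow, map_one] at this
    simp only [frobenius_def] at this
    exact this
  rw [h2, c6ue3_frob2 hF, zero_pow (Fact.out : p.Prime).ne_zero] at h1
  exact h1

theorem c6ue5_five (τ : F) (hτ : τ ^ 2 + τ = 1) (hroot : ∀ l : F, l ^ 2 - τ * l + 1 ≠ 0) :
    (5 : F) ≠ 0 := by
  intro h5
  have h1 : (τ - 2) ^ 2 = 0 := by linear_combination hτ + (1 - τ) * h5
  have h2 : τ = 2 := by
    have := pow_eq_zero_iff (two_ne_zero) |>.mp h1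
    linear_combination this
  apply hroot 1
  rw [h2]
  ring

theorem c6ue5_tau_ne (τ : F) (hτ : τ ^ 2 + τ = 1) (hroot : ∀ l : F, l ^ 2 - τ * l + 1 ≠ 0) :
    τ ≠ -1 - τ := by
  intro h
  apply c6ue5_five τ hτ hroot
  have h1 : 2 * τ + 1 = 0 := by linear_combination h
  have : (5 : F) = (2 * τ + 1) ^ 2 := by linear_combination (-4 : F) * hτ
  rw [this, h1]
  ring

/-- the polynomial identities behind the primary decomposition -/
theorem c6ue5_mat (u : M4 F) (hu : u ^ 5 = 1) (τ : F) (hτ : τ ^ 2 + τ = 1) :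
    c6ue5_A u τ * (c6ue5_A u (-1 - τ) * (u - 1)) = 0 ∧
    c6ue5_A u (-1 - τ) * (c6ue5_A u τ * (u - 1)) = 0 := by
  have hτC : (C τ : F[X]) ^ 2 + C τ = 1 := by
    rw [← C_pow, ← C_add, hτ, C_1]
  have hpoly1 : ((X ^ 2 - C τ * X + 1) * ((X ^ 2 - C (-1 - τ) * X + 1) * (X - 1)) : F[X]) = X ^ 5 - 1 := by
    rw [C_sub, C_neg, C_1]
    linear_combination (-X ^ 3 + X ^ 2) * hτC
  have hpoly2 : ((X ^ 2 - C (-1 - τ) * X + 1) * ((X ^ 2 - C τ * X + 1) * (X - 1)) : F[X]) = X ^ 5 - 1 := by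
    rw [← hpoly1]
    ring
  have hA : ∀ t : F, aeval u (X ^ 2 - C t * X + 1 : F[X]) = c6ue5_A u t := by
    intro t
    unfold c6ue5_A
    simp only [map_add, map_sub, map_mul, aeval_X, aeval_C, map_one, sq]
    rw [Algebra.algebraMap_eq_smul_one, smul_mul_assoc, one_mul]
  have hX1 : aeval u (X - 1 : F[X]) = u - 1 := by
    simp only [map_sub, aeval_X, map_one]
  have hX5 : aeval u (X ^ 5 - 1 : F[X]) = 0 := by
    simp only [map_sub, map_pow, aeval_X, map_one, hu, sub_self]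
  constructor
  · have := congrArg (aeval u) hpoly1
    rw [map_mul, map_mul, hA, hA, hX1, hX5] at this
    exact this
  · have := congrArg (aeval u) hpoly2
    rw [map_mul, map_mul, hA, hA, hX1, hX5] at this
    exact this

/-- a unitary `u` with `u ^ 5 = 1` and `im (u - 1)` totally isotropic is `1` -/
theorem c6ue5_unip (u : M4 F) (hU : IsU p u) (hu : u ^ 5 = 1) (h5 : (5 : F) ≠ 0)
    (hti : ∀ x y : Fin 4 → F, hermI (Fin 4) F p (u *ᵥ x - x) (u *ᵥ y - y) = 0) : u = 1 := by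
  -- `(u - 1)² = 0`
  have hsq : (u - 1) * (u - 1) = 0 := by
    rw [Matrix.ext_iff_mulVec]
    intro y
    rw [Matrix.zero_mulVec]
    apply c6ue5_nd_right (p := p)
    intro x
    have h1 := hti x (u *ᵥ y)
    rw [c6ue5_sub_left, c6ue5_sub_right, c6ue5_sub_right, c6ue3_pres u hU, c6ue3_pres u hU] at h1
    have h2 : ((u - 1) * (u - 1)) *ᵥ y = u *ᵥ (u *ᵥ y) - u *ᵥ y - (u *ᵥ y - y) := by
      rw [← Matrix.mulVec_mulVec, Matrix.sub_mulVec, Matrix.one_mulVec, Matrix.sub_mulVec,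
        Matrix.one_mulVec, Matrix.mulVec_sub]
    rw [h2, c6ue5_sub_right, c6ue5_sub_right, c6ue5_sub_right]
    linear_combination -h1
  have hpoly : (X ^ 5 - 1 : F[X]) = (X - 1) * (X - 1) * (X ^ 3 + 2 * X ^ 2 + 3 * X + 4) + C 5 * (X - 1) := by
    rw [show (C (5 : F) : F[X]) = 5 from map_ofNat C 5]
    ring
  have h1 := congrArg (aeval u) hpoly
  have hX1 : aeval u (X - 1 : F[X]) = u - 1 := by
    simp only [map_sub, aeval_X, map_one]
  have hX5 : aeval u (X ^ 5 - 1 : F[X]) = 0 := by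
    simp only [map_sub, map_pow, aeval_X, map_one, hu, sub_self]
  rw [hX5, map_add, map_mul, map_mul, map_mul, hX1, hsq, zero_mul, zero_add, aeval_C,
    Algebra.algebraMap_eq_smul_one, smul_mul_assoc, one_mul] at h1
  rcases smul_eq_zero.mp h1.symm with h | h
  · exact absurd h h5
  · exact sub_eq_zero.mp h

/-- if one primary component is trivial then `u = 1` -/
theorem c6ue5_nonzero (u : M4 F) (hU : IsU p u) (hu : u ^ 5 = 1) (h5 : (5 : F) ≠ 0) (t s : F)
    (hmat : c6ue5_A u t * (c6ue5_A u s * (u - 1)) = 0) (hs : s ≠ s ^ p)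
    (hbot : c6ue5_W u t = ⊥) : u = 1 := by
  apply c6ue5_unip u hU hu h5
  have hmem : ∀ x : Fin 4 → F, u *ᵥ x - x ∈ c6ue5_W u s := by
    intro x
    have h1 : (c6ue5_A u s * (u - 1)) *ᵥ x ∈ c6ue5_W u t := by
      unfold c6ue5_W
      rw [LinearMap.mem_ker, Matrix.mulVecLin_apply, Matrix.mulVec_mulVec, hmat, Matrix.zero_mulVec]
    rw [hbot, Submodule.mem_bot] at h1
    unfold c6ue5_W
    rw [LinearMap.mem_ker, Matrix.mulVecLin_apply]
    rw [← Matrix.mulVec_mulVec, Matrix.sub_mulVec, Matrix.one_mulVec] at h1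
    exact h1
  intro x y
  exact c6ue5_ti u hU s hs _ _ (hmem x) (hmem y)

end fin

end Cfsg.Agent.Lib.helper3.C6U
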