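import Mathlib
import Cfsg.Agent.Lib.helper23.C6UE5b

set_option autoImplicit false
set_option linter.unusedVariables false
set_option linter.unusedSectionVars false

/-!
# Project C6U (designer helper3), row E5 (`nf_five`, helper23), part c: dimensions and the dual vector.
-/

namespace Cfsg.Agent.Lib.helper3.C6U

open Polynomial Matrix Module
open Cfsg.Agent.Lib.Helper10.C6P
open Cfsg.Agent.Lib.helper3.S5953
open scoped MatrixGroups

variable {F : Type*} [Field F]

section fin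

variable [Fintype F] {p : ℕ} [Fact p.Prime] [CharP F p]

/-- a non-zero primary component has dimension at least two, and is spanned by `x, u x` if it has dimension two -/
theorem c6ue5_two_le (u : M4 F) (t : F) (hroot : ∀ l : F, l ^ 2 - t * l + 1 ≠ 0) (x : Fin 4 → F)
    (hx : x ∈ c6ue5_W u t) (hx0 : x ≠ 0) :
    2 ≤ finrank F (c6ue5_W u t) ∧
      (finrank F (c6ue5_W u t) = 2 → c6ue5_W u t = Submodule.span F (Set.range ![x, u *ᵥ x])) := by
  have li := c6ue5_noeig u t hroot x hx hx0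
  have hle : Submodule.span F (Set.range ![x, u *ᵥ x]) ≤ c6ue5_W u t := by
    rw [Submodule.span_le]
    rintro _ ⟨i, rfl⟩
    fin_cases i
    · exact hx
    · exact c6ue5_inv u t x hx
  have hfr : finrank F (Submodule.span F (Set.range ![x, u *ᵥ x])) = 2 := by
    rw [finrank_span_eq_card li, Fintype.card_fin]
  refine ⟨?_, ?_⟩
  · rw [← hfr]
    exact Submodule.finrank_mono hle
  · intro h2
    exact (Submodule.eq_of_le_of_finrank_eq hle (by rw [hfr, h2])).symm

/-- both primary components have dimension 2 and together they span the space -/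
theorem c6ue5_dims (hF : Fintype.card F = p ^ 2) (τ : F) (hτ : τ ^ 2 + τ = 1) (hτp : τ ^ p = -1 - τ)
    (hirr : Irreducible (X ^ 2 - C τ * X + 1 : F[X])) (u : M4 F) (hU : IsU p u) (hu : u ^ 5 = 1)
    (hne : u ≠ 1) :
    finrank F (c6ue5_W u τ) = 2 ∧ finrank F (c6ue5_W u (-1 - τ)) = 2 ∧
      c6ue5_W u τ ⊔ c6ue5_W u (-1 - τ) = ⊤ := by
  have hroot1 := c6ue5_noroot τ hirr
  have hroot2 : ∀ l : F, l ^ 2 - (-1 - τ) * l + 1 ≠ 0 := by
    rw [← hτp]
    exact c6ue5_noroot' hF τ hirr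
  have h5 := c6ue5_five τ hτ hroot1
  have hne12 := c6ue5_tau_ne τ hτ hroot1
  have hs1 : τ ≠ τ ^ p := by rw [hτp]; exact hne12
  have hs2 : (-1 - τ) ≠ (-1 - τ) ^ p := by
    rw [← hτp, c6ue3_frob2 hF, hτp]
    exact hne12.symm
  obtain ⟨hm1, hm2⟩ := c6ue5_mat u hu τ hτ
  have hW1 : c6ue5_W u τ ≠ ⊥ := fun hbot =>
    hne (c6ue5_nonzero u hU hu h5 τ (-1 - τ) hm1 hs2 hbot)
  have hW2 : c6ue5_W u (-1 - τ) ≠ ⊥ := fun hbot =>
    hne (c6ue5_nonzero u hU hu h5 (-1 - τ) τ hm2 hs1 hbot)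
  obtain ⟨x, hx, hx0⟩ := Submodule.exists_mem_ne_zero_of_ne_bot hW1
  obtain ⟨y, hy, hy0⟩ := Submodule.exists_mem_ne_zero_of_ne_bot hW2
  have h1 := (c6ue5_two_le u τ hroot1 x hx hx0).1
  have h2 := (c6ue5_two_le u (-1 - τ) hroot2 y hy hy0).1
  have hdisj := c6ue5_disj u hu τ (-1 - τ) hne12
  have h3 := Submodule.finrank_add_finrank_le_of_disjoint hdisj
  rw [Module.finrank_fin_fun] at h3
  have h4 := Submodule.finrank_sup_add_finrank_inf_eq (c6ue5_W u τ) (c6ue5_W u (-1 - τ))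
  rw [disjoint_iff.mp hdisj, finrank_bot, add_zero] at h4
  refine ⟨by omega, by omega, ?_⟩
  apply Submodule.eq_top_of_finrank_eq
  rw [h4, Module.finrank_fin_fun]
  omega

/-- the dual vector -/
theorem c6ue5_dual (hF : Fintype.card F = p ^ 2) (τ : F) (hτ : τ ^ 2 + τ = 1) (hτp : τ ^ p = -1 - τ)
    (hirr : Irreducible (X ^ 2 - C τ * X + 1 : F[X])) (u : M4 F) (hU : IsU p u) (hu : u ^ 5 = 1)
    (hne : u ≠ 1) (e : Fin 4 → F) (he : e ∈ c6ue5_W u τ) (he0 : e ≠ 0) :
    ∃ g ∈ c6ue5_W u (-1 - τ), hermI (Fin 4) F p g e = 0 ∧ hermI (Fin 4) F p g (u *ᵥ e) = 1 := by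
  obtain ⟨hd1, hd2, htop⟩ := c6ue5_dims hF τ hτ hτp hirr u hU hu hne
  have hroot1 := c6ue5_noroot τ hirr
  have hne12 := c6ue5_tau_ne τ hτ hroot1
  have hs2 : (-1 - τ) ≠ (-1 - τ) ^ p := by
    rw [← hτp, c6ue3_frob2 hF, hτp]
    exact hne12.symm
  have hspan := (c6ue5_two_le u τ hroot1 e he he0).2 hd1
  let L : (Fin 4 → F) →ₗ[F] F × F :=
    { toFun := fun g => (hermI (Fin 4) F p g e, hermI (Fin 4) F p g (u *ᵥ e))
      map_add' := by
        intro a b
        rw [hermI_add_left, hermI_add_left]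
        rfl
      map_smul' := by
        intro c a
        rw [hermI_smul_left, hermI_smul_left]
        rfl }
  have hLinj : Function.Injective (L.domRestrict (c6ue5_W u (-1 - τ))) := by
    rw [← LinearMap.ker_eq_bot, LinearMap.ker_eq_bot']
    rintro ⟨g, hg⟩ hLg
    have hLg' : (hermI (Fin 4) F p g e, hermI (Fin 4) F p g (u *ᵥ e)) = ((0 : F), (0 : F)) := hLg
    have hg1 : hermI (Fin 4) F p g e = 0 := (Prod.ext_iff.mp hLg').1
    have hg2 : hermI (Fin 4) F p g (u *ᵥ e) = 0 := (Prod.ext_iff.mp hLg').2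
    have hg0 : g = 0 := by
      apply hermI_nd (Fact.out : p.Prime).ne_zero
      intro v
      have hv : v ∈ c6ue5_W u τ ⊔ c6ue5_W u (-1 - τ) := by
        rw [htop]
        exact Submodule.mem_top
      obtain ⟨w1, hw1, w2, hw2, rfl⟩ := Submodule.mem_sup.mp hv
      rw [c6ue3_add_right, c6ue5_ti u hU (-1 - τ) hs2 g w2 hg hw2, add_zero]
      rw [hspan] at hw1
      obtain ⟨c, rfl⟩ := (Submodule.mem_span_range_iff_exists_fun F).mp hw1
      rw [Fin.sum_univ_two]
      simp only [Matrix.cons_val_zero, Matrix.cons_val_one]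
      rw [c6ue3_add_right, hermI_smul_right, hermI_smul_right, hg1, hg2, mul_zero, mul_zero,
        add_zero]
    exact Subtype.ext hg0
  have hfr : finrank F (c6ue5_W u (-1 - τ)) = finrank F (F × F) := by
    rw [hd2, Module.finrank_prod, Module.finrank_self]
  have hLsurj := (LinearMap.injective_iff_surjective_of_finrank_eq_finrank hfr).mp hLinj
  obtain ⟨⟨g, hg⟩, hLg⟩ := hLsurj ((0 : F), (1 : F))
  have hLg' : (hermI (Fin 4) F p g e, hermI (Fin 4) F p g (u *ᵥ e)) = ((0 : F), (1 : F)) := hLg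
  exact ⟨g, hg, (Prod.ext_iff.mp hLg').1, (Prod.ext_iff.mp hLg').2⟩

end fin

end Cfsg.Agent.Lib.helper3.C6U
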