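import Mathlib
import Cfsg.Agent.Lib.helper23.C6UE5c

set_option autoImplicit false
set_option linter.unusedVariables false
set_option linter.unusedSectionVars false

/-!
# Project C6U (designer helper3), row E5 (`nf_five`, helper23): normal form of a unitary element of order 5, `ord_5(p) = 4`.
-/

namespace Cfsg.Agent.Lib.helper3.C6U

open Polynomial Matrix Module
open Cfsg.Agent.Lib.Helper10.C6P
open Cfsg.Agent.Lib.helper3.S5953
open scoped MatrixGroups

variable {F : Type*} [Field F]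

section fin

variable [Fintype F] {p : ℕ} [Fact p.Prime] [CharP F p]

/-- basis matrix from four vectors with prescribed Gram matrix and prescribed action (helper1's `c6ue3_build` for a general `D`) -/
theorem c6ue5_build (u : M4 F) (b : Fin 4 → (Fin 4 → F)) (D G : M4 F) (hG : G.det ≠ 0)
    (hgram : ∀ j k, hermI (Fin 4) F p (b j) (b k) = G j k)
    (hact : ∀ k, u *ᵥ b k = ∑ j, D j k • b j) :
    ∃ B : GL (Fin 4) F, gram p (B : M4 F) = G ∧
      ((B⁻¹ : GL (Fin 4) F) : M4 F) * u * (B : M4 F) = D := by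
  have hgr : gram p (Matrix.of (fun i k => b k i) : M4 F) = G := by
    ext j k
    unfold gram
    rw [Matrix.mul_apply, ← hgram j k]
    unfold hermI
    refine Finset.sum_congr rfl (fun i _ => ?_)
    rw [Matrix.transpose_apply, Matrix.map_apply, Matrix.of_apply, Matrix.of_apply]
  have hdet : (Matrix.of (fun i k => b k i) : M4 F).det ≠ 0 := by
    intro h0
    apply hG
    rw [← hgr]
    unfold gram
    rw [Matrix.det_mul, Matrix.det_transpose, h0, zero_mul]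
  refine ⟨Matrix.GeneralLinearGroup.mkOfDetNeZero _ hdet, hgr, ?_⟩
  have huB : u * (Matrix.of (fun i k => b k i) : M4 F) = (Matrix.of (fun i k => b k i) : M4 F) * D := by
    ext i k
    rw [Matrix.mul_apply, Matrix.mul_apply]
    have h1 := congrFun (hact k) i
    rw [Matrix.mulVec, dotProduct] at h1
    simp only [Matrix.of_apply]
    rw [h1, Finset.sum_apply]
    refine Finset.sum_congr rfl (fun j _ => ?_)
    rw [Pi.smul_apply, smul_eq_mul, mul_comm]
  rw [Matrix.coe_units_inv]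
  show (Matrix.of (fun i k => b k i) : M4 F)⁻¹ * u * (Matrix.of (fun i k => b k i) : M4 F) = _
  rw [Matrix.mul_assoc, huB, ← Matrix.mul_assoc, Matrix.nonsing_inv_mul _ (isUnit_iff_ne_zero.mpr hdet),
    Matrix.one_mul]

theorem c6ue5_G5_det : (G5 F).det ≠ 0 := by
  have h : G5 F * G5 F = 1 := by
    ext i j
    fin_cases i <;> fin_cases j <;> simp [G5, Matrix.mul_apply, Fin.sum_univ_four]
  intro h0
  have := congrArg Matrix.det h
  rw [Matrix.det_mul, h0, zero_mul, Matrix.det_one] at this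
  exact zero_ne_one this

/-- E5 [L]. -/
theorem nf_five (hF : Fintype.card F = p ^ 2) (τ : F) (hτ : τ ^ 2 + τ = 1) (hτp : τ ^ p = -1 - τ)
    (hirr : Irreducible (X ^ 2 - C τ * X + 1 : F[X])) (u : M4 F) (hU : IsU p u) (hu : u ^ 5 = 1) (hne : u ≠ 1) :
    ∃ B : GL (Fin 4) F, gram p (B : M4 F) = G5 F ∧ ((B⁻¹ : GL (Fin 4) F) : M4 F) * u * (B : M4 F) = D5 τ := by
  obtain ⟨hd1, hd2, htop⟩ := c6ue5_dims hF τ hτ hτp hirr u hU hu hne
  have hroot1 := c6ue5_noroot τ hirr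
  have hne12 := c6ue5_tau_ne τ hτ hroot1
  have hs1 : τ ≠ τ ^ p := by rw [hτp]; exact hne12
  have hs2 : (-1 - τ) ≠ (-1 - τ) ^ p := by
    rw [← hτp, c6ue3_frob2 hF, hτp]
    exact hne12.symm
  have hW1 : c6ue5_W u τ ≠ ⊥ := by
    intro hbot
    rw [hbot, finrank_bot] at hd1
    omega
  obtain ⟨e₁, he₁, he0⟩ := Submodule.exists_mem_ne_zero_of_ne_bot hW1
  obtain ⟨g₂, hg₂, hd0, hd1'⟩ := c6ue5_dual hF τ hτ hτp hirr u hU hu hne e₁ he₁ he0
  have he₂ : u *ᵥ e₁ ∈ c6ue5_W u τ := c6ue5_inv u τ e₁ he₁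
  have hug₂ : u *ᵥ g₂ ∈ c6ue5_W u (-1 - τ) := c6ue5_inv u _ g₂ hg₂
  have hg₁ : -(u *ᵥ g₂) ∈ c6ue5_W u (-1 - τ) := Submodule.neg_mem _ hug₂
  have hmem1 := (c6ue5_mem u τ e₁).mp he₁
  have hmem2 := (c6ue5_mem u (-1 - τ) g₂).mp hg₂
  -- the cross pairings
  have c30 : hermI (Fin 4) F p g₂ e₁ = 0 := hd0
  have c31 : hermI (Fin 4) F p g₂ (u *ᵥ e₁) = 1 := hd1'
  have c03 : hermI (Fin 4) F p e₁ g₂ = 0 := by
    rw [hermI_conj hF g₂ e₁, c30, zero_pow (Fact.out : p.Prime).ne_zero]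
  have c13 : hermI (Fin 4) F p (u *ᵥ e₁) g₂ = 1 := by
    rw [hermI_conj hF g₂ (u *ᵥ e₁), c31, one_pow]
  have c21 : hermI (Fin 4) F p (-(u *ᵥ g₂)) (u *ᵥ e₁) = 0 := by
    rw [c6ue5_neg_left, c6ue3_pres u hU, c30, neg_zero]
  have c20 : hermI (Fin 4) F p (-(u *ᵥ g₂)) e₁ = 1 := by
    have h1 := c6ue3_pres u hU (u *ᵥ g₂) e₁
    rw [hmem2, c6ue5_sub_left, hermI_smul_left, c6ue3_pres u hU, c30, c31] at h1
    rw [c6ue5_neg_left]
    linear_combination h1
  have c02 : hermI (Fin 4) F p e₁ (-(u *ᵥ g₂)) = 1 := by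
    rw [hermI_conj hF (-(u *ᵥ g₂)) e₁, c20, one_pow]
  have c12 : hermI (Fin 4) F p (u *ᵥ e₁) (-(u *ᵥ g₂)) = 0 := by
    rw [hermI_conj hF (-(u *ᵥ g₂)) (u *ᵥ e₁), c21, zero_pow (Fact.out : p.Prime).ne_zero]
  have tiE := c6ue5_ti u hU τ hs1
  have tiG := c6ue5_ti u hU (-1 - τ) hs2
  apply c6ue5_build u ![e₁, u *ᵥ e₁, -(u *ᵥ g₂), g₂] (D5 τ) (G5 F) c6ue5_G5_det
  · intro j k
    fin_cases j <;> fin_cases k
    · exact tiE _ _ he₁ he₁
    · exact tiE _ _ he₁ he₂
    · exact c02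
    · exact c03
    · exact tiE _ _ he₂ he₁
    · exact tiE _ _ he₂ he₂
    · exact c12
    · exact c13
    · exact c20
    · exact c21
    · exact tiG _ _ hg₁ hg₁
    · exact tiG _ _ hg₁ hg₂
    · exact c30
    · exact c31
    · exact tiG _ _ hg₂ hg₁
    · exact tiG _ _ hg₂ hg₂
  · intro k
    fin_cases k
    · rw [Fin.sum_univ_four]
      simp [D5]
    · rw [Fin.sum_univ_four]
      simp [D5]
      rw [← Matrix.mulVec_mulVec, hmem1]
      abel
    · rw [Fin.sum_univ_four]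
      simp [D5]
      rw [Matrix.mulVec_neg, hmem2]
      module
    · rw [Fin.sum_univ_four]
      simp [D5]

end fin

end Cfsg.Agent.Lib.helper3.C6U
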