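import Mathlib
import Cfsg.Agent.Lib.Helper28.CD3.Defs
import Cfsg.Agent.Lib.helper6.PermChar3
import Cfsg.Agent.Lib.helper2.CharNat
import Cfsg.Agent.Lib.Helper25.CharLinear
import Cfsg.Agent.Lib.Helper25.CharOrth

/-! CD3-T1 (helper23): a subgroup of index at most the least nonlinear degree contains `G'` -/

set_option autoImplicit false
open scoped commutatorElement

namespace Cfsg.Agent.Lib.Helper28.CD3

universe u

section partB
variable {G : Type u} [Group G] [Finite G]

open Cfsg.Agent.Lib.helper6.PermChar Cfsg.Agent.Lib.helper2 Cfsg.Agent.Lib.Helper25 in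
-- piece T1
theorem commutator_le_of_index_le {m : ℕ} (hcd : ∀ d ∈ Cfsg.charDegrees G, d = 1 ∨ m ≤ d)
    (T : Subgroup G) (hT : T.index ≤ m) : commutator G ≤ T := by
  classical
  haveI : Fintype G := Fintype.ofFinite G
  haveI : Fintype (Cfsg.IrrCharacter G) := Fintype.ofFinite _
  haveI : Fintype (G ⧸ T) := Fintype.ofFinite _
  obtain ⟨mult, hmult, hexp⟩ :=
    isCharacter_expansion (piChar_isCharacter (G := G) (Ω := G ⧸ T))
  -- the degrees
  have hdeg : ∀ χ : Cfsg.IrrCharacter G, ∃ n : ℕ, 0 < n ∧ (χ : G → ℂ) 1 = (n : ℂ) :=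
    fun χ => irr_one_eq_finrank χ
  choose n hnpos hn using hdeg
  have hncd : ∀ χ : Cfsg.IrrCharacter G, n χ = 1 ∨ m ≤ n χ := by
    intro χ
    apply hcd
    refine ⟨χ, ?_⟩
    unfold Cfsg.charDegree
    rw [hn χ]
    simp
  -- values of the permutation character
  have hval : ∀ g : G, piChar G (G ⧸ T) g =
      ∑ χ : Cfsg.IrrCharacter G, (mult χ : ℂ) * (χ : G → ℂ) g := by
    intro g
    have := congrFun hexp g
    rw [this, Finset.sum_apply]
    apply Finset.sum_congr rfl
    intro χ _
    rfl
  have hpi1 : piChar G (G ⧸ T) 1 = (T.index : ℂ) := by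
    unfold piChar
    have : MulAction.fixedBy (G ⧸ T) (1 : G) = Set.univ := by
      ext x
      simp
    rw [this, Nat.card_congr (Equiv.Set.univ _)]
    rfl
  -- the trivial character has multiplicity one
  have htriv : mult (trivIrr G) = 1 := by
    have h1 := hmult (trivIrr G)
    have h2 := inner_pi_triv (G := G) (Ω := G ⧸ T) ((1 : G) : G ⧸ T)
    have h3 : ((trivIrr G : Cfsg.IrrCharacter G) : G → ℂ) = fun _ => (1 : ℂ) := rfl
    rw [h3, h2] at h1
    exact_mod_cast h1.symm
  -- the degree equation in `ℕ`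
  have hsumN : ∑ χ : Cfsg.IrrCharacter G, mult χ * n χ = T.index := by
    have h := hval 1
    rw [hpi1] at h
    have h' : ((∑ χ : Cfsg.IrrCharacter G, mult χ * n χ : ℕ) : ℂ) = (T.index : ℂ) := by
      rw [h]
      push_cast
      apply Finset.sum_congr rfl
      intro χ _
      rw [hn χ]
    exact_mod_cast h'
  -- every constituent is linear
  have hlin : ∀ χ : Cfsg.IrrCharacter G, mult χ ≠ 0 → (χ : G → ℂ) 1 = 1 := by
    intro χ hχ
    by_cases ht : χ = trivIrr G
    · rw [ht]; rfl
    · rcases hncd χ with h1 | h1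
      · rw [hn χ, h1]; simp
      · exfalso
        have hpair : ∑ ψ ∈ ({trivIrr G, χ} : Finset (Cfsg.IrrCharacter G)), mult ψ * n ψ ≤
            ∑ ψ : Cfsg.IrrCharacter G, mult ψ * n ψ :=
          Finset.sum_le_sum_of_subset (Finset.subset_univ _)
        rw [Finset.sum_pair (Ne.symm ht), htriv, hsumN] at hpair
        have h2 : 1 ≤ n (trivIrr G) := hnpos _
        have h3 : 1 ≤ mult χ := Nat.one_le_iff_ne_zero.2 hχ
        have h4 : m ≤ mult χ * n χ := le_trans h1 (Nat.le_mul_of_pos_left _ h3)
        omega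
  intro g hg
  -- the permutation character takes the value `π(1)` at `g`
  have hpig : piChar G (G ⧸ T) g = piChar G (G ⧸ T) 1 := by
    rw [hval g, hval 1]
    apply Finset.sum_congr rfl
    intro χ _
    by_cases hχ : mult χ = 0
    · rw [hχ]; simp
    · have h1 := hlin χ hχ
      rw [h1, irr_linear_commutator χ h1 hg]
  -- so `g` fixes every coset
  have hfix : ∀ x : G ⧸ T, g • x = x := by
    have h1 : fx (Ω := G ⧸ T) g = fx (Ω := G ⧸ T) (1 : G) := by
      have : ((fx (Ω := G ⧸ T) g : ℕ) : ℂ) = ((fx (Ω := G ⧸ T) (1 : G) : ℕ) : ℂ) := hpig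
      exact_mod_cast this
    rw [fx_eq_card_filter, fx_eq_card_filter] at h1
    have h2 : (Finset.univ.filter (fun x : G ⧸ T => (1 : G) • x = x)) = Finset.univ := by
      apply Finset.filter_true_of_mem
      intro x _
      exact one_smul G x
    rw [h2] at h1
    have h3 := (Finset.card_eq_iff_eq_univ _).1 h1
    intro x
    have : x ∈ Finset.univ.filter (fun x : G ⧸ T => g • x = x) := by
      rw [h3]; exact Finset.mem_univ x
    exact (Finset.mem_filter.1 this).2
  have h := hfix ((1 : G) : G ⧸ T)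
  rw [MulAction.Quotient.smul_mk, smul_eq_mul, mul_one] at h
  have h' := QuotientGroup.eq.1 h
  rw [mul_one] at h'
  simpa using T.inv_mem h'

end partB

end Cfsg.Agent.Lib.Helper28.CD3
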