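import Mathlib
import Cfsg.Agent.Lib.Helper28.CD3.Defs
import Cfsg.Agent.Lib.helper23.CD3T1

/-! CD3-SYLB core (helper23): the Sylow case with `G'` not inside `F` is impossible, with the conclusions
of LS1 and COPACT as hypotheses -/

set_option autoImplicit false
open scoped commutatorElement

namespace Cfsg.Agent.Lib.Helper28.CD3

universe u

section partB
variable {G : Type u} [Group G] [Finite G]

/-- the `q'`-part of an element as a power of it -/
theorem cd3sylb_pow_coprime (q : ℕ) (hq : q.Prime) (g : G) :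
    (orderOf (g ^ (ordProj[q] (orderOf g)))).Coprime q := by
  have ho : orderOf g ≠ 0 := (orderOf_pos g).ne'
  rw [orderOf_pow]
  have hdvd : ordProj[q] (orderOf g) ∣ orderOf g := Nat.ordProj_dvd _ _
  rw [Nat.gcd_eq_right hdvd]
  exact (Nat.coprime_ordCompl hq ho).symm

/-- a subgroup all of whose `q'`-elements are trivial is a `q`-group -/
theorem cd3sylb_isPGroup (q : ℕ) (hq : q.Prime) (H : Subgroup G)
    (h : ∀ g ∈ H, (orderOf g).Coprime q → g = 1) : IsPGroup q H := by
  intro g
  refine ⟨(orderOf (g : G)).factorization q, ?_⟩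
  have h1 := h ((g : G) ^ (ordProj[q] (orderOf (g : G)))) (H.pow_mem g.2 _)
    (cd3sylb_pow_coprime q hq (g : G))
  apply Subtype.ext
  rw [Subgroup.coe_pow]
  exact h1

/-- SYLB with the conclusions of LS1 and COPACT as hypotheses -/
theorem cd3sylb_core {m n q : ℕ} {F : Subgroup G} (h : BData G m n q F)
    (hnab : ¬ commutator G ≤ F)
    (hLS : ∀ l : F →* ℂˣ, (@linStab G _ F h.hFn l).index ≤ m)
    (hCOP : ∀ g : G, (orderOf g).Coprime q → (∀ l : F →* ℂˣ, g ∈ @linStab G _ F h.hFn l) →
      g ∈ Subgroup.centralizer (F : Set G)) : False := by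
  have hcd : ∀ d ∈ Cfsg.charDegrees G, d = 1 ∨ m ≤ d := by
    intro d hd
    rw [h.hce.hcd] at hd
    rcases hd with rfl | rfl | hd
    · exact Or.inl rfl
    · exact Or.inr le_rfl
    · rw [Set.mem_singleton_iff] at hd
      exact Or.inr (by rw [hd]; exact h.hce.hmn.le)
  have hfix : ∀ g ∈ commutator G, ∀ l : F →* ℂˣ, g ∈ @linStab G _ F h.hFn l :=
    fun g hg l => commutator_le_of_index_le hcd _ (hLS l) hg
  have hq' : ∀ g ∈ commutator G, (orderOf g).Coprime q → g = 1 := by
    intro g hg hco
    have hgF : g ∈ F := h.hFcent (hCOP g hco (hfix g hg))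
    -- `g` is a `q`-element of `q'`-order
    obtain ⟨k, hk⟩ := h.hFq ⟨g, hgF⟩
    have hk' : g ^ q ^ k = 1 := by
      have := congrArg Subtype.val hk
      simpa using this
    have hdvd : orderOf g ∣ q ^ k := orderOf_dvd_of_pow_eq_one hk'
    have h1 : orderOf g = 1 := Nat.Coprime.eq_one_of_dvd (hco.pow_right k) hdvd
    exact orderOf_eq_one_iff.1 h1
  have hP : IsPGroup q (commutator G) := cd3sylb_isPGroup q h.hq _ hq'
  exact hnab (h.hFmax (commutator G) inferInstance hP)

end partB

end Cfsg.Agent.Lib.Helper28.CD3
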