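import Mathlib
import Cfsg.Agent.Lib.Helper28.CD3.Defs
import Cfsg.Agent.Lib.helper23.CD3SYLBcore
import Cfsg.Agent.Lib.helper23.CD3OVERQ
import Cfsg.Agent.Lib.Helper25.CD3QDIVcore
import Cfsg.Agent.Lib.Helper25.CD3LS1core
import Cfsg.Agent.Lib.Helper19.CD3BFAB
import Cfsg.Agent.Lib.Helper19.CD3BG
import Cfsg.Agent.Lib.Helper16.CD3BTOP
import Cfsg.Agent.Lib.Helper9.CD3COPACT

/-! CD3-SYLB (helper23): the Sylow case with `G'` not inside `F` is impossible -/

set_option autoImplicit false
open scoped commutatorElement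

namespace Cfsg.Agent.Lib.Helper28.CD3

universe u

section partB
variable {G : Type u} [Group G] [Finite G]

/-- `m ∣ |G : F|` when `G'` is not inside `F` (BG + a nonlinear character over `F`). -/
theorem cd3sylb_m_dvd_index {m n q : ℕ} {F : Subgroup G} (h : BData G m n q F)
    (hnab : ¬ commutator G ≤ F) : m ∣ F.index := by
  haveI := h.hFn
  obtain ⟨d, hd, hd1⟩ := exists_nonlinear_over F hnab
  have hd2 : d ∈ ({1, m} : Set ℕ) := bg_quot h hd
  have hdm : d = m := by
    rcases hd2 with h1 | h1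
    · omega
    · exact h1
  subst hdm
  exact cdOver_dvd_index F hd

-- piece SYLB
theorem syl_nonab {m n q : ℕ} {F : Subgroup G} (h : BData G m n q F) (hsyl : ¬ q ∣ F.index)
    (hnab : ¬ commutator G ≤ F) : False :=
  cd3sylb_core h hnab
    (fun l => cd3ls1_core h hsyl l (cd3sylb_m_dvd_index h hnab)
      (cd3qdiv_core h (F_not_abelian h) (F_ne_top h)))
    (fun g hg hfix => @centralizes_of_fix_lin G _ _ q h.hq F h.hFn h.hFq g hg hfix)

end partB

end Cfsg.Agent.Lib.Helper28.CD3
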