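import Mathlib
import Cfsg.Agent.Lib.helper6.CEB.Defs

/-!
# Project CEB (designer helper6; S2094), rows R1 `lift_comm_ls` and R5 `exists_sysB`, CORES (helper23)

`cebr1_core`: R1 with the statement of Z8 `Xsh_map` (for the given data) as hypothesis.
`cebr5_core`: R5 with the statements of Z8 `Xsh_map`, `Xsh_add` and R1–R4 (`lift_comm_ls`, `lift_ls`, `lift_ss`, `lift_rels`) (for the given data) as hypotheses.
-/

set_option autoImplicit false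

namespace Cfsg.Agent.Lib.helper6.CEB

open Cfsg.Agent.Lib.helper15.St2 Cfsg.Agent.Lib.helper7.Ce Cfsg.Agent.Lib.helper3.STC Cfsg.Agent.Lib.Lead.STD
  Cfsg.Agent.Lib.helper7.CED Cfsg.Agent.Lib.Lead.STB
open Cfsg.Agent.Lib.helper7.CEC (I2 I3 I4 U3)

universe v w w'

section R

variable {K : Type*} [Field K] {ι : Type*} {Γ G : Type*} [Group Γ] [Group G] {S : SysB K ι G} {σ : Γ →* G}

/-- R1 core -/
theorem cebr1_core (h : IsCE σ) (hCs : HCs S σ) (P : SysD K ι Γ) (hP : ∀ a b t, σ (P.x a b t) = S.x a b t) (h2 : I2 ι)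
    (hmap : ∀ (a : ι ⊕ ι) (s : K), σ (Xsh S h P h2 a s) = S.xs a s)
    {a c d : ι ⊕ ι} (hcd : c ≠ d) (hcd' : c ≠ ng d) (hda : d ≠ a) (hca : c ≠ ng a) (t u : K) :
    Xsh S h P h2 a t * P.x c d u = P.x c d u * Xsh S h P h2 a t :=
  hCs a c d hcd hcd' hda hca t u _ _ (hmap a t) (hP c d u)

/-- R5 core -/
theorem cebr5_core (h : IsCE σ) (h2 : I2 ι) (P : SysD K ι Γ)
    (hP : ∀ a b t, σ (P.x a b t) = S.x a b t)
    (hmap : ∀ (a : ι ⊕ ι) (s : K), σ (Xsh S h P h2 a s) = S.xs a s)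
    (hadd : ∀ (a : ι ⊕ ι) (s s' : K), Xsh S h P h2 a (s + s') = Xsh S h P h2 a s * Xsh S h P h2 a s')
    (hR1 : ∀ {a c d : ι ⊕ ι}, c ≠ d → c ≠ ng d → d ≠ a → c ≠ ng a → ∀ t u : K,
      Xsh S h P h2 a t * P.x c d u = P.x c d u * Xsh S h P h2 a t)
    (hR2 : ∀ {a b : ι ⊕ ι}, a ≠ b → a ≠ ng b → ∀ t u : K,
      P.x a b t * Xsh S h P h2 b u * (P.x a b t)⁻¹ * (Xsh S h P h2 b u)⁻¹ = Xsh S h P h2 a (t * u) * P.x a (ng b) (t * u ^ 2))
    (hR3 : ∀ {a b : ι ⊕ ι}, a ≠ b → a ≠ ng b → ∀ t u : K,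
      Xsh S h P h2 a t * Xsh S h P h2 b u * (Xsh S h P h2 a t)⁻¹ * (Xsh S h P h2 b u)⁻¹ = P.x a (ng b) (-(2 * t * u)))
    (hR4 : ∀ (a : ι ⊕ ι) (t u : K), t ≠ 0 →
      cj (Xsh S h P h2 a t * Xsh S h P h2 (ng a) t⁻¹ * Xsh S h P h2 a t) (Xsh S h P h2 a u) = Xsh S h P h2 (ng a) (t⁻¹ ^ 2 * u)) :
    ∃ Q : SysB K ι Γ, (∀ a b t, σ (Q.x a b t) = S.x a b t) ∧ ∀ a t, σ (Q.xs a t) = S.xs a t := by
  refine ⟨{ toSysD := P
            xs := Xsh S h P h2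
            adds := fun a t u => (hadd a t u).symm
            comm_ls := fun a c d hcd hcd' hda hca t u => hR1 hcd hcd' hda hca t u
            ls := fun a b hab hab' t u => hR2 hab hab' t u
            ss := fun a b hab hab' t u => hR3 hab hab' t u
            rels := fun a t u ht => hR4 a t u ht }, ?_, ?_⟩
  · intro a b t
    exact hP a b t
  · intro a t
    exact hmap a t

end R

end Cfsg.Agent.Lib.helper6.CEB
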