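import Mathlib
import Cfsg.Agent.Lib.helper6.CEB.Defs
import Cfsg.Agent.Lib.Helper12.CEBZ8
import Cfsg.Agent.Lib.Helper18.CEBR2
import Cfsg.Agent.Lib.helper6.CEBR3
import Cfsg.Agent.Lib.helper23.CEBR1core

/-!
# Project CEB (designer helper6; S2094), rows R1 `lift_comm_ls` and R5 `exists_sysB`, VERBATIM (helper23):
`cebr1_core`, `cebr5_core` on Z8 `Xsh_map`, `Xsh_add` (helper12), R2 `lift_ls`, R4 `lift_rels` (helper18), R3 `lift_ss` (helper6).
-/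

set_option autoImplicit false

namespace Cfsg.Agent.Lib.helper6.CEB

open Cfsg.Agent.Lib.helper15.St2 Cfsg.Agent.Lib.helper7.Ce Cfsg.Agent.Lib.helper3.STC Cfsg.Agent.Lib.Lead.STD
  Cfsg.Agent.Lib.helper7.CED Cfsg.Agent.Lib.Lead.STB
open Cfsg.Agent.Lib.helper7.CEC (I2 I3 I4 U3)

universe v w w'

section R

variable {K : Type*} [Field K] {ι : Type*} {Γ G : Type*} [Group Γ] [Group G] {S : SysB K ι G} {σ : Γ →* G}

/-- R1 [S]  `hCs` with `Xsh_map` and `hP`. -/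
theorem lift_comm_ls (h : IsCE σ) (hCs : HCs S σ) (P : SysD K ι Γ) (hP : ∀ a b t, σ (P.x a b t) = S.x a b t) (h2 : I2 ι)
    {a c d : ι ⊕ ι} (hcd : c ≠ d) (hcd' : c ≠ ng d) (hda : d ≠ a) (hca : c ≠ ng a) (t u : K) :
    Xsh S h P h2 a t * P.x c d u = P.x c d u * Xsh S h P h2 a t :=
  cebr1_core h hCs P hP h2 (Xsh_map h P hP h2) hcd hcd' hda hca t u

/-- R5 [S-M]  **the lifted system** (model CEC L15, `helper7.CECL15`): `toSysD := P`, `xs := Xsh S h P h2`; `adds`: `Xsh_add` (as `xs t * xs u = xs (t + u)`); `comm_ls`: `lift_comm_ls`; `ls`: `lift_ls`; `ss`: `lift_ss`; `rels`: `lift_rels`;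
the two maps: `hP`, `Xsh_map`. -/
theorem exists_sysB [DecidableEq ι] [Finite K] (h : IsCE σ) (hCs : HCs S σ) (hSs : HSs S σ) (h2 : I2 ι) (h3 : I3 ι) (P : SysD K ι Γ)
    (hP : ∀ a b t, σ (P.x a b t) = S.x a b t) :
    ∃ Q : SysB K ι Γ, (∀ a b t, σ (Q.x a b t) = S.x a b t) ∧ ∀ a t, σ (Q.xs a t) = S.xs a t :=
  cebr5_core h h2 P hP (Xsh_map h P hP h2) (Xsh_add h hCs hSs P hP h2)
    (fun hcd hcd' hda hca t u => lift_comm_ls h hCs P hP h2 hcd hcd' hda hca t u)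
    (fun hab hab' t u => lift_ls h hCs hSs h2 h3 P hP hab hab' t u)
    (fun hab hab' t u => lift_ss h hCs hSs h2 h3 P hP hab hab' t u)
    (fun a t u ht => lift_rels h hCs hSs h2 h3 P hP a t u ht)

end R

end Cfsg.Agent.Lib.helper6.CEB
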