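import Mathlib
import Cfsg.Agent.Lib.helper7.CEC.Defs

/-!
# Project CEC (designer helper7; S2092), row G3 (`CL_tor`), VERBATIM (helper23)

The torus trick for two root elements: an instance of `IsCE.torus`.
-/

set_option autoImplicit false

namespace Cfsg.Agent.Lib.helper7.CEC

open Cfsg.Agent.Lib.helper15.St2 Cfsg.Agent.Lib.helper7.Ce Cfsg.Agent.Lib.helper3.STC

section S0

variable {K : Type*} [Field K] {ι : Type*} {Γ G : Type*} [Group Γ] [Group G] {S : SysC K ι G} {σ : Γ →* G}

/-- G3 [S-M]  the torus trick for two root elements. -/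
theorem CL_tor (h : IsCE σ) {a b c d : ι ⊕ ι} (hab : a ≠ b) (hcd : c ≠ d) (g : G) (dd : ι ⊕ ι → K) (hg : S.IsMon g 1 dd)
    (hfix : dd a * (dd b)⁻¹ = 1) (hsc : dd c * (dd d)⁻¹ ≠ 1)
    (hcomm : ∀ t u, S.x a b t * S.x c d u = S.x c d u * S.x a b t) (t u : K) :
    CL σ (S.x a b t) (S.x c d u) := by
  have key := h.torus (fun u => S.x c d u) (fun s t' => (S.add c d hcd s t').symm) (S.x a b t) g
    (dd c * (dd d)⁻¹) hsc (fun u' => (hcomm t u').symm)
    (fun u' => by
      have := hg.2 c d hcd u'
      simpa using this)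
    (by
      have := hg.2 a b hab t
      rw [hfix, one_mul] at this
      simpa using this)
  exact (key u).symm

end S0

end Cfsg.Agent.Lib.helper7.CEC
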