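import Mathlib
import Cfsg.Agent.Lib.helper7.CEC.Defs
import Cfsg.Agent.Lib.helper7.CEC.Defs2
import Cfsg.Agent.Lib.Helper24.STCI1
import Cfsg.Agent.Lib.Helper24.STCB1
import Cfsg.Agent.Lib.helper4.CECZ2
import Cfsg.Agent.Lib.Helper11.CECZ4

/-!
# Project CEC (designer helper7; S2092), row Z6 (`shortLift_three`), verbatim from `Skel2.lean.txt` (helper23)

The structure `ShortLift` for `m = 2`, `q = 3`, with `X = X3`.
-/

set_option autoImplicit false

namespace Cfsg.Agent.Lib.helper7.CEC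

open Cfsg.Agent.Lib.helper15.St2 Cfsg.Agent.Lib.helper7.Ce Cfsg.Agent.Lib.helper3.STC

section Z

variable {K : Type*} [Field K] {ι : Type*} {Γ G : Type*} [Group Γ] [Group G] {S : SysC K ι G} {σ : Γ →* G}

/-- `ab (ng b) ≠ ab (ng a)` -/
theorem cecz6_ab_ng {a b : ι ⊕ ι} (hab : ab a ≠ ab b) : ab (ng b) ≠ ab (ng a) := by
  rw [ab_ng, ab_ng]; exact fun e => hab e.symm

/-- the second factor of `X3` is a lift of an element of the root subgroup `(a, b)` -/
theorem cecz6_map_snd (h : IsCE σ) (h3 : (3 : K) = 0) {a b : ι ⊕ ι} (hab : ab a ≠ ab b) (s : K) :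
    σ (W3 S h (ng b) (ng a) s) = S.x a b (-(sg a * sg b * s)) := by
  obtain ⟨h1, _⟩ := cecl2_ne hab
  rw [W3_map h h3 (cecz6_ab_ng hab), S.sym a b h1]
  congr 1
  have e1 := sg_mul_self (K := K) a
  have e2 := sg_mul_self (K := K) b
  linear_combination (-s * sg (K := K) b * sg b) * e1 - s * e2

/-- the two kinds of factors of `X3` commute -/
theorem cecz6_comm (h : IsCE σ) (hC : HC S σ) (h3 : (3 : K) = 0) {a b : ι ⊕ ι} (hab : ab a ≠ ab b) (s r : K) :
    W3 S h a b s * W3 S h (ng b) (ng a) r = W3 S h (ng b) (ng a) r * W3 S h a b s :=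
  cecl2_CL_ab_ab hC hab _ _ _ _ (W3_map h h3 hab s) (cecz6_map_snd h h3 hab r)

/-- the relation between the coefficients of a monomial element at the two names of a short root -/
theorem cecz6_coeff (hx : ∀ a b : ι ⊕ ι, a ≠ b → Function.Injective (S.x a b))
    {g : G} {π : Equiv.Perm (ι ⊕ ι)} {d : ι ⊕ ι → K} (hg : S.IsMon g π d)
    (hπ : ∀ k, π (ng k) = ng (π k)) {a b : ι ⊕ ι} (hab : ab a ≠ ab b) :
    d (ng b) * (d (ng a))⁻¹ * (sg a * sg b) = sg (π a) * sg (π b) * (d a * (d b)⁻¹) := by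
  obtain ⟨h1, _⟩ := cecl2_ne hab
  obtain ⟨h1', _⟩ := cecl2_ne (cecz4_ab_perm hπ hab)
  have hn : ng b ≠ ng a := fun e => h1 (ng_inj.1 e).symm
  have hn' : ng (π b) ≠ ng (π a) := fun e => h1' (ng_inj.1 e).symm
  have e1 := hg.2 a b h1 1
  rw [S.sym a b h1 1, hg.2 (ng b) (ng a) hn, S.sym (π a) (π b) h1', hπ, hπ] at e1
  have e2 := hx _ _ hn' e1
  linear_combination (-1 : K) * e2

/-- Z6 [M-L]  the structure.  `map`: `W3_map` twice, `S.sym` (`x (ng b) (ng a) (ε t) = x a b (-t)`), `S.add`, `h3`.  `add`: `W3_add` twice; lifts of `x a b _` commute (`hC`).  `sym`: the two sides have the same two factors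
(`ng_ng`, `sg_ng`, `sg_mul_self`), which commute.  `eqv`: `W3_cj` twice, `hπ`; the arguments agree: with `δ := d a * (d b)⁻¹`, `δ' := d (ng b) * (d (ng a))⁻¹`, one needs `δ' * (sg a * sg b) = sg (π a) * sg (π b) * δ`:
apply `hg.2` to both sides of `S.sym a b` and use `S.sym (π a) (π b)` and `hx` (injectivity).  `c3` is vacuous by `u2`. -/
theorem shortLift_three (h : IsCE σ) (hC : HC S σ) (u2 : U2 ι) (h3 : (3 : K) = 0) (hK : ∀ t : K, t = 0 ∨ t = 1 ∨ t = -1)
    (hx : ∀ a b : ι ⊕ ι, a ≠ b → Function.Injective (S.x a b)) :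
    ∃ L : ShortLift S h, ∀ a b t, L.X a b t = X3 S h a b t := by
  refine ⟨{ X := X3 S h, map := ?_, add := ?_, sym := ?_, eqv := ?_, c3 := ?_ }, fun _ _ _ => rfl⟩
  · intro a b hab t
    obtain ⟨h1, _⟩ := cecl2_ne hab
    unfold X3
    rw [map_mul, W3_map h h3 hab, cecz6_map_snd h h3 hab, S.add a b h1]
    congr 1
    have e1 := sg_mul_self (K := K) a
    have e2 := sg_mul_self (K := K) b
    linear_combination (-t * sg (K := K) b * sg b) * e1 - t * e2 - t * h3
  · intro a b hab t u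
    unfold X3
    rw [neg_add, W3_add h hC hab, mul_add, W3_add h hC (cecz6_ab_ng hab)]
    exact Commute.mul_mul_mul_comm (cecz6_comm h hC h3 hab (-u) (sg a * sg b * t)) _ _
  · intro a b hab t
    unfold X3
    rw [ng_ng, ng_ng, sg_ng, sg_ng, cecz6_comm h hC h3 hab]
    have e1 := sg_mul_self (K := K) a
    have e2 := sg_mul_self (K := K) b
    have a1 : -(-(sg (K := K) a * sg b * t)) = sg a * sg b * t := neg_neg _
    have a2 : -sg (K := K) b * -sg a * -(sg a * sg b * t) = -t := by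
      linear_combination (-t * sg (K := K) b * sg b) * e1 - t * e2
    rw [a1, a2]
  · intro g π d hg hπ e he a b hab t
    unfold X3
    rw [cj_mul, W3_cj h hC hK hg hπ he hab, W3_cj h hC hK hg hπ he (cecz6_ab_ng hab), hπ, hπ]
    have key := cecz6_coeff hx hg hπ hab
    have a1 : d a * (d b)⁻¹ * -t = -(d a * (d b)⁻¹ * t) := by ring
    have a2 : d (ng b) * (d (ng a))⁻¹ * (sg a * sg b * t) = sg (π a) * sg (π b) * (d a * (d b)⁻¹ * t) := by
      linear_combination t * key
    rw [a1, a2]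
  · intro a c b hac hcb hab
    rcases u2 a c b hac with e | e
    · exact absurd e.symm hab
    · exact absurd e.symm hcb

end Z

end Cfsg.Agent.Lib.helper7.CEC
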