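import Mathlib
import Cfsg.Agent.Lib.helper3.CEUO.Defs2
import Cfsg.Agent.Lib.Helper27.STU.Defs3
import Cfsg.Agent.Lib.Helper27.STU.Frob
import Cfsg.Agent.Lib.Helper27.STUQ1
import Cfsg.Agent.Lib.helper8.STULA1

/-!
# Project CEUO (sub-designer helper3; S2089 odd case), row N2 = P8 `r1univ_four`, CORE (helper23)

`ceuop8_core hF hP3 hP4 hP6 hP7`: the conclusion of P8 `r1univ_four` with the statements of P3 `pres_two_sum`, P4 `sW_four`, P6 `lam_four_gen`, P7 `rels_four`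
(for `F`, `Δ`) as hypotheses (P5 `quat_four` is not needed here: `mu ζ₀ = nu ζ₀ = ζ₀` is immediate).
Extras: `ceuop8_XpU_mul` (`XpU` is multiplicative), `ceuop8_W_mat`, `ceuop8_cj_W` (the Weyl element of `ζ₀ = (0, 1)` swaps `XpU ξ` and `XmU ξ` when `2 = 0`).
-/

set_option autoImplicit false
set_option linter.unusedVariables false

namespace Cfsg.Agent.Lib.helper3.CEUO

open Cfsg.Agent.Lib.helper15.St2 Cfsg.Agent.Lib.helper7.Ce Cfsg.Agent.Lib.helper3.STC Cfsg.Agent.Lib.Helper27.STU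
  Cfsg.Agent.Lib.helper7.CEU

section P

universe u w

variable {F : Type u} [Field F] [Fintype F]

/-- `XpU` is multiplicative -/
theorem ceuop8_XpU_mul {F : Type*} [Field F] [StarRing F] {od : Prop} (ξ η : Lam F od) : XpU (ξ * η) = XpU ξ * XpU η := by
  apply SUm.mat_injective
  rw [SUm.mat_mul, SUm.mat_XpU, SUm.mat_XpU, SUm.mat_XpU, stuq1_XpM_mul]

/-- the matrix of the Weyl element of `ζ₀ = (0, 1)` (with `2 = 0`) -/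
theorem ceuop8_W_mat {F : Type*} [Field F] [StarRing F] {od : Prop} (h2 : (2 : F) = 0) (ζ₀ : Lam F od) (hzv : ζ₀.v = 0) (hzc : ζ₀.c = 1) :
    XpM ζ₀ * XmM ζ₀ * XpM ζ₀ = !![0, 0, 1; 0, 1, 0; 1, 0, 0] := by
  have h11 : (1 : F) + 1 = 0 := by linear_combination h2
  ext i j
  fin_cases i <;> fin_cases j <;>
    simp [XpM, XmM, hzv, hzc, Matrix.mul_apply, Fin.sum_univ_three, h11]

/-- the Weyl element of `ζ₀ = (0, 1)` (with `2 = 0`) swaps `XpU ξ` and `XmU ξ` -/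
theorem ceuop8_cj_W {F : Type*} [Field F] [StarRing F] {od : Prop} (h2 : (2 : F) = 0) (ζ₀ : Lam F od) (hzv : ζ₀.v = 0) (hzc : ζ₀.c = 1)
    (ξ : Lam F od) : (XpU ζ₀ * XmU ζ₀ * XpU ζ₀) * XpU ξ = XmU ξ * (XpU ζ₀ * XmU ζ₀ * XpU ζ₀) := by
  apply SUm.mat_injective
  simp only [SUm.mat_mul, SUm.mat_XpU, SUm.mat_XmU]
  rw [ceuop8_W_mat h2 ζ₀ hzv hzc]
  ext i j
  fin_cases i <;> fin_cases j <;>
    simp [XpM, XmM, Matrix.mul_apply, Fin.sum_univ_three]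

theorem ceuop8_core (hF : Fintype.card F = 2 ^ 2) {Δ : Type w} [Group Δ]
    (hP3 : letI := frobStar hF
      ∃ p q ζ₀ : Lam F True, p.v = 1 ∧ q.v = p.c ∧ q.c = p.c ∧ p.c * p.c = p.c + 1 ∧ ζ₀.v = 0 ∧ ζ₀.c = 1 ∧
        ∀ {K : Type w} [Group K] (a a' w : K), a * a * a * a = 1 → a * a * a' * a' = 1 → a * a' * a * a'⁻¹ = 1 →
          a * w * a' * w * a'⁻¹ * w⁻¹ * a⁻¹ * w⁻¹ = 1 → a * a * w * a * a * w * a⁻¹ * a⁻¹ * w⁻¹ = 1 →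
          ∃ φ : ↥(SUm F True) →* K, φ (XpU p) = a ∧ φ (XpU q) = a' ∧ φ (XpU ζ₀ * XmU ζ₀ * XpU ζ₀) = w)
    (hP4 : letI := frobStar hF
      ∀ ξ : Lam F True, ξ.c ≠ 0 → sW ξ = 1 ∧ sW' ξ = 1)
    (hP6 : letI := frobStar hF
      ∀ p q : Lam F True, p.v = 1 → q.v = p.c → q.c = p.c → p.c * p.c = p.c + 1 →
        ∀ ξ : Lam F True, ξ ∈ Subgroup.closure ({p, q} : Set (Lam F True)))
    (hP7 : letI := frobStar hF
      ∀ (X Y : Lam F True → Δ), (∀ ξ η, X (ξ * η) = X ξ * X η) → (∀ ξ η, Y (ξ * η) = Y ξ * Y η) →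
        (∀ ξ η : Lam F True, ξ.c ≠ 0 → cj (X ξ * Y (Lam.mu ξ) * X (Lam.nu ξ)) (X η) = Y η) →
        (∀ ξ η : Lam F True, ξ.c ≠ 0 → cj (X ξ * Y (Lam.mu ξ) * X (Lam.nu ξ)) (Y η) = X η) →
        ∀ p q ζ₀ : Lam F True, p.v = 1 → q.v = p.c → q.c = p.c → p.c * p.c = p.c + 1 → ζ₀.v = 0 → ζ₀.c = 1 →
          X p * X p * X p * X p = 1 ∧ X p * X p * X q * X q = 1 ∧ X p * X q * X p * (X q)⁻¹ = 1 ∧
            X p * (X ζ₀ * Y ζ₀ * X ζ₀) * X q * (X ζ₀ * Y ζ₀ * X ζ₀) * (X q)⁻¹ * (X ζ₀ * Y ζ₀ * X ζ₀)⁻¹ * (X p)⁻¹ *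
              (X ζ₀ * Y ζ₀ * X ζ₀)⁻¹ = 1 ∧
            X p * X p * (X ζ₀ * Y ζ₀ * X ζ₀) * X p * X p * (X ζ₀ * Y ζ₀ * X ζ₀) * (X p)⁻¹ * (X p)⁻¹ *
              (X ζ₀ * Y ζ₀ * X ζ₀)⁻¹ = 1) :
    letI := frobStar hF
    R1Univ F True Δ := by
  let _ := frobStar hF
  intro X Y hX hY h1 h2 _ _
  have hW1 : ∀ ξ η : Lam F True, ξ.c ≠ 0 → cj (X ξ * Y (Lam.mu ξ) * X (Lam.nu ξ)) (X η) = Y η := by
    intro ξ η hξ
    rw [h1 ξ η hξ, (hP4 ξ hξ).1, Lam.act_one]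
  have hW2 : ∀ ξ η : Lam F True, ξ.c ≠ 0 → cj (X ξ * Y (Lam.mu ξ) * X (Lam.nu ξ)) (Y η) = X η := by
    intro ξ η hξ
    rw [h2 ξ η hξ, (hP4 ξ hξ).2, Lam.act_one]
  obtain ⟨p, q, ζ₀, hpv, hqv, hqc, hpc, hzv, hzc, huniv⟩ := hP3
  obtain ⟨r1, r2, r3, r4, r5⟩ := hP7 X Y hX hY hW1 hW2 p q ζ₀ hpv hqv hqc hpc hzv hzc
  obtain ⟨φ, hφp, hφq, hφw⟩ := huniv (X p) (X q) (X ζ₀ * Y ζ₀ * X ζ₀) r1 r2 r3 r4 r5
  have hXp : ∀ ξ, φ (XpU ξ) = X ξ := by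
    intro ξ
    have hcl : Subgroup.closure ({p, q} : Set (Lam F True)) = ⊤ := by
      rw [eq_top_iff]
      intro ξ _
      exact hP6 p q hpv hqv hqc hpc ξ
    have hE : (MonoidHom.mk' (fun ξ : Lam F True => φ (XpU ξ)) (fun ξ η => by rw [ceuop8_XpU_mul, map_mul]) : Lam F True →* Δ) =
        MonoidHom.mk' X hX := by
      apply MonoidHom.eq_of_eqOn_dense hcl
      intro x hx
      rcases hx with rfl | rfl
      · exact hφp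
      · exact hφq
    exact DFunLike.congr_fun hE ξ
  refine ⟨φ, fun ξ => ⟨hXp ξ, ?_⟩⟩
  have h2F : (2 : F) = 0 := by
    have hp := p.h
    have hs : ∀ x : F, star x = x ^ 2 := fun _ => rfl
    rw [hpv, hs, hs] at hp
    have hc0 : p.c ≠ 0 := by
      intro h
      rw [h] at hpc
      simp at hpc
    have h4 : 2 * (p.c * p.c) = 0 := by linear_combination hp + hpc
    rcases mul_eq_zero.1 h4 with h | h
    · exact h
    · exact absurd (mul_self_eq_zero.1 h) hc0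
  have hc := ceuop8_cj_W h2F ζ₀ hzv hzc ξ
  have hmu : Lam.mu ζ₀ = ζ₀ := by
    ext <;> simp [hzv, hzc]
  have hnu : Lam.nu ζ₀ = ζ₀ := by
    ext <;> simp [hzv, hzc]
  have h3 := hW1 ζ₀ ξ (by rw [hzc]; exact one_ne_zero)
  rw [hmu, hnu] at h3
  have e : XmU ξ = (XpU ζ₀ * XmU ζ₀ * XpU ζ₀) * XpU ξ * (XpU ζ₀ * XmU ζ₀ * XpU ζ₀)⁻¹ := by
    rw [hc]
    group
  rw [e, map_mul, map_mul, map_inv, hφw, hXp]
  exact h3

end P

end Cfsg.Agent.Lib.helper3.CEUO
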