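import Mathlib
import Cfsg.Prelude.Def_SolvableStructure
import Cfsg.Agent.S0001
import Cfsg.Agent.Lib.Helper1.Hall
import Cfsg.Agent.Lib.Helper1.MinNormal
import Cfsg.Agent.Lib.helper4.HallSys
import Cfsg.Agent.Lib.helper4.CorefreeConj

set_option autoImplicit false

namespace Cfsg.Agent.Lib.helper23

open Cfsg Subgroup
open scoped Pointwise

variable {G : Type*} [Group G]

/-- conjugates of Carter subgroups are Carter subgroups -/
theorem car_conj {C : Subgroup G} (hC : IsCarterSubgroup C) (g : G) :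
    IsCarterSubgroup (MulAut.conj g • C) := by
  obtain ⟨hnil, hnorm⟩ := hC
  refine ⟨?_, ?_⟩
  · have : Group.IsNilpotent C := hnil
    exact Group.nilpotent_of_mulEquiv (Subgroup.equivSMul (MulAut.conj g) C)
  · apply le_antisymm _ Subgroup.le_normalizer
    intro x hx
    rw [Cfsg.Agent.Lib.helper4.mem_normalizer_iff_smul] at hx
    rw [Cfsg.Agent.Lib.Helper1.mem_conj_smul_iff]
    have h1 : g⁻¹ * x * g ∈ normalizer (C : Set G) := by
      rw [Cfsg.Agent.Lib.helper4.mem_normalizer_iff_smul]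
      have h2 : MulAut.conj (g⁻¹ * x * g) • C = MulAut.conj g⁻¹ • MulAut.conj x • MulAut.conj g • C := by
        rw [map_mul, map_mul, mul_smul, mul_smul]
      rw [h2, hx, ← mul_smul, ← map_mul, inv_mul_cancel, map_one, one_smul]
    rw [hnorm] at h1
    exact h1

/-- a Carter subgroup of `G` contained in `L` is a Carter subgroup of `L` -/
theorem car_subgroupOf {C L : Subgroup G} (hC : IsCarterSubgroup C) (hCL : C ≤ L) :
    IsCarterSubgroup (C.subgroupOf L) := by
  obtain ⟨hnil, hnorm⟩ := hC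
  refine ⟨?_, ?_⟩
  · have : Group.IsNilpotent C := hnil
    exact Group.nilpotent_of_mulEquiv (Subgroup.subgroupOfEquivOfLe hCL).symm
  · rw [← Subgroup.subgroupOf_normalizer_eq hCL, hnorm]

/-- a self-normalizing subgroup of a nilpotent subgroup is everything -/
theorem car_eq_of_le {C₁ C₂ : Subgroup G} (hle : C₁ ≤ C₂) (hnil : Group.IsNilpotent C₂)
    (hnorm : normalizer (C₁ : Set G) = C₁) : C₁ = C₂ := by
  by_contra hne
  have hlt : C₁.subgroupOf C₂ < ⊤ := by
    rw [lt_top_iff_ne_top]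
    intro h
    rw [Subgroup.subgroupOf_eq_top] at h
    exact hne (le_antisymm hle h)
  have h1 := Group.normalizerCondition_of_isNilpotent (G := C₂) _ hlt
  rw [← Subgroup.subgroupOf_normalizer_eq hle, hnorm] at h1
  exact lt_irrefl _ h1

/-- conjugacy of Carter subgroups for solvable groups of order at most `n` -/
def CarConjUpTo.{u} (n : ℕ) : Prop :=
  ∀ (G : Type u) [Group G] [Finite G] [Group.IsSolvable G], Nat.card G ≤ n →
    ∀ C₁ C₂ : Subgroup G, IsCarterSubgroup C₁ → IsCarterSubgroup C₂ →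
      ∃ g : G, MulAut.conj g • C₁ = C₂

/-- the image of a Carter subgroup in a quotient is a Carter subgroup (given conjugacy in smaller
groups) -/
theorem car_map_mk.{u} {G : Type u} [Group G] [Finite G] [Group.IsSolvable G] (n : ℕ)
    (ih : CarConjUpTo.{u} n) (hG : Nat.card G ≤ n + 1) {C : Subgroup G}
    (hC : IsCarterSubgroup C) (N : Subgroup G) [N.Normal] :
    IsCarterSubgroup (C.map (QuotientGroup.mk' N)) := by
  have hsurj : Function.Surjective (QuotientGroup.mk' N) := QuotientGroup.mk'_surjective N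
  refine ⟨?_, ?_⟩
  · have : Group.IsNilpotent C := hC.1
    exact Group.nilpotent_of_surjective ((QuotientGroup.mk' N).subgroupMap C)
      ((QuotientGroup.mk' N).subgroupMap_surjective C)
  · apply le_antisymm _ Subgroup.le_normalizer
    intro xb hxb
    obtain ⟨x, rfl⟩ := hsurj xb
    have h2 : x ∈ (normalizer ((C.map (QuotientGroup.mk' N) : Subgroup (G ⧸ N)) : Set (G ⧸ N))).comap
        (QuotientGroup.mk' N) := hxb
    rw [Subgroup.comap_normalizer_eq_of_surjective _ hsurj, Subgroup.comap_map_eq,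
      QuotientGroup.ker_mk'] at h2
    suffices hx : x ∈ C ⊔ N by
      have h3 : x ∈ (C.map (QuotientGroup.mk' N)).comap (QuotientGroup.mk' N) := by
        rw [Subgroup.comap_map_eq, QuotientGroup.ker_mk']; exact hx
      exact h3
    by_cases hL : C ⊔ N = ⊤
    · rw [hL]; exact Subgroup.mem_top x
    · set L := C ⊔ N with hLdef
      have hcard : Nat.card L ≤ n := by
        have := Cfsg.Agent.S0001.card_lt_of_ne_top L hL
        omega
      have hCL : C ≤ L := le_sup_left
      rw [Cfsg.Agent.Lib.helper4.mem_normalizer_iff_smul] at h2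
      have hC'L : MulAut.conj x • C ≤ L := by
        rw [← h2]
        exact Subgroup.pointwise_smul_le_pointwise_smul_iff.mpr hCL
      have hc1 := car_subgroupOf hC hCL
      have hc2 := car_subgroupOf (car_conj hC x) hC'L
      obtain ⟨l, hl⟩ := ih L hcard _ _ hc1 hc2
      obtain ⟨g, hgL, hg⟩ := Cfsg.Agent.S0001.conj_of_subgroupOf C (MulAut.conj x • C) L hCL hC'L
        ⟨l, hl⟩
      have h4 : g⁻¹ * x ∈ normalizer (C : Set G) := by
        rw [Cfsg.Agent.Lib.helper4.mem_normalizer_iff_smul, map_mul, mul_smul, ← hg, ← mul_smul,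
          ← map_mul, inv_mul_cancel, map_one, one_smul]
      rw [hC.2] at h4
      have h5 : x = g * (g⁻¹ * x) := by group
      rw [h5]
      exact L.mul_mem hgL (hCL h4)

/-- from conjugacy in smaller groups: conjugacy modulo a nontrivial normal subgroup -/
theorem car_step_quot.{u} {G : Type u} [Group G] [Finite G] [Group.IsSolvable G] (n : ℕ)
    (ih : CarConjUpTo.{u} n) (hG : Nat.card G ≤ n + 1) {C₁ C₂ : Subgroup G}
    (hC₁ : IsCarterSubgroup C₁) (hC₂ : IsCarterSubgroup C₂) (N : Subgroup G) [N.Normal]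
    (hN : N ≠ ⊥) : ∃ g : G, MulAut.conj g • C₁ ⊔ N = C₂ ⊔ N := by
  have hsurj : Function.Surjective (QuotientGroup.mk' N) := QuotientGroup.mk'_surjective N
  have hcard : Nat.card (G ⧸ N) ≤ n := by
    have := Cfsg.Agent.S0001.card_quotient_lt N hN
    omega
  have : Group.IsSolvable (G ⧸ N) := Group.isSolvable_of_surjective hsurj
  obtain ⟨gb, hgb⟩ := ih (G ⧸ N) hcard _ _ (car_map_mk n ih hG hC₁ N) (car_map_mk n ih hG hC₂ N)
  obtain ⟨g, rfl⟩ := hsurj gb
  refine ⟨g, ?_⟩
  have h1 := Cfsg.Agent.Lib.Helper1.comap_conj_smul_map C₁ N g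
  rw [hgb, Subgroup.comap_map_eq, QuotientGroup.ker_mk',
    Cfsg.Agent.Lib.Helper1.conj_smul_sup_normal] at h1
  exact h1.symm

/-- a core-free supplement of an abelian minimal normal subgroup is maximal -/
theorem car_isCoatom [Nontrivial G] (C M : Subgroup G) [hMn : M.Normal]
    (hMab : IsMulCommutative M)
    (hMmin : ∀ K : Subgroup G, K.Normal → K ≤ M → K = ⊥ ∨ K = M)
    (hsup : C ⊔ M = ⊤) (hcore : C.normalCore = ⊥) : IsCoatom C := by
  have hcomm := (Cfsg.Agent.Lib.Helper1.isMulCommutative_subgroup_iff M).mp hMab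
  have hmul : ∀ x : G, ∃ c ∈ C, ∃ m ∈ M, x = c * m := by
    intro x
    have hx : x ∈ ((C ⊔ M : Subgroup G) : Set G) := by rw [hsup]; exact Subgroup.mem_top x
    rw [Subgroup.mul_normal] at hx
    obtain ⟨c, hc, m, hm, rfl⟩ := hx
    exact ⟨c, hc, m, hm, rfl⟩
  constructor
  · intro h
    rw [h, Subgroup.normalCore_eq_self] at hcore
    exact top_ne_bot hcore
  · intro T hT
    have hTn : (T ⊓ M).Normal := by
      constructor
      intro y hy x
      obtain ⟨c, hc, m, hm, rfl⟩ := hmul x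
      have h1 : c * m * y * (c * m)⁻¹ = c * y * c⁻¹ := by
        have h2 : m * y = y * m := hcomm m hm y hy.2
        calc c * m * y * (c * m)⁻¹ = c * (m * y) * m⁻¹ * c⁻¹ := by group
          _ = c * (y * m) * m⁻¹ * c⁻¹ := by rw [h2]
          _ = c * y * c⁻¹ := by group
      rw [h1]
      exact ⟨T.mul_mem (T.mul_mem (hT.le hc) hy.1) (T.inv_mem (hT.le hc)), hMn.conj_mem y hy.2 c⟩
    rcases hMmin _ hTn inf_le_right with h | h
    · exfalso
      apply hT.not_ge
      intro t ht
      obtain ⟨c, hc, m, hm, rfl⟩ := hmul t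
      have hmT : m ∈ T := by
        have : m = c⁻¹ * (c * m) := by group
        rw [this]
        exact T.mul_mem (T.inv_mem (hT.le hc)) ht
      have hm1 : m ∈ T ⊓ M := ⟨hmT, hm⟩
      rw [h, Subgroup.mem_bot] at hm1
      rw [hm1, mul_one]
      exact hc
    · rw [eq_top_iff, ← hsup]
      apply sup_le hT.le
      rw [← h]
      exact inf_le_left

/-- conjugation does not change triviality of the core -/
theorem car_core_conj {C : Subgroup G} (hcore : C.normalCore = ⊥) (g : G) :
    (MulAut.conj g • C).normalCore = ⊥ := by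
  rw [eq_bot_iff, ← hcore]
  have hn : (MulAut.conj g • C).normalCore.Normal := Subgroup.normalCore_normal _
  rw [Subgroup.normal_le_normalCore]
  intro x hx
  have h1 : g * x * g⁻¹ ∈ (MulAut.conj g • C).normalCore := hn.conj_mem x hx g
  have h2 := Subgroup.normalCore_le _ h1
  rw [Cfsg.Agent.Lib.Helper1.mem_conj_smul_iff] at h2
  have h3 : g⁻¹ * (g * x * g⁻¹) * g = x := by group
  rw [h3] at h2
  exact h2

theorem car_conj_all.{u} : ∀ n : ℕ, CarConjUpTo.{u} n := by
  intro n
  induction n with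
  | zero =>
    intro G _ _ _ hG
    have := Nat.card_pos (α := G)
    omega
  | succ n ih =>
    intro G _ _ _ hG C₁ C₂ hC₁ hC₂
    -- a normal subgroup inside one of them
    have step0 : ∀ D₁ D₂ : Subgroup G, IsCarterSubgroup D₁ → IsCarterSubgroup D₂ →
        D₂.normalCore ≠ ⊥ → ∃ g : G, MulAut.conj g • D₁ = D₂ := by
      intro D₁ D₂ hD₁ hD₂ hcore
      have hn : D₂.normalCore.Normal := Subgroup.normalCore_normal _
      obtain ⟨g, hg⟩ := car_step_quot n ih hG hD₁ hD₂ D₂.normalCore hcore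
      refine ⟨g, ?_⟩
      rw [sup_eq_left.mpr (Subgroup.normalCore_le D₂)] at hg
      exact car_eq_of_le (by rw [← hg]; exact le_sup_left) hD₂.1 (car_conj hD₁ g).2
    by_cases hcore₂ : C₂.normalCore = ⊥
    swap
    · exact step0 C₁ C₂ hC₁ hC₂ hcore₂
    by_cases hcore₁ : C₁.normalCore = ⊥
    swap
    · obtain ⟨g, hg⟩ := step0 C₂ C₁ hC₂ hC₁ hcore₁
      refine ⟨g⁻¹, ?_⟩
      rw [← hg, ← mul_smul, ← map_mul, inv_mul_cancel, map_one, one_smul]
    by_cases hsub : Subsingleton G
    · refine ⟨1, ?_⟩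
      have : Subsingleton (Subgroup G) := Subgroup.subsingleton_iff.mpr hsub
      exact Subsingleton.elim _ _
    have hnt : Nontrivial G := not_subsingleton_iff_nontrivial.mp hsub
    obtain ⟨M, hMn, hMne, hMmin⟩ := Cfsg.Agent.Lib.Helper1.exists_minimal_normal (G := G)
    obtain ⟨hMab, -⟩ := Cfsg.Agent.Lib.Helper1.minimal_normal_of_solvable M hMne hMmin
    obtain ⟨g, hg⟩ := car_step_quot n ih hG hC₁ hC₂ M hMne
    suffices hsuff : ∃ h : G, MulAut.conj h • (MulAut.conj g • C₁) = C₂ by
      obtain ⟨h, hh⟩ := hsuff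
      exact ⟨h * g, by rw [map_mul, mul_smul]; exact hh⟩
    have hC₁' := car_conj hC₁ g
    set C₁' := MulAut.conj g • C₁ with hC₁'def
    by_cases hL : C₂ ⊔ M = ⊤
    · have hco₁ : IsCoatom C₁' :=
        car_isCoatom C₁' M hMab hMmin (by rw [hg, hL]) (car_core_conj hcore₁ g)
      have hco₂ : IsCoatom C₂ := car_isCoatom C₂ M hMab hMmin hL hcore₂
      exact Cfsg.Agent.Lib.helper4.corefree_max_conj C₁' C₂ hco₁ hco₂ (car_core_conj hcore₁ g) hcore₂
    · set L := C₂ ⊔ M with hLdef
      have hcard : Nat.card L ≤ n := by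
        have := Cfsg.Agent.S0001.card_lt_of_ne_top L hL
        omega
      have h1L : C₁' ≤ L := by rw [← hg]; exact le_sup_left
      have h2L : C₂ ≤ L := le_sup_left
      obtain ⟨l, hl⟩ := ih L hcard _ _ (car_subgroupOf hC₁' h1L) (car_subgroupOf hC₂ h2L)
      obtain ⟨h, -, hh⟩ := Cfsg.Agent.S0001.conj_of_subgroupOf C₁' C₂ L h1L h2L ⟨l, hl⟩
      exact ⟨h, hh⟩

/-- **Carter's theorem** (conjugacy part): any two Carter subgroups of a finite solvable group
are conjugate. -/
theorem car_conjugate [Finite G] [Group.IsSolvable G] {C₁ C₂ : Subgroup G}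
    (hC₁ : IsCarterSubgroup C₁) (hC₂ : IsCarterSubgroup C₂) :
    ∃ g : G, MulAut.conj g • C₁ = C₂ :=
  car_conj_all (Nat.card G) G le_rfl C₁ C₂ hC₁ hC₂

end Cfsg.Agent.Lib.helper23
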