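import Mathlib
import Cfsg.Prelude.Def_SolvableStructure
import Cfsg.Agent.S0001
import Cfsg.Agent.S0568
import Cfsg.Agent.Lib.Helper1.Hall
import Cfsg.Agent.Lib.Helper1.MinNormal
import Cfsg.Agent.Lib.Helper1.Nilp
import Cfsg.Agent.Lib.helper4.HallSysF

set_option autoImplicit false

namespace Cfsg.Agent.Lib.helper23

open Cfsg Subgroup
open scoped Pointwise commutatorElement

variable {G : Type*} [Group G]

/-- a system normalizer supplements every normal subgroup with nilpotent quotient -/
theorem car_sysnorm_sup [Finite G] [Group.IsSolvable G] (F : Subgroup G) [F.Normal]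
    (hGF : Group.IsNilpotent (G ⧸ F)) (K : Nat.Primes → Subgroup G) (hK : IsComplementSystem K) :
    systemNormalizer K ⊔ F = ⊤ := by
  by_contra hne
  set D := systemNormalizer K with hD
  set T := D ⊔ F with hT
  have hsurj : Function.Surjective (QuotientGroup.mk' F) := QuotientGroup.mk'_surjective F
  have hTb : T.map (QuotientGroup.mk' F) ≠ ⊤ := by
    intro h
    have h1 : (T.map (QuotientGroup.mk' F)).comap (QuotientGroup.mk' F) = ⊤ := by
      rw [h, Subgroup.comap_top]
    rw [Subgroup.comap_map_eq, QuotientGroup.ker_mk', hT, sup_assoc, sup_idem] at h1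
    exact hne h1
  obtain h | ⟨A, hA, hTA⟩ := eq_top_or_exists_le_coatom (T.map (QuotientGroup.mk' F))
  · exact hTb h
  · have hAn : A.Normal :=
      Subgroup.NormalizerCondition.normal_of_coatom A Group.normalizerCondition_of_isNilpotent hA
    set N := A.comap (QuotientGroup.mk' F) with hN
    have hNn : N.Normal := hAn.comap _
    have hNne : N ≠ ⊤ := by
      intro h
      have h1 : A.comap (QuotientGroup.mk' F) = (⊤ : Subgroup (G ⧸ F)).comap (QuotientGroup.mk' F) := by
        rw [Subgroup.comap_top]; exact h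
      exact hA.1 (Subgroup.comap_injective hsurj h1)
    have hDN : D ≤ N := by
      intro d hd
      rw [hN, Subgroup.mem_comap]
      exact hTA (Subgroup.mem_map_of_mem _ (show d ∈ T from (le_sup_left : D ≤ T) hd))
    have h2 : Subgroup.normalClosure ((D : Subgroup G) : Set G) ≤ N :=
      Subgroup.normalClosure_le_normal hDN
    rw [hD, Cfsg.Agent.Lib.helper4.systemNormalizer_normalClosure K hK] at h2
    exact hNne (top_le_iff.mp h2)

/-- a nontrivial normal nilpotent subgroup contains a minimal normal subgroup of `G`, which it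
centralizes -/
theorem car_exists_min_in [Finite G] (F : Subgroup G) [hFn : F.Normal] (hF : Group.IsNilpotent F)
    (hFne : F ≠ ⊥) :
    ∃ M : Subgroup G, M.Normal ∧ M ≠ ⊥ ∧ M ≤ F ∧
      (∀ N : Subgroup G, N.Normal → N ≤ M → N = ⊥ ∨ N = M) ∧
      M ≤ centralizer (F : Set G) := by
  have hfin : {N : Subgroup G | N.Normal ∧ N ≠ ⊥ ∧ N ≤ F}.Finite := Set.toFinite _
  have hne : {N : Subgroup G | N.Normal ∧ N ≠ ⊥ ∧ N ≤ F}.Nonempty := ⟨F, hFn, hFne, le_rfl⟩
  obtain ⟨M, hM⟩ := hfin.exists_minimal hne
  obtain ⟨⟨hMn, hMne, hMF⟩, hMmin⟩ := hM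
  have hmin : ∀ N : Subgroup G, N.Normal → N ≤ M → N = ⊥ ∨ N = M := by
    intro N hN hNM
    by_cases hN0 : N = ⊥
    · exact Or.inl hN0
    · exact Or.inr (le_antisymm hNM (hMmin ⟨hN, hN0, hNM.trans hMF⟩ hNM))
  refine ⟨M, hMn, hMne, hMF, hmin, ?_⟩
  -- M ⊓ C_G(F) is a nontrivial normal subgroup
  have hZn : (M ⊓ centralizer (F : Set G)).Normal := Subgroup.normal_inf_normal _ _
  have hZne : M ⊓ centralizer (F : Set G) ≠ ⊥ := by
    have hMFn : (M.subgroupOf F).Normal := hMn.subgroupOf F
    have hMFne : M.subgroupOf F ≠ ⊥ := by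
      intro h
      rw [Subgroup.subgroupOf_eq_bot, disjoint_iff, inf_eq_left.mpr hMF] at h
      exact hMne h
    have h1 := Cfsg.Agent.Lib.Helper1.normal_inf_center_ne_bot (G := F) (M.subgroupOf F) hMFne
    rw [Ne, Subgroup.eq_bot_iff_forall] at h1
    push Not at h1
    obtain ⟨z, hz, hz1⟩ := h1
    intro hbot
    have hzmem : (z : G) ∈ M ⊓ centralizer (F : Set G) := by
      refine ⟨hz.1, ?_⟩
      show (z : G) ∈ centralizer (F : Set G)
      rw [Subgroup.mem_centralizer_iff]
      intro f hf
      have h2 := Subgroup.mem_center_iff.mp hz.2 ⟨f, hf⟩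
      exact congrArg Subtype.val h2
    rw [hbot, Subgroup.mem_bot] at hzmem
    exact hz1 (Subtype.ext hzmem)
  rcases hmin _ hZn inf_le_left with h | h
  · exact absurd h hZne
  · rw [← h]; exact inf_le_right

theorem car_sysnorm_selfnorm_aux.{u} : ∀ (n : ℕ) (G : Type u) [Group G] [Finite G]
    [Group.IsSolvable G], Nat.card G ≤ n → ∀ (F : Subgroup G) [F.Normal], Group.IsNilpotent F →
    Group.IsNilpotent (G ⧸ F) → ∀ K : Nat.Primes → Subgroup G, IsComplementSystem K →
      normalizer ((systemNormalizer K : Subgroup G) : Set G) = systemNormalizer K := by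
  intro n
  induction n with
  | zero =>
    intro G _ _ _ hG
    have := Nat.card_pos (α := G)
    omega
  | succ n ih =>
    intro G _ _ _ hG F _ hF hGF K hK
    have hDF := car_sysnorm_sup F hGF K hK
    set D := systemNormalizer K with hD
    by_cases hFne : F = ⊥
    · rw [hFne, sup_bot_eq] at hDF
      rw [hDF]
      exact Subgroup.normalizer_eq_top ⊤
    obtain ⟨M, hMn, hMne, hMF, hMmin, hMcent⟩ := car_exists_min_in F hF hFne
    have hsurj : Function.Surjective (QuotientGroup.mk' M) := QuotientGroup.mk'_surjective M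
    have hcard : Nat.card (G ⧸ M) ≤ n := by
      have := Cfsg.Agent.S0001.card_quotient_lt M hMne
      omega
    have hsolv : Group.IsSolvable (G ⧸ M) := Group.isSolvable_of_surjective hsurj
    set Fb := F.map (QuotientGroup.mk' M) with hFb
    have hFbn : Fb.Normal := Subgroup.Normal.map inferInstance _ hsurj
    have hFbnil : Group.IsNilpotent Fb :=
      Group.nilpotent_of_surjective ((QuotientGroup.mk' M).subgroupMap F)
        ((QuotientGroup.mk' M).subgroupMap_surjective F)
    have hquot : Group.IsNilpotent ((G ⧸ M) ⧸ Fb) := by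
      have hle : F ≤ Fb.comap (QuotientGroup.mk' M) := Subgroup.le_comap_map _ _
      refine Group.nilpotent_of_surjective (QuotientGroup.map F Fb (QuotientGroup.mk' M) hle) ?_
      intro y
      obtain ⟨yb, rfl⟩ := QuotientGroup.mk'_surjective Fb y
      obtain ⟨x, rfl⟩ := hsurj yb
      exact ⟨QuotientGroup.mk' F x, QuotientGroup.map_mk' F Fb (QuotientGroup.mk' M) hle x⟩
    have hKb := Cfsg.Agent.Lib.helper4.complementSystem_map K hK M
    have hDb := Cfsg.Agent.Lib.helper4.systemNormalizer_map K hK M
    have h1 := ih (G ⧸ M) hcard Fb hFbnil hquot _ hKb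
    rw [hDb] at h1
    have h2 : normalizer ((D ⊔ M : Subgroup G) : Set G) = D ⊔ M := by
      have h3 := congrArg (Subgroup.comap (QuotientGroup.mk' M)) h1
      rw [Subgroup.comap_normalizer_eq_of_surjective _ hsurj, Subgroup.comap_map_eq,
        QuotientGroup.ker_mk'] at h3
      exact h3
    apply le_antisymm _ Subgroup.le_normalizer
    intro x hx
    have hx2 : x ∈ D ⊔ M := by
      rw [← h2, Cfsg.Agent.Lib.helper4.mem_normalizer_iff_smul,
        Cfsg.Agent.Lib.Helper1.conj_smul_sup_normal,
        (Cfsg.Agent.Lib.helper4.mem_normalizer_iff_smul x D).mp hx]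
    have hx3 : x ∈ ((D ⊔ M : Subgroup G) : Set G) := hx2
    rw [Subgroup.mul_normal] at hx3
    obtain ⟨d, hd, m, hm, rfl⟩ := hx3
    suffices hmD : m ∈ D from D.mul_mem hd hmD
    have hmN : m ∈ normalizer (D : Set G) := by
      have h4 : m = d⁻¹ * (d * m) := by group
      rw [h4]
      exact Subgroup.mul_mem _ (Subgroup.inv_mem _ (Subgroup.le_normalizer hd)) hx
    have hcov := Cfsg.Agent.S0568.result K hK ⊥ M (bot_lt_iff_ne_bot.mpr hMne)
      (fun N hN _ hNM => hMmin N hN hNM)
    by_cases hcen : ⁅M, (⊤ : Subgroup G)⁆ ≤ ⊥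
    · have h5 := hcov.1 hcen
      rw [bot_sup_eq] at h5
      exact h5 hm
    · have hav := hcov.2 hcen
      have hmc : m ∈ center G := by
        rw [Subgroup.mem_center_iff]
        intro g
        have hg : g ∈ ((D ⊔ F : Subgroup G) : Set G) := by
          rw [hDF]; exact Subgroup.mem_top g
        rw [Subgroup.mul_normal] at hg
        obtain ⟨d', hd', f, hf, rfl⟩ := hg
        have hmf : f * m = m * f := (Subgroup.mem_centralizer_iff.mp (hMcent hm)) f hf
        have hmd : d' * m = m * d' := by
          have hc : m * d' * m⁻¹ * d'⁻¹ ∈ M ⊓ D := by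
            constructor
            · have h6 : m * d' * m⁻¹ * d'⁻¹ = m * (d' * m⁻¹ * d'⁻¹) := by group
              rw [h6]
              exact M.mul_mem hm (hMn.conj_mem _ (M.inv_mem hm) d')
            · exact D.mul_mem ((Subgroup.mem_normalizer_iff.mp hmN d').mp hd') (D.inv_mem hd')
          have h7 := hav hc
          rw [Subgroup.mem_bot] at h7
          have h8 : m * d' = (m * d' * m⁻¹ * d'⁻¹) * (d' * m) := by group
          rw [h8, h7, one_mul]
        calc d' * f * m = d' * (f * m) := by group
          _ = d' * (m * f) := by rw [hmf]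
          _ = (d' * m) * f := by group
          _ = (m * d') * f := by rw [hmd]
          _ = m * (d' * f) := by group
      have hZn : (M ⊓ center G).Normal := Subgroup.normal_inf_normal _ _
      rcases hMmin _ hZn inf_le_left with h | h
      · have h9 : m ∈ M ⊓ center G := ⟨hm, hmc⟩
        rw [h, Subgroup.mem_bot] at h9
        rw [h9]
        exact D.one_mem
      · exfalso
        apply hcen
        rw [Subgroup.commutator_le]
        intro a ha b _
        have hac : a ∈ M ⊓ center G := by rw [h]; exact ha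
        have h10 := Subgroup.mem_center_iff.mp hac.2 b
        rw [Subgroup.mem_bot, commutatorElement_eq_one_iff_mul_comm]
        exact h10.symm

/-- **Theorem B**: in a finite group which is nilpotent-by-nilpotent, every system normalizer is a
Carter subgroup. -/
theorem car_sysnorm_isCarter [Finite G] [Group.IsSolvable G] (F : Subgroup G) [F.Normal]
    (hF : Group.IsNilpotent F) (hGF : Group.IsNilpotent (G ⧸ F)) (K : Nat.Primes → Subgroup G)
    (hK : IsComplementSystem K) : IsCarterSubgroup (systemNormalizer K) :=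
  ⟨Cfsg.Agent.Lib.helper4.systemNormalizer_nilpotent K hK,
    car_sysnorm_selfnorm_aux (Nat.card G) G le_rfl F hF hGF K hK⟩

end Cfsg.Agent.Lib.helper23
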