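import Mathlib
import Cfsg.Prelude.Def_SolvableStructure
import Cfsg.Agent.Lib.helper23.CarterA
import Cfsg.Agent.Lib.helper23.CarterB

set_option autoImplicit false

namespace Cfsg.Agent.Lib.helper23

open Cfsg Subgroup
open scoped Pointwise commutatorElement

variable {G : Type*} [Group G]

/-- the complement system `K` reduces into `C`: each `K q ⊓ C` has `q`-power index in `C` -/
def CarRed (K : Nat.Primes → Subgroup G) (C : Subgroup G) : Prop :=
  ∀ q : Nat.Primes, ∃ k : ℕ, (K q).relIndex C = (q : ℕ) ^ k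

/-- second isomorphism theorem, index form -/
theorem car_relIndex_sup [Finite G] (H N : Subgroup G) [N.Normal] :
    H.relIndex (H ⊔ N) = H.relIndex N := by
  have h1 : (H ⊓ N).relIndex H * H.relIndex (H ⊔ N) = (H ⊓ N).relIndex (H ⊔ N) :=
    Subgroup.relIndex_mul_relIndex _ _ _ inf_le_left le_sup_left
  have h2 : (H ⊓ N).relIndex N * N.relIndex (H ⊔ N) = (H ⊓ N).relIndex (H ⊔ N) :=
    Subgroup.relIndex_mul_relIndex _ _ _ inf_le_right le_sup_right
  rw [Subgroup.relIndex_sup_right, ← Subgroup.inf_relIndex_left H N, ← h1, mul_comm] at h2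
  have hpos : 0 < (H ⊓ N).relIndex H :=
    Nat.pos_of_ne_zero (Subgroup.index_ne_zero_of_finite (H := (H ⊓ N).subgroupOf H))
  have h3 := Nat.eq_of_mul_eq_mul_left hpos h2
  rw [← h3, Subgroup.inf_relIndex_right]

/-- the order of a member of a complement system is prime to its prime -/
theorem car_not_dvd_card [Finite G] {K : Nat.Primes → Subgroup G} (hK : IsComplementSystem K)
    (q : Nat.Primes) : ¬ (q : ℕ) ∣ Nat.card (K q) := by
  intro hdvd
  have h1 := Subgroup.card_mul_index (K q)
  rw [hK q] at h1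
  have h2 : (q : ℕ) ^ ((Nat.card G).factorization q + 1) ∣ Nat.card G := by
    set v := (Nat.card G).factorization q with hv
    rw [← h1, pow_succ, mul_comm]
    exact Nat.mul_dvd_mul hdvd dvd_rfl
  exact Nat.pow_succ_factorization_not_dvd Nat.card_pos.ne' q.2 h2

/-- if `K` reduces into `L` then it induces a complement system of `L` -/
theorem car_system_of_red [Finite G] {K : Nat.Primes → Subgroup G} (hK : IsComplementSystem K)
    (L : Subgroup G) (hred : CarRed K L) :
    IsComplementSystem (fun q => (K q).subgroupOf L) := by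
  intro q
  obtain ⟨k, hk⟩ := hred q
  change ((K q).subgroupOf L).index = _
  have hidx : ((K q).subgroupOf L).index = (q : ℕ) ^ k := hk
  rw [hidx]
  have h1 := Subgroup.card_mul_index ((K q).subgroupOf L)
  rw [hidx] at h1
  have hnd : ¬ (q : ℕ) ∣ Nat.card ((K q).subgroupOf L) := fun h =>
    car_not_dvd_card hK q (h.trans (Cfsg.Agent.S0001.card_subgroupOf_dvd (K q) L))
  have hfac : (Nat.card L).factorization q = k := by
    rw [← h1, Nat.factorization_mul Nat.card_pos.ne' (pow_ne_zero _ q.2.ne_zero),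
      Finsupp.add_apply, Nat.factorization_eq_zero_of_not_dvd hnd, q.2.factorization_pow, zero_add]
    simp
  rw [hfac]

/-- lifting the reduction property from a quotient by a normal subgroup -/
theorem car_red_of_quot [Finite G] {K : Nat.Primes → Subgroup G} (hK : IsComplementSystem K)
    (M L : Subgroup G) [hMn : M.Normal] (hML : M ≤ L)
    (hred : CarRed (fun q => (K q).map (QuotientGroup.mk' M)) (L.map (QuotientGroup.mk' M))) :
    CarRed K L := by
  intro q
  obtain ⟨k, hk⟩ := hred q
  change ((K q).map (QuotientGroup.mk' M)).relIndex (L.map (QuotientGroup.mk' M)) = _ at hk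
  rw [Subgroup.relIndex_map_map, QuotientGroup.ker_mk', sup_eq_left.mpr hML] at hk
  set A := K q ⊓ L with hA
  set B := A ⊔ M with hB
  have hAB : A ≤ B := le_sup_left
  have hBL : B ≤ L := sup_le inf_le_right hML
  have h1 : A.relIndex B * B.relIndex L = A.relIndex L :=
    Subgroup.relIndex_mul_relIndex _ _ _ hAB hBL
  rw [hA, Subgroup.inf_relIndex_right] at h1
  rw [← hA] at h1
  -- first factor
  have hf1 : A.relIndex B ∣ (K q).index := by
    rw [hB, car_relIndex_sup, ← Subgroup.inf_relIndex_right, hA, inf_assoc, inf_eq_right.mpr hML,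
      Subgroup.inf_relIndex_right]
    exact Cfsg.Agent.Lib.helper4.relIndex_dvd_index_of_normal_right (K q) M
  -- second factor
  have hmod : (K q ⊔ M) ⊓ L ≤ B := by
    intro x hx
    obtain ⟨hx1, hx2⟩ := Subgroup.mem_inf.mp hx
    rw [Subgroup.mem_sup_of_normal_right] at hx1
    obtain ⟨y, hy, z, hz, rfl⟩ := hx1
    rw [hB, Subgroup.mem_sup_of_normal_right]
    refine ⟨y, ⟨hy, ?_⟩, z, hz, rfl⟩
    have : y = y * z * z⁻¹ := by group
    rw [this]
    exact L.mul_mem hx2 (L.inv_mem (hML hz))
  have hf2 : B.relIndex L ∣ (q : ℕ) ^ k := by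
    rw [← hk, ← Subgroup.inf_relIndex_right (K q ⊔ M) L]
    exact Subgroup.relIndex_dvd_of_le_left L hmod
  rw [hK q] at hf1
  have h2 : (K q).relIndex L ∣ (q : ℕ) ^ ((Nat.card G).factorization q + k) := by
    rw [← h1, pow_add]
    exact Nat.mul_dvd_mul hf1 hf2
  obtain ⟨j, -, hj⟩ := (Nat.dvd_prime_pow q.2).mp h2
  exact ⟨j, hj⟩

/-- a complement system reduces into its system normalizer -/
theorem car_red_sysnorm [Finite G] {K : Nat.Primes → Subgroup G} (hK : IsComplementSystem K) :
    CarRed K (systemNormalizer K) := by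
  intro q
  set D := systemNormalizer K with hD
  by_cases hq : q ∈ Cfsg.Agent.Lib.helper4.primesOf G
  swap
  · refine ⟨0, ?_⟩
    rw [Cfsg.Agent.Lib.helper4.complementSystem_eq_top hK q hq, pow_zero]
    exact Subgroup.relIndex_eq_one.mpr le_top
  refine ⟨_, Nat.eq_prime_pow_of_unique_prime_dvd
    (Subgroup.index_ne_zero_of_finite (H := (K q).subgroupOf D)) ?_⟩
  intro r hr hrdvd
  by_contra hne
  let r' : Nat.Primes := ⟨r, hr⟩
  have hqr : q ≠ r' := fun h => hne (congrArg Subtype.val h).symm
  have hle : Cfsg.Agent.Lib.helper4.sysSylow K r' ≤ K q := by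
    unfold Cfsg.Agent.Lib.helper4.sysSylow
    exact Finset.inf_le (Finset.mem_erase.mpr ⟨hqr, hq⟩)
  have h1 : (K q).relIndex D ∣ (Cfsg.Agent.Lib.helper4.sysSylow K r').relIndex D :=
    Subgroup.relIndex_dvd_of_le_left D hle
  have h2 := Cfsg.Agent.Lib.helper4.relIndex_dvd_index_of_le_normalizer
    (Cfsg.Agent.Lib.helper4.sysSylow K r') D
    (Cfsg.Agent.Lib.helper4.systemNormalizer_le_normalizer_sysSylow K r')
  exact Cfsg.Agent.Lib.helper4.sysSylow_index hK r' (hrdvd.trans (h1.trans h2))

end Cfsg.Agent.Lib.helper23
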