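import Mathlib
import Cfsg.Prelude.Def_SolvableStructure
import Cfsg.Agent.Lib.helper23.CarterC

set_option autoImplicit false

namespace Cfsg.Agent.Lib.helper23

open Cfsg Subgroup
open scoped Pointwise commutatorElement

variable {G : Type*} [Group G]

/-- lifting a Carter subgroup of `L` to a Carter subgroup of `G` -/
theorem car_of_sub (M L C : Subgroup G) [hMn : M.Normal] (hML : M ≤ L) (hCL : C ≤ L)
    (hC : IsCarterSubgroup (C.subgroupOf L)) (hsup : C ⊔ M = L)
    (hLb : normalizer ((L.map (QuotientGroup.mk' M) : Subgroup (G ⧸ M)) : Set (G ⧸ M)) =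
      L.map (QuotientGroup.mk' M)) :
    IsCarterSubgroup C := by
  refine ⟨?_, ?_⟩
  · have : Group.IsNilpotent (C.subgroupOf L) := hC.1
    exact Group.nilpotent_of_mulEquiv (Subgroup.subgroupOfEquivOfLe hCL)
  · apply le_antisymm _ Subgroup.le_normalizer
    intro x hx
    have hxL : x ∈ normalizer (L : Set G) := by
      rw [Cfsg.Agent.Lib.helper4.mem_normalizer_iff_smul, ← hsup,
        Cfsg.Agent.Lib.Helper1.conj_smul_sup_normal,
        (Cfsg.Agent.Lib.helper4.mem_normalizer_iff_smul x C).mp hx]
    have hsurj : Function.Surjective (QuotientGroup.mk' M) := QuotientGroup.mk'_surjective M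
    have h2 : normalizer (L : Set G) = L := by
      have h3 := congrArg (Subgroup.comap (QuotientGroup.mk' M)) hLb
      rw [Subgroup.comap_normalizer_eq_of_surjective _ hsurj, Subgroup.comap_map_eq,
        QuotientGroup.ker_mk', sup_eq_left.mpr hML] at h3
      exact h3
    rw [h2] at hxL
    have h4 : (⟨x, hxL⟩ : L) ∈ normalizer ((C.subgroupOf L : Subgroup L) : Set L) := by
      rw [← Subgroup.subgroupOf_normalizer_eq hCL, Subgroup.mem_subgroupOf]
      exact hx
    rw [hC.2, Subgroup.mem_subgroupOf] at h4
    exact h4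

/-- the inductive step: from a Carter subgroup `L/M` of `G/M` into which the system reduces, to a
Carter subgroup of `G` -/
theorem car_step [Finite G] [Group.IsSolvable G] (M L : Subgroup G) [hMn : M.Normal]
    (hML : M ≤ L) (hMab : IsMulCommutative M)
    (hLC : IsCarterSubgroup (L.map (QuotientGroup.mk' M)))
    (K : Nat.Primes → Subgroup G) (hK : IsComplementSystem K) (hDL : systemNormalizer K ≤ L)
    (hred : CarRed K L) :
    ∃ C : Subgroup G, IsCarterSubgroup C ∧ systemNormalizer K ≤ C ∧ CarRed K C := by
  set J : Nat.Primes → Subgroup L := fun q => (K q).subgroupOf L with hJ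
  have hJs : IsComplementSystem J := car_system_of_red hK L hred
  set ML : Subgroup L := M.subgroupOf L with hMLdef
  have hMLn : ML.Normal := hMn.subgroupOf L
  have hMLnil : Group.IsNilpotent ML := by
    have hMnil : Group.IsNilpotent M := by
      have hcomm := (Cfsg.Agent.Lib.Helper1.isMulCommutative_subgroup_iff M).mp hMab
      let inst : CommGroup M :=
        { (inferInstance : Group M) with
          mul_comm := fun a b => Subtype.ext (hcomm a a.2 b b.2) }
      exact @CommGroup.isNilpotent M inst
    exact Group.nilpotent_of_mulEquiv (Subgroup.subgroupOfEquivOfLe hML).symm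
  have hquot : Group.IsNilpotent (L ⧸ ML) := by
    set φ := (QuotientGroup.mk' M).subgroupMap L with hφ
    have hφs : Function.Surjective φ := (QuotientGroup.mk' M).subgroupMap_surjective L
    have hker : ML = φ.ker := by
      ext x
      rw [MonoidHom.mem_ker, hMLdef, Subgroup.mem_subgroupOf]
      constructor
      · intro hx
        apply Subtype.ext
        rw [MonoidHom.subgroupMap_apply_coe]
        exact (QuotientGroup.eq_one_iff _).mpr hx
      · intro hx
        have h1 := congrArg Subtype.val hx
        rw [MonoidHom.subgroupMap_apply_coe] at h1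
        exact (QuotientGroup.eq_one_iff _).mp h1
    have hnilb : Group.IsNilpotent (L.map (QuotientGroup.mk' M)) := hLC.1
    exact Group.nilpotent_of_mulEquiv
      ((QuotientGroup.quotientMulEquivOfEq hker).trans
        (QuotientGroup.quotientKerEquivOfSurjective φ hφs)).symm
  have hDLc := car_sysnorm_isCarter ML hMLnil hquot J hJs
  have hDLsup := car_sysnorm_sup ML hquot J hJs
  set DL := systemNormalizer J with hDLdef
  set C := DL.map L.subtype with hCdef
  have hCL : C ≤ L := by
    rw [hCdef]; exact Subgroup.map_subtype_le DL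
  have hCsub : C.subgroupOf L = DL := by
    rw [hCdef]
    exact Subgroup.comap_map_eq_self_of_injective (Subgroup.subtype_injective L) DL
  have hsup : C ⊔ M = L := by
    have h := congrArg (Subgroup.map L.subtype) hDLsup
    rw [Subgroup.map_sup, hMLdef, Subgroup.map_subgroupOf_eq_of_le hML, ← MonoidHom.range_eq_map,
      Subgroup.range_subtype] at h
    exact h
  refine ⟨C, car_of_sub M L C hML hCL (by rw [hCsub]; exact hDLc) hsup hLC.2, ?_, ?_⟩
  · intro x hx
    have hxL : x ∈ L := hDL hx
    rw [hCdef]
    refine ⟨⟨x, hxL⟩, ?_, rfl⟩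
    show (⟨x, hxL⟩ : L) ∈ DL
    rw [hDLdef]
    unfold systemNormalizer
    rw [Subgroup.mem_iInf]
    intro q
    have hxq := Cfsg.Agent.Lib.helper4.systemNormalizer_le_normalizer K q hx
    rw [Subgroup.mem_normalizer_iff] at hxq ⊢
    intro h
    rw [hJ]
    simp only [Subgroup.mem_subgroupOf]
    exact hxq h
  · intro q
    obtain ⟨k, hk⟩ := car_red_sysnorm hJs q
    refine ⟨k, ?_⟩
    have hk' : (J q).relIndex DL = (q : ℕ) ^ k := hk
    rw [← hk', ← hCsub]
    exact (Subgroup.relIndex_subgroupOf hCL).symm

theorem car_exists_aux.{u} : ∀ (n : ℕ) (G : Type u) [Group G] [Finite G] [Group.IsSolvable G],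
    Nat.card G ≤ n → ∀ K : Nat.Primes → Subgroup G, IsComplementSystem K →
      ∃ C : Subgroup G, IsCarterSubgroup C ∧ systemNormalizer K ≤ C ∧ CarRed K C := by
  intro n
  induction n with
  | zero =>
    intro G _ _ _ hG
    have := Nat.card_pos (α := G)
    omega
  | succ n ih =>
    intro G _ _ _ hG K hK
    by_cases hsub : Subsingleton G
    · refine ⟨⊤, ⟨?_, Subgroup.normalizer_eq_top ⊤⟩, le_top, ?_⟩
      · exact Group.nilpotent_of_mulEquiv (Subgroup.topEquiv (G := G)).symm
      · intro q
        exact ⟨_, by rw [Subgroup.relIndex_top_right]; exact hK q⟩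
    have hnt : Nontrivial G := not_subsingleton_iff_nontrivial.mp hsub
    obtain ⟨M, hMn, hMne, hMmin⟩ := Cfsg.Agent.Lib.Helper1.exists_minimal_normal (G := G)
    obtain ⟨hMab, -⟩ := Cfsg.Agent.Lib.Helper1.minimal_normal_of_solvable M hMne hMmin
    have hsurj : Function.Surjective (QuotientGroup.mk' M) := QuotientGroup.mk'_surjective M
    have hcard : Nat.card (G ⧸ M) ≤ n := by
      have := Cfsg.Agent.S0001.card_quotient_lt M hMne
      omega
    have hsolv : Group.IsSolvable (G ⧸ M) := Group.isSolvable_of_surjective hsurj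
    have hKb := Cfsg.Agent.Lib.helper4.complementSystem_map K hK M
    have hDb := Cfsg.Agent.Lib.helper4.systemNormalizer_map K hK M
    obtain ⟨Lb, hLbC, hDLb, hredb⟩ := ih (G ⧸ M) hcard _ hKb
    set L := Lb.comap (QuotientGroup.mk' M) with hL
    have hLmap : L.map (QuotientGroup.mk' M) = Lb :=
      Subgroup.map_comap_eq_self_of_surjective hsurj Lb
    have hML : M ≤ L := by
      intro m hm
      rw [hL, Subgroup.mem_comap]
      have h1 : QuotientGroup.mk' M m = 1 := (QuotientGroup.eq_one_iff m).mpr hm
      rw [h1]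
      exact Subgroup.one_mem _
    have hDL : systemNormalizer K ≤ L := by
      intro x hx
      rw [hL, Subgroup.mem_comap]
      apply hDLb
      rw [hDb]
      exact Subgroup.mem_map_of_mem _ hx
    rw [← hLmap] at hLbC hredb
    exact car_step M L hML hMab hLbC K hK hDL (car_red_of_quot hK M L hML hredb)

/-- **Theorem C**: every system normalizer of a finite solvable group lies in a Carter subgroup -/
theorem car_exists [Finite G] [Group.IsSolvable G] (K : Nat.Primes → Subgroup G)
    (hK : IsComplementSystem K) :
    ∃ C : Subgroup G, IsCarterSubgroup C ∧ systemNormalizer K ≤ C := by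
  obtain ⟨C, hC, hDC, -⟩ := car_exists_aux (Nat.card G) G le_rfl K hK
  exact ⟨C, hC, hDC⟩

theorem car_index_conj (g : G) (H : Subgroup G) : (MulAut.conj g • H).index = H.index := by
  rw [Subgroup.pointwise_smul_def]
  exact Subgroup.index_map_of_bijective (MulAction.bijective (MulAut.conj g)) H

theorem car_system_conj {K : Nat.Primes → Subgroup G} (hK : IsComplementSystem K) (g : G) :
    IsComplementSystem (fun p => MulAut.conj g • K p) := by
  intro p
  change (MulAut.conj g • K p).index = _
  rw [car_index_conj]
  exact hK p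

theorem car_sysnorm_conj_le (K : Nat.Primes → Subgroup G) (g : G) :
    systemNormalizer (fun p => MulAut.conj g • K p) ≤ MulAut.conj g • systemNormalizer K := by
  intro x hx
  rw [Cfsg.Agent.Lib.Helper1.mem_conj_smul_iff]
  unfold systemNormalizer
  rw [Subgroup.mem_iInf]
  intro p
  have h1 := Cfsg.Agent.Lib.helper4.systemNormalizer_le_normalizer _ p hx
  rw [Cfsg.Agent.Lib.helper4.mem_normalizer_iff_smul] at h1 ⊢
  have h1' : MulAut.conj x • MulAut.conj g • K p = MulAut.conj g • K p := h1
  have h2 : MulAut.conj (g⁻¹ * x * g) • K p =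
      MulAut.conj g⁻¹ • MulAut.conj x • MulAut.conj g • K p := by
    rw [map_mul, map_mul, mul_smul, mul_smul]
  rw [h2, h1', ← mul_smul, ← map_mul, inv_mul_cancel, map_one, one_smul]

/-- existence of a complement system -/
theorem car_system_exists [Finite G] [Group.IsSolvable G] :
    ∃ K : Nat.Primes → Subgroup G, IsComplementSystem K := by
  have h : ∀ p : Nat.Primes, ∃ H : Subgroup G, H.index = (p : ℕ) ^ (Nat.card G).factorization p :=
    fun p => Cfsg.Agent.Lib.Helper1.exists_pComplement p p.2
  exact ⟨fun p => Classical.choose (h p), fun p => Classical.choose_spec (h p)⟩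

/-- every Carter subgroup contains a system normalizer -/
theorem car_contains_sysnorm [Finite G] [Group.IsSolvable G] {C : Subgroup G}
    (hC : IsCarterSubgroup C) :
    ∃ K : Nat.Primes → Subgroup G, IsComplementSystem K ∧ systemNormalizer K ≤ C := by
  obtain ⟨K₀, hK₀⟩ := car_system_exists (G := G)
  obtain ⟨C₀, hC₀, hD₀⟩ := car_exists K₀ hK₀
  obtain ⟨g, hg⟩ := car_conjugate hC₀ hC
  refine ⟨fun p => MulAut.conj g • K₀ p, car_system_conj hK₀ g, ?_⟩
  refine (car_sysnorm_conj_le K₀ g).trans ?_
  rw [← hg]
  exact Subgroup.pointwise_smul_le_pointwise_smul_iff.mpr hD₀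

end Cfsg.Agent.Lib.helper23
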