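import Mathlib
set_option autoImplicit false

namespace Cfsg.Agent.Lib.helper23
open Subgroup

section general
variable {G : Type*} [Group G]

/-- centralizer of a single element, membership -/
theorem mem_cent_singleton {g m : G} : m ∈ centralizer ({g} : Set G) ↔ g * m = m * g := by
  rw [mem_centralizer_iff]
  constructor
  · intro h; exact h g rfl
  · intro h y hy; rw [Set.mem_singleton_iff.mp hy]; exact h

theorem self_mem_cent (g : G) : g ∈ centralizer ({g} : Set G) := mem_cent_singleton.mpr rfl

/-- the hypothesis of the theorem -/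
def CentMax (G : Type*) [Group G] : Prop :=
  ∀ g : G, g ∉ center G → IsCoatom (centralizer ({g} : Set G))

theorem cent_ne_top_of_not_mem_center {g : G} (hg : g ∉ center G) :
    centralizer ({g} : Set G) ≠ ⊤ := by
  intro h
  apply hg
  rw [mem_center_iff]
  intro m
  have : m ∈ centralizer ({g} : Set G) := h ▸ mem_top m
  exact (mem_cent_singleton.mp this).symm

/-- if `C(x) ≤ C(y)` for noncentral `x`, `y` then equality. -/
theorem cent_eq_of_le (h : CentMax G) {x y : G} (hx : x ∉ center G) (hy : y ∉ center G)
    (hle : centralizer ({x} : Set G) ≤ centralizer ({y} : Set G)) :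
    centralizer ({x} : Set G) = centralizer ({y} : Set G) := by
  rcases (h x hx).le_iff.mp hle with h1 | h1
  · exact absurd h1 (cent_ne_top_of_not_mem_center hy)
  · exact h1.symm

/-- an element commuting with two distinct centralizers (of noncentral elements) is central. -/
theorem mem_center_of_two (h : CentMax G) {x y w : G} (hx : x ∉ center G) (hy : y ∉ center G)
    (hne : centralizer ({x} : Set G) ≠ centralizer ({y} : Set G))
    (h1 : centralizer ({x} : Set G) ≤ centralizer ({w} : Set G))
    (h2 : centralizer ({y} : Set G) ≤ centralizer ({w} : Set G)) : w ∈ center G := by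
  have htop := (h x hx).sup_eq_top_of_ne (h y hy) hne
  have : (⊤ : Subgroup G) ≤ centralizer ({w} : Set G) := htop ▸ sup_le h1 h2
  rw [mem_center_iff]
  intro m
  exact (mem_cent_singleton.mp (this (mem_top m))).symm

theorem mul_not_mem_center (h : CentMax G) {x y : G} (hx : x ∉ center G) (hy : y ∉ center G)
    (hne : centralizer ({x} : Set G) ≠ centralizer ({y} : Set G)) : x * y ∉ center G := by
  intro hxy
  apply hne
  apply cent_eq_of_le h hx hy
  intro m hm
  rw [mem_cent_singleton] at hm ⊢
  -- m commutes with x and with x*y so with y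
  have h1 : (x * y) * m = m * (x * y) := (mem_center_iff.mp hxy m).symm
  have : x * (y * m) = x * (m * y) := by
    calc x * (y * m) = (x * y) * m := by group
      _ = m * (x * y) := h1
      _ = (m * x) * y := by group
      _ = (x * m) * y := by rw [hm]
      _ = x * (m * y) := by group
  exact mul_left_cancel this

/-- Key lemma: commuting noncentral elements with distinct centralizers: `x^n` central implies `y^n` central. -/
theorem pow_mem_center_of_pow (h : CentMax G) {x y : G} (hx : x ∉ center G) (hy : y ∉ center G)
    (hcomm : x * y = y * x)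
    (hne : centralizer ({x} : Set G) ≠ centralizer ({y} : Set G)) (n : ℕ)
    (hn : x ^ n ∈ center G) : y ^ n ∈ center G := by
  have hxy := mul_not_mem_center h hx hy hne
  have hne2 : centralizer ({y} : Set G) ≠ centralizer ({x * y} : Set G) := by
    intro heq
    apply hne
    apply (cent_eq_of_le h hy hx _).symm
    intro m hm
    have hm2 : m ∈ centralizer ({x * y} : Set G) := heq ▸ hm
    rw [mem_cent_singleton] at hm hm2 ⊢
    have : (x * m) * y = (m * x) * y := by
      calc (x * m) * y = x * (m * y) := by group
        _ = x * (y * m) := by rw [hm]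
        _ = (x * y) * m := by group
        _ = m * (x * y) := hm2
        _ = (m * x) * y := by group
    exact mul_right_cancel this
  apply mem_center_of_two h hy hxy hne2
  · intro m hm
    rw [mem_cent_singleton] at hm ⊢
    exact ((Commute.pow_left (show Commute y m from hm) n)).eq
  · intro m hm
    rw [mem_cent_singleton] at hm ⊢
    have h1 : Commute (x * y) m := hm
    have h2 : Commute ((x * y) ^ n) m := h1.pow_left n
    have h3 : (x * y) ^ n = x ^ n * y ^ n := (show Commute x y from hcomm).mul_pow n
    have h4 : Commute (x ^ n) m := (mem_center_iff.mp hn m).symm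
    rw [h3] at h2
    -- y^n = (x^n)⁻¹ * (x^n * y^n)
    have h5 : Commute ((x ^ n)⁻¹ * (x ^ n * y ^ n)) m := (h4.inv_left).mul_left h2
    have h6 : (x ^ n)⁻¹ * (x ^ n * y ^ n) = y ^ n := by group
    rw [h6] at h5
    exact h5.eq


/-- order of `x` modulo the center -/
noncomputable def zord (x : G) : ℕ := orderOf (QuotientGroup.mk x : G ⧸ center G)

theorem pow_mem_center_iff (x : G) (n : ℕ) : x ^ n ∈ center G ↔ zord x ∣ n := by
  unfold zord
  rw [orderOf_dvd_iff_pow_eq_one, ← QuotientGroup.mk_pow, QuotientGroup.eq_one_iff]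

theorem zord_eq_one_iff (x : G) : zord x = 1 ↔ x ∈ center G := by
  unfold zord
  rw [orderOf_eq_one_iff, QuotientGroup.eq_one_iff]

theorem zord_pos [Finite G] (x : G) : 0 < zord x := by
  unfold zord
  exact orderOf_pos _

theorem zord_eq (h : CentMax G) {x y : G} (hx : x ∉ center G) (hy : y ∉ center G)
    (hcomm : x * y = y * x)
    (hne : centralizer ({x} : Set G) ≠ centralizer ({y} : Set G)) : zord x = zord y := by
  apply Nat.dvd_antisymm
  · rw [← pow_mem_center_iff]
    exact pow_mem_center_of_pow h hy hx hcomm.symm hne.symm _ ((pow_mem_center_iff y _).mpr dvd_rfl)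
  · rw [← pow_mem_center_iff]
    exact pow_mem_center_of_pow h hx hy hcomm hne _ ((pow_mem_center_iff x _).mpr dvd_rfl)

theorem zord_pow_of_dvd [Finite G] (x : G) {p : ℕ} (hp : p ∣ zord x) : zord (x ^ p) = zord x / p := by
  unfold zord at *
  rw [QuotientGroup.mk_pow]
  exact orderOf_pow_of_dvd (by
    intro h0; rw [h0, zero_dvd_iff] at hp; exact (orderOf_pos _).ne' hp) hp

theorem zord_prime [Finite G] (h : CentMax G) {x y : G} (hx : x ∉ center G) (hy : y ∉ center G)
    (hcomm : x * y = y * x)
    (hne : centralizer ({x} : Set G) ≠ centralizer ({y} : Set G)) : (zord x).Prime := by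
  have h1 : zord x ≠ 1 := fun h1 => hx ((zord_eq_one_iff x).mp h1)
  set p := (zord x).minFac with hp
  have hpp : p.Prime := Nat.minFac_prime h1
  have hpd : p ∣ zord x := Nat.minFac_dvd _
  by_contra hnp
  have hne' : zord x ≠ p := fun h2 => hnp (h2 ▸ hpp)
  -- x^p is noncentral
  have hxp : x ^ p ∉ center G := by
    intro hc
    rw [pow_mem_center_iff] at hc
    exact hne' (Nat.dvd_antisymm hc hpd)
  have hcle : centralizer ({x} : Set G) ≤ centralizer ({x ^ p} : Set G) := by
    intro m hm
    rw [mem_cent_singleton] at hm ⊢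
    exact ((show Commute x m from hm).pow_left p).eq
  have hceq := cent_eq_of_le h hx hxp hcle
  have hcomm' : x ^ p * y = y * x ^ p := ((show Commute x y from hcomm).pow_left p).eq
  have e1 := zord_eq h hxp hy hcomm' (hceq ▸ hne)
  have e2 := zord_eq h hx hy hcomm hne
  rw [zord_pow_of_dvd x hpd, ← e2] at e1
  -- zord x / p = zord x, impossible
  have hpos := zord_pos x
  have : zord x / p < zord x := Nat.div_lt_self hpos hpp.one_lt
  omega

/-- Type (A): every noncentral element of `C(x)` has the same centralizer. -/
def TA (x : G) : Prop :=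
  ∀ y ∈ centralizer ({x} : Set G), y ∉ center G → centralizer ({y} : Set G) = centralizer ({x} : Set G)

/-- Dichotomy. -/
theorem dichotomy [Finite G] (h : CentMax G) {x : G} (hx : x ∉ center G) :
    TA x ∨ ∃ p : ℕ, p.Prime ∧ ∀ m ∈ centralizer ({x} : Set G), m ^ p ∈ center G := by
  by_cases hTA : TA x
  · exact Or.inl hTA
  · right
    unfold TA at hTA
    push Not at hTA
    obtain ⟨y, hyC, hyZ, hyne⟩ := hTA
    have hcomm : x * y = y * x := mem_cent_singleton.mp hyC
    have hpr := zord_prime h hx hyZ hcomm (Ne.symm hyne)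
    have hxy := zord_eq h hx hyZ hcomm (Ne.symm hyne)
    refine ⟨zord x, hpr, ?_⟩
    intro m hm
    by_cases hmZ : m ∈ center G
    · exact (center G).pow_mem hmZ _
    · have hcm : x * m = m * x := mem_cent_singleton.mp hm
      by_cases hcc : centralizer ({m} : Set G) = centralizer ({x} : Set G)
      · -- then y ∈ C(m), C(m) ≠ C(y)
        have hym : m * y = y * m := by
          have : y ∈ centralizer ({m} : Set G) := hcc ▸ hyC
          exact mem_cent_singleton.mp this
        have := zord_eq h hmZ hyZ hym (by rw [hcc]; exact Ne.symm hyne)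
        rw [pow_mem_center_iff, this, ← hxy]
      · have := zord_eq h hx hmZ hcm (Ne.symm hcc)
        rw [pow_mem_center_iff, this]


theorem TA.comm {x : G} (hTA : TA x) {a b : G} (ha : a ∈ centralizer ({x} : Set G))
    (hb : b ∈ centralizer ({x} : Set G)) : a * b = b * a := by
  by_cases haZ : a ∈ center G
  · exact (mem_center_iff.mp haZ b).symm
  · have := hTA a ha haZ
    have hb' : b ∈ centralizer ({a} : Set G) := this ▸ hb
    exact mem_cent_singleton.mp hb'

theorem cent_solvable [Finite G] (h : CentMax G) {x : G} (hx : x ∉ center G) :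
    Group.IsSolvable (centralizer ({x} : Set G)) := by
  rcases dichotomy h hx with hTA | ⟨p, hp, hpow⟩
  · exact Group.isSolvable_of_comm (fun a b => Subtype.ext (hTA.comm a.2 b.2))
  · have := Fact.mk hp
    set M := centralizer ({x} : Set G) with hM
    let Z' : Subgroup M := (center G).subgroupOf M
    have hZn : Z'.Normal := by
      refine ⟨fun n hn g => ?_⟩
      rw [mem_subgroupOf] at hn ⊢
      have : ((g * n * g⁻¹ : M) : G) = (n : G) := by
        push_cast
        rw [(mem_center_iff.mp hn (g : G)), mul_inv_cancel_right]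
      rw [this]; exact hn
    have hZs : Group.IsSolvable Z' := by
      apply Group.isSolvable_of_comm
      intro a b
      apply Subtype.ext; apply Subtype.ext
      have ha : ((a : M) : G) ∈ center G := mem_subgroupOf.mp a.2
      exact (mem_center_iff.mp ha _).symm
    have hQp : IsPGroup p (M ⧸ Z') := by
      intro q
      obtain ⟨m, rfl⟩ := QuotientGroup.mk_surjective q
      refine ⟨1, ?_⟩
      rw [pow_one, ← QuotientGroup.mk_pow, QuotientGroup.eq_one_iff, mem_subgroupOf]
      push_cast
      exact hpow m m.2
    have hQs : Group.IsSolvable (M ⧸ Z') := by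
      have := hQp.isNilpotent
      infer_instance
    exact Group.isSolvable_of_ker_le_range (Z'.subtype) (QuotientGroup.mk' Z')
      (by rw [QuotientGroup.ker_mk']; intro z hz; exact ⟨⟨z, hz⟩, rfl⟩)

/-- Step 3: if some `C(x)` (x noncentral) is normal, `G` is solvable. -/
theorem solvable_of_normal_cent [Finite G] (h : CentMax G) {x : G} (hx : x ∉ center G)
    (hn : (centralizer ({x} : Set G)).Normal) : Group.IsSolvable G := by
  set M := centralizer ({x} : Set G) with hM
  have hMs : Group.IsSolvable M := cent_solvable h hx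
  have hco : IsCoatom M := h x hx
  obtain ⟨g, hg⟩ : ∃ g : G, g ∉ M := by
    by_contra hcon
    push Not at hcon
    exact hco.1 (eq_top_iff.mpr fun y _ => hcon y)
  have hsup : M ⊔ zpowers g = ⊤ := by
    rcases hco.le_iff.mp (le_sup_left : M ≤ M ⊔ zpowers g) with h1 | h1
    · exact h1
    · exfalso; apply hg
      have h2 : zpowers g ≤ M ⊔ zpowers g := le_sup_right
      rw [h1] at h2
      exact h2 (mem_zpowers g)
  have hQc : ∀ a b : G ⧸ M, a * b = b * a := by
    have hgen : ∀ a : G ⧸ M, a ∈ zpowers (QuotientGroup.mk g : G ⧸ M) := by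
      intro a
      obtain ⟨y, rfl⟩ := QuotientGroup.mk_surjective a
      have hy : y ∈ M ⊔ zpowers g := hsup ▸ mem_top y
      rw [Subgroup.mem_sup_of_normal_left] at hy
      obtain ⟨m, hm, z, hz, rfl⟩ := hy
      obtain ⟨k, rfl⟩ := mem_zpowers_iff.mp hz
      rw [QuotientGroup.mk_mul, (QuotientGroup.eq_one_iff m).mpr hm, one_mul, QuotientGroup.mk_zpow]
      exact zpow_mem (mem_zpowers _) k
    intro a b
    obtain ⟨i, rfl⟩ := mem_zpowers_iff.mp (hgen a)
    obtain ⟨j, rfl⟩ := mem_zpowers_iff.mp (hgen b)
    rw [← zpow_add, ← zpow_add, add_comm]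
  have hQs : Group.IsSolvable (G ⧸ M) := Group.isSolvable_of_comm hQc
  exact Group.isSolvable_of_ker_le_range (M.subtype) (QuotientGroup.mk' M)
    (by rw [QuotientGroup.ker_mk']; intro z hz; exact ⟨⟨z, hz⟩, rfl⟩)

end general
end Cfsg.Agent.Lib.helper23
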