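import Mathlib
import Cfsg.Agent.Lib.helper23.CentMax
import Cfsg.Agent.Lib.helper23.SylowBasic
set_option autoImplicit false

namespace Cfsg.Agent.Lib.helper23
open Subgroup

section centerless
variable {G : Type*} [Group G]

/-- hypotheses of the centerless case -/
structure CLHyp (G : Type*) [Group G] : Prop where
  coatom : ∀ g : G, g ≠ 1 → IsCoatom (centralizer ({g} : Set G))
  notNormal : ∀ g : G, g ≠ 1 → ¬ (centralizer ({g} : Set G)).Normal

theorem CLHyp.center_eq_bot (H : CLHyp G) : center G = ⊥ := by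
  rw [eq_bot_iff]
  intro c hc
  rw [mem_bot]
  by_contra hc1
  apply (H.coatom c hc1).1
  rw [eq_top_iff]
  intro m _
  rw [mem_cent_singleton]
  exact (mem_center_iff.mp hc m).symm

theorem CLHyp.not_mem_center_iff (H : CLHyp G) {g : G} : g ∉ center G ↔ g ≠ 1 := by
  rw [H.center_eq_bot, mem_bot]

theorem CLHyp.centMax (H : CLHyp G) : CentMax G := fun g hg =>
  H.coatom g (H.not_mem_center_iff.mp hg)

theorem CLHyp.normalizer_eq (H : CLHyp G) {g : G} (hg : g ≠ 1) :
    normalizer ((centralizer ({g} : Set G) : Subgroup G) : Set G) = centralizer ({g} : Set G) := by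
  rcases (H.coatom g hg).le_iff.mp (le_normalizer : centralizer ({g} : Set G) ≤ normalizer _) with h1 | h1
  · exfalso
    apply H.notNormal g hg
    exact normalizer_eq_top_iff.mp h1
  · exact h1

/-- conjugation and centralizers: `m ∈ C(z) ↔ g m g⁻¹ ∈ C(g z g⁻¹)` -/
theorem conj_mem_cent_conj_iff (g z m : G) :
    g * m * g⁻¹ ∈ centralizer ({g * z * g⁻¹} : Set G) ↔ m ∈ centralizer ({z} : Set G) := by
  rw [mem_cent_singleton, mem_cent_singleton]
  constructor
  · intro h
    have : g * (z * m) * g⁻¹ = g * (m * z) * g⁻¹ := by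
      calc g * (z * m) * g⁻¹ = (g * z * g⁻¹) * (g * m * g⁻¹) := by group
        _ = (g * m * g⁻¹) * (g * z * g⁻¹) := h
        _ = g * (m * z) * g⁻¹ := by group
    exact mul_left_cancel (mul_right_cancel this)
  · intro h
    calc (g * z * g⁻¹) * (g * m * g⁻¹) = g * (z * m) * g⁻¹ := by group
      _ = g * (m * z) * g⁻¹ := by rw [h]
      _ = (g * m * g⁻¹) * (g * z * g⁻¹) := by group

theorem burnside_of_TA [Finite G] (H : CLHyp G) (w : G) (hw1 : w ≠ 1) (q : ℕ) [Fact q.Prime]
    (hq : orderOf w = q) (hTA : TA w) :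
    ∃ K : Subgroup G, K.Normal ∧ w ∉ K ∧ ¬ q ∣ Nat.card K ∧ (∃ k, K.index = q ^ k) ∧
      ∃ Q : Sylow q G, (Q : Subgroup G) ≤ centralizer ({w} : Set G) := by
  classical
  set M := centralizer ({w} : Set G) with hM
  obtain ⟨Q, hQ⟩ := (isPGroup_zpowers_of_orderOf (p := q) (x := w) (k := 1) (by rw [hq, pow_one])).exists_le_sylow
  have hwQ : w ∈ (Q : Subgroup G) := hQ (mem_zpowers w)
  haveI : Nontrivial (Q : Subgroup G) := ⟨⟨⟨w, hwQ⟩, 1, fun h => hw1 (congrArg Subtype.val h)⟩⟩
  haveI := Q.isPGroup'.center_nontrivial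
  obtain ⟨z, hz1⟩ := exists_ne (1 : center (Q : Subgroup G))
  have hzc : ∀ m : (Q : Subgroup G), m * (z : (Q : Subgroup G)) = (z : (Q : Subgroup G)) * m :=
    fun m => mem_center_iff.mp z.2 m
  set z0 : G := ((z : (Q : Subgroup G)) : G) with hz0
  have hz01 : z0 ≠ 1 := by
    intro h0
    apply hz1
    apply Subtype.ext; apply Subtype.ext
    exact h0
  have hzcomm : ∀ m ∈ (Q : Subgroup G), m * z0 = z0 * m := by
    intro m hm
    have := congrArg Subtype.val (hzc ⟨m, hm⟩)
    exact this
  have hz0M : z0 ∈ M := by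
    rw [hM, mem_cent_singleton]
    exact hzcomm w hwQ
  have hCz : centralizer ({z0} : Set G) = M := hTA z0 hz0M (H.not_mem_center_iff.mpr hz01)
  have hQM : (Q : Subgroup G) ≤ M := by
    intro m hm
    rw [← hCz, mem_cent_singleton]
    exact (hzcomm m hm).symm
  have hNC : normalizer (Q : Set G) ≤ centralizer (Q : Set G) := by
    intro g hg
    -- g z0 g⁻¹ ∈ Q
    have hz0Q : z0 ∈ (Q : Subgroup G) := (z : (Q : Subgroup G)).2
    have hconjQ : g * z0 * g⁻¹ ∈ (Q : Subgroup G) := (mem_normalizer_iff.mp hg z0).mp hz0Q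
    have hconj1 : g * z0 * g⁻¹ ≠ 1 := by
      intro h0
      apply hz01
      have : z0 = g⁻¹ * (g * z0 * g⁻¹) * g := by group
      rw [this, h0]; group
    have hCz' : centralizer ({g * z0 * g⁻¹} : Set G) = M :=
      hTA _ (hQM hconjQ) (H.not_mem_center_iff.mpr hconj1)
    have hgN : g ∈ normalizer ((M : Subgroup G) : Set G) := by
      rw [mem_normalizer_iff]
      intro m
      constructor
      · intro hm
        have : m ∈ centralizer ({z0} : Set G) := hCz ▸ hm
        have := (conj_mem_cent_conj_iff g z0 m).mpr this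
        rw [hCz'] at this
        exact this
      · intro hm
        have : g * m * g⁻¹ ∈ centralizer ({g * z0 * g⁻¹} : Set G) := hCz' ▸ hm
        have := (conj_mem_cent_conj_iff g z0 m).mp this
        rw [hCz] at this
        exact this
    have hgM : g ∈ M := by
      have := H.normalizer_eq hw1
      rw [← hM] at this
      rw [this] at hgN
      exact hgN
    rw [mem_centralizer_iff]
    intro m hm
    exact hTA.comm (hQM hm) hgM
  have hcomp := MonoidHom.ker_transferSylow_isComplement' Q hNC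
  refine ⟨(MonoidHom.transferSylow Q hNC).ker, inferInstance, ?_, ?_, ?_, Q, hQM⟩
  · intro hwK
    have hdis := hcomp.disjoint
    have : w ∈ (MonoidHom.transferSylow Q hNC).ker ⊓ (Q : Subgroup G) := ⟨hwK, hwQ⟩
    rw [hdis.eq_bot, mem_bot] at this
    exact hw1 this
  · exact MonoidHom.not_dvd_card_ker_transferSylow Q hNC
  · have h1 := hcomp.symm.index_eq_card
    obtain ⟨k, hk⟩ := (IsPGroup.iff_card.mp Q.isPGroup')
    exact ⟨k, by rw [h1]; exact hk⟩


theorem exists_prime_order_pow [Finite G] (w : G) (hw : w ≠ 1) :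
    ∃ (q : ℕ) (j : ℕ), q.Prime ∧ orderOf (w ^ j) = q := by
  have h1 : orderOf w ≠ 1 := fun h => hw (orderOf_eq_one_iff.mp h)
  refine ⟨(orderOf w).minFac, orderOf w / (orderOf w).minFac, Nat.minFac_prime h1, ?_⟩
  exact orderOf_pow_orderOf_div (orderOf_pos w).ne' (Nat.minFac_dvd _)

theorem case1_aux [Finite G] (H : CLHyp G) : ∀ (n : ℕ) (N : Subgroup G), Nat.card N = n → N.Normal → N ≠ ⊥ →
    (∀ w ∈ N, w ≠ 1 → TA w) → False := by
  intro n
  induction n using Nat.strong_induction_on with
  | _ n ih =>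
    intro N hcard hNn hN hTA
    obtain ⟨w, hw1⟩ := (Subgroup.ne_bot_iff_exists_ne_one.mp hN)
    rcases w with ⟨w, hwN'⟩
    have hw1' : w ≠ 1 := fun h => hw1 (Subtype.ext h)
    obtain ⟨q, j, hq, hj⟩ := exists_prime_order_pow w hw1'
    haveI := Fact.mk hq
    set w1 := w ^ j with hw1def
    have hw1N : w1 ∈ N := N.pow_mem hwN' j
    have hw11 : w1 ≠ 1 := by
      intro h0
      rw [h0, orderOf_one] at hj
      exact hq.one_lt.ne hj
    have hTA1 := hTA w1 hw1N hw11
    obtain ⟨K, hKn, hwK, hqK, ⟨k, hk⟩, Q, hQM⟩ := burnside_of_TA H w1 hw11 q hj hTA1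
    haveI := hKn
    haveI := hNn
    by_cases hNK : N ⊓ K = ⊥
    · -- N is a q-group
      have hNq : IsPGroup q N := by
        intro m
        refine ⟨k, ?_⟩
        have h1 : ((m : G)) ^ (q ^ k) ∈ K := hk ▸ K.pow_index_mem (m : G)
        have h2 : ((m : G)) ^ (q ^ k) ∈ N := N.pow_mem m.2 _
        have h3 : ((m : G)) ^ (q ^ k) ∈ N ⊓ K := ⟨h2, h1⟩
        rw [hNK, mem_bot] at h3
        exact Subtype.ext (by push_cast; exact h3)
      have hNQ : N ≤ (Q : Subgroup G) := hNq.le_sylow_of_normal Q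
      have hNM : N ≤ centralizer ({w1} : Set G) := hNQ.trans hQM
      have hceq : centralizer ((N : Subgroup G) : Set G) = centralizer ({w1} : Set G) := by
        apply le_antisymm
        · intro m hm
          rw [mem_cent_singleton]
          exact (mem_centralizer_iff.mp hm w1 hw1N)
        · intro m hm
          rw [mem_centralizer_iff]
          intro y hy
          exact hTA1.comm (hNM hy) hm
      apply H.notNormal w1 hw11
      rw [← hceq]
      infer_instance
    · have hlt : Nat.card (N ⊓ K : Subgroup G) < n := by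
        rw [← hcard]
        have hle : N ⊓ K ≤ N := inf_le_left
        have hne : N ⊓ K ≠ N := by
          intro heq
          apply hwK
          have h5 : w1 ∈ N ⊓ K := by rw [heq]; exact hw1N
          exact h5.2
        by_contra hge
        push Not at hge
        exact hne (Subgroup.eq_of_le_of_card_ge hle hge)
      exact ih _ hlt (N ⊓ K) rfl inferInstance hNK (fun y hy hy1 => hTA y hy.1 hy1)


theorem case1 [Finite G] [Nontrivial G] (H : CLHyp G) (x : G) (hx : x ≠ 1) (hTA : TA x) : False := by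
  obtain ⟨r, j, hr, hj⟩ := exists_prime_order_pow x hx
  haveI := Fact.mk hr
  set w0 := x ^ j with hw0
  have hw01 : w0 ≠ 1 := by
    intro h0
    rw [h0, orderOf_one] at hj
    exact hr.one_lt.ne hj
  have hw0C : w0 ∈ centralizer ({x} : Set G) := (centralizer ({x} : Set G)).pow_mem (self_mem_cent x) j
  have hCw0 : centralizer ({w0} : Set G) = centralizer ({x} : Set G) :=
    hTA w0 hw0C (H.not_mem_center_iff.mpr hw01)
  have hTA0 : TA w0 := by
    intro y hy hyZ
    rw [hCw0] at hy ⊢
    exact hTA y hy hyZ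
  obtain ⟨K, hKn, hwK, hrK, ⟨k, hk⟩, Q, hQM⟩ := burnside_of_TA H w0 hw01 r hj hTA0
  haveI := hKn
  have hKbot : K ≠ ⊥ := by
    intro hb
    rw [hb, Subgroup.index_bot] at hk
    have hp : IsPGroup r G := IsPGroup.of_card hk
    have := hp.center_nontrivial
    rw [H.center_eq_bot] at this
    exact not_nontrivial _ this
  have hKtop : K ≠ ⊤ := fun ht => hwK (ht ▸ mem_top w0)
  refine case1_aux H _ K rfl hKn hKbot ?_
  intro w hwK' hw1
  rcases dichotomy H.centMax (H.not_mem_center_iff.mpr hw1) with hT | ⟨p, hp, hpow⟩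
  · exact hT
  · exfalso
    haveI := Fact.mk hp
    have hpow' : ∀ m ∈ centralizer ({w} : Set G), m ^ p = 1 := by
      intro m hm
      have := hpow m hm
      rwa [H.center_eq_bot, mem_bot] at this
    have hwo : orderOf w = p := orderOf_eq_prime (hpow' w (self_mem_cent w)) hw1
    have hpK : p ∣ Nat.card K := by
      have : orderOf (⟨w, hwK'⟩ : K) = p := by
        rw [← hwo]; exact Subgroup.orderOf_mk w hwK'
      rw [← this]
      exact orderOf_dvd_natCard _
    have hpr : p ≠ r := fun h => hrK (h ▸ hpK)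
    have hcop : Nat.Coprime p (r ^ k) := Nat.Coprime.pow_right k ((Nat.coprime_primes hp hr).mpr hpr)
    have hle : centralizer ({w} : Set G) ≤ K := by
      intro m hm
      have h1 : (QuotientGroup.mk m : G ⧸ K) ^ p = 1 := by
        rw [← QuotientGroup.mk_pow, hpow' m hm, QuotientGroup.mk_one]
      have h2 : (QuotientGroup.mk m : G ⧸ K) ^ (r ^ k) = 1 := by
        rw [← QuotientGroup.mk_pow, QuotientGroup.eq_one_iff, ← hk]
        exact K.pow_index_mem m
      have h3 : orderOf (QuotientGroup.mk m : G ⧸ K) ∣ Nat.gcd p (r ^ k) :=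
        Nat.dvd_gcd (orderOf_dvd_of_pow_eq_one h1) (orderOf_dvd_of_pow_eq_one h2)
      rw [hcop.gcd_eq_one, Nat.dvd_one, orderOf_eq_one_iff, QuotientGroup.eq_one_iff] at h3
      exact h3
    rcases (H.coatom w hw1).le_iff.mp hle with h1 | h1
    · exact hKtop h1
    · apply H.notNormal w hw1
      rw [← h1]; exact hKn

end centerless
end Cfsg.Agent.Lib.helper23
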