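import Mathlib
import Cfsg.Agent.Lib.helper23.CentMax2
set_option autoImplicit false

namespace Cfsg.Agent.Lib.helper23
open Subgroup

theorem card_center_mul_sq_le {P : Type*} [Group P] [Finite P] {p : ℕ} [Fact p.Prime]
    (hP : IsPGroup p P) (hne : center P ≠ ⊤) : Nat.card (center P) * p ^ 2 ≤ Nat.card P := by
  obtain ⟨c, hc⟩ := hP.index (center P)
  have hp : p.Prime := Fact.out
  have hc0 : c ≠ 0 := by
    intro h0
    rw [h0, pow_zero, Subgroup.index_eq_one] at hc
    exact hne hc
  have hc1 : c ≠ 1 := by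
    intro h1
    rw [h1, pow_one] at hc
    have hcard : Nat.card (P ⧸ center P) = p := by rw [← hc]; rfl
    haveI : IsCyclic (P ⧸ center P) := isCyclic_of_prime_card hcard
    apply hne
    rw [eq_top_iff]
    intro a _
    rw [mem_center_iff]
    intro b
    exact commutative_of_cyclic_center_quotient (QuotientGroup.mk' (center P))
      (by rw [QuotientGroup.ker_mk']) b a
  have hc2 : 2 ≤ c := by omega
  have hdvd : p ^ 2 ∣ (center P).index := by rw [hc]; exact pow_dvd_pow p hc2
  have hle : p ^ 2 ≤ (center P).index := Nat.le_of_dvd (by rw [hc]; exact pow_pos hp.pos c) hdvd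
  calc Nat.card (center P) * p ^ 2 ≤ Nat.card (center P) * (center P).index :=
        Nat.mul_le_mul_left _ hle
    _ = Nat.card P := Subgroup.card_mul_index _

/-- sum of reciprocal squares over integers ≥ 3 -/
theorem sum_Icc_inv_sq_le (N : ℕ) (hN : 2 ≤ N) :
    ∑ j ∈ Finset.Icc 3 N, (1 : ℝ) / (j : ℝ) ^ 2 ≤ 1 / 2 - 1 / (N : ℝ) := by
  induction N, hN using Nat.le_induction with
  | base => norm_num
  | succ N hN ih =>
    rw [Finset.sum_Icc_succ_top (by omega)]
    have hNpos : (0 : ℝ) < (N : ℝ) := by exact_mod_cast (by omega : 0 < N)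
    have h1 : (1 : ℝ) / ((N + 1 : ℕ) : ℝ) ^ 2 ≤ 1 / (N : ℝ) - 1 / ((N + 1 : ℕ) : ℝ) := by
      push_cast
      rw [div_sub_div _ _ hNpos.ne' (by positivity), div_le_div_iff₀ (by positivity) (by positivity)]
      nlinarith
    linarith

theorem sum_inv_sq_le_half (S : Finset ℕ) (hS : ∀ j ∈ S, 3 ≤ j) :
    ∑ j ∈ S, (1 : ℝ) / (j : ℝ) ^ 2 ≤ 1 / 2 := by
  set N := S.sup id + 2 with hN
  have hsub : S ⊆ Finset.Icc 3 N := by
    intro j hj
    rw [Finset.mem_Icc]
    refine ⟨hS j hj, ?_⟩
    have : j ≤ S.sup id := Finset.le_sup (f := id) hj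
    omega
  have h1 : ∑ j ∈ S, (1 : ℝ) / (j : ℝ) ^ 2 ≤ ∑ j ∈ Finset.Icc 3 N, (1 : ℝ) / (j : ℝ) ^ 2 :=
    Finset.sum_le_sum_of_subset_of_nonneg hsub (fun _ _ _ => by positivity)
  have h2 := sum_Icc_inv_sq_le N (by omega)
  have h3 : (0 : ℝ) ≤ 1 / (N : ℝ) := by positivity
  linarith


section case2
variable {G : Type*} [Group G]

/-- data available for a nonidentity element whose centralizer is not of type (A) -/
theorem case2_prime [Finite G] (H : CLHyp G) {x : G} (hx : x ≠ 1) (hT : ¬ TA x) :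
    (orderOf x).Prime ∧ ∀ m ∈ centralizer ({x} : Set G), m ^ orderOf x = 1 := by
  rcases dichotomy H.centMax (H.not_mem_center_iff.mpr hx) with hT' | ⟨p, hp, hpow⟩
  · exact absurd hT' hT
  · haveI := Fact.mk hp
    have hpow' : ∀ m ∈ centralizer ({x} : Set G), m ^ p = 1 := by
      intro m hm
      have := hpow m hm
      rwa [H.center_eq_bot, mem_bot] at this
    have hwo : orderOf x = p := orderOf_eq_prime (hpow' x (self_mem_cent x)) hx
    rw [hwo]
    exact ⟨hp, hpow'⟩

theorem case2_ne_two [Finite G] (H : CLHyp G) {x : G} (hx : x ≠ 1) (hT : ¬ TA x) :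
    3 ≤ orderOf x := by
  obtain ⟨hp, hpow⟩ := case2_prime H hx hT
  have h2 : orderOf x ≠ 2 := by
    intro h2
    rw [h2] at hpow
    apply hT
    -- C(x) is abelian
    have hcomm : ∀ a ∈ centralizer ({x} : Set G), ∀ b ∈ centralizer ({x} : Set G), a * b = b * a := by
      intro a ha b hb
      have ha2 : a * a = 1 := by rw [← pow_two]; exact hpow a ha
      have hb2 : b * b = 1 := by rw [← pow_two]; exact hpow b hb
      have hab2 : (a * b) * (a * b) = 1 := by
        rw [← pow_two]; exact hpow _ ((centralizer ({x} : Set G)).mul_mem ha hb)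
      have hai : a⁻¹ = a := inv_eq_of_mul_eq_one_right ha2
      have hbi : b⁻¹ = b := inv_eq_of_mul_eq_one_right hb2
      have habi : (a * b)⁻¹ = a * b := inv_eq_of_mul_eq_one_right hab2
      rw [← habi, mul_inv_rev, hai, hbi]
    intro y hy hyZ
    symm
    apply cent_eq_of_le H.centMax (H.not_mem_center_iff.mpr hx) hyZ
    intro m hm
    rw [mem_cent_singleton]
    exact hcomm y hy m hm
  have := hp.two_le
  omega


theorem case2_isPGroup [Finite G] (H : CLHyp G) {x : G} (hx : x ≠ 1) (hT : ¬ TA x) :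
    IsPGroup (orderOf x) (centralizer ({x} : Set G)) := by
  obtain ⟨hp, hpow⟩ := case2_prime H hx hT
  intro m
  refine ⟨1, ?_⟩
  rw [pow_one]
  apply Subtype.ext
  push_cast
  exact hpow m m.2

theorem case2_sylow [Finite G] [Nontrivial G] (H : CLHyp G) {x : G} (hx : x ≠ 1) (hT : ¬ TA x) :
    ∃ P : Sylow (orderOf x) G, (P : Subgroup G) = centralizer ({x} : Set G) := by
  obtain ⟨hp, hpow⟩ := case2_prime H hx hT
  haveI := Fact.mk hp
  obtain ⟨Q, hQ⟩ := (case2_isPGroup H hx hT).exists_le_sylow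
  refine ⟨Q, ?_⟩
  rcases (H.coatom x hx).le_iff.mp hQ with h1 | h1
  · exfalso
    have hG : IsPGroup (orderOf x) G := by
      have := Q.isPGroup'
      rw [h1] at this
      exact this.of_equiv Subgroup.topEquiv
    have := hG.center_nontrivial
    rw [H.center_eq_bot] at this
    exact not_nontrivial _ this
  · exact h1

theorem case2_center [Finite G] (H : CLHyp G) {x : G} (hx : x ≠ 1) (hT : ¬ TA x) :
    Nat.card (center (centralizer ({x} : Set G))) * (orderOf x) ^ 2
      ≤ Nat.card (centralizer ({x} : Set G)) := by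
  obtain ⟨hp, hpow⟩ := case2_prime H hx hT
  haveI := Fact.mk hp
  apply card_center_mul_sq_le (case2_isPGroup H hx hT)
  intro htop
  unfold TA at hT
  push Not at hT
  obtain ⟨y, hyC, hyZ, hyne⟩ := hT
  apply hyne
  symm
  apply cent_eq_of_le H.centMax (H.not_mem_center_iff.mpr hx) hyZ
  intro m hm
  rw [mem_cent_singleton]
  have hy : (⟨y, hyC⟩ : centralizer ({x} : Set G)) ∈ center (centralizer ({x} : Set G)) :=
    htop ▸ mem_top _
  have := mem_center_iff.mp hy ⟨m, hm⟩
  have := congrArg Subtype.val this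
  exact this.symm


theorem case2_sylow' [Finite G] [Nontrivial G] (H : CLHyp G) (hall : ∀ x : G, x ≠ 1 → ¬ TA x)
    {p : ℕ} {x : G} (hxp : orderOf x = p) (hx : x ≠ 1) :
    ∃ P : Sylow p G, (P : Subgroup G) = centralizer ({x} : Set G) := by
  subst hxp
  exact case2_sylow H hx (hall x hx)

theorem case2_count [Finite G] [Nontrivial G] (H : CLHyp G) (hall : ∀ x : G, x ≠ 1 → ¬ TA x)
    (p : ℕ) (hp : p.Prime) : {x : G | orderOf x = p}.ncard * p ^ 2 ≤ Nat.card G := by
  classical
  by_cases hemp : {x : G | orderOf x = p} = ∅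
  · rw [hemp, Set.ncard_empty, zero_mul]; exact Nat.zero_le _
  obtain ⟨x0, hx0⟩ := Set.nonempty_iff_ne_empty.mpr hemp
  have hx0p : orderOf x0 = p := hx0
  have hne1 : ∀ x : G, orderOf x = p → x ≠ 1 := by
    intro x hxp h1
    rw [h1, orderOf_one] at hxp
    exact hp.one_lt.ne hxp
  have hx01 : x0 ≠ 1 := hne1 x0 hx0p
  haveI := Fact.mk hp
  set P := centralizer ({x0} : Set G) with hP
  obtain ⟨PS, hPS⟩ := case2_sylow' H hall hx0p hx01
  let f : (G ⧸ P) × center P → G := fun a => a.1.out * ((a.2 : P) : G) * a.1.out⁻¹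
  have hsub : {x : G | orderOf x = p} ⊆ Set.range f := by
    intro x hx
    have hxp : orderOf x = p := hx
    have hx1 : x ≠ 1 := hne1 x hxp
    obtain ⟨QS, hQS⟩ := case2_sylow' H hall hxp hx1
    obtain ⟨g, hg⟩ := MulAction.exists_smul_eq G PS QS
    -- C(x) = g P g⁻¹
    have hmem : ∀ y : G, y ∈ centralizer ({x} : Set G) ↔ g⁻¹ * y * g ∈ P := by
      intro y
      rw [← hQS, ← hg, mem_smul_sylow_iff, hPS]
    obtain ⟨h, hh⟩ := QuotientGroup.mk_out_eq_mul P g
    set t := (QuotientGroup.mk g : G ⧸ P).out with ht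
    have hmem' : ∀ y : G, y ∈ centralizer ({x} : Set G) ↔ t⁻¹ * y * t ∈ P := by
      intro y
      rw [hmem y, hh]
      have : (g * (h : G))⁻¹ * y * (g * (h : G)) = (h : G)⁻¹ * (g⁻¹ * y * g) * (h : G) := by group
      rw [this]
      constructor
      · intro h1
        exact P.mul_mem (P.mul_mem (P.inv_mem h.2) h1) h.2
      · intro h1
        have h2 := P.mul_mem (P.mul_mem h.2 h1) (P.inv_mem h.2)
        have : (h : G) * ((h : G)⁻¹ * (g⁻¹ * y * g) * (h : G)) * (h : G)⁻¹ = g⁻¹ * y * g := by group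
        rwa [this] at h2
    have hzP : t⁻¹ * x * t ∈ P := (hmem' x).mp (self_mem_cent x)
    have hzc : (⟨t⁻¹ * x * t, hzP⟩ : P) ∈ center P := by
      rw [mem_center_iff]
      intro m
      apply Subtype.ext
      push_cast
      -- x commutes with t m t⁻¹
      have h1 : t * (m : G) * t⁻¹ ∈ centralizer ({x} : Set G) := by
        rw [hmem']
        have : t⁻¹ * (t * (m : G) * t⁻¹) * t = (m : G) := by group
        rw [this]; exact m.2
      rw [mem_cent_singleton] at h1
      calc (m : G) * (t⁻¹ * x * t) = t⁻¹ * ((t * (m : G) * t⁻¹) * x) * t := by group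
        _ = t⁻¹ * (x * (t * (m : G) * t⁻¹)) * t := by rw [h1]
        _ = (t⁻¹ * x * t) * (m : G) := by group
    refine ⟨(QuotientGroup.mk g, ⟨⟨t⁻¹ * x * t, hzP⟩, hzc⟩), ?_⟩
    show t * (t⁻¹ * x * t) * t⁻¹ = x
    group
  have hfin : (Set.range f).Finite := Set.toFinite _
  have h1 : {x : G | orderOf x = p}.ncard ≤ (Set.range f).ncard := Set.ncard_le_ncard hsub hfin
  have h2 : (Set.range f).ncard ≤ Nat.card ((G ⧸ P) × center P) := by
    rw [← Set.image_univ, ← Set.ncard_univ]
    exact Set.ncard_image_le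
  have h3 : Nat.card ((G ⧸ P) × center P) = P.index * Nat.card (center P) := by
    rw [Nat.card_prod]; rfl
  have h4 : Nat.card (center P) * p ^ 2 ≤ Nat.card P := by
    have := case2_center H hx01 (hall x0 hx01)
    rw [hx0p] at this
    exact this
  calc {x : G | orderOf x = p}.ncard * p ^ 2 ≤ (P.index * Nat.card (center P)) * p ^ 2 := by
        apply Nat.mul_le_mul_right
        exact h1.trans (h2.trans h3.le)
    _ = P.index * (Nat.card (center P) * p ^ 2) := by ring
    _ ≤ P.index * Nat.card P := Nat.mul_le_mul_left _ h4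
    _ = Nat.card G := Subgroup.index_mul_card P


theorem case2 [Finite G] [Nontrivial G] (H : CLHyp G) (hall : ∀ x : G, x ≠ 1 → ¬ TA x) : False := by
  classical
  haveI : Fintype G := Fintype.ofFinite G
  set n := Nat.card G with hn
  have hnpos : 0 < n := Nat.card_pos
  -- every nonidentity element has prime order ≥ 3 dividing n
  have hord : ∀ x : G, x ≠ 1 → orderOf x ∈ n.primeFactors ∧ 3 ≤ orderOf x := by
    intro x hx
    refine ⟨?_, case2_ne_two H hx (hall x hx)⟩
    rw [Nat.mem_primeFactors]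
    exact ⟨(case2_prime H hx (hall x hx)).1, orderOf_dvd_natCard x, hnpos.ne'⟩
  let S : ℕ → Finset G := fun p => Finset.univ.filter (fun x => orderOf x = p)
  have hS : ∀ p, p.Prime → (S p).card * p ^ 2 ≤ n := by
    intro p hp
    have := case2_count H hall p hp
    have h2 : {x : G | orderOf x = p}.ncard = (S p).card := by
      rw [← Set.ncard_coe_finset]
      congr 1
      ext x
      simp [S]
    rwa [h2] at this
  have hcover : (Finset.univ : Finset G) ⊆ insert 1 (n.primeFactors.biUnion S) := by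
    intro x _
    by_cases hx : x = 1
    · rw [hx]; exact Finset.mem_insert_self _ _
    · apply Finset.mem_insert_of_mem
      rw [Finset.mem_biUnion]
      exact ⟨orderOf x, (hord x hx).1, by simp [S]⟩
  have hcard : n ≤ 1 + ∑ p ∈ n.primeFactors, (S p).card := by
    have h1 : n = (Finset.univ : Finset G).card := by
      rw [hn, Nat.card_eq_fintype_card]; rfl
    calc n = (Finset.univ : Finset G).card := h1
      _ ≤ (insert 1 (n.primeFactors.biUnion S)).card :=
          Finset.card_le_card hcover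
      _ ≤ (n.primeFactors.biUnion S).card + 1 := Finset.card_insert_le _ _
      _ ≤ (∑ p ∈ n.primeFactors, (S p).card) + 1 := Nat.add_le_add_right Finset.card_biUnion_le 1
      _ = 1 + ∑ p ∈ n.primeFactors, (S p).card := by ring
  -- primes dividing n with S p nonempty are ≥ 3; restrict to those
  let T : Finset ℕ := n.primeFactors.filter (fun p => 3 ≤ p)
  have hsum_eq : ∑ p ∈ n.primeFactors, (S p).card = ∑ p ∈ T, (S p).card := by
    symm
    apply Finset.sum_subset (Finset.filter_subset _ _)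
    intro p hp hpT
    rw [Finset.card_eq_zero, Finset.eq_empty_iff_forall_notMem]
    intro x hx
    have hxp : orderOf x = p := by simpa [S] using hx
    have hx1 : x ≠ 1 := by
      intro h1
      rw [h1, orderOf_one] at hxp
      exact (Nat.prime_of_mem_primeFactors hp).one_lt.ne hxp
    apply hpT
    rw [Finset.mem_filter]
    exact ⟨hp, hxp ▸ (hord x hx1).2⟩
  have hreal : (n : ℝ) ≤ 1 + (n : ℝ) * ∑ p ∈ T, (1 : ℝ) / (p : ℝ) ^ 2 := by
    have h1 : (n : ℝ) ≤ 1 + ∑ p ∈ T, ((S p).card : ℝ) := by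
      rw [hsum_eq] at hcard
      exact_mod_cast hcard
    have h2 : ∑ p ∈ T, ((S p).card : ℝ) ≤ ∑ p ∈ T, (n : ℝ) * ((1 : ℝ) / (p : ℝ) ^ 2) := by
      apply Finset.sum_le_sum
      intro p hp
      have hpp : p.Prime := Nat.prime_of_mem_primeFactors (Finset.mem_filter.mp hp).1
      have hppos : (0 : ℝ) < (p : ℝ) ^ 2 := by
        have : (0 : ℝ) < (p : ℝ) := by exact_mod_cast hpp.pos
        positivity
      have h3 : ((S p).card : ℝ) * (p : ℝ) ^ 2 ≤ (n : ℝ) := by exact_mod_cast hS p hpp
      rw [mul_one_div, le_div_iff₀ hppos]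
      exact h3
    rw [← Finset.mul_sum] at h2
    linarith
  have hhalf : ∑ p ∈ T, (1 : ℝ) / (p : ℝ) ^ 2 ≤ 1 / 2 :=
    sum_inv_sq_le_half T (fun j hj => (Finset.mem_filter.mp hj).2)
  have hn2 : (n : ℝ) ≤ 2 := by
    have hnr : (0 : ℝ) ≤ (n : ℝ) := by positivity
    nlinarith
  -- but n ≥ 9
  obtain ⟨x, hx⟩ := exists_ne (1 : G)
  have h3 := (hord x hx).2
  have hpp : (orderOf x).Prime := (case2_prime H hx (hall x hx)).1
  have h9 := hS (orderOf x) hpp
  have hpos : 1 ≤ (S (orderOf x)).card := by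
    rw [Nat.one_le_iff_ne_zero, Finset.card_ne_zero]
    exact ⟨x, by simp [S]⟩
  have hn2' : n ≤ 2 := by exact_mod_cast hn2
  nlinarith

end case2

/-- The centerless theorem. -/
theorem centerless_false {G : Type*} [Group G] [Finite G] [Nontrivial G] (H : CLHyp G) : False := by
  by_cases h : ∃ x : G, x ≠ 1 ∧ TA x
  · obtain ⟨x, hx, hT⟩ := h
    exact case1 H x hx hT
  · push Not at h
    exact case2 H h

end Cfsg.Agent.Lib.helper23
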