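import Mathlib
import Cfsg.Agent.Lib.helper23.CentMax3
import Cfsg.Agent.S4262
import Cfsg.Agent.Lib.Helper1.MinNormal
import Cfsg.Agent.Lib.Helper1.Hall

set_option autoImplicit false

namespace Cfsg.Agent.Lib.helper23

open Subgroup

section cm4

variable {G : Type*} [Group G]

/-- In a non-abelian finite group all of whose noncentral centralizers are maximal, some
noncentral element has a normal centralizer. -/
theorem exists_normal_cent [Finite G] (h : CentMax G) (hab : center G ≠ ⊤) :
    ∃ x : G, x ∉ center G ∧ (centralizer ({x} : Set G)).Normal := by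
  by_contra hn
  push Not at hn
  obtain ⟨g0, hg0⟩ : ∃ g : G, g ∉ center G := by
    by_contra hcon
    push Not at hcon
    exact hab (eq_top_iff.mpr fun y _ => hcon y)
  have : Nontrivial (G ⧸ center G) :=
    ⟨⟨QuotientGroup.mk g0, 1, fun h0 => hg0 ((QuotientGroup.eq_one_iff g0).mp h0)⟩⟩
  let π := QuotientGroup.mk' (center G)
  have hπ : Function.Surjective π := QuotientGroup.mk'_surjective _
  have hkey : ∀ y : G, y ∉ center G →
      (centralizer ({π y} : Set (G ⧸ center G))).comap π = centralizer ({y} : Set G) := by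
    intro y hy
    have hle : centralizer ({y} : Set G) ≤ (centralizer ({π y} : Set (G ⧸ center G))).comap π := by
      intro m hm
      rw [mem_comap, mem_cent_singleton, ← map_mul, ← map_mul, mem_cent_singleton.mp hm]
    rcases (h y hy).le_iff.mp hle with h1 | h1
    · exfalso
      apply hn y hy
      apply Cfsg.Agent.S4262.normal_cent_of_central
      intro g
      have hg : π g ∈ centralizer ({π y} : Set (G ⧸ center G)) := by
        have : g ∈ (centralizer ({π y} : Set (G ⧸ center G))).comap π := h1 ▸ mem_top g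
        exact this
      rw [mem_cent_singleton, ← map_mul, ← map_mul] at hg
      have := (QuotientGroup.eq (s := center G)).mp hg.symm
      exact this
    · exact h1
  have hCL : CLHyp (G ⧸ center G) := by
    constructor
    · intro ybar hybar
      obtain ⟨y, rfl⟩ := hπ ybar
      have hy : y ∉ center G := fun hc => hybar ((QuotientGroup.eq_one_iff y).mpr hc)
      have hk := hkey y hy
      constructor
      · intro htop
        rw [htop, comap_top] at hk
        exact (h y hy).1 hk.symm
      · intro L hL
        have hle : centralizer ({y} : Set G) ≤ L.comap π := by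
          rw [← hk]; exact comap_mono hL.le
        rcases (h y hy).le_iff.mp hle with h1 | h1
        · apply comap_injective hπ
          rw [h1, comap_top]
        · exfalso
          have : L = centralizer ({π y} : Set (G ⧸ center G)) := by
            apply comap_injective hπ
            rw [h1, hk]
          exact hL.ne this.symm
    · intro ybar hybar hnorm
      obtain ⟨y, rfl⟩ := hπ ybar
      have hy : y ∉ center G := fun hc => hybar ((QuotientGroup.eq_one_iff y).mpr hc)
      apply hn y hy
      rw [← hkey y hy]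
      exact hnorm.comap π
  exact centerless_false hCL

/-- a normal maximal subgroup has prime index -/
theorem prime_index_of_normal_coatom [Finite G] (C : Subgroup G) [hCn : C.Normal] (hC : IsCoatom C) :
    C.index.Prime := by
  have hsub : ∀ L : Subgroup (G ⧸ C), L = ⊥ ∨ L = ⊤ := by
    intro L
    have hle : C ≤ L.comap (QuotientGroup.mk' C) := by
      have := Subgroup.ker_le_comap (QuotientGroup.mk' C) L
      rwa [QuotientGroup.ker_mk'] at this
    rcases hC.le_iff.mp hle with h1 | h1
    · right
      apply comap_injective (QuotientGroup.mk'_surjective C)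
      rw [h1, comap_top]
    · left
      apply comap_injective (QuotientGroup.mk'_surjective C)
      rw [h1, MonoidHom.comap_bot, QuotientGroup.ker_mk']
  have hne1 : Nat.card (G ⧸ C) ≠ 1 := by
    rw [← Subgroup.index_eq_card]
    intro h1
    exact hC.1 (Subgroup.index_eq_one.mp h1)
  obtain ⟨r, hr, hrd⟩ := Nat.exists_prime_and_dvd hne1
  have hrf : Fact r.Prime := ⟨hr⟩
  obtain ⟨x, hx⟩ := exists_prime_orderOf_dvd_card' r hrd
  have hz : zpowers x = ⊤ := by
    rcases hsub (zpowers x) with h1 | h1
    · exfalso
      rw [zpowers_eq_bot] at h1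
      rw [h1, orderOf_one] at hx
      exact hr.one_lt.ne hx
    · exact h1
  rw [Subgroup.index_eq_card, ← Subgroup.card_top (G := G ⧸ C), ← hz, Nat.card_zpowers, hx]
  exact hr

theorem comm_pow_left {g y c : G} (hc : c ∈ center G) (h : g * y = c * (y * g)) (k : ℕ) :
    g ^ k * y = c ^ k * (y * g ^ k) := by
  induction k with
  | zero => simp
  | succ k ih =>
    have hck : ∀ z : G, z * c = c * z := fun z => mem_center_iff.mp hc z
    calc g ^ (k + 1) * y = g ^ k * (g * y) := by rw [pow_succ, mul_assoc]
      _ = g ^ k * (c * (y * g)) := by rw [h]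
      _ = c * (g ^ k * y) * g := by rw [← mul_assoc (g ^ k) c, hck (g ^ k)]; group
      _ = c * (c ^ k * (y * g ^ k)) * g := by rw [ih]
      _ = c ^ (k + 1) * (y * g ^ (k + 1)) := by rw [pow_succ' c, pow_succ g]; group

theorem comm_pow_right {g y c : G} (hc : c ∈ center G) (h : g * y = c * (y * g)) (k : ℕ) :
    g * y ^ k = c ^ k * (y ^ k * g) := by
  induction k with
  | zero => simp
  | succ k ih =>
    have hck : ∀ z : G, z * c = c * z := fun z => mem_center_iff.mp hc z
    calc g * y ^ (k + 1) = (g * y ^ k) * y := by rw [pow_succ, mul_assoc]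
      _ = c ^ k * (y ^ k * g) * y := by rw [ih]
      _ = c ^ k * (y ^ k * (g * y)) := by group
      _ = c ^ k * (y ^ k * (c * (y * g))) := by rw [h]
      _ = c ^ k * (y ^ k * c * (y * g)) := by group
      _ = c ^ k * (c * y ^ k * (y * g)) := by rw [hck (y ^ k)]
      _ = c ^ (k + 1) * (y ^ (k + 1) * g) := by rw [pow_succ c, pow_succ y]; group

/-- abelian quotient by the center: the quotient has prime exponent -/
theorem exp_of_comm_mod_center [Finite G] (h : CentMax G) (hab : center G ≠ ⊤)
    (hcomm : ∀ a b : G, a * b * a⁻¹ * b⁻¹ ∈ center G) :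
    ∃ p : ℕ, p.Prime ∧ ∀ g : G, g ^ p ∈ center G := by
  have hnormal : ∀ y : G, (centralizer ({y} : Set G)).Normal := by
    intro y
    constructor
    intro m hm g
    have hc := hcomm g m
    have h1 : g * m * g⁻¹ = (g * m * g⁻¹ * m⁻¹) * m := by group
    rw [h1]
    exact mul_mem (center_le_centralizer _ hc) hm
  have hzp : ∀ y : G, y ∉ center G → (zord y).Prime := by
    intro y hy
    have hn := hnormal y
    have hp := prime_index_of_normal_coatom _ (h y hy)
    set p := (centralizer ({y} : Set G)).index with hpdef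
    have hyp : y ^ p ∈ center G := by
      rw [mem_center_iff]
      intro g
      set c := g * y * g⁻¹ * y⁻¹ with hc
      have hcZ : c ∈ center G := hcomm g y
      have h1 : g * y = c * (y * g) := by rw [hc]; group
      have hgp : g ^ p ∈ centralizer ({y} : Set G) := Subgroup.pow_index_mem _ g
      rw [mem_cent_singleton] at hgp
      have h2 := comm_pow_left hcZ h1 p
      have hcp : c ^ p = 1 := by
        rw [← hgp] at h2
        exact (mul_eq_right.mp h2.symm)
      have h3 := comm_pow_right hcZ h1 p
      rw [hcp, one_mul] at h3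
      exact h3
    have hd : zord y ∣ p := (pow_mem_center_iff y p).mp hyp
    rcases (Nat.dvd_prime hp).mp hd with h1 | h1
    · exact absurd ((zord_eq_one_iff y).mp h1) hy
    · rw [h1]
      exact hp
  obtain ⟨y₀, hy₀⟩ : ∃ y : G, y ∉ center G := by
    by_contra hcon
    push Not at hcon
    exact hab (eq_top_iff.mpr fun y _ => hcon y)
  refine ⟨zord y₀, hzp y₀ hy₀, ?_⟩
  intro g
  by_cases hg : g ∈ center G
  · exact pow_mem hg _
  rw [pow_mem_center_iff]
  by_contra hnd
  have hp := hzp y₀ hy₀
  have hp' := hzp g hg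
  have hne : zord g ≠ zord y₀ := fun he => hnd (he ▸ dvd_rfl)
  have hcop : (zord g).Coprime (zord y₀) := (Nat.coprime_primes hp' hp).mpr hne
  have hcm : Commute (QuotientGroup.mk g : G ⧸ center G) (QuotientGroup.mk y₀) := by
    have h1 := hcomm g y₀
    rw [← QuotientGroup.eq_one_iff] at h1
    simp only [QuotientGroup.mk_mul, QuotientGroup.mk_inv] at h1
    show (QuotientGroup.mk g : G ⧸ center G) * QuotientGroup.mk y₀ =
      QuotientGroup.mk y₀ * QuotientGroup.mk g
    calc (QuotientGroup.mk g : G ⧸ center G) * QuotientGroup.mk y₀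
        = ((QuotientGroup.mk g : G ⧸ center G) * QuotientGroup.mk y₀ * (QuotientGroup.mk g)⁻¹ *
            (QuotientGroup.mk y₀)⁻¹) * (QuotientGroup.mk y₀ * QuotientGroup.mk g) := by group
      _ = QuotientGroup.mk y₀ * QuotientGroup.mk g := by rw [h1, one_mul]
  have hord : zord (g * y₀) = zord g * zord y₀ := by
    unfold zord at *
    rw [QuotientGroup.mk_mul]
    exact hcm.orderOf_mul_eq_mul_orderOf_of_coprime hcop
  have hgy : g * y₀ ∉ center G := by
    intro hc
    rw [← zord_eq_one_iff, hord] at hc
    have := hp'.one_lt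
    have := hp.one_lt
    nlinarith [Nat.eq_one_of_mul_eq_one_right hc]
  have hpr := hzp (g * y₀) hgy
  rw [hord] at hpr
  exact Nat.not_prime_mul hp'.one_lt.ne' hp.one_lt.ne' hpr

end cm4

section frobLike

variable {Q : Type*} [Group Q]

/-- a subgroup of prime order is generated by any of its nontrivial elements -/
theorem zpowers_eq_of_card_prime {K : Subgroup Q} {q : ℕ} (hq : q.Prime) (hK : Nat.card K = q)
    {g : Q} (hg : g ∈ K) (hg1 : g ≠ 1) : zpowers g = K := by
  have hfin : Finite K := Nat.finite_of_card_ne_zero (by rw [hK]; exact hq.ne_zero)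
  have hle : zpowers g ≤ K := (zpowers_le).mpr hg
  apply Subgroup.eq_of_le_of_card_ge hle
  rw [Nat.card_zpowers, hK]
  have hd : orderOf g ∣ q := by
    rw [← hK]
    have := orderOf_dvd_natCard (⟨g, hg⟩ : K)
    rwa [Subgroup.orderOf_mk] at this
  rcases (Nat.dvd_prime hq).mp hd with h1 | h1
  · exact absurd (orderOf_eq_one_iff.mp h1) hg1
  · exact h1.ge

theorem minNonAb_of_frob_like [Finite Q] (Nb : Subgroup Q) [hNn : Nb.Normal]
    (hNab : ∀ a ∈ Nb, ∀ b ∈ Nb, a * b = b * a) (q : ℕ) (hq : q.Prime) (hidx : Nb.index = q)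
    (hK : ∀ g : Q, g ∉ Nb → ∃ K : Subgroup Q, IsCoatom K ∧ Nat.card K = q ∧ g ∈ K ∧ K ⊓ Nb = ⊥)
    (hna : ¬ ∀ a b : Q, a * b = b * a) :
    (∀ H : Subgroup Q, H ≠ ⊤ → ∀ a ∈ H, ∀ b ∈ H, a * b = b * a) ∧
      ∃ p a : ℕ, p.Prime ∧ p ≠ q ∧ Nat.card Q = p ^ a * q ∧
        ∀ P : Subgroup Q, Nat.card P = p ^ a → P.Normal := by
  have hcyc : ∀ (K : Subgroup Q), Nat.card K = q → ∀ a ∈ K, ∀ b ∈ K, a * b = b * a := by
    intro K hKq a ha b hb
    have hKc : IsCyclic K := isCyclic_of_prime_card (hp := ⟨hq⟩) hKq
    have hc : IsMulCommutative K := IsCyclic.isMulCommutative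
    exact congrArg Subtype.val (hc.is_comm.comm ⟨a, ha⟩ ⟨b, hb⟩)
  constructor
  · intro H hH a ha b hb
    by_cases hHN : H ≤ Nb
    · exact hNab a (hHN ha) b (hHN hb)
    · obtain ⟨h, hhH, hhN⟩ := SetLike.not_le_iff_exists.mp hHN
      obtain ⟨K, hKco, hKq, hhK, -⟩ := hK h hhN
      have hh1 : h ≠ 1 := fun h1 => hhN (h1 ▸ Nb.one_mem)
      have hz : zpowers h = K := zpowers_eq_of_card_prime hq hKq hhK hh1
      have hKH : K ≤ H := by
        rw [← hz, zpowers_le]
        exact hhH
      rcases hKco.le_iff.mp hKH with h1 | h1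
      · exact absurd h1 hH
      · rw [h1] at ha hb
        exact hcyc K hKq a ha b hb
  · -- Nb is nontrivial
    obtain ⟨g, hg⟩ : ∃ g : Q, g ∉ Nb := by
      by_contra hcon
      push Not at hcon
      have : Nb = ⊤ := eq_top_iff.mpr fun y _ => hcon y
      rw [this, Subgroup.index_top] at hidx
      exact hq.one_lt.ne hidx
    obtain ⟨K, hKco, hKq, hgK, hKN⟩ := hK g hg
    have hKNtop : K ⊔ Nb = ⊤ := by
      rcases hKco.le_iff.mp (le_sup_left : K ≤ K ⊔ Nb) with h1 | h1
      · exact h1
      · exfalso
        -- Nb ≤ K so Nb = ⊥ and Q = K abelian... use index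
        have hNK : Nb ≤ K := by
          have : Nb ≤ K ⊔ Nb := le_sup_right
          rwa [h1] at this
        have hNbot : Nb = ⊥ := by
          rw [eq_bot_iff, ← hKN]
          exact le_inf hNK le_rfl
        rw [hNbot, Subgroup.index_bot] at hidx
        have hKtop : K = ⊤ := by
          apply Subgroup.eq_top_of_card_eq
          rw [hKq, hidx]
        exact hKco.1 hKtop
    have hcardQ : Nat.card Q = q * Nat.card Nb := by
      rw [← Subgroup.card_top (G := Q), ← hKNtop,
        Cfsg.Agent.Lib.Helper1.card_sup_eq_mul_of_inf_eq_bot K Nb hKN, hKq]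
    have hNbne : Nb ≠ ⊥ := by
      intro hb
      apply hna
      rw [hb, sup_bot_eq] at hKNtop
      intro a b
      exact hcyc K hKq a (hKNtop ▸ mem_top a) b (hKNtop ▸ mem_top b)
    have hNcard1 : Nat.card Nb ≠ 1 := by
      intro h1
      exact hNbne (Subgroup.card_eq_one.mp h1)
    obtain ⟨p, hp, hpd⟩ := Nat.exists_prime_and_dvd hNcard1
    have hpf : Fact p.Prime := ⟨hp⟩
    -- the elements of Nb of order dividing p
    let L : Subgroup Q :=
      { carrier := {n | n ∈ Nb ∧ n ^ p = 1}
        one_mem' := ⟨Nb.one_mem, one_pow p⟩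
        mul_mem' := by
          rintro a b ⟨ha, hap⟩ ⟨hb, hbp⟩
          refine ⟨Nb.mul_mem ha hb, ?_⟩
          rw [(show Commute a b from hNab a ha b hb).mul_pow, hap, hbp, one_mul]
        inv_mem' := by
          rintro a ⟨ha, hap⟩
          exact ⟨Nb.inv_mem ha, by rw [inv_pow, hap, inv_one]⟩ }
    have hLN : L ≤ Nb := fun n hn => hn.1
    have hLn : L.Normal := by
      constructor
      rintro n ⟨hn, hnp⟩ x
      refine ⟨hNn.conj_mem n hn x, ?_⟩
      rw [conj_pow, hnp, mul_one, mul_inv_cancel]
    have hLne : L ≠ ⊥ := by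
      obtain ⟨x, hx⟩ := exists_prime_orderOf_dvd_card' (G := Nb) p hpd
      intro hb
      have hxL : (x : Q) ∈ L := by
        refine ⟨x.2, ?_⟩
        have : x ^ p = 1 := by rw [← hx]; exact pow_orderOf_eq_one x
        exact_mod_cast congrArg Subtype.val this
      rw [hb, mem_bot] at hxL
      have hx1 : x = 1 := Subtype.ext hxL
      rw [hx1, orderOf_one] at hx
      exact hp.one_lt.ne hx
    have hKL : K ⊓ L = ⊥ := by
      rw [eq_bot_iff, ← hKN]
      exact inf_le_inf_left K hLN
    have hKLtop : K ⊔ L = ⊤ := by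
      rcases hKco.le_iff.mp (le_sup_left : K ≤ K ⊔ L) with h1 | h1
      · exact h1
      · exfalso
        have hLK : L ≤ K := by
          have : L ≤ K ⊔ L := le_sup_right
          rwa [h1] at this
        apply hLne
        rw [eq_bot_iff, ← hKL]
        exact le_inf hLK le_rfl
    have hLeq : L = Nb := by
      apply Subgroup.eq_of_le_of_card_ge hLN
      have h1 : Nat.card Q = q * Nat.card L := by
        rw [← Subgroup.card_top (G := Q), ← hKLtop,
          Cfsg.Agent.Lib.Helper1.card_sup_eq_mul_of_inf_eq_bot K L hKL, hKq]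
      rw [hcardQ] at h1
      exact (Nat.eq_of_mul_eq_mul_left hq.pos h1).le
    have hNexp : ∀ n ∈ Nb, n ^ p = 1 := by
      intro n hn
      have : n ∈ L := hLeq ▸ hn
      exact this.2
    have hNpg : IsPGroup p Nb := fun x =>
      ⟨1, by rw [pow_one]; exact Subtype.ext (by simpa using hNexp x x.2)⟩
    obtain ⟨a, ha⟩ := IsPGroup.iff_card.mp hNpg
    have hpq : p ≠ q := by
      rintro rfl
      -- Q is a p-group, so the maximal subgroup K is normal
      have hQp : IsPGroup p Q := IsPGroup.of_card (n := a + 1) (by rw [hcardQ, ha, pow_succ, mul_comm])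
      have hnil : Group.IsNilpotent Q := hQp.isNilpotent
      have hKn : K.Normal := (Group.normalizerCondition_of_isNilpotent (G := Q)).normal_of_coatom K hKco
      apply hna
      have hcomm : ∀ k ∈ K, ∀ n ∈ Nb, k * n = n * k := by
        intro k hk n hn
        exact (Subgroup.commute_of_normal_of_disjoint K Nb hKn hNn (disjoint_iff.mpr hKN) k n hk hn).eq
      have hKc : K ≤ center Q := by
        intro k hk
        rw [mem_center_iff]
        intro x
        have hx : x ∈ centralizer ({k} : Set Q) := by
          have h1 : K ⊔ Nb ≤ centralizer ({k} : Set Q) := by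
            refine sup_le ?_ ?_
            · intro y hy
              rw [mem_cent_singleton]
              exact hcyc K hKq k hk y hy
            · intro y hy
              rw [mem_cent_singleton]
              exact hcomm k hk y hy
          exact h1 (hKNtop ▸ mem_top x)
        exact (mem_cent_singleton.mp hx).symm
      have hNc : Nb ≤ center Q := by
        intro n hn
        rw [mem_center_iff]
        intro x
        have hx : x ∈ centralizer ({n} : Set Q) := by
          have h1 : K ⊔ Nb ≤ centralizer ({n} : Set Q) := by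
            refine sup_le ?_ ?_
            · intro y hy
              rw [mem_cent_singleton]
              exact (hcomm y hy n hn).symm
            · intro y hy
              rw [mem_cent_singleton]
              exact hNab n hn y hy
          exact h1 (hKNtop ▸ mem_top x)
        exact (mem_cent_singleton.mp hx).symm
      have hctop : center Q = ⊤ := eq_top_iff.mpr (hKNtop ▸ sup_le hKc hNc)
      intro x y
      have hx : x ∈ center Q := hctop ▸ mem_top x
      exact (mem_center_iff.mp hx y).symm
    refine ⟨p, a, hp, hpq, by rw [hcardQ, ha, mul_comm], ?_⟩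
    intro P hP
    have hPN : P ≤ Nb := by
      intro x hx
      rw [← QuotientGroup.eq_one_iff (N := Nb)]
      have h1 : ((QuotientGroup.mk x : Q ⧸ Nb)) ^ (p ^ a) = 1 := by
        rw [← QuotientGroup.mk_pow]
        have : x ^ (p ^ a) = 1 := by
          have h2 := pow_card_eq_one' (G := P) (x := ⟨x, hx⟩)
          rw [hP] at h2
          have h3 := congrArg Subtype.val h2
          rwa [Subgroup.coe_pow, Subgroup.coe_one] at h3
        rw [this]
        rfl
      have h2 : ((QuotientGroup.mk x : Q ⧸ Nb)) ^ q = 1 := by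
        have h3 := pow_card_eq_one' (G := Q ⧸ Nb) (x := QuotientGroup.mk x)
        rwa [← Subgroup.index_eq_card, hidx] at h3
      have h4 : orderOf (QuotientGroup.mk x : Q ⧸ Nb) ∣ Nat.gcd (p ^ a) q :=
        Nat.dvd_gcd (orderOf_dvd_of_pow_eq_one h1) (orderOf_dvd_of_pow_eq_one h2)
      have h5 : Nat.gcd (p ^ a) q = 1 :=
        Nat.Coprime.pow_left a ((Nat.coprime_primes hp hq).mpr hpq)
      rw [h5, Nat.dvd_one, orderOf_eq_one_iff] at h4
      exact h4
    have hPeq : P = Nb := by
      apply Subgroup.eq_of_le_of_card_ge hPN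
      rw [hP, ha]
    rw [hPeq]
    exact hNn

end frobLike

section cmStruct

variable {G : Type*} [Group G]

theorem centMax_structure [Finite G] (h : CentMax G) (hab : center G ≠ ⊤) :
    (∃ p : ℕ, p.Prime ∧ (∀ a b : G ⧸ center G, a * b = b * a) ∧
        ∀ a : G ⧸ center G, a ^ p = 1) ∨
    ((¬ ∀ a b : G ⧸ center G, a * b = b * a) ∧
      (∀ H : Subgroup (G ⧸ center G), H ≠ ⊤ → ∀ a ∈ H, ∀ b ∈ H, a * b = b * a) ∧
      ∃ p q a : ℕ, p.Prime ∧ q.Prime ∧ p ≠ q ∧ Nat.card (G ⧸ center G) = p ^ a * q ∧
        ∀ P : Subgroup (G ⧸ center G), Nat.card P = p ^ a → P.Normal) := by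
  have hπs : Function.Surjective (QuotientGroup.mk' (center G)) :=
    QuotientGroup.mk'_surjective _
  have hcomm_iff : (∀ a b : G ⧸ center G, a * b = b * a) ↔
      ∀ a b : G, a * b * a⁻¹ * b⁻¹ ∈ center G := by
    constructor
    · intro hc a b
      rw [← QuotientGroup.eq_one_iff]
      simp only [QuotientGroup.mk_mul, QuotientGroup.mk_inv]
      rw [hc (QuotientGroup.mk a) (QuotientGroup.mk b)]
      group
    · intro hc a b
      obtain ⟨a, rfl⟩ := QuotientGroup.mk_surjective a
      obtain ⟨b, rfl⟩ := QuotientGroup.mk_surjective b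
      have h1 := hc a b
      rw [← QuotientGroup.eq_one_iff] at h1
      simp only [QuotientGroup.mk_mul, QuotientGroup.mk_inv] at h1
      calc (QuotientGroup.mk a : G ⧸ center G) * QuotientGroup.mk b
          = ((QuotientGroup.mk a : G ⧸ center G) * QuotientGroup.mk b * (QuotientGroup.mk a)⁻¹ *
              (QuotientGroup.mk b)⁻¹) * (QuotientGroup.mk b * QuotientGroup.mk a) := by group
        _ = QuotientGroup.mk b * QuotientGroup.mk a := by rw [h1, one_mul]
  by_cases hcq : ∀ a b : G ⧸ center G, a * b = b * a
  · left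
    obtain ⟨p, hp, hexp⟩ := exp_of_comm_mod_center h hab (hcomm_iff.mp hcq)
    refine ⟨p, hp, hcq, ?_⟩
    intro a
    obtain ⟨g, rfl⟩ := QuotientGroup.mk_surjective a
    rw [← QuotientGroup.mk_pow, QuotientGroup.eq_one_iff]
    exact hexp g
  right
  refine ⟨hcq, ?_⟩
  have hnc : ¬ ∀ a b : G, a * b * a⁻¹ * b⁻¹ ∈ center G := fun hc => hcq (hcomm_iff.mpr hc)
  obtain ⟨x, hx, hxn⟩ := exists_normal_cent h hab
  set N := centralizer ({x} : Set G) with hN
  have hq : N.index.Prime := prime_index_of_normal_coatom N (h x hx)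
  set q := N.index with hqdef
  have hZN : center G ≤ N := center_le_centralizer _
  have hTA : TA x := by
    by_contra hTA
    rcases dichotomy h hx with hT | ⟨p, hp, hpow⟩
    · exact hTA hT
    unfold TA at hTA
    push Not at hTA
    obtain ⟨n, hnN, hnZ, hne⟩ := hTA
    obtain ⟨g, hgn, hgN⟩ : ∃ g ∈ centralizer ({n} : Set G), g ∉ N := by
      by_contra hcon
      push Not at hcon
      exact hne (cent_eq_of_le h hnZ hx hcon)
    have hgZ : g ∉ center G := fun hc => hgN (hZN hc)
    by_cases hpq : p = q
    · apply hnc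
      have hQp : IsPGroup p (G ⧸ center G) := by
        intro abar
        obtain ⟨a, rfl⟩ := QuotientGroup.mk_surjective abar
        refine ⟨2, ?_⟩
        rw [← QuotientGroup.mk_pow, QuotientGroup.eq_one_iff, pow_two, pow_mul]
        apply hpow
        rw [hpq]
        exact Subgroup.pow_index_mem N a
      have hpf : Fact p.Prime := ⟨hp⟩
      have hnilQ : Group.IsNilpotent (G ⧸ center G) := hQp.isNilpotent
      have hnil : Group.IsNilpotent G :=
        Subgroup.isNilpotent_of_ker_le_center (QuotientGroup.mk' (center G))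
          (by rw [QuotientGroup.ker_mk'])
      intro a b
      rw [mem_center_iff]
      intro y
      by_cases hy : y ∈ center G
      · exact (mem_center_iff.mp hy _).symm
      have hCn : (centralizer ({y} : Set G)).Normal :=
        (Group.normalizerCondition_of_isNilpotent (G := G)).normal_of_coatom _ (h y hy)
      have hCp := prime_index_of_normal_coatom _ (h y hy)
      have hcard : Nat.card (G ⧸ centralizer ({y} : Set G)) =
          (centralizer ({y} : Set G)).index := (Subgroup.index_eq_card _).symm
      have hcyc : IsCyclic (G ⧸ centralizer ({y} : Set G)) :=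
        isCyclic_of_prime_card (hp := ⟨hCp⟩) hcard
      have hcm : IsMulCommutative (G ⧸ centralizer ({y} : Set G)) := IsCyclic.isMulCommutative
      have hmem : a * b * a⁻¹ * b⁻¹ ∈ centralizer ({y} : Set G) := by
        rw [← QuotientGroup.eq_one_iff]
        simp only [QuotientGroup.mk_mul, QuotientGroup.mk_inv]
        rw [hcm.is_comm.comm (QuotientGroup.mk a) (QuotientGroup.mk b)]
        group
      exact mem_cent_singleton.mp hmem
    · have hcc : centralizer ({g} : Set G) = centralizer ({n} : Set G) := by
        by_contra hcc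
        have hgn' : g * n = n * g := (mem_cent_singleton.mp hgn).symm
        have hz := zord_eq h hgZ hnZ hgn' hcc
        have hzn : zord n = p := by
          have hd : zord n ∣ p := (pow_mem_center_iff n p).mp (hpow n hnN)
          rcases (Nat.dvd_prime hp).mp hd with h1 | h1
          · exact absurd ((zord_eq_one_iff n).mp h1) hnZ
          · exact h1
        have hgp : g ^ p ∈ N := hZN ((pow_mem_center_iff g p).mpr (by rw [hz, hzn]))
        have hgq : g ^ q ∈ N := Subgroup.pow_index_mem N g
        apply hgN
        rw [← QuotientGroup.eq_one_iff (N := N)]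
        have h1 : (QuotientGroup.mk g : G ⧸ N) ^ p = 1 := by
          rw [← QuotientGroup.mk_pow, QuotientGroup.eq_one_iff]
          exact hgp
        have h2 : (QuotientGroup.mk g : G ⧸ N) ^ q = 1 := by
          rw [← QuotientGroup.mk_pow, QuotientGroup.eq_one_iff]
          exact hgq
        have h4 : orderOf (QuotientGroup.mk g : G ⧸ N) ∣ Nat.gcd p q :=
          Nat.dvd_gcd (orderOf_dvd_of_pow_eq_one h1) (orderOf_dvd_of_pow_eq_one h2)
        have h5 : Nat.gcd p q = 1 := (Nat.coprime_primes hp hq).mpr hpq
        rw [h5, Nat.dvd_one, orderOf_eq_one_iff] at h4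
        exact h4
      apply hgN
      have hxn' : x ∈ centralizer ({n} : Set G) := by
        rw [mem_cent_singleton]
        exact (mem_cent_singleton.mp hnN).symm
      rw [← hcc, mem_cent_singleton] at hxn'
      rw [hN, mem_cent_singleton]
      exact hxn'.symm
  have hNab : ∀ a ∈ N, ∀ b ∈ N, a * b = b * a := fun a ha b hb => hTA.comm ha hb
  have hfacts : ∀ g : G, g ∉ N →
      centralizer ({g} : Set G) ⊓ N = center G ∧
        (center G).relIndex (centralizer ({g} : Set G)) = q := by
    intro g hgN
    have hCN : centralizer ({g} : Set G) ⊓ N = center G := by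
      apply le_antisymm
      · intro m hm
        by_contra hmZ
        have h1 := hTA m hm.2 hmZ
        apply hgN
        rw [hN, ← h1, mem_cent_singleton]
        exact (mem_cent_singleton.mp hm.1).symm
      · exact le_inf (center_le_centralizer _) hZN
    refine ⟨hCN, ?_⟩
    have hsup : N ⊔ centralizer ({g} : Set G) = ⊤ := by
      rcases (h x hx).le_iff.mp (le_sup_left : N ≤ N ⊔ centralizer ({g} : Set G)) with h1 | h1
      · exact h1
      · exfalso
        apply hgN
        have h2 : centralizer ({g} : Set G) ≤ N ⊔ centralizer ({g} : Set G) := le_sup_right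
        rw [h1] at h2
        exact h2 (self_mem_cent g)
    rw [← hCN, Subgroup.inf_relIndex_left, ← Subgroup.relIndex_sup_left, hsup,
      Subgroup.relIndex_top_right]
  have hmain := minNonAb_of_frob_like (Q := G ⧸ center G)
    (N.map (QuotientGroup.mk' (center G))) (hNn := hxn.map _ hπs) ?_ q hq ?_ ?_ hcq
  · obtain ⟨h1, p, a, hp, hpq, hcard, hP⟩ := hmain
    exact ⟨h1, p, q, a, hp, hq, hpq, hcard, hP⟩
  · rintro _ ⟨a, ha, rfl⟩ _ ⟨b, hb, rfl⟩
    rw [← map_mul, ← map_mul, hNab a ha b hb]
  · rw [← Subgroup.index_comap_of_surjective _ hπs, Subgroup.comap_map_eq_self]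
    rw [QuotientGroup.ker_mk']
    exact hZN
  · intro gbar hgbar
    obtain ⟨g, rfl⟩ := hπs gbar
    have hgN : g ∉ N := fun hc => hgbar (Subgroup.mem_map_of_mem _ hc)
    have hgZ : g ∉ center G := fun hc => hgN (hZN hc)
    obtain ⟨hCN, hrel⟩ := hfacts g hgN
    refine ⟨(centralizer ({g} : Set G)).map (QuotientGroup.mk' (center G)), ?_, ?_, ?_, ?_⟩
    · apply Cfsg.Agent.Lib.Helper1.isCoatom_map_of_ker_le hπs (h g hgZ)
      rw [QuotientGroup.ker_mk']
      exact center_le_centralizer _
    · rw [← Subgroup.relIndex_ker, QuotientGroup.ker_mk']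
      exact hrel
    · exact Subgroup.mem_map_of_mem _ (self_mem_cent g)
    · rw [eq_bot_iff]
      rintro y ⟨⟨a, ha, rfl⟩, ⟨b, hb, hab'⟩⟩
      rw [mem_bot]
      have h1 : b⁻¹ * a ∈ center G := by
        rw [← QuotientGroup.eq_one_iff]
        have h2 : (QuotientGroup.mk' (center G)) b = (QuotientGroup.mk' (center G)) a := hab'
        simp only [QuotientGroup.mk'_apply] at h2
        rw [QuotientGroup.mk_mul, QuotientGroup.mk_inv, h2, inv_mul_cancel]
      have haN : a ∈ N := by
        have h3 : a = b * (b⁻¹ * a) := by group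
        rw [h3]
        exact N.mul_mem hb (hZN h1)
      have haZ : a ∈ center G := by
        rw [← hCN]
        exact ⟨ha, haN⟩
      exact (QuotientGroup.eq_one_iff a).mpr haZ

end cmStruct

end Cfsg.Agent.Lib.helper23
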