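import Mathlib
set_option autoImplicit false

namespace Cfsg.Agent.Lib.helper23
open Subgroup

section
variable {X : Type*} [Group X]

theorem mem_cent_singleton' {g m : X} : m ∈ centralizer ({g} : Set X) ↔ g * m = m * g := by
  rw [mem_centralizer_iff]
  constructor
  · intro h; exact h g rfl
  · intro h y hy; rw [Set.mem_singleton_iff.mp hy]; exact h

/-- per-element inequality -/
theorem card_cent_le [Finite X] (Y : Subgroup X) (a : X) :
    Nat.card (centralizer ({a} : Set X)) ≤ Y.index * Nat.card ↥(Y ⊓ centralizer ({a} : Set X)) := by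
  set C := centralizer ({a} : Set X)
  have h1 : (⊥ : Subgroup X).relIndex (Y ⊓ C) * (Y ⊓ C).relIndex C = (⊥ : Subgroup X).relIndex C :=
    relIndex_mul_relIndex _ _ _ bot_le inf_le_right
  rw [relIndex_bot_left, relIndex_bot_left, inf_relIndex_right] at h1
  have h2 : Y.relIndex C ≤ Y.index := by
    have := relIndex_le_of_le_right (H := Y) (le_top : C ≤ ⊤) (by
      rw [relIndex_top_right]; exact Y.index_ne_zero_of_finite)
    rwa [relIndex_top_right] at this
  calc Nat.card C = Nat.card ↥(Y ⊓ C) * Y.relIndex C := h1.symm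
    _ ≤ Nat.card ↥(Y ⊓ C) * Y.index := Nat.mul_le_mul_left _ h2
    _ = Y.index * Nat.card ↥(Y ⊓ C) := mul_comm _ _

def equivTX : {p : X × X // Commute p.1 p.2} ≃ Σ a : X, ↥(centralizer ({a} : Set X)) where
  toFun p := ⟨p.1.1, ⟨p.1.2, mem_cent_singleton'.mpr p.2.eq⟩⟩
  invFun s := ⟨(s.1, s.2.1), mem_cent_singleton'.mp s.2.2⟩
  left_inv p := rfl
  right_inv s := rfl

def equivTM1 (Y : Subgroup X) : {p : X × X // p.2 ∈ Y ∧ Commute p.1 p.2} ≃
    Σ a : X, ↥(Y ⊓ centralizer ({a} : Set X)) where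
  toFun p := ⟨p.1.1, ⟨p.1.2, p.2.1, mem_cent_singleton'.mpr p.2.2.eq⟩⟩
  invFun s := ⟨(s.1, s.2.1), s.2.2.1, mem_cent_singleton'.mp s.2.2.2⟩
  left_inv p := rfl
  right_inv s := rfl

def equivTM2 (Y : Subgroup X) : {p : X × X // p.2 ∈ Y ∧ Commute p.1 p.2} ≃
    Σ y : Y, ↥(centralizer ({(y : X)} : Set X)) where
  toFun p := ⟨⟨p.1.2, p.2.1⟩, ⟨p.1.1, mem_cent_singleton'.mpr p.2.2.symm.eq⟩⟩
  invFun s := ⟨(s.2.1, s.1.1), s.1.2, (show Commute (s.1 : X) s.2.1 from mem_cent_singleton'.mp s.2.2).symm⟩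
  left_inv p := rfl
  right_inv s := rfl

def equivTY (Y : Subgroup X) : {p : Y × Y // Commute p.1 p.2} ≃
    Σ y : Y, ↥(Y ⊓ centralizer ({(y : X)} : Set X)) where
  toFun p := ⟨p.1.1, ⟨(p.1.2 : X), p.1.2.2, mem_cent_singleton'.mpr (congrArg Subtype.val p.2.eq)⟩⟩
  invFun s := ⟨(s.1, ⟨s.2.1, s.2.2.1⟩), Subtype.ext (mem_cent_singleton'.mp s.2.2.2)⟩
  left_inv p := rfl
  right_inv s := rfl


/-- strict per-element inequality when some conjugate of `y` leaves `Y` -/
theorem card_cent_lt [Finite X] (Y : Subgroup X) (y g : X) (hy : y ∈ Y) (hg : g * y * g⁻¹ ∉ Y) :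
    Nat.card (centralizer ({y} : Set X)) < Y.index * Nat.card ↥(Y ⊓ centralizer ({y} : Set X)) := by
  set C := centralizer ({y} : Set X) with hC
  have h1 : (⊥ : Subgroup X).relIndex (Y ⊓ C) * (Y ⊓ C).relIndex C = (⊥ : Subgroup X).relIndex C :=
    relIndex_mul_relIndex _ _ _ bot_le inf_le_right
  rw [relIndex_bot_left, relIndex_bot_left, inf_relIndex_right] at h1
  have h2 : Y.relIndex C ≤ Y.index := by
    have := relIndex_le_of_le_right (H := Y) (le_top : C ≤ ⊤) (by
      rw [relIndex_top_right]; exact Y.index_ne_zero_of_finite)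
    rwa [relIndex_top_right] at this
  have h3 : Y.relIndex C ≠ Y.index := by
    intro heq
    -- the natural map C ⧸ (Y ∩ C) → X ⧸ Y is a bijection
    let φ : (C ⧸ Y.subgroupOf C) → X ⧸ Y :=
      Quotient.map' (fun c : C => (c : X)) (fun a b hab => by
        rw [QuotientGroup.leftRel_apply] at hab ⊢
        exact hab)
    have hφinj : Function.Injective φ := by
      intro q q'
      induction q using Quotient.inductionOn' with | _ a => ?_
      induction q' using Quotient.inductionOn' with | _ b => ?_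
      intro hab
      have hab' : (QuotientGroup.mk (a : X) : X ⧸ Y) = QuotientGroup.mk (b : X) := hab
      rw [QuotientGroup.eq] at hab'
      exact QuotientGroup.eq.mpr hab'
    have hcard : Nat.card (X ⧸ Y) ≤ Nat.card (C ⧸ Y.subgroupOf C) := by
      show Y.index ≤ Y.relIndex C
      exact heq.ge
    have hφsurj := (hφinj.bijective_of_nat_card_le hcard).2
    obtain ⟨q, hq⟩ := hφsurj (QuotientGroup.mk g⁻¹)
    induction q using Quotient.inductionOn' with | _ c => ?_
    have hq' : (QuotientGroup.mk (c : X) : X ⧸ Y) = QuotientGroup.mk g⁻¹ := hq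
    rw [QuotientGroup.eq] at hq'
    -- (c)⁻¹ * g⁻¹ ∈ Y
    apply hg
    set y' := (c : X)⁻¹ * g⁻¹ with hy'
    have hgy : g = y'⁻¹ * (c : X)⁻¹ := by rw [hy']; group
    have hcy : y * (c : X) = (c : X) * y := mem_cent_singleton'.mp c.2
    have hcy' : (c : X)⁻¹ * y * (c : X) = y := by
      rw [mul_assoc, hcy, ← mul_assoc, inv_mul_cancel, one_mul]
    have : g * y * g⁻¹ = y'⁻¹ * ((c : X)⁻¹ * y * (c : X)) * y' := by
      rw [hgy]; group
    rw [this, hcy']
    exact Y.mul_mem (Y.mul_mem (Y.inv_mem hq') hy) hq'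
  have h4 : Y.relIndex C < Y.index := lt_of_le_of_ne h2 h3
  have hpos : 0 < Nat.card ↥(Y ⊓ C) := Nat.card_pos
  calc Nat.card C = Nat.card ↥(Y ⊓ C) * Y.relIndex C := h1.symm
    _ < Nat.card ↥(Y ⊓ C) * Y.index := Nat.mul_lt_mul_of_pos_left h4 hpos
    _ = Y.index * Nat.card ↥(Y ⊓ C) := mul_comm _ _


theorem conjClasses_bounds [Finite X] (Y : Subgroup X) :
    Nat.card (ConjClasses X) * Nat.card X ≤
      Y.index * Y.index * (Nat.card (ConjClasses Y) * Nat.card Y) ∧
    (¬ Y.Normal → Nat.card (ConjClasses X) * Nat.card X <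
      Y.index * Y.index * (Nat.card (ConjClasses Y) * Nat.card Y)) := by
  classical
  haveI : Fintype X := Fintype.ofFinite X
  haveI : Fintype Y := Fintype.ofFinite Y
  set m := Y.index with hm
  have eX := card_comm_eq_card_conjClasses_mul_card X
  have eY := card_comm_eq_card_conjClasses_mul_card Y
  have e1 : Nat.card {p : X × X // Commute p.1 p.2} = ∑ a : X, Nat.card (centralizer ({a} : Set X)) := by
    rw [Nat.card_congr equivTX, Nat.card_sigma]
  have e2 : Nat.card {p : X × X // p.2 ∈ Y ∧ Commute p.1 p.2} =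
      ∑ a : X, Nat.card ↥(Y ⊓ centralizer ({a} : Set X)) := by
    rw [Nat.card_congr (equivTM1 Y), Nat.card_sigma]
  have e3 : Nat.card {p : X × X // p.2 ∈ Y ∧ Commute p.1 p.2} =
      ∑ y : Y, Nat.card (centralizer ({(y : X)} : Set X)) := by
    rw [Nat.card_congr (equivTM2 Y), Nat.card_sigma]
  have e4 : Nat.card {p : Y × Y // Commute p.1 p.2} =
      ∑ y : Y, Nat.card ↥(Y ⊓ centralizer ({(y : X)} : Set X)) := by
    rw [Nat.card_congr (equivTY Y), Nat.card_sigma]
  have s1 : Nat.card {p : X × X // Commute p.1 p.2} ≤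
      m * Nat.card {p : X × X // p.2 ∈ Y ∧ Commute p.1 p.2} := by
    rw [e1, e2, Finset.mul_sum]
    exact Finset.sum_le_sum (fun a _ => card_cent_le Y a)
  have s2 : Nat.card {p : X × X // p.2 ∈ Y ∧ Commute p.1 p.2} ≤
      m * Nat.card {p : Y × Y // Commute p.1 p.2} := by
    rw [e3, e4, Finset.mul_sum]
    exact Finset.sum_le_sum (fun y _ => card_cent_le Y (y : X))
  constructor
  · rw [← eX, ← eY]
    calc Nat.card {p : X × X // Commute p.1 p.2}
        ≤ m * Nat.card {p : X × X // p.2 ∈ Y ∧ Commute p.1 p.2} := s1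
      _ ≤ m * (m * Nat.card {p : Y × Y // Commute p.1 p.2}) := Nat.mul_le_mul_left _ s2
      _ = m * m * Nat.card {p : Y × Y // Commute p.1 p.2} := by ring
  · intro hn
    -- find y ∈ Y and g with g y g⁻¹ ∉ Y
    obtain ⟨y, hy, g, hg⟩ : ∃ y ∈ Y, ∃ g : X, g * y * g⁻¹ ∉ Y := by
      by_contra hcon
      push Not at hcon
      exact hn ⟨fun n hn g => hcon n hn g⟩
    have s2' : Nat.card {p : X × X // p.2 ∈ Y ∧ Commute p.1 p.2} <
        m * Nat.card {p : Y × Y // Commute p.1 p.2} := by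
      rw [e3, e4, Finset.mul_sum]
      exact Finset.sum_lt_sum (s := (Finset.univ : Finset Y))
        (f := fun y : Y => Nat.card (centralizer ({(y : X)} : Set X)))
        (g := fun y : Y => m * Nat.card ↥(Y ⊓ centralizer ({(y : X)} : Set X)))
        (fun y _ => card_cent_le Y (y : X))
        ⟨⟨y, hy⟩, Finset.mem_univ _, card_cent_lt Y y g hy hg⟩
    have hmpos : 0 < m := Nat.pos_of_ne_zero Y.index_ne_zero_of_finite
    rw [← eX, ← eY]
    calc Nat.card {p : X × X // Commute p.1 p.2}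
        ≤ m * Nat.card {p : X × X // p.2 ∈ Y ∧ Commute p.1 p.2} := s1
      _ < m * (m * Nat.card {p : Y × Y // Commute p.1 p.2}) := Nat.mul_lt_mul_of_pos_left s2' hmpos
      _ = m * m * Nat.card {p : Y × Y // Commute p.1 p.2} := by ring

end
end Cfsg.Agent.Lib.helper23
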