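import Mathlib
import Cfsg.Agent.Lib.helper23.ConjClassCount
set_option autoImplicit false

namespace Cfsg.Agent.Lib.helper23
open Subgroup

section
variable {X : Type*} [Group X]

/-- per-element inequality for a normal subgroup -/
theorem card_cent_le_quot [Finite X] (N : Subgroup X) [N.Normal] (a : X) :
    Nat.card (centralizer ({a} : Set X)) ≤
      Nat.card (centralizer ({(QuotientGroup.mk a : X ⧸ N)} : Set (X ⧸ N))) *
        Nat.card ↥(N ⊓ centralizer ({a} : Set X)) := by
  set C := centralizer ({a} : Set X) with hC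
  let f : C →* X ⧸ N := (QuotientGroup.mk' N).comp C.subtype
  have hrange : f.range ≤ centralizer ({(QuotientGroup.mk a : X ⧸ N)} : Set (X ⧸ N)) := by
    rintro _ ⟨c, rfl⟩
    rw [mem_cent_singleton']
    show (QuotientGroup.mk a : X ⧸ N) * QuotientGroup.mk (c : X) = QuotientGroup.mk (c : X) * QuotientGroup.mk a
    rw [← QuotientGroup.mk_mul, ← QuotientGroup.mk_mul, mem_cent_singleton'.mp c.2]
  have hker : Nat.card f.ker = Nat.card ↥(N ⊓ C) := by
    apply Nat.card_congr
    exact {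
      toFun := fun c => ⟨(c : C), (QuotientGroup.eq_one_iff _).mp c.2, (c : C).2⟩
      invFun := fun d => ⟨⟨d.1, d.2.2⟩, (QuotientGroup.eq_one_iff _).mpr d.2.1⟩
      left_inv := fun c => rfl
      right_inv := fun d => rfl }
  have h1 := Subgroup.card_eq_card_quotient_mul_card_subgroup f.ker
  have h2 : Nat.card (C ⧸ f.ker) = Nat.card f.range :=
    Nat.card_congr (QuotientGroup.quotientKerEquivRange f).toEquiv
  have h3 : Nat.card f.range ≤ Nat.card (centralizer ({(QuotientGroup.mk a : X ⧸ N)} : Set (X ⧸ N))) :=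
    Subgroup.card_le_of_le hrange
  rw [h1, h2, hker]
  exact Nat.mul_le_mul_right _ h3

/-- coset lemma: commuting pairs (a, n) with a in a fixed coset and n ∈ N -/
theorem coset_count_le [Finite X] (N : Subgroup X) [N.Normal] (q : X ⧸ N) (n : X) (hn : n ∈ N) :
    Nat.card {a : X // (QuotientGroup.mk a : X ⧸ N) = q ∧ Commute a n} ≤
      Nat.card ↥(N ⊓ centralizer ({n} : Set X)) := by
  by_cases hemp : IsEmpty {a : X // (QuotientGroup.mk a : X ⧸ N) = q ∧ Commute a n}
  · rw [Nat.card_of_isEmpty]; exact Nat.zero_le _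
  rw [not_isEmpty_iff] at hemp
  obtain ⟨⟨a0, ha0q, ha0n⟩⟩ := hemp
  refine Nat.card_le_card_of_injective
    (fun a => ⟨a0⁻¹ * (a : X), ?_, ?_⟩) ?_
  · have : (QuotientGroup.mk a0 : X ⧸ N) = QuotientGroup.mk (a : X) := by rw [ha0q, a.2.1]
    exact QuotientGroup.eq.mp this
  · show a0⁻¹ * (a : X) ∈ centralizer ({n} : Set X)
    rw [mem_cent_singleton']
    have h1 : Commute (a0⁻¹ * (a : X)) n := (ha0n.inv_left).mul_left a.2.2
    exact h1.symm.eq
  · intro a b hab
    have := congrArg Subtype.val hab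
    simp only [mul_right_inj] at this
    exact Subtype.ext this


def equivW1 (N : Subgroup X) [N.Normal] (q : X ⧸ N) :
    {p : X × X // (QuotientGroup.mk p.1 : X ⧸ N) = q ∧ p.2 ∈ N ∧ Commute p.1 p.2} ≃
    Σ a : {a : X // (QuotientGroup.mk a : X ⧸ N) = q}, ↥(N ⊓ centralizer ({(a : X)} : Set X)) where
  toFun p := ⟨⟨p.1.1, p.2.1⟩, ⟨p.1.2, p.2.2.1, mem_cent_singleton'.mpr p.2.2.2.eq⟩⟩
  invFun s := ⟨(s.1.1, s.2.1), s.1.2, s.2.2.1, mem_cent_singleton'.mp s.2.2.2⟩
  left_inv _ := rfl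
  right_inv _ := rfl

def equivW2 (N : Subgroup X) [N.Normal] (q : X ⧸ N) :
    {p : X × X // (QuotientGroup.mk p.1 : X ⧸ N) = q ∧ p.2 ∈ N ∧ Commute p.1 p.2} ≃
    Σ n : N, {a : X // (QuotientGroup.mk a : X ⧸ N) = q ∧ Commute a (n : X)} where
  toFun p := ⟨⟨p.1.2, p.2.2.1⟩, ⟨p.1.1, p.2.1, p.2.2.2⟩⟩
  invFun s := ⟨(s.2.1, s.1.1), s.2.2.1, s.1.2, s.2.2.2⟩
  left_inv _ := rfl
  right_inv _ := rfl

theorem fiber_sum_le [Finite X] (N : Subgroup X) [N.Normal] (q : X ⧸ N) :
    Nat.card {p : X × X // (QuotientGroup.mk p.1 : X ⧸ N) = q ∧ p.2 ∈ N ∧ Commute p.1 p.2} ≤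
      Nat.card (ConjClasses N) * Nat.card N := by
  classical
  haveI : Fintype N := Fintype.ofFinite N
  rw [← card_comm_eq_card_conjClasses_mul_card N, Nat.card_congr (equivTY N), Nat.card_sigma,
    Nat.card_congr (equivW2 N q), Nat.card_sigma]
  exact Finset.sum_le_sum (fun n _ => coset_count_le N q (n : X) n.2)

theorem conjClasses_le_mul [Finite X] (N : Subgroup X) [N.Normal] :
    Nat.card (ConjClasses X) ≤ Nat.card (ConjClasses N) * Nat.card (ConjClasses (X ⧸ N)) := by
  classical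
  haveI : Fintype X := Fintype.ofFinite X
  haveI : Fintype (X ⧸ N) := Fintype.ofFinite _
  set B := Nat.card (ConjClasses N) * Nat.card N with hB
  let F : X ⧸ N → ℕ := fun q => Nat.card (centralizer ({q} : Set (X ⧸ N)))
  let G : X → ℕ := fun a => Nat.card ↥(N ⊓ centralizer ({a} : Set X))
  have e1 : Nat.card (ConjClasses X) * Nat.card X = ∑ a : X, Nat.card (centralizer ({a} : Set X)) := by
    rw [← card_comm_eq_card_conjClasses_mul_card X, Nat.card_congr equivTX, Nat.card_sigma]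
  have e2 : Nat.card (ConjClasses (X ⧸ N)) * Nat.card (X ⧸ N) = ∑ q : X ⧸ N, F q := by
    rw [← card_comm_eq_card_conjClasses_mul_card (X ⧸ N), Nat.card_congr equivTX, Nat.card_sigma]
  have s1 : ∑ a : X, Nat.card (centralizer ({a} : Set X)) ≤ ∑ a : X, F (QuotientGroup.mk a) * G a :=
    Finset.sum_le_sum (fun a _ => card_cent_le_quot N a)
  have s2 : ∑ a : X, F (QuotientGroup.mk a) * G a =
      ∑ q : X ⧸ N, ∑ a ∈ Finset.univ.filter (fun a : X => (QuotientGroup.mk a : X ⧸ N) = q),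
        F (QuotientGroup.mk a) * G a :=
    (Finset.sum_fiberwise _ _ _).symm
  have s3 : ∀ q : X ⧸ N, ∑ a ∈ Finset.univ.filter (fun a : X => (QuotientGroup.mk a : X ⧸ N) = q),
        F (QuotientGroup.mk a) * G a ≤ F q * B := by
    intro q
    have h1 : ∑ a ∈ Finset.univ.filter (fun a : X => (QuotientGroup.mk a : X ⧸ N) = q),
        F (QuotientGroup.mk a) * G a =
        F q * ∑ a ∈ Finset.univ.filter (fun a : X => (QuotientGroup.mk a : X ⧸ N) = q), G a := by
      rw [Finset.mul_sum]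
      apply Finset.sum_congr rfl
      intro a ha
      rw [(Finset.mem_filter.mp ha).2]
    rw [h1]
    apply Nat.mul_le_mul_left
    have h2 : ∑ a ∈ Finset.univ.filter (fun a : X => (QuotientGroup.mk a : X ⧸ N) = q), G a =
        ∑ a : {a : X // (QuotientGroup.mk a : X ⧸ N) = q}, G (a : X) :=
      Finset.sum_subtype _ (fun x => by simp) _
    rw [h2]
    have h3 := fiber_sum_le N q
    rw [Nat.card_congr (equivW1 N q), Nat.card_sigma] at h3
    exact h3
  have total : Nat.card (ConjClasses X) * Nat.card X ≤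
      (Nat.card (ConjClasses (X ⧸ N)) * Nat.card (X ⧸ N)) * B := by
    rw [e1, e2, Finset.sum_mul]
    calc ∑ a : X, Nat.card (centralizer ({a} : Set X)) ≤ ∑ a : X, F (QuotientGroup.mk a) * G a := s1
      _ = _ := s2
      _ ≤ ∑ q : X ⧸ N, F q * B := Finset.sum_le_sum (fun q _ => s3 q)
  have hcard : Nat.card X = Nat.card (X ⧸ N) * Nat.card N :=
    Subgroup.card_eq_card_quotient_mul_card_subgroup N
  have hpos : 0 < Nat.card X := Nat.card_pos
  have : Nat.card (ConjClasses X) * Nat.card X ≤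
      (Nat.card (ConjClasses N) * Nat.card (ConjClasses (X ⧸ N))) * Nat.card X := by
    calc Nat.card (ConjClasses X) * Nat.card X
        ≤ (Nat.card (ConjClasses (X ⧸ N)) * Nat.card (X ⧸ N)) * B := total
      _ = (Nat.card (ConjClasses N) * Nat.card (ConjClasses (X ⧸ N))) * (Nat.card (X ⧸ N) * Nat.card N) := by
          rw [hB]; ring
      _ = _ := by rw [← hcard]
  exact Nat.le_of_mul_le_mul_right this hpos

end
end Cfsg.Agent.Lib.helper23
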