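import Mathlib

set_option autoImplicit false

namespace Cfsg.Agent.Lib.helper23

variable {G : Type*} [Group G]

theorem exists_forall_conj_notMem [Finite G] (M : Subgroup G) (hM : M ≠ ⊤) :
    ∃ g : G, ∀ x : G, x⁻¹ * g * x ∉ M := by
  classical
  by_contra hcon
  push Not at hcon
  have : Fintype G := Fintype.ofFinite G
  have : Fintype (G ⧸ M) := Fintype.ofFinite _
  have : ∀ g : G, Fintype (MulAction.fixedBy (G ⧸ M) g) := fun g => Fintype.ofFinite _
  have : Fintype (Quotient (MulAction.orbitRel G (G ⧸ M))) := Fintype.ofFinite _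
  have hB := MulAction.sum_card_fixedBy_eq_card_orbits_mul_card_group G (G ⧸ M)
  have h1 : Fintype.card (Quotient (MulAction.orbitRel G (G ⧸ M))) = 1 := by
    rw [Fintype.card_eq_one_iff_nonempty_unique]
    have : Nonempty (G ⧸ M) := ⟨QuotientGroup.mk 1⟩
    exact (MulAction.pretransitive_iff_unique_quotient_of_nonempty G (G ⧸ M)).mp inferInstance
  rw [h1, one_mul] at hB
  have hge : ∀ g ∈ (Finset.univ : Finset G), (fun _ => 1) g ≤
      (fun g => Fintype.card (MulAction.fixedBy (G ⧸ M) g)) g := by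
    intro g _
    obtain ⟨x, hx⟩ := hcon g
    apply Fintype.card_pos_iff.mpr
    refine ⟨⟨QuotientGroup.mk x, ?_⟩⟩
    rw [MulAction.mem_fixedBy]
    show (QuotientGroup.mk (g * x) : G ⧸ M) = QuotientGroup.mk x
    rw [QuotientGroup.eq]
    have : (g * x)⁻¹ * x = (x⁻¹ * g * x)⁻¹ := by group
    rw [this]
    exact M.inv_mem hx
  have hsum : ∑ g : G, (fun _ => 1) g = ∑ g : G, Fintype.card (MulAction.fixedBy (G ⧸ M) g) := by
    rw [hB]
    simp only [Finset.sum_const, Finset.card_univ, smul_eq_mul, mul_one]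
  have hall : 1 = Fintype.card (MulAction.fixedBy (G ⧸ M) (1 : G)) :=
    (Finset.sum_eq_sum_iff_of_le hge).mp hsum 1 (Finset.mem_univ _)
  have h2 : Fintype.card (MulAction.fixedBy (G ⧸ M) (1 : G)) = Fintype.card (G ⧸ M) := by
    apply Fintype.card_congr
    refine (Equiv.subtypeUnivEquiv ?_)
    intro x
    rw [MulAction.mem_fixedBy, one_smul]
  rw [h2] at hall
  have h3 : M.index = 1 := by
    rw [Subgroup.index, Nat.card_eq_fintype_card]
    exact hall.symm
  exact hM (Subgroup.index_eq_one.mp h3)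

end Cfsg.Agent.Lib.helper23
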