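import Mathlib
import Cfsg.Agent.Lib.helper23.FrobSemi

set_option autoImplicit false

namespace Cfsg.Agent.Lib.helper23

open Finset

theorem key_identity {A : Type*} [Ring A] (x : A) (n : ℕ) :
    (∑ i ∈ range n, (i : A) * x ^ i) * (x - 1) + (∑ i ∈ range n, x ^ i) * x = (n : A) * x ^ n := by
  induction n with
  | zero => simp
  | succ n ih =>
    rw [Finset.sum_range_succ, Finset.sum_range_succ, add_mul, add_mul]
    have h1 : (∑ i ∈ range n, (i : A) * x ^ i) * (x - 1) + (n : A) * x ^ n * (x - 1) +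
        ((∑ i ∈ range n, x ^ i) * x + x ^ n * x) =
        ((∑ i ∈ range n, (i : A) * x ^ i) * (x - 1) + (∑ i ∈ range n, x ^ i) * x) +
        ((n : A) * x ^ n * (x - 1) + x ^ n * x) := by abel
    rw [h1, ih, pow_succ]
    push_cast
    noncomm_ring

/-- In a ring without zero divisors, if `x ≠ 1` and `x ^ n = 1`, then `x - 1` divides `n`
from the left. -/
theorem exists_mul_sub_one_eq {A : Type*} [Ring A] [NoZeroDivisors A] (x : A) (n : ℕ)
    (hx : x ≠ 1) (hn : x ^ n = 1) :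
    (∑ i ∈ range n, (i : A) * x ^ i) * (x - 1) = (n : A) := by
  have hg : (∑ i ∈ range n, x ^ i) * (x - 1) = 0 := by
    rw [geom_sum_mul, hn, sub_self]
  have hg' : (∑ i ∈ range n, x ^ i) = 0 := by
    rcases mul_eq_zero.mp hg with h | h
    · exact h
    · exact absurd (sub_eq_zero.mp h) hx
  have := key_identity x n
  rw [hg', zero_mul, add_zero, hn, mul_one] at this
  exact this

section divring

variable {D : Type*} [DivisionRing D]

/-- choice of the auxiliary prime -/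
theorem exists_aux_prime (H : Subgroup Dˣ) [Finite H] :
    ∃ ℓ : ℕ, ℓ.Prime ∧ ¬ ℓ ∣ Nat.card H ∧ (ringChar D = 0 ∨ ringChar D = ℓ) := by
  haveI := ringChar.charP D
  rcases CharP.char_is_prime_or_zero D (ringChar D) with hc | hc
  · refine ⟨ringChar D, hc, ?_, Or.inr rfl⟩
    intro hdvd
    haveI : Fact (ringChar D).Prime := ⟨hc⟩
    obtain ⟨h, hh⟩ := exists_prime_orderOf_dvd_card' (ringChar D) hdvd
    have h1 : (((h : Dˣ) : D)) ^ (ringChar D) = 1 := by
      have := pow_orderOf_eq_one h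
      rw [hh] at this
      have h2 := congrArg (fun z : H => ((z : Dˣ) : D)) this
      simpa using h2
    have h3 : (((h : Dˣ) : D) - 1) ^ (ringChar D) = 0 := by
      rw [sub_pow_char_of_commute (ringChar D) (Commute.one_right _), h1, one_pow, sub_self]
    have h4 : ((h : Dˣ) : D) - 1 = 0 := pow_eq_zero_iff hc.ne_zero |>.mp h3
    have h5 : h = 1 := by
      apply Subtype.ext
      apply Units.ext
      simpa using sub_eq_zero.mp h4
    rw [h5, orderOf_one] at hh
    exact hc.one_lt.ne hh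
  · obtain ⟨ℓ, hℓ1, hℓ2⟩ := Nat.exists_infinite_primes (Nat.card H + 1)
    refine ⟨ℓ, hℓ2, ?_, Or.inl hc⟩
    exact Nat.not_dvd_of_pos_of_lt Nat.card_pos (by omega)

/-- the submonoid of `D` consisting of the elements of `H` -/
def unitSubmonoid (H : Subgroup Dˣ) : Submonoid D := H.toSubmonoid.map (Units.coeHom D)

/-- the subring generated by `H` -/
def unitRing (H : Subgroup Dˣ) : Subalgebra ℤ D := Algebra.adjoin ℤ (unitSubmonoid H : Set D)

theorem coe_mem_unitRing (H : Subgroup Dˣ) (h : H) : ((h : Dˣ) : D) ∈ unitRing H :=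
  Algebra.subset_adjoin ⟨h.1, h.2, rfl⟩

theorem unitRing_fg (H : Subgroup Dˣ) [Finite H] : (Subalgebra.toSubmodule (unitRing H)).FG := by
  rw [unitRing, Algebra.adjoin_eq_span, Submonoid.closure_eq]
  apply Submodule.fg_span
  have : (unitSubmonoid H : Set D) = Set.range (fun h : H => ((h : Dˣ) : D)) := by
    ext x
    constructor
    · rintro ⟨u, hu, rfl⟩
      exact ⟨⟨u, hu⟩, rfl⟩
    · rintro ⟨h, rfl⟩
      exact ⟨h.1, h.2, rfl⟩
  rw [this]
  exact Set.finite_range _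

/-- the ideal generated by `ℓ` in the subring generated by `H` -/
def auxIdeal (H : Subgroup Dˣ) (ℓ : ℕ) : Ideal (unitRing H) := Ideal.span {((ℓ : ℕ) : unitRing H)}

instance auxIdeal_isTwoSided (H : Subgroup Dˣ) (ℓ : ℕ) : (auxIdeal H ℓ).IsTwoSided := by
  refine ⟨fun {a} b ha => ?_⟩
  rw [auxIdeal, Ideal.mem_span_singleton'] at ha ⊢
  obtain ⟨c, rfl⟩ := ha
  refine ⟨c * b, ?_⟩
  rw [mul_assoc, mul_assoc, Nat.cast_comm]

theorem auxIdeal_ne_top (H : Subgroup Dˣ) [Finite H] (ℓ : ℕ) (hℓ : ℓ.Prime)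
    (hchar : ringChar D = 0 ∨ ringChar D = ℓ) : auxIdeal H ℓ ≠ ⊤ := by
  intro htop
  have h1 : (1 : unitRing H) ∈ auxIdeal H ℓ := by rw [htop]; exact Submodule.mem_top
  rw [auxIdeal, Ideal.mem_span_singleton'] at h1
  obtain ⟨r, hr⟩ := h1
  have hr' : (r : D) * (ℓ : D) = 1 := by
    have := congrArg (fun z : unitRing H => (z : D)) hr
    simpa using this
  set N : Submodule ℤ D := Subalgebra.toSubmodule (unitRing H) with hN
  have hin : N ≤ (Ideal.span {(ℓ : ℤ)}) • N := by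
    intro x hx
    have hx' : x ∈ unitRing H := hx
    have h2 : x = (ℓ : ℤ) • ((r : D) * x) := by
      rw [zsmul_eq_mul, Int.cast_natCast, ← mul_assoc, Nat.cast_comm, hr', one_mul]
    rw [h2]
    apply Submodule.smul_mem_smul (Ideal.mem_span_singleton_self _)
    exact (unitRing H).mul_mem r.2 hx'
  obtain ⟨a, ha1, ha2⟩ :=
    Submodule.exists_sub_one_mem_and_smul_eq_zero_of_fg_of_le_smul _ N (unitRing_fg H) hin
  have h3 := ha2 1 (unitRing H).one_mem
  rw [zsmul_eq_mul, mul_one] at h3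
  haveI := ringChar.charP D
  rw [CharP.intCast_eq_zero_iff D (ringChar D)] at h3
  rw [Ideal.mem_span_singleton] at ha1
  rcases hchar with hc | hc
  · rw [hc, Nat.cast_zero, zero_dvd_iff] at h3
    rw [h3, zero_sub] at ha1
    have : (ℓ : ℤ) ∣ 1 := (dvd_neg.mp ha1)
    have h4 : ℓ ∣ 1 := by exact_mod_cast this
    exact hℓ.one_lt.ne' (Nat.dvd_one.mp h4)
  · rw [hc] at h3
    have : (ℓ : ℤ) ∣ 1 := by
      have := dvd_sub h3 ha1
      simpa using this
    have h4 : ℓ ∣ 1 := by exact_mod_cast this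
    exact hℓ.one_lt.ne' (Nat.dvd_one.mp h4)

theorem nsmul_mk_eq_zero (H : Subgroup Dˣ) (ℓ : ℕ) (m : unitRing H ⧸ auxIdeal H ℓ) :
    ℓ • m = 0 := by
  obtain ⟨r, rfl⟩ := Ideal.Quotient.mk_surjective m
  rw [← map_nsmul, Ideal.Quotient.eq_zero_iff_mem, auxIdeal, Ideal.mem_span_singleton']
  exact ⟨r, by rw [nsmul_eq_mul, Nat.cast_comm]⟩

theorem finite_quotient (H : Subgroup Dˣ) [Finite H] (ℓ : ℕ) (hℓ : ℓ.Prime) :
    Finite (unitRing H ⧸ auxIdeal H ℓ) := by
  haveI : Module.Finite ℤ (unitRing H) :=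
    (Module.Finite.iff_fg (N := Subalgebra.toSubmodule (unitRing H))).mpr (unitRing_fg H)
  haveI : AddGroup.FG (unitRing H) := Module.Finite.iff_addGroup_fg.mp inferInstance
  haveI : AddGroup.FG (unitRing H ⧸ auxIdeal H ℓ) :=
    AddGroup.fg_of_surjective (f := (Ideal.Quotient.mk (auxIdeal H ℓ)).toAddMonoidHom)
      Ideal.Quotient.mk_surjective
  apply AddCommGroup.finite_of_fg_isAddTorsion
  intro m
  rw [isOfFinAddOrder_iff_nsmul_eq_zero]
  exact ⟨ℓ, hℓ.pos, nsmul_mk_eq_zero H ℓ m⟩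

/-- the homomorphism from `H` to the quotient ring -/
def toQuot (H : Subgroup Dˣ) (ℓ : ℕ) : H →* (unitRing H ⧸ auxIdeal H ℓ) where
  toFun h := Ideal.Quotient.mk (auxIdeal H ℓ) ⟨((h : Dˣ) : D), coe_mem_unitRing H h⟩
  map_one' := by
    rw [← map_one (Ideal.Quotient.mk (auxIdeal H ℓ))]
    congr 1
  map_mul' := fun a b => by
    rw [← map_mul (Ideal.Quotient.mk (auxIdeal H ℓ))]
    congr 1

/-- the action of `H` on the additive group of the quotient ring -/
noncomputable def quotAction (H : Subgroup Dˣ) (ℓ : ℕ) :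
    H →* MulAut (Multiplicative (unitRing H ⧸ auxIdeal H ℓ)) :=
  (MulAutMultiplicative (unitRing H ⧸ auxIdeal H ℓ)).symm.toMonoidHom.comp
    (AddAut.mulLeft.comp (toQuot H ℓ).toHomUnits)

theorem quotAction_apply (H : Subgroup Dˣ) (ℓ : ℕ) (h : H)
    (m : Multiplicative (unitRing H ⧸ auxIdeal H ℓ)) :
    quotAction H ℓ h m = Multiplicative.ofAdd (toQuot H ℓ h * m.toAdd) := rfl

theorem quotAction_free (H : Subgroup Dˣ) [Finite H] (ℓ : ℕ) (hℓ : ℓ.Prime)
    (hdvd : ¬ ℓ ∣ Nat.card H) (h : H) (hh : h ≠ 1)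
    (m : Multiplicative (unitRing H ⧸ auxIdeal H ℓ)) (hm : quotAction H ℓ h m = m) : m = 1 := by
  rw [quotAction_apply] at hm
  have hm' : toQuot H ℓ h * m.toAdd = m.toAdd := congrArg Multiplicative.toAdd hm
  obtain ⟨r, hr⟩ := Ideal.Quotient.mk_surjective m.toAdd
  set x : unitRing H := ⟨((h : Dˣ) : D), coe_mem_unitRing H h⟩ with hx
  have hx1 : x ≠ 1 := by
    intro h1
    apply hh
    apply Subtype.ext
    apply Units.ext
    have := congrArg (fun z : unitRing H => (z : D)) h1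
    simpa [hx] using this
  have hxn : x ^ Nat.card H = 1 := by
    apply Subtype.ext
    have h2 : h ^ Nat.card H = 1 := pow_card_eq_one'
    rw [SubmonoidClass.coe_pow]
    change ((h : Dˣ) : D) ^ Nat.card H = 1
    rw [← Units.val_pow_eq_pow_val, ← Subgroup.coe_pow, h2]
    rfl
  have hkey := exists_mul_sub_one_eq x (Nat.card H) hx1 hxn
  -- (x - 1) * r ∈ I
  have h4 : (x - 1) * r ∈ auxIdeal H ℓ := by
    rw [← Ideal.Quotient.eq_zero_iff_mem, map_mul, map_sub, map_one, hr, sub_mul, one_mul,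
      sub_eq_zero]
    exact hm'
  have h5 : ((Nat.card H : ℕ) : unitRing H) * r ∈ auxIdeal H ℓ := by
    rw [← hkey, mul_assoc]
    exact Ideal.mul_mem_left _ _ h4
  have h6 : (Nat.card H) • m.toAdd = 0 := by
    rw [← hr, ← map_nsmul, Ideal.Quotient.eq_zero_iff_mem, nsmul_eq_mul]
    exact h5
  have h7 : ℓ • m.toAdd = 0 := nsmul_mk_eq_zero H ℓ _
  have h8 : addOrderOf m.toAdd ∣ Nat.gcd (Nat.card H) ℓ :=
    Nat.dvd_gcd (addOrderOf_dvd_of_nsmul_eq_zero h6) (addOrderOf_dvd_of_nsmul_eq_zero h7)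
  have h9 : Nat.gcd (Nat.card H) ℓ = 1 := by
    rw [Nat.gcd_comm]
    exact (Nat.Prime.coprime_iff_not_dvd hℓ).mpr hdvd
  rw [h9, Nat.dvd_one, AddMonoid.addOrderOf_eq_one_iff] at h8
  exact congrArg Multiplicative.ofAdd h8

/-- A nontrivial finite subgroup of the multiplicative group of a division ring is a Frobenius
complement in a finite group. -/
theorem exists_frobenius_of_divisionRing (H : Subgroup Dˣ) [Finite H] (hH : H ≠ ⊥) :
    ∃ (L : Type) (_ : Group L) (_ : Finite L) (C : Subgroup L),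
      Cfsg.IsFrobeniusComplement C ∧ Nonempty (H ≃* C) := by
  obtain ⟨ℓ, hℓ, hdvd, hchar⟩ := exists_aux_prime H
  haveI : Finite (unitRing H ⧸ auxIdeal H ℓ) := finite_quotient H ℓ hℓ
  haveI : Nontrivial (unitRing H ⧸ auxIdeal H ℓ) :=
    Ideal.Quotient.nontrivial_iff.mpr (auxIdeal_ne_top H ℓ hℓ hchar)
  haveI : Nontrivial (Multiplicative (unitRing H ⧸ auxIdeal H ℓ)) := inferInstance
  haveI : Nontrivial H := (Subgroup.nontrivial_iff_ne_bot H).mpr hH
  have hF := isFrobeniusComplement_range_inr (quotAction H ℓ)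
    (fun h hh n hn => quotAction_free H ℓ hℓ hdvd h hh n hn)
  haveI : Finite (Multiplicative (unitRing H ⧸ auxIdeal H ℓ) ⋊[quotAction H ℓ] H) :=
    Finite.of_equiv _ SemidirectProduct.equivProd.symm
  obtain ⟨L', hg, hf, C', hC', ⟨e⟩⟩ := exists_frobenius_type_zero _ hF
  refine ⟨L', hg, hf, C', hC', ⟨?_⟩⟩
  exact (MonoidHom.ofInjective SemidirectProduct.inr_injective).trans e

end divring

end Cfsg.Agent.Lib.helper23
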