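import Mathlib
import Cfsg.Prelude.Def_SporadicB

set_option autoImplicit false

/-!
# A criterion for a non-split double cover
-/

namespace Cfsg.Agent.Lib.helper23

/-- a surjective homomorphism onto a group with trivial centre, whose kernel consists of the
identity and a central element that is a square, exhibits a non-split double cover -/
theorem isNonsplitDoubleCover_of_hom {H K : Type*} [Group H] [Group K] (ψ : H →* K)
    (hsurj : Function.Surjective ψ) (z : H) (hz1 : z ≠ 1) (hzc : z ∈ Subgroup.center H)
    (hker : ∀ h : H, ψ h = 1 → h = 1 ∨ h = z) (hψz : ψ z = 1)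
    (hK : Subgroup.center K = ⊥) (y : H) (hy : y * y = z) :
    Cfsg.IsNonsplitDoubleCover H K := by
  have hzz : z * z = 1 := by
    rcases hker (z * z) (by rw [map_mul, hψz, one_mul]) with h | h
    · exact h
    · exact absurd (mul_left_cancel (h.trans (mul_one z).symm)) hz1
  have hcen : Subgroup.center H = ψ.ker := by
    ext h
    rw [MonoidHom.mem_ker]
    constructor
    · intro hh
      have : ψ h ∈ Subgroup.center K := by
        rw [Subgroup.mem_center_iff]
        intro k
        obtain ⟨h', rfl⟩ := hsurj k
        rw [← map_mul, ← map_mul, (Subgroup.mem_center_iff.1 hh) h']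
      rw [hK, Subgroup.mem_bot] at this
      exact this
    · intro hh
      rcases hker h hh with rfl | rfl
      · exact one_mem _
      · exact hzc
  have hmem : ∀ c ∈ Subgroup.center H, c = 1 ∨ c = z := by
    intro c hc
    rw [hcen, MonoidHom.mem_ker] at hc
    exact hker c hc
  refine ⟨?_, ?_, ?_⟩
  · rw [Nat.card_eq_two_iff]
    refine ⟨1, ⟨z, hzc⟩, ?_, ?_⟩
    · intro h
      exact hz1 (congrArg Subtype.val h).symm
    · ext c
      simp only [Set.mem_insert_iff, Set.mem_singleton_iff, Set.mem_univ, iff_true]
      rcases hmem c.1 c.2 with h | h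
      · left; exact Subtype.ext h
      · right; exact Subtype.ext h
  · exact ⟨(QuotientGroup.quotientMulEquivOfEq hcen).trans
      (QuotientGroup.quotientKerEquivOfSurjective ψ hsurj)⟩
  · intro L hL
    have hbij := hL
    rw [Subgroup.IsComplement', Subgroup.isComplement_iff_bijective] at hbij
    obtain ⟨⟨c, l⟩, hcl⟩ := hbij.2 y
    have hcl' : c.1 * l.1 = y := hcl
    have hcc : c.1 * c.1 = 1 := by
      rcases hmem c.1 c.2 with h | h
      · rw [h, one_mul]
      · rw [h, hzz]
    have hc : ∀ g : H, g * c.1 = c.1 * g := Subgroup.mem_center_iff.1 c.2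
    have hzl : z = l.1 * l.1 := by
      rw [← hy, ← hcl']
      calc c.1 * l.1 * (c.1 * l.1) = c.1 * (l.1 * c.1) * l.1 := by group
        _ = c.1 * (c.1 * l.1) * l.1 := by rw [hc l.1]
        _ = (c.1 * c.1) * (l.1 * l.1) := by group
        _ = l.1 * l.1 := by rw [hcc, one_mul]
    have hzL : z ∈ L := by
      rw [hzl]
      exact L.mul_mem l.2 l.2
    have hdis := hL.disjoint
    have : z ∈ Subgroup.center H ⊓ L := ⟨hzc, hzL⟩
    rw [hdis.eq_bot, Subgroup.mem_bot] at this
    exact hz1 this

end Cfsg.Agent.Lib.helper23
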