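import Mathlib
import Cfsg.Prelude.Def_GeometricClasses
import Cfsg.Agent.Lib.Helper27.ASC.Defs
import Cfsg.Agent.Lib.helper23.ASCO.Defs
import Cfsg.Agent.Lib.Helper19.ASG.Defs
import Cfsg.Agent.Lib.Helper1.ASGCLIF3
import Cfsg.Agent.Lib.Helper25.ASO.Defs
import Cfsg.Agent.Lib.helper23.ASE.Defs
import Cfsg.Agent.Lib.Helper20.ASE10M.Defs
import Cfsg.Agent.Lib.helper23.E10MF5COORD

/-! E10M piece F5-COORDE (helper23). -/

set_option autoImplicit false
set_option linter.unusedVariables false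
set_option linter.unusedSectionVars false

namespace Cfsg.Agent.Lib.Helper16.E10M

open Cfsg Cfsg.Geo Cfsg.Agent.Lib.Helper27.ASC Cfsg.Agent.Lib.helper23.ASCO Cfsg.Agent.Lib.Helper19.ASG
  Cfsg.Agent.Lib.Helper25.ASO
open scoped MatrixGroups Matrix Kronecker

variable {n : ℕ} {F : Type*} [Field F] [Fintype F]

open scoped IsMulCommutative in
/-- squaring is bijective on a finite field subalgebra in characteristic 2 -/
theorem e10mf5coorde_sq_bij (h2 : (2 : F) = 0) {r : ℕ} (K : Subalgebra F (Matrix (Fin n) (Fin n) F))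
    (hK : IsFieldSubalgebra r K) : Function.Bijective (fun a : K => a * a) := by
  classical
  haveI : IsMulCommutative K := ⟨⟨fun x y => Subtype.ext (hK.comm x x.2 y y.2)⟩⟩
  have hdbl : ∀ z : K, z + z = 0 := fun z => by rw [← two_smul F z, h2, zero_smul]
  have hinj : Function.Injective (fun a : K => a * a) := by
    intro a b hab
    have hab' : a * a = b * b := hab
    have h0 : (a - b) * (a - b) = 0 := by
      have e : (a - b) * (a - b) = a * a + b * b - (a * b + a * b) := by ring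
      rw [e, hab', hdbl, hdbl, sub_zero]
    by_contra hne
    have hne' : ((a - b : K) : Matrix (Fin n) (Fin n) F) ≠ 0 := by
      intro h0'
      apply hne
      have : a - b = 0 := Subtype.ext h0'
      exact sub_eq_zero.mp this
    obtain ⟨y', hy', hy1⟩ := hK.inv _ (a - b).2 hne'
    apply hne'
    have h0m : ((a - b : K) : Matrix (Fin n) (Fin n) F) * ((a - b : K) : Matrix (Fin n) (Fin n) F) = 0 :=
      congrArg Subtype.val h0
    calc ((a - b : K) : Matrix (Fin n) (Fin n) F)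
        = ((a - b : K) : Matrix (Fin n) (Fin n) F) * (((a - b : K) : Matrix (Fin n) (Fin n) F) * y') := by
          rw [hy1, mul_one]
      _ = 0 := by rw [← mul_assoc, h0m, zero_mul]
  exact ⟨hinj, Finite.injective_iff_surjective.mp hinj⟩

open scoped IsMulCommutative in
/-- characteristic 2: an additive map `g` on `K` with `g (c a) = c² g a` is `a ↦ lam (a²)` for an `F`-linear `lam` -/
theorem e10mf5coorde_lin (h2 : (2 : F) = 0) {r : ℕ} (K : Subalgebra F (Matrix (Fin n) (Fin n) F))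
    (hK : IsFieldSubalgebra r K) (g : K → F) (hadd : ∀ a b : K, g (a + b) = g a + g b)
    (hsm : ∀ (c : F) (a : K), g (c • a) = c * c * g a) :
    ∃ lam : K →ₗ[F] F, ∀ a : K, lam (a * a) = g a := by
  classical
  haveI : IsMulCommutative K := ⟨⟨fun x y => Subtype.ext (hK.comm x x.2 y y.2)⟩⟩
  have hbij := e10mf5coorde_sq_bij h2 K hK
  let e : K ≃ K := Equiv.ofBijective _ hbij
  have he : ∀ a : K, e a = a * a := fun a => rfl
  have hdbl : ∀ z : K, z + z = 0 := fun z => by rw [← two_smul F z, h2, zero_smul]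
  have hes_add : ∀ k k' : K, e.symm (k + k') = e.symm k + e.symm k' := by
    intro k k'
    apply e.injective
    rw [e.apply_symm_apply, he]
    have h1 : (e.symm k + e.symm k') * (e.symm k + e.symm k') =
        e.symm k * e.symm k + e.symm k' * e.symm k' + (e.symm k * e.symm k' + e.symm k * e.symm k') := by ring
    rw [h1, hdbl, add_zero, ← he, ← he, e.apply_symm_apply, e.apply_symm_apply]
  have hFsq : ∀ c : F, ∃ d : F, d * d = c := by
    have hinjF : Function.Injective (fun d : F => d * d) := by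
      intro d d' hdd
      have hdd' : d * d = d' * d' := hdd
      have h0 : (d - d') * (d - d') = 0 := by
        have e1 : (d - d') * (d - d') = d * d + d' * d' - 2 * (d * d') := by ring
        rw [e1, hdd', h2, zero_mul, sub_zero, ← two_mul, h2, zero_mul]
      exact sub_eq_zero.mp (mul_self_eq_zero.mp h0)
    exact Finite.injective_iff_surjective.mp hinjF
  have hes_smul : ∀ (c d : F) (k : K), d * d = c → e.symm (c • k) = d • e.symm k := by
    intro c d k hd
    apply e.injective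
    rw [e.apply_symm_apply, he, smul_mul_smul_comm, hd, ← he, e.apply_symm_apply]
  refine ⟨{ toFun := fun k => g (e.symm k)
            map_add' := fun k k' => by rw [hes_add, hadd]
            map_smul' := fun c k => by
              obtain ⟨d, hd⟩ := hFsq c
              rw [hes_smul c d k hd, hsm, hd, RingHom.id_apply, smul_eq_mul] }, fun a => ?_⟩
  show g (e.symm (a * a)) = g a
  rw [← he, e.symm_apply_apply]

theorem e10mf5coorde_coord_even (h2 : (2 : F) = 0) {r : ℕ} (hn : n = 2 * r) (hr : 0 < r) (Q : QuadraticForm F (Fin n → F))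
    (hQ : (QuadraticMap.polarBilin Q).Nondegenerate) (K : Subalgebra F (Matrix (Fin n) (Fin n) F))
    (hK : IsFieldSubalgebra r K) (hsa : ∀ k ∈ K, oadj (⇑Q) k = k)
    (halt : ∀ k ∈ K, ∀ v : Fin n → F, QuadraticMap.polar (⇑Q) (k *ᵥ v) v = 0) :
    ∃ (ℓ : Matrix (Fin n) (Fin n) F →ₗ[F] F) (v w : Fin n → F) (s β : Matrix (Fin n) (Fin n) F),
      EFieldCoord (⇑Q) K ℓ v w s β := by
  classical
  have hn0 : 0 < n := by omega
  obtain ⟨v, hv⟩ := Cfsg.Agent.Lib.helper23.ASE.ased1inv_exists_nonsing hn0 Q hQ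
  have hv0 : v ≠ 0 := by
    rintro rfl
    exact hv (map_zero Q)
  obtain ⟨w, hinj⟩ := e10mf5coord_free hn hr K hK v hv0
  have hsa' := e10mf5coord_sa Q hQ K hsa
  have hQadd : ∀ x y : Fin n → F, Q (x + y) = Q x + Q y + QuadraticMap.polar (⇑Q) x y := by
    intro x y
    unfold QuadraticMap.polar
    ring
  have hgadd : ∀ z : Fin n → F, ∀ a b : K, Q (((a + b : K) : Matrix (Fin n) (Fin n) F) *ᵥ z) =
      Q ((a : Matrix (Fin n) (Fin n) F) *ᵥ z) + Q ((b : Matrix (Fin n) (Fin n) F) *ᵥ z) := by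
    intro z a b
    rw [Subalgebra.coe_add, Matrix.add_mulVec, hQadd, hsa' _ _ a.2 b.2, halt _ (K.mul_mem b.2 a.2), add_zero]
  have hgsm : ∀ z : Fin n → F, ∀ (c : F) (a : K), Q (((c • a : K) : Matrix (Fin n) (Fin n) F) *ᵥ z) =
      c * c * Q ((a : Matrix (Fin n) (Fin n) F) *ᵥ z) := by
    intro z c a
    rw [Subalgebra.coe_smul, Matrix.smul_mulVec, QuadraticMap.map_smul, smul_eq_mul]
  obtain ⟨lv, hlv⟩ := e10mf5coorde_lin h2 K hK (fun a => Q ((a : Matrix (Fin n) (Fin n) F) *ᵥ v)) (hgadd v) (hgsm v)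
  obtain ⟨lw, hlw⟩ := e10mf5coorde_lin h2 K hK (fun a => Q ((a : Matrix (Fin n) (Fin n) F) *ᵥ w)) (hgadd w) (hgsm w)
  obtain ⟨ℓ, hℓ⟩ := LinearMap.exists_extend (lv.comp (Subalgebra.toSubmoduleEquiv K).toLinearMap)
  have hℓK : ∀ k : K, ℓ (k : Matrix (Fin n) (Fin n) F) = lv k := by
    intro k
    have h := LinearMap.congr_fun hℓ ⟨(k : Matrix (Fin n) (Fin n) F), k.2⟩
    exact h
  have hℓ1 : ℓ 1 ≠ 0 := by
    have h1 := hℓK 1
    rw [Subalgebra.coe_one] at h1
    rw [h1]
    have h11 := hlv 1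
    rw [mul_one] at h11
    rw [h11]
    show Q (((1 : K) : Matrix (Fin n) (Fin n) F) *ᵥ v) ≠ 0
    rw [Subalgebra.coe_one, Matrix.one_mulVec]
    exact hv
  obtain ⟨hell, hrepr⟩ := efield_repr K hK hr ℓ ⟨1, K.one_mem, hℓ1⟩
  let φ₁ : K →ₗ[F] F :=
    { toFun := fun k => QuadraticMap.polar (⇑Q) ((k : Matrix (Fin n) (Fin n) F) *ᵥ v) w
      map_add' := by
        intro k k'
        simp only [Subalgebra.coe_add, Matrix.add_mulVec, QuadraticMap.polar_add_left]
      map_smul' := by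
        intro c k
        simp only [Subalgebra.coe_smul, Matrix.smul_mulVec, QuadraticMap.polar_smul_left, RingHom.id_apply] }
  obtain ⟨s, hs, hsφ⟩ := hrepr φ₁
  obtain ⟨β, hβ, hβφ⟩ := hrepr lw
  refine ⟨ℓ, v, w, s, β, ⟨hs, hβ, hell, hinj, fun x => efield_surj hn K hK.finrank_eq v w hinj x, ?_⟩⟩
  intro a ha b hb
  have e1 : Q (a *ᵥ v) = ℓ (a * a) := by
    have h := hlv ⟨a, ha⟩
    have h' : ℓ (a * a) = lv (⟨a, ha⟩ * ⟨a, ha⟩) := hℓK (⟨a, ha⟩ * ⟨a, ha⟩)
    rw [h', h]
  have e3 : Q (b *ᵥ w) = ℓ (β * (b * b)) := by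
    have h := hlw ⟨b, hb⟩
    have h' := hβφ (⟨b, hb⟩ * ⟨b, hb⟩)
    have h'' : ℓ (β * (b * b)) = lw (⟨b, hb⟩ * ⟨b, hb⟩) := h'.symm
    rw [h'', h]
  have e2 : QuadraticMap.polar (⇑Q) (a *ᵥ v) (b *ᵥ w) = ℓ (s * (b * a)) := by
    rw [hsa' a b ha hb]
    exact hsφ ⟨b * a, K.mul_mem hb ha⟩
  have hcomm : b * a = a * b := hK.comm b hb a ha
  rw [hQadd, e1, e3, e2, hcomm, ← map_add, ← map_add]
  congr 1
  rw [mul_assoc s a b, mul_assoc β b b]
  abel

end Cfsg.Agent.Lib.Helper16.E10M
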