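import Mathlib
import Cfsg.Agent.Lib.Helper22.AxB
import Cfsg.Agent.Lib.Helper1.CFitting

set_option autoImplicit false

namespace Cfsg.Agent.Lib.helper23

open Cfsg.Agent.Lib.Helper22
open scoped commutatorElement

/-- Generalized Thompson `A × B` lemma for a nilpotent group `N` and an element `h` of coprime
order commuting with a subset `X ⊆ N`: if `h` centralizes `C_N(X)` then `h` centralizes `N`. -/
theorem eta_axb_nilpotent {G : Type*} [Group G] (N : Subgroup G) [Finite N]
    [hnil : Group.IsNilpotent N]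
    (X : Set G) (hX : X ⊆ N) (h : G) (hnorm : ∀ n ∈ N, h * n * h⁻¹ ∈ N)
    (hcomm : ∀ x ∈ X, h * x = x * h) (hord : (orderOf h).Coprime (Nat.card N))
    (hcent : ∀ n ∈ N, (∀ x ∈ X, n * x = x * n) → h * n = n * h) :
    ∀ n ∈ N, h * n = n * h := by
  obtain ⟨r, hr⟩ := hnil.nilpotent
  have key : ∀ i : ℕ, ∀ n : N, n ∈ Subgroup.upperCentralSeries N i → h * (n : G) = (n : G) * h := by
    intro i
    induction i with
    | zero =>
      intro n hn
      rw [Subgroup.upperCentralSeries_zero, Subgroup.mem_bot] at hn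
      rw [hn]; simp
    | succ i ih =>
      intro n hn
      rw [Subgroup.mem_upperCentralSeries_succ_iff] at hn
      set n' := h * (n : G) * h⁻¹ with hn'
      have hn'N : n' ∈ N := hnorm _ n.2
      set c := (n : G)⁻¹ * n' with hc
      have hcN : c ∈ N := N.mul_mem (N.inv_mem n.2) hn'N
      have hcx : ∀ x ∈ X, c * x = x * c := by
        intro x hx
        have hxN : x ∈ N := hX hx
        have hcomm' := hcomm x hx
        have h1 := ih _ (hn ⟨x, hxN⟩)
        have h1' : h * ((n : G) * x * (n : G)⁻¹ * x⁻¹) = ((n : G) * x * (n : G)⁻¹ * x⁻¹) * h := by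
          simpa [commutatorElement_def] using h1
        have h2 : n' * x * n'⁻¹ * x⁻¹ = (n : G) * x * (n : G)⁻¹ * x⁻¹ := by
          have e1 : n' * x * n'⁻¹ * x⁻¹ =
              h * ((n : G) * (h⁻¹ * x * h) * (n : G)⁻¹ * (h⁻¹ * x⁻¹ * h)) * h⁻¹ := by
            rw [hn']; group
          have hx'' : h⁻¹ * x * h = x := by
            rw [mul_assoc, ← hcomm', inv_mul_cancel_left]
          have hx''' : h⁻¹ * x⁻¹ * h = x⁻¹ := by
            have : h⁻¹ * x⁻¹ * h = (h⁻¹ * x * h)⁻¹ := by group
            rw [this, hx'']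
          rw [e1, hx'', hx''', h1', mul_inv_cancel_right]
        have h3 : n' * x * n'⁻¹ = (n : G) * x * (n : G)⁻¹ := mul_right_cancel h2
        have : c * x * c⁻¹ = x := by
          calc c * x * c⁻¹ = (n : G)⁻¹ * (n' * x * n'⁻¹) * (n : G) := by rw [hc]; group
            _ = x := by rw [h3]; group
        calc c * x = c * x * c⁻¹ * c := by group
          _ = x * c := by rw [this]
      have hhc : h * c = c * h := hcent c hcN hcx
      have hnc : h * (n : G) * h⁻¹ = (n : G) * c := by rw [hc, ← hn']; group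
      have h4 := conj_pow_mul_of_comm h (n : G) c hhc hnc (orderOf h)
      rw [pow_orderOf_eq_one] at h4
      have h5 : c ^ orderOf h = 1 := by
        have : (n : G) = (n : G) * c ^ orderOf h := by simpa using h4
        exact (mul_eq_left.1 this.symm)
      have h6 : orderOf c ∣ orderOf h := orderOf_dvd_of_pow_eq_one h5
      have h6' : orderOf c ∣ Nat.card N := by
        have := orderOf_dvd_natCard (⟨c, hcN⟩ : N)
        rwa [Subgroup.orderOf_mk] at this
      have h7 : orderOf c = 1 := Nat.eq_one_of_dvd_coprimes hord h6 h6'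
      have h9 : c = 1 := orderOf_eq_one_iff.1 h7
      rw [h9, mul_one] at hnc
      calc h * (n : G) = h * (n : G) * h⁻¹ * h := by group
        _ = (n : G) * h := by rw [hnc]
  intro n hn
  exact key r ⟨n, hn⟩ (by rw [hr]; exact Subgroup.mem_top _)


section inverted

variable {S : Type*} [Group S]

/-- In a subgroup of odd order an element squaring to `1` is trivial. -/
theorem eta_eq_one_of_sq {D : Subgroup S} [Finite D] (hodd : Odd (Nat.card D)) {x : S}
    (hx : x ∈ D) (h2 : x * x = 1) : x = 1 := by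
  have h1 : orderOf x ∣ Nat.card D := by
    have := orderOf_dvd_natCard (⟨x, hx⟩ : D)
    rwa [Subgroup.orderOf_mk] at this
  have h3 : orderOf x ∣ 2 := orderOf_dvd_of_pow_eq_one (by rw [pow_two]; exact h2)
  have hc : Nat.Coprime 2 (Nat.card D) := (Nat.coprime_two_left).2 hodd
  have : orderOf x = 1 := Nat.eq_one_of_dvd_coprimes hc h3 h1
  exact orderOf_eq_one_iff.1 this

/-- In a subgroup of odd order no nontrivial element is conjugate to its inverse. -/
theorem eta_eq_one_of_conj_inv {D : Subgroup S} [Finite D] (hodd : Odd (Nat.card D)) {g m : S}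
    (hg : g ∈ D) (hm : m ∈ D) (h : g * m * g⁻¹ = m⁻¹) : m = 1 := by
  have h2 : (g * g) * m = m * (g * g) := by
    have e : g * g * m * (g * g)⁻¹ = m := by
      calc g * g * m * (g * g)⁻¹ = g * (g * m * g⁻¹) * g⁻¹ := by group
        _ = g * m⁻¹ * g⁻¹ := by rw [h]
        _ = (g * m * g⁻¹)⁻¹ := by group
        _ = m := by rw [h, inv_inv]
    calc g * g * m = g * g * m * (g * g)⁻¹ * (g * g) := by group
      _ = m * (g * g) := by rw [e]
  have hgodd : Odd (orderOf g) := by
    have h1 : orderOf g ∣ Nat.card D := by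
      have := orderOf_dvd_natCard (⟨g, hg⟩ : D)
      rwa [Subgroup.orderOf_mk] at this
    exact Odd.of_dvd_nat hodd h1
  obtain ⟨k, hk⟩ := hgodd
  have hgp : g = (g * g) ^ (k + 1) := by
    have : (g * g) ^ (k + 1) = g ^ (orderOf g) * g := by
      rw [hk, ← pow_two, ← pow_mul, ← pow_succ]; congr 1
    rw [this, pow_orderOf_eq_one, one_mul]
  have hcomm : g * m = m * g := by
    have : Commute (g * g) m := h2
    have h3 : Commute ((g * g) ^ (k + 1)) m := this.pow_left _
    rw [← hgp] at h3
    exact h3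
  have hmm : m = m⁻¹ := by
    calc m = m * g * g⁻¹ := by group
      _ = g * m * g⁻¹ := by rw [hcomm]
      _ = m⁻¹ := h
  apply eta_eq_one_of_sq hodd hm
  calc m * m = m * m⁻¹ := by rw [← hmm]
    _ = 1 := mul_inv_cancel m


/-- Key lemma: an abelian group `I` of exponent two normalizing an odd-order subgroup `D` of a finite
solvable group; if `t ∈ I` does not centralize `D`, there is an `I`-invariant subgroup of prime order
of `D` inverted by `t`. -/
theorem eta_exists_inverted [Finite S] [Group.IsSolvable S] (I : Subgroup S)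
    (hIc : ∀ a ∈ I, ∀ b ∈ I, a * b = b * a) (hI2 : ∀ a ∈ I, a * a = 1)
    (t : S) (ht : t ∈ I) :
    ∀ (k : ℕ) (D : Subgroup S), Nat.card D = k → Odd (Nat.card D) →
      (∀ s ∈ I, ∀ x ∈ D, s * x * s⁻¹ ∈ D) → (∃ x ∈ D, t * x ≠ x * t) →
      ∃ A : Subgroup S, A ≤ D ∧ (Nat.card A).Prime ∧
        (∀ s ∈ I, (∀ a ∈ A, s * a * s⁻¹ = a) ∨ (∀ a ∈ A, s * a * s⁻¹ = a⁻¹)) ∧
        (∀ a ∈ A, t * a * t⁻¹ = a⁻¹) := by
  intro k
  induction k using Nat.strong_induction_on with
  | _ k ih =>
  intro D hk hodd hinv hnc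
  by_cases hall : ∀ K : Subgroup S, K ≤ D → K ≠ D → (∀ s ∈ I, ∀ x ∈ K, s * x * s⁻¹ ∈ K) →
      ∀ x ∈ K, t * x = x * t
  swap
  · push Not at hall
    obtain ⟨K, hKD, hne, hKinv, x, hxK, hx⟩ := hall
    have hlt : Nat.card K < k := by
      rw [← hk]
      by_contra hcon
      push Not at hcon
      exact hne (Subgroup.eq_of_le_of_card_ge hKD hcon)
    have hoddK : Odd (Nat.card K) := Odd.of_dvd_nat hodd (Subgroup.card_dvd_of_le hKD)
    obtain ⟨A, hAK, hAp, hAinv, hAt⟩ := ih _ hlt K rfl hoddK hKinv ⟨x, hxK, hx⟩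
    exact ⟨A, hAK.trans hKD, hAp, hAinv, hAt⟩
  · have tt : t * t = 1 := hI2 t ht
    have tinv : t⁻¹ = t := inv_eq_of_mul_eq_one_left tt
    -- `t` centralizes the commutators of `D`
    have hDne : D ≠ ⊥ := by
      obtain ⟨x, hx, hxt⟩ := hnc
      rintro rfl
      rw [Subgroup.mem_bot] at hx
      subst hx
      simp at hxt
    have hcomm_lt : ⁅D, D⁆ < D := Group.IsSolvable.commutator_lt_of_ne_bot hDne
    have hcomm_inv : ∀ s ∈ I, ∀ x ∈ ⁅D, D⁆, s * x * s⁻¹ ∈ ⁅D, D⁆ := by
      intro s hs
      have hle : ⁅D, D⁆ ≤ (⁅D, D⁆).comap (MulAut.conj s).toMonoidHom := by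
        rw [Subgroup.commutator_le]
        intro a ha b hb
        rw [Subgroup.mem_comap]
        have e : (MulAut.conj s).toMonoidHom ⁅a, b⁆ = ⁅s * a * s⁻¹, s * b * s⁻¹⁆ := by
          simp only [MulEquiv.toMonoidHom_eq_coe, MonoidHom.coe_coe, MulAut.conj_apply,
            commutatorElement_def]
          group
        rw [e]
        exact Subgroup.commutator_mem_commutator (hinv s hs a ha) (hinv s hs b hb)
      intro x hx
      have := hle hx
      rw [Subgroup.mem_comap] at this
      simpa using this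
    have hCc : ∀ a ∈ D, ∀ b ∈ D, t * ⁅a, b⁆ = ⁅a, b⁆ * t := fun a ha b hb =>
      hall ⁅D, D⁆ hcomm_lt.le hcomm_lt.ne hcomm_inv _ (Subgroup.commutator_mem_commutator ha hb)
    have hCmul : ∀ {a b : S}, t * a = a * t → t * b = b * t → t * (a * b) = (a * b) * t := by
      intro a b ha hb
      have h1 : Commute t a := ha
      have h2 : Commute t b := hb
      exact h1.mul_right h2
    have hCinv : ∀ {a : S}, t * a = a * t → t * a⁻¹ = a⁻¹ * t := by
      intro a ha
      have h1 : Commute t a := ha
      exact h1.inv_right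
    -- the dichotomy
    have key : ∀ s ∈ I, ∀ x ∈ D, (t * (x⁻¹ * (s * x * s⁻¹)) = (x⁻¹ * (s * x * s⁻¹)) * t) ∨
        (t * (x * (s * x * s⁻¹)) = (x * (s * x * s⁻¹)) * t) := by
      intro s hs
      have ss : s * s = 1 := hI2 s hs
      have sinv : s⁻¹ = s := inv_eq_of_mul_eq_one_left ss
      let E : Subgroup S :=
        { carrier := {x | x ∈ D ∧ t * (x⁻¹ * (s * x * s⁻¹)) = (x⁻¹ * (s * x * s⁻¹)) * t}
          one_mem' := by
            refine ⟨D.one_mem, ?_⟩
            simp
          mul_mem' := by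
            rintro x y ⟨hx, hxc⟩ ⟨hy, hyc⟩
            refine ⟨D.mul_mem hx hy, ?_⟩
            have hu : x⁻¹ * (s * x * s⁻¹) ∈ D := D.mul_mem (D.inv_mem hx) (hinv s hs x hx)
            have e : (x * y)⁻¹ * (s * (x * y) * s⁻¹) =
                ((x⁻¹ * (s * x * s⁻¹)) * ⁅(x⁻¹ * (s * x * s⁻¹))⁻¹, y⁻¹⁆) * (y⁻¹ * (s * y * s⁻¹)) := by
              rw [commutatorElement_def]; group
            rw [e]
            exact hCmul (hCmul hxc (hCc _ (D.inv_mem hu) _ (D.inv_mem hy))) hyc
          inv_mem' := by
            rintro x ⟨hx, hxc⟩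
            refine ⟨D.inv_mem hx, ?_⟩
            have hu : x⁻¹ * (s * x * s⁻¹) ∈ D := D.mul_mem (D.inv_mem hx) (hinv s hs x hx)
            have e : (x⁻¹)⁻¹ * (s * x⁻¹ * s⁻¹) =
                (x⁻¹ * (s * x * s⁻¹))⁻¹ * ⁅(x⁻¹ * (s * x * s⁻¹)), x⁆ := by
              rw [commutatorElement_def]; group
            rw [e]
            exact hCmul (hCinv hxc) (hCc _ hu _ hx) }
      have hE_mem : ∀ x, x ∈ E ↔ (x ∈ D ∧ t * (x⁻¹ * (s * x * s⁻¹)) = (x⁻¹ * (s * x * s⁻¹)) * t) :=
        fun x => Iff.rfl
      have hED : E ≤ D := fun x hx => ((hE_mem x).1 hx).1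
      have hEinv : ∀ r ∈ I, ∀ x ∈ E, r * x * r⁻¹ ∈ E := by
        intro r hr x hx
        obtain ⟨hxD, hxc⟩ := (hE_mem x).1 hx
        rw [hE_mem]
        refine ⟨hinv r hr x hxD, ?_⟩
        have hrs : s * r = r * s := hIc s hs r hr
        have hrs' : s * r⁻¹ = r⁻¹ * s := by
          have h1 : Commute s r := hrs
          exact h1.inv_right
        have e : (r * x * r⁻¹)⁻¹ * (s * (r * x * r⁻¹) * s⁻¹) = r * (x⁻¹ * (s * x * s⁻¹)) * r⁻¹ := by
          have h1 : s * (r * x * r⁻¹) * s⁻¹ = r * (s * x * s⁻¹) * r⁻¹ := by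
            calc s * (r * x * r⁻¹) * s⁻¹ = (s * r) * x * r⁻¹ * s⁻¹ := by group
              _ = (r * s) * x * r⁻¹ * s⁻¹ := by rw [hrs]
              _ = r * s * x * (s * r)⁻¹ := by group
              _ = r * s * x * (r * s)⁻¹ := by rw [hrs]
              _ = r * (s * x * s⁻¹) * r⁻¹ := by group
          rw [h1]; group
        rw [e]
        have htr : t * r = r * t := hIc t ht r hr
        have htr' : t * r⁻¹ = r⁻¹ * t := by
          have h1 : Commute t r := htr
          exact h1.inv_right
        exact hCmul (hCmul htr hxc) htr'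
      intro x hx
      by_cases hEeq : E = D
      · left
        have : x ∈ E := by rw [hEeq]; exact hx
        exact ((hE_mem x).1 this).2
      · right
        have hEall := hall E hED hEeq hEinv
        apply hEall
        rw [hE_mem]
        have hsx : s * x * s⁻¹ ∈ D := hinv s hs x hx
        refine ⟨D.mul_mem hx hsx, ?_⟩
        have e : (x * (s * x * s⁻¹))⁻¹ * (s * (x * (s * x * s⁻¹)) * s⁻¹) =
            ⁅(s * x * s⁻¹)⁻¹, x⁻¹⁆ := by
          rw [commutatorElement_def]
          have h1 : s * (x * (s * x * s⁻¹)) * s⁻¹ = (s * x * s⁻¹) * ((s * s) * x * (s * s)⁻¹) := by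
            group
          rw [h1, ss]
          group
        rw [e]
        exact hCc _ (D.inv_mem hsx) _ (D.inv_mem hx)
    -- an inverted element of prime order
    obtain ⟨x0, hx0, hx0t⟩ := hnc
    set y := x0⁻¹ * (t * x0 * t⁻¹) with hy
    have hyD : y ∈ D := D.mul_mem (D.inv_mem hx0) (hinv t ht x0 hx0)
    have hyinv : t * y * t⁻¹ = y⁻¹ := by
      rw [hy]
      have : t * (x0⁻¹ * (t * x0 * t⁻¹)) * t⁻¹ = (t * x0 * t⁻¹)⁻¹ * ((t * t) * x0 * (t * t)⁻¹) := by
        group
      rw [this, tt]; group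
    have hyne : y ≠ 1 := by
      intro h1
      apply hx0t
      have : t * x0 * t⁻¹ = x0 := by
        have h2 : x0 * y = x0 := by rw [h1, mul_one]
        rw [hy] at h2
        have h3 : x0 * (x0⁻¹ * (t * x0 * t⁻¹)) = t * x0 * t⁻¹ := by group
        rw [h3] at h2
        exact h2
      calc t * x0 = t * x0 * t⁻¹ * t := by group
        _ = x0 * t := by rw [this]
    have hord : orderOf y ≠ 1 := fun h => hyne (orderOf_eq_one_iff.1 h)
    have hfin : Finite D := inferInstance
    have hordpos : 0 < orderOf y := orderOf_pos y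
    set q := (orderOf y).minFac with hq
    have hqp : q.Prime := Nat.minFac_prime hord
    have hqdvd : q ∣ orderOf y := Nat.minFac_dvd _
    set y0 := y ^ (orderOf y / q) with hy0
    have hy0ord : orderOf y0 = q := orderOf_pow_orderOf_div hordpos.ne' hqdvd
    have hy0D : y0 ∈ D := D.pow_mem hyD _
    have hy0inv : t * y0 * t⁻¹ = y0⁻¹ := by
      rw [hy0, ← conj_pow, hyinv, inv_pow]
    have hy0ne : y0 ≠ 1 := by
      intro h1
      rw [h1, orderOf_one] at hy0ord
      exact hqp.one_lt.ne hy0ord
    refine ⟨Subgroup.zpowers y0, ?_, ?_, ?_, ?_⟩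
    · rw [Subgroup.zpowers_le]; exact hy0D
    · rw [Nat.card_zpowers, hy0ord]; exact hqp
    · intro s hs
      suffices hcases : s * y0 * s⁻¹ = y0 ∨ s * y0 * s⁻¹ = y0⁻¹ by
        rcases hcases with h1 | h1
        · left
          intro a ha
          obtain ⟨i, rfl⟩ := Subgroup.mem_zpowers_iff.1 ha
          rw [← conj_zpow, h1]
        · right
          intro a ha
          obtain ⟨i, rfl⟩ := Subgroup.mem_zpowers_iff.1 ha
          rw [← conj_zpow, h1, inv_zpow]
      -- `s y0 s⁻¹ = y0` or `y0⁻¹`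
      set y' := s * y0 * s⁻¹ with hy'
      have hy'D : y' ∈ D := hinv s hs y0 hy0D
      have hts : t * s = s * t := hIc t ht s hs
      have hy'inv : t * y' * t⁻¹ = y'⁻¹ := by
        have hts' : t * s⁻¹ = s⁻¹ * t := by
          have h1 : Commute t s := hts
          exact h1.inv_right
        calc t * y' * t⁻¹ = (t * s) * y0 * (t * s)⁻¹ := by rw [hy']; group
          _ = (s * t) * y0 * (s * t)⁻¹ := by rw [hts]
          _ = s * (t * y0 * t⁻¹) * s⁻¹ := by group
          _ = s * y0⁻¹ * s⁻¹ := by rw [hy0inv]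
          _ = y'⁻¹ := by rw [hy']; group
      rcases key s hs y0 hy0D with hc | hc
      · -- `m = y0⁻¹ y'` centralized
        set m := y0⁻¹ * y' with hm
        have hmD : m ∈ D := D.mul_mem (D.inv_mem hy0D) hy'D
        have hmt : t * m * t⁻¹ = m := by
          calc t * m * t⁻¹ = m * t * t⁻¹ := by rw [hc]
            _ = m := by group
        have h1 : y0⁻¹ * m * (y0⁻¹)⁻¹ = m⁻¹ := by
          have e1 : t * y' * t⁻¹ = (t * y0 * t⁻¹) * (t * m * t⁻¹) := by
            rw [hm]; group
          rw [hy'inv, hy0inv, hmt] at e1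
          have e2 : y' = y0 * m := by rw [hm]; group
          rw [e2] at e1
          calc y0⁻¹ * m * (y0⁻¹)⁻¹ = (y0⁻¹ * m) * y0 := by group
            _ = (y0 * m)⁻¹ * y0 := by rw [e1]
            _ = m⁻¹ := by group
        have hm1 : m = 1 := eta_eq_one_of_conj_inv hodd (D.inv_mem hy0D) hmD h1
        have : y' = y0 := by
          have e2 : y' = y0 * m := by rw [hm]; group
          rw [e2, hm1, mul_one]
        exact Or.inl this
      · set m := y0 * y' with hm
        have hmD : m ∈ D := D.mul_mem hy0D hy'D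
        have hmt : t * m * t⁻¹ = m := by
          calc t * m * t⁻¹ = m * t * t⁻¹ := by rw [hc]
            _ = m := by group
        have h1 : y0 * m * y0⁻¹ = m⁻¹ := by
          have e1 : t * y' * t⁻¹ = (t * y0 * t⁻¹)⁻¹ * (t * m * t⁻¹) := by
            rw [hm]; group
          rw [hy'inv, hy0inv, hmt, inv_inv] at e1
          have e2 : y' = y0⁻¹ * m := by rw [hm]; group
          rw [e2] at e1
          calc y0 * m * y0⁻¹ = (y0 * m) * y0⁻¹ := by group
            _ = (y0⁻¹ * m)⁻¹ * y0⁻¹ := by rw [e1]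
            _ = m⁻¹ := by group
        have hm1 : m = 1 := eta_eq_one_of_conj_inv hodd hy0D hmD h1
        have : y' = y0⁻¹ := by
          have e2 : y' = y0⁻¹ * m := by rw [hm]; group
          rw [e2, hm1, mul_one]
        exact Or.inr this
    · intro a ha
      obtain ⟨i, rfl⟩ := Subgroup.mem_zpowers_iff.1 ha
      rw [← conj_zpow, hy0inv, inv_zpow]


theorem eta_card_sup_of_commute {B A : Subgroup S} (hcomm : ∀ b ∈ B, ∀ a ∈ A, b * a = a * b)
    (hdisj : B ⊓ A = ⊥) : Nat.card (B ⊔ A : Subgroup S) = Nat.card B * Nat.card A := by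
  have hc : ∀ (b : B) (a : A), Commute (B.subtype b) (A.subtype a) :=
    fun b a => hcomm b b.2 a a.2
  obtain ⟨φ, hφ⟩ : ∃ φ : B × A →* S, φ = MonoidHom.noncommCoprod B.subtype A.subtype hc :=
    ⟨_, rfl⟩
  have hinj : Function.Injective φ := by
    rw [hφ, MonoidHom.noncommCoprod_injective]
    refine ⟨Subgroup.subtype_injective B, Subgroup.subtype_injective A, ?_⟩
    rw [Subgroup.range_subtype, Subgroup.range_subtype, disjoint_iff]
    exact hdisj
  have hrange : φ.range = B ⊔ A := by
    rw [hφ, MonoidHom.noncommCoprod_range, Subgroup.range_subtype, Subgroup.range_subtype]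
  rw [← hrange, ← Nat.card_prod]
  exact (Nat.card_congr (MonoidHom.ofInjective hinj).toEquiv).symm

theorem eta_mem_centralizer_sup {B A : Subgroup S} {x : S} :
    x ∈ Subgroup.centralizer ((B ⊔ A : Subgroup S) : Set S) ↔
      x ∈ Subgroup.centralizer (B : Set S) ∧ x ∈ Subgroup.centralizer (A : Set S) := by
  constructor
  · intro h
    rw [Subgroup.mem_centralizer_iff] at h
    constructor
    · rw [Subgroup.mem_centralizer_iff]
      intro b hb
      exact h b (Subgroup.mem_sup_left hb)
    · rw [Subgroup.mem_centralizer_iff]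
      intro a ha
      exact h a (Subgroup.mem_sup_right ha)
  · rintro ⟨hB, hA⟩
    have h1 : B ≤ Subgroup.centralizer ({x} : Set S) := by
      intro b hb
      rw [Subgroup.mem_centralizer_iff] at hB ⊢
      intro y hy
      rw [Set.mem_singleton_iff] at hy
      subst hy
      exact (hB b hb).symm
    have h2 : A ≤ Subgroup.centralizer ({x} : Set S) := by
      intro a ha
      rw [Subgroup.mem_centralizer_iff] at hA ⊢
      intro y hy
      rw [Set.mem_singleton_iff] at hy
      subst hy
      exact (hA a ha).symm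
    have h3 : B ⊔ A ≤ Subgroup.centralizer ({x} : Set S) := sup_le h1 h2
    rw [Subgroup.mem_centralizer_iff]
    intro y hy
    have := h3 hy
    rw [Subgroup.mem_centralizer_iff] at this
    exact (this x rfl).symm


open Cfsg.Agent.Lib.Helper1 in
theorem eta_main [Finite S] [Group.IsSolvable S]
    (hF : Odd (Nat.card ↥(Cfsg.fittingSubgroup S)))
    (I : Subgroup S) (hIc : ∀ a ∈ I, ∀ b ∈ I, a * b = b * a) (hI2 : ∀ a ∈ I, a * a = 1)
    (n : ℕ) (hIn : Nat.card ↥I = 2 ^ n) :
    ∀ m, m ≤ n → ∃ f : Fin m → Subgroup S, (∀ i, (Nat.card ↥(f i)).Prime) ∧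
      (∀ i, f i ≤ Cfsg.fittingSubgroup S) ∧
      (∀ i, ∀ s ∈ I, ∀ a ∈ f i, s * a * s⁻¹ ∈ f i) ∧
      (∀ i j, i ≠ j → ∀ a ∈ f i, ∀ b ∈ f j, a * b = b * a) ∧
      Nat.card ↥(⨆ i, f i) = ∏ i, Nat.card ↥(f i) ∧
      Nat.card ↥(I ⊓ Subgroup.centralizer ((⨆ i, f i : Subgroup S) : Set S)) * 2 ^ m = 2 ^ n := by
  intro m
  induction m with
  | zero =>
    intro _
    refine ⟨fun i => i.elim0, fun i => i.elim0, fun i => i.elim0, fun i => i.elim0,
      fun i => i.elim0, ?_, ?_⟩
    · simp
    · have h1 : (⨆ i : Fin 0, (Fin.elim0 i : Subgroup S)) = ⊥ := by simp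
      have h2 : Subgroup.centralizer (((⊥ : Subgroup S) : Subgroup S) : Set S) = ⊤ := by
        ext x
        simp [Subgroup.mem_centralizer_iff]
      rw [h1, h2, inf_top_eq, hIn, pow_zero, mul_one]
  | succ m ih =>
    intro hm
    obtain ⟨f, hfp, hfF, hfinv, hfcomm, hfcard, hfJ⟩ := ih (by omega)
    have hFn : (Cfsg.fittingSubgroup S).Normal := fittingSubgroup_normal
    have hFnil : Group.IsNilpotent (Cfsg.fittingSubgroup S) := fittingSubgroup_nilpotent
    set F := Cfsg.fittingSubgroup S with hFdef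
    set B : Subgroup S := ⨆ i, f i with hB
    set J : Subgroup S := I ⊓ Subgroup.centralizer (B : Set S) with hJ
    have hBF : B ≤ F := iSup_le hfF
    have hBinv : ∀ s ∈ I, ∀ b ∈ B, s * b * s⁻¹ ∈ B := by
      intro s hs
      have hle : B ≤ B.comap (MulAut.conj s).toMonoidHom := by
        apply iSup_le
        intro i a ha
        rw [Subgroup.mem_comap]
        have h1 : s * a * s⁻¹ ∈ f i := hfinv i s hs a ha
        have h2 : s * a * s⁻¹ ∈ B := (le_iSup f i) h1
        simpa using h2
      intro b hb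
      have := hle hb
      rw [Subgroup.mem_comap] at this
      simpa using this
    have hJcard : Nat.card J = 2 ^ (n - m) := by
      have h1 : 2 ^ n = 2 ^ (n - m) * 2 ^ m := by
        rw [← pow_add]; congr 1; omega
      rw [h1] at hfJ
      exact Nat.eq_of_mul_eq_mul_right (by positivity) hfJ
    have hJne : J ≠ ⊥ := by
      intro h
      rw [h, Subgroup.card_bot] at hJcard
      have h2 : 2 ≤ 2 ^ (n - m) := by
        calc 2 = 2 ^ 1 := rfl
          _ ≤ 2 ^ (n - m) := Nat.pow_le_pow_right (by norm_num) (by omega)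
      omega
    rw [Ne, Subgroup.eq_bot_iff_forall] at hJne
    push Not at hJne
    obtain ⟨t, htJ, ht1⟩ := hJne
    have htI : t ∈ I := htJ.1
    have htB : t ∈ Subgroup.centralizer (B : Set S) := htJ.2
    have htB' : ∀ b ∈ B, t * b = b * t := fun b hb =>
      ((Subgroup.mem_centralizer_iff.1 htB) b hb).symm
    have tt : t * t = 1 := hI2 t htI
    have hord2 : orderOf t = 2 := orderOf_eq_prime (by rw [pow_two]; exact tt) ht1
    set D : Subgroup S := F ⊓ Subgroup.centralizer (B : Set S) with hD
    have hDinv : ∀ s ∈ I, ∀ x ∈ D, s * x * s⁻¹ ∈ D := by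
      intro s hs x hx
      refine ⟨hFn.conj_mem x hx.1 s, ?_⟩
      show s * x * s⁻¹ ∈ Subgroup.centralizer (B : Set S)
      rw [Subgroup.mem_centralizer_iff]
      intro b hb
      have hs' : s⁻¹ ∈ I := I.inv_mem hs
      have hb' : s⁻¹ * b * s⁻¹⁻¹ ∈ B := hBinv s⁻¹ hs' b hb
      have hx2 := (Subgroup.mem_centralizer_iff.1 hx.2) _ hb'
      calc b * (s * x * s⁻¹) = s * ((s⁻¹ * b * s⁻¹⁻¹) * x) * s⁻¹ := by group
        _ = s * (x * (s⁻¹ * b * s⁻¹⁻¹)) * s⁻¹ := by rw [hx2]
        _ = s * x * s⁻¹ * b := by group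
    have hnc : ∃ x ∈ D, t * x ≠ x * t := by
      by_contra hcon
      push Not at hcon
      have hcop : (orderOf t).Coprime (Nat.card F) := by
        rw [hord2]; exact Nat.coprime_two_left.2 hF
      have hcentF := eta_axb_nilpotent F (B : Set S) (fun x hx => hBF hx) t
        (fun n hn => hFn.conj_mem n hn t) htB' hcop
        (fun n hn hnx => hcon n ⟨hn, by
          show n ∈ Subgroup.centralizer (B : Set S)
          rw [Subgroup.mem_centralizer_iff]
          intro b hb
          exact (hnx b hb).symm⟩)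
      have htC : t ∈ Subgroup.centralizer (F : Set S) := by
        rw [Subgroup.mem_centralizer_iff]
        intro n hn
        exact (hcentF n hn).symm
      have htF : t ∈ F := centralizer_fittingSubgroup_le htC
      exact ht1 (eta_eq_one_of_sq hF htF tt)
    have hoddD : Odd (Nat.card D) := Odd.of_dvd_nat hF (Subgroup.card_dvd_of_le inf_le_left)
    obtain ⟨A, hAD, hAp, hAdich, hAt⟩ :=
      eta_exists_inverted I hIc hI2 t htI _ D rfl hoddD hDinv hnc
    have hAF : A ≤ F := hAD.trans inf_le_left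
    have hAB : ∀ a ∈ A, ∀ b ∈ B, a * b = b * a := fun a ha b hb =>
      ((Subgroup.mem_centralizer_iff.1 (hAD ha).2) b hb).symm
    have hAinv : ∀ s ∈ I, ∀ a ∈ A, s * a * s⁻¹ ∈ A := by
      intro s hs a ha
      rcases hAdich s hs with h | h
      · rw [h a ha]; exact ha
      · rw [h a ha]; exact A.inv_mem ha
    have hdisj : B ⊓ A = ⊥ := by
      rw [Subgroup.eq_bot_iff_forall]
      rintro x ⟨hxB, hxA⟩
      have h1 : t * x * t⁻¹ = x⁻¹ := hAt x hxA
      have h2 : t * x * t⁻¹ = x := by rw [htB' x hxB]; group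
      have h3 : x * x = 1 := by
        rw [h2] at h1
        calc x * x = x * x⁻¹ := by rw [← h1]
          _ = 1 := mul_inv_cancel x
      exact eta_eq_one_of_sq hF (hBF hxB) h3
    have hcardBA : Nat.card (B ⊔ A : Subgroup S) = Nat.card B * Nat.card A :=
      eta_card_sup_of_commute (fun b hb a ha => (hAB a ha b hb).symm) hdisj
    have hsup : (⨆ i, Fin.snoc (α := fun _ => Subgroup S) f A i) = B ⊔ A := by
      apply le_antisymm
      · apply iSup_le
        intro i
        refine Fin.lastCases ?_ (fun j => ?_) i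
        · rw [Fin.snoc_last]; exact le_sup_right
        · rw [Fin.snoc_castSucc]; exact le_trans (le_iSup f j) le_sup_left
      · apply sup_le
        · apply iSup_le
          intro j
          have := le_iSup (fun i => Fin.snoc (α := fun _ => Subgroup S) f A i) j.castSucc
          rwa [Fin.snoc_castSucc] at this
        · have := le_iSup (fun i => Fin.snoc (α := fun _ => Subgroup S) f A i) (Fin.last m)
          rwa [Fin.snoc_last] at this
    refine ⟨Fin.snoc (α := fun _ => Subgroup S) f A, ?_, ?_, ?_, ?_, ?_, ?_⟩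
    · intro i
      refine Fin.lastCases ?_ (fun j => ?_) i
      · rw [Fin.snoc_last]; exact hAp
      · rw [Fin.snoc_castSucc]; exact hfp j
    · intro i
      refine Fin.lastCases ?_ (fun j => ?_) i
      · rw [Fin.snoc_last]; exact hAF
      · rw [Fin.snoc_castSucc]; exact hfF j
    · intro i
      refine Fin.lastCases ?_ (fun j => ?_) i
      · rw [Fin.snoc_last]; exact hAinv
      · rw [Fin.snoc_castSucc]; exact hfinv j
    · intro i j
      refine Fin.lastCases ?_ (fun i' => ?_) i
      · refine Fin.lastCases ?_ (fun j' => ?_) j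
        · intro h; exact absurd rfl h
        · intro _ a ha b hb
          rw [Fin.snoc_last] at ha
          rw [Fin.snoc_castSucc] at hb
          exact hAB a ha b ((le_iSup f j') hb)
      · refine Fin.lastCases ?_ (fun j' => ?_) j
        · intro _ a ha b hb
          rw [Fin.snoc_last] at hb
          rw [Fin.snoc_castSucc] at ha
          exact (hAB b hb a ((le_iSup f i') ha)).symm
        · intro h a ha b hb
          rw [Fin.snoc_castSucc] at ha hb
          have hne : i' ≠ j' := fun h' => h (by rw [h'])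
          exact hfcomm i' j' hne a ha b hb
    · rw [hsup, hcardBA, Fin.prod_univ_castSucc]
      simp only [Fin.snoc_castSucc, Fin.snoc_last]
      rw [hfcard]
    · rw [hsup]
      set J' : Subgroup S := I ⊓ Subgroup.centralizer ((B ⊔ A : Subgroup S) : Set S) with hJ'
      have h1 : J' ≤ J := by
        intro x hx
        exact ⟨hx.1, (eta_mem_centralizer_sup.1 hx.2).1⟩
      have h2 : Subgroup.zpowers t ≤ J := by
        rw [Subgroup.zpowers_le]; exact htJ
      have h3 : J ≤ J' ⊔ Subgroup.zpowers t := by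
        intro j hj
        rcases hAdich j hj.1 with h | h
        · apply Subgroup.mem_sup_left
          refine ⟨hj.1, eta_mem_centralizer_sup.2 ⟨hj.2, ?_⟩⟩
          rw [Subgroup.mem_centralizer_iff]
          intro a ha
          have := h a ha
          calc a * j = j * a * j⁻¹ * j := by rw [this]
            _ = j * a := by group
        · have hjt : j * t ∈ J' := by
            refine ⟨I.mul_mem hj.1 htI, eta_mem_centralizer_sup.2
              ⟨Subgroup.mul_mem _ hj.2 htB, ?_⟩⟩
            rw [Subgroup.mem_centralizer_iff]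
            intro a ha
            have e1 : t * a * t⁻¹ = a⁻¹ := hAt a ha
            have e2 : j * a⁻¹ * j⁻¹ = (a⁻¹)⁻¹ := h a⁻¹ (A.inv_mem ha)
            have e3 : (j * t) * a * (j * t)⁻¹ = a := by
              calc (j * t) * a * (j * t)⁻¹ = j * (t * a * t⁻¹) * j⁻¹ := by group
                _ = j * a⁻¹ * j⁻¹ := by rw [e1]
                _ = a := by rw [e2, inv_inv]
            calc a * (j * t) = (j * t) * a * (j * t)⁻¹ * (j * t) := by rw [e3]
              _ = j * t * a := by group
          have : j = (j * t) * t⁻¹ := by group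
          rw [this]
          exact Subgroup.mul_mem_sup hjt (Subgroup.inv_mem _ (Subgroup.mem_zpowers t))
      have hJeq : J = J' ⊔ Subgroup.zpowers t := le_antisymm h3 (sup_le h1 h2)
      have hAne : ∃ a ∈ A, a ≠ 1 := by
        by_contra hcon
        push Not at hcon
        have : A = ⊥ := (Subgroup.eq_bot_iff_forall A).2 hcon
        rw [this, Subgroup.card_bot] at hAp
        exact Nat.not_prime_one hAp
      have htJ' : t ∉ J' := by
        intro htJ'
        obtain ⟨a, ha, ha1⟩ := hAne
        have hc := (eta_mem_centralizer_sup.1 htJ'.2).2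
        have e1 : a * t = t * a := (Subgroup.mem_centralizer_iff.1 hc) a ha
        have e2 : t * a * t⁻¹ = a⁻¹ := hAt a ha
        have e3 : t * a * t⁻¹ = a := by rw [← e1]; group
        have e4 : a * a = 1 := by
          rw [e3] at e2
          calc a * a = a * a⁻¹ := by rw [← e2]
            _ = 1 := mul_inv_cancel a
        exact ha1 (eta_eq_one_of_sq hF (hAF ha) e4)
      have hdisj' : J' ⊓ Subgroup.zpowers t = ⊥ := by
        rw [Subgroup.eq_bot_iff_forall]
        rintro x ⟨hxJ', hxt⟩
        obtain ⟨k, rfl⟩ := Subgroup.mem_zpowers_iff.1 hxt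
        rw [← zpow_mod_orderOf, hord2] at hxJ' ⊢
        simp only [Nat.cast_ofNat] at hxJ' ⊢
        rcases Int.emod_two_eq_zero_or_one k with hk | hk
        · rw [hk]; simp
        · rw [hk] at hxJ'
          simp only [zpow_one] at hxJ'
          exact absurd hxJ' htJ'
      have hcardJ : Nat.card J = Nat.card J' * Nat.card (Subgroup.zpowers t) := by
        rw [hJeq]
        apply eta_card_sup_of_commute _ hdisj'
        intro b hb a ha
        exact hIc b hb.1 a (h2 ha).1
      rw [Nat.card_zpowers, hord2] at hcardJ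
      calc Nat.card J' * 2 ^ (m + 1) = (Nat.card J' * 2) * 2 ^ m := by ring
        _ = Nat.card J * 2 ^ m := by rw [hcardJ]
        _ = 2 ^ n := hfJ

end inverted

end Cfsg.Agent.Lib.helper23
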