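import Mathlib
import Cfsg.Prelude.Def_Solvable
import Cfsg.Agent.Lib.Lead.Coprime
import Cfsg.Agent.Lib.Helper1.CoprimeAbelian

set_option autoImplicit false

namespace Cfsg.Agent.Lib.helper23

open scoped commutatorElement

/-- Abstract lemma: `K = V ⋊ ⟨t⟩` with `V` abelian normal `p`-subgroup, `t^r = 1`, `C_V(t) = 1`. -/
theorem expSection_aux {K : Type*} [Group K] [Finite K] (p r : ℕ) [hp : Fact p.Prime]
    (hr : r.Prime) (hrp : r ≠ p) (V : Subgroup K) [V.Normal] (hV : IsPGroup p V)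
    (hab : ∀ a ∈ V, ∀ b ∈ V, a * b = b * a) (t : K) (ht : t ^ r = 1)
    (hsup : V ⊔ Subgroup.zpowers t = ⊤) (hfix : ∀ v ∈ V, t * v = v * t → v = 1) (hV1 : V ≠ ⊥) :
    Cfsg.pPrimeCore p K = ⊥ ∧ ∀ k : K, orderOf k ≠ Monoid.exponent K := by
  have hpp : p.Prime := hp.out
  -- a nontrivial element of V
  obtain ⟨v₀, hv₀V, hv₀1⟩ : ∃ v ∈ V, v ≠ 1 := by
    by_contra hcon
    push Not at hcon
    exact hV1 ((Subgroup.eq_bot_iff_forall V).mpr hcon)
  have ht1 : t ≠ 1 := by
    intro h
    apply hv₀1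
    apply hfix v₀ hv₀V
    rw [h, one_mul, mul_one]
  -- elements of V have p-power order
  have hVord : ∀ v ∈ V, ∃ a : ℕ, orderOf v = p ^ a := by
    intro v hv
    obtain ⟨a, ha⟩ := (IsPGroup.iff_orderOf.mp hV) ⟨v, hv⟩
    exact ⟨a, by rw [← ha, Subgroup.orderOf_mk]⟩
  -- decomposition
  have hdecomp : ∀ k : K, ∃ v ∈ V, ∃ i : ℤ, k = v * t ^ i := by
    intro k
    have hk : k ∈ ((V ⊔ Subgroup.zpowers t : Subgroup K) : Set K) := by
      rw [hsup]; exact Subgroup.mem_top k
    rw [Subgroup.normal_mul, Set.mem_mul] at hk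
    obtain ⟨v, hv, z, hz, rfl⟩ := hk
    obtain ⟨i, rfl⟩ := Subgroup.mem_zpowers_iff.mp hz
    exact ⟨v, hv, i, rfl⟩
  have htr : ∀ i : ℤ, (r : ℤ) ∣ i → t ^ i = 1 := by
    rintro i ⟨j, rfl⟩
    rw [zpow_mul, zpow_natCast, ht, one_zpow]
  -- key claim
  have key : ∀ s : K, s ∉ V → ∀ u ∈ V, s * u = u * s → u = 1 := by
    intro s hs u hu hsu
    obtain ⟨v, hv, i, rfl⟩ := hdecomp s
    have hri : ¬ (r : ℤ) ∣ i := by
      intro h
      apply hs
      rw [htr i h, mul_one]
      exact hv
    have hti : t ^ i * u = u * t ^ i := by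
      have h1 : v * u = u * v := hab v hv u hu
      have h2 : v * (t ^ i * u) = v * (u * t ^ i) := by
        rw [← mul_assoc, hsu, ← mul_assoc, ← h1, mul_assoc]
      exact mul_left_cancel h2
    -- t is a power of t^i
    have hcop : IsCoprime i (r : ℤ) := by
      have h1 : Nat.Coprime i.natAbs r :=
        Nat.Coprime.symm ((Nat.Prime.coprime_iff_not_dvd hr).mpr
          (fun h => hri (Int.natCast_dvd.mpr h)))
      rw [Int.isCoprime_iff_gcd_eq_one]
      simpa [Int.gcd] using h1
    obtain ⟨a, b, hab'⟩ := hcop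
    have ht' : t = (t ^ i) ^ a := by
      have h1 : t ^ (a * i + b * r) = t := by rw [hab', zpow_one]
      rw [zpow_add, htr (b * r) (Dvd.intro_left b rfl), mul_one, mul_comm a i, zpow_mul] at h1
      exact h1.symm
    apply hfix u hu
    rw [ht']
    exact ((Commute.zpow_left (show Commute (t ^ i) u from hti) a)).eq
  refine ⟨?_, ?_⟩
  · -- p'-core trivial
    rw [Cfsg.pPrimeCore, eq_bot_iff]
    apply sSup_le
    rintro M ⟨hMn, hMc⟩
    intro m hm
    rw [Subgroup.mem_bot]
    have hMV : ∀ x, x ∈ M → x ∈ V → x = 1 := by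
      intro x hxM hxV
      obtain ⟨a, ha⟩ := hVord x hxV
      have h1 : orderOf x ∣ Nat.card M := by
        have := orderOf_dvd_natCard (⟨x, hxM⟩ : M)
        rwa [Subgroup.orderOf_mk] at this
      have h2 : (orderOf x).Coprime p := Nat.Coprime.coprime_dvd_left h1 hMc
      rw [ha] at h2
      rcases Nat.eq_zero_or_pos a with h0 | h0
      · rw [h0, pow_zero] at ha
        exact orderOf_eq_one_iff.mp ha
      · exfalso
        have := (Nat.coprime_pow_left_iff h0 p p).mp h2
        rw [Nat.coprime_self] at this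
        exact hpp.one_lt.ne' this
    have hcomm : ∀ u ∈ V, m * u = u * m := by
      intro u hu
      have h1 : m * u * m⁻¹ * u⁻¹ ∈ M := by
        have : u * m⁻¹ * u⁻¹ ∈ M := hMn.conj_mem _ (M.inv_mem hm) u
        have e : m * u * m⁻¹ * u⁻¹ = m * (u * m⁻¹ * u⁻¹) := by group
        rw [e]
        exact M.mul_mem hm this
      have h2 : m * u * m⁻¹ * u⁻¹ ∈ V := by
        have : m * u * m⁻¹ ∈ V := (inferInstance : V.Normal).conj_mem _ hu m
        exact V.mul_mem this (V.inv_mem hu)
      have h3 := hMV _ h1 h2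
      calc m * u = (m * u * m⁻¹ * u⁻¹) * u * m := by group
        _ = u * m := by rw [h3, one_mul]
    by_cases hmV : m ∈ V
    · exact hMV m hm hmV
    · exact absurd (key m hmV v₀ hv₀V (hcomm v₀ hv₀V)) hv₀1
  · -- no element of order = exponent
    intro k hk
    have hexp0 : Monoid.exponent K ≠ 0 := Monoid.exponent_ne_zero_of_finite
    have hn0 : orderOf k ≠ 0 := by rw [hk]; exact hexp0
    -- p and r divide n
    have hpn : p ∣ orderOf k := by
      rw [hk]
      obtain ⟨a, ha⟩ := hVord v₀ hv₀V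
      have h1 : orderOf v₀ ∣ Monoid.exponent K := Monoid.order_dvd_exponent v₀
      rw [ha] at h1
      rcases Nat.eq_zero_or_pos a with h0 | h0
      · rw [h0, pow_zero] at ha
        exact absurd (orderOf_eq_one_iff.mp ha) hv₀1
      · exact dvd_trans (dvd_pow_self p h0.ne') h1
    have hrn : r ∣ orderOf k := by
      rw [hk]
      have h1 : orderOf t = r := orderOf_eq_prime ht ht1 (hp := ⟨hr⟩)
      rw [← h1]
      exact Monoid.order_dvd_exponent t
    have hprn : p * r ∣ orderOf k := by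
      apply Nat.Coprime.mul_dvd_of_dvd_of_dvd _ hpn hrn
      exact (Nat.coprime_primes hpp hr).mpr hrp.symm
    obtain ⟨c, hc⟩ := hprn
    -- k ^ r ∈ V
    have hkr : k ^ r ∈ V := by
      obtain ⟨v, hv, i, rfl⟩ := hdecomp k
      have hπv : QuotientGroup.mk' V v = 1 := (QuotientGroup.eq_one_iff v).mpr hv
      have h1 : (QuotientGroup.mk' V (v * t ^ i)) ^ r = 1 := by
        rw [map_mul, hπv, one_mul, map_zpow, ← zpow_natCast, ← zpow_mul, mul_comm, zpow_mul,
          zpow_natCast, ← map_pow, ht, map_one, one_zpow]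
      rw [← map_pow] at h1
      exact (QuotientGroup.eq_one_iff _).mp h1
    let u := k ^ (orderOf k / p)
    let s := k ^ (orderOf k / r)
    have hu_ord : orderOf u = p := orderOf_pow_orderOf_div hn0 hpn
    have hs_ord : orderOf s = r := orderOf_pow_orderOf_div hn0 hrn
    have huV : u ∈ V := by
      have : orderOf k / p = r * c := by
        rw [hc, mul_assoc, Nat.mul_div_cancel_left _ hpp.pos]
      show k ^ (orderOf k / p) ∈ V
      rw [this, pow_mul]
      exact V.pow_mem hkr c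
    have hsV : s ∉ V := by
      intro hsV
      obtain ⟨a, ha⟩ := hVord s hsV
      rw [hs_ord] at ha
      have : r ∣ p ^ a := by rw [← ha]
      have := (Nat.prime_dvd_prime_iff_eq hr hpp).mp (hr.dvd_of_dvd_pow this)
      exact hrp this
    have hsu : s * u = u * s := by
      show k ^ (orderOf k / r) * k ^ (orderOf k / p) = k ^ (orderOf k / p) * k ^ (orderOf k / r)
      rw [← pow_add, ← pow_add, add_comm]
    have hu1 := key s hsV u huV hsu
    rw [hu1, orderOf_one] at hu_ord
    exact hpp.one_lt.ne hu_ord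

theorem expSection_exists {X : Type*} [Group X] [Finite X] (p r : ℕ) [hp : Fact p.Prime]
    (hr : r.Prime) (hrp : r ≠ p) (D : Subgroup X) [hDn : D.Normal] (hD : IsPGroup p D) (g : X)
    (hsup : D ⊔ Subgroup.zpowers g = ⊤) (hgr : ∀ d ∈ D, g ^ r * d = d * g ^ r)
    (hcop : (orderOf g).Coprime p) (hcomm : ⁅D, Subgroup.zpowers g⁆ = D) (hD1 : D ≠ ⊥) :
    ∃ (N : Subgroup X) (_ : N.Normal), Cfsg.pPrimeCore p (X ⧸ N) = ⊥ ∧
      ∀ k : X ⧸ N, orderOf k ≠ Monoid.exponent (X ⧸ N) := by
  have hpp : p.Prime := hp.out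
  -- g^r is central
  have hcent : ∀ x : X, g ^ r * x = x * g ^ r := by
    have h1 : (⊤ : Subgroup X) ≤ Subgroup.centralizer ({g ^ r} : Set X) := by
      rw [← hsup]
      apply sup_le
      · intro d hd
        rw [Subgroup.mem_centralizer_singleton_iff]
        exact (hgr d hd).symm
      · rw [Subgroup.zpowers_le, Subgroup.mem_centralizer_singleton_iff, ← pow_succ, ← pow_succ']
    intro x
    have := h1 (Subgroup.mem_top x)
    rw [Subgroup.mem_centralizer_singleton_iff] at this
    exact this.symm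
  let Z : Subgroup X := Subgroup.zpowers (g ^ r)
  have hZc : ∀ z ∈ Z, ∀ x : X, z * x = x * z := by
    intro z hz x
    obtain ⟨i, rfl⟩ := Subgroup.mem_zpowers_iff.mp hz
    exact ((Commute.zpow_left (show Commute (g ^ r) x from hcent x) i)).eq
  have hZn : Z.Normal := by
    constructor
    intro z hz x
    rw [← hZc z hz x, mul_inv_cancel_right]
    exact hz
  let N : Subgroup X := ⁅D, D⁆ ⊔ Z
  have hNn : N.Normal := inferInstance
  refine ⟨N, hNn, ?_⟩
  let π : X →* X ⧸ N := QuotientGroup.mk' N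
  have hπs : Function.Surjective π := QuotientGroup.mk'_surjective N
  let V : Subgroup (X ⧸ N) := D.map π
  have hVn : V.Normal := hDn.map π hπs
  have hVp : IsPGroup p V := hD.map π
  have hker : ∀ x : X, π x = 1 ↔ x ∈ N := fun x => QuotientGroup.eq_one_iff x
  have hab : ∀ a ∈ V, ∀ b ∈ V, a * b = b * a := by
    rintro _ ⟨d₁, hd₁, rfl⟩ _ ⟨d₂, hd₂, rfl⟩
    have h1 : ⁅d₁, d₂⁆ ∈ N :=
      (le_sup_left : ⁅D, D⁆ ≤ N) (Subgroup.commutator_mem_commutator hd₁ hd₂)
    rw [← hker, map_commutatorElement, commutatorElement_eq_one_iff_mul_comm] at h1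
    exact h1
  have ht : (π g) ^ r = 1 := by
    rw [← map_pow, hker]
    exact (le_sup_right : Z ≤ N) (Subgroup.mem_zpowers _)
  have hsupV : V ⊔ Subgroup.zpowers (π g) = ⊤ := by
    rw [← MonoidHom.map_zpowers, ← Subgroup.map_sup, hsup, Subgroup.map_top_of_surjective π hπs]
  have hcommV : ⁅V, Subgroup.zpowers (π g)⁆ = V := by
    rw [← MonoidHom.map_zpowers, ← Subgroup.map_commutator, hcomm]
  -- coprimality
  have hcard_t : Nat.card (Subgroup.zpowers (π g)) ∣ r := by
    rw [Nat.card_zpowers]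
    exact orderOf_dvd_of_pow_eq_one ht
  have hcopV : (Nat.card (Subgroup.zpowers (π g))).Coprime (Nat.card V) := by
    obtain ⟨a, ha⟩ := IsPGroup.iff_card.mp hVp
    rw [ha]
    apply Nat.Coprime.pow_right
    exact Nat.Coprime.coprime_dvd_left hcard_t ((Nat.coprime_primes hr hpp).mpr hrp)
  have hVcomm : IsMulCommutative V := ⟨⟨fun a b => Subtype.ext (hab a a.2 b b.2)⟩⟩
  have hAV : Subgroup.zpowers (π g) ≤ Subgroup.normalizer (V : Set (X ⧸ N)) := by
    rw [Subgroup.normalizer_eq_top_iff.mpr hVn]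
    exact le_top
  have hdec := (Cfsg.Agent.Lib.Helper1.coprime_abelian_decomposition (Subgroup.zpowers (π g)) V hAV
    hcopV).1
  rw [hcommV] at hdec
  have hfix : ∀ v ∈ V, π g * v = v * π g → v = 1 := by
    intro v hv hvt
    have : v ∈ (V ⊓ Subgroup.centralizer ((Subgroup.zpowers (π g) : Subgroup (X ⧸ N)) : Set (X ⧸ N))) ⊓ V := by
      refine Subgroup.mem_inf.mpr ⟨Subgroup.mem_inf.mpr ⟨hv, ?_⟩, hv⟩
      rw [Subgroup.mem_centralizer_iff]
      intro z hz
      obtain ⟨i, rfl⟩ := Subgroup.mem_zpowers_iff.mp hz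
      exact ((Commute.zpow_left (show Commute (π g) v from hvt) i)).eq
    rw [hdec] at this
    exact Subgroup.mem_bot.mp this
  have hV1 : V ≠ ⊥ := by
    intro hV
    have hDN : D ≤ N := by
      intro d hd
      rw [← hker]
      have : π d ∈ V := ⟨d, hd, rfl⟩
      rw [hV] at this
      exact Subgroup.mem_bot.mp this
    have hDD : D ≤ ⁅D, D⁆ := by
      intro d hd
      have h1 : d ∈ ((⁅D, D⁆ ⊔ Z : Subgroup X) : Set X) := hDN hd
      rw [Subgroup.mul_normal, Set.mem_mul] at h1
      obtain ⟨c, hc, z, hz, rfl⟩ := h1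
      have hcD : c ∈ D := (Subgroup.commutator_le_left D D) hc
      have hzD : z ∈ D := by
        have : z = c⁻¹ * (c * z) := by group
        rw [this]
        exact D.mul_mem (D.inv_mem hcD) hd
      have hz1 : z = 1 := by
        obtain ⟨a, ha⟩ := (IsPGroup.iff_orderOf.mp hD) ⟨z, hzD⟩
        rw [Subgroup.orderOf_mk] at ha
        have h2 : orderOf z ∣ orderOf g :=
          dvd_trans (orderOf_dvd_of_mem_zpowers hz) (orderOf_pow_dvd _)
        have h3 : (orderOf z).Coprime (p ^ a) :=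
          Nat.Coprime.pow_right a (Nat.Coprime.coprime_dvd_left h2 hcop)
        rw [← ha, Nat.coprime_self] at h3
        exact orderOf_eq_one_iff.mp h3
      rw [hz1, mul_one]
      exact hc
    have hnil : Group.IsNilpotent D := hD.isNilpotent
    have hlt := Cfsg.Agent.Lib.Lead.commutator_lt_of_nilpotent D D le_rfl
      Subgroup.le_normalizer hnil hD1
    exact (lt_of_lt_of_le hlt hDD).false
  exact expSection_aux p r hr hrp V hVp hab (π g) ht hsupV hfix hV1

end Cfsg.Agent.Lib.helper23
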