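import Mathlib
import Cfsg.Agent.S0023

set_option autoImplicit false

namespace Cfsg.Agent.Lib.helper23

/-- Coprime action in the external form: there is an invariant Sylow `p`-subgroup. -/
theorem exists_smul_invariant_sylow {A G : Type*} [Group A] [Finite A] [Group G] [Finite G]
    [MulDistribMulAction A G] (hcop : (Nat.card A).Coprime (Nat.card G))
    (hsol : Group.IsSolvable A ∨ Group.IsSolvable G) (p : ℕ) [Fact p.Prime] :
    ∃ P : Sylow p G, ∀ a : A, ∀ x ∈ P, a • x ∈ P := by
  let φ : A →* MulAut G := MulDistribMulAction.toMulAut A G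
  have hfin : Finite (G ⋊[φ] A) := Finite.of_equiv _ SemidirectProduct.equivProd.symm
  let K : Subgroup (G ⋊[φ] A) := (SemidirectProduct.inl : G →* G ⋊[φ] A).range
  let A' : Subgroup (G ⋊[φ] A) := (SemidirectProduct.inr : A →* G ⋊[φ] A).range
  let eK : G ≃* K := MonoidHom.ofInjective SemidirectProduct.inl_injective
  let eA : A ≃* A' := MonoidHom.ofInjective SemidirectProduct.inr_injective
  have hKn : K.Normal := by
    have : K = (SemidirectProduct.rightHom : G ⋊[φ] A →* A).ker :=
      SemidirectProduct.range_inl_eq_ker_rightHom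
    rw [this]
    infer_instance
  have hAK : A' ≤ Subgroup.normalizer (K : Set (G ⋊[φ] A)) := by
    rw [Subgroup.normalizer_eq_top_iff.mpr hKn]
    exact le_top
  have hcop' : (Nat.card A').Coprime (Nat.card K) := by
    rw [← Nat.card_congr eA.toEquiv, ← Nat.card_congr eK.toEquiv]
    exact hcop
  have hsol' : Group.IsSolvable A' ∨ Group.IsSolvable K := by
    rcases hsol with h | h
    · left
      exact Group.isSolvable_of_surjective (f := eA.toMonoidHom) eA.surjective
    · right
      exact Group.isSolvable_of_surjective (f := eK.toMonoidHom) eK.surjective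
  obtain ⟨P', hP'⟩ := Cfsg.Agent.S0023.result A' K hAK hcop' hsol' p
  let f : G →* K := eK.toMonoidHom
  have hf : Function.Injective f := fun a b h => eK.injective h
  have hrange : (P' : Subgroup K) ≤ f.range := by
    intro x _
    exact ⟨eK.symm x, eK.apply_symm_apply x⟩
  refine ⟨P'.comapOfInjective f hf hrange, ?_⟩
  intro a x hx
  have hmem : ∀ y : G, y ∈ P'.comapOfInjective f hf hrange ↔
      eK y ∈ (P' : Subgroup K) := by
    intro y
    show y ∈ ((P'.comapOfInjective f hf hrange : Sylow p G) : Subgroup G) ↔ _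
    rw [Sylow.coe_comapOfInjective, Subgroup.mem_comap]
    rfl
  rw [hmem] at hx ⊢
  have h1 : (SemidirectProduct.inl x : G ⋊[φ] A) ∈ (P' : Subgroup K).map K.subtype :=
    ⟨eK x, hx, rfl⟩
  have h2 : (SemidirectProduct.inr a : G ⋊[φ] A) ∈ A' := ⟨a, rfl⟩
  have h3 := (Subgroup.mem_normalizer_iff.mp (hP' h2) _).mp h1
  have h4 : (SemidirectProduct.inl (a • x) : G ⋊[φ] A)
      = SemidirectProduct.inr a * SemidirectProduct.inl x * (SemidirectProduct.inr a)⁻¹ := by
    rw [← map_inv]
    exact SemidirectProduct.inl_aut (φ := φ) a x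
  rw [← h4] at h3
  obtain ⟨y, hy, hyx⟩ := h3
  have : y = eK (a • x) := Subtype.ext hyx
  rw [← this]
  exact hy

end Cfsg.Agent.Lib.helper23
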