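import Mathlib
import Cfsg.Agent.Lib.helper6.ZPh2

set_option autoImplicit false

/-!
# Targets of the core quotient of a Frobenius complement

`FcqT T` says: every normal subgroup of `T` all of whose Sylow subgroups are cyclic is trivial,
or `T` has order four and the subgroup has order two.
-/

namespace Cfsg.Agent.Lib.helper23

open Equiv

/-- the property of the six possible quotients -/
def FcqT (T : Type*) [Group T] : Prop :=
  ∀ K : Subgroup T, K.Normal → IsZGroup K → K = ⊥ ∨ (Nat.card T = 4 ∧ Nat.card K = 2)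

/-- a group with a Klein four subgroup is not a Z-group -/
theorem fcq_klein_not_z {H : Type*} [Group H] (u v : H) (hu : u ≠ 1) (hv : v ≠ 1) (huv : u ≠ v)
    (hu2 : u * u = 1) (hv2 : v * v = 1) (hc : u * v = v * u) : ¬ IsZGroup H := by
  intro hZ
  obtain ⟨hK, -⟩ := Cfsg.Agent.Lib.helper6.ZP.klein_closure u v hu hv huv hu2 hv2 hc
  haveI : Fact (Nat.Prime 2) := ⟨Nat.prime_two⟩
  have hP : IsPGroup 2 (Subgroup.closure ({u, v} : Set H)) :=
    IsPGroup.of_card (n := 2) (by rw [hK.card_four]; norm_num)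
  have := hP.isCyclic_of_isZGroup
  exact hK.not_isCyclic this

/-- the same for a subgroup -/
theorem fcq_klein_not_z_sub {H : Type*} [Group H] (K : Subgroup H) (u v : H) (huK : u ∈ K)
    (hvK : v ∈ K) (hu : u ≠ 1) (hv : v ≠ 1) (huv : u ≠ v)
    (hu2 : u * u = 1) (hv2 : v * v = 1) (hc : u * v = v * u) : ¬ IsZGroup K := by
  apply fcq_klein_not_z (⟨u, huK⟩ : K) ⟨v, hvK⟩
  · intro h; exact hu (congrArg Subtype.val h)
  · intro h; exact hv (congrArg Subtype.val h)
  · intro h; exact huv (congrArg Subtype.val h)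
  · exact Subtype.ext hu2
  · exact Subtype.ext hv2
  · exact Subtype.ext hc

/-- the trivial group is a target -/
theorem fcqT_of_subsingleton (T : Type*) [Group T] [Subsingleton T] : FcqT T := by
  intro K _ _
  left
  exact Subsingleton.elim _ _

theorem fcq_d2_sq : ∀ x : DihedralGroup 2, x * x = 1 := by decide

/-- the four-group is a target -/
theorem fcqT_d2 : FcqT (DihedralGroup 2) := by
  intro K _ hZ
  have hcard : Nat.card (DihedralGroup 2) = 4 := by
    rw [Nat.card_eq_fintype_card, DihedralGroup.card]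
  by_cases hb : K = ⊥
  · left; exact hb
  right
  refine ⟨hcard, ?_⟩
  have hdvd : Nat.card K ∣ 4 := hcard ▸ K.card_subgroup_dvd_card
  have hne1 : Nat.card K ≠ 1 := fun h => hb (Subgroup.card_eq_one.mp h)
  have hne4 : Nat.card K ≠ 4 := by
    intro h
    have htop : K = ⊤ := Subgroup.eq_top_of_card_eq K (by rw [h, hcard])
    apply fcq_klein_not_z_sub K (DihedralGroup.r 1) (DihedralGroup.sr 0) (htop ▸ Subgroup.mem_top _)
      (htop ▸ Subgroup.mem_top _) (by decide) (by decide) (by decide) (by decide) (by decide)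
      (by decide) hZ
  have hle : Nat.card K ≤ 4 := Nat.le_of_dvd (by norm_num) hdvd
  have hpos : 0 < Nat.card K := Nat.card_pos
  interval_cases h : Nat.card K
  · exact absurd rfl hne1
  · rfl
  · omega
  · exact absurd rfl hne4

end Cfsg.Agent.Lib.helper23

namespace Cfsg.Agent.Lib.helper23

open Equiv

/-- a double transposition in `A₄` -/
def fcqU4 : alternatingGroup (Fin 4) :=
  ⟨swap 0 1 * swap 2 3, by rw [Equiv.Perm.mem_alternatingGroup]; decide⟩
/-- a second double transposition in `A₄` -/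
def fcqV4 : alternatingGroup (Fin 4) :=
  ⟨swap 0 2 * swap 1 3, by rw [Equiv.Perm.mem_alternatingGroup]; decide⟩

set_option maxRecDepth 100000 in
theorem fcq_a4_key : ∀ g : alternatingGroup (Fin 4), g = 1 ∨
    ((∃ a b : alternatingGroup (Fin 4), ∃ e1 e2 : Fin 3,
      (a * g ^ (e1 : ℕ) * a⁻¹) * (b * g ^ (e2 : ℕ) * b⁻¹) = fcqU4) ∧
     (∃ a b : alternatingGroup (Fin 4), ∃ e1 e2 : Fin 3,
      (a * g ^ (e1 : ℕ) * a⁻¹) * (b * g ^ (e2 : ℕ) * b⁻¹) = fcqV4)) := by
  decide +kernel

/-- a double transposition in `S₄` -/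
def fcqU4s : Perm (Fin 4) := swap 0 1 * swap 2 3
/-- a second double transposition in `S₄` -/
def fcqV4s : Perm (Fin 4) := swap 0 2 * swap 1 3

set_option maxRecDepth 100000 in
theorem fcq_s4_key : ∀ g : Perm (Fin 4), g = 1 ∨
    ((∃ a b : Perm (Fin 4), ∃ e1 e2 : Fin 3,
      (a * g ^ (e1 : ℕ) * a⁻¹) * (b * g ^ (e2 : ℕ) * b⁻¹) = fcqU4s) ∧
     (∃ a b : Perm (Fin 4), ∃ e1 e2 : Fin 3,
      (a * g ^ (e1 : ℕ) * a⁻¹) * (b * g ^ (e2 : ℕ) * b⁻¹) = fcqV4s)) := by
  decide +kernel

/-- a product of two conjugates of powers lies in a normal subgroup -/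
theorem fcq_conj_mem {T : Type*} [Group T] (K : Subgroup T) [hK : K.Normal] (g : T) (hg : g ∈ K)
    (a b : T) (e1 e2 : ℕ) : (a * g ^ e1 * a⁻¹) * (b * g ^ e2 * b⁻¹) ∈ K :=
  K.mul_mem (hK.conj_mem _ (K.pow_mem hg _) _) (hK.conj_mem _ (K.pow_mem hg _) _)

/-- `A₄` is a target -/
theorem fcqT_a4 : FcqT (alternatingGroup (Fin 4)) := by
  intro K hK hZ
  left
  by_contra hb
  obtain ⟨g, hg, hg1⟩ : ∃ g : alternatingGroup (Fin 4), g ∈ K ∧ g ≠ 1 := by
    obtain ⟨g, hg⟩ := (Subgroup.ne_bot_iff_exists_ne_one (H := K)).mp hb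
    exact ⟨g, g.2, fun h => hg (Subtype.ext h)⟩
  rcases fcq_a4_key g with h | ⟨⟨a, b, e1, e2, hu⟩, ⟨a', b', e1', e2', hv⟩⟩
  · exact hg1 h
  · have huK : fcqU4 ∈ K := hu ▸ fcq_conj_mem K g hg a b e1 e2
    have hvK : fcqV4 ∈ K := hv ▸ fcq_conj_mem K g hg a' b' e1' e2'
    exact fcq_klein_not_z_sub K fcqU4 fcqV4 huK hvK (by decide) (by decide) (by decide)
      (by decide) (by decide) (by decide) hZ

/-- `S₄` is a target -/
theorem fcqT_s4 : FcqT (Perm (Fin 4)) := by
  intro K hK hZ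
  left
  by_contra hb
  obtain ⟨g, hg, hg1⟩ : ∃ g : Perm (Fin 4), g ∈ K ∧ g ≠ 1 := by
    obtain ⟨g, hg⟩ := (Subgroup.ne_bot_iff_exists_ne_one (H := K)).mp hb
    exact ⟨g, g.2, fun h => hg (Subtype.ext h)⟩
  rcases fcq_s4_key g with h | ⟨⟨a, b, e1, e2, hu⟩, ⟨a', b', e1', e2', hv⟩⟩
  · exact hg1 h
  · have huK : fcqU4s ∈ K := hu ▸ fcq_conj_mem K g hg a b e1 e2
    have hvK : fcqV4s ∈ K := hv ▸ fcq_conj_mem K g hg a' b' e1' e2'
    exact fcq_klein_not_z_sub K fcqU4s fcqV4s huK hvK (by decide) (by decide) (by decide)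
      (by decide) (by decide) (by decide) hZ

/-- a double transposition in `S₅` -/
def fcqU5s : Perm (Fin 5) := swap 0 1 * swap 2 3
/-- a second double transposition in `S₅` -/
def fcqV5s : Perm (Fin 5) := swap 0 2 * swap 1 3

theorem fcqU5s_mem : fcqU5s ∈ alternatingGroup (Fin 5) := by
  rw [Equiv.Perm.mem_alternatingGroup]; decide
theorem fcqV5s_mem : fcqV5s ∈ alternatingGroup (Fin 5) := by
  rw [Equiv.Perm.mem_alternatingGroup]; decide

/-- `S₅` is a target -/
theorem fcqT_s5 : FcqT (Perm (Fin 5)) := by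
  intro K hK hZ
  left
  by_contra hb
  haveI : Nontrivial K := (Subgroup.nontrivial_iff_ne_bot K).mpr hb
  have hle : alternatingGroup (Fin 5) ≤ K :=
    Equiv.Perm.alternatingGroup_le_of_normal (by simp) this
  exact fcq_klein_not_z_sub K fcqU5s fcqV5s (hle fcqU5s_mem) (hle fcqV5s_mem) (by decide)
    (by decide) (by decide) (by decide) (by decide) (by decide) hZ

/-- `A₅` is a target -/
theorem fcqT_a5 : FcqT (alternatingGroup (Fin 5)) := by
  intro K hK hZ
  left
  haveI : IsSimpleGroup (alternatingGroup (Fin 5)) := alternatingGroup.isSimpleGroup (by simp)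
  rcases hK.eq_bot_or_eq_top with h | h
  · exact h
  · exfalso
    apply fcq_klein_not_z_sub K ⟨fcqU5s, fcqU5s_mem⟩ ⟨fcqV5s, fcqV5s_mem⟩
      (h ▸ Subgroup.mem_top _) (h ▸ Subgroup.mem_top _) _ _ _ _ _ _ hZ
    · intro h; exact absurd (congrArg Subtype.val h) (by decide)
    · intro h; exact absurd (congrArg Subtype.val h) (by decide)
    · intro h; exact absurd (congrArg Subtype.val h) (by decide)
    · apply Subtype.ext; show fcqU5s * fcqU5s = 1; decide
    · apply Subtype.ext; show fcqV5s * fcqV5s = 1; decide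
    · apply Subtype.ext; show fcqU5s * fcqV5s = fcqV5s * fcqU5s; decide

end Cfsg.Agent.Lib.helper23
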