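import Mathlib
import Cfsg.Agent.Lib.helper23.FcqA

set_option autoImplicit false

/-!
# Uniqueness of the core of a Frobenius complement
-/

namespace Cfsg.Agent.Lib.helper23

/-- two elements of a group of exponent two generate at most four elements -/
theorem fcq_closure_pair_card {Q : Type*} [Group Q] (hsq : ∀ q : Q, q * q = 1) (x y : Q) :
    Nat.card (Subgroup.closure ({x, y} : Set Q)) ≤ 4 := by
  have hcomm : ∀ a b : Q, a * b = b * a := by
    intro a b
    have h1 := hsq (a * b)
    have ha : a⁻¹ = a := inv_eq_of_mul_eq_one_right (hsq a)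
    have hb : b⁻¹ = b := inv_eq_of_mul_eq_one_right (hsq b)
    have h2 : a * b = (a * b)⁻¹ := (inv_eq_of_mul_eq_one_right h1).symm
    rw [h2, mul_inv_rev, ha, hb]
  have hxi : x⁻¹ = x := inv_eq_of_mul_eq_one_right (hsq x)
  have hyi : y⁻¹ = y := inv_eq_of_mul_eq_one_right (hsq y)
  have hmx : ∀ t : Q, (t = 1 ∨ t = x ∨ t = y ∨ t = x * y) →
      (x * t = 1 ∨ x * t = x ∨ x * t = y ∨ x * t = x * y) := by
    rintro t (h | h | h | h) <;> rw [h]
    · right; left; rw [mul_one]
    · left; exact hsq x
    · right; right; right; rfl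
    · right; right; left; rw [← mul_assoc, hsq x, one_mul]
  have hmy : ∀ t : Q, (t = 1 ∨ t = x ∨ t = y ∨ t = x * y) →
      (y * t = 1 ∨ y * t = x ∨ y * t = y ∨ y * t = x * y) := by
    rintro t (h | h | h | h) <;> rw [h]
    · right; right; left; rw [mul_one]
    · right; right; right; exact hcomm y x
    · left; exact hsq y
    · right; left; rw [hcomm x y, ← mul_assoc, hsq y, one_mul]
  have hform : ∀ t ∈ Subgroup.closure ({x, y} : Set Q), t = 1 ∨ t = x ∨ t = y ∨ t = x * y := by
    intro t ht
    induction ht using Subgroup.closure_induction_left with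
    | one => left; rfl
    | mul_left s hs t _ ih =>
      rcases hs with rfl | rfl
      · exact hmx t ih
      · exact hmy t ih
    | inv_mul_cancel s hs t _ ih =>
      rcases hs with rfl | rfl
      · rw [hxi]; exact hmx t ih
      · rw [hyi]; exact hmy t ih
  have hsub : ((Subgroup.closure ({x, y} : Set Q) : Subgroup Q) : Set Q) ⊆ {1, x, y, x * y} := by
    intro t ht
    rcases hform t ht with h | h | h | h <;> simp [h]
  calc Nat.card (Subgroup.closure ({x, y} : Set Q))
      = ((Subgroup.closure ({x, y} : Set Q) : Subgroup Q) : Set Q).ncard := rfl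
    _ ≤ ({1, x, y, x * y} : Set Q).ncard := Set.ncard_le_ncard hsub (Set.toFinite _)
    _ ≤ 4 := by
        refine (Set.ncard_insert_le _ _).trans ?_
        refine Nat.succ_le_succ ((Set.ncard_insert_le _ _).trans ?_)
        refine Nat.succ_le_succ ((Set.ncard_insert_le _ _).trans ?_)
        rw [Set.ncard_singleton]

/-- a group with two-generated Sylow 2-subgroups has no elementary abelian quotient of order
bigger than four -/
theorem fcq_quot_le_four {G : Type*} [Group G] [Finite G]
    (hS : ∀ S : Sylow 2 G, ∃ a b : G, (S : Subgroup G) = Subgroup.closure {a, b})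
    {Q : Type*} [Group Q] (φ : G →* Q) (hφ : Function.Surjective φ) (hsq : ∀ q : Q, q * q = 1) :
    Nat.card Q ≤ 4 := by
  haveI : Fact (Nat.Prime 2) := ⟨Nat.prime_two⟩
  haveI : Finite Q := Finite.of_surjective φ hφ
  have hQ : IsPGroup 2 Q := by
    intro q
    exact ⟨1, by rw [pow_one, pow_two, hsq]⟩
  obtain ⟨n, hn⟩ := IsPGroup.iff_card.mp hQ
  obtain ⟨S⟩ : Nonempty (Sylow 2 G) := inferInstance
  obtain ⟨a, b, hab⟩ := hS S
  have h1 : Nat.card (S.mapSurjective hφ : Sylow 2 Q) = Nat.card Q := by
    rw [Sylow.card_eq_multiplicity, hn, Nat.Prime.factorization_pow Nat.prime_two]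
    simp
  have h2 : ((S.mapSurjective hφ : Sylow 2 Q) : Subgroup Q) =
      Subgroup.closure ({φ a, φ b} : Set Q) := by
    rw [Sylow.coe_mapSurjective, hab, MonoidHom.map_closure]
    congr 1
    ext t
    simp [Set.image_pair]
  rw [← h1]
  show Nat.card ((S.mapSurjective hφ : Sylow 2 Q) : Subgroup Q) ≤ 4
  rw [h2]
  exact fcq_closure_pair_card hsq _ _

/-- a target of order four has exponent two -/
theorem fcqT_sq_of_card_four {T : Type*} [Group T] (hT : FcqT T) (h4 : Nat.card T = 4) (x : T) :
    x * x = 1 := by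
  haveI : Finite T := Nat.finite_of_card_ne_zero (by rw [h4]; norm_num)
  have hnc : ¬ IsCyclic T := by
    intro hc
    have hZ : IsZGroup (⊤ : Subgroup T) := inferInstance
    rcases hT ⊤ inferInstance hZ with h | ⟨-, h⟩
    · have := Subgroup.card_top (G := T)
      rw [h, Subgroup.card_bot] at this
      omega
    · rw [Subgroup.card_top] at h
      omega
  have hdvd : orderOf x ∣ 4 := h4 ▸ orderOf_dvd_natCard x
  have hne4 : orderOf x ≠ 4 := by
    intro h
    exact hnc (isCyclic_of_orderOf_eq_card x (by rw [h, h4]))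
  have hle : orderOf x ≤ 4 := Nat.le_of_dvd (by norm_num) hdvd
  have hpos : 0 < orderOf x := orderOf_pos x
  have h2 : orderOf x ∣ 2 := by
    interval_cases h : orderOf x
    · norm_num
    · norm_num
    · omega
    · exact absurd rfl hne4
  rw [← pow_two]
  exact orderOf_dvd_iff_pow_eq_one.mp h2

/-- a group of order two is not a target -/
theorem fcqT_card_ne_two {T : Type*} [Group T] (hT : FcqT T) : Nat.card T ≠ 2 := by
  intro h2
  haveI : Finite T := Nat.finite_of_card_ne_zero (by rw [h2]; norm_num)
  haveI : Fact (Nat.Prime 2) := ⟨Nat.prime_two⟩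
  haveI : IsCyclic T := isCyclic_of_prime_card h2
  have hZ : IsZGroup (⊤ : Subgroup T) := inferInstance
  rcases hT ⊤ inferInstance hZ with h | ⟨h, -⟩
  · have := Subgroup.card_top (G := T)
    rw [h, Subgroup.card_bot] at this
    omega
  · omega

/-- **Uniqueness**: two normal Z-subgroups with quotients among the targets coincide. -/
theorem fcq_unique {G : Type*} [Group G] [Finite G]
    (hS : ∀ S : Sylow 2 G, ∃ a b : G, (S : Subgroup G) = Subgroup.closure {a, b})
    {T1 T2 : Type*} [Group T1] [Group T2] (hT1 : FcqT T1) (hT2 : FcqT T2)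
    (f1 : G →* T1) (f2 : G →* T2) (hf1 : Function.Surjective f1) (hf2 : Function.Surjective f2)
    (hZ1 : IsZGroup f1.ker) (hZ2 : IsZGroup f2.ker) : f1.ker = f2.ker := by
  haveI : Finite T1 := Finite.of_surjective f1 hf1
  haveI : Finite T2 := Finite.of_surjective f2 hf2
  -- images
  have hK1n : (f2.ker.map f1).Normal := Subgroup.Normal.map inferInstance f1 hf1
  have hK2n : (f1.ker.map f2).Normal := Subgroup.Normal.map inferInstance f2 hf2
  have hK1z : IsZGroup (f2.ker.map f1) :=
    IsZGroup.of_surjective (f := f1.subgroupMap f2.ker) (f1.subgroupMap_surjective f2.ker)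
  have hK2z : IsZGroup (f1.ker.map f2) :=
    IsZGroup.of_surjective (f := f2.subgroupMap f1.ker) (f2.subgroupMap_surjective f1.ker)
  have hc1 : Nat.card T1 = f1.ker.index := by
    rw [Subgroup.index_ker, MonoidHom.range_eq_top.mpr hf1, Subgroup.card_top]
  have hc2 : Nat.card T2 = f2.ker.index := by
    rw [Subgroup.index_ker, MonoidHom.range_eq_top.mpr hf2, Subgroup.card_top]
  have hr1 : f1.ker.relIndex f2.ker = Nat.card (f2.ker.map f1) := Subgroup.relIndex_ker f2.ker f1
  have hr2 : f2.ker.relIndex f1.ker = Nat.card (f1.ker.map f2) := Subgroup.relIndex_ker f1.ker f2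
  rcases hT1 _ hK1n hK1z with h1 | ⟨h14, h12⟩
  · have hle21 : f2.ker ≤ f1.ker := (Subgroup.map_eq_bot_iff _).mp h1
    rcases hT2 _ hK2n hK2z with h2 | ⟨h24, h22⟩
    · exact le_antisymm ((Subgroup.map_eq_bot_iff _).mp h2) hle21
    · exfalso
      have := Subgroup.relIndex_mul_index hle21
      rw [hr2, h22, ← hc2, h24, ← hc1] at this
      exact fcqT_card_ne_two hT1 (by omega)
  · rcases hT2 _ hK2n hK2z with h2 | ⟨h24, h22⟩
    · exfalso
      have hle12 : f1.ker ≤ f2.ker := (Subgroup.map_eq_bot_iff _).mp h2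
      have := Subgroup.relIndex_mul_index hle12
      rw [hr1, h12, ← hc1, h14, ← hc2] at this
      exact fcqT_card_ne_two hT2 (by omega)
    · exfalso
      -- the product map
      have hker : (f1.prod f2).ker = f1.ker ⊓ f2.ker := MonoidHom.ker_prod f1 f2
      have hidx : (f1.ker ⊓ f2.ker).index = 8 := by
        have h1 := Subgroup.relIndex_mul_index (inf_le_left : f1.ker ⊓ f2.ker ≤ f1.ker)
        rw [inf_comm, Subgroup.inf_relIndex_right, hr2, h22, ← hc1, h14] at h1
        rw [inf_comm]
        omega
      have hcard : Nat.card (f1.prod f2).range = 8 := by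
        rw [← Subgroup.index_ker, hker, hidx]
      have hsq : ∀ q : (f1.prod f2).range, q * q = 1 := by
        rintro ⟨⟨t1, t2⟩, hq⟩
        apply Subtype.ext
        show ((t1, t2) : T1 × T2) * (t1, t2) = 1
        rw [Prod.mk_mul_mk, fcqT_sq_of_card_four hT1 h14, fcqT_sq_of_card_four hT2 h24]
        rfl
      have := fcq_quot_le_four hS (f1.prod f2).rangeRestrict
        (f1.prod f2).rangeRestrict_surjective hsq
      omega

end Cfsg.Agent.Lib.helper23
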