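import Mathlib
import Cfsg.Agent.Lib.helper23.FcqB

set_option autoImplicit false

/-!
# Generalised quaternion groups: two generators and the map onto the four-group
-/

namespace Cfsg.Agent.Lib.helper23

open QuaternionGroup

/-- the reduction modulo two -/
def fcqRed (m : ℕ) : ZMod (2 * m) →+* ZMod 2 := ZMod.castHom (dvd_mul_right 2 m) (ZMod 2)

theorem fcqRed_m (m : ℕ) (hm : Even m) : fcqRed m (m : ZMod (2 * m)) = 0 := by
  rw [map_natCast]
  obtain ⟨k, rfl⟩ := hm
  have : ((k + k : ℕ) : ZMod 2) = (2 : ZMod 2) * k := by push_cast; ring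
  rw [this]
  have h2 : (2 : ZMod 2) = 0 := by decide
  rw [h2, zero_mul]

/-- the map of a generalised quaternion group of order `8k` onto the four-group -/
def fcqQD (m : ℕ) (hm : Even m) : QuaternionGroup m →* DihedralGroup 2 where
  toFun g := match g with
    | a i => DihedralGroup.r (fcqRed m i)
    | xa i => DihedralGroup.sr (fcqRed m i)
  map_one' := by
    show DihedralGroup.r (fcqRed m 0) = 1
    rw [map_zero]
    rfl
  map_mul' := by
    rintro (i | i) (j | j)
    · show DihedralGroup.r (fcqRed m (i + j)) = DihedralGroup.r _ * DihedralGroup.r _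
      rw [map_add, DihedralGroup.r_mul_r]
    · show DihedralGroup.sr (fcqRed m (j - i)) = DihedralGroup.r _ * DihedralGroup.sr _
      rw [map_sub, DihedralGroup.r_mul_sr]
    · show DihedralGroup.sr (fcqRed m (i + j)) = DihedralGroup.sr _ * DihedralGroup.r _
      rw [map_add, DihedralGroup.sr_mul_r]
    · show DihedralGroup.r (fcqRed m (m + j - i)) = DihedralGroup.sr _ * DihedralGroup.sr _
      rw [map_sub, map_add, fcqRed_m m hm, zero_add, DihedralGroup.sr_mul_sr]

theorem fcqQD_a (m : ℕ) (hm : Even m) (i : ZMod (2 * m)) :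
    fcqQD m hm (a i) = DihedralGroup.r (fcqRed m i) := rfl

theorem fcqQD_xa (m : ℕ) (hm : Even m) (i : ZMod (2 * m)) :
    fcqQD m hm (xa i) = DihedralGroup.sr (fcqRed m i) := rfl

theorem fcqQD_surjective (m : ℕ) (hm : Even m) : Function.Surjective (fcqQD m hm) := by
  have hred : ∀ t : ZMod 2, fcqRed m ((t.val : ℕ) : ZMod (2 * m)) = t := by
    intro t
    rw [map_natCast]
    exact ZMod.natCast_zmod_val t
  rintro (t | t)
  · exact ⟨a ((t.val : ℕ) : ZMod (2 * m)), by rw [fcqQD_a, hred]⟩
  · exact ⟨xa ((t.val : ℕ) : ZMod (2 * m)), by rw [fcqQD_xa, hred]⟩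

theorem fcqQD_ker_le (m : ℕ) [NeZero m] (hm : Even m) :
    (fcqQD m hm).ker ≤ Subgroup.zpowers (a 1 : QuaternionGroup m) := by
  rintro (i | i) hg
  · rw [Subgroup.mem_zpowers_iff]
    refine ⟨(i.val : ℤ), ?_⟩
    rw [zpow_natCast, a_one_pow, ZMod.natCast_zmod_val]
  · exfalso
    rw [MonoidHom.mem_ker, fcqQD_xa] at hg
    exact absurd hg (by
      intro h
      have : (DihedralGroup.sr (fcqRed m i) : DihedralGroup 2) ≠ 1 := by
        show DihedralGroup.sr _ ≠ DihedralGroup.r 0
        exact fun h => by cases h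
      exact this h)

theorem fcqQD_ker_cyclic (m : ℕ) [NeZero m] (hm : Even m) : IsCyclic (fcqQD m hm).ker :=
  Subgroup.isCyclic_of_le (fcqQD_ker_le m hm)

/-- a generalised quaternion group is generated by two elements -/
theorem fcq_quat_two_gen (m : ℕ) [NeZero m] :
    (⊤ : Subgroup (QuaternionGroup m)) = Subgroup.closure {a 1, xa 0} := by
  symm
  rw [eq_top_iff]
  have ha : ∀ i : ZMod (2 * m), (a i : QuaternionGroup m) ∈
      Subgroup.closure ({a 1, xa 0} : Set (QuaternionGroup m)) := by
    intro i
    have h1 : (a 1 : QuaternionGroup m) ∈ Subgroup.closure ({a 1, xa 0} : Set (QuaternionGroup m)) :=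
      Subgroup.subset_closure (by simp)
    have := Subgroup.pow_mem _ h1 i.val
    rwa [a_one_pow, ZMod.natCast_zmod_val] at this
  rintro (i | i) -
  · exact ha i
  · have h0 : (xa 0 : QuaternionGroup m) ∈
        Subgroup.closure ({a 1, xa 0} : Set (QuaternionGroup m)) :=
      Subgroup.subset_closure (by simp)
    have := Subgroup.mul_mem _ h0 (ha i)
    rwa [xa_mul_a, zero_add] at this

/-- Sylow 2-subgroups that are cyclic or generalised quaternion are generated by two elements -/
theorem fcq_two_gen {G : Type*} [Group G] (S : Subgroup G)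
    (h : IsCyclic S ∨ ∃ n : ℕ, Nonempty (S ≃* QuaternionGroup (2 ^ n))) :
    ∃ x y : G, S = Subgroup.closure {x, y} := by
  rcases h with h | ⟨n, ⟨e⟩⟩
  · obtain ⟨g, hg⟩ := h.exists_generator
    refine ⟨(g : G), 1, ?_⟩
    apply le_antisymm
    · intro s hs
      obtain ⟨k, hk⟩ := Subgroup.mem_zpowers_iff.mp (hg ⟨s, hs⟩)
      have : s = (g : G) ^ k := by
        have := congrArg Subtype.val hk
        simpa using this.symm
      rw [this]
      exact Subgroup.zpow_mem _ (Subgroup.subset_closure (by simp)) k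
    · rw [Subgroup.closure_le]
      rintro t (rfl | ht)
      · exact g.2
      · rw [Set.mem_singleton_iff] at ht
        rw [ht]; exact S.one_mem
  · haveI : NeZero (2 ^ n) := ⟨by positivity⟩
    refine ⟨((e.symm (a 1) : S) : G), ((e.symm (xa 0) : S) : G), ?_⟩
    have h1 : (⊤ : Subgroup S) = Subgroup.closure {e.symm (a 1), e.symm (xa 0)} := by
      have := congrArg (Subgroup.map e.symm.toMonoidHom) (fcq_quat_two_gen (2 ^ n))
      rw [MonoidHom.map_closure, Subgroup.map_top_of_surjective _ e.symm.surjective] at this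
      rw [this]
      congr 1
      ext t
      simp [Set.image_pair]
    have h2 := congrArg (Subgroup.map S.subtype) h1
    rw [MonoidHom.map_closure, ← MonoidHom.range_eq_map, Subgroup.range_subtype] at h2
    refine h2.trans ?_
    congr 1
    ext t
    simp [Set.image_pair]

end Cfsg.Agent.Lib.helper23
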