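import Mathlib
import Cfsg.Agent.Lib.helper23.FcqC
import Cfsg.Agent.Lib.Helper19.FrobComplSolv

set_option autoImplicit false

/-!
# The core quotient of a solvable Frobenius complement
-/

namespace Cfsg.Agent.Lib.helper23

open QuaternionGroup Equiv Cfsg.Agent.Lib.Helper19 Cfsg.Agent.Lib.Helper1 Cfsg.Agent.Lib.Helper9
  Cfsg.Agent.Lib.Helper19.Ord48 Cfsg.Agent.Lib.Helper19.RankOneCore
  Cfsg.Agent.Lib.Helper19.FrobComplSolv

/-- 2-subgroups of the kernel of a composite `G → G/K → T` with `K` of odd order and the second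
kernel cyclic are cyclic -/
theorem fcq_two_subgroup_of_ker {G : Type*} [Group G] [Finite G] (K : Subgroup G) [K.Normal]
    (hK : (Nat.card K).Coprime 2) {T : Type*} [Group T] (fbar : G ⧸ K →* T)
    (hcyc : IsCyclic fbar.ker)
    (S : Subgroup G) (hS : IsPGroup 2 S) (hSk : S ≤ (fbar.comp (QuotientGroup.mk' K)).ker) :
    IsCyclic S := by
  have hmem : ∀ w : ↥S, QuotientGroup.mk' K (w : G) ∈ fbar.ker := by
    intro w
    have := hSk w.2
    rw [MonoidHom.mem_ker, MonoidHom.comp_apply] at this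
    exact MonoidHom.mem_ker.mpr this
  set g : ↥S →* ↥fbar.ker :=
    ((QuotientGroup.mk' K).comp S.subtype).codRestrict fbar.ker hmem with hg
  have hginj : Function.Injective g := by
    rw [injective_iff_map_eq_one]
    intro w hw
    have h1 : QuotientGroup.mk' K (w : G) = 1 := congrArg Subtype.val hw
    have h2 : (w : G) ∈ K := (QuotientGroup.eq_one_iff _).mp h1
    exact Subtype.ext (eq_one_of_mem_of_two_group K S hK hS w w.2 h2)
  exact isCyclic_of_injective g hginj

/-- the kernel of a map is a Z-group when its 2-subgroups are cyclic -/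
theorem fcq_ker_zgroup {G : Type*} [Group G] [Finite G] {T : Type*} [Group T] (f : G →* T)
    (hF2 : ∀ (p : ℕ) [Fact p.Prime] (P : Sylow p G), IsCyclic (P : Subgroup G) ∨
      ∃ n : ℕ, Nonempty ((P : Subgroup G) ≃* QuaternionGroup (2 ^ n)))
    (hf : ∀ S : Subgroup G, S ≤ f.ker → IsPGroup 2 S → IsCyclic S) : IsZGroup f.ker := by
  rw [isZGroup_iff]
  intro p hp P
  haveI : Fact p.Prime := ⟨hp⟩
  apply Cfsg.Agent.Lib.Helper1.isCyclic_of_map_subtype f.ker (P : Subgroup ↥f.ker)
  have hSp : IsPGroup p ↥((P : Subgroup ↥f.ker).map f.ker.subtype) := P.2.map _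
  have hSk : (P : Subgroup ↥f.ker).map f.ker.subtype ≤ f.ker := Subgroup.map_subtype_le _
  by_cases hp2 : p = 2
  · subst hp2
    exact hf _ hSk hSp
  · obtain ⟨Q, hQ⟩ := hSp.exists_le_sylow
    rcases hF2 p Q with h | ⟨n, ⟨e⟩⟩
    · exact Subgroup.isCyclic_of_le hQ
    · exfalso
      have hNZ : NeZero (2 ^ n) := ⟨by positivity⟩
      obtain ⟨k, hk⟩ := IsPGroup.iff_card.mp Q.isPGroup'
      rw [Nat.card_congr e.toEquiv, Nat.card_eq_fintype_card, QuaternionGroup.card] at hk
      have h2 : 2 ∣ p ^ k := by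
        rw [← hk]
        exact Dvd.dvd.mul_right (by norm_num) _
      have h3 : 2 ∣ p := Nat.Prime.dvd_of_dvd_pow Nat.prime_two h2
      exact hp2 ((Nat.prime_dvd_prime_iff_eq Nat.prime_two hp).mp h3).symm

/-- a group all of whose Sylow 2-subgroups are cyclic, with the Frobenius Sylow structure, is a
Z-group -/
theorem fcq_zgroup_of_cyclic_two {G : Type*} [Group G] [Finite G]
    (hF2 : ∀ (p : ℕ) [Fact p.Prime] (P : Sylow p G), IsCyclic (P : Subgroup G) ∨
      ∃ n : ℕ, Nonempty ((P : Subgroup G) ≃* QuaternionGroup (2 ^ n)))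
    (hall : ∀ T : Sylow 2 G, IsCyclic (T : Subgroup G)) : IsZGroup G := by
  rw [isZGroup_iff]
  intro p hp P
  haveI : Fact p.Prime := ⟨hp⟩
  rcases hF2 p P with h | ⟨n, ⟨e⟩⟩
  · exact h
  · have hNZ : NeZero (2 ^ n) := ⟨by positivity⟩
    obtain ⟨k, hk⟩ := IsPGroup.iff_card.mp P.isPGroup'
    rw [Nat.card_congr e.toEquiv, Nat.card_eq_fintype_card, QuaternionGroup.card] at hk
    have h2 : 2 ∣ p ^ k := by
      rw [← hk]
      exact Dvd.dvd.mul_right (by norm_num) _
    have h3 : 2 ∣ p := Nat.Prime.dvd_of_dvd_pow Nat.prime_two h2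
    have hp2 : p = 2 := ((Nat.prime_dvd_prime_iff_eq Nat.prime_two hp).mp h3).symm
    subst hp2
    exact hall P

theorem fcq_card_perm4 : Nat.card (Perm (Fin 4)) = 24 := by
  rw [Nat.card_eq_fintype_card, Fintype.card_perm, Fintype.card_fin]; rfl

/-- a map to `S₄` with image of order 12 or 24 gives a surjection to `A₄` or `S₄` with the same
kernel -/
theorem fcq_to_a4_or_s4 {H : Type*} [Group H] (f : H →* Perm (Fin 4))
    (h : Nat.card f.range = 12 ∨ Nat.card f.range = 24) :
    (∃ f' : H →* alternatingGroup (Fin 4), Function.Surjective f' ∧ f'.ker = f.ker) ∨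
    (Function.Surjective f) := by
  rcases h with h | h
  · left
    have hidx : f.range.index = 2 := by
      have := f.range.card_mul_index
      rw [h, fcq_card_perm4] at this
      omega
    have hr : f.range = alternatingGroup (Fin 4) :=
      Equiv.Perm.eq_alternatingGroup_of_index_eq_two hidx
    have hmem : ∀ x : H, f x ∈ alternatingGroup (Fin 4) := by
      intro x
      rw [← hr]
      exact ⟨x, rfl⟩
    refine ⟨f.codRestrict (alternatingGroup (Fin 4)) hmem, ?_, ?_⟩
    · rintro ⟨y, hy⟩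
      rw [← hr] at hy
      obtain ⟨x, rfl⟩ := hy
      exact ⟨x, rfl⟩
    · ext x
      rw [MonoidHom.mem_ker, MonoidHom.mem_ker]
      constructor
      · intro hx
        exact congrArg Subtype.val hx
      · intro hx
        exact Subtype.ext hx
  · right
    rw [← MonoidHom.range_eq_top]
    apply (Subgroup.card_eq_iff_eq_top _).mp
    rw [h, fcq_card_perm4]

end Cfsg.Agent.Lib.helper23
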