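import Mathlib
import Cfsg.Agent.Lib.helper23.FcqD

set_option autoImplicit false

/-!
# The core quotient of a solvable Frobenius complement: existence
-/

namespace Cfsg.Agent.Lib.helper23

open QuaternionGroup Equiv Cfsg.Agent.Lib.Helper19 Cfsg.Agent.Lib.Helper1 Cfsg.Agent.Lib.Helper9
  Cfsg.Agent.Lib.Helper19.Ord48 Cfsg.Agent.Lib.Helper19.RankOneCore
  Cfsg.Agent.Lib.Helper19.FrobComplSolv

theorem fcq_card_cases (c g : ℕ) (h1 : g = c * 2) (h8 : 8 ∣ g) (h24 : c ∣ 24)
    (hnp : ∀ k : ℕ, g ≠ 2 ^ k) : c = 12 ∨ c = 24 := by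
  have hc : c ≤ 24 := Nat.le_of_dvd (by norm_num) h24
  have h4 : 4 ∣ c := by omega
  interval_cases c <;> first | omega | (exfalso; exact hnp 3 (by omega)) | (exfalso; exact hnp 4 (by omega))

/-- **Solvable case.** -/
theorem fcq_exists_solv {G : Type*} [Group G] [Finite G] (hsol : Group.IsSolvable G)
    (hF2 : ∀ (p : ℕ) [Fact p.Prime] (P : Sylow p G), IsCyclic (P : Subgroup G) ∨
      ∃ n : ℕ, Nonempty ((P : Subgroup G) ≃* QuaternionGroup (2 ^ n))) :
    IsZGroup G ∨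
    (∃ f : G →* DihedralGroup 2, Function.Surjective f ∧ IsZGroup f.ker) ∨
    (∃ f : G →* alternatingGroup (Fin 4), Function.Surjective f ∧ IsZGroup f.ker) ∨
    (∃ f : G →* Perm (Fin 4), Function.Surjective f ∧ IsZGroup f.ker) := by
  classical
  have : Fact (Nat.Prime 2) := ⟨Nat.prime_two⟩
  have := hsol
  by_cases hall : ∀ T : Sylow 2 G, IsCyclic (T : Subgroup G)
  · left
    exact fcq_zgroup_of_cyclic_two hF2 hall
  right
  push Not at hall
  obtain ⟨T, hT⟩ := hall
  rcases hF2 2 T with h | ⟨n, ⟨eT⟩⟩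
  · exact absurd h hT
  have hn1 : 1 ≤ n := by
    by_contra hn0
    have hn : n = 0 := by omega
    subst hn
    apply hT
    have : IsCyclic (QuaternionGroup (2 ^ 0)) := by
      rw [pow_zero]; exact QuaternionGroup.quaternionGroup_one_isCyclic
    exact (MulEquiv.isCyclic eT).mpr this
  have heven : Even (2 ^ n) := (Nat.even_pow' (by omega)).mpr even_two
  have hNZ : NeZero (2 ^ n) := ⟨by positivity⟩
  have hKodd : (Nat.card ↥(Cfsg.oddCore G)).Coprime 2 :=
    Cfsg.Agent.Lib.Helper1.pPrimeCore_card_coprime (G := G) 2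
  set π : G →* G ⧸ Cfsg.oddCore G := QuotientGroup.mk' (Cfsg.oddCore G) with hπ
  have hπs : Function.Surjective π := QuotientGroup.mk'_surjective _
  set g : ↥(T : Subgroup G) →* G ⧸ Cfsg.oddCore G := π.comp (T : Subgroup G).subtype with hg
  have hginj : Function.Injective g := by
    rw [injective_iff_map_eq_one]
    intro w hw
    have h2 : (w : G) ∈ Cfsg.oddCore G := (QuotientGroup.eq_one_iff _).mp hw
    exact Subtype.ext (eq_one_of_mem_of_two_group _ _ hKodd T.isPGroup' w w.2 h2)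
  set Tbar : Sylow 2 (G ⧸ Cfsg.oddCore G) := T.mapSurjective hπs with hTbar
  have hTbarcoe : (Tbar : Subgroup (G ⧸ Cfsg.oddCore G)) = (T : Subgroup G).map π := rfl
  by_cases h2 : IsPGroup 2 (G ⧸ Cfsg.oddCore G)
  · -- the quotient is a 2-group
    left
    have htop : (⊤ : Subgroup (G ⧸ Cfsg.oddCore G)) = (Tbar : Subgroup (G ⧸ Cfsg.oddCore G)) :=
      Tbar.is_maximal' (h2.to_subgroup ⊤) le_top
    have hgsurj : Function.Surjective g := by
      intro x
      have hx : x ∈ (Tbar : Subgroup (G ⧸ Cfsg.oddCore G)) := htop ▸ Subgroup.mem_top x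
      rw [hTbarcoe] at hx
      obtain ⟨t, ht, rfl⟩ := hx
      exact ⟨⟨t, ht⟩, rfl⟩
    set ebar : G ⧸ Cfsg.oddCore G ≃* QuaternionGroup (2 ^ n) :=
      (MulEquiv.ofBijective g ⟨hginj, hgsurj⟩).symm.trans eT with hebar
    set fbar : G ⧸ Cfsg.oddCore G →* DihedralGroup 2 :=
      (fcqQD (2 ^ n) heven).comp ebar.toMonoidHom with hfbar
    have hmem : ∀ w : ↥fbar.ker, ebar (w : G ⧸ Cfsg.oddCore G) ∈ (fcqQD (2 ^ n) heven).ker := by
      intro w
      have h1 : fbar (w : G ⧸ Cfsg.oddCore G) = 1 := MonoidHom.mem_ker.mp w.2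
      exact MonoidHom.mem_ker.mpr h1
    set k : ↥fbar.ker →* ↥(fcqQD (2 ^ n) heven).ker :=
      (ebar.toMonoidHom.comp fbar.ker.subtype).codRestrict _ hmem with hk
    have hkinj : Function.Injective k := by
      intro u v huv
      have h1 : ebar (u : G ⧸ Cfsg.oddCore G) = ebar (v : G ⧸ Cfsg.oddCore G) :=
        congrArg Subtype.val huv
      exact Subtype.ext (ebar.injective h1)
    haveI := fcqQD_ker_cyclic (2 ^ n) heven
    have hcyc : IsCyclic fbar.ker := isCyclic_of_injective k hkinj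
    refine ⟨fbar.comp π, ?_, ?_⟩
    · exact ((fcqQD_surjective (2 ^ n) heven).comp ebar.surjective).comp hπs
    · exact fcq_ker_zgroup _ hF2 (fun S hSk hS =>
        fcq_two_subgroup_of_ker _ hKodd fbar hcyc S hS hSk)
  · -- the quotient is not a 2-group
    right
    have hsolq : Group.IsSolvable (G ⧸ Cfsg.oddCore G) := inferInstance
    have hOq : Cfsg.oddCore (G ⧸ Cfsg.oddCore G) = ⊥ :=
      Cfsg.Agent.Lib.Helper1.pPrimeCore_quotient_eq_bot (G := G) 2
    have hrankT : Cfsg.PRankLE 2 1 ↥(T : Subgroup G) :=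
      pRankLE_of_injective eT.toMonoidHom eT.injective (prankLE_quat (2 ^ n))
    have hmap : (⊤ : Subgroup ↥(T : Subgroup G)).map g = (T : Subgroup G).map π := by
      ext x
      constructor
      · rintro ⟨w, -, rfl⟩
        exact ⟨w, w.2, rfl⟩
      · rintro ⟨w, hw, rfl⟩
        exact ⟨⟨w, hw⟩, Subgroup.mem_top _, rfl⟩
    have hrankTbar : Cfsg.PRankLE 2 1 ↥(Tbar : Subgroup (G ⧸ Cfsg.oddCore G)) := by
      rw [hTbarcoe, ← hmap]
      apply (pRankLE_map_iff g hginj ⊤).mpr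
      exact pRankLE_of_injective
        (Subgroup.topEquiv : ↥(⊤ : Subgroup ↥(T : Subgroup G)) ≃* ↥(T : Subgroup G)).toMonoidHom
        (Subgroup.topEquiv : ↥(⊤ : Subgroup ↥(T : Subgroup G)) ≃* ↥(T : Subgroup G)).injective
        hrankT
    have hrank : Cfsg.PRankLE 2 1 ↥(Cfsg.pCore 2 (G ⧸ Cfsg.oddCore G)) :=
      pRankLE_of_le (Cfsg.Agent.Lib.Helper1.pCore_le_sylow 2 Tbar) hrankTbar
    obtain ⟨eQ⟩ := q8_iso_of_rank hsolq hOq hrank h2
    have hCQ : Subgroup.centralizer (Cfsg.pCore 2 (G ⧸ Cfsg.oddCore G) : Set _) ≤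
        Cfsg.pCore 2 (G ⧸ Cfsg.oddCore G) :=
      Cfsg.Agent.Lib.Helper1.centralizer_pCore_le 2 hOq
    have hQn : (Cfsg.pCore 2 (G ⧸ Cfsg.oddCore G)).Normal :=
      Cfsg.Agent.Lib.Helper1.pCore_normal (G := G ⧸ Cfsg.oddCore G) 2
    obtain ⟨φ⟩ := Cfsg.Agent.S3742.result
    set fbar : G ⧸ Cfsg.oddCore G →* Perm (Fin 4) :=
      toS4 (Cfsg.pCore 2 (G ⧸ Cfsg.oddCore G)) eQ φ with hfbar
    have hker : fbar.ker = Subgroup.zpowers (zz (Cfsg.pCore 2 (G ⧸ Cfsg.oddCore G)) eQ) := by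
      rw [hfbar, toS4_ker, centralizer_eq _ eQ hCQ]
    have hcyc : IsCyclic fbar.ker := by
      rw [hker]
      exact Subgroup.isCyclic_zpowers _
    have hk2 : Nat.card fbar.ker = 2 := by
      rw [hker, Nat.card_zpowers, orderOf_zz]
    have hcardG : Nat.card (G ⧸ Cfsg.oddCore G) = Nat.card fbar.range * 2 := by
      have h1 := Subgroup.card_eq_card_quotient_mul_card_subgroup fbar.ker
      rw [hk2, Nat.card_congr (QuotientGroup.quotientKerEquivRange fbar).toEquiv] at h1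
      exact h1
    have h8 : 8 ∣ Nat.card (G ⧸ Cfsg.oddCore G) := by
      have := (Cfsg.pCore 2 (G ⧸ Cfsg.oddCore G)).card_subgroup_dvd_card
      rwa [card_P _ eQ] at this
    have h24 : Nat.card fbar.range ∣ 24 := by
      have := fbar.range.card_subgroup_dvd_card
      rwa [fcq_card_perm4] at this
    have hnp : ∀ k : ℕ, Nat.card (G ⧸ Cfsg.oddCore G) ≠ 2 ^ k := by
      intro k hk
      exact h2 (IsPGroup.of_card hk)
    have hcases := fcq_card_cases _ _ hcardG h8 h24 hnp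
    have hzk : ∀ f' : G ⧸ Cfsg.oddCore G →* alternatingGroup (Fin 4), f'.ker = fbar.ker →
        IsZGroup (f'.comp π).ker := by
      intro f' hf'
      apply fcq_ker_zgroup _ hF2
      intro S hSk hS
      apply fcq_two_subgroup_of_ker _ hKodd fbar hcyc S hS
      intro s hs
      have h1 := hSk hs
      rw [MonoidHom.mem_ker, MonoidHom.comp_apply] at h1 ⊢
      have h3 : π s ∈ f'.ker := MonoidHom.mem_ker.mpr h1
      rw [hf'] at h3
      exact MonoidHom.mem_ker.mp h3
    rcases fcq_to_a4_or_s4 fbar hcases with ⟨f', hf's, hf'k⟩ | hs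
    · left
      exact ⟨f'.comp π, hf's.comp hπs, hzk f' hf'k⟩
    · right
      refine ⟨fbar.comp π, hs.comp hπs, ?_⟩
      exact fcq_ker_zgroup _ hF2 (fun S hSk hS =>
        fcq_two_subgroup_of_ker _ hKodd fbar hcyc S hS hSk)

end Cfsg.Agent.Lib.helper23
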