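import Mathlib
import Cfsg.Agent.Lib.helper23.FcqE
import Cfsg.Agent.Lib.helper6.ZPk4
import Cfsg.Agent.Lib.helper6.ZPk5

set_option autoImplicit false

/-!
# The core quotient of a non-solvable Frobenius complement, and the assembly
-/

namespace Cfsg.Agent.Lib.helper23

open Equiv Cfsg.Agent.Lib.helper6.ZP

theorem fcq_card_perm5 : Nat.card (Perm (Fin 5)) = 120 := by
  rw [Nat.card_eq_fintype_card, Fintype.card_perm, Fintype.card_fin]; rfl

/-- a map to `S₅` with image of order 60 or 120 gives a surjection to `A₅` or `S₅` with the same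
kernel -/
theorem fcq_to_a5_or_s5 {H : Type*} [Group H] (f : H →* Perm (Fin 5))
    (h : Nat.card f.range = 60 ∨ Nat.card f.range = 120) :
    (∃ f' : H →* alternatingGroup (Fin 5), Function.Surjective f' ∧ f'.ker = f.ker) ∨
    (Function.Surjective f) := by
  rcases h with h | h
  · left
    have hidx : f.range.index = 2 := by
      have := f.range.card_mul_index
      rw [h, fcq_card_perm5] at this
      omega
    have hr : f.range = alternatingGroup (Fin 5) :=
      Equiv.Perm.eq_alternatingGroup_of_index_eq_two hidx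
    have hmem : ∀ x : H, f x ∈ alternatingGroup (Fin 5) := by
      intro x
      rw [← hr]
      exact ⟨x, rfl⟩
    refine ⟨f.codRestrict (alternatingGroup (Fin 5)) hmem, ?_, ?_⟩
    · rintro ⟨y, hy⟩
      rw [← hr] at hy
      obtain ⟨x, rfl⟩ := hy
      exact ⟨x, rfl⟩
    · ext x
      rw [MonoidHom.mem_ker, MonoidHom.mem_ker]
      constructor
      · intro hx
        exact congrArg Subtype.val hx
      · intro hx
        exact Subtype.ext hx
  · right
    rw [← MonoidHom.range_eq_top]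
    apply (Subgroup.card_eq_iff_eq_top _).mp
    rw [h, fcq_card_perm5]

universe uV uG

/-- **Non-solvable case.** -/
theorem fcq_exists_nonsolv {r : ℕ} [hr : Fact r.Prime] {V : Type uV} [AddCommGroup V]
    [Module (ZMod r) V] [Finite V] [Nontrivial V] {G : Type uG} [Group G] [Finite G]
    {ρ : G →* Module.End (ZMod r) V} (h : FPF ρ) (hns : ¬ Group.IsSolvable G) :
    (∃ f : G →* alternatingGroup (Fin 5), Function.Surjective f ∧ IsZGroup f.ker) ∨
    (∃ f : G →* Perm (Fin 5), Function.Surjective f ∧ IsZGroup f.ker) := by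
  obtain ⟨S, z, c⟩ := h.exists_pcore hns
  obtain ⟨f, hker, hcard⟩ := c.exists_perm5
  have hZ : IsZGroup f.ker := by
    rw [hker, isZGroup_iff]
    intro p hp P
    haveI : Fact p.Prime := ⟨hp⟩
    exact c.centralizer_sylow_cyclic p P
  rcases fcq_to_a5_or_s5 f hcard with ⟨f', hf's, hf'k⟩ | hs
  · left
    exact ⟨f', hf's, hf'k ▸ hZ⟩
  · right
    exact ⟨f, hs, hZ⟩

/-- the predicate of the statement, in terms of a target -/
theorem fcq_main {G : Type uG} [Group G] [Finite G]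
    (hFC : (∃ (L : Type) (_ : Group L) (_ : Finite L) (H : Subgroup L),
      Cfsg.IsFrobeniusComplement H ∧ Nonempty (G ≃* H))) :
    ∃! N : Subgroup G, N.Normal ∧ (∀ (p : ℕ) [Fact p.Prime] (P : Sylow p N), IsCyclic P) ∧
      (N = ⊤ ∨
        (∃ f : G →* DihedralGroup 2, Function.Surjective f ∧ f.ker = N) ∨
        (∃ f : G →* alternatingGroup (Fin 4), Function.Surjective f ∧ f.ker = N) ∨
        (∃ f : G →* Equiv.Perm (Fin 4), Function.Surjective f ∧ f.ker = N) ∨
        (∃ f : G →* alternatingGroup (Fin 5), Function.Surjective f ∧ f.ker = N) ∨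
        (∃ f : G →* Equiv.Perm (Fin 5), Function.Surjective f ∧ f.ker = N)) := by
  obtain ⟨-, hF2⟩ := Cfsg.Agent.Lib.Helper19.FrobCompl.facts hFC
  have hS : ∀ S : Sylow 2 G, ∃ a b : G, (S : Subgroup G) = Subgroup.closure {a, b} := by
    haveI : Fact (Nat.Prime 2) := ⟨Nat.prime_two⟩
    exact fun S => fcq_two_gen (S : Subgroup G) (hF2 2 S)
  have hZconv : ∀ N : Subgroup G, IsZGroup N →
      (∀ (p : ℕ) [Fact p.Prime] (P : Sylow p N), IsCyclic P) := by
    intro N hZ p hp P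
    exact (isZGroup_iff _).mp hZ p hp.out P
  have hZconv' : ∀ N : Subgroup G,
      (∀ (p : ℕ) [Fact p.Prime] (P : Sylow p N), IsCyclic P) → IsZGroup N := by
    intro N h
    rw [isZGroup_iff]
    intro p hp P
    haveI : Fact p.Prime := ⟨hp⟩
    exact h p P
  -- existence
  have hex : ∃ N : Subgroup G, N.Normal ∧ (∀ (p : ℕ) [Fact p.Prime] (P : Sylow p N), IsCyclic P) ∧
      (N = ⊤ ∨
        (∃ f : G →* DihedralGroup 2, Function.Surjective f ∧ f.ker = N) ∨
        (∃ f : G →* alternatingGroup (Fin 4), Function.Surjective f ∧ f.ker = N) ∨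
        (∃ f : G →* Equiv.Perm (Fin 4), Function.Surjective f ∧ f.ker = N) ∨
        (∃ f : G →* alternatingGroup (Fin 5), Function.Surjective f ∧ f.ker = N) ∨
        (∃ f : G →* Equiv.Perm (Fin 5), Function.Surjective f ∧ f.ker = N)) := by
    by_cases hsol : Group.IsSolvable G
    · rcases fcq_exists_solv hsol hF2 with hZ | ⟨f, hf, hZ⟩ | ⟨f, hf, hZ⟩ | ⟨f, hf, hZ⟩
      · refine ⟨⊤, inferInstance, hZconv ⊤ ?_, Or.inl rfl⟩
        exact IsZGroup.of_injective (f := (⊤ : Subgroup G).subtype) Subtype.val_injective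
      · exact ⟨f.ker, inferInstance, hZconv _ hZ, Or.inr (Or.inl ⟨f, hf, rfl⟩)⟩
      · exact ⟨f.ker, inferInstance, hZconv _ hZ, Or.inr (Or.inr (Or.inl ⟨f, hf, rfl⟩))⟩
      · exact ⟨f.ker, inferInstance, hZconv _ hZ, Or.inr (Or.inr (Or.inr (Or.inl ⟨f, hf, rfl⟩)))⟩
    · obtain ⟨L, _, _, H, hH, ⟨e⟩⟩ := hFC
      apply frobenius_complement_elim H hH e
      intro r _ V _ _ _ _ ρ hρ
      rcases fcq_exists_nonsolv hρ hsol with ⟨f, hf, hZ⟩ | ⟨f, hf, hZ⟩
      · exact ⟨f.ker, inferInstance, hZconv _ hZ,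
          Or.inr (Or.inr (Or.inr (Or.inr (Or.inl ⟨f, hf, rfl⟩))))⟩
      · exact ⟨f.ker, inferInstance, hZconv _ hZ,
          Or.inr (Or.inr (Or.inr (Or.inr (Or.inr ⟨f, hf, rfl⟩))))⟩
  -- the target form
  have htarget : ∀ N : Subgroup G, (N.Normal ∧
      (∀ (p : ℕ) [Fact p.Prime] (P : Sylow p N), IsCyclic P) ∧
      (N = ⊤ ∨
        (∃ f : G →* DihedralGroup 2, Function.Surjective f ∧ f.ker = N) ∨
        (∃ f : G →* alternatingGroup (Fin 4), Function.Surjective f ∧ f.ker = N) ∨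
        (∃ f : G →* Equiv.Perm (Fin 4), Function.Surjective f ∧ f.ker = N) ∨
        (∃ f : G →* alternatingGroup (Fin 5), Function.Surjective f ∧ f.ker = N) ∨
        (∃ f : G →* Equiv.Perm (Fin 5), Function.Surjective f ∧ f.ker = N))) →
      ∃ (T : Type) (_ : Group T) (f : G →* T), FcqT T ∧ Function.Surjective f ∧ f.ker = N ∧
        IsZGroup f.ker := by
    rintro N ⟨-, hZ, h | ⟨f, hf, hk⟩ | ⟨f, hf, hk⟩ | ⟨f, hf, hk⟩ | ⟨f, hf, hk⟩ | ⟨f, hf, hk⟩⟩
    · refine ⟨PUnit, inferInstance, 1, fcqT_of_subsingleton PUnit, ?_, ?_, ?_⟩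
      · intro x; exact ⟨1, Subsingleton.elim _ _⟩
      · rw [h]; exact MonoidHom.ker_one
      · rw [MonoidHom.ker_one, ← h]; exact hZconv' N hZ
    · exact ⟨_, inferInstance, f, fcqT_d2, hf, hk, hk ▸ hZconv' N hZ⟩
    · exact ⟨_, inferInstance, f, fcqT_a4, hf, hk, hk ▸ hZconv' N hZ⟩
    · exact ⟨_, inferInstance, f, fcqT_s4, hf, hk, hk ▸ hZconv' N hZ⟩
    · exact ⟨_, inferInstance, f, fcqT_a5, hf, hk, hk ▸ hZconv' N hZ⟩
    · exact ⟨_, inferInstance, f, fcqT_s5, hf, hk, hk ▸ hZconv' N hZ⟩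
  obtain ⟨N, hN⟩ := hex
  refine ⟨N, hN, ?_⟩
  intro N' hN'
  obtain ⟨T1, _, f1, hT1, hf1, hk1, hZ1⟩ := htarget N' hN'
  obtain ⟨T2, _, f2, hT2, hf2, hk2, hZ2⟩ := htarget N hN
  rw [← hk1, ← hk2]
  exact fcq_unique hS hT1 hT2 f1 f2 hf1 hf2 hZ1 hZ2

end Cfsg.Agent.Lib.helper23
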