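import Mathlib
import Cfsg.Prelude.Def_Solvable
import Cfsg.Agent.Lib.Helper5.InvSylow

set_option autoImplicit false

namespace Cfsg.Agent.Lib.helper23

open scoped Pointwise commutatorElement

section Fischer

variable {G : Type*} [Group G]

/-- square root trick for inverted elements of odd order -/
theorem fis_sqrt (d x : G) (hx : d * x * d⁻¹ = x⁻¹) (hodd : Odd (orderOf x)) :
    ∃ y ∈ Subgroup.zpowers x, y * d * y⁻¹ * d⁻¹ = x := by
  obtain ⟨j, hj⟩ := hodd
  refine ⟨x ^ (j + 1), Subgroup.pow_mem _ (Subgroup.mem_zpowers x) _, ?_⟩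
  have h1 : d * x ^ (j + 1) * d⁻¹ = (x ^ (j + 1))⁻¹ := by
    rw [← conj_pow, hx, inv_pow]
  have h2 : x ^ (j + 1) * x ^ (j + 1) = x := by
    rw [← pow_add]
    have e : j + 1 + (j + 1) = orderOf x + 1 := by omega
    rw [e, pow_succ, pow_orderOf_eq_one, one_mul]
  calc x ^ (j + 1) * d * (x ^ (j + 1))⁻¹ * d⁻¹
      = x ^ (j + 1) * (d * x ^ (j + 1) * d⁻¹)⁻¹ := by group
    _ = x ^ (j + 1) * x ^ (j + 1) := by rw [h1, inv_inv]
    _ = x := h2

/-- the set of `R`-conjugates of `d` -/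
def fisX (R : Subgroup G) (d : G) : Set G := {a | ∃ k ∈ R, a = k * d * k⁻¹}

theorem fis_card_conj (R : Subgroup G) (d : G) :
    (fisX R d).ncard * Nat.card (R ⊓ Subgroup.centralizer {d} : Subgroup G) = Nat.card R := by
  let _ : MulAction R G := MulAction.compHom G ((MulAut.conj : G →* MulAut G).comp R.subtype)
  have hsmul : ∀ (k : R) (g : G), k • g = (k : G) * g * (k : G)⁻¹ := fun _ _ => rfl
  have h1 := MulAction.index_stabilizer R d
  have h2 : MulAction.orbit R d = fisX R d := by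
    ext a
    constructor
    · rintro ⟨k, rfl⟩
      exact ⟨k, k.2, hsmul k d⟩
    · rintro ⟨k, hk, rfl⟩
      exact ⟨⟨k, hk⟩, hsmul _ d⟩
  have h3 : MulAction.stabilizer R d = (Subgroup.centralizer {d}).subgroupOf R := by
    ext k
    rw [MulAction.mem_stabilizer_iff, Subgroup.mem_subgroupOf, hsmul,
      Subgroup.mem_centralizer_singleton_iff]
    constructor
    · intro h
      calc (k : G) * d = ((k : G) * d * (k : G)⁻¹) * k := by group
        _ = d * k := by rw [h]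
    · intro h
      rw [h]
      group
  have h4 : Nat.card ((Subgroup.centralizer {d}).subgroupOf R) =
      Nat.card (R ⊓ Subgroup.centralizer {d} : Subgroup G) := by
    rw [← Subgroup.inf_subgroupOf_left]
    exact Nat.card_congr (Subgroup.subgroupOfEquivOfLe inf_le_left).toEquiv
  have h5 := Subgroup.card_mul_index (MulAction.stabilizer R d)
  rw [h1, h2, h3, h4] at h5
  rw [mul_comm]
  exact h5

end Fischer

section FischerMain

variable {G : Type*} [Group G] [Finite G]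

theorem fis_main {p : ℕ} (hp : p.Prime) (d : G) (hd : orderOf d = 2)
    (hprod : ∀ a ∈ conjugatesOf d, ∀ b ∈ conjugatesOf d, ∃ k : ℕ, orderOf (a * b) = p ^ k)
    (N : Subgroup G) (hN : N.Normal) (hNodd : Odd (Nat.card N))
    (hZ : ∀ g : G, d * g * d⁻¹ * g⁻¹ ∈ N) :
    ∀ a ∈ conjugatesOf d, ∀ b ∈ conjugatesOf d, a * b ∈ Cfsg.pCore p G := by
  have : Fact p.Prime := ⟨hp⟩
  have hdd : d * d = 1 := by rw [← pow_two, ← hd, pow_orderOf_eq_one]
  have dinv : d⁻¹ = d := inv_eq_of_mul_eq_one_left hdd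
  have hmem : ∀ a : G, a ∈ conjugatesOf d ↔ IsConj d a := fun a => Iff.rfl
  have hconj_mem : ∀ g : G, g * d * g⁻¹ ∈ conjugatesOf d := fun g =>
    (hmem _).mpr (isConj_iff.mpr ⟨g, rfl⟩)
  have hd_mem : d ∈ conjugatesOf d := mem_conjugatesOf_self
  have hconj_exists : ∀ a ∈ conjugatesOf d, ∃ g : G, a = g * d * g⁻¹ := by
    intro a ha
    obtain ⟨g, hg⟩ := isConj_iff.mp ((hmem a).mp ha)
    exact ⟨g, hg.symm⟩
  -- every conjugate is an `N`-conjugate
  have hXN : ∀ a ∈ conjugatesOf d, a ∈ fisX N d := by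
    intro a ha
    obtain ⟨g, rfl⟩ := hconj_exists a ha
    have hxN : g * d * g⁻¹ * d⁻¹ ∈ N := by
      have h1 := N.inv_mem (hZ g)
      have e : (d * g * d⁻¹ * g⁻¹)⁻¹ = g * d * g⁻¹ * d⁻¹ := by group
      rwa [e] at h1
    have hxinv : d * (g * d * g⁻¹ * d⁻¹) * d⁻¹ = (g * d * g⁻¹ * d⁻¹)⁻¹ := by
      have h1 : d⁻¹ * d⁻¹ = 1 := by rw [dinv, hdd]
      calc d * (g * d * g⁻¹ * d⁻¹) * d⁻¹ = d * g * d * g⁻¹ * (d⁻¹ * d⁻¹) := by group
        _ = d * g * d * g⁻¹ := by rw [h1, mul_one]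
        _ = d * g * d⁻¹ * g⁻¹ := by rw [dinv]
        _ = (g * d * g⁻¹ * d⁻¹)⁻¹ := by group
    have hxodd : Odd (orderOf (g * d * g⁻¹ * d⁻¹)) := by
      have h1 : orderOf (g * d * g⁻¹ * d⁻¹) ∣ Nat.card N := by
        have h2 := orderOf_dvd_natCard (⟨_, hxN⟩ : N)
        rwa [Subgroup.orderOf_mk] at h2
      exact hNodd.of_dvd_nat h1
    obtain ⟨y, hy, hyx⟩ := fis_sqrt d _ hxinv hxodd
    refine ⟨y, (Subgroup.zpowers_le.mpr hxN) hy, ?_⟩
    calc g * d * g⁻¹ = (g * d * g⁻¹ * d⁻¹) * d := by group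
      _ = y * d * y⁻¹ := by rw [← hyx]; group
  -- invariant Sylow subgroups
  have hAcard : Nat.card (Subgroup.zpowers d) = 2 := by rw [Nat.card_zpowers, hd]
  have hAsolv : Group.IsSolvable (Subgroup.zpowers d) :=
    Group.isSolvable_of_comm (fun a b => (Subgroup.zpowers_isMulCommutative d).is_comm.comm a b)
  have hAN : Subgroup.zpowers d ≤ Subgroup.normalizer (N : Set G) := by
    rw [Subgroup.normalizer_eq_top]
    exact le_top
  have hcop : (Nat.card (Subgroup.zpowers d)).Coprime (Nat.card N) := by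
    rw [hAcard]
    exact Nat.coprime_two_left.mpr hNodd
  have hsyl : ∀ q : ℕ, q.Prime → ∃ Q : Subgroup G, Q ≤ N ∧ IsPGroup q Q ∧
      d ∈ Subgroup.normalizer (Q : Set G) ∧ Nat.card Q = q ^ (Nat.card N).factorization q := by
    intro q hq
    have : Fact q.Prime := ⟨hq⟩
    obtain ⟨Q, h1, h2, h3, h4⟩ := Cfsg.Agent.Lib.Helper5.exists_invariant_sylow_sub
      (Subgroup.zpowers d) N hAN hcop hAsolv q
    exact ⟨Q, h1, h2, h3 (Subgroup.mem_zpowers d), h4⟩
  -- for `q ≠ p` the invariant Sylow `q`-subgroup centralizes `d`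
  have hQcent : ∀ q : ℕ, q.Prime → q ≠ p → ∀ Q : Subgroup G, IsPGroup q Q →
      d ∈ Subgroup.normalizer (Q : Set G) → Q ≤ Subgroup.centralizer {d} := by
    intro q hq hqp Q hQ hdQ k hk
    rw [Subgroup.mem_centralizer_singleton_iff]
    have hxQ : k * d * k⁻¹ * d⁻¹ ∈ Q := by
      have h1 : d * k⁻¹ * d⁻¹ ∈ Q := (Subgroup.mem_normalizer_iff.mp hdQ k⁻¹).mp (Q.inv_mem hk)
      have e : k * d * k⁻¹ * d⁻¹ = k * (d * k⁻¹ * d⁻¹) := by group
      rw [e]
      exact Q.mul_mem hk h1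
    have : Fact q.Prime := ⟨hq⟩
    obtain ⟨i, hi⟩ := (IsPGroup.iff_orderOf.mp hQ) ⟨_, hxQ⟩
    rw [Subgroup.orderOf_mk] at hi
    obtain ⟨j, hj⟩ := hprod _ (hconj_mem k) d hd_mem
    have hxe : k * d * k⁻¹ * d⁻¹ = k * d * k⁻¹ * d := by rw [dinv]
    rw [← hxe, hi] at hj
    have hx1 : k * d * k⁻¹ * d⁻¹ = 1 := by
      have hi0 : i = 0 := by
        by_contra hi0
        have h1 : q ∣ p ^ j := hj ▸ dvd_pow_self q hi0
        exact hqp ((Nat.prime_dvd_prime_iff_eq hq hp).mp (hq.dvd_of_dvd_pow h1))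
      rw [hi0, pow_zero] at hi
      exact orderOf_eq_one_iff.mp hi
    calc k * d = (k * d * k⁻¹ * d⁻¹) * (d * k) := by group
      _ = d * k := by rw [hx1, one_mul]
  have hn0 : Nat.card N ≠ 0 := Nat.card_pos.ne'
  have h2 := fis_card_conj N d
  -- the number of conjugates is a power of `p`
  have hi_pp : ∀ q : ℕ, q.Prime → q ∣ (fisX N d).ncard → q = p := by
    intro q hq hqi
    by_contra hqp
    obtain ⟨Q, hQN, hQpg, hdQ, hQcard⟩ := hsyl q hq
    have hQC : Q ≤ N ⊓ Subgroup.centralizer {d} := le_inf hQN (hQcent q hq hqp Q hQpg hdQ)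
    have h1 : Nat.card Q ∣ Nat.card (N ⊓ Subgroup.centralizer {d} : Subgroup G) :=
      Subgroup.card_dvd_of_le hQC
    have h3 := Nat.ordProj_mul_ordCompl_eq_self (Nat.card N) q
    have h4 := Nat.not_dvd_ordCompl hq hn0
    obtain ⟨t, ht⟩ := h1
    rw [hQcard] at ht
    apply h4
    have h5 : q ^ (Nat.card N).factorization q * ((fisX N d).ncard * t) =
        q ^ (Nat.card N).factorization q * (Nat.card N / q ^ (Nat.card N).factorization q) := by
      calc q ^ (Nat.card N).factorization q * ((fisX N d).ncard * t)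
          = (fisX N d).ncard * (q ^ (Nat.card N).factorization q * t) := by ring
        _ = Nat.card N := by rw [← ht, h2]
        _ = _ := h3.symm
    have h6 := Nat.eq_of_mul_eq_mul_left (pow_pos hq.pos _) h5
    rw [← h6]
    exact Dvd.dvd.mul_right hqi t
  have hi0 : (fisX N d).ncard ≠ 0 := by
    intro h
    rw [h, zero_mul] at h2
    exact hn0 h2.symm
  have hi_eq := Nat.eq_prime_pow_of_unique_prime_dvd hi0 (fun {q} hq hqd => hi_pp q hq hqd)
  -- the invariant Sylow `p`-subgroup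
  obtain ⟨P0, hP0N, hP0pg, hdP0, hP0card⟩ := hsyl p hp
  have hsub : fisX P0 d ⊆ fisX N d := fun a ⟨k, hk, h⟩ => ⟨k, hP0N hk, h⟩
  have h2' := fis_card_conj P0 d
  have hc0c : Nat.card (P0 ⊓ Subgroup.centralizer {d} : Subgroup G) ∣
      Nat.card (N ⊓ Subgroup.centralizer {d} : Subgroup G) :=
    Subgroup.card_dvd_of_le (inf_le_inf_right _ hP0N)
  obtain ⟨t, ht⟩ := hc0c
  have h3 := Nat.ordProj_mul_ordCompl_eq_self (Nat.card N) p
  have h4 := Nat.not_dvd_ordCompl hp hn0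
  have h5 : (fisX P0 d).ncard * (Nat.card N / p ^ (Nat.card N).factorization p) =
      (fisX N d).ncard * t := by
    have h6 : Nat.card (P0 ⊓ Subgroup.centralizer {d} : Subgroup G) *
        ((fisX P0 d).ncard * (Nat.card N / p ^ (Nat.card N).factorization p)) =
        Nat.card (P0 ⊓ Subgroup.centralizer {d} : Subgroup G) * ((fisX N d).ncard * t) := by
      calc Nat.card (P0 ⊓ Subgroup.centralizer {d} : Subgroup G) *
          ((fisX P0 d).ncard * (Nat.card N / p ^ (Nat.card N).factorization p))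
          = ((fisX P0 d).ncard * Nat.card (P0 ⊓ Subgroup.centralizer {d} : Subgroup G)) *
            (Nat.card N / p ^ (Nat.card N).factorization p) := by ring
        _ = Nat.card N := by rw [h2', hP0card]; exact h3
        _ = (fisX N d).ncard * Nat.card (N ⊓ Subgroup.centralizer {d} : Subgroup G) := h2.symm
        _ = Nat.card (P0 ⊓ Subgroup.centralizer {d} : Subgroup G) * ((fisX N d).ncard * t) := by
          rw [ht]; ring
    exact Nat.eq_of_mul_eq_mul_left Nat.card_pos h6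
  have hi_dvd : (fisX N d).ncard ∣ (fisX P0 d).ncard := by
    have h6 : (fisX N d).ncard ∣
        (fisX P0 d).ncard * (Nat.card N / p ^ (Nat.card N).factorization p) :=
      Dvd.intro _ h5.symm
    have hcop' : Nat.Coprime (fisX N d).ncard
        (Nat.card N / p ^ (Nat.card N).factorization p) := by
      rw [hi_eq]
      exact Nat.Coprime.pow_left _ ((Nat.Prime.coprime_iff_not_dvd hp).mpr h4)
    exact hcop'.dvd_of_dvd_mul_right h6
  have hi0pos : 0 < (fisX P0 d).ncard := by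
    rcases Nat.eq_zero_or_pos (fisX P0 d).ncard with h | h
    · exfalso
      rw [h, zero_mul] at h2'
      exact (Nat.card_pos (α := P0)).ne' h2'.symm
    · exact h
  have hle : (fisX N d).ncard ≤ (fisX P0 d).ncard := Nat.le_of_dvd hi0pos hi_dvd
  have heq : fisX P0 d = fisX N d := Set.eq_of_subset_of_ncard_le hsub hle (Set.toFinite _)
  -- all products lie in `P0`
  have hprodP0 : ∀ a ∈ conjugatesOf d, ∀ b ∈ conjugatesOf d, a * b ∈ P0 := by
    intro a ha b hb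
    obtain ⟨u, hu, rfl⟩ : a ∈ fisX P0 d := heq ▸ hXN a ha
    obtain ⟨v, hv, rfl⟩ : b ∈ fisX P0 d := heq ▸ hXN b hb
    have h1 : d * (u⁻¹ * v) * d⁻¹ ∈ P0 :=
      (Subgroup.mem_normalizer_iff.mp hdP0 _).mp (P0.mul_mem (P0.inv_mem hu) hv)
    have e : u * d * u⁻¹ * (v * d * v⁻¹) = u * (d * (u⁻¹ * v) * d⁻¹) * v⁻¹ := by
      rw [dinv]
      group
    rw [e]
    exact P0.mul_mem (P0.mul_mem hu h1) (P0.inv_mem hv)
  -- the normal closure of the products
  have hSconj : Group.conjugatesOfSet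
      {x | ∃ a ∈ conjugatesOf d, ∃ b ∈ conjugatesOf d, x = a * b} ⊆
      {x | ∃ a ∈ conjugatesOf d, ∃ b ∈ conjugatesOf d, x = a * b} := by
    intro y hy
    rw [Group.mem_conjugatesOfSet_iff] at hy
    obtain ⟨x, ⟨a, ha, b, hb, rfl⟩, hxy⟩ := hy
    obtain ⟨g, rfl⟩ := isConj_iff.mp hxy
    have hc : ∀ c ∈ conjugatesOf d, g * c * g⁻¹ ∈ conjugatesOf d := by
      intro c hc
      rw [hmem] at hc ⊢
      exact hc.trans (isConj_iff.mpr ⟨g, rfl⟩)
    exact ⟨g * a * g⁻¹, hc a ha, g * b * g⁻¹, hc b hb, by group⟩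
  have hK_le : Subgroup.normalClosure
      {x | ∃ a ∈ conjugatesOf d, ∃ b ∈ conjugatesOf d, x = a * b} ≤ P0 := by
    rw [Subgroup.normalClosure, Subgroup.closure_le]
    intro y hy
    obtain ⟨a, ha, b, hb, rfl⟩ := hSconj hy
    exact hprodP0 a ha b hb
  have hKpg := hP0pg.to_le hK_le
  have hKle : Subgroup.normalClosure
      {x | ∃ a ∈ conjugatesOf d, ∃ b ∈ conjugatesOf d, x = a * b} ≤ Cfsg.pCore p G :=
    le_sSup ⟨Subgroup.normalClosure_normal, hKpg⟩
  intro a ha b hb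
  exact hKle (Subgroup.subset_normalClosure ⟨a, ha, b, hb, rfl⟩)

end FischerMain

section FischerCor

variable {G : Type*} [Group G] [Finite G]

/-- the involution `d` is isolated in a Sylow `2`-subgroup -/
theorem fis_isolated {p : ℕ} (hp : p.Prime) (hp2 : p ≠ 2) (d : G) (hd : orderOf d = 2)
    (hprod : ∀ a ∈ conjugatesOf d, ∀ b ∈ conjugatesOf d, ∃ k : ℕ, orderOf (a * b) = p ^ k) :
    ∃ P : Sylow 2 G, d ∈ P ∧ ∀ g : G, g * d * g⁻¹ ∈ P → g * d * g⁻¹ = d := by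
  have : Fact (Nat.Prime 2) := ⟨Nat.prime_two⟩
  have hdd : d * d = 1 := by rw [← pow_two, ← hd, pow_orderOf_eq_one]
  have dinv : d⁻¹ = d := inv_eq_of_mul_eq_one_left hdd
  have hpg : IsPGroup 2 (Subgroup.zpowers d) :=
    IsPGroup.of_card (n := 1) (by rw [Nat.card_zpowers, hd, pow_one])
  obtain ⟨P, hP⟩ := hpg.exists_le_sylow
  have hdP : d ∈ P := hP (Subgroup.mem_zpowers d)
  refine ⟨P, hdP, ?_⟩
  intro g hg
  have h1 : g * d * g⁻¹ * d ∈ (P : Subgroup G) := (P : Subgroup G).mul_mem hg hdP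
  obtain ⟨i, hi⟩ := (IsPGroup.iff_orderOf.mp P.2) ⟨_, h1⟩
  rw [Subgroup.orderOf_mk] at hi
  have hc : g * d * g⁻¹ ∈ conjugatesOf d := isConj_iff.mpr ⟨g, rfl⟩
  obtain ⟨j, hj⟩ := hprod _ hc d mem_conjugatesOf_self
  rw [hi] at hj
  have hi0 : i = 0 := by
    by_contra hi0
    have h2 : 2 ∣ p ^ j := hj ▸ dvd_pow_self 2 hi0
    exact hp2 ((Nat.prime_dvd_prime_iff_eq Nat.prime_two hp).mp
      (Nat.prime_two.dvd_of_dvd_pow h2)).symm
  rw [hi0, pow_zero] at hi
  have h3 : g * d * g⁻¹ * d = 1 := orderOf_eq_one_iff.mp hi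
  calc g * d * g⁻¹ = (g * d * g⁻¹ * d) * d⁻¹ := by group
    _ = d := by rw [h3, one_mul, dinv]

/-- Fischer's theorem from the `Z*`-theorem -/
theorem fis_of_zstar {p : ℕ} (hp : p.Prime) (hp2 : p ≠ 2) (d : G) (hd : orderOf d = 2)
    (hprod : ∀ a ∈ conjugatesOf d, ∀ b ∈ conjugatesOf d, ∃ k : ℕ, orderOf (a * b) = p ^ k)
    (hZ : ∀ (P : Sylow 2 G) (u : G), orderOf u = 2 → u ∈ P →
      (∀ g : G, g * u * g⁻¹ ∈ P → g * u * g⁻¹ = u) →
      ∃ N : Subgroup G, N.Normal ∧ Odd (Nat.card N) ∧ ∀ g : G, (u * g * u⁻¹ * g⁻¹) ∈ N) :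
    ∀ a ∈ conjugatesOf d, ∀ b ∈ conjugatesOf d, a * b ∈ Cfsg.pCore p G := by
  obtain ⟨P, hdP, hiso⟩ := fis_isolated hp hp2 d hd hprod
  obtain ⟨N, hN, hNodd, hNZ⟩ := hZ P d hd hdP hiso
  exact fis_main hp d hd hprod N hN hNodd hNZ

/-- nilpotency of the derived subgroup -/
theorem fis_nilpotent (p : ℕ) (hp : p.Prime) (hodd : p ≠ 2) {D : Set G}
    (hinv : ∀ d ∈ D, orderOf d = 2) (hconj : ∃ d ∈ D, D = conjugatesOf d)
    (hgen : Subgroup.closure D = ⊤)
    (hprod : ∀ x ∈ D, ∀ y ∈ D, x ≠ y → ∃ k : ℕ, orderOf (x * y) = p ^ k)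
    (hZ : ∀ (P : Sylow 2 G) (u : G), orderOf u = 2 → u ∈ P →
      (∀ g : G, g * u * g⁻¹ ∈ P → g * u * g⁻¹ = u) →
      ∃ N : Subgroup G, N.Normal ∧ Odd (Nat.card N) ∧ ∀ g : G, (u * g * u⁻¹ * g⁻¹) ∈ N) :
    Group.IsNilpotent ↥(commutator G) := by
  have : Fact p.Prime := ⟨hp⟩
  obtain ⟨d, hdD, rfl⟩ := hconj
  have hd : orderOf d = 2 := hinv d hdD
  have hprod' : ∀ a ∈ conjugatesOf d, ∀ b ∈ conjugatesOf d,
      ∃ k : ℕ, orderOf (a * b) = p ^ k := by
    intro a ha b hb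
    by_cases hab : a = b
    · refine ⟨0, ?_⟩
      rw [← hab, pow_zero, orderOf_eq_one_iff, ← pow_two, ← hinv a ha, pow_orderOf_eq_one]
    · exact hprod a ha b hb hab
  have hab := fis_of_zstar hp hodd d hd hprod' hZ
  have hOn : (Cfsg.pCore p G).Normal := Subgroup.sSup_normal _ (fun _ h => h.1)
  have hOp : IsPGroup p (Cfsg.pCore p G) :=
    Sylow.sSup_of_normal _ (fun _ h => h.2) (fun _ h => h.1)
  have htop : Cfsg.pCore p G ⊔ Subgroup.zpowers d = ⊤ := by
    rw [eq_top_iff, ← hgen, Subgroup.closure_le]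
    intro a ha
    have h1 : a * d ∈ Cfsg.pCore p G := hab a ha d hdD
    have h2 : a = (a * d) * d⁻¹ := by group
    rw [h2]
    exact Subgroup.mul_mem_sup h1 (Subgroup.inv_mem _ (Subgroup.mem_zpowers d))
  have hdecomp : ∀ g : G, ∃ o ∈ Cfsg.pCore p G, ∃ z ∈ Subgroup.zpowers d, o * z = g := by
    intro g
    have hg : g ∈ Cfsg.pCore p G ⊔ Subgroup.zpowers d := by
      rw [htop]
      exact Subgroup.mem_top g
    have h1 : g ∈ ((Cfsg.pCore p G : Subgroup G) : Set G) * (Subgroup.zpowers d : Set G) := by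
      rw [← Subgroup.normal_mul]
      exact hg
    obtain ⟨o, ho, z, hz, rfl⟩ := Set.mem_mul.mp h1
    exact ⟨o, ho, z, hz, rfl⟩
  have hle : commutator G ≤ Cfsg.pCore p G := by
    rw [commutator_def, Subgroup.commutator_le]
    intro g₁ _ g₂ _
    obtain ⟨o₁, ho₁, z₁, hz₁, rfl⟩ := hdecomp g₁
    obtain ⟨o₂, ho₂, z₂, hz₂, rfl⟩ := hdecomp g₂
    have hker : ∀ x : G, QuotientGroup.mk' (Cfsg.pCore p G) x = 1 ↔ x ∈ Cfsg.pCore p G :=
      fun x => QuotientGroup.eq_one_iff x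
    rw [← hker, map_commutatorElement]
    have e1 : QuotientGroup.mk' (Cfsg.pCore p G) (o₁ * z₁) =
        QuotientGroup.mk' (Cfsg.pCore p G) z₁ := by
      rw [map_mul, (hker o₁).mpr ho₁, one_mul]
    have e2 : QuotientGroup.mk' (Cfsg.pCore p G) (o₂ * z₂) =
        QuotientGroup.mk' (Cfsg.pCore p G) z₂ := by
      rw [map_mul, (hker o₂).mpr ho₂, one_mul]
    rw [e1, e2, ← map_commutatorElement]
    have hcomm : ⁅z₁, z₂⁆ = 1 := by
      rw [commutatorElement_eq_one_iff_mul_comm]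
      obtain ⟨i, rfl⟩ := Subgroup.mem_zpowers_iff.mp hz₁
      obtain ⟨j, rfl⟩ := Subgroup.mem_zpowers_iff.mp hz₂
      rw [← zpow_add, ← zpow_add, add_comm]
    rw [hcomm, map_one]
  have hpg : IsPGroup p (commutator G) := hOp.to_le hle
  exact hpg.isNilpotent

end FischerCor

end Cfsg.Agent.Lib.helper23
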