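import Cfsg.Agent.Lib.helper23.G23Main

set_option autoImplicit false
set_option maxRecDepth 1000000
set_option Elab.async false

/-!
# The centraliser of an element of order 13 in the permutation group of degree 364
-/

namespace Cfsg.Agent.Lib.helper23

open Cfsg.Lie Cfsg.Lie.ChevalleyDatum Cfsg.Agent.Lib.helper8 Matrix Subgroup

theorem g23c13p0 : pgEnumPiece 364 9 (pgCentPrune (g23f g23w13))
    (pgCentTest 364 9 (g23f g23w13) [13]) g23L1 [g23L2, g23L3, g23L4, g23L5] 2 0 28 = true := by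
  decide +kernel

theorem g23c13p1 : pgEnumPiece 364 9 (pgCentPrune (g23f g23w13))
    (pgCentTest 364 9 (g23f g23w13) [13]) g23L1 [g23L2, g23L3, g23L4, g23L5] 2 28 28 = true := by
  decide +kernel

theorem g23c13p2 : pgEnumPiece 364 9 (pgCentPrune (g23f g23w13))
    (pgCentTest 364 9 (g23f g23w13) [13]) g23L1 [g23L2, g23L3, g23L4, g23L5] 2 56 28 = true := by
  decide +kernel

theorem g23c13p3 : pgEnumPiece 364 9 (pgCentPrune (g23f g23w13))
    (pgCentTest 364 9 (g23f g23w13) [13]) g23L1 [g23L2, g23L3, g23L4, g23L5] 2 84 28 = true := by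
  decide +kernel

theorem g23c13p4 : pgEnumPiece 364 9 (pgCentPrune (g23f g23w13))
    (pgCentTest 364 9 (g23f g23w13) [13]) g23L1 [g23L2, g23L3, g23L4, g23L5] 2 112 28 = true := by
  decide +kernel

theorem g23c13p5 : pgEnumPiece 364 9 (pgCentPrune (g23f g23w13))
    (pgCentTest 364 9 (g23f g23w13) [13]) g23L1 [g23L2, g23L3, g23L4, g23L5] 2 140 28 = true := by
  decide +kernel

theorem g23c13p6 : pgEnumPiece 364 9 (pgCentPrune (g23f g23w13))
    (pgCentTest 364 9 (g23f g23w13) [13]) g23L1 [g23L2, g23L3, g23L4, g23L5] 2 168 28 = true := by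
  decide +kernel

theorem g23c13p7 : pgEnumPiece 364 9 (pgCentPrune (g23f g23w13))
    (pgCentTest 364 9 (g23f g23w13) [13]) g23L1 [g23L2, g23L3, g23L4, g23L5] 2 196 28 = true := by
  decide +kernel

theorem g23c13p8 : pgEnumPiece 364 9 (pgCentPrune (g23f g23w13))
    (pgCentTest 364 9 (g23f g23w13) [13]) g23L1 [g23L2, g23L3, g23L4, g23L5] 2 224 28 = true := by
  decide +kernel

theorem g23c13p9 : pgEnumPiece 364 9 (pgCentPrune (g23f g23w13))
    (pgCentTest 364 9 (g23f g23w13) [13]) g23L1 [g23L2, g23L3, g23L4, g23L5] 2 252 28 = true := by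
  decide +kernel

theorem g23c13p10 : pgEnumPiece 364 9 (pgCentPrune (g23f g23w13))
    (pgCentTest 364 9 (g23f g23w13) [13]) g23L1 [g23L2, g23L3, g23L4, g23L5] 2 280 28 = true := by
  decide +kernel

theorem g23c13p11 : pgEnumPiece 364 9 (pgCentPrune (g23f g23w13))
    (pgCentTest 364 9 (g23f g23w13) [13]) g23L1 [g23L2, g23L3, g23L4, g23L5] 2 308 28 = true := by
  decide +kernel

theorem g23c13p12 : pgEnumPiece 364 9 (pgCentPrune (g23f g23w13))
    (pgCentTest 364 9 (g23f g23w13) [13]) g23L1 [g23L2, g23L3, g23L4, g23L5] 2 336 28 = true := by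
  decide +kernel

theorem g23cent13 : pgEnumM 364 9 (pgCentPrune (g23f g23w13))
    (pgCentTest 364 9 (g23f g23w13) [13]) g23C 2 (fun p => p) [] = true := by
  apply pgEnumM_of_pieces (L := g23L1) (C := [g23L2, g23L3, g23L4, g23L5])
  intro z hz
  have h : z < 28 ∨ (28 ≤ z ∧ z < 56) ∨ (56 ≤ z ∧ z < 84) ∨ (84 ≤ z ∧ z < 112) ∨
      (112 ≤ z ∧ z < 140) ∨ (140 ≤ z ∧ z < 168) ∨ (168 ≤ z ∧ z < 196) ∨ (196 ≤ z ∧ z < 224) ∨
      (224 ≤ z ∧ z < 252) ∨ (252 ≤ z ∧ z < 280) ∨ (280 ≤ z ∧ z < 308) ∨ (308 ≤ z ∧ z < 336) ∨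
      (336 ≤ z ∧ z < 364) := by omega
  rcases h with h | h | h | h | h | h | h | h | h | h | h | h | h
  · exact pgEnumPiece_spec g23c13p0 z (Nat.zero_le z) (by omega)
  · exact pgEnumPiece_spec g23c13p1 z h.1 (by omega)
  · exact pgEnumPiece_spec g23c13p2 z h.1 (by omega)
  · exact pgEnumPiece_spec g23c13p3 z h.1 (by omega)
  · exact pgEnumPiece_spec g23c13p4 z h.1 (by omega)
  · exact pgEnumPiece_spec g23c13p5 z h.1 (by omega)
  · exact pgEnumPiece_spec g23c13p6 z h.1 (by omega)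
  · exact pgEnumPiece_spec g23c13p7 z h.1 (by omega)
  · exact pgEnumPiece_spec g23c13p8 z h.1 (by omega)
  · exact pgEnumPiece_spec g23c13p9 z h.1 (by omega)
  · exact pgEnumPiece_spec g23c13p10 z h.1 (by omega)
  · exact pgEnumPiece_spec g23c13p11 z h.1 (by omega)
  · exact pgEnumPiece_spec g23c13p12 z h.1 (by omega)

end Cfsg.Agent.Lib.helper23
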