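import Cfsg.Agent.Lib.helper23.G23Data
import Cfsg.Agent.Lib.helper23.PgX

set_option autoImplicit false
set_option maxRecDepth 1000000
set_option Elab.async false

/-!
# The Chevalley group of type G2 over three elements on 364 lines: the checks of the stabiliser chain
-/

namespace Cfsg.Agent.Lib.helper23

open Subgroup MulAction

theorem g23chk0x5 : pgChkLvlW0 364 g23L5 [] = true := by decide +kernel
theorem g23chk0x4 : pgChkLvlW0 364 g23L4 [g23L5] = true := by decide +kernel
theorem g23chk0x3 : pgChkLvlW0 364 g23L3 [g23L4, g23L5] = true := by decide +kernel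
theorem g23chk0x2 : pgChkLvlW0 364 g23L2 [g23L3, g23L4, g23L5] = true := by decide +kernel
theorem g23chk0x1 : pgChkLvlW0 364 g23L1 [g23L2, g23L3, g23L4, g23L5] = true := by decide +kernel

theorem g23cl5x0 : pgChkGenW 364 (List.range 364) g23L5 []
    (g23gen g23T5x0 g23I5x0) 0 364 = true := by
  decide +kernel
theorem g23cl5x1 : pgChkGenW 364 (List.range 364) g23L5 []
    (g23gen g23T5x1 g23I5x1) 0 364 = true := by
  decide +kernel
theorem g23cl4x0 : pgChkGenW 364 (List.range 364) g23L4 [g23L5]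
    (g23gen g23T4x0 g23I4x0) 0 364 = true := by
  decide +kernel
theorem g23cl4x1 : pgChkGenW 364 (List.range 364) g23L4 [g23L5]
    (g23gen g23T4x1 g23I4x1) 0 364 = true := by
  decide +kernel
theorem g23cl3x0 : pgChkGenW 364 (List.range 364) g23L3 [g23L4, g23L5]
    (g23gen g23T3x0 g23I3x0) 0 364 = true := by
  decide +kernel
theorem g23cl3x1 : pgChkGenW 364 (List.range 364) g23L3 [g23L4, g23L5]
    (g23gen g23T3x1 g23I3x1) 0 364 = true := by
  decide +kernel
theorem g23cl2x0 : pgChkGenW 364 (List.range 364) g23L2 [g23L3, g23L4, g23L5]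
    (g23gen g23T2x0 g23I2x0) 0 364 = true := by
  decide +kernel
theorem g23cl2x1 : pgChkGenW 364 (List.range 364) g23L2 [g23L3, g23L4, g23L5]
    (g23gen g23T2x1 g23I2x1) 0 364 = true := by
  decide +kernel
theorem g23cl2x2 : pgChkGenW 364 (List.range 364) g23L2 [g23L3, g23L4, g23L5]
    (g23gen g23T2x2 g23I2x2) 0 364 = true := by
  decide +kernel
theorem g23cl1x0 : pgChkGenW 364 (List.range 364) g23L1 [g23L2, g23L3, g23L4, g23L5]
    (g23gen g23T1x0 g23I1x0) 0 364 = true := by
  decide +kernel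
theorem g23cl1x1 : pgChkGenW 364 (List.range 364) g23L1 [g23L2, g23L3, g23L4, g23L5]
    (g23gen g23T1x1 g23I1x1) 0 364 = true := by
  decide +kernel
theorem g23cl1x2 : pgChkGenW 364 (List.range 364) g23L1 [g23L2, g23L3, g23L4, g23L5]
    (g23gen g23T1x2 g23I1x2) 0 364 = true := by
  decide +kernel
theorem g23cl1x3 : pgChkGenW 364 (List.range 364) g23L1 [g23L2, g23L3, g23L4, g23L5]
    (g23gen g23T1x3 g23I1x3) 0 364 = true := by
  decide +kernel
theorem g23cl1x4 : pgChkGenW 364 (List.range 364) g23L1 [g23L2, g23L3, g23L4, g23L5]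
    (g23gen g23T1x4 g23I1x4) 0 364 = true := by
  decide +kernel
theorem g23cl1x5 : pgChkGenW 364 (List.range 364) g23L1 [g23L2, g23L3, g23L4, g23L5]
    (g23gen g23T1x5 g23I1x5) 0 364 = true := by
  decide +kernel
theorem g23cl1x6 : pgChkGenW 364 (List.range 364) g23L1 [g23L2, g23L3, g23L4, g23L5]
    (g23gen g23T1x6 g23I1x6) 0 364 = true := by
  decide +kernel
theorem g23cl1x7 : pgChkGenW 364 (List.range 364) g23L1 [g23L2, g23L3, g23L4, g23L5]
    (g23gen g23T1x7 g23I1x7) 0 364 = true := by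
  decide +kernel
theorem g23cl1x8 : pgChkGenW 364 (List.range 364) g23L1 [g23L2, g23L3, g23L4, g23L5]
    (g23gen g23T1x8 g23I1x8) 0 364 = true := by
  decide +kernel
theorem g23cl1x9 : pgChkGenW 364 (List.range 364) g23L1 [g23L2, g23L3, g23L4, g23L5]
    (g23gen g23T1x9 g23I1x9) 0 364 = true := by
  decide +kernel
theorem g23cl1x10 : pgChkGenW 364 (List.range 364) g23L1 [g23L2, g23L3, g23L4, g23L5]
    (g23gen g23T1x10 g23I1x10) 0 364 = true := by
  decide +kernel
theorem g23cl1x11 : pgChkGenW 364 (List.range 364) g23L1 [g23L2, g23L3, g23L4, g23L5]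
    (g23gen g23T1x11 g23I1x11) 0 364 = true := by
  decide +kernel

theorem g23chkL5 : pgChkLvlW 364 (List.range 364) g23L5 [] = true := by
  apply pgChkLvlW_ofAllX g23chk0x5
  intro s hs
  change s ∈ [g23gen g23T5x0 g23I5x0, g23gen g23T5x1 g23I5x1] at hs
  simp only [List.mem_cons, List.not_mem_nil, or_false] at hs
  rcases hs with rfl | rfl
  · exact g23cl5x0
  · exact g23cl5x1

theorem g23chkL4 : pgChkLvlW 364 (List.range 364) g23L4 [g23L5] = true := by
  apply pgChkLvlW_ofAllX g23chk0x4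
  intro s hs
  change s ∈ [g23gen g23T4x0 g23I4x0, g23gen g23T4x1 g23I4x1] at hs
  simp only [List.mem_cons, List.not_mem_nil, or_false] at hs
  rcases hs with rfl | rfl
  · exact g23cl4x0
  · exact g23cl4x1

theorem g23chkL3 : pgChkLvlW 364 (List.range 364) g23L3 [g23L4, g23L5] = true := by
  apply pgChkLvlW_ofAllX g23chk0x3
  intro s hs
  change s ∈ [g23gen g23T3x0 g23I3x0, g23gen g23T3x1 g23I3x1] at hs
  simp only [List.mem_cons, List.not_mem_nil, or_false] at hs
  rcases hs with rfl | rfl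
  · exact g23cl3x0
  · exact g23cl3x1

theorem g23chkL2 : pgChkLvlW 364 (List.range 364) g23L2 [g23L3, g23L4, g23L5] = true := by
  apply pgChkLvlW_ofAllX g23chk0x2
  intro s hs
  change s ∈ [g23gen g23T2x0 g23I2x0, g23gen g23T2x1 g23I2x1, g23gen g23T2x2 g23I2x2] at hs
  simp only [List.mem_cons, List.not_mem_nil, or_false] at hs
  rcases hs with rfl | rfl | rfl
  · exact g23cl2x0
  · exact g23cl2x1
  · exact g23cl2x2

theorem g23chkL1 : pgChkLvlW 364 (List.range 364) g23L1 [g23L2, g23L3, g23L4, g23L5] = true := by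
  apply pgChkLvlW_ofAllX g23chk0x1
  intro s hs
  change s ∈ [g23gen g23T1x0 g23I1x0, g23gen g23T1x1 g23I1x1, g23gen g23T1x2 g23I1x2, g23gen g23T1x3 g23I1x3, g23gen g23T1x4 g23I1x4, g23gen g23T1x5 g23I1x5, g23gen g23T1x6 g23I1x6, g23gen g23T1x7 g23I1x7, g23gen g23T1x8 g23I1x8, g23gen g23T1x9 g23I1x9, g23gen g23T1x10 g23I1x10, g23gen g23T1x11 g23I1x11] at hs
  simp only [List.mem_cons, List.not_mem_nil, or_false] at hs
  rcases hs with rfl | rfl | rfl | rfl | rfl | rfl | rfl | rfl | rfl | rfl | rfl | rfl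
  · exact g23cl1x0
  · exact g23cl1x1
  · exact g23cl1x2
  · exact g23cl1x3
  · exact g23cl1x4
  · exact g23cl1x5
  · exact g23cl1x6
  · exact g23cl1x7
  · exact g23cl1x8
  · exact g23cl1x9
  · exact g23cl1x10
  · exact g23cl1x11

/-- the stabiliser chain -/
def g23C : List PgLvlW := [g23L1, g23L2, g23L3, g23L4, g23L5]

theorem g23chkC : pgChkW 364 (pgRigidAll 364).base g23C = true := by
  change pgChkW 364 (List.range 364) [g23L1, g23L2, g23L3, g23L4, g23L5] = true
  rw [pgChkW_cons, pgChkW_cons, pgChkW_cons, pgChkW_cons, pgChkW_cons, g23chkL1, g23chkL2, g23chkL3, g23chkL4, g23chkL5]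
  rfl

end Cfsg.Agent.Lib.helper23
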