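import Cfsg.Agent.Lib.helper23.G23C7
import Cfsg.Agent.Lib.helper23.G23C13

set_option autoImplicit false
set_option maxRecDepth 1000000
set_option Elab.async false

/-!
# The prime graph of the permutation group of degree 364
-/

namespace Cfsg.Agent.Lib.helper23

open Cfsg.Lie Cfsg.Lie.ChevalleyDatum Cfsg.Agent.Lib.helper8 Matrix Subgroup

theorem g23_cent7 : ∀ h ∈ P364, h * g23elt g23w7 = g23elt g23w7 * h → h ^ 7 = 1 := by
  intro h hh hc
  obtain ⟨K, hK, e⟩ := pgCent_main (by norm_num) (pgRigidAll 364) g23chkC g23A (g23f g23w7) [7] 2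
    (g23elt g23w7) (g23f_rep g23w7) g23cent7 h hh hc
  rw [List.mem_singleton] at hK
  rw [← hK]
  exact e

theorem g23_cent13 : ∀ h ∈ P364, h * g23elt g23w13 = g23elt g23w13 * h → h ^ 13 = 1 := by
  intro h hh hc
  obtain ⟨K, hK, e⟩ := pgCent_main (by norm_num) (pgRigidAll 364) g23chkC g23A (g23f g23w13)
    [13] 2 (g23elt g23w13) (g23f_rep g23w13) g23cent13 h hh hc
  rw [List.mem_singleton] at hK
  rw [← hK]
  exact e

/-- an element of the permutation group of order divisible by 7 has order 7 -/
theorem P364_seven (x : P364) (hx : 7 ∣ orderOf x) : orderOf x = 7 := by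
  have : Fact (Nat.Prime 7) := ⟨by norm_num⟩
  apply orderOf_eq_prime_of_cent 7 606528 (by rw [P364_card]) (by norm_num)
    (⟨g23elt g23w7, g23elt_mem g23w7⟩ : P364) _ _ x hx
  · rw [← g23_order7]
    exact Subgroup.orderOf_mk _ _
  · intro h hc
    apply Subtype.ext
    rw [Subgroup.coe_pow, Subgroup.coe_one]
    apply g23_cent7 h.1 h.2
    exact congrArg Subtype.val hc

/-- an element of the permutation group of order divisible by 13 has order 13 -/
theorem P364_thirteen (x : P364) (hx : 13 ∣ orderOf x) : orderOf x = 13 := by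
  have : Fact (Nat.Prime 13) := ⟨by norm_num⟩
  apply orderOf_eq_prime_of_cent 13 326592 (by rw [P364_card]) (by norm_num)
    (⟨g23elt g23w13, g23elt_mem g23w13⟩ : P364) _ _ x hx
  · rw [← g23_order13]
    exact Subgroup.orderOf_mk _ _
  · intro h hc
    apply Subtype.ext
    rw [Subgroup.coe_pow, Subgroup.coe_one]
    apply g23_cent13 h.1 h.2
    exact congrArg Subtype.val hc

theorem P364_six : ∃ x : P364, orderOf x = 6 :=
  ⟨⟨g23elt g23w6, g23elt_mem g23w6⟩, by rw [← g23_order6]; exact Subgroup.orderOf_mk _ _⟩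

/-! ### the prime graph -/

/-- the products of two distinct primes that are orders of elements -/
theorem P364_prime_graph (r s : ℕ) (hr : r.Prime) (hs : s.Prime) (hrs : r ≠ s) :
    (∃ x : P364, orderOf x = r * s) ↔ r * s = 6 := by
  constructor
  · rintro ⟨x, hx⟩
    have hd : r * s ∣ 4245696 := by
      rw [← hx, ← P364_card]
      exact orderOf_dvd_natCard x
    have key : ∀ p : ℕ, p.Prime → p ∣ 4245696 → p = 2 ∨ p = 3 ∨ p = 7 ∨ p = 13 := by
      intro p hp hpd
      have e : (4245696 : ℕ) = 2 ^ 6 * 3 ^ 6 * 7 * 13 := by norm_num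
      rw [e] at hpd
      rcases (Nat.Prime.dvd_mul hp).1 hpd with h | h
      · rcases (Nat.Prime.dvd_mul hp).1 h with h | h
        · rcases (Nat.Prime.dvd_mul hp).1 h with h | h
          · left; exact (Nat.prime_dvd_prime_iff_eq hp Nat.prime_two).1 (hp.dvd_of_dvd_pow h)
          · right; left
            exact (Nat.prime_dvd_prime_iff_eq hp Nat.prime_three).1 (hp.dvd_of_dvd_pow h)
        · right; right; left
          exact (Nat.prime_dvd_prime_iff_eq hp (by norm_num)).1 h
      · right; right; right
        exact (Nat.prime_dvd_prime_iff_eq hp (by norm_num)).1 h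
    have hr' := key r hr (Dvd.dvd.trans (Dvd.intro _ rfl) hd)
    have hs' := key s hs (Dvd.dvd.trans (Dvd.intro_left _ rfl) hd)
    rcases hr' with rfl | rfl | rfl | rfl <;> rcases hs' with rfl | rfl | rfl | rfl
    all_goals first
      | exact absurd rfl hrs
      | rfl
      | (exfalso
         have h7 := P364_seven x (by rw [hx]; decide)
         omega)
      | (exfalso
         have h13 := P364_thirteen x (by rw [hx]; decide)
         omega)
  · intro h
    rw [h]
    exact P364_six

theorem P364_prime_dvd (r : ℕ) (hr : r.Prime) :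
    r ∣ Nat.card P364 ↔ r = 2 ∨ r = 3 ∨ r = 7 ∨ r = 13 := by
  rw [P364_card]
  constructor
  · intro hpd
    have e : (4245696 : ℕ) = 2 ^ 6 * 3 ^ 6 * 7 * 13 := by norm_num
    rw [e] at hpd
    rcases (Nat.Prime.dvd_mul hr).1 hpd with h | h
    · rcases (Nat.Prime.dvd_mul hr).1 h with h | h
      · rcases (Nat.Prime.dvd_mul hr).1 h with h | h
        · left; exact (Nat.prime_dvd_prime_iff_eq hr Nat.prime_two).1 (hr.dvd_of_dvd_pow h)
        · right; left
          exact (Nat.prime_dvd_prime_iff_eq hr Nat.prime_three).1 (hr.dvd_of_dvd_pow h)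
      · right; right; left
        exact (Nat.prime_dvd_prime_iff_eq hr (by norm_num)).1 h
    · right; right; right
      exact (Nat.prime_dvd_prime_iff_eq hr (by norm_num)).1 h
  · rintro (rfl | rfl | rfl | rfl) <;> norm_num

end Cfsg.Agent.Lib.helper23
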