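import Cfsg.Agent.Lib.helper23.G23Main
import Cfsg.Agent.S1059

set_option autoImplicit false

/-!
# The Chevalley group of type G2 over three elements is the permutation group of degree 364
-/

namespace Cfsg.Agent.Lib.helper23

open Cfsg.Lie Cfsg.Lie.ChevalleyDatum Cfsg.Agent.Lib.helper8 Matrix Subgroup

theorem G23_card : Nat.card G23 = 4245696 := by
  have h := Cfsg.Agent.S1059.result (F := ZMod 3) (q := 3) (ZMod.card 3)
  rw [h]
  norm_num

instance : Finite G23 := Nat.finite_of_card_ne_zero (by rw [G23_card]; norm_num)

/-- the Chevalley group is the permutation group -/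
noncomputable def G23_equiv : G23 ≃* P364 :=
  pgEquivOfRange g23Phi _ g23Phi_range (by rw [G23_card, P364_card])

end Cfsg.Agent.Lib.helper23
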