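import Mathlib
import Cfsg.Agent.Lib.helper23.SylowBasic

set_option autoImplicit false

/-!
# Elements of order divisible by a prime with a small centraliser

If the prime `p` divides the order of the finite group `G` exactly once, and the elements
commuting with some element `y` of order `p` have exponent `p`, then an element whose order is
divisible by `p` has order `p`.
-/

namespace Cfsg.Agent.Lib.helper23

open scoped Pointwise

variable {G : Type*} [Group G]

/-- a Sylow subgroup of prime order is generated by each of its elements of order `p` -/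
theorem sylow_eq_zpowers_of_card {p : ℕ} [Fact p.Prime] [Finite G] (P : Sylow p G)
    (hP : Nat.card P = p) {z : G} (hz : z ∈ P) (hzo : orderOf z = p) :
    (P : Subgroup G) = Subgroup.zpowers z := by
  symm
  apply Subgroup.eq_of_le_of_card_ge
  · rw [Subgroup.zpowers_le]; exact hz
  · rw [Nat.card_zpowers, hzo, hP]

theorem orderOf_eq_prime_of_cent [Finite G] (p : ℕ) [hp : Fact p.Prime] (m : ℕ)
    (hcard : Nat.card G = p * m) (hm : ¬ p ∣ m) (y : G) (hy : orderOf y = p)
    (hcent : ∀ h : G, h * y = y * h → h ^ p = 1) (x : G) (hx : p ∣ orderOf x) :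
    orderOf x = p := by
  have hpp : p.Prime := hp.out
  have hsyl : ∀ P : Sylow p G, Nat.card P = p := by
    intro P
    rw [P.card_eq_multiplicity, hcard]
    have hm0 : m ≠ 0 := by
      rintro rfl
      exact hm (dvd_zero p)
    rw [Nat.factorization_mul hpp.ne_zero hm0, Finsupp.add_apply, hpp.factorization_self,
      Nat.factorization_eq_zero_of_not_dvd hm, add_zero, pow_one]
  obtain ⟨k, hk⟩ := hx
  have hxpos : 0 < orderOf x := orderOf_pos x
  have hkpos : 0 < k := by
    rcases Nat.eq_zero_or_pos k with rfl | h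
    · rw [mul_zero] at hk; omega
    · exact h
  set z := x ^ k with hzdef
  have hzo : orderOf z = p := by
    rw [hzdef, orderOf_pow' x hkpos.ne', hk, Nat.gcd_eq_right (Dvd.intro_left p rfl),
      Nat.mul_div_cancel _ hkpos]
  obtain ⟨P, hzP⟩ := exists_sylow_mem_of_orderOf (p := p) (x := z) (k := 1) (by rw [hzo, pow_one])
  obtain ⟨Q, hyQ⟩ := exists_sylow_mem_of_orderOf (p := p) (x := y) (k := 1) (by rw [hy, pow_one])
  obtain ⟨g, hg⟩ := MulAction.exists_smul_eq G P Q
  have hQ := sylow_eq_zpowers_of_card Q (hsyl Q) hyQ hy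
  -- the conjugate of `z` lies in `Q`
  have hzQ : g * z * g⁻¹ ∈ (Q : Subgroup G) := by
    rw [← hg]
    exact (mem_smul_sylow_iff' g P z).2 hzP
  have hzo' : orderOf (g * z * g⁻¹) = p := by rw [orderOf_conj_eq, hzo]
  have hQ' := sylow_eq_zpowers_of_card Q (hsyl Q) hzQ hzo'
  -- `y` is a power of the conjugate of `z`
  have hyz : y ∈ Subgroup.zpowers (g * z * g⁻¹) := by
    rw [← hQ']
    exact hyQ
  obtain ⟨j, hj⟩ := Subgroup.mem_zpowers_iff.1 hyz
  -- the conjugate of `x` commutes with `y`
  have hcomm : (g * x * g⁻¹) * y = y * (g * x * g⁻¹) := by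
    rw [← hj]
    have h1 : g * z * g⁻¹ = (g * x * g⁻¹) ^ k := by
      rw [hzdef, conj_pow]
    rw [h1, ← zpow_natCast, ← zpow_mul]
    exact ((Commute.refl (g * x * g⁻¹)).zpow_right _).eq
  have h2 := hcent _ hcomm
  rw [conj_pow] at h2
  have h3 : x ^ p = 1 := by
    have := congrArg (fun t => g⁻¹ * t * g) h2
    simpa [mul_assoc] using this
  have h4 : orderOf x ∣ p := orderOf_dvd_of_pow_eq_one h3
  rcases (Nat.dvd_prime hpp).1 h4 with h5 | h5
  · rw [h5] at hk
    have : p ∣ 1 := ⟨k, hk⟩
    exact absurd (Nat.dvd_one.1 this) hpp.one_lt.ne'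
  · exact h5

end Cfsg.Agent.Lib.helper23
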