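import Cfsg.Agent.Lib.helper23.G23Mat
import Cfsg.Agent.Lib.helper23.PrimeCent
import Cfsg.Agent.Lib.helper23.PgW
import Cfsg.Agent.Lib.helper23.PgX
import Cfsg.Agent.Lib.helper8.ChevFix1

set_option autoImplicit false
set_option maxRecDepth 1000000
set_option Elab.async false

/-!
# The Chevalley group of type G2 over three elements as a permutation group of degree 364, and
the orders of its elements divisible by 7 or 13
-/

namespace Cfsg.Agent.Lib.helper23

open Cfsg.Lie Cfsg.Lie.ChevalleyDatum Cfsg.Agent.Lib.helper8 Matrix Subgroup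

/-- the Chevalley group of type G2 over the field with three elements -/
abbrev G23 : Subgroup (GL chevG2.Idx (ZMod 3)) := chevG2.group (ZMod 3)

/-- the permutation group of degree 364 -/
abbrev P364 : Subgroup (Equiv.Perm (Fin 364)) := pgGrpW 364 g23C

theorem g23_zmod3 : ∀ t : ZMod 3, t = 0 ∨ t = 1 ∨ t = 2 := by decide

theorem g23x_zero (r : ℕ) : g23x r 0 = 1 := Units.ext (h8base_G2.zero (ZMod 3) r)

theorem g23x_two (r : ℕ) (hr : r < 12) : g23x r 2 = g23x r 1 * g23x r 1 := by
  apply Units.ext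
  have h := h8base_G2.add (ZMod 3) r hr 1 1
  have e : (1 : ZMod 3) + 1 = 2 := by decide
  rw [e] at h
  exact h.symm

theorem g23x_mem (r : ℕ) (hr : r < 12) (t : ZMod 3) : g23x r t ∈ G23 := by
  apply Subgroup.subset_closure
  refine ⟨⟨r, hr⟩, t, ?_⟩
  change chevG2.x (ZMod 3) r t = _
  have hr' : r < chevG2.nroots := hr
  unfold ChevalleyDatum.x
  rw [dif_pos hr']

theorem g23_gen_eq (g : GL chevG2.Idx (ZMod 3)) (r : Fin chevG2.nroots) (t : ZMod 3)
    (hg : (g : Matrix chevG2.Idx chevG2.Idx (ZMod 3)) = chevG2.xMat (ZMod 3) r t) :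
    g = g23x r.1 t := by
  apply Units.ext
  rw [hg]
  change _ = chevG2.x (ZMod 3) r.1 t
  unfold ChevalleyDatum.x
  rw [dif_pos r.2]

/-- the elements of the stabiliser of the lines inducing an element of the permutation group -/
noncomputable def g23T : Subgroup (GL chevG2.Idx (ZMod 3)) :=
  (P364.comap (pgPHom g23Rho g23vec g23Lines)).map (pgPStab g23Rho g23vec g23Lines).subtype

theorem g23x_one_mem_T (r : ℕ) (hr : r < 12) : g23x r 1 ∈ g23T := by
  obtain ⟨hg, e⟩ := g23genx r hr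
  refine ⟨⟨g23x r 1, hg⟩, ?_, rfl⟩
  change pgPHom g23Rho g23vec g23Lines ⟨g23x r 1, hg⟩ ∈ P364
  rw [e]
  exact Subgroup.subset_closure ⟨_, g23P_mem r hr, rfl⟩

theorem g23_le_T : G23 ≤ g23T := by
  change Subgroup.closure _ ≤ _
  rw [Subgroup.closure_le]
  rintro g ⟨r, t, hg⟩
  rw [SetLike.mem_coe, g23_gen_eq g r t hg]
  rcases g23_zmod3 t with rfl | rfl | rfl
  · rw [g23x_zero]; exact one_mem _
  · exact g23x_one_mem_T r.1 r.2
  · rw [g23x_two r.1 r.2]
    exact mul_mem (g23x_one_mem_T r.1 r.2) (g23x_one_mem_T r.1 r.2)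

theorem g23_le : G23 ≤ pgPStab g23Rho g23vec g23Lines := by
  intro g hg
  obtain ⟨q, -, rfl⟩ := g23_le_T hg
  exact q.2

/-- the action on the 364 lines -/
noncomputable def g23Phi : G23 →* Equiv.Perm (Fin 364) :=
  (pgPHom g23Rho g23vec g23Lines).comp (inclusion g23_le)

theorem g23Phi_x (r : ℕ) (hr : r < 12) :
    g23Phi ⟨g23x r 1, g23x_mem r hr 1⟩ = (g23P r).perm 364 := by
  obtain ⟨hg, e⟩ := g23genx r hr
  exact e

theorem g23Phi_range : g23Phi.range = P364 := by
  apply le_antisymm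
  · rintro _ ⟨⟨g, hg⟩, rfl⟩
    obtain ⟨q, hq, hqg⟩ := g23_le_T hg
    have : g23Phi ⟨g, hg⟩ = pgPHom g23Rho g23vec g23Lines q := by
      change pgPHom g23Rho g23vec g23Lines ⟨g, g23_le hg⟩ = _
      congr 1
      exact Subtype.ext hqg.symm
    rw [this]
    exact hq
  · change Subgroup.closure _ ≤ _
    rw [Subgroup.closure_le]
    rintro _ ⟨P, hP, rfl⟩
    obtain ⟨r, hr, rfl⟩ := (g23own_iff P).1 hP
    exact ⟨_, g23Phi_x r hr⟩

theorem g23ord : pgOrdW 364 g23C = 4245696 := by decide +kernel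

theorem P364_card : Nat.card P364 = 4245696 := by
  rw [pgCardW (pgRigidAll 364) g23C g23chkC g23A, g23ord]

instance : Finite P364 := Nat.finite_of_card_ne_zero (by rw [P364_card]; norm_num)

/-! ### elements of orders 6, 7, 13 -/

/-- the function of a word -/
def g23f (w : List ℕ) (p : ℕ) : ℕ := pgEvalW g23L1.own w p

/-- the element of a word -/
def g23elt (w : List ℕ) : Equiv.Perm (Fin 364) := pgWordPerm 364 g23L1.own w

theorem g23elt_mem (w : List ℕ) : g23elt w ∈ P364 := pgWordPerm_mem g23ok w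

theorem g23f_rep (w : List ℕ) (p : Fin 364) : g23f w p.1 = (g23elt w p).1 :=
  (pgWordPerm_apply g23ok w p).symm

theorem g23pow_eq_one (w : List ℕ) (k : ℕ)
    (h : pgAll 364 (fun p => Nat.beq (pgIter (g23f w) k p) p) = true) : g23elt w ^ k = 1 := by
  ext p
  have := (pgAll_iff _ _).1 h p.1 p.2
  rw [Nat.beq_eq, pgIter_perm (g23elt w) _ (g23f_rep w)] at this
  exact this

theorem g23pow_ne_one (w : List ℕ) (k : ℕ) (p : Fin 364)
    (h : Nat.beq (pgIter (g23f w) k p.1) p.1 = false) : g23elt w ^ k ≠ 1 := by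
  intro e
  have h1 := pgIter_perm (g23elt w) _ (g23f_rep w) k p
  rw [e] at h1
  have h2 : pgIter (g23f w) k p.1 = p.1 := h1
  rw [h2] at h
  simp at h

theorem g23o6a : pgAll 364 (fun p => Nat.beq (pgIter (g23f g23w6) 6 p) p) = true := by
  decide +kernel

theorem g23o6b : Nat.beq (pgIter (g23f g23w6) 2 0) 0 = false := by decide +kernel

theorem g23o6c : Nat.beq (pgIter (g23f g23w6) 3 5) 5 = false := by decide +kernel

theorem g23_order6 : orderOf (g23elt g23w6) = 6 := by
  have h6 := g23pow_eq_one g23w6 6 g23o6a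
  have h2 := g23pow_ne_one g23w6 2 0 g23o6b
  have h3 := g23pow_ne_one g23w6 3 5 g23o6c
  have hd : orderOf (g23elt g23w6) ∣ 6 := orderOf_dvd_of_pow_eq_one h6
  have hmem : orderOf (g23elt g23w6) ∈ Nat.divisors 6 := Nat.mem_divisors.2 ⟨hd, by norm_num⟩
  have hdiv : Nat.divisors 6 = {1, 2, 3, 6} := by decide
  rw [hdiv] at hmem
  simp only [Finset.mem_insert, Finset.mem_singleton] at hmem
  rcases hmem with h | h | h | h
  · exact absurd (by rw [← pow_orderOf_eq_one (g23elt g23w6), h, pow_one] : g23elt g23w6 = 1)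
      (fun e => h2 (by rw [e, one_pow]))
  · exact absurd (by rw [← h]; exact pow_orderOf_eq_one _) h2
  · exact absurd (by rw [← h]; exact pow_orderOf_eq_one _) h3
  · exact h

theorem g23o7a : pgAll 364 (fun p => Nat.beq (pgIter (g23f g23w7) 7 p) p) = true := by
  decide +kernel

theorem g23o7b : Nat.beq (pgIter (g23f g23w7) 1 0) 0 = false := by decide +kernel

theorem g23_order7 : orderOf (g23elt g23w7) = 7 := by
  haveI : Fact (Nat.Prime 7) := ⟨by norm_num⟩
  apply orderOf_eq_prime (g23pow_eq_one g23w7 7 g23o7a)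
  have := g23pow_ne_one g23w7 1 0 g23o7b
  rwa [pow_one] at this

theorem g23o13a : pgAll 364 (fun p => Nat.beq (pgIter (g23f g23w13) 13 p) p) = true := by
  decide +kernel

theorem g23o13b : Nat.beq (pgIter (g23f g23w13) 1 0) 0 = false := by decide +kernel

theorem g23_order13 : orderOf (g23elt g23w13) = 13 := by
  haveI : Fact (Nat.Prime 13) := ⟨by norm_num⟩
  apply orderOf_eq_prime (g23pow_eq_one g23w13 13 g23o13a)
  have := g23pow_ne_one g23w13 1 0 g23o13b
  rwa [pow_one] at this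

end Cfsg.Agent.Lib.helper23
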