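import Cfsg.Agent.Lib.helper23.PgN
import Cfsg.Agent.Lib.helper23.PgH

set_option autoImplicit false

/-!
# Packed vectors over the field with three elements

A vector of `(ZMod 3) ^ ι`, with a numbering `e : ι ≃ Fin m` of the coordinates, is packed into a
number, two bits per coordinate; a matrix is packed in the same way, row by row.  The product of a
matrix and a vector is computed with natural numbers, and compared modulo 3.
-/

namespace Cfsg.Agent.Lib.helper23

open Matrix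

section
variable {ι : Type} {m : ℕ}

/-- the vector of a packed vector -/
def pg3Dec (e : ι ≃ Fin m) (u : ℕ) : ι → ZMod 3 := fun i => ((pgDig u (e i).1 : ℕ) : ZMod 3)

/-- all digits are less than 3 -/
def pg3DigOk (m u : ℕ) : Bool := pgAll m (fun i => Nat.blt (pgDig u i) 3)

theorem pg3_cast_inj {a b : ℕ} (ha : a < 3) (hb : b < 3) (h : ((a : ℕ) : ZMod 3) = (b : ZMod 3)) :
    a = b := by
  have := (ZMod.natCast_eq_natCast_iff' a b 3).1 h
  rwa [Nat.mod_eq_of_lt ha, Nat.mod_eq_of_lt hb] at this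

theorem pg3Dec_inj (e : ι ≃ Fin m) {u u' : ℕ} (h : u < 4 ^ m) (h' : u' < 4 ^ m)
    (hd : pg3DigOk m u = true) (hd' : pg3DigOk m u' = true) (he : pg3Dec e u = pg3Dec e u') :
    u = u' := by
  apply pg_eq_of_dig m u u' h h'
  intro i hi
  have h1 := (pgAll_iff _ _).1 hd i hi
  have h2 := (pgAll_iff _ _).1 hd' i hi
  rw [Nat.blt_eq] at h1 h2
  have := congrFun he (e.symm ⟨i, hi⟩)
  unfold pg3Dec at this
  rw [Equiv.apply_symm_apply] at this
  exact pg3_cast_inj h1 h2 this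

theorem pg3NormOk_spec (e : ι ≃ Fin m) {u : ℕ} (h : pgNormOk m u = true) :
    ∃ i : ι, pg3Dec e u i = 1 ∧ ∀ j : ι, e j < e i → pg3Dec e u j = 0 := by
  obtain ⟨i, hi, h1⟩ := (pgAnyN_iff _ _).1 h
  rw [Bool.and_eq_true, Nat.beq_eq, pgAll_iff] at h1
  refine ⟨e.symm ⟨i, hi⟩, ?_, ?_⟩
  · unfold pg3Dec
    rw [Equiv.apply_symm_apply, h1.1]
    rfl
  · intro j hj
    rw [Equiv.apply_symm_apply] at hj
    have := h1.2 (e j).1 hj
    rw [Nat.beq_eq] at this
    unfold pg3Dec
    rw [this]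
    rfl

variable [Fintype ι] [DecidableEq ι]

/-- the check of the table of the vectors: in range, strictly increasing, normalised, digits
less than 3 -/
def pg3ChkVecs (N m : ℕ) (V : ℕ → ℕ) : Bool :=
  pgChkVecs N m V && pgAll N (fun x => pg3DigOk m (V x))

omit [Fintype ι] [DecidableEq ι] in
theorem pg3Lines_of_chk (e : ι ≃ Fin m) {N : ℕ} {V : ℕ → ℕ} (h : pg3ChkVecs N m V = true) :
    PgLines (fun p : Fin N => pg3Dec e (V p.1)) := by
  unfold pg3ChkVecs pgChkVecs at h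
  simp only [Bool.and_eq_true] at h
  obtain ⟨⟨⟨h1, h2⟩, h3⟩, h5⟩ := h
  have hmono := pg_strictMono_of_succ (n := N) (v := V) (by
    intro x hx
    have := (pgAll_iff _ _).1 h2 x (by simpa using hx)
    simpa using this)
  have hlt : ∀ p : Fin N, V p.1 < 4 ^ m := by
    intro p
    have := (pgAll_iff _ _).1 h1 p.1 p.2
    simpa using this
  have hdig : ∀ p : Fin N, pg3DigOk m (V p.1) = true := fun p => (pgAll_iff _ _).1 h5 p.1 p.2
  have hnorm : ∀ p : Fin N, ∃ i : ι, pg3Dec e (V p.1) i = 1 ∧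
      ∀ j : ι, e j < e i → pg3Dec e (V p.1) j = 0 :=
    fun p => pg3NormOk_spec e ((pgAll_iff _ _).1 h3 p.1 p.2)
  have hinj : ∀ p p' : Fin N, pg3Dec e (V p.1) = pg3Dec e (V p'.1) → p = p' := by
    intro p p' he
    have hV := pg3Dec_inj e (hlt p) (hlt p') (hdig p) (hdig p') he
    by_contra hne
    have hne' : p.1 ≠ p'.1 := fun e => hne (Fin.ext e)
    rcases Nat.lt_or_gt_of_ne hne' with h4 | h4
    · exact absurd hV (ne_of_lt (hmono _ _ h4 p'.2))
    · exact absurd hV (ne_of_gt (hmono _ _ h4 p.2))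
  refine ⟨?_, ?_⟩
  · intro p h0
    obtain ⟨i, hi, -⟩ := hnorm p
    have h0' : pg3Dec e (V p.1) = 0 := h0
    rw [h0'] at hi
    exact zero_ne_one hi
  · intro p p' c he
    have he' : pg3Dec e (V p.1) = c • pg3Dec e (V p'.1) := he
    obtain ⟨i, hi, hi0⟩ := hnorm p
    obtain ⟨i', hi', hi0'⟩ := hnorm p'
    have hc : c ≠ 0 := by
      rintro rfl
      rw [zero_smul] at he'
      rw [he'] at hi
      exact zero_ne_one hi
    have hii : i = i' := by
      rcases lt_trichotomy (e i) (e i') with hlt' | heq | hgt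
      · have := congrFun he' i
        rw [hi, Pi.smul_apply, hi0' i hlt', smul_zero] at this
        exact absurd this one_ne_zero
      · exact e.injective heq
      · have := congrFun he' i'
        rw [hi0 i' hgt, Pi.smul_apply, hi', smul_eq_mul, mul_one] at this
        exact absurd this.symm hc
    have hc1 : c = 1 := by
      have := congrFun he' i
      rw [hi, Pi.smul_apply, hii, hi', smul_eq_mul, mul_one] at this
      exact this.symm
    rw [hc1, one_smul] at he'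
    exact hinj p p' he'

/-- the packed matrix `T` is the matrix `M` -/
def PgTab3 (e : ι ≃ Fin m) (T : ℕ) (M : Matrix ι ι (ZMod 3)) : Prop :=
  ∀ i j : ι, M i j = ((pgDig T (m * (e i).1 + (e j).1) : ℕ) : ZMod 3)

/-- the row `i` of the packed matrix times the packed vector: the first `k` terms -/
def pg3RowAux (m T u i k : ℕ) : ℕ :=
  @Nat.rec (fun _ => ℕ) 0
    (fun j ih => Nat.add ih (Nat.mul (pgDig T (Nat.add (Nat.mul m i) j)) (pgDig u j))) k

/-- the row `i` of the packed matrix times the packed vector -/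
def pg3Row (m T u i : ℕ) : ℕ := pg3RowAux m T u i m

theorem pg3RowAux_eq (m T u i k : ℕ) :
    pg3RowAux m T u i k = ∑ j ∈ Finset.range k, pgDig T (m * i + j) * pgDig u j := by
  induction k with
  | zero => rfl
  | succ k ih =>
    rw [Finset.sum_range_succ, ← ih]
    rfl

omit [DecidableEq ι] in
theorem pg3Mv_spec (e : ι ≃ Fin m) {T : ℕ} {M : Matrix ι ι (ZMod 3)} (hT : PgTab3 e T M)
    (u : ℕ) (i : ι) : (M *ᵥ pg3Dec e u) i = ((pg3Row m T u (e i).1 : ℕ) : ZMod 3) := by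
  unfold pg3Row
  rw [pg3RowAux_eq, Nat.cast_sum]
  change ∑ j, M i j * pg3Dec e u j = _
  let F : Fin m → ZMod 3 := fun k => (((pgDig T (m * (e i).1 + k.1) * pgDig u k.1 : ℕ)) : ZMod 3)
  have h1 : ∀ j : ι, M i j * pg3Dec e u j = F (e j) := by
    intro j
    rw [hT i j]
    unfold pg3Dec
    exact (Nat.cast_mul _ _).symm
  have h2 : ∑ j, M i j * pg3Dec e u j = ∑ j : ι, F (e j) :=
    Finset.sum_congr rfl (fun j _ => h1 j)
  rw [h2, Equiv.sum_comp e F]
  exact Fin.sum_univ_eq_sum_range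
    (fun k => (((pgDig T (m * (e i).1 + k) * pgDig u k : ℕ)) : ZMod 3)) m

/-- the check of the images of the lines: the points `p` with `lo ≤ p < lo + cnt` -/
def pg3ChkPts (m T : ℕ) (V f c : ℕ → ℕ) (N lo cnt : ℕ) : Bool :=
  pgAll cnt (fun k => pgForce (Nat.add lo k) (fun p => pgForce (f p) (fun p' =>
    Nat.blt p' N && pgAll m (fun i => Nat.beq (Nat.mod (pg3Row m T (V p) i) 3)
      (Nat.mod (Nat.mul (c p) (pgDig (V p') i)) 3)))))

omit [DecidableEq ι] in
theorem pg3ChkPts_spec (e : ι ≃ Fin m) {T : ℕ} {V f c : ℕ → ℕ} {N : ℕ}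
    {M : Matrix ι ι (ZMod 3)} (hT : PgTab3 e T M)
    (h : pg3ChkPts m T V f c N 0 N = true) (p : ℕ) (hp : p < N) :
    f p < N ∧ M *ᵥ pg3Dec e (V p) = ((c p : ℕ) : ZMod 3) • pg3Dec e (V (f p)) := by
  have := (pgAll_iff _ _).1 h p hp
  rw [pgForce_eq, pgForce_eq] at this
  have e0 : Nat.add 0 p = p := by simp
  rw [e0] at this
  simp only [Bool.and_eq_true, Nat.blt_eq] at this
  obtain ⟨h1, h2⟩ := this
  refine ⟨h1, ?_⟩
  funext i
  rw [pg3Mv_spec e hT, Pi.smul_apply, smul_eq_mul]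
  unfold pg3Dec
  have h3 := (pgAll_iff _ _).1 h2 (e i).1 (e i).2
  rw [Nat.beq_eq] at h3
  rw [← Nat.cast_mul]
  exact (ZMod.natCast_eq_natCast_iff' _ _ 3).2 h3

end

section
variable {K : Type*} [Group K] {ι : Type} [Fintype ι] [DecidableEq ι] {m N : ℕ}
  {ρ : K →* Matrix ι ι (ZMod 3)} {V : ℕ → ℕ}

/-- a checked element permutes the lines, as its table says -/
theorem pg3_gen_of_chk (e : ι ≃ Fin m) (hL : PgLines (fun p : Fin N => pg3Dec e (V p.1))) (g : K)
    {T : ℕ} (hT : PgTab3 e T (ρ g)) {P : PFun} (hP : P.ok N = true) {c : ℕ → ℕ}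
    (h : pg3ChkPts m T V P.f c N 0 N = true) :
    ∃ hg : g ∈ pgPStab ρ (fun p : Fin N => pg3Dec e (V p.1)) hL,
      pgPHom ρ (fun p : Fin N => pg3Dec e (V p.1)) hL ⟨g, hg⟩ = P.perm N := by
  have hrel : ∀ p : Fin N, PgRel ρ (fun p : Fin N => pg3Dec e (V p.1)) g p ((P.perm N) p) := by
    intro p
    obtain ⟨h1, h2⟩ := pg3ChkPts_spec e hT h p.1 p.2
    refine ⟨((c p.1 : ℕ) : ZMod 3), ?_⟩
    change ρ g *ᵥ pg3Dec e (V p.1) = ((c p.1 : ℕ) : ZMod 3) • pg3Dec e (V ((P.perm N) p).1)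
    rw [PFun.perm_apply hP]
    exact h2
  have hg : g ∈ pgPStab ρ (fun p : Fin N => pg3Dec e (V p.1)) hL := fun p => ⟨_, hrel p⟩
  refine ⟨hg, ?_⟩
  ext p
  rw [pgPHom_apply_eq hL ⟨g, hg⟩ (hrel p)]

end

end Cfsg.Agent.Lib.helper23
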