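import Cfsg.Agent.Lib.helper23.G23Chk
import Cfsg.Agent.Lib.helper23.PgZ
import Cfsg.Agent.Lib.helper8.ChevBaseG2
import Cfsg.Agent.Lib.helper8.ChevUnits

set_option autoImplicit false
set_option maxRecDepth 1000000
set_option Elab.async false

/-!
# The Chevalley group of type G2 over three elements: the action on 364 lines
-/

namespace Cfsg.Agent.Lib.helper23

open Cfsg.Lie Cfsg.Lie.ChevalleyDatum Cfsg.Agent.Lib.helper8 Matrix Subgroup

/-- the number of a coordinate -/
def g23num : chevG2.Idx → ℕ := Sum.elim (fun i => i.1) (fun s => 2 + s.1)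

/-- the coordinate with a number -/
def g23idx (a : ℕ) : chevG2.Idx :=
  if h : a < 2 then Sum.inl ⟨a, h⟩
  else if h2 : a - 2 < 12 then Sum.inr ⟨a - 2, h2⟩ else Sum.inl ⟨0, by decide⟩

theorem g23num_lt (i : chevG2.Idx) : g23num i < 14 := by
  rcases i with i | s
  · have : i.1 < 2 := i.2
    simp only [g23num, Sum.elim_inl]
    omega
  · have : s.1 < 12 := s.2
    simp only [g23num, Sum.elim_inr]
    omega

theorem g23idx_num (i : chevG2.Idx) : g23idx (g23num i) = i := by
  rcases i with i | s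
  · have h : i.1 < 2 := i.2
    show g23idx i.1 = Sum.inl i
    unfold g23idx
    rw [dif_pos h]
  · have h : s.1 < 12 := s.2
    have h1 : ¬ (2 + s.1 < 2) := by omega
    have h2 : 2 + s.1 - 2 < 12 := by omega
    show g23idx (2 + s.1) = Sum.inr s
    unfold g23idx
    rw [dif_neg h1, dif_pos h2]
    have h3 : (⟨2 + s.1 - 2, h2⟩ : Fin 12) = s := by
      apply Fin.ext
      show 2 + s.1 - 2 = s.1
      omega
    exact congrArg Sum.inr h3

theorem g23num_idx (a : ℕ) (h : a < 14) : g23num (g23idx a) = a := by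
  unfold g23idx
  by_cases h1 : a < 2
  · rw [dif_pos h1]
    rfl
  · have h2 : a - 2 < 12 := by omega
    rw [dif_neg h1, dif_pos h2]
    show 2 + (a - 2) = a
    omega

/-- the numbering of the coordinates -/
def g23e : chevG2.Idx ≃ Fin 14 where
  toFun i := ⟨g23num i, g23num_lt i⟩
  invFun a := g23idx a.1
  left_inv := g23idx_num
  right_inv a := Fin.ext (g23num_idx a.1 a.2)

theorem g23tabchk : pgAll 12 (fun r => pgAll 14 (fun a => pgAll 14 (fun b =>
    decide (chevG2.x (ZMod 3) r 1 (g23idx a) (g23idx b) =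
      ((pgDig (g23MT r) (Nat.add (Nat.mul 14 a) b) : ℕ) : ZMod 3))))) = true := by
  decide +kernel

theorem g23tab (r : ℕ) (hr : r < 12) : PgTab3 g23e (g23MT r) (chevG2.x (ZMod 3) r 1) := by
  intro i j
  have := (pgAll_iff _ _).1 ((pgAll_iff _ _).1 ((pgAll_iff _ _).1 g23tabchk r hr)
    (g23num i) (g23num_lt i)) (g23num j) (g23num_lt j)
  rw [decide_eq_true_eq, g23idx_num, g23idx_num] at this
  exact this

/-- the vectors of the lines -/
def g23vec : Fin 364 → chevG2.Idx → ZMod 3 := fun p => pg3Dec g23e (g23V p.1)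

theorem g23vchk : pg3ChkVecs 364 14 g23V = true := by decide +kernel

theorem g23Lines : PgLines g23vec := pg3Lines_of_chk g23e g23vchk

/-- the matrix of an element of the general linear group -/
def g23Rho : GL chevG2.Idx (ZMod 3) →* Matrix chevG2.Idx chevG2.Idx (ZMod 3) :=
  Units.coeHom _

/-- the root elements -/
def g23x (r : ℕ) (t : ZMod 3) : GL chevG2.Idx (ZMod 3) := h8xU chevG2 h8base_G2 r t

theorem g23x_val (r : ℕ) (t : ZMod 3) : g23Rho (g23x r t) = chevG2.x (ZMod 3) r t := rfl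

theorem g23A : pgGrpW 364 g23C ≤ (pgRigidAll 364).A := le_top

theorem g23ok : ∀ P ∈ g23L1.own, P.ok 364 = true :=
  pgChkW_own_ok 364 (pgRigidAll 364).base g23C g23chkC


theorem g23pts0 : pg3ChkPts 14 (g23MT 0) g23V (g23gen g23T1x0 g23I1x0).f (g23S 0) 364 0 364 = true := by
  decide +kernel

theorem g23pts1 : pg3ChkPts 14 (g23MT 1) g23V (g23gen g23T1x1 g23I1x1).f (g23S 1) 364 0 364 = true := by
  decide +kernel

theorem g23pts2 : pg3ChkPts 14 (g23MT 2) g23V (g23gen g23T1x2 g23I1x2).f (g23S 2) 364 0 364 = true := by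
  decide +kernel

theorem g23pts3 : pg3ChkPts 14 (g23MT 3) g23V (g23gen g23T1x3 g23I1x3).f (g23S 3) 364 0 364 = true := by
  decide +kernel

theorem g23pts4 : pg3ChkPts 14 (g23MT 4) g23V (g23gen g23T1x4 g23I1x4).f (g23S 4) 364 0 364 = true := by
  decide +kernel

theorem g23pts5 : pg3ChkPts 14 (g23MT 5) g23V (g23gen g23T1x5 g23I1x5).f (g23S 5) 364 0 364 = true := by
  decide +kernel

theorem g23pts6 : pg3ChkPts 14 (g23MT 6) g23V (g23gen g23T1x6 g23I1x6).f (g23S 6) 364 0 364 = true := by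
  decide +kernel

theorem g23pts7 : pg3ChkPts 14 (g23MT 7) g23V (g23gen g23T1x7 g23I1x7).f (g23S 7) 364 0 364 = true := by
  decide +kernel

theorem g23pts8 : pg3ChkPts 14 (g23MT 8) g23V (g23gen g23T1x8 g23I1x8).f (g23S 8) 364 0 364 = true := by
  decide +kernel

theorem g23pts9 : pg3ChkPts 14 (g23MT 9) g23V (g23gen g23T1x9 g23I1x9).f (g23S 9) 364 0 364 = true := by
  decide +kernel

theorem g23pts10 : pg3ChkPts 14 (g23MT 10) g23V (g23gen g23T1x10 g23I1x10).f (g23S 10) 364 0 364 = true := by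
  decide +kernel

theorem g23pts11 : pg3ChkPts 14 (g23MT 11) g23V (g23gen g23T1x11 g23I1x11).f (g23S 11) 364 0 364 = true := by
  decide +kernel

theorem g23own : g23L1.own = [g23gen g23T1x0 g23I1x0, g23gen g23T1x1 g23I1x1, g23gen g23T1x2 g23I1x2, g23gen g23T1x3 g23I1x3, g23gen g23T1x4 g23I1x4, g23gen g23T1x5 g23I1x5, g23gen g23T1x6 g23I1x6, g23gen g23T1x7 g23I1x7, g23gen g23T1x8 g23I1x8, g23gen g23T1x9 g23I1x9, g23gen g23T1x10 g23I1x10, g23gen g23T1x11 g23I1x11] := rfl

/-- the generator `r` of the permutation group -/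
def g23P (r : ℕ) : PFun := g23L1.own.getD r PFun.one

theorem g23P_mem (r : ℕ) (hr : r < 12) : g23P r ∈ g23L1.own := by
  unfold g23P
  rw [List.getD_eq_getElem _ _ (by rw [g23own]; exact hr)]
  exact List.getElem_mem _

theorem g23own_iff (P : PFun) : P ∈ g23L1.own ↔ ∃ r < 12, P = g23P r := by
  constructor
  · intro hP
    obtain ⟨r, hr, rfl⟩ := List.mem_iff_getElem.1 hP
    have hr' : r < 12 := by rw [g23own] at hr; exact hr
    refine ⟨r, hr', ?_⟩
    unfold g23P
    rw [List.getD_eq_getElem _ _ hr]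
  · rintro ⟨r, hr, rfl⟩
    exact g23P_mem r hr

theorem g23pts (r : ℕ) (hr : r < 12) :
    pg3ChkPts 14 (g23MT r) g23V (g23P r).f (g23S r) 364 0 364 = true := by
  have h : ∀ r < 12, pg3ChkPts 14 (g23MT r) g23V (g23P r).f (g23S r) 364 0 364 = true := by
    intro r hr
    interval_cases r

    · exact g23pts0
    · exact g23pts1
    · exact g23pts2
    · exact g23pts3
    · exact g23pts4
    · exact g23pts5
    · exact g23pts6
    · exact g23pts7
    · exact g23pts8
    · exact g23pts9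
    · exact g23pts10
    · exact g23pts11
  exact h r hr

/-- a root element permutes the lines, as the generator of the permutation group -/
theorem g23genx (r : ℕ) (hr : r < 12) : ∃ hg : g23x r 1 ∈ pgPStab g23Rho g23vec g23Lines,
    pgPHom g23Rho g23vec g23Lines ⟨g23x r 1, hg⟩ = (g23P r).perm 364 :=
  pg3_gen_of_chk g23e g23Lines (g23x r 1) (g23tab r hr) (g23ok _ (g23P_mem r hr)) (g23pts r hr)

end Cfsg.Agent.Lib.helper23
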