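import Cfsg.Agent.S2475
import Cfsg.Agent.S0276

set_option autoImplicit false

/-!
# The prime graph of the projective special linear group of degree 2 over 13 elements
-/

namespace Cfsg.Agent.Lib.helper23

section
variable {E : Type*} [Field E] [Fintype E]

theorem psl13_card (hE : Fintype.card E = 13) :
    Nat.card (Matrix.ProjectiveSpecialLinearGroup (Fin 2) E) = 1092 := by
  have h := Cfsg.Agent.S0276.card_psl2 (F := E) (by rw [hE])
  rw [hE] at h
  omega

theorem psl13_orders (hE : Fintype.card E = 13) (m : ℕ) :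
    (∃ y : Matrix.ProjectiveSpecialLinearGroup (Fin 2) E, orderOf y = m) ↔
      (m ∣ 13 ∨ m ∣ 6 ∨ m ∣ 7) := by
  have : Fact (Nat.Prime 13) := ⟨by norm_num⟩
  have : CharP E 13 := charP_of_card_eq_prime hE
  have h := Cfsg.Agent.S2475.result (F := E) 13 (by rw [hE]; norm_num)
  rw [hE] at h
  have e1 : (13 - 1) / Nat.gcd 2 (13 - 1) = 6 := by decide
  have e2 : (13 + 1) / Nat.gcd 2 (13 - 1) = 7 := by decide
  rw [e1, e2] at h
  have h2 : m ∈ Set.range (orderOf : Matrix.ProjectiveSpecialLinearGroup (Fin 2) E → ℕ) ↔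
      (m ∣ 13 ∨ m ∣ 6 ∨ m ∣ 7) := by
    rw [h]
    exact Iff.rfl
  rw [← h2]
  exact Iff.rfl

theorem psl13_prime_dvd (hE : Fintype.card E = 13) (r : ℕ) (hr : r.Prime) :
    r ∣ Nat.card (Matrix.ProjectiveSpecialLinearGroup (Fin 2) E) ↔
      r = 2 ∨ r = 3 ∨ r = 7 ∨ r = 13 := by
  rw [psl13_card hE]
  constructor
  · intro hpd
    have e : (1092 : ℕ) = 2 ^ 2 * 3 * 7 * 13 := by norm_num
    rw [e] at hpd
    rcases (Nat.Prime.dvd_mul hr).1 hpd with h | h
    · rcases (Nat.Prime.dvd_mul hr).1 h with h | h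
      · rcases (Nat.Prime.dvd_mul hr).1 h with h | h
        · left; exact (Nat.prime_dvd_prime_iff_eq hr Nat.prime_two).1 (hr.dvd_of_dvd_pow h)
        · right; left
          exact (Nat.prime_dvd_prime_iff_eq hr Nat.prime_three).1 h
      · right; right; left
        exact (Nat.prime_dvd_prime_iff_eq hr (by norm_num)).1 h
    · right; right; right
      exact (Nat.prime_dvd_prime_iff_eq hr (by norm_num)).1 h
  · rintro (rfl | rfl | rfl | rfl) <;> norm_num

theorem psl13_prime_graph (hE : Fintype.card E = 13) (r s : ℕ) (hr : r.Prime) (hs : s.Prime)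
    (hrs : r ≠ s) :
    (∃ y : Matrix.ProjectiveSpecialLinearGroup (Fin 2) E, orderOf y = r * s) ↔ r * s = 6 := by
  rw [psl13_orders hE]
  have h13 : Nat.Prime 13 := by norm_num
  have h7 : Nat.Prime 7 := by norm_num
  have hr2 := hr.two_le
  have hs2 := hs.two_le
  constructor
  · rintro (h | h | h)
    · exfalso
      rcases (Nat.dvd_prime h13).1 h with e | e
      · have : r ∣ 1 := e ▸ Dvd.intro _ rfl
        exact hr.one_lt.ne' (Nat.dvd_one.1 this)
      · have h1 : r ∣ 13 := e ▸ Dvd.intro _ rfl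
        have h2 : s ∣ 13 := e ▸ Dvd.intro_left _ rfl
        have e1 := (Nat.prime_dvd_prime_iff_eq hr h13).1 h1
        have e2 := (Nat.prime_dvd_prime_iff_eq hs h13).1 h2
        exact hrs (e1.trans e2.symm)
    · have hle : r * s ≤ 6 := Nat.le_of_dvd (by norm_num) h
      have hr6 : r ≤ 3 := by nlinarith
      have hs6 : s ≤ 3 := by nlinarith
      interval_cases r <;> interval_cases s <;> first | rfl | exact absurd rfl hrs
    · exfalso
      rcases (Nat.dvd_prime h7).1 h with e | e
      · have : r ∣ 1 := e ▸ Dvd.intro _ rfl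
        exact hr.one_lt.ne' (Nat.dvd_one.1 this)
      · have h1 : r ∣ 7 := e ▸ Dvd.intro _ rfl
        have h2 : s ∣ 7 := e ▸ Dvd.intro_left _ rfl
        have e1 := (Nat.prime_dvd_prime_iff_eq hr h7).1 h1
        have e2 := (Nat.prime_dvd_prime_iff_eq hs h7).1 h2
        exact hrs (e1.trans e2.symm)
  · intro h
    right; left
    rw [h]

end

end Cfsg.Agent.Lib.helper23
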