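import Cfsg.Agent.Lib.helper8.ChevBaseG2
import Cfsg.Agent.Lib.helper8.ChevFix1

set_option autoImplicit false

/-!
# The Chevalley group of type G2 over a field of three elements, up to the choice of the field
-/

namespace Cfsg.Agent.Lib.helper23

open Cfsg.Lie Cfsg.Lie.ChevalleyDatum Cfsg.Agent.Lib.helper8 Matrix Subgroup

universe u v

theorem g23Psi_Psi {K : Type v} [Field K] {F : Type u} [Field F] (e : K ≃+* F)
    (g : GL chevG2.Idx F) :
    h8Psi chevG2 (e : K →+* F) (h8Psi chevG2 (e.symm : F →+* K) g) = g := by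
  apply Units.ext
  rw [h8Psi_val, h8Psi_val]
  ext i j
  rw [Matrix.map_apply, Matrix.map_apply]
  exact e.apply_symm_apply _

theorem g23_map_eq {K : Type v} [Field K] {F : Type u} [Field F] (e : K ≃+* F) :
    (chevG2.group K).map (h8Psi chevG2 (e : K →+* F)) = chevG2.group F := by
  apply le_antisymm
  · exact h8Psi_group_le chevG2 h8base_G2 h8base_G2 (e : K →+* F)
  · intro g hg
    refine ⟨h8Psi chevG2 (e.symm : F →+* K) g, ?_, g23Psi_Psi e g⟩
    exact h8Psi_group_le chevG2 h8base_G2 h8base_G2 (e.symm : F →+* K) ⟨g, hg, rfl⟩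

/-- isomorphic fields give isomorphic groups -/
noncomputable def g23_congr {K : Type v} [Field K] {F : Type u} [Field F] (e : K ≃+* F) :
    chevG2.group K ≃* chevG2.group F :=
  ((chevG2.group K).equivMapOfInjective (h8Psi chevG2 (e : K →+* F))
    (h8Psi_injective chevG2 (e : K →+* F))).trans (MulEquiv.subgroupCongr (g23_map_eq e))

/-- a field of three elements gives the group over the integers modulo 3 -/
theorem g23_of_card_three {F : Type u} [Field F] [Fintype F] (hF : Fintype.card F = 3) :
    Nonempty (chevG2.group F ≃* chevG2.group (ZMod 3)) :=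
  ⟨(g23_congr (ZMod.ringEquivOfPrime F Nat.prime_three hF)).symm⟩

end Cfsg.Agent.Lib.helper23
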