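import Mathlib

set_option autoImplicit false

/-!
# Groups of order 320: general tools

* a fixed point congruence for the conjugation by an element of prime order,
* a bound for the order of the join of a subgroup with a cyclic group normalising it.
-/

namespace Cfsg.Agent.Lib.helper23

open Subgroup

section
variable {G : Type*} [Group G]

/-- fixed point congruence for the conjugation by an element of prime order on an invariant
subgroup -/
theorem g320_fixed_modEq [Finite G] (p : ℕ) [Fact p.Prime] (a : G) (ha : a ^ p = 1)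
    (U : Subgroup G) (hU : ∀ u ∈ U, a * u * a⁻¹ ∈ U) :
    Nat.card U ≡ Nat.card ↥(U ⊓ centralizer {a}) [MOD p] := by
  classical
  have : Fintype U := Fintype.ofFinite U
  let f : Function.End U := fun u => ⟨a * u.1 * a⁻¹, hU u.1 u.2⟩
  have hpow : ∀ n : ℕ, ∀ u : U, ((f ^ n) u).1 = a ^ n * u.1 * (a ^ n)⁻¹ := by
    intro n
    induction n with
    | zero =>
      intro u
      rw [pow_zero, pow_zero]
      show u.1 = 1 * u.1 * 1⁻¹
      group
    | succ n ih =>
      intro u
      rw [pow_succ']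
      show a * ((f ^ n) u).1 * a⁻¹ = _
      rw [ih u, pow_succ']
      group
  have hf : f ^ p ^ 1 = 1 := by
    rw [pow_one]
    funext u
    apply Subtype.ext
    show ((f ^ p) u).1 = u.1
    rw [hpow, ha]
    group
  have h1 := Equiv.Perm.card_fixedPoints_modEq (f := f) (p := p) (n := 1) hf
  rw [Nat.card_eq_fintype_card]
  refine h1.trans ?_
  rw [← Nat.card_eq_fintype_card]
  have e : ↥(Function.fixedPoints f) ≃ ↥(U ⊓ centralizer {a}) :=
    { toFun := fun u => ⟨u.1.1, by
        refine mem_inf.2 ⟨u.1.2, ?_⟩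
        rw [mem_centralizer_iff]
        intro h hh
        rw [Set.mem_singleton_iff] at hh
        rw [hh]
        have h2 : f u.1 = u.1 := u.2
        have h3 : a * u.1.1 * a⁻¹ = u.1.1 := congrArg Subtype.val h2
        calc a * u.1.1 = (a * u.1.1 * a⁻¹) * a := by group
          _ = u.1.1 * a := by rw [h3]⟩
      invFun := fun u => ⟨⟨u.1, (mem_inf.1 u.2).1⟩, by
        show f _ = _
        apply Subtype.ext
        show a * u.1 * a⁻¹ = u.1
        have h2 := (mem_centralizer_iff.1 (mem_inf.1 u.2).2) a rfl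
        rw [h2]; group⟩
      left_inv := fun u => rfl
      right_inv := fun u => rfl }
  rw [Nat.card_congr e]

/-- an element mapping a finite subgroup into itself under conjugation normalises it -/
theorem g320_conj_zpow_mem [Finite G] (H : Subgroup G) (x : G)
    (hx : ∀ h ∈ H, x * h * x⁻¹ ∈ H) (i : ℤ) {h : G} (hh : h ∈ H) :
    x ^ i * h * (x ^ i)⁻¹ ∈ H := by
  have h1 : x ∈ normalizer (H : Set G) := by
    apply mem_normalizer_fintype
    intro n hn
    exact hx n hn
  have h2 : x ^ i ∈ normalizer (H : Set G) := zpow_mem h1 i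
  exact (mem_normalizer_iff.1 h2 h).1 hh

/-- the join of a subgroup with a cyclic group normalising it, a power of the generator lying in
the subgroup -/
theorem g320_card_sup_le [Finite G] (H : Subgroup G) (x : G) (m : ℕ) (hm : 0 < m)
    (hx : ∀ h ∈ H, x * h * x⁻¹ ∈ H) (hxm : x ^ m ∈ H) :
    Nat.card ↥(H ⊔ zpowers x) ≤ m * Nat.card H := by
  classical
  let S : Subgroup G :=
    { carrier := {g | ∃ h ∈ H, ∃ i : ℤ, g = h * x ^ i}
      one_mem' := ⟨1, H.one_mem, 0, by simp⟩
      mul_mem' := by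
        rintro _ _ ⟨h1, hh1, i, rfl⟩ ⟨h2, hh2, j, rfl⟩
        refine ⟨h1 * (x ^ i * h2 * (x ^ i)⁻¹), H.mul_mem hh1 (g320_conj_zpow_mem H x hx i hh2),
          i + j, ?_⟩
        rw [zpow_add]; group
      inv_mem' := by
        rintro _ ⟨h1, hh1, i, rfl⟩
        refine ⟨x ^ (-i) * h1⁻¹ * (x ^ (-i))⁻¹,
          g320_conj_zpow_mem H x hx (-i) (H.inv_mem hh1), -i, ?_⟩
        group }
  have hle : H ⊔ zpowers x ≤ S := by
    apply sup_le
    · intro h hh
      exact ⟨h, hh, 0, by simp⟩
    · rw [zpowers_le]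
      exact ⟨1, H.one_mem, 1, by simp⟩
  have hsurj : Function.Surjective (fun u : H × Fin m => (⟨u.1.1 * x ^ (u.2 : ℕ),
      ⟨u.1.1, u.1.2, ((u.2 : ℕ) : ℤ), by rw [zpow_natCast]⟩⟩ : S)) := by
    rintro ⟨g, h, hh, i, rfl⟩
    have hmz : (m : ℤ) ≠ 0 := by exact_mod_cast hm.ne'
    have hr0 : 0 ≤ i % (m : ℤ) := Int.emod_nonneg i hmz
    have hr1 : i % (m : ℤ) < m := Int.emod_lt_of_pos i (by exact_mod_cast hm)
    have hi : i = (m : ℤ) * (i / m) + i % m := (Int.mul_ediv_add_emod i m).symm
    have hr2 : ((i % (m : ℤ)).toNat : ℤ) = i % m := Int.toNat_of_nonneg hr0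
    have hr3 : (i % (m : ℤ)).toNat < m := by
      have : ((i % (m : ℤ)).toNat : ℤ) < m := by rw [hr2]; exact hr1
      exact_mod_cast this
    have hq : (x ^ m) ^ (i / (m : ℤ)) ∈ H := zpow_mem hxm _
    refine ⟨(⟨h * (x ^ m) ^ (i / (m : ℤ)), H.mul_mem hh hq⟩, ⟨(i % (m : ℤ)).toNat, hr3⟩), ?_⟩
    apply Subtype.ext
    show h * (x ^ m) ^ (i / (m : ℤ)) * x ^ ((i % (m : ℤ)).toNat) = h * x ^ i
    rw [← zpow_natCast x (i % (m : ℤ)).toNat, hr2, ← zpow_natCast x m, ← zpow_mul, mul_assoc,
      ← zpow_add, ← hi]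
  have h1 : Nat.card S ≤ Nat.card (H × Fin m) := Nat.card_le_card_of_surjective _ hsurj
  have h2 : Nat.card (H × Fin m) = Nat.card H * m := by
    rw [Nat.card_prod, Nat.card_eq_fintype_card (α := Fin m), Fintype.card_fin]
  have h3 : Nat.card ↥(H ⊔ zpowers x) ≤ Nat.card S := Subgroup.card_le_of_le hle
  calc Nat.card ↥(H ⊔ zpowers x) ≤ Nat.card S := h3
    _ ≤ Nat.card H * m := by rw [← h2]; exact h1
    _ = m * Nat.card H := Nat.mul_comm _ _

end

section
variable {G : Type*} [Group G]

/-- the conjugate of `x` by the `i`-th power of `a` -/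
def g320X (a x : G) (i : ℕ) : G := a ^ i * x * (a ^ i)⁻¹

/-- the first commutator -/
def g320C1 (a x : G) : G := x * g320X a x 1 * x⁻¹ * (g320X a x 1)⁻¹

/-- the second commutator -/
def g320C2 (a x : G) : G := x * g320X a x 2 * x⁻¹ * (g320X a x 2)⁻¹

/-- the relations of the group of order 320 -/
structure G320Rel (a x : G) : Prop where
  a5 : a ^ 5 = 1
  c1a : Commute (g320C1 a x) a
  c1x : Commute (g320C1 a x) x
  c2a : Commute (g320C2 a x) a
  c2x : Commute (g320C2 a x) x
  c1sq : g320C1 a x ^ 2 = 1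
  c2sq : g320C2 a x ^ 2 = 1
  xsq : x ^ 2 = g320C1 a x * g320C2 a x
  prod : x * g320X a x 1 * g320X a x 2 * g320X a x 3 * g320X a x 4 = 1

theorem g320X_zero (a x : G) : g320X a x 0 = x := by
  unfold g320X; simp

theorem g320X_succ (a x : G) (i : ℕ) : a * g320X a x i * a⁻¹ = g320X a x (i + 1) := by
  unfold g320X; rw [pow_succ']; group

theorem g320X_conj (a x : G) (i j : ℕ) :
    a ^ i * g320X a x j * (a ^ i)⁻¹ = g320X a x (i + j) := by
  unfold g320X; rw [pow_add]; group

theorem g320X_five {a x : G} (h : a ^ 5 = 1) (i : ℕ) : g320X a x (i + 5) = g320X a x i := by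
  unfold g320X; rw [pow_add, h]; group

theorem g320_commute_X {a x c : G} (ha : Commute c a) (hx : Commute c x) (i : ℕ) :
    Commute c (g320X a x i) := by
  unfold g320X
  exact ((ha.pow_right i).mul_right hx).mul_right (ha.pow_right i).inv_right

theorem g320_conj_central {a c : G} (ha : Commute c a) (i : ℕ) : a ^ i * c * (a ^ i)⁻¹ = c := by
  have h := (ha.pow_right i).eq
  calc a ^ i * c * (a ^ i)⁻¹ = c * a ^ i * (a ^ i)⁻¹ := by rw [h]
    _ = c := by group

theorem g320_comm1 {a x : G} (h : Commute (g320C1 a x) a) (i : ℕ) :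
    g320X a x i * g320X a x (i + 1) = g320C1 a x * g320X a x (i + 1) * g320X a x i := by
  have h1 : g320X a x i * g320X a x (i + 1) * (g320X a x i)⁻¹ * (g320X a x (i + 1))⁻¹
      = a ^ i * g320C1 a x * (a ^ i)⁻¹ := by
    rw [← g320X_conj a x i 1]
    unfold g320C1
    rw [show g320X a x i = a ^ i * x * (a ^ i)⁻¹ from rfl]
    group
  rw [g320_conj_central h] at h1
  rw [← h1]; group

theorem g320_comm2 {a x : G} (h : Commute (g320C2 a x) a) (i : ℕ) :
    g320X a x i * g320X a x (i + 2) = g320C2 a x * g320X a x (i + 2) * g320X a x i := by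
  have h1 : g320X a x i * g320X a x (i + 2) * (g320X a x i)⁻¹ * (g320X a x (i + 2))⁻¹
      = a ^ i * g320C2 a x * (a ^ i)⁻¹ := by
    rw [← g320X_conj a x i 2]
    unfold g320C2
    rw [show g320X a x i = a ^ i * x * (a ^ i)⁻¹ from rfl]
    group
  rw [g320_conj_central h] at h1
  rw [← h1]; group

theorem g320X_sq {a x : G} (h : G320Rel a x) (i : ℕ) :
    g320X a x i ^ 2 = g320C1 a x * g320C2 a x := by
  have h1 : g320X a x i ^ 2 = a ^ i * x ^ 2 * (a ^ i)⁻¹ := by
    unfold g320X; rw [pow_two, pow_two]; group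
  rw [h1, h.xsq]
  have h2 : Commute (g320C1 a x * g320C2 a x) a := h.c1a.mul_left h.c2a
  exact g320_conj_central h2 i

end

section
variable {G : Type*} [Group G]

/-- conjugation maps a subgroup generated by a set into itself if it does so for the generators -/
theorem g320_conj_closure {B : Set G} (y : G) (hB : ∀ b ∈ B, y * b * y⁻¹ ∈ closure B) :
    ∀ h ∈ closure B, y * h * y⁻¹ ∈ closure B := by
  have h1 : closure B ≤ (closure B).comap (MulAut.conj y).toMonoidHom := by
    rw [closure_le]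
    intro b hb
    exact hB b hb
  intro h hh
  exact h1 hh

/-- one step of the chain -/
theorem g320_step [Finite G] (B : Set G) (y : G) (m n : ℕ) (hm : 0 < m)
    (hB : ∀ b ∈ B, y * b * y⁻¹ ∈ closure B) (hy : y ^ m ∈ closure B)
    (hn : Nat.card (closure B) ≤ n) : Nat.card (closure (B ∪ {y})) ≤ m * n := by
  rw [Subgroup.closure_union, ← zpowers_eq_closure]
  exact (g320_card_sup_le _ y m hm (g320_conj_closure y hB) hy).trans (Nat.mul_le_mul_left m hn)

theorem g320_conj_of_comm {u v c : G} (h : u * v = c * v * u) : v * u * v⁻¹ = c⁻¹ * u := by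
  calc v * u * v⁻¹ = c⁻¹ * (c * v * u) * v⁻¹ := by group
    _ = c⁻¹ * (u * v) * v⁻¹ := by rw [← h]
    _ = c⁻¹ * u := by group

theorem g320_conj_of_comm' {u v c : G} (h : v * u = c * u * v) : v * u * v⁻¹ = c * u := by
  rw [h]; group

theorem g320_conj_of_commute {c y : G} (h : Commute c y) : y * c * y⁻¹ = c := by
  rw [← h.eq]; group

end

section
variable {G : Type*} [Group G]

/-- the order bound for the subgroup generated by the conjugates and the commutators -/
theorem g320_card_K_le [Finite G] {a x : G} (h : G320Rel a x) :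
    Nat.card (closure ((∅ : Set G) ∪ {g320C1 a x} ∪ {g320C2 a x} ∪ {x} ∪ {g320X a x 1}
      ∪ {g320X a x 2} ∪ {g320X a x 3})) ≤ 64 := by
  set c1 := g320C1 a x with hc1
  set c2 := g320C2 a x with hc2
  set X1 := g320X a x 1 with hX1
  set X2 := g320X a x 2 with hX2
  set X3 := g320X a x 3 with hX3
  -- commutation of the central elements
  have k1 : ∀ i, Commute c1 (g320X a x i) := g320_commute_X h.c1a h.c1x
  have k2 : ∀ i, Commute c2 (g320X a x i) := g320_commute_X h.c2a h.c2x
  have k12 : Commute c1 c2 := by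
    show Commute c1 (x * g320X a x 2 * x⁻¹ * (g320X a x 2)⁻¹)
    exact ((h.c1x.mul_right (k1 2)).mul_right h.c1x.inv_right).mul_right (k1 2).inv_right
  -- the commutator relations
  have r01 : x * X1 = c1 * X1 * x := by
    have := g320_comm1 h.c1a 0; rwa [g320X_zero] at this
  have r12 : X1 * X2 = c1 * X2 * X1 := g320_comm1 h.c1a 1
  have r23 : X2 * X3 = c1 * X3 * X2 := g320_comm1 h.c1a 2
  have r02 : x * X2 = c2 * X2 * x := by
    have := g320_comm2 h.c2a 0; rwa [g320X_zero] at this
  have r13 : X1 * X3 = c2 * X3 * X1 := g320_comm2 h.c2a 1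
  have r30 : X3 * x = c2 * x * X3 := by
    have := g320_comm2 h.c2a 3
    rwa [show 3 + 2 = 0 + 5 from rfl, g320X_five h.a5, g320X_zero] at this
  have sq : ∀ i, g320X a x i ^ 2 = c1 * c2 := g320X_sq h
  -- the chain
  have e0 : Nat.card (closure (∅ : Set G)) ≤ 1 := by
    rw [Subgroup.closure_empty, card_bot]
  have e1 : Nat.card (closure ((∅ : Set G) ∪ {c1})) ≤ 2 * 1 :=
    g320_step ∅ c1 2 1 (by norm_num) (by simp) (by rw [h.c1sq]; exact one_mem _) e0
  have m1 : c1 ∈ closure ((∅ : Set G) ∪ {c1}) := subset_closure (by simp)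
  have e2 : Nat.card (closure ((∅ : Set G) ∪ {c1} ∪ {c2})) ≤ 2 * (2 * 1) := by
    refine g320_step _ c2 2 _ (by norm_num) ?_ (by rw [h.c2sq]; exact one_mem _) e1
    intro b hb
    simp only [Set.mem_union, Set.mem_singleton_iff, Set.mem_empty_iff_false, false_or] at hb
    rw [hb, g320_conj_of_commute k12]
    exact m1
  set B2 : Set G := (∅ : Set G) ∪ {c1} ∪ {c2} with hB2
  have m21 : c1 ∈ closure B2 := subset_closure (by simp [hB2])
  have m22 : c2 ∈ closure B2 := subset_closure (by simp [hB2])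
  have m2s : c1 * c2 ∈ closure B2 := mul_mem m21 m22
  have e3 : Nat.card (closure (B2 ∪ {x})) ≤ 2 * (2 * (2 * 1)) := by
    refine g320_step _ x 2 _ (by norm_num) ?_ (by rw [h.xsq]; exact m2s) e2
    intro b hb
    simp only [hB2, Set.mem_union, Set.mem_singleton_iff, Set.mem_empty_iff_false, false_or] at hb
    rcases hb with rfl | rfl
    · rw [g320_conj_of_commute h.c1x]; exact m21
    · rw [g320_conj_of_commute h.c2x]; exact m22
  set B3 : Set G := B2 ∪ {x} with hB3
  have i23 : closure B2 ≤ closure B3 := closure_mono Set.subset_union_left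
  have m30 : x ∈ closure B3 := subset_closure (by simp [hB3])
  have e4 : Nat.card (closure (B3 ∪ {X1})) ≤ 2 * (2 * (2 * (2 * 1))) := by
    refine g320_step _ X1 2 _ (by norm_num) ?_ (by rw [sq 1]; exact i23 m2s) e3
    intro b hb
    simp only [hB3, hB2, Set.mem_union, Set.mem_singleton_iff, Set.mem_empty_iff_false,
      false_or] at hb
    rcases hb with (rfl | rfl) | rfl
    · rw [g320_conj_of_commute (k1 1)]; exact i23 m21
    · rw [g320_conj_of_commute (k2 1)]; exact i23 m22
    · rw [g320_conj_of_comm r01]; exact mul_mem (inv_mem (i23 m21)) m30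
  set B4 : Set G := B3 ∪ {X1} with hB4
  have i34 : closure B3 ≤ closure B4 := closure_mono Set.subset_union_left
  have m41 : X1 ∈ closure B4 := subset_closure (by simp [hB4])
  have e5 : Nat.card (closure (B4 ∪ {X2})) ≤ 2 * (2 * (2 * (2 * (2 * 1)))) := by
    refine g320_step _ X2 2 _ (by norm_num) ?_ (by rw [sq 2]; exact i34 (i23 m2s)) e4
    intro b hb
    simp only [hB4, hB3, hB2, Set.mem_union, Set.mem_singleton_iff, Set.mem_empty_iff_false,
      false_or] at hb
    rcases hb with ((rfl | rfl) | rfl) | rfl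
    · rw [g320_conj_of_commute (k1 2)]; exact i34 (i23 m21)
    · rw [g320_conj_of_commute (k2 2)]; exact i34 (i23 m22)
    · rw [g320_conj_of_comm r02]; exact mul_mem (inv_mem (i34 (i23 m22))) (i34 m30)
    · rw [g320_conj_of_comm r12]; exact mul_mem (inv_mem (i34 (i23 m21))) m41
  set B5 : Set G := B4 ∪ {X2} with hB5
  have i45 : closure B4 ≤ closure B5 := closure_mono Set.subset_union_left
  have m52 : X2 ∈ closure B5 := subset_closure (by simp [hB5])
  have e6 : Nat.card (closure (B5 ∪ {X3})) ≤ 2 * (2 * (2 * (2 * (2 * (2 * 1))))) := by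
    refine g320_step _ X3 2 _ (by norm_num) ?_ (by rw [sq 3]; exact i45 (i34 (i23 m2s))) e5
    intro b hb
    simp only [hB5, hB4, hB3, hB2, Set.mem_union, Set.mem_singleton_iff,
      Set.mem_empty_iff_false, false_or] at hb
    rcases hb with (((rfl | rfl) | rfl) | rfl) | rfl
    · rw [g320_conj_of_commute (k1 3)]; exact i45 (i34 (i23 m21))
    · rw [g320_conj_of_commute (k2 3)]; exact i45 (i34 (i23 m22))
    · rw [g320_conj_of_comm' r30]; exact mul_mem (i45 (i34 (i23 m22))) (i45 (i34 m30))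
    · rw [g320_conj_of_comm r13]; exact mul_mem (inv_mem (i45 (i34 (i23 m22)))) (i45 m41)
    · rw [g320_conj_of_comm r23]; exact mul_mem (inv_mem (i45 (i34 (i23 m21)))) m52
  exact e6.trans (by norm_num)

/-- the order bound: a group generated by two elements with the relations has order at most 320 -/
theorem g320_card_le [Finite G] {a x : G} (h : G320Rel a x) :
    Nat.card (closure ({a, x} : Set G)) ≤ 320 := by
  set c1 := g320C1 a x with hc1
  set c2 := g320C2 a x with hc2
  set X1 := g320X a x 1 with hX1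
  set X2 := g320X a x 2 with hX2
  set X3 := g320X a x 3 with hX3
  -- commutation of the central elements
  have k1 : ∀ i, Commute c1 (g320X a x i) := g320_commute_X h.c1a h.c1x
  have k2 : ∀ i, Commute c2 (g320X a x i) := g320_commute_X h.c2a h.c2x
  have k12 : Commute c1 c2 := by
    show Commute c1 (x * g320X a x 2 * x⁻¹ * (g320X a x 2)⁻¹)
    exact ((h.c1x.mul_right (k1 2)).mul_right h.c1x.inv_right).mul_right (k1 2).inv_right
  -- the commutator relations
  have r01 : x * X1 = c1 * X1 * x := by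
    have := g320_comm1 h.c1a 0; rwa [g320X_zero] at this
  have r12 : X1 * X2 = c1 * X2 * X1 := g320_comm1 h.c1a 1
  have r23 : X2 * X3 = c1 * X3 * X2 := g320_comm1 h.c1a 2
  have r02 : x * X2 = c2 * X2 * x := by
    have := g320_comm2 h.c2a 0; rwa [g320X_zero] at this
  have r13 : X1 * X3 = c2 * X3 * X1 := g320_comm2 h.c2a 1
  have r30 : X3 * x = c2 * x * X3 := by
    have := g320_comm2 h.c2a 3
    rwa [show 3 + 2 = 0 + 5 from rfl, g320X_five h.a5, g320X_zero] at this
  have sq : ∀ i, g320X a x i ^ 2 = c1 * c2 := g320X_sq h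
  -- the chain
  have e0 : Nat.card (closure (∅ : Set G)) ≤ 1 := by
    rw [Subgroup.closure_empty, card_bot]
  have e1 : Nat.card (closure ((∅ : Set G) ∪ {c1})) ≤ 2 * 1 :=
    g320_step ∅ c1 2 1 (by norm_num) (by simp) (by rw [h.c1sq]; exact one_mem _) e0
  have m1 : c1 ∈ closure ((∅ : Set G) ∪ {c1}) := subset_closure (by simp)
  have e2 : Nat.card (closure ((∅ : Set G) ∪ {c1} ∪ {c2})) ≤ 2 * (2 * 1) := by
    refine g320_step _ c2 2 _ (by norm_num) ?_ (by rw [h.c2sq]; exact one_mem _) e1
    intro b hb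
    simp only [Set.mem_union, Set.mem_singleton_iff, Set.mem_empty_iff_false, false_or] at hb
    rw [hb, g320_conj_of_commute k12]
    exact m1
  set B2 : Set G := (∅ : Set G) ∪ {c1} ∪ {c2} with hB2
  have m21 : c1 ∈ closure B2 := subset_closure (by simp [hB2])
  have m22 : c2 ∈ closure B2 := subset_closure (by simp [hB2])
  have m2s : c1 * c2 ∈ closure B2 := mul_mem m21 m22
  have e3 : Nat.card (closure (B2 ∪ {x})) ≤ 2 * (2 * (2 * 1)) := by
    refine g320_step _ x 2 _ (by norm_num) ?_ (by rw [h.xsq]; exact m2s) e2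
    intro b hb
    simp only [hB2, Set.mem_union, Set.mem_singleton_iff, Set.mem_empty_iff_false, false_or] at hb
    rcases hb with rfl | rfl
    · rw [g320_conj_of_commute h.c1x]; exact m21
    · rw [g320_conj_of_commute h.c2x]; exact m22
  set B3 : Set G := B2 ∪ {x} with hB3
  have i23 : closure B2 ≤ closure B3 := closure_mono Set.subset_union_left
  have m30 : x ∈ closure B3 := subset_closure (by simp [hB3])
  have e4 : Nat.card (closure (B3 ∪ {X1})) ≤ 2 * (2 * (2 * (2 * 1))) := by
    refine g320_step _ X1 2 _ (by norm_num) ?_ (by rw [sq 1]; exact i23 m2s) e3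
    intro b hb
    simp only [hB3, hB2, Set.mem_union, Set.mem_singleton_iff, Set.mem_empty_iff_false,
      false_or] at hb
    rcases hb with (rfl | rfl) | rfl
    · rw [g320_conj_of_commute (k1 1)]; exact i23 m21
    · rw [g320_conj_of_commute (k2 1)]; exact i23 m22
    · rw [g320_conj_of_comm r01]; exact mul_mem (inv_mem (i23 m21)) m30
  set B4 : Set G := B3 ∪ {X1} with hB4
  have i34 : closure B3 ≤ closure B4 := closure_mono Set.subset_union_left
  have m41 : X1 ∈ closure B4 := subset_closure (by simp [hB4])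
  have e5 : Nat.card (closure (B4 ∪ {X2})) ≤ 2 * (2 * (2 * (2 * (2 * 1)))) := by
    refine g320_step _ X2 2 _ (by norm_num) ?_ (by rw [sq 2]; exact i34 (i23 m2s)) e4
    intro b hb
    simp only [hB4, hB3, hB2, Set.mem_union, Set.mem_singleton_iff, Set.mem_empty_iff_false,
      false_or] at hb
    rcases hb with ((rfl | rfl) | rfl) | rfl
    · rw [g320_conj_of_commute (k1 2)]; exact i34 (i23 m21)
    · rw [g320_conj_of_commute (k2 2)]; exact i34 (i23 m22)
    · rw [g320_conj_of_comm r02]; exact mul_mem (inv_mem (i34 (i23 m22))) (i34 m30)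
    · rw [g320_conj_of_comm r12]; exact mul_mem (inv_mem (i34 (i23 m21))) m41
  set B5 : Set G := B4 ∪ {X2} with hB5
  have i45 : closure B4 ≤ closure B5 := closure_mono Set.subset_union_left
  have m52 : X2 ∈ closure B5 := subset_closure (by simp [hB5])
  have e6 : Nat.card (closure (B5 ∪ {X3})) ≤ 2 * (2 * (2 * (2 * (2 * (2 * 1))))) := by
    refine g320_step _ X3 2 _ (by norm_num) ?_ (by rw [sq 3]; exact i45 (i34 (i23 m2s))) e5
    intro b hb
    simp only [hB5, hB4, hB3, hB2, Set.mem_union, Set.mem_singleton_iff,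
      Set.mem_empty_iff_false, false_or] at hb
    rcases hb with (((rfl | rfl) | rfl) | rfl) | rfl
    · rw [g320_conj_of_commute (k1 3)]; exact i45 (i34 (i23 m21))
    · rw [g320_conj_of_commute (k2 3)]; exact i45 (i34 (i23 m22))
    · rw [g320_conj_of_comm' r30]; exact mul_mem (i45 (i34 (i23 m22))) (i45 (i34 m30))
    · rw [g320_conj_of_comm r13]; exact mul_mem (inv_mem (i45 (i34 (i23 m22)))) (i45 m41)
    · rw [g320_conj_of_comm r23]; exact mul_mem (inv_mem (i45 (i34 (i23 m21)))) m52
  set B6 : Set G := B5 ∪ {X3} with hB6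
  have i56 : closure B5 ≤ closure B6 := closure_mono Set.subset_union_left
  have m63 : X3 ∈ closure B6 := subset_closure (by simp [hB6])
  have m60 : x ∈ closure B6 := i56 (i45 (i34 m30))
  have m61 : X1 ∈ closure B6 := i56 (i45 m41)
  have m62 : X2 ∈ closure B6 := i56 m52
  have e7 : Nat.card (closure (B6 ∪ {a})) ≤ 5 * (2 * (2 * (2 * (2 * (2 * (2 * 1)))))) := by
    refine g320_step _ a 5 _ (by norm_num) ?_ (by rw [h.a5]; exact one_mem _) e6
    intro b hb
    simp only [hB6, hB5, hB4, hB3, hB2, Set.mem_union, Set.mem_singleton_iff,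
      Set.mem_empty_iff_false, false_or] at hb
    rcases hb with ((((hb | hb) | hb) | hb) | hb) | hb <;> rw [hb]
    · rw [g320_conj_of_commute h.c1a]; exact i56 (i45 (i34 (i23 m21)))
    · rw [g320_conj_of_commute h.c2a]; exact i56 (i45 (i34 (i23 m22)))
    · have : a * x * a⁻¹ = X1 := by
        have := g320X_succ a x 0; rwa [g320X_zero] at this
      rw [this]; exact m61
    · rw [show a * X1 * a⁻¹ = X2 from g320X_succ a x 1]; exact m62
    · rw [show a * X2 * a⁻¹ = X3 from g320X_succ a x 2]; exact m63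
    · rw [show a * X3 * a⁻¹ = g320X a x 4 from g320X_succ a x 3]
      have h4 : g320X a x 4 = (x * X1 * X2 * X3)⁻¹ := eq_inv_of_mul_eq_one_right h.prod
      rw [h4]
      exact inv_mem (mul_mem (mul_mem (mul_mem m60 m61) m62) m63)
  have hle : closure ({a, x} : Set G) ≤ closure (B6 ∪ {a}) := by
    rw [closure_le]
    intro g hg
    simp only [Set.mem_insert_iff, Set.mem_singleton_iff] at hg
    rcases hg with rfl | rfl
    · exact subset_closure (by simp)
    · exact closure_mono Set.subset_union_left m60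
  exact (Subgroup.card_le_of_le hle).trans (by norm_num at e7 ⊢; exact e7)

end

section
variable {G H : Type*} [Group G] [Group H]

theorem g320X_prod (a x : G) (b y : H) (i : ℕ) :
    g320X ((a, b) : G × H) (x, y) i = (g320X a x i, g320X b y i) := by
  unfold g320X
  rw [Prod.pow_mk, Prod.inv_mk, Prod.mk_mul_mk, Prod.mk_mul_mk]

theorem g320C1_prod (a x : G) (b y : H) :
    g320C1 ((a, b) : G × H) (x, y) = (g320C1 a x, g320C1 b y) := by
  unfold g320C1
  rw [g320X_prod, Prod.inv_mk, Prod.inv_mk, Prod.mk_mul_mk, Prod.mk_mul_mk, Prod.mk_mul_mk]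

theorem g320C2_prod (a x : G) (b y : H) :
    g320C2 ((a, b) : G × H) (x, y) = (g320C2 a x, g320C2 b y) := by
  unfold g320C2
  rw [g320X_prod, Prod.inv_mk, Prod.inv_mk, Prod.mk_mul_mk, Prod.mk_mul_mk, Prod.mk_mul_mk]

theorem g320_commute_prod {c a : G} {d b : H} (h1 : Commute c a) (h2 : Commute d b) :
    Commute ((c, d) : G × H) (a, b) := by
  show (c, d) * (a, b) = (a, b) * (c, d)
  rw [Prod.mk_mul_mk, Prod.mk_mul_mk, h1.eq, h2.eq]

theorem G320Rel.pair {a x : G} {b y : H} (hG : G320Rel a x) (hH : G320Rel b y) :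
    G320Rel ((a, b) : G × H) (x, y) where
  a5 := by rw [Prod.pow_mk, hG.a5, hH.a5]; rfl
  c1a := by rw [g320C1_prod]; exact g320_commute_prod hG.c1a hH.c1a
  c1x := by rw [g320C1_prod]; exact g320_commute_prod hG.c1x hH.c1x
  c2a := by rw [g320C2_prod]; exact g320_commute_prod hG.c2a hH.c2a
  c2x := by rw [g320C2_prod]; exact g320_commute_prod hG.c2x hH.c2x
  c1sq := by rw [g320C1_prod, Prod.pow_mk, hG.c1sq, hH.c1sq]; rfl
  c2sq := by rw [g320C2_prod, Prod.pow_mk, hG.c2sq, hH.c2sq]; rfl
  xsq := by rw [g320C1_prod, g320C2_prod, Prod.pow_mk, hG.xsq, hH.xsq, Prod.mk_mul_mk]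
  prod := by
    rw [g320X_prod, g320X_prod, g320X_prod, g320X_prod, Prod.mk_mul_mk, Prod.mk_mul_mk,
      Prod.mk_mul_mk, Prod.mk_mul_mk, hG.prod, hH.prod]; rfl

/-- two groups of order 320 generated by pairs with the relations are isomorphic -/
theorem g320_iso [Finite G] [Finite H] {a x : G} {b y : H} (hG : G320Rel a x)
    (hH : G320Rel b y) (gG : closure ({a, x} : Set G) = ⊤) (gH : closure ({b, y} : Set H) = ⊤)
    (cG : Nat.card G = 320) (cH : Nat.card H = 320) : Nonempty (G ≃* H) := by
  set Γ : Subgroup (G × H) := closure ({(a, b), (x, y)} : Set (G × H)) with hΓ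
  have hcard : Nat.card Γ ≤ 320 := g320_card_le (hG.pair hH)
  let π1 : Γ →* G := (MonoidHom.fst G H).comp Γ.subtype
  let π2 : Γ →* H := (MonoidHom.snd G H).comp Γ.subtype
  have s1 : Function.Surjective π1 := by
    intro g
    have h1 : Γ.map (MonoidHom.fst G H) = ⊤ := by
      rw [hΓ, MonoidHom.map_closure, ← gG]
      congr 1
      ext z
      simp only [Set.mem_image, Set.mem_insert_iff, Set.mem_singleton_iff, MonoidHom.coe_fst]
      constructor
      · rintro ⟨w, rfl | rfl, rfl⟩
        · exact Or.inl rfl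
        · exact Or.inr rfl
      · rintro (rfl | rfl)
        · exact ⟨(_, b), Or.inl rfl, rfl⟩
        · exact ⟨(_, y), Or.inr rfl, rfl⟩
    have h2 : g ∈ Γ.map (MonoidHom.fst G H) := by rw [h1]; exact mem_top g
    obtain ⟨w, hw, rfl⟩ := mem_map.1 h2
    exact ⟨⟨w, hw⟩, rfl⟩
  have s2 : Function.Surjective π2 := by
    intro g
    have h1 : Γ.map (MonoidHom.snd G H) = ⊤ := by
      rw [hΓ, MonoidHom.map_closure, ← gH]
      congr 1
      ext z
      simp only [Set.mem_image, Set.mem_insert_iff, Set.mem_singleton_iff, MonoidHom.coe_snd]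
      constructor
      · rintro ⟨w, rfl | rfl, rfl⟩
        · exact Or.inl rfl
        · exact Or.inr rfl
      · rintro (rfl | rfl)
        · exact ⟨(a, _), Or.inl rfl, rfl⟩
        · exact ⟨(x, _), Or.inr rfl, rfl⟩
    have h2 : g ∈ Γ.map (MonoidHom.snd G H) := by rw [h1]; exact mem_top g
    obtain ⟨w, hw, rfl⟩ := mem_map.1 h2
    exact ⟨⟨w, hw⟩, rfl⟩
  have b1 : Function.Bijective π1 := s1.bijective_of_nat_card_le (by rw [cG]; exact hcard)
  have b2 : Function.Bijective π2 := s2.bijective_of_nat_card_le (by rw [cH]; exact hcard)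
  exact ⟨(MulEquiv.ofBijective π1 b1).symm.trans (MulEquiv.ofBijective π2 b2)⟩

end

section
variable {G : Type*} [Group G]

theorem g320_sw_tail {u v c : G} (h : u * v = c * (v * u)) (t : G) :
    u * (v * t) = c * (v * (u * t)) := by
  rw [← mul_assoc, h, mul_assoc, mul_assoc]

theorem g320_sq_tail {u s : G} (h : u * u = s) (t : G) : u * (u * t) = s * t := by
  rw [← mul_assoc, h]

/-- the square of a product of four elements with central commutators -/
theorem g320_sq_four {x0 x1 x2 x3 c1 c2 s : G}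
    (k10 : Commute x0 c1) (k11 : Commute x1 c1) (k12 : Commute x2 c1) (k13 : Commute x3 c1)
    (k20 : Commute x0 c2) (k21 : Commute x1 c2) (k22 : Commute x2 c2) (k23 : Commute x3 c2)
    (ks0 : Commute x0 s) (ks1 : Commute x1 s) (ks2 : Commute x2 s) (ks3 : Commute x3 s)
    (m10 : x1 * x0 = c1 * (x0 * x1)) (m20 : x2 * x0 = c2 * (x0 * x2))
    (m30 : x3 * x0 = c2 * (x0 * x3)) (m21 : x2 * x1 = c1 * (x1 * x2))
    (m31 : x3 * x1 = c2 * (x1 * x3)) (m32 : x3 * x2 = c1 * (x2 * x3))
    (q0 : x0 * x0 = s) (q1 : x1 * x1 = s) (q2 : x2 * x2 = s) (q3 : x3 * x3 = s)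
    (e1 : c1 * c1 = 1) (e2 : c2 * c2 = 1) (es : s * s = 1)
    (c21 : Commute c2 c1) (cs1 : Commute s c1) (cs2 : Commute s c2) :
    (x0 * x1 * x2 * x3) * (x0 * x1 * x2 * x3) = c1 * c2 := by
  simp only [mul_assoc, g320_sw_tail m10, g320_sw_tail m20, g320_sw_tail m30, g320_sw_tail m21,
    g320_sw_tail m31, g320_sw_tail m32, m10, m20, m30, m21, m31, m32,
    k10.left_comm, k11.left_comm, k12.left_comm, k13.left_comm,
    k20.left_comm, k21.left_comm, k22.left_comm, k23.left_comm,
    ks0.left_comm, ks1.left_comm, ks2.left_comm, ks3.left_comm,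
    k10.eq, k11.eq, k12.eq, k13.eq, k20.eq, k21.eq, k22.eq, k23.eq, ks0.eq, ks1.eq, ks2.eq,
    ks3.eq, g320_sq_tail q0, g320_sq_tail q1, g320_sq_tail q2, g320_sq_tail q3, q0, q1, q2, q3,
    g320_sq_tail e1, g320_sq_tail e2, g320_sq_tail es, e1, e2, es, one_mul, mul_one,
    c21.left_comm, cs1.left_comm, cs2.left_comm, c21.eq, cs1.eq, cs2.eq]

end

section
variable {G H : Type*} [Group G] [Group H]

theorem g320X_map (f : G →* H) (a x : G) (i : ℕ) : f (g320X a x i) = g320X (f a) (f x) i := by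
  unfold g320X; rw [map_mul, map_mul, map_inv, map_pow]

theorem g320C1_map (f : G →* H) (a x : G) : f (g320C1 a x) = g320C1 (f a) (f x) := by
  unfold g320C1; rw [map_mul, map_mul, map_mul, map_inv, map_inv, g320X_map]

theorem g320C2_map (f : G →* H) (a x : G) : f (g320C2 a x) = g320C2 (f a) (f x) := by
  unfold g320C2; rw [map_mul, map_mul, map_mul, map_inv, map_inv, g320X_map]

/-- the relations are preserved by homomorphisms -/
theorem G320Rel.map (f : G →* H) {a x : G} (h : G320Rel a x) : G320Rel (f a) (f x) where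
  a5 := by rw [← map_pow, h.a5, map_one]
  c1a := by rw [← g320C1_map]; exact h.c1a.map f
  c1x := by rw [← g320C1_map]; exact h.c1x.map f
  c2a := by rw [← g320C2_map]; exact h.c2a.map f
  c2x := by rw [← g320C2_map]; exact h.c2x.map f
  c1sq := by rw [← g320C1_map, ← map_pow, h.c1sq, map_one]
  c2sq := by rw [← g320C2_map, ← map_pow, h.c2sq, map_one]
  xsq := by rw [← g320C1_map, ← g320C2_map, ← map_pow, h.xsq, map_mul]
  prod := by
    rw [← g320X_map, ← g320X_map, ← g320X_map, ← g320X_map, ← map_mul, ← map_mul, ← map_mul,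
      ← map_mul, h.prod, map_one]

/-- the relations are reflected by injective homomorphisms -/
theorem G320Rel.of_injective (f : G →* H) (hf : Function.Injective f) {a x : G}
    (h : G320Rel (f a) (f x)) : G320Rel a x where
  a5 := hf (by rw [map_pow, h.a5, map_one])
  c1a := hf (by rw [map_mul, map_mul, g320C1_map]; exact h.c1a.eq)
  c1x := hf (by rw [map_mul, map_mul, g320C1_map]; exact h.c1x.eq)
  c2a := hf (by rw [map_mul, map_mul, g320C2_map]; exact h.c2a.eq)
  c2x := hf (by rw [map_mul, map_mul, g320C2_map]; exact h.c2x.eq)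
  c1sq := hf (by rw [map_pow, g320C1_map, h.c1sq, map_one])
  c2sq := hf (by rw [map_pow, g320C2_map, h.c2sq, map_one])
  xsq := hf (by rw [map_pow, map_mul, g320C1_map, g320C2_map, h.xsq])
  prod := hf (by
    rw [map_mul, map_mul, map_mul, map_mul, g320X_map, g320X_map, g320X_map, g320X_map, h.prod,
      map_one])

/-- the conjugates and commutators from witnesses -/
theorem g320_witness_eqs {a x x1 x2 x3 x4 c1 c2 : G}
    (h1 : a * x = x1 * a) (h2 : a * x1 = x2 * a) (h3 : a * x2 = x3 * a) (h4 : a * x3 = x4 * a)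
    (k1 : x * x1 = c1 * x1 * x) (k2 : x * x2 = c2 * x2 * x) :
    g320X a x 1 = x1 ∧ g320X a x 2 = x2 ∧ g320X a x 3 = x3 ∧ g320X a x 4 = x4 ∧
      g320C1 a x = c1 ∧ g320C2 a x = c2 := by
  have e1 : g320X a x 1 = x1 := by
    have := g320X_succ a x 0
    rw [g320X_zero] at this
    rw [← this, h1]; group
  have e2 : g320X a x 2 = x2 := by
    rw [← g320X_succ a x 1, e1, h2]; group
  have e3 : g320X a x 3 = x3 := by
    rw [← g320X_succ a x 2, e2, h3]; group
  have e4 : g320X a x 4 = x4 := by
    rw [← g320X_succ a x 3, e3, h4]; group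
  have f1 : g320C1 a x = c1 := by
    unfold g320C1; rw [e1, k1]; group
  have f2 : g320C2 a x = c2 := by
    unfold g320C2; rw [e2, k2]; group
  exact ⟨e1, e2, e3, e4, f1, f2⟩

/-- the relations from witnesses for the conjugates and the commutators -/
theorem g320Rel_of_witness {a x x1 x2 x3 x4 c1 c2 : G} (a5 : a ^ 5 = 1)
    (h1 : a * x = x1 * a) (h2 : a * x1 = x2 * a) (h3 : a * x2 = x3 * a) (h4 : a * x3 = x4 * a)
    (k1 : x * x1 = c1 * x1 * x) (k2 : x * x2 = c2 * x2 * x)
    (c1a : c1 * a = a * c1) (c1x : c1 * x = x * c1) (c2a : c2 * a = a * c2)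
    (c2x : c2 * x = x * c2) (c1sq : c1 * c1 = 1) (c2sq : c2 * c2 = 1) (xsq : x * x = c1 * c2)
    (prod : x * x1 * x2 * x3 * x4 = 1) : G320Rel a x := by
  obtain ⟨e1, e2, e3, e4, f1, f2⟩ := g320_witness_eqs h1 h2 h3 h4 k1 k2
  exact
    { a5 := a5
      c1a := by rw [f1]; exact c1a
      c1x := by rw [f1]; exact c1x
      c2a := by rw [f2]; exact c2a
      c2x := by rw [f2]; exact c2x
      c1sq := by rw [f1, pow_two]; exact c1sq
      c2sq := by rw [f2, pow_two]; exact c2sq
      xsq := by rw [f1, f2, pow_two]; exact xsq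
      prod := by rw [e1, e2, e3, e4]; exact prod }

end

end Cfsg.Agent.Lib.helper23
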