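import Cfsg.Agent.Lib.helper23.G320A

set_option autoImplicit false

/-!
# Groups of order 320 with derived group of order 64 whose centre is a four-group: structure
-/

namespace Cfsg.Agent.Lib.helper23

open Subgroup
open scoped commutatorElement

/-- the setting: `D` normal of order 64, `Z` its centre of order 4 and exponent 2, `a` of order 5
centralising `Z` with `C_D(a) = Z`, and `D` the derived group -/
structure G320Set (G : Type*) [Group G] (D Z : Subgroup G) (a : G) : Prop where
  nD : D.Normal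
  cD : Nat.card D = 64
  cZ : Nat.card Z = 4
  zD : Z ≤ D
  zc : ∀ z ∈ Z, ∀ d ∈ D, d * z = z * d
  zm : ∀ g ∈ D, (∀ d ∈ D, d * g = g * d) → g ∈ Z
  z2 : ∀ z ∈ Z, z ^ 2 = 1
  a5 : a ^ 5 = 1
  za : ∀ z ∈ Z, a * z = z * a
  cz : ∀ d ∈ D, a * d = d * a → d ∈ Z
  top : D ⊔ zpowers a = ⊤
  comm : D ≤ commutator G

theorem g320_div64 {n : ℕ} (h1 : n ∣ 64) (h2 : 4 ∣ n) (h3 : n ≡ 4 [MOD 5]) : n = 4 ∨ n = 64 := by
  have h4 : n ∈ Nat.divisors 64 := Nat.mem_divisors.2 ⟨h1, by norm_num⟩
  have h5 : Nat.divisors 64 = {1, 2, 4, 8, 16, 32, 64} := by decide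
  rw [h5] at h4
  simp only [Finset.mem_insert, Finset.mem_singleton] at h4
  unfold Nat.ModEq at h3
  rcases h4 with rfl | rfl | rfl | rfl | rfl | rfl | rfl <;> omega

section
variable {G : Type*} [Group G] [Finite G]

/-- the setting from the hypotheses -/
theorem g320_setting (hG : Nat.card G = 320) (hD : Nat.card (commutator G) = 64)
    (hZ : IsKleinFour (Subgroup.center (commutator G))) :
    ∃ (Z : Subgroup G) (a : G), G320Set G (commutator G) Z a := by
  classical
  set D : Subgroup G := commutator G with hDdef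
  haveI nD : D.Normal := by rw [hDdef]; infer_instance
  set Z : Subgroup G := (Subgroup.center ↥D).map D.subtype with hZdef
  have cZ : Nat.card Z = 4 := by
    rw [hZdef, Subgroup.card_map_of_injective D.subtype_injective]
    exact hZ.card_four
  have zD : Z ≤ D := by rw [hZdef]; exact map_subtype_le _
  have zc : ∀ z ∈ Z, ∀ d ∈ D, d * z = z * d := by
    intro z hz d hd
    obtain ⟨w, hw, rfl⟩ := mem_map.1 hz
    have := mem_center_iff.1 hw ⟨d, hd⟩
    exact congrArg Subtype.val this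
  have zm : ∀ g ∈ D, (∀ d ∈ D, d * g = g * d) → g ∈ Z := by
    intro g hg hcomm
    refine mem_map.2 ⟨⟨g, hg⟩, ?_, rfl⟩
    rw [mem_center_iff]
    intro d
    exact Subtype.ext (hcomm d.1 d.2)
  have z2 : ∀ z ∈ Z, z ^ 2 = 1 := by
    intro z hz
    obtain ⟨w, hw, rfl⟩ := mem_map.1 hz
    have h1 : (⟨w, hw⟩ : Subgroup.center ↥D) ^ 2 = 1 := by
      have := Monoid.pow_exponent_eq_one (⟨w, hw⟩ : Subgroup.center ↥D)
      rwa [hZ.exponent_two] at this
    have h2 : w ^ 2 = 1 := congrArg Subtype.val h1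
    have h3 : (w : G) ^ 2 = 1 := congrArg Subtype.val h2
    exact h3
  -- the element of order 5
  haveI : Fact (Nat.Prime 5) := ⟨by norm_num⟩
  obtain ⟨a, ha⟩ := exists_prime_orderOf_dvd_card' (G := G) 5 (by rw [hG]; norm_num)
  have a5 : a ^ 5 = 1 := by rw [← ha]; exact pow_orderOf_eq_one a
  have a1 : a ≠ 1 := by
    intro h; rw [h, orderOf_one] at ha; norm_num at ha
  -- conjugation by `a` preserves `Z`
  have zn : ∀ g : G, ∀ z ∈ Z, g * z * g⁻¹ ∈ Z := by
    intro g z hz
    refine zm _ (nD.conj_mem z (zD hz) g) ?_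
    intro d hd
    have h1 : g⁻¹ * d * g ∈ D := by
      have := nD.conj_mem d hd g⁻¹; rwa [inv_inv] at this
    have h2 := zc z hz _ h1
    calc d * (g * z * g⁻¹) = g * ((g⁻¹ * d * g) * z) * g⁻¹ := by group
      _ = g * (z * (g⁻¹ * d * g)) * g⁻¹ := by rw [h2]
      _ = g * z * g⁻¹ * d := by group
  -- `a` centralises `Z`
  have za : ∀ z ∈ Z, a * z = z * a := by
    have h1 := g320_fixed_modEq 5 a a5 Z (fun u hu => zn a u hu)
    have h2 : Nat.card ↥(Z ⊓ centralizer {a}) ∣ 4 := by
      rw [← cZ]; exact Subgroup.card_dvd_of_le inf_le_left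
    have h3 : Nat.card ↥(Z ⊓ centralizer {a}) = 4 := by
      rw [cZ] at h1
      have h4 : Nat.card ↥(Z ⊓ centralizer {a}) ∈ Nat.divisors 4 :=
        Nat.mem_divisors.2 ⟨h2, by norm_num⟩
      have h5 : Nat.divisors 4 = {1, 2, 4} := by decide
      rw [h5] at h4
      simp only [Finset.mem_insert, Finset.mem_singleton] at h4
      unfold Nat.ModEq at h1
      rcases h4 with h | h | h <;> omega
    have h4 : Z ⊓ centralizer {a} = Z :=
      Subgroup.eq_of_le_of_card_ge inf_le_left (by rw [h3, cZ])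
    intro z hz
    have h5 : z ∈ Z ⊓ centralizer {a} := by rw [h4]; exact hz
    exact (mem_centralizer_iff.1 (mem_inf.1 h5).2 a rfl)
  -- `D` and `a` generate
  have hDa : D ⊔ zpowers a = ⊤ := by
    apply Subgroup.eq_top_of_card_eq
    have h1 : Nat.card D ∣ Nat.card ↥(D ⊔ zpowers a) := Subgroup.card_dvd_of_le le_sup_left
    have h2 : Nat.card (zpowers a) ∣ Nat.card ↥(D ⊔ zpowers a) :=
      Subgroup.card_dvd_of_le le_sup_right
    rw [Nat.card_zpowers, ha] at h2
    rw [hD] at h1
    have h3 : 64 * 5 ∣ Nat.card ↥(D ⊔ zpowers a) :=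
      Nat.Coprime.mul_dvd_of_dvd_of_dvd (by norm_num) h1 h2
    have h4 : Nat.card ↥(D ⊔ zpowers a) ≤ 320 := by
      rw [← hG]; exact Subgroup.card_le_card_group _
    have h5 : 0 < Nat.card ↥(D ⊔ zpowers a) := Nat.card_pos
    rw [hG]
    obtain ⟨k, hk⟩ := h3
    rw [hk] at h4 h5 ⊢
    have : k = 1 := by omega
    rw [this]
  -- the centraliser of `a` in `D`
  have cz : ∀ d ∈ D, a * d = d * a → d ∈ Z := by
    have h1 := g320_fixed_modEq 5 a a5 D (fun u hu => nD.conj_mem u hu a)
    rw [hD] at h1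
    have hZC : Z ≤ D ⊓ centralizer {a} := by
      intro z hz
      refine mem_inf.2 ⟨zD hz, ?_⟩
      rw [mem_centralizer_iff]
      intro h hh
      rw [Set.mem_singleton_iff] at hh
      rw [hh]; exact za z hz
    have h2 : Nat.card ↥(D ⊓ centralizer {a}) ∣ 64 := by
      rw [← hD]; exact Subgroup.card_dvd_of_le inf_le_left
    have h3 : 4 ∣ Nat.card ↥(D ⊓ centralizer {a}) := by
      rw [← cZ]; exact Subgroup.card_dvd_of_le hZC
    rcases g320_div64 h2 h3 h1.symm with h4 | h4
    · have h5 : Z = D ⊓ centralizer {a} :=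
        Subgroup.eq_of_le_of_card_ge hZC (by rw [h4, cZ])
      intro d hd hcomm
      rw [h5]
      refine mem_inf.2 ⟨hd, ?_⟩
      rw [mem_centralizer_iff]
      intro h hh
      rw [Set.mem_singleton_iff] at hh
      rw [hh]; exact hcomm
    · exfalso
      have h5 : D ⊓ centralizer {a} = D :=
        Subgroup.eq_of_le_of_card_ge inf_le_left (by rw [h4, hD])
      have hac : ∀ d ∈ D, a * d = d * a := by
        intro d hd
        have : d ∈ D ⊓ centralizer {a} := by rw [h5]; exact hd
        exact (mem_centralizer_iff.1 (mem_inf.1 this).2 a rfl)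
      -- `a` is central
      have hcen : a ∈ center G := by
        have h6 : (⊤ : Subgroup G) ≤ centralizer {a} := by
          rw [← hDa]
          apply sup_le
          · intro d hd
            rw [mem_centralizer_iff]
            intro h hh
            rw [Set.mem_singleton_iff] at hh
            rw [hh]; exact hac d hd
          · rw [zpowers_le, mem_centralizer_iff]
            intro h hh
            rw [Set.mem_singleton_iff] at hh
            rw [hh]
        rw [mem_center_iff]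
        intro g
        exact ((mem_centralizer_iff.1 (h6 (mem_top g))) a rfl).symm
      have hpc : ∀ p ∈ zpowers a, p ∈ center G := by
        intro p hp
        exact (zpowers_le.2 hcen) hp
      -- the derived group is contained in the derived group of `D`
      have h7 : D ≤ ⁅D, D⁆ := by
        rw [hDdef]
        show ⁅(⊤ : Subgroup G), ⊤⁆ ≤ _
        rw [Subgroup.commutator_le]
        intro g _ h _
        have hg : g ∈ D ⊔ zpowers a := by rw [hDa]; exact mem_top g
        have hh : h ∈ D ⊔ zpowers a := by rw [hDa]; exact mem_top h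
        obtain ⟨d, hd, p, hp, rfl⟩ := mem_sup_of_normal_left.1 hg
        obtain ⟨e, he, q, hq, rfl⟩ := mem_sup_of_normal_left.1 hh
        have hp' := mem_center_iff.1 (hpc p hp)
        have hq' := mem_center_iff.1 (hpc q hq)
        have h8 : ⁅d * p, e * q⁆ = ⁅d, e⁆ := by
          rw [commutatorElement_def, commutatorElement_def]
          have e1 : p * (e * q) * p⁻¹ = e * q := by
            rw [← hp' (e * q)]; group
          have e2 : q * d⁻¹ * q⁻¹ = d⁻¹ := by
            rw [← hq' d⁻¹]; group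
          calc d * p * (e * q) * (d * p)⁻¹ * (e * q)⁻¹
              = d * (p * (e * q) * p⁻¹) * d⁻¹ * (e * q)⁻¹ := by group
            _ = d * (e * q) * d⁻¹ * (e * q)⁻¹ := by rw [e1]
            _ = d * e * (q * d⁻¹ * q⁻¹) * e⁻¹ := by group
            _ = d * e * d⁻¹ * e⁻¹ := by rw [e2]
        rw [h8]
        exact Subgroup.commutator_mem_commutator hd he
      have hp2 : IsPGroup 2 ↥D := IsPGroup.of_card (n := 6) (by rw [hD]; norm_num)
      haveI : Fact (Nat.Prime 2) := ⟨Nat.prime_two⟩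
      haveI : Group.IsNilpotent ↥D := hp2.isNilpotent
      haveI : Nontrivial ↥D := by
        apply (Finite.one_lt_card_iff_nontrivial).1
        rw [hD]; norm_num
      have h9 := Group.IsSolvable.commutator_lt_top_of_nontrivial ↥D
      have h10 : (⊤ : Subgroup ↥D).map D.subtype ≤ (_root_.commutator ↥D).map D.subtype := by
        rw [Subgroup.map_subtype_commutator, ← MonoidHom.range_eq_map, D.range_subtype]
        exact h7
      have h11 : (⊤ : Subgroup ↥D) ≤ _root_.commutator ↥D :=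
        (Subgroup.map_le_map_iff_of_injective D.subtype_injective).1 h10
      exact absurd (top_le_iff.1 h11) h9.ne
  exact ⟨Z, a, ⟨nD, hD, cZ, zD, zc, zm, z2, a5, za, cz, hDa, le_refl _⟩⟩

end

section
variable {G : Type*} [Group G] [Finite G] {D Z : Subgroup G} {a : G}

theorem G320Set.conj_a_mem_Z (S : G320Set G D Z a) {z : G} (hz : z ∈ Z) : a * z * a⁻¹ = z := by
  rw [S.za z hz]; group

theorem G320Set.conj_pow_Z (S : G320Set G D Z a) (n : ℕ) {z : G} (hz : z ∈ Z) :
    a ^ n * z * (a ^ n)⁻¹ = z := by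
  have h : Commute z a := (S.za z hz).symm
  exact g320_conj_central h n

theorem G320Set.exists_not_mem (S : G320Set G D Z a) : ∃ d ∈ D, d ∉ Z := by
  by_contra h
  push Not at h
  have h1 : D ≤ Z := fun d hd => h d hd
  have h2 := Subgroup.card_le_of_le h1
  rw [S.cD, S.cZ] at h2
  omega

/-- invariant subgroups between `Z` and `D` -/
theorem G320Set.irr (S : G320Set G D Z a) (U : Subgroup G) (h1 : Z ≤ U) (h2 : U ≤ D)
    (h3 : ∀ u ∈ U, a * u * a⁻¹ ∈ U) : U = Z ∨ U = D := by
  haveI : Fact (Nat.Prime 5) := ⟨by norm_num⟩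
  have h4 := g320_fixed_modEq 5 a S.a5 U h3
  have h5 : U ⊓ centralizer {a} = Z := by
    apply le_antisymm
    · intro u hu
      refine S.cz u (h2 (mem_inf.1 hu).1) ?_
      exact (mem_centralizer_iff.1 (mem_inf.1 hu).2 a rfl)
    · intro z hz
      refine mem_inf.2 ⟨h1 hz, ?_⟩
      rw [mem_centralizer_iff]
      intro h hh
      rw [Set.mem_singleton_iff] at hh
      rw [hh]; exact S.za z hz
  rw [h5, S.cZ] at h4
  have h6 : Nat.card U ∣ 64 := by rw [← S.cD]; exact Subgroup.card_dvd_of_le h2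
  have h7 : 4 ∣ Nat.card U := by rw [← S.cZ]; exact Subgroup.card_dvd_of_le h1
  rcases g320_div64 h6 h7 h4 with h8 | h8
  · left
    exact (Subgroup.eq_of_le_of_card_ge h1 (by rw [h8, S.cZ])).symm
  · right
    exact Subgroup.eq_of_le_of_card_ge h2 (by rw [h8, S.cD])

/-- commutators of elements of `D` lie in `Z` -/
theorem G320Set.comm_mem (S : G320Set G D Z a) {d e : G} (hd : d ∈ D) (he : e ∈ D) :
    d * e * d⁻¹ * e⁻¹ ∈ Z := by
  classical
  -- the second centre
  let U : Subgroup G :=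
    { carrier := {d | d ∈ D ∧ ∀ e ∈ D, d * e * d⁻¹ * e⁻¹ ∈ Z}
      one_mem' := ⟨D.one_mem, fun e _ => by simpa using Z.one_mem⟩
      mul_mem' := by
        rintro d1 d2 ⟨h1, k1⟩ ⟨h2, k2⟩
        refine ⟨D.mul_mem h1 h2, fun e he => ?_⟩
        have e1 : d1 * d2 * e * (d1 * d2)⁻¹ * e⁻¹
            = d1 * (d2 * e * d2⁻¹ * e⁻¹) * d1⁻¹ * (d1 * e * d1⁻¹ * e⁻¹) := by group
        have e2 : d1 * (d2 * e * d2⁻¹ * e⁻¹) * d1⁻¹ = d2 * e * d2⁻¹ * e⁻¹ := by
          rw [S.zc _ (k2 e he) d1 h1]; group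
        rw [e1, e2]
        exact Z.mul_mem (k2 e he) (k1 e he)
      inv_mem' := by
        rintro d ⟨h1, k1⟩
        refine ⟨D.inv_mem h1, fun e he => ?_⟩
        have e1 : d⁻¹ * e * d⁻¹⁻¹ * e⁻¹ = d⁻¹ * (d * e * d⁻¹ * e⁻¹)⁻¹ * d := by group
        have e2 : d⁻¹ * (d * e * d⁻¹ * e⁻¹)⁻¹ * d = (d * e * d⁻¹ * e⁻¹)⁻¹ := by
          have := S.zc _ (Z.inv_mem (k1 e he)) d⁻¹ (D.inv_mem h1)
          rw [this]; group
        rw [e1, e2]
        exact Z.inv_mem (k1 e he) }
  have hU : U = Z ∨ U = D := by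
    apply S.irr U
    · intro z hz
      refine ⟨S.zD hz, fun e he => ?_⟩
      rw [← S.zc z hz e he]
      simpa using Z.one_mem
    · intro u hu; exact hu.1
    · rintro u ⟨h1, k1⟩
      haveI := S.nD
      refine ⟨S.nD.conj_mem u h1 a, fun e he => ?_⟩
      have he' : a⁻¹ * e * a ∈ D := by
        have := S.nD.conj_mem e he a⁻¹; rwa [inv_inv] at this
      have e1 : a * u * a⁻¹ * e * (a * u * a⁻¹)⁻¹ * e⁻¹
          = a * (u * (a⁻¹ * e * a) * u⁻¹ * (a⁻¹ * e * a)⁻¹) * a⁻¹ := by group
      rw [e1, S.conj_a_mem_Z (k1 _ he')]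
      exact k1 _ he'
  have hne : U ≠ Z := by
    -- a non-central element of the second centre
    obtain ⟨d0, hd0, hd0Z⟩ := S.exists_not_mem
    have hcen : ∀ g : ↥D, g ∈ center ↥D ↔ g.1 ∈ Z := by
      intro g
      constructor
      · intro hg
        refine S.zm g.1 g.2 (fun e he => ?_)
        have := mem_center_iff.1 hg ⟨e, he⟩
        exact congrArg Subtype.val this
      · intro hg
        rw [mem_center_iff]
        intro e
        exact Subtype.ext (S.zc g.1 hg e.1 e.2)
    haveI : Fact (Nat.Prime 2) := ⟨Nat.prime_two⟩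
    have hp2 : IsPGroup 2 ↥D := IsPGroup.of_card (n := 6) (by rw [S.cD]; norm_num)
    have hpq : IsPGroup 2 (↥D ⧸ center ↥D) := hp2.to_quotient _
    haveI : Nontrivial (↥D ⧸ center ↥D) := by
      refine nontrivial_of_ne ((⟨d0, hd0⟩ : ↥D) : ↥D ⧸ center ↥D) 1 ?_
      rw [Ne, QuotientGroup.eq_one_iff, hcen]
      exact hd0Z
    haveI := hpq.center_nontrivial
    obtain ⟨q, hq, hq1⟩ := (Subgroup.nontrivial_iff_exists_ne_one _).1
      (inferInstance : Nontrivial (center (↥D ⧸ center ↥D)))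
    obtain ⟨d, rfl⟩ := QuotientGroup.mk_surjective q
    have hdZ : d.1 ∉ Z := by
      rw [← hcen]
      intro h
      exact hq1 ((QuotientGroup.eq_one_iff d).2 h)
    have hdU : d.1 ∈ U := by
      refine ⟨d.2, fun e he => ?_⟩
      have h1 : ((d * ⟨e, he⟩ * d⁻¹ * (⟨e, he⟩ : ↥D)⁻¹ : ↥D) : ↥D ⧸ center ↥D) = 1 := by
        have h2 := mem_center_iff.1 hq (((⟨e, he⟩ : ↥D)) : ↥D ⧸ center ↥D)
        rw [QuotientGroup.mk_mul, QuotientGroup.mk_mul, QuotientGroup.mk_mul,
          QuotientGroup.mk_inv, QuotientGroup.mk_inv, ← h2]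
        group
      have h3 := (QuotientGroup.eq_one_iff _).1 h1
      rw [hcen] at h3
      exact h3
    intro h
    rw [h] at hdU
    exact hdZ hdU
  rcases hU with h | h
  · exact absurd h hne
  · have : d ∈ U := by rw [h]; exact hd
    exact this.2 e he

/-- squares of elements of `D` lie in `Z` -/
theorem G320Set.sq_mem (S : G320Set G D Z a) {d : G} (hd : d ∈ D) : d ^ 2 ∈ Z := by
  classical
  let U : Subgroup G :=
    { carrier := {d | d ∈ D ∧ d ^ 2 ∈ Z}
      one_mem' := ⟨D.one_mem, by simpa using Z.one_mem⟩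
      mul_mem' := by
        rintro d1 d2 ⟨h1, k1⟩ ⟨h2, k2⟩
        refine ⟨D.mul_mem h1 h2, ?_⟩
        have e1 : (d1 * d2) ^ 2 = d1 ^ 2 * (d1⁻¹ * d2 * d1⁻¹⁻¹ * d2⁻¹) * d2 ^ 2 := by
          rw [pow_two, pow_two, pow_two]; group
        rw [e1]
        exact Z.mul_mem (Z.mul_mem k1 (S.comm_mem (D.inv_mem h1) h2)) k2
      inv_mem' := by
        rintro d ⟨h1, k1⟩
        refine ⟨D.inv_mem h1, ?_⟩
        rw [inv_pow]
        exact Z.inv_mem k1 }
  have hU : U = Z ∨ U = D := by
    apply S.irr U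
    · intro z hz
      refine ⟨S.zD hz, ?_⟩
      rw [S.z2 z hz]; exact Z.one_mem
    · intro u hu; exact hu.1
    · rintro u ⟨h1, k1⟩
      refine ⟨S.nD.conj_mem u h1 a, ?_⟩
      have e1 : (a * u * a⁻¹) ^ 2 = a * u ^ 2 * a⁻¹ := by
        rw [pow_two, pow_two]; group
      rw [e1, S.conj_a_mem_Z k1]
      exact k1
  have hne : U ≠ Z := by
    obtain ⟨d0, hd0, hd0Z⟩ := S.exists_not_mem
    -- the least power of two with `d0 ^ 2 ^ j ∈ Z`
    have hex : ∃ j : ℕ, d0 ^ 2 ^ j ∈ Z := by
      refine ⟨6, ?_⟩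
      have h1 : (⟨d0, hd0⟩ : ↥D) ^ Nat.card ↥D = 1 := pow_card_eq_one'
      rw [S.cD] at h1
      have h2 : d0 ^ 64 = 1 := congrArg Subtype.val h1
      have h3 : (2 : ℕ) ^ 6 = 64 := by norm_num
      rw [h3, h2]
      exact Z.one_mem
    have hj := Nat.find_spec hex
    have hj0 : Nat.find hex ≠ 0 := by
      intro h0
      rw [h0, pow_zero, pow_one] at hj
      exact hd0Z hj
    obtain ⟨j, hjs⟩ := Nat.exists_eq_succ_of_ne_zero hj0
    have hmin : d0 ^ 2 ^ j ∉ Z := Nat.find_min hex (by rw [hjs]; exact Nat.lt_succ_self j)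
    have hU' : d0 ^ 2 ^ j ∈ U := by
      refine ⟨D.pow_mem hd0 _, ?_⟩
      rw [← pow_mul, ← pow_succ, ← Nat.succ_eq_add_one, ← hjs]
      exact hj
    intro h
    rw [h] at hU'
    exact hmin hU'
  rcases hU with h | h
  · exact absurd h hne
  · have : d ∈ U := by rw [h]; exact hd
    exact this.2

end

section
variable {G : Type*} [Group G]

/-- the product of the five conjugates -/
def g320W (a x : G) : G := x * g320X a x 1 * g320X a x 2 * g320X a x 3 * g320X a x 4

theorem g320_five_mul {w y1 y2 y3 y4 y5 : G} (h1 : Commute w y1) (h2 : Commute w y2)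
    (h3 : Commute w y3) (h4 : Commute w y4) (h5 : Commute w y5) :
    (y1 * w) * (y2 * w) * (y3 * w) * (y4 * w) * (y5 * w)
      = y1 * y2 * y3 * y4 * y5 * (w * w * w * w * w) := by
  simp only [mul_assoc, h1.left_comm, h2.left_comm, h3.left_comm, h4.left_comm, h5.left_comm,
    h1.eq, h2.eq, h3.eq, h4.eq, h5.eq]

end

section
variable {G : Type*} [Group G] [Finite G] {D Z : Subgroup G} {a : G}

theorem G320Set.X_mem (S : G320Set G D Z a) {x : G} (hx : x ∈ D) (i : ℕ) :
    g320X a x i ∈ D := S.nD.conj_mem x hx (a ^ i)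

/-- an element of `D` moved by `a` inside its coset of `Z` lies in `Z` -/
theorem G320Set.fix (S : G320Set G D Z a) {d z : G} (hd : d ∈ D) (hz : z ∈ Z)
    (h : a * d * a⁻¹ = d * z) : d ∈ Z := by
  have hpow : ∀ n : ℕ, a ^ n * d * (a ^ n)⁻¹ = d * z ^ n := by
    intro n
    induction n with
    | zero => simp
    | succ n ih =>
      have e1 : a ^ (n + 1) * d * (a ^ (n + 1))⁻¹ = a * (a ^ n * d * (a ^ n)⁻¹) * a⁻¹ := by
        rw [pow_succ']; group
      rw [e1, ih]
      have e2 : a * (d * z ^ n) * a⁻¹ = (a * d * a⁻¹) * (a * z ^ n * a⁻¹) := by group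
      rw [e2, h, S.conj_a_mem_Z (Z.pow_mem hz n), pow_succ', mul_assoc]
  have h5 := hpow 5
  rw [S.a5] at h5
  have h6 : z ^ 5 = 1 := by
    have : d = d * z ^ 5 := by simpa using h5
    exact (mul_eq_left.1 this.symm)
  have h7 : z = 1 := by
    have h8 := S.z2 z hz
    calc z = z ^ 5 * ((z ^ 2) ^ 2)⁻¹ := by group
      _ = 1 := by rw [h6, h8]; simp
  rw [h7, mul_one] at h
  refine S.cz d hd ?_
  calc a * d = (a * d * a⁻¹) * a := by group
    _ = d * a := by rw [h]

/-- the product of the five conjugates lies in `Z` -/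
theorem G320Set.W_mem (S : G320Set G D Z a) {x : G} (hx : x ∈ D) : g320W a x ∈ Z := by
  have hwD : g320W a x ∈ D :=
    D.mul_mem (D.mul_mem (D.mul_mem (D.mul_mem hx (S.X_mem hx 1)) (S.X_mem hx 2))
      (S.X_mem hx 3)) (S.X_mem hx 4)
  have hz : (g320W a x)⁻¹ * x⁻¹ * (g320W a x)⁻¹⁻¹ * x⁻¹⁻¹ ∈ Z :=
    S.comm_mem (D.inv_mem hwD) (D.inv_mem hx)
  refine S.fix hwD hz ?_
  have e1 : a * g320W a x * a⁻¹ = (a * x * a⁻¹) * (a * g320X a x 1 * a⁻¹)
      * (a * g320X a x 2 * a⁻¹) * (a * g320X a x 3 * a⁻¹) * (a * g320X a x 4 * a⁻¹) := by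
    unfold g320W; group
  have e0 : a * x * a⁻¹ = g320X a x 1 := by
    have := g320X_succ a x 0; rwa [g320X_zero] at this
  have e5 : g320X a x (4 + 1) = x := by
    have := g320X_five (x := x) S.a5 0
    rwa [g320X_zero] at this
  rw [e1, e0, g320X_succ, g320X_succ, g320X_succ, g320X_succ, e5]
  unfold g320W
  group

/-- an element outside `Z` whose five conjugates have product one -/
theorem G320Set.exists_x (S : G320Set G D Z a) : ∃ x ∈ D, x ∉ Z ∧ g320W a x = 1 := by
  obtain ⟨x, hx, hxZ⟩ := S.exists_not_mem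
  set w := g320W a x with hw
  have hwZ : w ∈ Z := S.W_mem hx
  have hww : w * w = 1 := by
    have := S.z2 w hwZ; rwa [pow_two] at this
  have hX : ∀ i, g320X a (x * w) i = g320X a x i * w := by
    intro i
    have e1 : g320X a (x * w) i = g320X a x i * (a ^ i * w * (a ^ i)⁻¹) := by
      unfold g320X; group
    rw [e1, S.conj_pow_Z i hwZ]
  have cw : ∀ g ∈ D, Commute w g := fun g hg => (S.zc w hwZ g hg).symm
  refine ⟨x * w, D.mul_mem hx (S.zD hwZ), ?_, ?_⟩
  · intro h
    apply hxZ
    have := Z.mul_mem h (Z.inv_mem hwZ)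
    rwa [mul_inv_cancel_right] at this
  · unfold g320W
    rw [hX, hX, hX, hX,
      g320_five_mul (cw x hx) (cw _ (S.X_mem hx 1)) (cw _ (S.X_mem hx 2)) (cw _ (S.X_mem hx 3))
        (cw _ (S.X_mem hx 4))]
    show w * (w * w * w * w * w) = 1
    rw [hww, one_mul, hww, one_mul, hww]

end

section
variable {G : Type*} [Group G] [Finite G] {D Z : Subgroup G} {a : G}

/-- the relations and the generation -/
theorem G320Set.rel (S : G320Set G D Z a) {x : G} (hx : x ∈ D) (hxZ : x ∉ Z)
    (hw : g320W a x = 1) : G320Rel a x ∧ closure ({a, x} : Set G) = ⊤ := by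
  classical
  have hXD : ∀ i, g320X a x i ∈ D := S.X_mem hx
  let B : Set G := {x, g320X a x 1, g320X a x 2, g320X a x 3, g320X a x 4}
  have hBD : ∀ b ∈ B, b ∈ D := by
    intro b hb
    simp only [B, Set.mem_insert_iff, Set.mem_singleton_iff] at hb
    rcases hb with rfl | rfl | rfl | rfl | rfl
    · exact hx
    · exact hXD 1
    · exact hXD 2
    · exact hXD 3
    · exact hXD 4
  have e0 : a * x * a⁻¹ = g320X a x 1 := by
    have := g320X_succ a x 0; rwa [g320X_zero] at this
  have e5 : a * g320X a x 4 * a⁻¹ = x := by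
    rw [g320X_succ]
    have := g320X_five (x := x) S.a5 0
    rwa [g320X_zero] at this
  have hBa : ∀ b ∈ B, a * b * a⁻¹ ∈ B := by
    intro b hb
    simp only [B, Set.mem_insert_iff, Set.mem_singleton_iff] at hb ⊢
    rcases hb with rfl | rfl | rfl | rfl | rfl
    · rw [e0]; exact Or.inr (Or.inl rfl)
    · rw [g320X_succ]; exact Or.inr (Or.inr (Or.inl rfl))
    · rw [g320X_succ]; exact Or.inr (Or.inr (Or.inr (Or.inl rfl)))
    · rw [g320X_succ]; exact Or.inr (Or.inr (Or.inr (Or.inr rfl)))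
    · rw [e5]; exact Or.inl rfl
  have hxB : x ∈ B := by simp [B]
  -- the subgroup generated by the conjugates and `Z` is `D`
  have hU : closure (B ∪ (Z : Set G)) = D := by
    have hZU : Z ≤ closure (B ∪ (Z : Set G)) := fun z hz => subset_closure (Or.inr hz)
    have hUD : closure (B ∪ (Z : Set G)) ≤ D := by
      rw [closure_le]
      rintro g (hg | hg)
      · exact hBD g hg
      · exact S.zD hg
    have hUa : ∀ u ∈ closure (B ∪ (Z : Set G)), a * u * a⁻¹ ∈ closure (B ∪ (Z : Set G)) := by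
      apply g320_conj_closure
      rintro b (hb | hb)
      · exact subset_closure (Or.inl (hBa b hb))
      · rw [S.conj_a_mem_Z hb]; exact subset_closure (Or.inr hb)
    rcases S.irr _ hZU hUD hUa with h | h
    · exfalso
      apply hxZ
      rw [← h]
      exact subset_closure (Or.inl hxB)
    · exact h
  -- the subgroup generated by the conjugates is normal
  set K : Subgroup G := closure B with hK
  have hKD : K ≤ D := by rw [hK, closure_le]; exact hBD
  have haK : ∀ k ∈ K, a * k * a⁻¹ ∈ K :=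
    g320_conj_closure a (fun b hb => subset_closure (hBa b hb))
  have hnK : K.Normal := by
    rw [← normalizer_eq_top_iff, eq_top_iff, ← S.top]
    apply sup_le
    · rw [← hU, closure_le]
      rintro g (hg | hg)
      · exact le_normalizer (subset_closure hg)
      · apply mem_normalizer_fintype
        intro k hk
        have : g * k * g⁻¹ = k := by
          rw [← S.zc g hg k (hKD hk)]; group
        rw [this]; exact hk
    · rw [zpowers_le]
      apply mem_normalizer_fintype
      exact haK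
  -- the commutative complement
  have hH : IsMulCommutative (closure ((Z : Set G) ∪ {a})) := by
    apply isMulCommutative_closure
    rintro u (hu | hu) v (hv | hv)
    · exact S.zc v hv u (S.zD hu)
    · rw [Set.mem_singleton_iff] at hv
      rw [hv]; exact (S.za u hu).symm
    · rw [Set.mem_singleton_iff] at hu
      rw [hu]; exact S.za v hv
    · rw [Set.mem_singleton_iff] at hu hv
      rw [hu, hv]
  have hsup : K ⊔ closure ((Z : Set G) ∪ {a}) = ⊤ := by
    rw [eq_top_iff, ← S.top]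
    apply sup_le
    · rw [← hU, closure_le]
      rintro g (hg | hg)
      · exact le_sup_left (α := Subgroup G) (subset_closure hg)
      · exact le_sup_right (α := Subgroup G) (subset_closure (Or.inl hg))
    · rw [zpowers_le]
      exact le_sup_right (α := Subgroup G) (subset_closure (Or.inr rfl))
  have hcomm : _root_.commutator G ≤ K :=
    hnK.commutator_le_of_self_sup_commutative_eq_top hsup hH
  have hDK : D ≤ K := S.comm.trans hcomm
  -- generation
  have hgen : closure ({a, x} : Set G) = ⊤ := by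
    have ha : a ∈ closure ({a, x} : Set G) := subset_closure (by simp)
    have hx' : x ∈ closure ({a, x} : Set G) := subset_closure (by simp)
    have hXc : ∀ i, g320X a x i ∈ closure ({a, x} : Set G) := fun i =>
      mul_mem (mul_mem (pow_mem ha i) hx') (inv_mem (pow_mem ha i))
    rw [eq_top_iff, ← S.top]
    apply sup_le
    · refine hDK.trans ?_
      rw [hK, closure_le]
      intro b hb
      simp only [B, Set.mem_insert_iff, Set.mem_singleton_iff] at hb
      rcases hb with rfl | rfl | rfl | rfl | rfl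
      · exact hx'
      · exact hXc 1
      · exact hXc 2
      · exact hXc 3
      · exact hXc 4
    · rw [zpowers_le]; exact ha
  refine ⟨?_, hgen⟩
  -- the relations
  have hc1 : g320C1 a x ∈ Z := S.comm_mem hx (hXD 1)
  have hc2 : g320C2 a x ∈ Z := S.comm_mem hx (hXD 2)
  have hs : x ^ 2 ∈ Z := S.sq_mem hx
  have c1a : Commute (g320C1 a x) a := (S.za _ hc1).symm
  have c2a : Commute (g320C2 a x) a := (S.za _ hc2).symm
  have cZ : ∀ z ∈ Z, ∀ d ∈ D, Commute d z := fun z hz d hd => S.zc z hz d hd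
  have sqX : ∀ i, g320X a x i * g320X a x i = x ^ 2 := by
    intro i
    have h1 : g320X a x i * g320X a x i = a ^ i * x ^ 2 * (a ^ i)⁻¹ := by
      unfold g320X; rw [pow_two]; group
    rw [h1, S.conj_pow_Z i hs]
  have inv1 : (g320C1 a x)⁻¹ = g320C1 a x := by
    apply inv_eq_of_mul_eq_one_left
    rw [← pow_two]; exact S.z2 _ hc1
  have inv2 : (g320C2 a x)⁻¹ = g320C2 a x := by
    apply inv_eq_of_mul_eq_one_left
    rw [← pow_two]; exact S.z2 _ hc2
  -- the commutator relations
  have mv : ∀ {u v c : G}, u * v = c * v * u → c⁻¹ = c → v * u = c * (u * v) := by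
    intro u v c h hc
    calc v * u = c⁻¹ * (c * v * u) := by group
      _ = c * (u * v) := by rw [← h, hc]
  have r01 : x * g320X a x 1 = g320C1 a x * g320X a x 1 * x := by
    have := g320_comm1 c1a 0; rwa [g320X_zero] at this
  have r12 := g320_comm1 c1a 1
  have r23 := g320_comm1 c1a 2
  have r02 : x * g320X a x 2 = g320C2 a x * g320X a x 2 * x := by
    have := g320_comm2 c2a 0; rwa [g320X_zero] at this
  have r13 := g320_comm2 c2a 1
  have r30 : g320X a x 3 * x = g320C2 a x * x * g320X a x 3 := by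
    have := g320_comm2 c2a 3
    rwa [show 3 + 2 = 0 + 5 from rfl, g320X_five S.a5, g320X_zero] at this
  have m30 : g320X a x 3 * x = g320C2 a x * (x * g320X a x 3) := by rw [r30, mul_assoc]
  have hP : (x * g320X a x 1 * g320X a x 2 * g320X a x 3)
      * (x * g320X a x 1 * g320X a x 2 * g320X a x 3) = g320C1 a x * g320C2 a x := by
    refine g320_sq_four (cZ _ hc1 _ hx) (cZ _ hc1 _ (hXD 1)) (cZ _ hc1 _ (hXD 2))
      (cZ _ hc1 _ (hXD 3)) (cZ _ hc2 _ hx) (cZ _ hc2 _ (hXD 1)) (cZ _ hc2 _ (hXD 2))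
      (cZ _ hc2 _ (hXD 3)) (cZ _ hs _ hx) (cZ _ hs _ (hXD 1)) (cZ _ hs _ (hXD 2))
      (cZ _ hs _ (hXD 3)) (mv r01 inv1) (mv r02 inv2) m30 (mv r12 inv1) (mv r13 inv2)
      (mv r23 inv1) ?_ (sqX 1) (sqX 2) (sqX 3) ?_ ?_ ?_ (cZ _ hc1 _ (S.zD hc2))
      (cZ _ hc1 _ (S.zD hs)) (cZ _ hc2 _ (S.zD hs))
    · rw [pow_two]
    · rw [← pow_two]; exact S.z2 _ hc1
    · rw [← pow_two]; exact S.z2 _ hc2
    · rw [← pow_two]; exact S.z2 _ hs
  have h4 : g320X a x 4 = (x * g320X a x 1 * g320X a x 2 * g320X a x 3)⁻¹ :=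
    eq_inv_of_mul_eq_one_right hw
  have hxsq : x ^ 2 = g320C1 a x * g320C2 a x := by
    have h5 := sqX 4
    rw [h4, ← mul_inv_rev, hP] at h5
    have h6 : (x ^ 2)⁻¹ = x ^ 2 := by
      apply inv_eq_of_mul_eq_one_left
      rw [← pow_two]; exact S.z2 _ hs
    rw [← h6, ← h5, inv_inv]
  exact
    { a5 := S.a5
      c1a := c1a
      c1x := (S.zc _ hc1 x hx).symm
      c2a := c2a
      c2x := (S.zc _ hc2 x hx).symm
      c1sq := S.z2 _ hc1
      c2sq := S.z2 _ hc2
      xsq := hxsq
      prod := hw }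

/-- the structure theorem -/
theorem g320_struct (hG : Nat.card G = 320) (hD : Nat.card (_root_.commutator G) = 64)
    (hZ : IsKleinFour (Subgroup.center (_root_.commutator G))) :
    ∃ a x : G, G320Rel a x ∧ closure ({a, x} : Set G) = ⊤ := by
  obtain ⟨Z, a, S⟩ := g320_setting hG hD hZ
  obtain ⟨x, hx, hxZ, hw⟩ := S.exists_x
  exact ⟨a, x, S.rel hx hxZ hw⟩

end

end Cfsg.Agent.Lib.helper23
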