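import Cfsg.Agent.Lib.helper23.G320A
import Cfsg.Prelude.Def_Classical

set_option autoImplicit false

/-!
# The centraliser of an involution of `SU(3, 4)`: explicit matrices

The field with 16 elements is `K16 = K4[y]`, `y ^ 2 = w + y`, over `K4 = (ZMod 2)[w]`,
`w ^ 2 = 1 + w`.
-/

namespace Cfsg.Agent.Lib.helper23

open Matrix

/-- the field with four elements -/
abbrev K4 := QuadraticAlgebra (ZMod 2) 1 1

instance K4.fact : Fact (∀ r : ZMod 2, r ^ 2 ≠ (1 : ZMod 2) + 1 * r) := ⟨by decide⟩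

instance K4.instFintype : Fintype K4 :=
  Fintype.ofEquiv _ (QuadraticAlgebra.equivProd (1 : ZMod 2) 1).symm

/-- the generator of the field with four elements -/
def k4w : K4 := ⟨0, 1⟩

/-- the field with sixteen elements -/
abbrev K16 := QuadraticAlgebra K4 k4w 1

instance K16.fact : Fact (∀ r : K4, r ^ 2 ≠ k4w + 1 * r) := ⟨by decide⟩

instance K16.instFintype : Fintype K16 :=
  Fintype.ofEquiv _ (QuadraticAlgebra.equivProd k4w (1 : K4)).symm

theorem K16.card : Fintype.card K16 = 16 := by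
  rw [Fintype.card_congr (QuadraticAlgebra.equivProd k4w (1 : K4)), Fintype.card_prod,
    Fintype.card_congr (QuadraticAlgebra.equivProd (1 : ZMod 2) 1), Fintype.card_prod, ZMod.card]

/-- the element with the given number -/
def k16 (n : ℕ) : K16 :=
  ⟨⟨((n % 2 : ℕ) : ZMod 2), ((n / 2 % 2 : ℕ) : ZMod 2)⟩,
    ⟨((n / 4 % 2 : ℕ) : ZMod 2), ((n / 8 % 2 : ℕ) : ZMod 2)⟩⟩

theorem k16_frob (x y : K16) : (x + y) ^ 4 = x ^ 4 + y ^ 4 := by
  revert x y; decide

/-! ### the matrices -/

/-- the element of order 5 -/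
def g320mA : Matrix (Fin 3) (Fin 3) K16 := !![k16 8, 0, 0; 0, k16 8, 0; 0, 0, k16 14]
/-- the element of order 4 and its conjugates -/
def g320mX0 : Matrix (Fin 3) (Fin 3) K16 := !![k16 5, k16 4, 1; k16 4, k16 5, 1; 1, 1, 1]
def g320mX1 : Matrix (Fin 3) (Fin 3) K16 :=
  !![k16 5, k16 4, k16 14; k16 4, k16 5, k16 14; k16 13, k16 13, 1]
def g320mX2 : Matrix (Fin 3) (Fin 3) K16 :=
  !![k16 5, k16 4, k16 8; k16 4, k16 5, k16 8; k16 10, k16 10, 1]
def g320mX3 : Matrix (Fin 3) (Fin 3) K16 :=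
  !![k16 5, k16 4, k16 10; k16 4, k16 5, k16 10; k16 8, k16 8, 1]
def g320mX4 : Matrix (Fin 3) (Fin 3) K16 :=
  !![k16 5, k16 4, k16 13; k16 4, k16 5, k16 13; k16 14, k16 14, 1]
/-- the commutators -/
def g320mC1 : Matrix (Fin 3) (Fin 3) K16 := !![k16 2, k16 3, 0; k16 3, k16 2, 0; 0, 0, 1]
def g320mC2 : Matrix (Fin 3) (Fin 3) K16 := !![k16 3, k16 2, 0; k16 2, k16 3, 0; 0, 0, 1]
/-- the involution -/
def g320mT : Matrix (Fin 3) (Fin 3) K16 := !![0, 1, 0; 1, 0, 0; 0, 0, 1]
/-- an element of the stabiliser of the isotropic point outside the centraliser -/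
def g320mG : Matrix (Fin 3) (Fin 3) K16 :=
  !![0, k16 4, k16 2; k16 12, k16 8, k16 2; k16 5, k16 5, k16 14]

theorem g320_det (M : Matrix (Fin 3) (Fin 3) K16)
    (h : M 0 0 * M 1 1 * M 2 2 - M 0 0 * M 1 2 * M 2 1 - M 0 1 * M 1 0 * M 2 2
      + M 0 1 * M 1 2 * M 2 0 + M 0 2 * M 1 0 * M 2 1 - M 0 2 * M 1 1 * M 2 0 = 1) :
    M.det = 1 := by
  rw [Matrix.det_fin_three]; exact h

/-- the elements of the special linear group -/
def g320sA : Matrix.SpecialLinearGroup (Fin 3) K16 := ⟨g320mA, g320_det _ (by decide)⟩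
def g320sX0 : Matrix.SpecialLinearGroup (Fin 3) K16 := ⟨g320mX0, g320_det _ (by decide)⟩
def g320sX1 : Matrix.SpecialLinearGroup (Fin 3) K16 := ⟨g320mX1, g320_det _ (by decide)⟩
def g320sX2 : Matrix.SpecialLinearGroup (Fin 3) K16 := ⟨g320mX2, g320_det _ (by decide)⟩
def g320sX3 : Matrix.SpecialLinearGroup (Fin 3) K16 := ⟨g320mX3, g320_det _ (by decide)⟩
def g320sX4 : Matrix.SpecialLinearGroup (Fin 3) K16 := ⟨g320mX4, g320_det _ (by decide)⟩
def g320sC1 : Matrix.SpecialLinearGroup (Fin 3) K16 := ⟨g320mC1, g320_det _ (by decide)⟩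
def g320sC2 : Matrix.SpecialLinearGroup (Fin 3) K16 := ⟨g320mC2, g320_det _ (by decide)⟩
def g320sT : Matrix.SpecialLinearGroup (Fin 3) K16 := ⟨g320mT, g320_det _ (by decide)⟩
def g320sG : Matrix.SpecialLinearGroup (Fin 3) K16 := ⟨g320mG, g320_det _ (by decide)⟩

theorem g320_sl_ext {A B : Matrix.SpecialLinearGroup (Fin 3) K16} (h : A.1 = B.1) : A = B :=
  Subtype.ext h

theorem g320_h1 : g320sA * g320sX0 = g320sX1 * g320sA := by
  apply g320_sl_ext; show g320mA * g320mX0 = g320mX1 * g320mA; decide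
theorem g320_h2 : g320sA * g320sX1 = g320sX2 * g320sA := by
  apply g320_sl_ext; show g320mA * g320mX1 = g320mX2 * g320mA; decide
theorem g320_h3 : g320sA * g320sX2 = g320sX3 * g320sA := by
  apply g320_sl_ext; show g320mA * g320mX2 = g320mX3 * g320mA; decide
theorem g320_h4 : g320sA * g320sX3 = g320sX4 * g320sA := by
  apply g320_sl_ext; show g320mA * g320mX3 = g320mX4 * g320mA; decide
theorem g320_k1 : g320sX0 * g320sX1 = g320sC1 * g320sX1 * g320sX0 := by
  apply g320_sl_ext; show g320mX0 * g320mX1 = g320mC1 * g320mX1 * g320mX0; decide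
theorem g320_k2 : g320sX0 * g320sX2 = g320sC2 * g320sX2 * g320sX0 := by
  apply g320_sl_ext; show g320mX0 * g320mX2 = g320mC2 * g320mX2 * g320mX0; decide
theorem g320_a5 : g320sA ^ 5 = 1 := by
  apply g320_sl_ext; show g320mA ^ 5 = 1; decide

/-- the relations in the special linear group -/
theorem g320_rel_sl : G320Rel g320sA g320sX0 := by
  refine g320Rel_of_witness (x1 := g320sX1) (x2 := g320sX2) (x3 := g320sX3) (x4 := g320sX4)
    (c1 := g320sC1) (c2 := g320sC2) g320_a5 g320_h1 g320_h2 g320_h3 g320_h4 g320_k1 g320_k2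
    ?_ ?_ ?_ ?_ ?_ ?_ ?_ ?_
  all_goals apply g320_sl_ext
  · show g320mC1 * g320mA = g320mA * g320mC1; decide
  · show g320mC1 * g320mX0 = g320mX0 * g320mC1; decide
  · show g320mC2 * g320mA = g320mA * g320mC2; decide
  · show g320mC2 * g320mX0 = g320mX0 * g320mC2; decide
  · show g320mC1 * g320mC1 = 1; decide
  · show g320mC2 * g320mC2 = 1; decide
  · show g320mX0 * g320mX0 = g320mC1 * g320mC2; decide
  · show g320mX0 * g320mX1 * g320mX2 * g320mX3 * g320mX4 = 1; decide

/-! ### membership in the special unitary group -/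

/-- a matrix with the Gram identity preserves the Hermitian form -/
theorem g320_herm_of_gram {n q : ℕ} {F : Type*} [Field F] (hq0 : q ≠ 0)
    (hq : ∀ x y : F, (x + y) ^ q = x ^ q + y ^ q) (A : Matrix (Fin n) (Fin n) F)
    (hA : ∀ i j, ∑ k, A k i * (A k j) ^ q = if i = j then 1 else 0) (u v : Fin n → F) :
    Cfsg.hermForm n F q (A *ᵥ u) (A *ᵥ v) = Cfsg.hermForm n F q u v := by
  let φ : F →+ F :=
    { toFun := fun x => x ^ q
      map_zero' := zero_pow hq0
      map_add' := hq }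
  have hφ : ∀ (s : Finset (Fin n)) (f : Fin n → F), (∑ j ∈ s, f j) ^ q = ∑ j ∈ s, (f j) ^ q :=
    fun s f => map_sum φ f s
  unfold Cfsg.hermForm
  calc ∑ k, (A *ᵥ u) k * ((A *ᵥ v) k) ^ q
      = ∑ k, ∑ i, ∑ j, (A k i * (A k j) ^ q) * (u i * (v j) ^ q) := by
        apply Finset.sum_congr rfl
        intro k _
        show (∑ i, A k i * u i) * (∑ j, A k j * v j) ^ q = _
        rw [hφ, Finset.sum_mul_sum]
        apply Finset.sum_congr rfl
        intro i _
        apply Finset.sum_congr rfl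
        intro j _
        rw [mul_pow]; ring
    _ = ∑ i, ∑ j, (∑ k, A k i * (A k j) ^ q) * (u i * (v j) ^ q) := by
        rw [Finset.sum_comm]
        apply Finset.sum_congr rfl
        intro i _
        rw [Finset.sum_comm]
        apply Finset.sum_congr rfl
        intro j _
        rw [Finset.sum_mul]
    _ = ∑ i, ∑ j, (if i = j then 1 else 0) * (u i * (v j) ^ q) := by
        simp only [hA]
    _ = ∑ i, u i * (v i) ^ q := by
        apply Finset.sum_congr rfl
        intro i _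
        simp [ite_mul]

theorem g320_mem_su (A : Matrix.SpecialLinearGroup (Fin 3) K16)
    (hA : ∀ i j, ∑ k, A.1 k i * (A.1 k j) ^ 4 = if i = j then 1 else 0) :
    A ∈ Cfsg.SU 3 K16 4 := by
  intro u v
  exact g320_herm_of_gram (by norm_num) k16_frob A.1 hA u v

theorem g320sA_mem : g320sA ∈ Cfsg.SU 3 K16 4 := g320_mem_su _ (by decide)
theorem g320sX0_mem : g320sX0 ∈ Cfsg.SU 3 K16 4 := g320_mem_su _ (by decide)
theorem g320sT_mem : g320sT ∈ Cfsg.SU 3 K16 4 := g320_mem_su _ (by decide)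
theorem g320sG_mem : g320sG ∈ Cfsg.SU 3 K16 4 := g320_mem_su _ (by decide)

/-! ### the order of the subgroup generated by the two elements -/

/-- the 64 elements of the normal 2-subgroup, as matrices -/
def g320kel (n : ℕ) : Matrix (Fin 3) (Fin 3) K16 :=
  g320mX0 ^ (n % 2) * g320mX1 ^ (n / 2 % 2) * g320mX2 ^ (n / 4 % 2) * g320mX3 ^ (n / 8 % 2)
    * g320mC1 ^ (n / 16 % 2) * g320mC2 ^ (n / 32 % 2)

set_option maxRecDepth 1000000 in
theorem g320kel_nodup :
    ((List.range 64).map (fun n => ((g320kel n) 0 2, (g320kel n) 0 0))).Nodup := by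
  decide +kernel

/-- the 64 elements in the special linear group -/
def g320skel (n : ℕ) : Matrix.SpecialLinearGroup (Fin 3) K16 :=
  g320sX0 ^ (n % 2) * g320sX1 ^ (n / 2 % 2) * g320sX2 ^ (n / 4 % 2) * g320sX3 ^ (n / 8 % 2)
    * g320sC1 ^ (n / 16 % 2) * g320sC2 ^ (n / 32 % 2)

theorem g320skel_val (n : ℕ) : (g320skel n).1 = g320kel n := by
  unfold g320skel g320kel
  simp only [Matrix.SpecialLinearGroup.coe_mul, Matrix.SpecialLinearGroup.coe_pow]
  rfl

theorem g320skel_inj {i j : ℕ} (hi : i < 64) (hj : j < 64) (h : g320skel i = g320skel j) :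
    i = j := by
  have h1 : g320kel i = g320kel j := by rw [← g320skel_val, ← g320skel_val, h]
  refine List.inj_on_of_nodup_map g320kel_nodup (List.mem_range.2 hi) (List.mem_range.2 hj) ?_
  show ((g320kel i) 0 2, (g320kel i) 0 0) = ((g320kel j) 0 2, (g320kel j) 0 0)
  rw [h1]

open Subgroup in
/-- the subgroup generated by the two elements has order 320 -/
theorem g320_card_N :
    Nat.card (closure ({g320sA, g320sX0} : Set (Matrix.SpecialLinearGroup (Fin 3) K16))) = 320 := by
  classical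
  have hrel := g320_rel_sl
  obtain ⟨e1, e2, e3, _, f1, f2⟩ :=
    g320_witness_eqs g320_h1 g320_h2 g320_h3 g320_h4 g320_k1 g320_k2
  set N := closure ({g320sA, g320sX0} : Set (Matrix.SpecialLinearGroup (Fin 3) K16)) with hN
  set K := closure ((∅ : Set (Matrix.SpecialLinearGroup (Fin 3) K16)) ∪ {g320C1 g320sA g320sX0}
    ∪ {g320C2 g320sA g320sX0} ∪ {g320sX0} ∪ {g320X g320sA g320sX0 1}
    ∪ {g320X g320sA g320sX0 2} ∪ {g320X g320sA g320sX0 3}) with hK
  have hK64 : Nat.card K ≤ 64 := g320_card_K_le hrel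
  have m0 : g320sX0 ∈ K := subset_closure (by simp)
  have m1 : g320sX1 ∈ K := by rw [← e1]; exact subset_closure (by simp)
  have m2 : g320sX2 ∈ K := by rw [← e2]; exact subset_closure (by simp)
  have m3 : g320sX3 ∈ K := by rw [← e3]; exact subset_closure (by simp)
  have mc1 : g320sC1 ∈ K := by rw [← f1]; exact subset_closure (by simp)
  have mc2 : g320sC2 ∈ K := by rw [← f2]; exact subset_closure (by simp)
  have hmem : ∀ n, g320skel n ∈ K := fun n =>
    mul_mem (mul_mem (mul_mem (mul_mem (mul_mem (pow_mem m0 _) (pow_mem m1 _)) (pow_mem m2 _))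
      (pow_mem m3 _)) (pow_mem mc1 _)) (pow_mem mc2 _)
  have hK64' : 64 ≤ Nat.card K := by
    have hinj : Function.Injective (fun n : Fin 64 => (⟨g320skel n, hmem n⟩ : K)) := by
      intro i j h
      have := congrArg Subtype.val h
      exact Fin.ext (g320skel_inj i.2 j.2 this)
    have := Nat.card_le_card_of_injective _ hinj
    rwa [Nat.card_eq_fintype_card, Fintype.card_fin] at this
  have hKc : Nat.card K = 64 := le_antisymm hK64 hK64'
  have ha : g320sA ∈ N := subset_closure (by simp)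
  have hx : g320sX0 ∈ N := subset_closure (by simp)
  have hXN : ∀ i, g320X g320sA g320sX0 i ∈ N := fun i =>
    mul_mem (mul_mem (pow_mem ha i) hx) (inv_mem (pow_mem ha i))
  have hKN : K ≤ N := by
    rw [hK, closure_le]
    intro g hg
    simp only [Set.mem_union, Set.mem_singleton_iff, Set.mem_empty_iff_false, false_or] at hg
    rcases hg with ((((rfl | rfl) | rfl) | rfl) | rfl) | rfl
    · exact mul_mem (mul_mem (mul_mem hx (hXN 1)) (inv_mem hx)) (inv_mem (hXN 1))
    · exact mul_mem (mul_mem (mul_mem hx (hXN 2)) (inv_mem hx)) (inv_mem (hXN 2))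
    · exact hx
    · exact hXN 1
    · exact hXN 2
    · exact hXN 3
  have d64 : 64 ∣ Nat.card N := by rw [← hKc]; exact Subgroup.card_dvd_of_le hKN
  have ho : orderOf g320sA = 5 := by
    haveI : Fact (Nat.Prime 5) := ⟨by norm_num⟩
    refine orderOf_eq_prime g320_a5 ?_
    intro h
    have h1 : g320mA = 1 := congrArg Subtype.val h
    revert h1; decide
  have d5 : 5 ∣ Nat.card N := by
    rw [← ho, ← Subgroup.orderOf_mk g320sA ha]
    exact orderOf_dvd_natCard _
  have h320 : 64 * 5 ∣ Nat.card N := Nat.Coprime.mul_dvd_of_dvd_of_dvd (by norm_num) d64 d5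
  have hle : Nat.card N ≤ 320 := g320_card_le hrel
  have hpos : 0 < Nat.card N := Nat.card_pos
  obtain ⟨k, hk⟩ := h320
  rw [hk] at hle hpos ⊢
  have : k = 1 := by omega
  rw [this]

end Cfsg.Agent.Lib.helper23
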