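import Cfsg.Agent.Lib.helper23.G320B
import Cfsg.Agent.Lib.helper23.G320C
import Cfsg.Agent.Lib.helper23.SUTr
import Cfsg.Agent.S0279
import Cfsg.Agent.S0782

set_option autoImplicit false

/-!
# The centraliser of an involution of `SU(3, 4)` has order 320, and the identification
-/

namespace Cfsg.Agent.Lib.helper23

open Subgroup Matrix

/-- the special unitary group -/
abbrev G320SU : Subgroup (Matrix.SpecialLinearGroup (Fin 3) K16) := Cfsg.SU 3 K16 4

/-- the involution, the generators and the outer element in the special unitary group -/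
def g320tT : G320SU := ⟨g320sT, g320sT_mem⟩
def g320tA : G320SU := ⟨g320sA, g320sA_mem⟩
def g320tX : G320SU := ⟨g320sX0, g320sX0_mem⟩
def g320tG : G320SU := ⟨g320sG, g320sG_mem⟩

/-- the isotropic vector -/
def g320v : Fin 3 → K16 := ![1, 1, 0]

/-- the isotropic line -/
def g320Ln : Submodule K16 (Fin 3 → K16) := Submodule.span K16 {g320v}

theorem k16_add_self (x : K16) : x + x = 0 := by
  revert x; decide

theorem g320Ln_finrank : Module.finrank K16 g320Ln = 1 := by
  apply finrank_span_singleton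
  decide

theorem g320Ln_iso : ∀ u ∈ g320Ln, ∀ w ∈ g320Ln, Cfsg.hermForm 3 K16 4 u w = 0 := by
  intro u hu w hw
  obtain ⟨c, rfl⟩ := Submodule.mem_span_singleton.1 hu
  obtain ⟨d, rfl⟩ := Submodule.mem_span_singleton.1 hw
  unfold Cfsg.hermForm
  rw [Fin.sum_univ_three]
  simp only [g320v, Pi.smul_apply, smul_eq_mul, Matrix.cons_val_zero, Matrix.cons_val_one,
    Matrix.cons_val_two, Matrix.head_cons, Matrix.tail_cons, mul_one, mul_zero, zero_pow,
    ne_eq, OfNat.ofNat_ne_zero, not_false_eq_true, add_zero]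
  exact k16_add_self _

/-- the stabiliser of the isotropic line -/
abbrev G320Stab : Subgroup G320SU :=
  (Cfsg.stabilizing (Cfsg.slToMat 3 K16) (g320Ln : Set (Fin 3 → K16))).subgroupOf G320SU

theorem g320Stab_card : Nat.card G320Stab = 960 := by
  have h := Cfsg.Agent.S0782.result (F := K16) (q := 4) (by rw [K16.card]; norm_num) 3 1
    (by norm_num) (by norm_num) g320Ln g320Ln_finrank g320Ln_iso
  have h2 : (4 : ℕ) ^ (1 * (2 * 3 - 3 * 1)) * (∏ i : Fin 1, (((4 : ℕ) ^ 2) ^ 1 - (4 ^ 2) ^ (i : ℕ)))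
      * (4 ^ ((3 - 2 * 1) * ((3 - 2 * 1) - 1) / 2) * ∏ i ∈ Finset.range (3 - 2 * 1),
        (if Even i then (4 : ℕ) ^ (i + 1) + 1 else 4 ^ (i + 1) - 1)) = 4800 := by
    decide
  rw [h2] at h
  have h3 : (4 + 1) * Nat.card G320Stab = 4800 := h
  omega

/-- the map onto the line: the involution plus one -/
def g320mP : Matrix (Fin 3) (Fin 3) K16 := !![1, 1, 0; 1, 1, 0; 0, 0, 0]

theorem g320mP_eq : g320mP = g320mT + 1 := by decide

theorem g320mP_mulVec (u : Fin 3 → K16) : g320mP *ᵥ u = (u 0 + u 1) • g320v := by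
  funext i
  fin_cases i <;>
    simp [g320mP, g320v, Matrix.mulVec, dotProduct, Fin.sum_univ_three]

theorem g320_mem_Ln_iff (w : Fin 3 → K16) : w ∈ g320Ln ↔ ∃ u, g320mP *ᵥ u = w := by
  constructor
  · intro hw
    obtain ⟨c, rfl⟩ := Submodule.mem_span_singleton.1 hw
    refine ⟨![c, 0, 0], ?_⟩
    rw [g320mP_mulVec]
    simp
  · rintro ⟨u, rfl⟩
    rw [g320mP_mulVec]
    exact Submodule.mem_span_singleton.2 ⟨_, rfl⟩

theorem g320_slToMat (A : Matrix.SpecialLinearGroup (Fin 3) K16) :
    Cfsg.slToMat 3 K16 A = A.1 := rfl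

/-- a matrix commuting with the involution maps the line into itself -/
theorem g320_commute_Ln {M : Matrix (Fin 3) (Fin 3) K16} (h : M * g320mT = g320mT * M)
    {w : Fin 3 → K16} (hw : w ∈ g320Ln) : M *ᵥ w ∈ g320Ln := by
  obtain ⟨u, rfl⟩ := (g320_mem_Ln_iff w).1 hw
  have h2 : M * g320mP = g320mP * M := by
    rw [g320mP_eq, mul_add, add_mul, h, mul_one, one_mul]
  rw [Matrix.mulVec_mulVec, h2, ← Matrix.mulVec_mulVec]
  exact (g320_mem_Ln_iff _).2 ⟨_, rfl⟩

/-- the centraliser of the involution -/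
abbrev G320Cent : Subgroup G320SU := centralizer ({g320tT} : Set G320SU)

theorem g320_mem_Cent_iff (g : G320SU) : g ∈ G320Cent ↔ g.1.1 * g320mT = g320mT * g.1.1 := by
  rw [mem_centralizer_iff]
  constructor
  · intro h
    have h1 := h g320tT rfl
    have h2 : (g320tT * g).1.1 = (g * g320tT).1.1 := by rw [h1]
    exact h2.symm
  · intro h k hk
    rw [Set.mem_singleton_iff] at hk
    rw [hk]
    apply Subtype.ext
    apply Subtype.ext
    exact h.symm

theorem g320Cent_le_Stab : G320Cent ≤ G320Stab := by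
  intro g hg
  rw [mem_subgroupOf]
  have hginv : g⁻¹ ∈ G320Cent := inv_mem hg
  intro w
  constructor
  · intro hw
    rw [g320_slToMat]
    exact g320_commute_Ln ((g320_mem_Cent_iff g).1 hg) hw
  · intro hw
    rw [g320_slToMat] at hw
    have h1 := g320_commute_Ln ((g320_mem_Cent_iff g⁻¹).1 hginv) hw
    rw [Matrix.mulVec_mulVec] at h1
    have h2 : (g⁻¹).1.1 * g.1.1 = 1 := by
      have : (g⁻¹ * g).1.1 = (1 : G320SU).1.1 := by rw [inv_mul_cancel]
      exact this
    rwa [h2, Matrix.one_mulVec] at h1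

theorem g320mG_v : g320mG *ᵥ g320v = k16 4 • g320v := by decide

theorem g320tG_mem_Stab : g320tG ∈ G320Stab := by
  rw [mem_subgroupOf]
  have hmu : k16 4 ≠ 0 := by decide
  intro w
  constructor
  · intro hw
    obtain ⟨c, rfl⟩ := Submodule.mem_span_singleton.1 hw
    rw [g320_slToMat]
    show g320mG *ᵥ (c • g320v) ∈ g320Ln
    rw [Matrix.mulVec_smul, g320mG_v]
    exact Submodule.smul_mem _ _ (Submodule.smul_mem _ _ (Submodule.mem_span_singleton_self _))
  · intro hw
    rw [g320_slToMat] at hw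
    have hw' : g320mG *ᵥ w ∈ g320Ln := hw
    obtain ⟨c, hc⟩ := Submodule.mem_span_singleton.1 hw'
    have h2 : (g320tG⁻¹).1.1 * g320mG = 1 := by
      have : (g320tG⁻¹ * g320tG).1.1 = (1 : G320SU).1.1 := by rw [inv_mul_cancel]
      exact this
    have h3 : (g320tG⁻¹).1.1 *ᵥ g320v = (k16 4)⁻¹ • g320v := by
      have h4 : (g320tG⁻¹).1.1 *ᵥ (g320mG *ᵥ g320v) = g320v := by
        rw [Matrix.mulVec_mulVec, h2, Matrix.one_mulVec]
      rw [g320mG_v, Matrix.mulVec_smul] at h4
      have h6 := congrArg (fun z => (k16 4)⁻¹ • z) h4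
      simp only [inv_smul_smul₀ hmu] at h6
      exact h6
    have h5 : w = (g320tG⁻¹).1.1 *ᵥ (g320mG *ᵥ w) := by
      rw [Matrix.mulVec_mulVec, h2, Matrix.one_mulVec]
    rw [h5, ← hc, Matrix.mulVec_smul, h3]
    exact Submodule.smul_mem _ _ (Submodule.smul_mem _ _ (Submodule.mem_span_singleton_self _))

theorem g320tG_not_mem_Cent : g320tG ∉ G320Cent := by
  rw [g320_mem_Cent_iff]
  show ¬ g320mG * g320mT = g320mT * g320mG
  decide

/-- the subgroup generated by the two elements in the special unitary group -/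
abbrev G320N : Subgroup G320SU := closure ({g320tA, g320tX} : Set G320SU)

theorem g320N_card : Nat.card G320N = 320 := by
  have h := Subgroup.card_map_of_injective (K := G320N) (f := G320SU.subtype)
    G320SU.subtype_injective
  rw [← h, MonoidHom.map_closure, Set.image_pair]
  exact g320_card_N

theorem g320tA_mem_Cent : g320tA ∈ G320Cent := by
  rw [g320_mem_Cent_iff]
  show g320mA * g320mT = g320mT * g320mA
  decide

theorem g320tX_mem_Cent : g320tX ∈ G320Cent := by
  rw [g320_mem_Cent_iff]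
  show g320mX0 * g320mT = g320mT * g320mX0
  decide

theorem g320N_le_Cent : G320N ≤ G320Cent := by
  rw [closure_le]
  intro g hg
  simp only [Set.mem_insert_iff, Set.mem_singleton_iff] at hg
  rcases hg with rfl | rfl
  · exact g320tA_mem_Cent
  · exact g320tX_mem_Cent

theorem g320Cent_card : Nat.card G320Cent = 320 := by
  have h1 : 320 ∣ Nat.card G320Cent := by
    rw [← g320N_card]; exact Subgroup.card_dvd_of_le g320N_le_Cent
  have h2 : Nat.card G320Cent ∣ 960 := by
    rw [← g320Stab_card]; exact Subgroup.card_dvd_of_le g320Cent_le_Stab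
  have h3 : Nat.card G320Cent ≠ 960 := by
    intro h
    have h4 : G320Cent = G320Stab :=
      Subgroup.eq_of_le_of_card_ge g320Cent_le_Stab (by rw [h, g320Stab_card])
    apply g320tG_not_mem_Cent
    rw [h4]
    exact g320tG_mem_Stab
  obtain ⟨k, hk⟩ := h1
  rw [hk] at h2 h3 ⊢
  have h5 : k ∣ 3 := by
    have : 320 * k ∣ 320 * 3 := by norm_num; exact h2
    exact Nat.dvd_of_mul_dvd_mul_left (by norm_num) this
  have h6 : k = 1 ∨ k = 3 := (Nat.dvd_prime (by norm_num)).1 h5
  rcases h6 with rfl | rfl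
  · rfl
  · exact absurd rfl h3

theorem g320N_eq_Cent : G320N = G320Cent :=
  Subgroup.eq_of_le_of_card_ge g320N_le_Cent (by rw [g320N_card, g320Cent_card])

end Cfsg.Agent.Lib.helper23
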