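import Cfsg.Agent.Lib.helper23.G320D

set_option autoImplicit false

/-!
# Assembly: a group of order 320 with derived subgroup of order 64 whose centre is a four-group
is the centraliser of an involution of `PSU(3, 4)`
-/

namespace Cfsg.Agent.Lib.helper23

open Subgroup Matrix

/-- centralisers of single elements correspond under an isomorphism -/
theorem g320_map_centralizer {A B : Type*} [Group A] [Group B] (φ : A ≃* B) (a : A) :
    (centralizer ({a} : Set A)).map φ.toMonoidHom = centralizer ({φ a} : Set B) := by
  ext y
  constructor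
  · rintro ⟨x, hx, rfl⟩
    rw [mem_centralizer_iff]
    intro k hk
    rw [Set.mem_singleton_iff] at hk
    subst hk
    have h1 := (mem_centralizer_iff.1 hx) a rfl
    show φ a * φ x = φ x * φ a
    rw [← map_mul, ← map_mul, h1]
  · intro hy
    refine ⟨φ.symm y, ?_, φ.apply_symm_apply y⟩
    show φ.symm y ∈ centralizer ({a} : Set A)
    rw [mem_centralizer_iff]
    intro k hk
    rw [Set.mem_singleton_iff] at hk
    subst hk
    apply φ.injective
    rw [map_mul, map_mul, φ.apply_symm_apply]
    exact (mem_centralizer_iff.1 hy) (φ k) rfl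

/-- centralisers of single elements are isomorphic under an isomorphism -/
noncomputable def g320centEquiv {A B : Type*} [Group A] [Group B] (φ : A ≃* B) (a : A) :
    centralizer ({a} : Set A) ≃* centralizer ({φ a} : Set B) :=
  (φ.subgroupMap (centralizer ({a} : Set A))).trans
    (MulEquiv.subgroupCongr (g320_map_centralizer φ a))

theorem g320_center_SU : Subgroup.center G320SU = ⊥ := by
  have h := Cfsg.Agent.S0279.result (F := K16) (q := 4) (by rw [K16.card]; norm_num) 3 le_rfl
  have h1 : Nat.card (Subgroup.center G320SU) = 1 := by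
    rw [h]; rfl
  exact Subgroup.card_eq_one.1 h1

/-- the special unitary group is its own projective quotient -/
noncomputable def g320suEquiv : G320SU ≃* Cfsg.PSU 3 K16 4 :=
  MulEquiv.ofBijective (QuotientGroup.mk' (Subgroup.center G320SU))
    ⟨by
      rw [← MonoidHom.ker_eq_bot_iff, QuotientGroup.ker_mk']
      exact g320_center_SU, QuotientGroup.mk'_surjective _⟩

theorem g320tT_order : orderOf g320tT = 2 := by
  apply orderOf_eq_prime
  · apply Subtype.ext
    apply Subtype.ext
    show (g320mT ^ 2 : Matrix (Fin 3) (Fin 3) K16) = 1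
    decide
  · intro h
    have h1 : (g320tT.1.1 : Matrix (Fin 3) (Fin 3) K16) = (1 : G320SU).1.1 := by rw [h]
    have h2 : g320mT = (1 : Matrix (Fin 3) (Fin 3) K16) := h1
    revert h2
    decide

/-- the two generators as elements of the centraliser -/
def g320cA : G320Cent := ⟨g320tA, g320tA_mem_Cent⟩
/-- the two generators as elements of the centraliser -/
def g320cX : G320Cent := ⟨g320tX, g320tX_mem_Cent⟩

theorem g320_rel_cent : G320Rel g320cA g320cX := by
  apply G320Rel.of_injective (G320SU.subtype.comp G320Cent.subtype)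
  · exact G320SU.subtype_injective.comp G320Cent.subtype_injective
  · exact g320_rel_sl

theorem g320_gen_cent : closure ({g320cA, g320cX} : Set G320Cent) = ⊤ := by
  apply Subgroup.map_injective G320Cent.subtype_injective
  rw [MonoidHom.map_closure, Set.image_pair, ← MonoidHom.range_eq_map, Subgroup.range_subtype]
  exact g320N_eq_Cent

/-- the main theorem -/
theorem g320_main {G : Type*} [Group G] [Finite G] (hG : Nat.card G = 320)
    (hD : Nat.card (_root_.commutator G) = 64)
    (hZ : IsKleinFour (Subgroup.center (_root_.commutator G)))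
    {F : Type*} [Field F] [Fintype F] (hF : Fintype.card F = 16) :
    ∃ t : Cfsg.PSU 3 F 4, orderOf t = 2 ∧
      Nonempty (G ≃* Subgroup.centralizer ({t} : Set (Cfsg.PSU 3 F 4))) := by
  obtain ⟨a, x, hrel, hgen⟩ := g320_struct hG hD hZ
  obtain ⟨ψ⟩ := g320_iso hrel g320_rel_cent hgen g320_gen_cent hG g320Cent_card
  have hcard : Fintype.card K16 = Fintype.card F := by rw [K16.card, hF]
  let e : K16 ≃+* F := FiniteField.ringEquivOfCardEq hcard
  let Φ : G320SU ≃* Cfsg.PSU 3 F 4 := g320suEquiv.trans (psuEquiv e 4)
  refine ⟨Φ g320tT, ?_, ⟨ψ.trans (g320centEquiv Φ g320tT)⟩⟩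
  rw [MulEquiv.orderOf_eq, g320tT_order]

end Cfsg.Agent.Lib.helper23
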