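import Mathlib

set_option autoImplicit false

namespace Cfsg.Agent.Lib.helper23

/-- `p`-adic valuation of `q^k - 1` for `p ∥ q - 1`, `p` odd. -/
theorem glpa_val_pow_sub_one (p q : ℕ) [Fact p.Prime] (hodd : Odd p) (hq : p ∣ q - 1)
    (hq2 : ¬ p ^ 2 ∣ q - 1) (hq1 : 1 < q) (k : ℕ) (hk : k ≠ 0) :
    padicValNat p (q ^ k - 1) = 1 + padicValNat p k := by
  have hp : p.Prime := Fact.out
  have hnq : ¬ p ∣ q := by
    intro h
    have h3 : p ∣ q - (q - 1) := Nat.dvd_sub h hq
    have h4 : q - (q - 1) = 1 := by omega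
    rw [h4] at h3
    exact hp.one_lt.ne' (Nat.dvd_one.mp h3)
  have h1 := padicValNat.pow_sub_pow (p := p) hodd (x := q) (y := 1) hq1 (by simpa using hq) hnq hk
  rw [one_pow] at h1
  rw [h1]
  congr 1
  have hne : q - 1 ≠ 0 := by omega
  have h5 : 1 ≤ padicValNat p (q - 1) := one_le_padicValNat_of_dvd hne hq
  have h6 : ¬ 2 ≤ padicValNat p (q - 1) := by
    intro h
    exact hq2 ((padicValNat_dvd_iff_le hne).mpr h)
  omega

theorem glpa_val_term (p q : ℕ) [Fact p.Prime] (hodd : Odd p) (hq : p ∣ q - 1)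
    (hq2 : ¬ p ^ 2 ∣ q - 1) (hq1 : 1 < q) (i : ℕ) (hi : i < p) :
    q ^ p - q ^ i ≠ 0 ∧
    padicValNat p (q ^ p - q ^ i) = 1 + (if i = 0 then 1 else 0) := by
  have hp : p.Prime := Fact.out
  have hnq : ¬ p ∣ q := by
    intro h
    have h3 : p ∣ q - (q - 1) := Nat.dvd_sub h hq
    have h4 : q - (q - 1) = 1 := by omega
    rw [h4] at h3
    exact hp.one_lt.ne' (Nat.dvd_one.mp h3)
  have hk : p - i ≠ 0 := by omega
  have hfac : q ^ p - q ^ i = q ^ i * (q ^ (p - i) - 1) := by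
    rw [Nat.mul_sub, mul_one, ← pow_add]
    congr 2
    omega
  have hpos1 : 1 < q ^ (p - i) := Nat.one_lt_pow hk hq1
  have hne1 : q ^ (p - i) - 1 ≠ 0 := by omega
  have hne2 : q ^ i ≠ 0 := by positivity
  refine ⟨by rw [hfac]; exact mul_ne_zero hne2 hne1, ?_⟩
  rw [hfac, padicValNat.mul hne2 hne1, glpa_val_pow_sub_one p q hodd hq hq2 hq1 _ hk]
  have h0 : padicValNat p (q ^ i) = 0 := by
    rw [padicValNat.pow]
    rw [padicValNat.eq_zero_of_not_dvd hnq, mul_zero]
  rw [h0, zero_add]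
  congr 1
  by_cases h : i = 0
  · subst h
    simp
  · rw [if_neg h]
    apply padicValNat.eq_zero_of_not_dvd
    intro hd
    have := Nat.le_of_dvd (by omega) hd
    omega

/-- The `p`-part of `|GL_p(F)|` is `p^(p+1)`. -/
theorem glpa_factorization {F : Type*} [Field F] [Fintype F] (p : ℕ) [Fact p.Prime]
    (hp : p ≠ 2) (h1 : p ∣ Fintype.card F - 1) (h2 : ¬ p ^ 2 ∣ Fintype.card F - 1) :
    (Nat.card (Matrix.GeneralLinearGroup (Fin p) F)).factorization p = p + 1 := by
  have hpp : p.Prime := Fact.out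
  have hodd : Odd p := hpp.odd_of_ne_two hp
  have hq1 : 1 < Fintype.card F := Fintype.one_lt_card
  rw [Matrix.card_GL_field, Nat.factorization_prod (fun i _ =>
    (glpa_val_term p _ hodd h1 h2 hq1 i.1 i.2).1)]
  rw [Finsupp.finsetSum_apply]
  have h3 : ∀ i : Fin p, (Fintype.card F ^ p - Fintype.card F ^ (i : ℕ)).factorization p
      = 1 + (if (i : ℕ) = 0 then 1 else 0) := by
    intro i
    rw [Nat.factorization_def _ hpp]
    exact (glpa_val_term p _ hodd h1 h2 hq1 i.1 i.2).2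
  rw [Finset.sum_congr rfl (fun i _ => h3 i), Finset.sum_add_distrib]
  simp only [Finset.sum_const, Finset.card_univ, Fintype.card_fin, smul_eq_mul, mul_one]
  congr 1
  have : NeZero p := ⟨hpp.ne_zero⟩
  rw [Finset.sum_eq_single (0 : Fin p)]
  · simp
  · intro b _ hb
    rw [if_neg]
    intro h
    apply hb
    exact Fin.ext (by simpa using h)
  · intro h
    exact absurd (Finset.mem_univ _) h

end Cfsg.Agent.Lib.helper23
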