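import Mathlib

set_option autoImplicit false

namespace Cfsg.Agent.Lib.helper23

variable {F : Type*} [Field F] {p : ℕ} [Fact p.Prime]

/-- The monomial map `v ↦ (i ↦ d i * v (i + j))`. -/
def glpMon (d : ZMod p → Fˣ) (j : ZMod p) : (ZMod p → F) ≃ₗ[F] (ZMod p → F) where
  toFun v := fun i => (d i : F) * v (i + j)
  map_add' v w := by
    funext i
    simp [mul_add]
  map_smul' c v := by
    funext i
    simp [mul_left_comm]
  invFun v := fun i => (((d (i - j))⁻¹ : Fˣ) : F) * v (i - j)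
  left_inv v := by
    funext i
    simp
  right_inv v := by
    funext i
    simp

theorem glpMon_apply (d : ZMod p → Fˣ) (j : ZMod p) (v : ZMod p → F) (i : ZMod p) :
    glpMon d j v i = (d i : F) * v (i + j) := rfl

theorem glpMon_mul (d d' : ZMod p → Fˣ) (j j' : ZMod p) :
    glpMon d j * glpMon d' j' = glpMon (fun i => d i * d' (i + j)) (j + j') := by
  apply LinearEquiv.ext
  intro v
  funext i
  rw [LinearEquiv.mul_apply, glpMon_apply, glpMon_apply, glpMon_apply]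
  simp [mul_assoc, add_assoc]

theorem glpMon_one : glpMon (fun _ => (1 : Fˣ)) (0 : ZMod p) = (1 : (ZMod p → F) ≃ₗ[F] (ZMod p → F)) := by
  apply LinearEquiv.ext
  intro v
  funext i
  rw [glpMon_apply]
  simp

theorem glpMon_inv (d : ZMod p → Fˣ) (j : ZMod p) :
    (glpMon d j)⁻¹ = glpMon (fun i => (d (i - j))⁻¹) (-j) := by
  rw [inv_eq_iff_mul_eq_one, glpMon_mul, ← glpMon_one]
  congr 1
  · funext i
    simp
  · simp

theorem glpMon_single (d : ZMod p → Fˣ) (j : ZMod p) (m i : ZMod p) :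
    glpMon d j (Pi.single m 1) i = if i + j = m then (d i : F) else 0 := by
  rw [glpMon_apply]
  by_cases h : i + j = m
  · rw [if_pos h, h, Pi.single_eq_same, mul_one]
  · rw [if_neg h, Pi.single_eq_of_ne h, mul_zero]

theorem glpMon_inj (d d' : ZMod p → Fˣ) (j j' : ZMod p) (h : glpMon d j = glpMon d' j') :
    d = d' ∧ j = j' := by
  have key : ∀ i : ZMod p, j' = j ∧ d i = d' i := by
    intro i
    have h1 := glpMon_single d j (i + j) i
    rw [h, glpMon_single, if_pos rfl] at h1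
    by_cases hj : i + j' = i + j
    · rw [if_pos hj] at h1
      exact ⟨add_left_cancel hj, (Units.ext h1).symm⟩
    · rw [if_neg hj] at h1
      exact absurd h1.symm (Units.ne_zero _)
  exact ⟨funext fun i => (key i).2, (key 0).1.symm⟩

/-- The monomial Sylow `p`-subgroup `C_p ≀ C_p`. -/
def glpQ (F : Type*) [Field F] (p : ℕ) [Fact p.Prime] :
    Subgroup ((ZMod p → F) ≃ₗ[F] (ZMod p → F)) where
  carrier := {g | ∃ (d : ZMod p → Fˣ) (j : ZMod p), (∀ i, d i ^ p = 1) ∧ g = glpMon d j}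
  mul_mem' := by
    rintro _ _ ⟨d, j, hd, rfl⟩ ⟨d', j', hd', rfl⟩
    refine ⟨_, _, ?_, glpMon_mul d d' j j'⟩
    intro i
    rw [mul_pow, hd, hd', one_mul]
  one_mem' := ⟨_, _, fun _ => one_pow _, glpMon_one.symm⟩
  inv_mem' := by
    rintro _ ⟨d, j, hd, rfl⟩
    refine ⟨_, _, ?_, glpMon_inv d j⟩
    intro i
    rw [inv_pow, hd, inv_one]

theorem glpQ_mem {g : (ZMod p → F) ≃ₗ[F] (ZMod p → F)} :
    g ∈ glpQ F p ↔ ∃ (d : ZMod p → Fˣ) (j : ZMod p), (∀ i, d i ^ p = 1) ∧ g = glpMon d j :=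
  Iff.rfl

theorem glpMon_mem (d : ZMod p → Fˣ) (j : ZMod p) (hd : ∀ i, d i ^ p = 1) :
    glpMon d j ∈ glpQ F p := ⟨d, j, hd, rfl⟩

end Cfsg.Agent.Lib.helper23
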