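import Cfsg.Agent.Lib.helper23.GLpB

set_option autoImplicit false

namespace Cfsg.Agent.Lib.helper23

variable {F : Type*} [Field F] [Fintype F] {p : ℕ} [Fact p.Prime]

theorem glp_exists_zeta (h1 : p ∣ Fintype.card F - 1) : ∃ ζ : Fˣ, orderOf ζ = p := by
  classical
  have h2 : p ∣ Fintype.card Fˣ := by rwa [Fintype.card_units]
  exact exists_prime_orderOf_dvd_card p h2

theorem glp_card_roots (h1 : p ∣ Fintype.card F - 1) : Nat.card (rootsOfUnity p F) = p := by
  obtain ⟨ζ, hζ⟩ := glp_exists_zeta (F := F) h1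
  have hp : p.Prime := Fact.out
  haveI : NeZero p := ⟨hp.ne_zero⟩
  have h2 : IsPrimitiveRoot ζ p := IsPrimitiveRoot.iff_orderOf.mpr hζ
  exact h2.card_rootsOfUnity'

theorem glpQ_card (h1 : p ∣ Fintype.card F - 1) : Nat.card (glpQ F p) = p ^ (p + 1) := by
  have hp : p.Prime := Fact.out
  haveI : NeZero p := ⟨hp.ne_zero⟩
  let f : (ZMod p → rootsOfUnity p F) × ZMod p → glpQ F p := fun x =>
    ⟨glpMon (fun i => ((x.1 i : Fˣ))) x.2, glpMon_mem _ _ (fun i => (mem_rootsOfUnity p _).mp (x.1 i).2)⟩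
  have hf : Function.Bijective f := by
    constructor
    · rintro ⟨d, j⟩ ⟨d', j'⟩ h
      have h2 := glpMon_inj _ _ _ _ (congrArg Subtype.val h)
      refine Prod.ext ?_ h2.2
      funext i
      exact Subtype.ext (congrFun h2.1 i)
    · rintro ⟨g, d, j, hd, rfl⟩
      exact ⟨(fun i => ⟨d i, (mem_rootsOfUnity p _).mpr (hd i)⟩, j), rfl⟩
  rw [← Nat.card_congr (Equiv.ofBijective f hf), Nat.card_prod, Nat.card_fun, glp_card_roots h1,
    Nat.card_zmod, pow_succ]

end Cfsg.Agent.Lib.helper23
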