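import Cfsg.Agent.Lib.helper23.GLpB

set_option autoImplicit false

namespace Cfsg.Agent.Lib.helper23

variable {F : Type*} [Field F] {p : ℕ} [Fact p.Prime]

/-- `x` lies in two distinct subgroups of the same order as `glpQ`. -/
def glpTwo (x : (ZMod p → F) ≃ₗ[F] (ZMod p → F)) : Prop :=
  ∃ R₁ R₂ : Subgroup ((ZMod p → F) ≃ₗ[F] (ZMod p → F)), R₁ ≠ R₂ ∧
    Nat.card R₁ = Nat.card (glpQ F p) ∧ Nat.card R₂ = Nat.card (glpQ F p) ∧ x ∈ R₁ ∧ x ∈ R₂

theorem glpTwo_conj (x g : (ZMod p → F) ≃ₗ[F] (ZMod p → F)) (h : glpTwo x) :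
    glpTwo (g * x * g⁻¹) := by
  obtain ⟨R₁, R₂, hne, h1, h2, hx1, hx2⟩ := h
  refine ⟨R₁.map (MulAut.conj g).toMonoidHom, R₂.map (MulAut.conj g).toMonoidHom, ?_, ?_, ?_, ?_, ?_⟩
  · intro h
    exact hne (Subgroup.map_injective (MulAut.conj g).injective h)
  · rw [Subgroup.card_map_of_injective (MulAut.conj g).injective, h1]
  · rw [Subgroup.card_map_of_injective (MulAut.conj g).injective, h2]
  · exact ⟨x, hx1, by simp [MulAut.conj_apply]⟩
  · exact ⟨x, hx2, by simp [MulAut.conj_apply]⟩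

theorem glpTwo_of_conj (x g t : (ZMod p → F) ≃ₗ[F] (ZMod p → F)) (hx : x ∈ glpQ F p)
    (hx' : g⁻¹ * x * g ∈ glpQ F p) (ht : t ∈ glpQ F p) (hnt : g * t * g⁻¹ ∉ glpQ F p) :
    glpTwo x := by
  refine ⟨glpQ F p, (glpQ F p).map (MulAut.conj g).toMonoidHom, ?_, rfl, ?_, hx, ?_⟩
  · intro h
    apply hnt
    rw [h]
    exact ⟨t, ht, by simp [MulAut.conj_apply]⟩
  · rw [Subgroup.card_map_of_injective (MulAut.conj g).injective]
  · refine ⟨g⁻¹ * x * g, hx', ?_⟩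
    simp [MulAut.conj_apply, mul_assoc]

end Cfsg.Agent.Lib.helper23
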