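import Cfsg.Agent.Lib.helper23.GLpD

set_option autoImplicit false

namespace Cfsg.Agent.Lib.helper23

variable {F : Type*} [Field F] {p : ℕ} [Fact p.Prime]

/-- The transvection `1 + E_{ik}`. -/
def glpTr (i k : ZMod p) (hik : i ≠ k) : (ZMod p → F) ≃ₗ[F] (ZMod p → F) where
  toFun v := fun r => v r + (if r = i then v k else 0)
  map_add' v w := by
    funext r
    by_cases h : r = i <;> simp [h] <;> ring
  map_smul' c v := by
    funext r
    by_cases h : r = i <;> simp [h, mul_add]
  invFun v := fun r => v r - (if r = i then v k else 0)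
  left_inv v := by
    funext r
    by_cases h : r = i
    · subst h
      simp [hik.symm]
    · simp [h]
  right_inv v := by
    funext r
    by_cases h : r = i
    · subst h
      simp [hik.symm]
    · simp [h]

theorem glpTr_apply (i k : ZMod p) (hik : i ≠ k) (v : ZMod p → F) (r : ZMod p) :
    glpTr i k hik v r = v r + (if r = i then v k else 0) := rfl

theorem glp_exists_third (hp : p ≠ 2) (i k : ZMod p) : ∃ r : ZMod p, r ≠ i ∧ r ≠ k := by
  classical
  have hpp : p.Prime := Fact.out
  have h3 : 3 ≤ p := by
    have := hpp.two_le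
    omega
  by_contra hcon
  push Not at hcon
  have h1 : (Finset.univ : Finset (ZMod p)) ⊆ {i, k} := by
    intro r _
    by_cases h : r = i
    · simp [h]
    · simp [hcon r h]
  have h2 := Finset.card_le_card h1
  rw [Finset.card_univ, ZMod.card] at h2
  have h4 : ({i, k} : Finset (ZMod p)).card ≤ 2 := Finset.card_le_two
  omega

/-- Case (α): a diagonal element with a repeated entry lies in two Sylow subgroups. -/
theorem glp_case_alpha (hp : p ≠ 2) (ζ : Fˣ) (hζ : orderOf ζ = p) (d : ZMod p → Fˣ)
    (hd : ∀ r, d r ^ p = 1) (i k : ZMod p) (hik : i ≠ k) (hdik : d i = d k) :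
    glpTwo (glpMon d 0) := by
  classical
  have hpp : p.Prime := Fact.out
  have hζ1 : ζ ≠ 1 := by
    intro h
    rw [h, orderOf_one] at hζ
    exact hpp.one_lt.ne hζ
  have hζp : ζ ^ p = 1 := by rw [← hζ]; exact pow_orderOf_eq_one ζ
  set e : ZMod p → Fˣ := Function.update (fun _ => (1 : Fˣ)) i ζ with he
  have hei : e i = ζ := by simp [he]
  have hek : ∀ r, r ≠ i → e r = 1 := by
    intro r hr
    simp [he, hr]
  have hep : ∀ r, e r ^ p = 1 := by
    intro r
    by_cases h : r = i
    · rw [h, hei, hζp]
    · rw [hek r h, one_pow]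
  apply glpTwo_of_conj (glpMon d 0) (glpTr i k hik) (glpMon e 0) (glpMon_mem d 0 hd) ?_
    (glpMon_mem e 0 hep) ?_
  · have hcomm : glpMon d 0 * glpTr i k hik = glpTr i k hik * glpMon d 0 := by
      apply LinearEquiv.ext
      intro v
      funext r
      rw [LinearEquiv.mul_apply, LinearEquiv.mul_apply, glpMon_apply, glpTr_apply, glpTr_apply,
        glpMon_apply, glpMon_apply, add_zero, add_zero]
      by_cases h : r = i
      · subst h
        rw [if_pos rfl, if_pos rfl, hdik, mul_add]
      · rw [if_neg h, if_neg h, add_zero, add_zero]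
    rw [mul_assoc, hcomm, ← mul_assoc, inv_mul_cancel, one_mul]
    exact glpMon_mem d 0 hd
  · rintro ⟨a, m, ha, hEq⟩
    have hEq2 : glpTr i k hik * glpMon e 0 = glpMon a m * glpTr i k hik := by
      rw [← hEq]
      simp [mul_assoc]
    have key : ∀ (v : ZMod p → F) (r : ZMod p),
        (e r : F) * v r + (if r = i then (e k : F) * v k else 0)
          = (a r : F) * (v (r + m) + (if r + m = i then v k else 0)) := by
      intro v r
      have h1 := congrFun (LinearEquiv.congr_fun hEq2 v) r
      rw [LinearEquiv.mul_apply, LinearEquiv.mul_apply, glpTr_apply, glpMon_apply, glpMon_apply,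
        glpMon_apply, glpTr_apply, add_zero, add_zero] at h1
      exact h1
    obtain ⟨r₀, hr0i, hr0k⟩ := glp_exists_third hp i k
    have hm : m = 0 := by
      by_contra hm
      have h1 := key (Pi.single r₀ 1) r₀
      rw [Pi.single_eq_same, if_neg hr0i, Pi.single_eq_of_ne (fun h => hm (by simpa using h)),
        Pi.single_eq_of_ne hr0k.symm] at h1
      simp at h1
    subst hm
    have h2 := key (Pi.single k 1) i
    rw [if_pos rfl, add_zero, if_pos rfl, Pi.single_eq_same, Pi.single_eq_of_ne hik, hek k hik.symm] at h2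
    have h3 := key (Pi.single i 1) i
    rw [if_pos rfl, add_zero, if_pos rfl, Pi.single_eq_same, Pi.single_eq_of_ne hik.symm, hei] at h3
    simp at h2 h3
    apply hζ1
    apply Units.ext
    rw [h3, ← h2]
    simp

end Cfsg.Agent.Lib.helper23
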