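import Cfsg.Agent.Lib.helper23.GLpE

set_option autoImplicit false

namespace Cfsg.Agent.Lib.helper23

variable {F : Type*} [Field F] {p : ℕ} [Fact p.Prime]

/-- every element of `ZMod p` is `k₀ + n • j` for `j ≠ 0`. -/
theorem glp_orbit (j : ZMod p) (hj : j ≠ 0) (k₀ m : ZMod p) : ∃ n : ℕ, m = k₀ + n • j := by
  have hpp : p.Prime := Fact.out
  haveI : NeZero p := ⟨hpp.ne_zero⟩
  refine ⟨((m - k₀) * j⁻¹).val, ?_⟩
  rw [nsmul_eq_mul, ZMod.natCast_zmod_val, mul_assoc, inv_mul_cancel₀ hj, mul_one]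
  ring

theorem glp_shift_zero (j : ZMod p) (hj : j ≠ 0) (c : ZMod p → F) (hc : ∏ k, c k ≠ 1)
    (v : ZMod p → F) (hv : ∀ k, v (k + j) = c k * v k) : v = 0 := by
  have step : ∀ k₀, v k₀ = 0 → v = 0 := by
    intro k₀ h0
    have h1 : ∀ n : ℕ, v (k₀ + n • j) = 0 := by
      intro n
      induction n with
      | zero => simpa using h0
      | succ n ih =>
        rw [succ_nsmul, ← add_assoc, hv, ih, mul_zero]
    funext m
    obtain ⟨n, rfl⟩ := glp_orbit j hj k₀ m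
    exact h1 n
  by_contra hne
  have hall : ∀ k, v k ≠ 0 := fun k h => hne (step k h)
  have h1 : ∏ k, v (k + j) = ∏ k, v k :=
    Fintype.prod_equiv (Equiv.addRight j) _ _ (fun k => rfl)
  have h2 : ∏ k, v (k + j) = (∏ k, c k) * ∏ k, v k := by
    rw [← Finset.prod_mul_distrib]
    exact Finset.prod_congr rfl (fun k _ => hv k)
  have h3 : ∏ k, v k ≠ 0 := Finset.prod_ne_zero_iff.mpr (fun k _ => hall k)
  rw [h1] at h2
  apply hc
  have h4 : (∏ k, c k) * ∏ k, v k = 1 * ∏ k, v k := by rw [one_mul]; exact h2.symm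
  exact mul_right_cancel₀ h3 h4

theorem glp_two_ne_zero (hp : p ≠ 2) (j : ZMod p) (hj : j ≠ 0) : j + j ≠ 0 := by
  have hpp : p.Prime := Fact.out
  intro h
  have h2 : (2 : ZMod p) * j = 0 := by rw [two_mul]; exact h
  rcases mul_eq_zero.mp h2 with h3 | h3
  · have h4 : ((2 : ℕ) : ZMod p) = 0 := by exact_mod_cast h3
    rw [ZMod.natCast_eq_zero_iff] at h4
    have := (Nat.prime_dvd_prime_iff_eq hpp Nat.prime_two).mp h4
    exact hp this
  · exact hj h3

/-- injectivity of `1 + x` for `x = glpMon d j` with `j ≠ 0` and `∏ d ≠ 1`. -/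
theorem glp_one_add_inj (hp : p ≠ 2) (d : ZMod p → Fˣ) (j : ZMod p) (hj : j ≠ 0)
    (hd : ∀ i, d i ^ p = 1) (hδ : ∏ k, d k ≠ 1) :
    Function.Injective
      ((LinearMap.id : (ZMod p → F) →ₗ[F] (ZMod p → F)) + (glpMon d j : (ZMod p → F) →ₗ[F] (ZMod p → F))) := by
  have hpp : p.Prime := Fact.out
  haveI : NeZero p := ⟨hpp.ne_zero⟩
  rw [← LinearMap.ker_eq_bot, LinearMap.ker_eq_bot']
  intro v hv
  have h1 : ∀ k, v (k + j) = (-((d k)⁻¹ : Fˣ) : F) * v k := by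
    intro k
    have h2 := congrFun hv k
    simp only [LinearMap.add_apply, LinearMap.id_coe, id_eq, LinearEquiv.coe_coe, Pi.add_apply,
      Pi.zero_apply] at h2
    rw [glpMon_apply] at h2
    have h3 : (d k : F) * v (k + j) = - v k := by
      rw [eq_neg_iff_add_eq_zero, add_comm]; exact h2
    have h4 : v (k + j) = ((d k)⁻¹ : Fˣ) * ((d k : F) * v (k + j)) := by
      rw [← mul_assoc, ← Units.val_mul, inv_mul_cancel, Units.val_one, one_mul]
    rw [h4, h3]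
    ring
  apply glp_shift_zero j hj _ ?_ v h1
  set δ : Fˣ := ∏ k, d k with hδdef
  have hodd : Odd p := hpp.odd_of_ne_two hp
  have h5 : ∏ k : ZMod p, (-((d k)⁻¹ : Fˣ) : F) = -((δ⁻¹ : Fˣ) : F) := by
    rw [Finset.prod_neg, Finset.card_univ, ZMod.card, hodd.neg_one_pow, neg_one_mul]
    congr 1
    rw [hδdef, ← Finset.prod_inv_distrib, Units.coe_prod]
  rw [h5]
  intro h6
  have h7 : ((δ⁻¹ : Fˣ) : F) = -1 := by
    rw [← h6]; ring
  have h8 : (δ⁻¹) ^ p = 1 := by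
    rw [inv_pow, hδdef, ← Finset.prod_pow]
    simp [hd]
  have h9 : (((δ⁻¹) ^ p : Fˣ) : F) = 1 := by rw [h8]; rfl
  rw [Units.val_pow_eq_pow_val, h7, hodd.neg_one_pow] at h9
  have h10 : ((δ⁻¹ : Fˣ) : F) = 1 := by rw [h7, h9]
  apply hδ
  have h11 : δ⁻¹ = 1 := Units.ext h10
  exact inv_eq_one.mp h11

end Cfsg.Agent.Lib.helper23
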