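import Cfsg.Agent.Lib.helper23.GLpF

set_option autoImplicit false

namespace Cfsg.Agent.Lib.helper23

variable {F : Type*} [Field F] {p : ℕ} [Fact p.Prime]

/-- Case (δ): `x = glpMon d j`, `j ≠ 0`, `∏ d ≠ 1`. -/
theorem glp_case_delta (hp : p ≠ 2) (ζ : Fˣ) (hζ : orderOf ζ = p) (d : ZMod p → Fˣ) (j : ZMod p)
    (hj : j ≠ 0) (hd : ∀ i, d i ^ p = 1) (hδ : ∏ k, d k ≠ 1) :
    glpTwo (glpMon d j) := by
  classical
  have hpp : p.Prime := Fact.out
  have hζ1 : ζ ≠ 1 := by
    intro h
    rw [h, orderOf_one] at hζ
    exact hpp.one_lt.ne hζ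
  have hζp : ζ ^ p = 1 := by rw [← hζ]; exact pow_orderOf_eq_one ζ
  set e : ZMod p → Fˣ := Function.update (fun _ => (1 : Fˣ)) 0 ζ with he
  have he0 : e 0 = ζ := by simp [he]
  have hek : ∀ r, r ≠ 0 → e r = 1 := by
    intro r hr
    simp [he, hr]
  have hep : ∀ r, e r ^ p = 1 := by
    intro r
    by_cases h : r = 0
    · rw [h, he0, hζp]
    · rw [hek r h, one_pow]
  set g : (ZMod p → F) ≃ₗ[F] (ZMod p → F) :=
    LinearEquiv.ofInjectiveEndo _ (glp_one_add_inj hp d j hj hd hδ) with hg
  have g_apply : ∀ (v : ZMod p → F) (r : ZMod p), g v r = v r + (d r : F) * v (r + j) := by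
    intro v r
    rw [hg, LinearEquiv.coe_ofInjectiveEndo]
    rfl
  apply glpTwo_of_conj (glpMon d j) g (glpMon e 0) (glpMon_mem d j hd) ?_
    (glpMon_mem e 0 hep) ?_
  · have hcomm : glpMon d j * g = g * glpMon d j := by
      apply LinearEquiv.ext
      intro v
      funext r
      rw [LinearEquiv.mul_apply, LinearEquiv.mul_apply, glpMon_apply, g_apply, g_apply,
        glpMon_apply, glpMon_apply]
      ring
    rw [mul_assoc, hcomm, ← mul_assoc, inv_mul_cancel, one_mul]
    exact glpMon_mem d j hd
  · rintro ⟨a, k, ha, hEq⟩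
    have hEq2 : g * glpMon e 0 = glpMon a k * g := by
      rw [← hEq]
      simp [mul_assoc]
    have key : ∀ (v : ZMod p → F) (r : ZMod p),
        (e r : F) * v r + (d r : F) * ((e (r + j) : F) * v (r + j))
          = (a r : F) * (v (r + k) + (d (r + k) : F) * v (r + k + j)) := by
      intro v r
      have h1 := congrFun (LinearEquiv.congr_fun hEq2 v) r
      rw [LinearEquiv.mul_apply, LinearEquiv.mul_apply, g_apply, glpMon_apply, glpMon_apply,
        glpMon_apply, g_apply, add_zero, add_zero] at h1
      exact h1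
    by_cases hk : k = 0
    · subst hk
      have h1 : ∀ r, (e r : F) = a r := by
        intro r
        have h2 := key (Pi.single r 1) r
        rw [add_zero, Pi.single_eq_same, Pi.single_eq_of_ne (fun h => hj (by simpa using h))] at h2
        simpa using h2
      have h3 := key (Pi.single (0 + j) 1) 0
      rw [add_zero, Pi.single_eq_same, Pi.single_eq_of_ne (fun h => hj (by simpa using h.symm)),
        ← h1 0, he0, hek (0 + j) (by simpa using hj)] at h3
      simp at h3
      exact hζ1 h3
    · by_cases hkj : k + j = 0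
      · have h1 := key (Pi.single (0 + j) 1) 0
        have hne1 : (0 : ZMod p) + k ≠ 0 + j := by
          intro h
          have h2 : k = j := by simpa using h
          rw [h2] at hkj
          exact glp_two_ne_zero hp j hj hkj
        have hne2 : (0 : ZMod p) + k + j ≠ 0 + j := by
          intro h
          have h2 : k = 0 := by simpa using h
          exact hk h2
        rw [Pi.single_eq_same, Pi.single_eq_of_ne hne1, Pi.single_eq_of_ne hne2,
          Pi.single_eq_of_ne (fun h => hj (by simpa using h.symm))] at h1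
        simp at h1
      · have h1 := key (Pi.single 0 1) 0
        have hne1 : (0 : ZMod p) + k ≠ 0 := by simpa using hk
        have hne2 : (0 : ZMod p) + k + j ≠ 0 := by simpa using hkj
        rw [Pi.single_eq_same, Pi.single_eq_of_ne hne1, Pi.single_eq_of_ne hne2,
          Pi.single_eq_of_ne (fun h => hj (by simpa using h))] at h1
        simp at h1

end Cfsg.Agent.Lib.helper23
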