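import Cfsg.Agent.Lib.helper23.GLpG

set_option autoImplicit false

open Polynomial

namespace Cfsg.Agent.Lib.helper23

variable {F : Type*} [Field F] {p : ℕ} [Fact p.Prime]

/-- The Vandermonde-type map with nodes `e i`. -/
def glpW (e : ZMod p → Fˣ) : (ZMod p → F) →ₗ[F] (ZMod p → F) where
  toFun v := fun i => ∑ l : ZMod p, (e i : F) ^ l.val * v l
  map_add' v w := by
    funext i
    simp [mul_add, Finset.sum_add_distrib]
  map_smul' c v := by
    funext i
    simp [Finset.mul_sum, mul_left_comm]

theorem glpW_apply (e : ZMod p → Fˣ) (v : ZMod p → F) (i : ZMod p) :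
    glpW e v i = ∑ l : ZMod p, (e i : F) ^ l.val * v l := rfl

theorem glpW_injective (e : ZMod p → Fˣ) (he : Function.Injective e) :
    Function.Injective (glpW (F := F) e) := by
  classical
  have hpp : p.Prime := Fact.out
  haveI : NeZero p := ⟨hpp.ne_zero⟩
  rw [← LinearMap.ker_eq_bot, LinearMap.ker_eq_bot']
  intro v hv
  set P : F[X] := ∑ l : ZMod p, C (v l) * X ^ l.val with hP
  have heval : ∀ i : ZMod p, P.eval ((e i : F)) = 0 := by
    intro i
    have h1 := congrFun hv i
    rw [glpW_apply] at h1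
    rw [Pi.zero_apply] at h1
    rw [hP, eval_finsetSum]
    simp only [eval_mul, eval_C, eval_pow, eval_X]
    rw [← h1]
    exact Finset.sum_congr rfl (fun l _ => mul_comm _ _)
  have hdeg : P.natDegree < Fintype.card (ZMod p) := by
    rw [ZMod.card]
    have h2 : P.natDegree ≤ p - 1 := by
      rw [hP]
      apply natDegree_sum_le_of_forall_le
      intro l _
      refine (natDegree_C_mul_X_pow_le _ _).trans ?_
      have := ZMod.val_lt l
      omega
    have := hpp.one_lt
    omega
  have hinj : Function.Injective (fun i : ZMod p => ((e i : Fˣ) : F)) :=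
    fun a b h => he (Units.ext h)
  have hP0 : P = 0 := eq_zero_of_natDegree_lt_card_of_eval_eq_zero P hinj heval hdeg
  funext l
  have h3 : P.coeff l.val = v l := by
    rw [hP, finsetSum_coeff]
    simp only [coeff_C_mul_X_pow]
    rw [Finset.sum_eq_single l]
    · simp
    · intro b _ hb
      rw [if_neg]
      intro h
      exact hb (ZMod.val_injective p h).symm
    · intro h
      exact absurd (Finset.mem_univ _) h
  rw [← h3, hP0, coeff_zero]
  rfl

/-- The relation `x ∘ W = W ∘ c⁻¹` for the diagonal `x = glpMon e 0`. -/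
theorem glpW_rel (e : ZMod p → Fˣ) (he : ∀ i, e i ^ p = 1) (v : ZMod p → F) :
    glpMon e 0 (glpW e v) = glpW e (glpMon (fun _ => (1 : Fˣ)) (-1) v) := by
  have hpp : p.Prime := Fact.out
  haveI : NeZero p := ⟨hpp.ne_zero⟩
  funext i
  rw [glpMon_apply, add_zero, glpW_apply, glpW_apply, Finset.mul_sum]
  have h1 : ∑ l : ZMod p, (e i : F) ^ l.val * glpMon (fun _ => (1 : Fˣ)) (-1) v l
      = ∑ l : ZMod p, (e i : F) ^ (l + 1).val * v l := by
    rw [← Fintype.sum_equiv (Equiv.addRight (1 : ZMod p))
      (fun l => (e i : F) ^ (l + 1).val * v l)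
      (fun l => (e i : F) ^ l.val * glpMon (fun _ => (1 : Fˣ)) (-1) v l)]
    intro l
    rw [glpMon_apply]
    simp
  rw [h1]
  apply Finset.sum_congr rfl
  intro l _
  have h2 : (e i : F) ^ p = 1 := by
    rw [← Units.val_pow_eq_pow_val, he i]; rfl
  have h3 : (e i : F) ^ (l + 1).val = (e i : F) ^ (l.val + 1) := by
    rw [pow_eq_pow_mod (l.val + 1) h2, ZMod.val_add, ZMod.val_one_eq_one_mod]
    congr 1
    exact (Nat.add_mod_mod _ _ _)
  rw [h3, pow_succ]
  ring

end Cfsg.Agent.Lib.helper23
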