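import Cfsg.Agent.Lib.helper23.GLpH

set_option autoImplicit false

namespace Cfsg.Agent.Lib.helper23

variable {F : Type*} [Field F] {p : ℕ} [Fact p.Prime]

theorem glpTwo_of_conj' (x g s : (ZMod p → F) ≃ₗ[F] (ZMod p → F)) (hx : x ∈ glpQ F p)
    (hx' : g⁻¹ * x * g ∈ glpQ F p) (hs : s ∈ glpQ F p) (hns : g⁻¹ * s * g ∉ glpQ F p) :
    glpTwo x := by
  refine ⟨glpQ F p, (glpQ F p).map (MulAut.conj g).toMonoidHom, ?_, rfl, ?_, hx, ?_⟩
  · intro h
    apply hns
    rw [h] at hs
    obtain ⟨t, ht, hts⟩ := hs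
    have h2 : g⁻¹ * s * g = t := by
      rw [← hts]
      simp [MulAut.conj_apply, mul_assoc]
    rw [h2]
    exact ht
  · rw [Subgroup.card_map_of_injective (MulAut.conj g).injective]
  · refine ⟨g⁻¹ * x * g, hx', ?_⟩
    simp [MulAut.conj_apply, mul_assoc]

theorem glpW_shift (e : ZMod p → Fˣ) (he : ∀ i, e i ^ p = 1) (a : Fˣ) (k : ZMod p)
    (v : ZMod p → F) (i : ZMod p) :
    glpW e (glpMon (fun _ => a) k v) i = (a : F) * (e i : F) ^ ((-k).val) * glpW e v i := by
  have hpp : p.Prime := Fact.out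
  haveI : NeZero p := ⟨hpp.ne_zero⟩
  rw [glpW_apply, glpW_apply, Finset.mul_sum]
  have h2 : (e i : F) ^ p = 1 := by
    rw [← Units.val_pow_eq_pow_val, he i]; rfl
  rw [← Fintype.sum_equiv (Equiv.addRight (-k))
    (fun m => (e i : F) ^ ((m + -k).val) * ((a : F) * v m))
    (fun l => (e i : F) ^ (l.val) * glpMon (fun _ => a) k v l)]
  · apply Finset.sum_congr rfl
    intro m _
    have h3 : (e i : F) ^ ((m + -k).val) = (e i : F) ^ (m.val + (-k).val) := by
      rw [ZMod.val_add, ← pow_eq_pow_mod _ h2]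
    rw [h3, pow_add]
    ring
  · intro m
    rw [glpMon_apply]
    simp

/-- The Vandermonde-type map as a linear equivalence. -/
noncomputable def glpWe (e : ZMod p → Fˣ) (he : Function.Injective e) :
    (ZMod p → F) ≃ₗ[F] (ZMod p → F) :=
  haveI : NeZero p := ⟨(Fact.out : p.Prime).ne_zero⟩
  LinearEquiv.ofInjectiveEndo (glpW e) (glpW_injective e he)

theorem glpWe_apply (e : ZMod p → Fˣ) (he : Function.Injective e) (v : ZMod p → F) :
    glpWe e he v = glpW e v := rfl

theorem glpWe_rel (e : ZMod p → Fˣ) (hinj : Function.Injective e) (he : ∀ i, e i ^ p = 1)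
    (a : Fˣ) (k : ZMod p) :
    glpWe e hinj * glpMon (fun _ => a) k
      = glpMon (fun i => a * e i ^ ((-k).val)) 0 * glpWe e hinj := by
  apply LinearEquiv.ext
  intro v
  funext i
  rw [LinearEquiv.mul_apply, LinearEquiv.mul_apply, glpWe_apply, glpWe_apply, glpW_shift e he,
    glpMon_apply, add_zero]
  push_cast
  ring

end Cfsg.Agent.Lib.helper23
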