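import Cfsg.Agent.Lib.helper23.GLpI

set_option autoImplicit false

namespace Cfsg.Agent.Lib.helper23

variable {F : Type*} [Field F] {p : ℕ} [Fact p.Prime]

theorem glp_one_ne_zero : (1 : ZMod p) ≠ 0 := by
  have hpp : p.Prime := Fact.out
  haveI : Fact (1 < p) := ⟨hpp.one_lt⟩
  exact one_ne_zero

theorem glp_const_of_shift (b : ZMod p → Fˣ) (hb : ∀ i, b i = b (i + -1)) (i : ZMod p) :
    b i = b 0 := by
  have hpp : p.Prime := Fact.out
  haveI : NeZero p := ⟨hpp.ne_zero⟩
  have h1 : ∀ n : ℕ, b (n : ZMod p) = b 0 := by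
    intro n
    induction n with
    | zero => simp
    | succ n ih =>
      rw [hb, ← ih]
      congr 1
      push_cast
      ring
  rw [← h1 i.val, ZMod.natCast_zmod_val]

/-- Case (β): a diagonal element with pairwise distinct entries. -/
theorem glp_case_beta (hp : p ≠ 2) (ζ : Fˣ) (hζ : orderOf ζ = p) (e : ZMod p → Fˣ)
    (he : ∀ i, e i ^ p = 1) (hinj : Function.Injective e) : glpTwo (glpMon e 0) := by
  classical
  have hpp : p.Prime := Fact.out
  haveI : NeZero p := ⟨hpp.ne_zero⟩
  have hζ1 : ζ ≠ 1 := by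
    intro h
    rw [h, orderOf_one] at hζ
    exact hpp.one_lt.ne hζ
  have hζp : ζ ^ p = 1 := by rw [← hζ]; exact pow_orderOf_eq_one ζ
  set W := glpWe (F := F) e hinj with hW
  have h10 : (1 : ZMod p) ≠ 0 := glp_one_ne_zero
  have h20 : (2 : ZMod p) ≠ 0 := by
    have := glp_two_ne_zero hp (1 : ZMod p) h10
    rwa [one_add_one_eq_two] at this
  have h12 : (1 : ZMod p) ≠ 2 := by
    intro h
    apply h10
    have h3 : (1 : ZMod p) + 1 = 1 + 0 := by rw [one_add_one_eq_two, add_zero]; exact h.symm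
    exact add_left_cancel h3
  -- the basic relation
  have hxW : W⁻¹ * glpMon e 0 * W = glpMon (fun _ => (1 : Fˣ)) (-1) := by
    have h3 := glpWe_rel e hinj he 1 (-1)
    have h4 : (fun i => (1 : Fˣ) * e i ^ ((- (-1 : ZMod p)).val)) = e := by
      funext i
      rw [neg_neg, ZMod.val_one_eq_one_mod, Nat.mod_eq_of_lt hpp.one_lt, pow_one, one_mul]
    rw [h4] at h3
    rw [mul_assoc, ← h3, ← mul_assoc, inv_mul_cancel, one_mul]
  set σ : ZMod p → Fˣ := Function.update (fun _ => (1 : Fˣ)) 0 ζ with hσ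
  have hσ0 : σ 0 = ζ := by simp [hσ]
  have hσk : ∀ r, r ≠ 0 → σ r = 1 := by
    intro r hr
    simp [hσ, hr]
  have hσp : ∀ r, σ r ^ p = 1 := by
    intro r
    by_cases h : r = 0
    · rw [h, hσ0, hζp]
    · rw [hσk r h, one_pow]
  apply glpTwo_of_conj' (glpMon e 0) W (glpMon σ 0) (glpMon_mem e 0 he) ?_ (glpMon_mem σ 0 hσp) ?_
  · rw [hxW]
    exact glpMon_mem _ _ (fun _ => one_pow _)
  · rintro ⟨b, k, hb, hEq⟩
    -- `s` commutes with `x`
    have hcomm : glpMon σ 0 * glpMon e 0 = glpMon e 0 * glpMon σ 0 := by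
      rw [glpMon_mul, glpMon_mul]
      congr 1
      funext i
      simp [mul_comm]
    have hcomm2 : glpMon b k * glpMon (fun _ => (1 : Fˣ)) (-1)
        = glpMon (fun _ => (1 : Fˣ)) (-1) * glpMon b k := by
      rw [← hEq, ← hxW]
      have : W⁻¹ * glpMon σ 0 * W * (W⁻¹ * glpMon e 0 * W)
          = W⁻¹ * (glpMon σ 0 * glpMon e 0) * W := by
        simp [mul_assoc]
      rw [this, hcomm]
      simp [mul_assoc]
    rw [glpMon_mul, glpMon_mul] at hcomm2
    have hb1 := (glpMon_inj _ _ _ _ hcomm2).1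
    have hbc : ∀ i, b i = b 0 := by
      apply glp_const_of_shift
      intro i
      have := congrFun hb1 i
      simpa using this
    have hbconst : b = fun _ => b 0 := funext hbc
    rw [hbconst] at hEq
    have h5 : glpMon σ 0 * W = W * glpMon (fun _ => b 0) k := by
      rw [← hEq]
      simp [mul_assoc]
    rw [glpWe_rel e hinj he] at h5
    have h6 : glpMon σ 0 = glpMon (fun i => b 0 * e i ^ ((-k).val)) 0 := mul_right_cancel h5
    have h7 := (glpMon_inj _ _ _ _ h6).1
    set n := (-k).val with hn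
    have hnlt : n < p := ZMod.val_lt _
    have e1 : (1 : Fˣ) = b 0 * e 1 ^ n := by
      have := congrFun h7 1
      rwa [hσk 1 h10] at this
    have e2 : (1 : Fˣ) = b 0 * e 2 ^ n := by
      have := congrFun h7 2
      rwa [hσk 2 h20] at this
    have e0 : ζ = b 0 * e 0 ^ n := by
      have := congrFun h7 0
      rwa [hσ0] at this
    set u : Fˣ := e 1 / e 2 with hu
    have hu1 : u ≠ 1 := by
      intro h
      rw [hu, div_eq_one] at h
      exact h12 (hinj h)
    have hup : u ^ p = 1 := by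
      rw [hu, div_pow, he, he, div_one]
    have hord : orderOf u = p := orderOf_eq_prime hup hu1
    have hun : u ^ n = 1 := by
      rw [hu, div_pow, div_eq_one]
      have h8 : b 0 * e 1 ^ n = b 0 * e 2 ^ n := by rw [← e1, ← e2]
      exact mul_left_cancel h8
    have hdvd : p ∣ n := by
      rw [← hord]
      exact orderOf_dvd_of_pow_eq_one hun
    have hn0 : n = 0 := Nat.eq_zero_of_dvd_of_lt hdvd hnlt
    rw [hn0, pow_zero, mul_one] at e1 e0
    rw [← e1] at e0
    exact hζ1 e0

end Cfsg.Agent.Lib.helper23
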