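import Cfsg.Agent.Lib.helper23.GLpJ

set_option autoImplicit false

namespace Cfsg.Agent.Lib.helper23

variable {F : Type*} [Field F] {p : ℕ} [Fact p.Prime]

theorem glp_zeta_pow_inj (ζ : Fˣ) (hζ : orderOf ζ = p) (n : ℕ) (hn0 : n ≠ 0) (hn : n < p) :
    Function.Injective (fun i : ZMod p => (ζ ^ i.val) ^ n) := by
  have hpp : p.Prime := Fact.out
  haveI : NeZero p := ⟨hpp.ne_zero⟩
  intro i i' h
  simp only [← pow_mul] at h
  have h1 : i.val * n ≡ i'.val * n [MOD p] := by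
    have h0 := pow_eq_pow_iff_modEq.mp h
    rwa [hζ] at h0
  have hcop : Nat.gcd p n = 1 :=
    (Nat.Prime.coprime_iff_not_dvd hpp).mpr (fun hd => hn0 (Nat.eq_zero_of_dvd_of_lt hd hn))
  have h2 : i.val ≡ i'.val [MOD p] := Nat.ModEq.cancel_right_of_coprime hcop h1
  exact ZMod.val_injective p (Nat.ModEq.eq_of_lt_of_lt h2 (ZMod.val_lt i) (ZMod.val_lt i'))

theorem glp_case_gamma_one (hp : p ≠ 2) (ζ : Fˣ) (hζ : orderOf ζ = p) (j : ZMod p) (hj : j ≠ 0) :
    glpTwo (glpMon (fun _ => (1 : Fˣ)) j : (ZMod p → F) ≃ₗ[F] (ZMod p → F)) := by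
  have hpp : p.Prime := Fact.out
  haveI : NeZero p := ⟨hpp.ne_zero⟩
  have hζp : ζ ^ p = 1 := by rw [← hζ]; exact pow_orderOf_eq_one ζ
  set e : ZMod p → Fˣ := fun i => ζ ^ i.val with hedef
  have hinj : Function.Injective e := by
    have := glp_zeta_pow_inj ζ hζ 1 one_ne_zero hpp.one_lt
    simpa using this
  have he : ∀ i, e i ^ p = 1 := fun i => by
    rw [hedef]
    show (ζ ^ i.val) ^ p = 1
    rw [← pow_mul, mul_comm, pow_mul, hζp, one_pow]
  set n := (-j).val with hn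
  have hn0 : n ≠ 0 := by
    rw [hn]
    intro h
    rw [ZMod.val_eq_zero] at h
    exact hj (neg_eq_zero.mp h)
  have hnlt : n < p := ZMod.val_lt _
  set f : ZMod p → Fˣ := fun i => e i ^ n with hfdef
  have hfinj : Function.Injective f := glp_zeta_pow_inj ζ hζ n hn0 hnlt
  have hf : ∀ i, f i ^ p = 1 := fun i => by
    rw [hfdef]
    show (e i ^ n) ^ p = 1
    rw [← pow_mul, mul_comm, pow_mul, he, one_pow]
  have hβ := glp_case_beta hp ζ hζ f hf hfinj
  have hrel := glpWe_rel (F := F) e hinj he 1 j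
  have h4 : (fun i => (1 : Fˣ) * e i ^ ((-j).val)) = f := by
    funext i
    rw [one_mul]
  rw [h4] at hrel
  have h5 : (glpMon (fun _ => (1 : Fˣ)) j : (ZMod p → F) ≃ₗ[F] (ZMod p → F))
      = (glpWe e hinj)⁻¹ * glpMon f 0 * ((glpWe e hinj)⁻¹)⁻¹ := by
    rw [inv_inv, mul_assoc, ← hrel, ← mul_assoc, inv_mul_cancel, one_mul]
  rw [h5]
  exact glpTwo_conj _ _ hβ

theorem glp_prod_orbit (d : ZMod p → Fˣ) (j : ZMod p) (hj : j ≠ 0) :
    ∏ m ∈ Finset.range p, d ((m : ZMod p) * j) = ∏ k, d k := by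
  have hpp : p.Prime := Fact.out
  haveI : NeZero p := ⟨hpp.ne_zero⟩
  have h1 : ∏ m ∈ Finset.range p, d ((m : ZMod p) * j) = ∏ k : ZMod p, d (k * j) := by
    apply Finset.prod_nbij' (fun m : ℕ => (m : ZMod p)) (fun k : ZMod p => k.val)
    · intro a _
      exact Finset.mem_univ _
    · intro a _
      exact Finset.mem_range.mpr (ZMod.val_lt a)
    · intro a ha
      exact ZMod.val_cast_of_lt (Finset.mem_range.mp ha)
    · intro a _
      exact ZMod.natCast_zmod_val a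
    · intro a _
      rfl
  rw [h1]
  exact Fintype.prod_equiv (Equiv.mulRight₀ j hj) _ _ (fun k => rfl)

theorem glp_exists_tau (d : ZMod p → Fˣ) (j : ZMod p) (hj : j ≠ 0) (hprod : ∏ k, d k = 1) :
    ∃ τ : ZMod p → Fˣ, ∀ i, τ (i + j) = τ i * d i := by
  have hpp : p.Prime := Fact.out
  haveI : NeZero p := ⟨hpp.ne_zero⟩
  refine ⟨fun i => ∏ m ∈ Finset.range ((i * j⁻¹).val), d ((m : ZMod p) * j), ?_⟩
  intro i
  set n := (i * j⁻¹).val with hn
  have hnlt : n < p := ZMod.val_lt _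
  have hni : ((n : ℕ) : ZMod p) * j = i := by
    rw [hn, ZMod.natCast_zmod_val, mul_assoc, inv_mul_cancel₀ hj, mul_one]
  have h1 : ((i + j) * j⁻¹).val = (n + 1) % p := by
    rw [add_mul, mul_inv_cancel₀ hj, ZMod.val_add, ZMod.val_one_eq_one_mod, Nat.add_mod_mod]
  have h2 : (∏ m ∈ Finset.range n, d ((m : ZMod p) * j)) * d i
      = ∏ m ∈ Finset.range (n + 1), d ((m : ZMod p) * j) := by
    rw [Finset.prod_range_succ, hni]
  show ∏ m ∈ Finset.range (((i + j) * j⁻¹).val), d ((m : ZMod p) * j)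
      = (∏ m ∈ Finset.range n, d ((m : ZMod p) * j)) * d i
  rw [h1, h2]
  by_cases hlt : n + 1 < p
  · rw [Nat.mod_eq_of_lt hlt]
  · have h3 : n + 1 = p := by omega
    rw [h3, Nat.mod_self, Finset.prod_range_zero, glp_prod_orbit d j hj, hprod]

/-- Case (γ): `x = glpMon d j`, `j ≠ 0`, `∏ d = 1`. -/
theorem glp_case_gamma (hp : p ≠ 2) (ζ : Fˣ) (hζ : orderOf ζ = p) (d : ZMod p → Fˣ) (j : ZMod p)
    (hj : j ≠ 0) (hprod : ∏ k, d k = 1) :
    glpTwo (glpMon d j : (ZMod p → F) ≃ₗ[F] (ZMod p → F)) := by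
  obtain ⟨τ, hτ⟩ := glp_exists_tau d j hj hprod
  have h1 : glpMon τ 0 * glpMon d j
      = (glpMon (fun _ => (1 : Fˣ)) j : (ZMod p → F) ≃ₗ[F] (ZMod p → F)) * glpMon τ 0 := by
    rw [glpMon_mul, glpMon_mul]
    congr 1
    · funext i
      rw [add_zero, one_mul, hτ]
    · rw [zero_add, add_zero]
  have h2 : (glpMon d j : (ZMod p → F) ≃ₗ[F] (ZMod p → F))
      = (glpMon τ 0)⁻¹ * glpMon (fun _ => (1 : Fˣ)) j * ((glpMon τ 0)⁻¹)⁻¹ := by
    rw [inv_inv, mul_assoc, ← h1, ← mul_assoc, inv_mul_cancel, one_mul]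
  rw [h2]
  exact glpTwo_conj _ _ (glp_case_gamma_one hp ζ hζ j hj)

end Cfsg.Agent.Lib.helper23
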