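import Cfsg.Agent.Lib.helper23.GLpK
import Cfsg.Agent.Lib.helper23.GLpA
import Cfsg.Agent.Lib.helper23.GLpC

set_option autoImplicit false

namespace Cfsg.Agent.Lib.helper23

theorem glp_all_two {F : Type*} [Field F] {p : ℕ} [Fact p.Prime] (hp : p ≠ 2) (ζ : Fˣ)
    (hζ : orderOf ζ = p) (x : (ZMod p → F) ≃ₗ[F] (ZMod p → F)) (hx : x ∈ glpQ F p) :
    glpTwo x := by
  classical
  obtain ⟨d, j, hd, rfl⟩ := hx
  by_cases hj : j = 0
  · subst hj
    by_cases hinj : Function.Injective d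
    · exact glp_case_beta hp ζ hζ d hd hinj
    · rw [Function.Injective] at hinj
      push Not at hinj
      obtain ⟨i, k, hdik, hik⟩ := hinj
      exact glp_case_alpha hp ζ hζ d hd i k hik hdik
  · by_cases hprod : ∏ k, d k = 1
    · exact glp_case_gamma hp ζ hζ d j hj hprod
    · exact glp_case_delta hp ζ hζ d j hj hd hprod

theorem glp_abstract {G : Type*} [Group G] [Finite G] (p : ℕ) [Fact p.Prime] (Q₀ : Subgroup G)
    (hcard : Nat.card Q₀ = p ^ (Nat.card G).factorization p)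
    (h : ∀ y ∈ Q₀, ∃ R₁ R₂ : Subgroup G, R₁ ≠ R₂ ∧ Nat.card R₁ = Nat.card Q₀ ∧
      Nat.card R₂ = Nat.card Q₀ ∧ y ∈ R₁ ∧ y ∈ R₂) :
    ∃ Q : Sylow p G, ∀ x : G, (∃ k : ℕ, orderOf x = p ^ k) →
      ∃ P : Sylow p G, P ≠ Q ∧ x ∈ P := by
  classical
  refine ⟨Sylow.ofCard Q₀ hcard, ?_⟩
  rintro x ⟨k, hk⟩
  have hpg : IsPGroup p (Subgroup.zpowers x) :=
    IsPGroup.of_card (n := k) (by rw [Nat.card_zpowers, hk])
  obtain ⟨P', hP'⟩ := hpg.exists_le_sylow
  obtain ⟨g, hg⟩ := MulAction.exists_smul_eq G P' (Sylow.ofCard Q₀ hcard)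
  have hxP : x ∈ P' := hP' (Subgroup.mem_zpowers x)
  have hx : g * x * g⁻¹ ∈ Q₀ := by
    have h1 : g * x * g⁻¹ ∈ ((g • P' : Sylow p G) : Subgroup G) := by
      rw [Sylow.coe_subgroup_smul]
      have := Subgroup.smul_mem_pointwise_smul x (MulAut.conj g) _ hxP
      simpa [MulAut.smul_def] using this
    rw [hg] at h1
    exact h1
  obtain ⟨R₁, R₂, hne, h1, h2, hy1, hy2⟩ := h _ hx
  have hinj : Function.Injective (MulAut.conj g⁻¹).toMonoidHom := (MulAut.conj g⁻¹).injective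
  have hc1 : Nat.card (R₁.map (MulAut.conj g⁻¹).toMonoidHom) = p ^ (Nat.card G).factorization p := by
    rw [Subgroup.card_map_of_injective hinj, h1, hcard]
  have hc2 : Nat.card (R₂.map (MulAut.conj g⁻¹).toMonoidHom) = p ^ (Nat.card G).factorization p := by
    rw [Subgroup.card_map_of_injective hinj, h2, hcard]
  have hx1 : x ∈ R₁.map (MulAut.conj g⁻¹).toMonoidHom :=
    ⟨g * x * g⁻¹, hy1, by simp [mul_assoc]⟩
  have hx2 : x ∈ R₂.map (MulAut.conj g⁻¹).toMonoidHom :=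
    ⟨g * x * g⁻¹, hy2, by simp [mul_assoc]⟩
  have hPne : Sylow.ofCard _ hc1 ≠ Sylow.ofCard _ hc2 := by
    intro hEq
    have h3 := congrArg Sylow.toSubgroup hEq
    exact hne (Subgroup.map_injective hinj h3)
  by_cases hQ : Sylow.ofCard _ hc1 = Sylow.ofCard Q₀ hcard
  · refine ⟨Sylow.ofCard _ hc2, ?_, hx2⟩
    intro h4
    exact hPne (hQ.trans h4.symm)
  · exact ⟨Sylow.ofCard _ hc1, hQ, hx1⟩

/-- The identification of `GL (Fin p) F` with the automorphism group of `ZMod p → F`. -/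
noncomputable def glpIso (F : Type*) [Field F] (p : ℕ) [Fact p.Prime] :
    Matrix.GeneralLinearGroup (Fin p) F ≃* ((ZMod p → F) ≃ₗ[F] (ZMod p → F)) :=
  haveI : NeZero p := ⟨(Fact.out : p.Prime).ne_zero⟩
  (Matrix.GeneralLinearGroup.toLin'
    ((Pi.basisFun F (ZMod p)).reindex (Fintype.equivFinOfCardEq (ZMod.card p)))).trans
    (LinearMap.GeneralLinearGroup.generalLinearEquiv F (ZMod p → F))

theorem glp_main {F : Type*} [Field F] [Fintype F] (p : ℕ) [Fact p.Prime]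
    (hp : p ≠ 2) (h1 : p ∣ Fintype.card F - 1) (h2 : ¬ p ^ 2 ∣ Fintype.card F - 1) :
    ∃ Q : Sylow p (Matrix.GeneralLinearGroup (Fin p) F),
      ∀ x : Matrix.GeneralLinearGroup (Fin p) F,
      (∃ k : ℕ, orderOf x = p ^ k) →
        ∃ P : Sylow p (Matrix.GeneralLinearGroup (Fin p) F), P ≠ Q ∧ x ∈ P := by
  classical
  obtain ⟨ζ, hζ⟩ := glp_exists_zeta (F := F) h1
  set φ := glpIso F p with hφ
  have hinj : Function.Injective φ.symm.toMonoidHom := φ.symm.injective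
  have hcardQ : Nat.card ((glpQ F p).map φ.symm.toMonoidHom) = p ^ (p + 1) := by
    rw [Subgroup.card_map_of_injective hinj, glpQ_card h1]
  apply glp_abstract p ((glpQ F p).map φ.symm.toMonoidHom)
  · rw [hcardQ, glpa_factorization p hp h1 h2]
  · rintro y ⟨z, hz, rfl⟩
    obtain ⟨R₁, R₂, hne, hc1, hc2, hz1, hz2⟩ := glp_all_two hp ζ hζ z hz
    refine ⟨R₁.map φ.symm.toMonoidHom, R₂.map φ.symm.toMonoidHom, ?_, ?_, ?_, ⟨z, hz1, rfl⟩,
      ⟨z, hz2, rfl⟩⟩
    · intro hEq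
      exact hne (Subgroup.map_injective hinj hEq)
    · rw [Subgroup.card_map_of_injective hinj, Subgroup.card_map_of_injective hinj, hc1]
    · rw [Subgroup.card_map_of_injective hinj, Subgroup.card_map_of_injective hinj, hc2]

end Cfsg.Agent.Lib.helper23
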