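import Mathlib
import Cfsg.Agent.Lib.Helper22.Frobenius
import Cfsg.Agent.Lib.helper23.FreeAction

set_option autoImplicit false

namespace Cfsg.Agent.Lib.helper23

open Cfsg.Agent.Lib.Helper22

/-- number of `n`-th roots of `y` -/
noncomputable def rootCount (G : Type*) [Group G] (n : ℕ) (y : G) : ℕ :=
  Nat.card {x : G // x ^ n = y}

theorem rootCount_eq_card_filter {G : Type*} [Group G] [Fintype G] [DecidableEq G] (n : ℕ) (y : G) :
    rootCount G n y = (Finset.univ.filter (fun x : G => x ^ n = y)).card := by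
  unfold rootCount
  rw [Nat.card_eq_fintype_card, Fintype.card_subtype]

theorem rootCount_conj {G : Type*} [Group G] (n : ℕ) (g y : G) :
    rootCount G n (g * y * g⁻¹) = rootCount G n y := by
  unfold rootCount
  apply Nat.card_congr
  refine ⟨fun x => ⟨g⁻¹ * x.1 * g, ?_⟩, fun x => ⟨g * x.1 * g⁻¹, ?_⟩, ?_, ?_⟩
  · have := conj_pow (a := g⁻¹) (b := x.1) (i := n)
    rw [inv_inv] at this
    rw [this, x.2]; group
  · rw [conj_pow, x.2]
  · intro x; apply Subtype.ext; simp only; group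
  · intro x; apply Subtype.ext; simp only; group

/-- fibre identity -/
theorem card_pow_mem_eq_sum {G : Type*} [Group G] [Fintype G] [DecidableEq G] (n : ℕ)
    (Y : Finset G) :
    (Finset.univ.filter (fun x : G => x ^ n ∈ Y)).card = ∑ y ∈ Y, rootCount G n y := by
  have hmaps : ((Finset.univ.filter (fun x : G => x ^ n ∈ Y) : Finset G) : Set G).MapsTo
      (fun x : G => x ^ n) (Y : Set G) := by
    intro x hx
    exact (Finset.mem_filter.mp (Finset.mem_coe.mp hx)).2
  rw [Finset.card_eq_sum_card_fiberwise hmaps]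
  apply Finset.sum_congr rfl
  intro y hy
  rw [rootCount_eq_card_filter]
  congr 1
  ext x
  simp only [Finset.mem_filter, Finset.mem_univ, true_and]
  constructor
  · rintro ⟨_, h⟩; exact h
  · intro h; exact ⟨h ▸ hy, h⟩

theorem card_conj_filter {G : Type*} [Group G] [Fintype G] [DecidableEq G] (c : G) :
    (Finset.univ.filter (fun y : G => IsConj c y)).card =
      (Subgroup.centralizer ({c} : Set G)).index := by
  classical
  rw [index_centralizer_eq_ncard_conj, Set.ncard_eq_toFinset_card']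
  congr 1
  ext y
  simp

/-- Lemma 1 -/
theorem card_isConj_pow {G : Type*} [Group G] [Finite G] (c : G) (n : ℕ) :
    Nat.card {x : G // IsConj c (x ^ n)} =
      (Subgroup.centralizer ({c} : Set G)).index * rootCount G n c := by
  classical
  haveI : Fintype G := Fintype.ofFinite G
  rw [Nat.card_eq_fintype_card, Fintype.card_subtype]
  have h1 : (Finset.univ.filter (fun x : G => IsConj c (x ^ n))) =
      (Finset.univ.filter (fun x : G => x ^ n ∈ Finset.univ.filter (fun y : G => IsConj c y))) := by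
    ext x; simp
  rw [h1, card_pow_mem_eq_sum]
  have h2 : ∀ y ∈ Finset.univ.filter (fun y : G => IsConj c y), rootCount G n y = rootCount G n c := by
    intro y hy
    obtain ⟨g, hg⟩ := isConj_iff.mp (Finset.mem_filter.mp hy).2
    rw [← hg, rootCount_conj]
  rw [Finset.sum_congr rfl h2, Finset.sum_const, smul_eq_mul, card_conj_filter]

/-- roots of `c` lie in the centralizer of `c` -/
theorem rootCount_centralizer {G : Type*} [Group G] (c : G) (n : ℕ) :
    rootCount G n c =
      rootCount (Subgroup.centralizer ({c} : Set G)) n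
        ⟨c, Subgroup.mem_centralizer_iff.mpr (fun h hh => by rw [Set.mem_singleton_iff.mp hh])⟩ := by
  unfold rootCount
  apply Nat.card_congr
  refine ⟨fun x => ⟨⟨x.1, ?_⟩, ?_⟩, fun x => ⟨x.1.1, ?_⟩, ?_, ?_⟩
  · rw [Subgroup.mem_centralizer_iff]
    intro h hh
    rw [Set.mem_singleton_iff.mp hh]
    have hx2 : x.1 ^ n = c := x.2
    calc c * x.1 = x.1 ^ n * x.1 := by rw [hx2]
      _ = x.1 * x.1 ^ n := ((Commute.refl x.1).pow_left n).eq
      _ = x.1 * c := by rw [hx2]
  · apply Subtype.ext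
    simp only [Subgroup.coe_pow]
    exact x.2
  · have := congrArg Subtype.val x.2
    simpa using this
  · intro x; rfl
  · intro x; rfl

/-- Step A: composite exponent, one factor. -/
theorem stepA {H : Type*} [Group H] [Finite H] (c : H) (hc : ∀ g : H, g * c = c * g) (n₁ n₂ : ℕ)
    (ih : ∀ y : H, Nat.gcd n₁ (Nat.card H) ∣
      (Subgroup.centralizer ({y} : Set H)).index * rootCount H n₁ y) :
    Nat.gcd n₁ (Nat.card H) ∣ rootCount H (n₁ * n₂) c := by
  classical
  haveI : Fintype H := Fintype.ofFinite H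
  have h1 : rootCount H (n₁ * n₂) c =
      (Finset.univ.filter (fun x : H => x ^ n₁ ∈ Finset.univ.filter (fun y : H => y ^ n₂ = c))).card := by
    rw [rootCount_eq_card_filter]
    congr 1
    ext x
    simp [pow_mul]
  rw [h1, card_pow_mem_eq_sum]
  apply dvd_sum_of_class_function (rootCount H n₁) (fun g y => rootCount_conj n₁ g y)
  · intro y hy g
    rw [Finset.mem_filter] at hy ⊢
    refine ⟨Finset.mem_univ _, ?_⟩
    rw [conj_pow, hy.2, hc g, mul_inv_cancel_right]
  · intro y _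
    exact ih y

/-- Step B1: translate by a central root. -/
theorem rootCount_mul_central {H : Type*} [Group H] (n : ℕ) (d : H) (hd : ∀ g : H, g * d = d * g) :
    rootCount H n (d ^ n) = rootCount H n 1 := by
  unfold rootCount
  apply Nat.card_congr
  refine ⟨fun x => ⟨x.1 * d⁻¹, ?_⟩, fun x => ⟨x.1 * d, ?_⟩, ?_, ?_⟩
  · have hcomm : Commute x.1 d⁻¹ := (show Commute x.1 d from hd x.1).inv_right
    rw [hcomm.mul_pow, x.2, inv_pow, mul_inv_cancel]
  · have hcomm : Commute x.1 d := hd x.1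
    rw [hcomm.mul_pow, x.2, one_mul]
  · intro x; apply Subtype.ext; simp
  · intro x; apply Subtype.ext; simp

theorem gcd_dvd_rootCount_one {H : Type*} [Group H] [Finite H] (n : ℕ) :
    Nat.gcd n (Nat.card H) ∣ rootCount H n 1 := by
  have h1 : rootCount H n 1 = Nat.card {x : H // x ^ (Nat.gcd n (Nat.card H)) = 1} := by
    unfold rootCount
    apply Nat.card_congr
    refine Equiv.subtypeEquivRight (fun x => ?_)
    constructor
    · intro h
      exact pow_gcd_eq_one.mpr ⟨h, pow_card_eq_one'⟩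
    · intro h
      obtain ⟨k, hk⟩ := Nat.gcd_dvd_left n (Nat.card H)
      rw [hk, pow_mul, h, one_pow]
  rw [h1]
  exact frobenius _ (Nat.gcd_dvd_right n (Nat.card H))

/-- Step B1 complete: `c` central with order coprime to `n`. -/
theorem stepB1 {H : Type*} [Group H] [Finite H] (c : H) (hc : ∀ g : H, g * c = c * g) (n : ℕ)
    (hcop : (orderOf c).Coprime n) :
    Nat.gcd n (Nat.card H) ∣ rootCount H n c := by
  have hcard : (Nat.card (Subgroup.zpowers c)).Coprime n := by rwa [Nat.card_zpowers]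
  obtain ⟨d, hd⟩ := (powCoprime hcard).surjective ⟨c, Subgroup.mem_zpowers c⟩
  have hd' : (d : H) ^ n = c := by
    have := congrArg Subtype.val hd
    simpa using this
  have hdc : ∀ g : H, g * (d : H) = (d : H) * g := by
    intro g
    obtain ⟨k, hk⟩ := Subgroup.mem_zpowers_iff.mp d.2
    rw [← hk]
    exact ((show Commute g c from hc g).zpow_right k).eq
  rw [← hd', rootCount_mul_central n (d : H) hdc]
  exact gcd_dvd_rootCount_one n

theorem dvd_card_of_fibers {A B : Type*} [Fintype A] [DecidableEq B] (f : A → B) (d : ℕ)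
    (h : ∀ a₀ : A, d ∣ (Finset.univ.filter (fun a : A => f a = f a₀)).card) :
    d ∣ Fintype.card A := by
  classical
  rw [← Finset.card_univ, Finset.card_eq_sum_card_image f Finset.univ]
  apply Finset.dvd_sum
  intro b hb
  obtain ⟨a₀, _, rfl⟩ := Finset.mem_image.mp hb
  exact h a₀

/-- Fact 1: the order of an `q^a`-th root of `c` when `q ∣ orderOf c`. -/
theorem orderOf_root {H : Type*} [Group H] [Finite H] {q a : ℕ} (hq : q.Prime) {c x : H}
    (hqc : q ∣ orderOf c) (hx : x ^ q ^ a = c) : orderOf x = q ^ a * orderOf c := by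
  have h1 : orderOf c = orderOf x / Nat.gcd (orderOf x) (q ^ a) := by
    rw [← hx]; exact orderOf_pow x
  obtain ⟨b, hba, hb⟩ := (Nat.dvd_prime_pow hq).mp (Nat.gcd_dvd_right (orderOf x) (q ^ a))
  have h2 : orderOf x = orderOf c * q ^ b := by
    rw [h1, hb]
    exact (Nat.div_mul_cancel (hb ▸ Nat.gcd_dvd_left (orderOf x) (q ^ a))).symm
  have hba' : b = a := by
    by_contra hne
    have hlt : b < a := lt_of_le_of_ne hba hne
    have h3 : q ^ (b + 1) ∣ orderOf x := by
      rw [h2, pow_succ, mul_comm (orderOf c)]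
      exact Nat.mul_dvd_mul_left _ hqc
    have h4 : q ^ (b + 1) ∣ q ^ a := pow_dvd_pow q hlt
    have h5 : q ^ (b + 1) ∣ q ^ b := by
      rw [← hb]; exact Nat.dvd_gcd h3 h4
    have h6 := Nat.le_of_dvd (pow_pos hq.pos b) h5
    have h7 : q ^ b < q ^ (b + 1) := Nat.pow_lt_pow_right hq.one_lt (Nat.lt_succ_self b)
    omega
  rw [h2, hba', mul_comm]

theorem root_div_mem {H : Type*} [Group H] {n m : ℕ} (hn : 0 < n) {c x₀ y : H}
    (hx₀ : x₀ ^ n = c) (ho : orderOf x₀ = n * m) (hy : y ^ n = c)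
    (hmem : y ∈ Subgroup.zpowers x₀) : y * x₀⁻¹ ∈ Subgroup.zpowers (x₀ ^ m) := by
  obtain ⟨k, hk⟩ := Subgroup.mem_zpowers_iff.mp hmem
  have h1 : x₀ ^ ((k - 1) * (n : ℤ)) = 1 := by
    have hcomm : Commute (x₀ ^ k) x₀⁻¹ := ((Commute.refl x₀).zpow_left k).inv_right
    have e : x₀ ^ (k - 1) = x₀ ^ k * x₀⁻¹ := zpow_sub_one x₀ k
    rw [zpow_mul, e, zpow_natCast, hcomm.mul_pow, hk, hy, inv_pow, hx₀, mul_inv_cancel]
  have h2 : ((orderOf x₀ : ℕ) : ℤ) ∣ (k - 1) * (n : ℤ) := orderOf_dvd_iff_zpow_eq_one.mpr h1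
  rw [ho] at h2
  have h3 : (m : ℤ) ∣ k - 1 := by
    have hn0 : (n : ℤ) ≠ 0 := by exact_mod_cast hn.ne'
    have h4 : (n : ℤ) * (m : ℤ) ∣ (n : ℤ) * (k - 1) := by
      rw [mul_comm (n : ℤ) (k - 1)]
      exact_mod_cast h2
    exact (mul_dvd_mul_iff_left hn0).mp h4
  obtain ⟨j, hj⟩ := h3
  rw [Subgroup.mem_zpowers_iff]
  refine ⟨j, ?_⟩
  rw [← hk, ← zpow_natCast, ← zpow_mul, ← hj, zpow_sub_one]

theorem root_mul_pow {H : Type*} [Group H] {n m : ℕ} {c x₀ w : H}
    (hx₀ : x₀ ^ n = c) (ho : orderOf x₀ = n * m)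
    (hw : w ∈ Subgroup.zpowers (x₀ ^ m)) :
    (w * x₀) ^ n = c ∧ w * x₀ ∈ Subgroup.zpowers x₀ := by
  obtain ⟨j, hj⟩ := Subgroup.mem_zpowers_iff.mp hw
  have hw' : w = x₀ ^ ((m : ℤ) * j) := by
    rw [← hj, zpow_mul, zpow_natCast]
  have hcomm : Commute w x₀ := by
    rw [hw']
    exact (Commute.refl x₀).zpow_left _
  refine ⟨?_, ?_⟩
  · rw [hcomm.mul_pow, hx₀, hw', ← zpow_natCast, ← zpow_mul]
    have : x₀ ^ ((m : ℤ) * j * (n : ℤ)) = 1 := by
      rw [← orderOf_dvd_iff_zpow_eq_one, ho]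
      refine ⟨j, ?_⟩
      push_cast
      ring
    rw [this, one_mul]
  · apply Subgroup.mul_mem _ _ (Subgroup.mem_zpowers _)
    rw [hw']
    exact Subgroup.zpow_mem _ (Subgroup.mem_zpowers _) _

/-- the fibre of `x ↦ zpowers x` on the set of `q^a`-th roots of `c` through `x₀`. -/
theorem card_fiber_zpowers {H : Type*} [Group H] [Finite H] {q a : ℕ} (hq : q.Prime) {c : H}
    (hqc : q ∣ orderOf c) (x₀ : {x : H // x ^ q ^ a = c}) :
    Nat.card {y : {x : H // x ^ q ^ a = c} // Subgroup.zpowers y.1 = Subgroup.zpowers x₀.1} =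
      q ^ a := by
  have hmpos : 0 < orderOf c := orderOf_pos c
  have hnpos : 0 < q ^ a := pow_pos hq.pos a
  have hx₀ : x₀.1 ^ q ^ a = c := x₀.2
  have ho : orderOf x₀.1 = q ^ a * orderOf c := orderOf_root hq hqc hx₀
  have hcard : Nat.card (Subgroup.zpowers (x₀.1 ^ orderOf c)) = q ^ a := by
    rw [Nat.card_zpowers, orderOf_pow, ho, Nat.gcd_mul_left_left, Nat.mul_div_cancel _ hmpos]
  refine (Nat.card_congr ?_).trans hcard
  refine ⟨fun y => ⟨y.1.1 * x₀.1⁻¹, ?_⟩, fun w => ⟨⟨w.1 * x₀.1, ?_⟩, ?_⟩, ?_, ?_⟩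
  · have hy : y.1.1 ∈ Subgroup.zpowers x₀.1 :=
      y.2.le (Subgroup.mem_zpowers y.1.1)
    exact root_div_mem hnpos hx₀ ho y.1.2 hy
  · exact (root_mul_pow hx₀ ho w.2).1
  · have h1 := root_mul_pow hx₀ ho w.2
    have ho' : orderOf (w.1 * x₀.1) = q ^ a * orderOf c := orderOf_root hq hqc h1.1
    apply Subgroup.eq_of_le_of_card_ge
    · exact Subgroup.zpowers_le.mpr h1.2
    · rw [Nat.card_zpowers, Nat.card_zpowers, ho, ho']
  · intro y
    apply Subtype.ext
    apply Subtype.ext
    simp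
  · intro w
    apply Subtype.ext
    simp

/-- Step B2. -/
theorem stepB2 {H : Type*} [Group H] [Finite H] {q a : ℕ} (hq : q.Prime) {c : H}
    (hqc : q ∣ orderOf c) : q ^ a ∣ rootCount H (q ^ a) c := by
  classical
  unfold rootCount
  haveI : Fintype {x : H // x ^ q ^ a = c} := Fintype.ofFinite _
  rw [Nat.card_eq_fintype_card]
  apply dvd_card_of_fibers (fun x : {x : H // x ^ q ^ a = c} => Subgroup.zpowers x.1)
  intro x₀
  have := card_fiber_zpowers (a := a) hq hqc x₀
  rw [Nat.card_eq_fintype_card, Fintype.card_subtype] at this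
  rw [this]

universe u

/-- the inductive hypothesis shape -/
def HallFrobHyp (n : ℕ) : Prop :=
  ∀ (G : Type u) [Group G] [Finite G] (c : G),
    Nat.gcd ((Subgroup.centralizer ({c} : Set G)).index * n) (Nat.card G) ∣
      (Subgroup.centralizer ({c} : Set G)).index * rootCount G n c

theorem central_case (n : ℕ) (ih : ∀ m < n, HallFrobHyp.{u} m)
    (H : Type u) [Group H] [Finite H] (c : H) (hc : ∀ g : H, g * c = c * g) :
    Nat.gcd n (Nat.card H) ∣ rootCount H n c := by
  rcases Nat.eq_zero_or_pos n with h0 | hpos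
  · subst h0
    rw [Nat.gcd_zero_left]
    by_cases hc1 : c = 1
    · subst hc1
      have : rootCount H 0 1 = Nat.card H := by
        unfold rootCount
        apply Nat.card_congr
        exact ⟨fun x => x.1, fun x => ⟨x, pow_zero x⟩, fun x => rfl, fun x => rfl⟩
      rw [this]
    · have : rootCount H 0 c = 0 := by
        unfold rootCount
        haveI : IsEmpty {x : H // x ^ 0 = c} := ⟨fun x => hc1 (by rw [← x.2, pow_zero])⟩
        exact Nat.card_of_isEmpty
      rw [this]
      exact dvd_zero _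
  by_cases h1 : n = 1
  · subst h1
    rw [Nat.gcd_one_left]
    exact one_dvd _
  -- n ≥ 2
  have hq : (n.minFac).Prime := Nat.minFac_prime h1
  obtain ⟨q, hqdef⟩ : ∃ q, q = n.minFac := ⟨_, rfl⟩
  rw [← hqdef] at hq
  have hqn : q ∣ n := hqdef ▸ Nat.minFac_dvd n
  obtain ⟨a, hadef⟩ : ∃ a, a = n.factorization q := ⟨_, rfl⟩
  have ha1 : 1 ≤ a := by
    rw [hadef]
    exact (hq.factorization_pos_of_dvd hpos.ne' hqn)
  obtain ⟨n₂, hn₂def⟩ : ∃ n₂, n₂ = n / q ^ a := ⟨_, rfl⟩
  have hn_eq : q ^ a * n₂ = n := by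
    rw [hn₂def, hadef]
    exact Nat.ordProj_mul_ordCompl_eq_self n q
  have hcop : (q ^ a).Coprime n₂ := by
    rw [hn₂def, hadef]
    exact Nat.Coprime.pow_left _ (Nat.coprime_ordCompl hq hpos.ne')
  have hqa2 : 2 ≤ q ^ a := by
    calc 2 ≤ q := hq.two_le
      _ = q ^ 1 := (pow_one q).symm
      _ ≤ q ^ a := Nat.pow_le_pow_right hq.pos ha1
  by_cases hn₂ : n₂ = 1
  · -- prime power
    rw [hn₂, mul_one] at hn_eq
    rw [← hn_eq]
    by_cases hqc : q ∣ orderOf c
    · exact dvd_trans (Nat.gcd_dvd_left _ _) (stepB2 hq hqc)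
    · apply stepB1 c hc
      exact Nat.Coprime.pow_right a ((Nat.Coprime.symm ((Nat.Prime.coprime_iff_not_dvd hq).mpr hqc)))
  · -- composite with two coprime factors
    have hn₂pos : 0 < n₂ := by
      rcases Nat.eq_zero_or_pos n₂ with h | h
      · rw [h, mul_zero] at hn_eq; omega
      · exact h
    have hn₂2 : 2 ≤ n₂ := by omega
    have hlt1 : q ^ a < n := by
      rw [← hn_eq]; nlinarith
    have hlt2 : n₂ < n := by
      rw [← hn_eq]; nlinarith
    have ih1 : ∀ y : H, Nat.gcd (q ^ a) (Nat.card H) ∣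
        (Subgroup.centralizer ({y} : Set H)).index * rootCount H (q ^ a) y := fun y =>
      dvd_trans (Nat.gcd_dvd_gcd_of_dvd_left _ (dvd_mul_left _ _)) (ih (q ^ a) hlt1 H y)
    have ih2 : ∀ y : H, Nat.gcd n₂ (Nat.card H) ∣
        (Subgroup.centralizer ({y} : Set H)).index * rootCount H n₂ y := fun y =>
      dvd_trans (Nat.gcd_dvd_gcd_of_dvd_left _ (dvd_mul_left _ _)) (ih n₂ hlt2 H y)
    have d1 := stepA c hc (q ^ a) n₂ ih1
    have d2 := stepA c hc n₂ (q ^ a) ih2
    rw [mul_comm n₂] at d2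
    rw [hn_eq] at d1 d2
    have hg : Nat.gcd n (Nat.card H) =
        Nat.gcd (q ^ a) (Nat.card H) * Nat.gcd n₂ (Nat.card H) := by
      rw [← hn_eq, Nat.gcd_comm, Nat.Coprime.gcd_mul _ hcop, Nat.gcd_comm,
        Nat.gcd_comm (Nat.card H) n₂]
    rw [hg]
    refine Nat.Coprime.mul_dvd_of_dvd_of_dvd ?_ d1 d2
    exact Nat.Coprime.coprime_dvd_left (Nat.gcd_dvd_left _ _)
      (Nat.Coprime.coprime_dvd_right (Nat.gcd_dvd_left _ _) hcop)

theorem hallFrob_all : ∀ n : ℕ, HallFrobHyp.{u} n := by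
  intro n
  induction n using Nat.strong_induction_on with
  | _ n ih =>
  intro G _ _ c
  have hcardG : Nat.card G = (Subgroup.centralizer ({c} : Set G)).index *
      Nat.card (Subgroup.centralizer ({c} : Set G)) := by
    rw [mul_comm]; exact (Subgroup.card_mul_index _).symm
  rw [hcardG, Nat.gcd_mul_left]
  apply Nat.mul_dvd_mul_left
  rw [rootCount_centralizer]
  apply central_case n ih
  intro g
  apply Subtype.ext
  show (g : G) * c = c * (g : G)
  exact (Subgroup.mem_centralizer_iff.mp g.2 c rfl).symm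

/-- P. Hall's generalization of Frobenius' theorem. -/
theorem hall_frobenius {G : Type u} [Group G] [Finite G] (c : G) (n : ℕ) :
    Nat.gcd (Nat.card {y : G // IsConj c y} * n) (Nat.card G) ∣
      Nat.card {x : G // IsConj c (x ^ n)} := by
  have h1 : Nat.card {y : G // IsConj c y} = (Subgroup.centralizer ({c} : Set G)).index := by
    rw [index_centralizer_eq_ncard_conj]
    rfl
  rw [h1, card_isConj_pow]
  exact hallFrob_all n G c

end Cfsg.Agent.Lib.helper23
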