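import Cfsg.Agent.Lib.helper23.HsqData
import Cfsg.Agent.Lib.helper23.PgX

set_option autoImplicit false
set_option maxRecDepth 1000000
set_option Elab.async false

/-!
# The Higman–Sims group on 100 points: the checks of the stabiliser chain
-/

namespace Cfsg.Agent.Lib.helper23

open Subgroup MulAction

theorem hsqchk0x6 : pgChkLvlW0 100 hsqL6 [] = true := by decide +kernel
theorem hsqchk0x5 : pgChkLvlW0 100 hsqL5 [hsqL6] = true := by decide +kernel
theorem hsqchk0x4 : pgChkLvlW0 100 hsqL4 [hsqL5, hsqL6] = true := by decide +kernel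
theorem hsqchk0x3 : pgChkLvlW0 100 hsqL3 [hsqL4, hsqL5, hsqL6] = true := by decide +kernel
theorem hsqchk0x2 : pgChkLvlW0 100 hsqL2 [hsqL3, hsqL4, hsqL5, hsqL6] = true := by decide +kernel
theorem hsqchk0x1 : pgChkLvlW0 100 hsqL1 [hsqL2, hsqL3, hsqL4, hsqL5, hsqL6] = true := by decide +kernel

theorem hsqcl6x0 : pgChkGenW 100 (List.range 100) hsqL6 []
    (hsqgen hsqT6x0 hsqI6x0) 0 100 = true := by
  decide +kernel
theorem hsqcl6x1 : pgChkGenW 100 (List.range 100) hsqL6 []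
    (hsqgen hsqT6x1 hsqI6x1) 0 100 = true := by
  decide +kernel
theorem hsqcl5x0 : pgChkGenW 100 (List.range 100) hsqL5 [hsqL6]
    (hsqgen hsqT5x0 hsqI5x0) 0 100 = true := by
  decide +kernel
theorem hsqcl5x1 : pgChkGenW 100 (List.range 100) hsqL5 [hsqL6]
    (hsqgen hsqT5x1 hsqI5x1) 0 100 = true := by
  decide +kernel
theorem hsqcl5x2 : pgChkGenW 100 (List.range 100) hsqL5 [hsqL6]
    (hsqgen hsqT5x2 hsqI5x2) 0 100 = true := by
  decide +kernel
theorem hsqcl4x0 : pgChkGenW 100 (List.range 100) hsqL4 [hsqL5, hsqL6]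
    (hsqgen hsqT4x0 hsqI4x0) 0 100 = true := by
  decide +kernel
theorem hsqcl4x1 : pgChkGenW 100 (List.range 100) hsqL4 [hsqL5, hsqL6]
    (hsqgen hsqT4x1 hsqI4x1) 0 100 = true := by
  decide +kernel
theorem hsqcl3x0 : pgChkGenW 100 (List.range 100) hsqL3 [hsqL4, hsqL5, hsqL6]
    (hsqgen hsqT3x0 hsqI3x0) 0 100 = true := by
  decide +kernel
theorem hsqcl3x1 : pgChkGenW 100 (List.range 100) hsqL3 [hsqL4, hsqL5, hsqL6]
    (hsqgen hsqT3x1 hsqI3x1) 0 100 = true := by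
  decide +kernel
theorem hsqcl2x0 : pgChkGenW 100 (List.range 100) hsqL2 [hsqL3, hsqL4, hsqL5, hsqL6]
    (hsqgen hsqT2x0 hsqI2x0) 0 100 = true := by
  decide +kernel
theorem hsqcl2x1 : pgChkGenW 100 (List.range 100) hsqL2 [hsqL3, hsqL4, hsqL5, hsqL6]
    (hsqgen hsqT2x1 hsqI2x1) 0 100 = true := by
  decide +kernel
theorem hsqcl1x0 : pgChkGenW 100 (List.range 100) hsqL1 [hsqL2, hsqL3, hsqL4, hsqL5, hsqL6]
    (hsqgen hsqT1x0 hsqI1x0) 0 100 = true := by
  decide +kernel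
theorem hsqcl1x1 : pgChkGenW 100 (List.range 100) hsqL1 [hsqL2, hsqL3, hsqL4, hsqL5, hsqL6]
    (hsqgen hsqT1x1 hsqI1x1) 0 100 = true := by
  decide +kernel

theorem hsqchkL6 : pgChkLvlW 100 (List.range 100) hsqL6 [] = true := by
  apply pgChkLvlW_ofAllX hsqchk0x6
  intro s hs
  change s ∈ [hsqgen hsqT6x0 hsqI6x0, hsqgen hsqT6x1 hsqI6x1] at hs
  simp only [List.mem_cons, List.not_mem_nil, or_false] at hs
  rcases hs with rfl | rfl
  · exact hsqcl6x0
  · exact hsqcl6x1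

theorem hsqchkL5 : pgChkLvlW 100 (List.range 100) hsqL5 [hsqL6] = true := by
  apply pgChkLvlW_ofAllX hsqchk0x5
  intro s hs
  change s ∈ [hsqgen hsqT5x0 hsqI5x0, hsqgen hsqT5x1 hsqI5x1, hsqgen hsqT5x2 hsqI5x2] at hs
  simp only [List.mem_cons, List.not_mem_nil, or_false] at hs
  rcases hs with rfl | rfl | rfl
  · exact hsqcl5x0
  · exact hsqcl5x1
  · exact hsqcl5x2

theorem hsqchkL4 : pgChkLvlW 100 (List.range 100) hsqL4 [hsqL5, hsqL6] = true := by
  apply pgChkLvlW_ofAllX hsqchk0x4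
  intro s hs
  change s ∈ [hsqgen hsqT4x0 hsqI4x0, hsqgen hsqT4x1 hsqI4x1] at hs
  simp only [List.mem_cons, List.not_mem_nil, or_false] at hs
  rcases hs with rfl | rfl
  · exact hsqcl4x0
  · exact hsqcl4x1

theorem hsqchkL3 : pgChkLvlW 100 (List.range 100) hsqL3 [hsqL4, hsqL5, hsqL6] = true := by
  apply pgChkLvlW_ofAllX hsqchk0x3
  intro s hs
  change s ∈ [hsqgen hsqT3x0 hsqI3x0, hsqgen hsqT3x1 hsqI3x1] at hs
  simp only [List.mem_cons, List.not_mem_nil, or_false] at hs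
  rcases hs with rfl | rfl
  · exact hsqcl3x0
  · exact hsqcl3x1

theorem hsqchkL2 : pgChkLvlW 100 (List.range 100) hsqL2 [hsqL3, hsqL4, hsqL5, hsqL6] = true := by
  apply pgChkLvlW_ofAllX hsqchk0x2
  intro s hs
  change s ∈ [hsqgen hsqT2x0 hsqI2x0, hsqgen hsqT2x1 hsqI2x1] at hs
  simp only [List.mem_cons, List.not_mem_nil, or_false] at hs
  rcases hs with rfl | rfl
  · exact hsqcl2x0
  · exact hsqcl2x1

theorem hsqchkL1 : pgChkLvlW 100 (List.range 100) hsqL1 [hsqL2, hsqL3, hsqL4, hsqL5, hsqL6] = true := by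
  apply pgChkLvlW_ofAllX hsqchk0x1
  intro s hs
  change s ∈ [hsqgen hsqT1x0 hsqI1x0, hsqgen hsqT1x1 hsqI1x1] at hs
  simp only [List.mem_cons, List.not_mem_nil, or_false] at hs
  rcases hs with rfl | rfl
  · exact hsqcl1x0
  · exact hsqcl1x1

/-- the stabiliser chain -/
def hsqC : List PgLvlW := [hsqL1, hsqL2, hsqL3, hsqL4, hsqL5, hsqL6]

theorem hsqchkC : pgChkW 100 (pgRigidAll 100).base hsqC = true := by
  change pgChkW 100 (List.range 100) [hsqL1, hsqL2, hsqL3, hsqL4, hsqL5, hsqL6] = true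
  rw [pgChkW_cons, pgChkW_cons, pgChkW_cons, pgChkW_cons, pgChkW_cons, pgChkW_cons, hsqchkL1, hsqchkL2, hsqchkL3, hsqchkL4, hsqchkL5, hsqchkL6]
  rfl

end Cfsg.Agent.Lib.helper23
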