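import Cfsg.Agent.Lib.helper23.HvData
import Cfsg.Agent.Lib.Lead.ConwayHS2

set_option autoImplicit false
set_option maxRecDepth 1000000
set_option Elab.async false

/-!
# The Higman-Sims group on 100 + 352 minimal vectors: the kernel computations on the vectors
-/

namespace Cfsg.Agent.Lib.helper23

open Cfsg
open Cfsg.Agent.Lib.helper3 Cfsg.Agent.Lib.helper4 Cfsg.Agent.Lib.Lead.CW
open Cfsg.Agent.Lib.Lead.HS Cfsg.Agent.Lib.helper14.MS
open Cfsg.Agent.S0398

/-- the action of the second generator on the vectors -/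
def hvW2 (x : V) : V := fun p =>
  xiV (fun q => xiV (fun r => x (Helper12.Golay.tblFun hvTb r)) (Helper12.Golay.tblFun hvTp q))
    (Helper12.Golay.tblFun hvTs p)

theorem hv_st1 : ∀ i : Fin 452, ∀ p : GolayPt,
    hvV i (Helper12.Golay.tblFun hvT1 p) = hvV (hvclk hvcT1x0 i) p := by decide +kernel

theorem hv_st2 : ∀ i : Fin 452, ∀ p : GolayPt,
    hvW2 (hvV i) p = hvV (hvclk hvcT1x1 i) p := by decide +kernel

theorem hv_leech : ∀ i : Fin 452, isLeechB (hvV i) = true := by decide +kernel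

theorem hv_norm : ∀ i : Fin 452, sqNorm (hvV i) = 32 := by decide +kernel

theorem hv_dotw : ∀ i : Fin 452, dotInt wSv (hvV i) = -24 := by decide +kernel

theorem hv_dotu1 : ∀ i : Fin 100, dotInt u48v (hvV i) = 24 := by decide +kernel

theorem hv_dotu2 : ∀ i : Fin 352, dotInt u48v (hvV (100 + i.1)) = 16 := by decide +kernel

theorem hv_enc : ∀ i : Fin 452, encV (hvV i) = hvCode i := by decide +kernel

theorem hv_code_ne : ∀ i : Fin 452, ∀ j : Fin 452, i.1 < j.1 → hvCode i ≠ hvCode j := by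
  decide +kernel

/-! ### the coordinate permutations -/

theorem hvT1_inv : (∀ p, Helper12.Golay.tblFun hvT1i (Helper12.Golay.tblFun hvT1 p) = p) ∧
    ∀ p, Helper12.Golay.tblFun hvT1 (Helper12.Golay.tblFun hvT1i p) = p := by decide +kernel

theorem hvTb_inv : (∀ p, Helper12.Golay.tblFun hvTbi (Helper12.Golay.tblFun hvTb p) = p) ∧
    ∀ p, Helper12.Golay.tblFun hvTb (Helper12.Golay.tblFun hvTbi p) = p := by decide +kernel

theorem hvTp_inv : (∀ p, Helper12.Golay.tblFun hvTpi (Helper12.Golay.tblFun hvTp p) = p) ∧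
    ∀ p, Helper12.Golay.tblFun hvTp (Helper12.Golay.tblFun hvTpi p) = p := by decide +kernel

theorem hvTs_inv : (∀ p, Helper12.Golay.tblFun hvTsi (Helper12.Golay.tblFun hvTs p) = p) ∧
    ∀ p, Helper12.Golay.tblFun hvTs (Helper12.Golay.tblFun hvTsi p) = p := by decide +kernel

/-- the coordinate permutation of the first generator -/
def hvP1 : Equiv.Perm GolayPt :=
  ⟨Helper12.Golay.tblFun hvT1, Helper12.Golay.tblFun hvT1i, hvT1_inv.1, hvT1_inv.2⟩

/-- the first coordinate permutation of the second generator -/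
def hvPb : Equiv.Perm GolayPt :=
  ⟨Helper12.Golay.tblFun hvTb, Helper12.Golay.tblFun hvTbi, hvTb_inv.1, hvTb_inv.2⟩

/-- the middle coordinate permutation of the second generator -/
def hvPp : Equiv.Perm GolayPt :=
  ⟨Helper12.Golay.tblFun hvTp, Helper12.Golay.tblFun hvTpi, hvTp_inv.1, hvTp_inv.2⟩

/-- the last coordinate permutation of the second generator -/
def hvPs : Equiv.Perm GolayPt :=
  ⟨Helper12.Golay.tblFun hvTs, Helper12.Golay.tblFun hvTsi, hvTs_inv.1, hvTs_inv.2⟩

theorem hvP1_mem : hvP1 ∈ M24 :=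
  Helper12.Golay.mem_M24_of_table (Tinv := hvT1i) ⟨rfl, by decide +kernel⟩ (by decide)
    (by decide +kernel)

theorem hvPb_mem : hvPb ∈ M24 :=
  Helper12.Golay.mem_M24_of_table (Tinv := hvTbi) ⟨rfl, by decide +kernel⟩ (by decide)
    (by decide +kernel)

theorem hvPp_mem : hvPp ∈ M24 :=
  Helper12.Golay.mem_M24_of_table (Tinv := hvTpi) ⟨rfl, by decide +kernel⟩ (by decide)
    (by decide +kernel)

theorem hvPs_mem : hvPs ∈ M24 :=
  Helper12.Golay.mem_M24_of_table (Tinv := hvTsi) ⟨rfl, by decide +kernel⟩ (by decide)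
    (by decide +kernel)

/-! ### the fixed vectors -/

theorem hvE1_fixu : ∀ p, u48v (Helper12.Golay.tblFun hvT1 p) = u48v p := by decide +kernel

theorem hvE1_fixw : ∀ p, wSv (Helper12.Golay.tblFun hvT1 p) = wSv p := by decide +kernel

theorem hvE2_fixu : ∀ p, hvW2 u48v p = u48v p := by decide +kernel

theorem hvE2_fixw : ∀ p, hvW2 wSv p = wSv p := by decide +kernel

/-! ### the tables -/

theorem hvc_ok1 : (hvcgen hvcT1x0 hvcI1x0).ok 452 = true := by decide +kernel

theorem hvc_ok2 : (hvcgen hvcT1x1 hvcI1x1).ok 452 = true := by decide +kernel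

end Cfsg.Agent.Lib.helper23
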