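import Cfsg.Agent.Lib.Lead.ConwayHSGroup

set_option autoImplicit false
set_option maxRecDepth 1000000
set_option linter.constructorNameAsVariable false

/-!
# The 352 minimal vectors attached to the standard Higman-Sims frame

The minimal vectors `x` with `u48 · x = 16` and `wS · x = -24` are the 176 vectors `2 · 1_O`, `O` an
octad through `0` avoiding `∞`, and their images under `x ↦ -wS - x`.
-/

namespace Cfsg.Agent.Lib.helper23

open Cfsg
open Cfsg.Agent.Lib.helper3 Cfsg.Agent.Lib.helper4 Cfsg.Agent.Lib.Lead.CW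
open Cfsg.Agent.Lib.Lead.HS Cfsg.Agent.Lib.Lead.CP Cfsg.Agent.Lib.Lead.LC Cfsg.Agent.Lib.Lead.LC3
open Cfsg.Agent.S0398 Cfsg.Agent.S1571

/-- the set of the 352 vectors, as vectors -/
def hvXv : Set V :=
  {x | x ∈ leechLattice ∧ sqNorm x = 32 ∧ dotInt u48v x = 16 ∧ dotInt wSv x = -24}

/-- the set of the 352 vectors -/
def hvX : Set ↥leechLattice :=
  {x | sqNorm x.1 = 32 ∧ dotInt u48.1 x.1 = 16 ∧ dotInt wS.1 x.1 = -24}

theorem dot_wSv (d : GolayPt → ℤ) : dotInt wSv d = -(∑ p, d p) - 4 * d (some 0) := by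
  unfold dotInt wSv
  have : ∀ p : GolayPt, (if p = some 0 then (-5 : ℤ) else -1) * d p
      = -d p + (if p = some 0 then -(4 * d (some 0)) else 0) := by
    intro p
    by_cases h : p = some 0
    · subst h
      rw [if_pos rfl, if_pos rfl]
      ring
    · rw [if_neg h, if_neg h]
      ring
  rw [Finset.sum_congr rfl (fun p _ => this p), Finset.sum_add_distrib,
    Finset.sum_ite_eq' Finset.univ (some 0), if_pos (Finset.mem_univ _), Finset.sum_neg_distrib]
  ring

/-- the two linear conditions in coordinates -/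
theorem hv_lin (x : V) (h1 : dotInt u48v x = 16) (h2 : dotInt wSv x = -24) :
    x (some 0) = x none + 2 ∧ (∑ p, x p) + 4 * x none = 16 := by
  rw [dot_u48v] at h1
  rw [dot_wSv] at h2
  constructor
  · omega
  · exact h1

/-- the indices of the octads through `0` avoiding `∞` -/
def hvK : Finset ℕ := (Finset.range 4096).filter (fun k => keyM k = (7, false, true))

theorem mem_hvK (k : ℕ) : k ∈ hvK ↔ k < 4096 ∧ keyM k = (7, false, true) := by
  unfold hvK
  rw [Finset.mem_filter, Finset.mem_range]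

theorem card_hvK : hvK.card = 176 :=
  keyM_count ((7, false, true), 176) (by simp [keyTable])

/-- the image of a vector under the involution of the set -/
def hvTau (x : V) : V := fun p => -wSv p - x p

theorem hvTau_tau (x : V) : hvTau (hvTau x) = x := by
  funext p
  unfold hvTau
  ring

theorem wSv_mem : wSv ∈ leechLattice := wS.2

theorem hvTau_mem (x : V) (hx : x ∈ leechLattice) : hvTau x ∈ leechLattice := by
  have : hvTau x = -wSv - x := by
    funext p
    rfl
  rw [this]
  exact leechLattice.sub_mem (leechLattice.neg_mem wSv_mem) hx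

theorem hvTau_eq (x : V) : hvTau x = -wSv - x := by
  funext p
  rfl

theorem hv_frame : sqNorm wSv = 48 ∧ dotInt u48v wSv = -32 := by
  have h := frame_chk
  exact ⟨h.2.1, h.2.2.1⟩

theorem hvTau_X (x : V) (hx : x ∈ hvXv) : hvTau x ∈ hvXv := by
  obtain ⟨h0, h1, h2, h3⟩ := hx
  refine ⟨hvTau_mem x h0, ?_, ?_, ?_⟩
  · rw [hvTau_eq, sqNorm_sub, Cfsg.Agent.Lib.Lead.LX.sqNorm_neg, dot_neg_left, hv_frame.1, h1, h3]
    norm_num
  · rw [hvTau_eq, dot_sub_right, dot_neg_right, hv_frame.2, h2]
    norm_num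
  · rw [hvTau_eq, dot_sub_right, dot_neg_right, dot_self, hv_frame.1, h3]
    norm_num

/-! ### the even vectors of the set -/

set_option maxRecDepth 1000000 in
theorem hvK_chk : ∀ k : Fin 4096, keyM k = (7, false, true) →
    isLeechB (oK k) = true ∧ sqNorm (oK k) = 32 ∧ dotInt u48v (oK k) = 16 ∧
      dotInt wSv (oK k) = -24 := by
  decide +kernel

set_option maxRecDepth 1000000 in
theorem hvK_key : ∀ k : Fin 4096, sqNorm (oK k) = 32 → Cw k none = 0 → Cw k (some 0) ≠ 0 →
    keyM k = (7, false, true) := by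
  decide +kernel

theorem oK_mem_X (k : ℕ) (hk : k ∈ hvK) : oK k ∈ hvXv := by
  rw [mem_hvK] at hk
  obtain ⟨h0, h1, h2, h3⟩ := hvK_chk ⟨k, hk.1⟩ hk.2
  exact ⟨isLeechB_sound _ h0, h1, h2, h3⟩

theorem natAbs_cases (x : V) (hN : sqNorm x ≤ 64) (p : GolayPt)
    (h1 : cnt x 1 = 0) (h3 : cnt x 3 = 0) (h4 : cnt x 4 = 0) (h5 : cnt x 5 = 0) (h6 : cnt x 6 = 0)
    (h7 : cnt x 7 = 0) (h8 : cnt x 8 = 0) : x p = 0 ∨ x p = 2 ∨ x p = -2 := by
  have hb := natAbs_lt_nine x hN p
  have n1 := natAbs_ne_of_cnt_zero x 1 h1 p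
  have n3 := natAbs_ne_of_cnt_zero x 3 h3 p
  have n4 := natAbs_ne_of_cnt_zero x 4 h4 p
  have n5 := natAbs_ne_of_cnt_zero x 5 h5 p
  have n6 := natAbs_ne_of_cnt_zero x 6 h6 p
  have n7 := natAbs_ne_of_cnt_zero x 7 h7 p
  have n8 := natAbs_ne_of_cnt_zero x 8 h8 p
  omega

theorem natAbs_cases4 (x : V) (hN : sqNorm x ≤ 64) (p : GolayPt)
    (h1 : cnt x 1 = 0) (h2 : cnt x 2 = 0) (h3 : cnt x 3 = 0) (h5 : cnt x 5 = 0) (h6 : cnt x 6 = 0)
    (h7 : cnt x 7 = 0) (h8 : cnt x 8 = 0) : x p = 0 ∨ x p = 4 ∨ x p = -4 := by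
  have hb := natAbs_lt_nine x hN p
  have n1 := natAbs_ne_of_cnt_zero x 1 h1 p
  have n2 := natAbs_ne_of_cnt_zero x 2 h2 p
  have n3 := natAbs_ne_of_cnt_zero x 3 h3 p
  have n5 := natAbs_ne_of_cnt_zero x 5 h5 p
  have n6 := natAbs_ne_of_cnt_zero x 6 h6 p
  have n7 := natAbs_ne_of_cnt_zero x 7 h7 p
  have n8 := natAbs_ne_of_cnt_zero x 8 h8 p
  omega

/-- the even vectors of the set have entries `0` and `2` only -/
theorem hv_even_entries (x : V) (hx : x ∈ hvXv) (hev : ∀ p, x p % 2 = 0) :
    ∀ p, x p = 0 ∨ x p = 2 := by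
  obtain ⟨h0, hN, hu, hw⟩ := hx
  obtain ⟨c1, c2⟩ := hv_lin x hu hw
  have hN64 : sqNorm x ≤ 64 := by rw [hN]; norm_num
  have z1 := cnt_eq_zero_of_even x hev 1 (by norm_num)
  have z3 := cnt_eq_zero_of_even x hev 3 (by norm_num)
  have z5 := cnt_eq_zero_of_even x hev 5 (by norm_num)
  have z7 := cnt_eq_zero_of_even x hev 7 (by norm_num)
  have ht := cnt_total x hN64
  have hn := cnt_norm x hN64
  rw [hN] at hn
  have hn' : cnt x 1 + 4 * cnt x 2 + 9 * cnt x 3 + 16 * cnt x 4 + 25 * cnt x 5 + 36 * cnt x 6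
      + 49 * cnt x 7 + 64 * cnt x 8 = 32 := by exact_mod_cast hn.symm
  have hw' := weight_cases x h0 hN64
  have z6 : cnt x 6 = 0 := by omega
  have z8 : cnt x 8 = 0 := by omega
  have hcase : (cnt x 2 = 8 ∧ cnt x 4 = 0) ∨ (cnt x 2 = 0 ∧ cnt x 4 = 2) := by omega
  rcases hcase with ⟨a2, a4⟩ | ⟨a2, a4⟩
  · have hent := fun p => natAbs_cases x hN64 p z1 z3 a4 z5 z6 z7 z8
    -- the sum of `x p ^ 2 - 2 * x p`
    have hsum : ∑ p, (x p ^ 2 - 2 * x p) = 8 * x none := by
      rw [Finset.sum_sub_distrib, ← Finset.mul_sum]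
      have : ∑ p, x p ^ 2 = 32 := hN
      rw [this]
      omega
    have hnn : ∀ p, 0 ≤ x p ^ 2 - 2 * x p := by
      intro p
      rcases hent p with h | h | h <;> rw [h] <;> norm_num
    have hpos : 0 ≤ x none := by
      have := Finset.sum_nonneg (fun p (_ : p ∈ Finset.univ) => hnn p)
      rw [hsum] at this
      omega
    have hinf : x none = 0 := by
      rcases hent none with h | h | h
      · exact h
      · rcases hent (some 0) with h' | h' | h' <;> omega
      · omega
    rw [hinf] at hsum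
    have hz : ∀ p, x p ^ 2 - 2 * x p = 0 := by
      intro p
      have := (Finset.sum_eq_zero_iff_of_nonneg (fun p (_ : p ∈ Finset.univ) => hnn p)).1
        (by rw [hsum]; norm_num) p (Finset.mem_univ p)
      exact this
    intro p
    have := hz p
    rcases hent p with h | h | h
    · exact Or.inl h
    · exact Or.inr h
    · rw [h] at this
      norm_num at this
  · exfalso
    have e0 := natAbs_cases4 x hN64 none z1 a2 z3 z5 z6 z7 z8
    have e1 := natAbs_cases4 x hN64 (some 0) z1 a2 z3 z5 z6 z7 z8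
    omega

/-- the even vectors of the set -/
theorem hv_even_class (x : V) (hx : x ∈ hvXv) (hev : ∀ p, x p % 2 = 0) :
    ∃ k ∈ hvK, x = oK k := by
  have hent := hv_even_entries x hx hev
  obtain ⟨h0, hN, hu, hw⟩ := hx
  obtain ⟨c1, c2⟩ := hv_lin x hu hw
  have h0' := h0
  rw [mem_leechLattice_iff, mem_leechSet_iff] at h0'
  obtain ⟨m, -, -, hind⟩ := h0'
  obtain ⟨k, hk, hC⟩ := (Cfsg.Agent.Lib.helper3.mem_golayCode_iff _).1 (hind 2)
  have hxk : x = oK k := by
    funext p
    have hp := congrFun hC p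
    unfold oK
    change ind4 x 2 p = Cw k p at hp
    unfold ind4 at hp
    rcases hent p with h | h
    · have hne : ¬ x p ≡ 2 [ZMOD 4] := by
        rw [h]
        decide
      rw [if_neg hne] at hp
      rw [if_neg (by rw [← hp]; simp), h]
    · have he : x p ≡ 2 [ZMOD 4] := by
        rw [h]
      rw [if_pos he] at hp
      rw [if_pos (by rw [← hp]; decide), h]
  refine ⟨k, ?_, hxk⟩
  rw [mem_hvK]
  refine ⟨hk, hvK_key ⟨k, hk⟩ ?_ ?_ ?_⟩
  · show sqNorm (oK k) = 32
    rw [← hxk]
    exact hN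
  · -- the coordinate at `∞` vanishes
    have hinf : x none = 0 := by
      rcases hent none with h | h
      · exact h
      · rcases hent (some 0) with h' | h' <;> omega
    have := congrFun hxk none
    rw [hinf] at this
    unfold oK at this
    by_contra hne
    rw [if_pos hne] at this
    norm_num at this
  · have hinf : x none = 0 := by
      rcases hent none with h | h
      · exact h
      · rcases hent (some 0) with h' | h' <;> omega
    have h2 : x (some 0) = 2 := by omega
    have := congrFun hxk (some 0)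
    rw [h2] at this
    unfold oK at this
    intro hne
    rw [if_neg (by rw [hne]; simp)] at this
    norm_num at this

theorem wSv_odd (p : GolayPt) : wSv p % 2 = 1 := by
  unfold wSv
  split_ifs <;> norm_num

/-- the classification of the vectors of the set -/
theorem hv_class (x : V) (hx : x ∈ hvXv) : ∃ k ∈ hvK, x = oK k ∨ x = hvTau (oK k) := by
  rcases parity_cases x hx.1 with hev | hod
  · obtain ⟨k, hk, h⟩ := hv_even_class x hx hev
    exact ⟨k, hk, Or.inl h⟩
  · have hev : ∀ p, hvTau x p % 2 = 0 := by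
      intro p
      have h1 := wSv_odd p
      have h2 := hod p
      unfold hvTau
      omega
    obtain ⟨k, hk, h⟩ := hv_even_class (hvTau x) (hvTau_X x hx) hev
    refine ⟨k, hk, Or.inr ?_⟩
    rw [← h, hvTau_tau]

/-- the parametrisation of the set -/
def hvPar (kb : ℕ × Bool) : V := if kb.2 then hvTau (oK kb.1) else oK kb.1

theorem oK_even (k : ℕ) (p : GolayPt) : oK k p % 2 = 0 := by
  unfold oK
  split_ifs <;> norm_num

theorem oK_inj (k k' : ℕ) (hk : k ∈ hvK) (hk' : k' ∈ hvK) (h : oK k = oK k') : k = k' := by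
  rw [mem_hvK] at hk hk'
  apply Cw_injOn hk.1 hk'.1
  funext p
  have h2 := congrFun h p
  unfold oK at h2
  rcases zmod2_eq (Cw k p) with a | a <;> rcases zmod2_eq (Cw k' p) with b | b <;>
    rw [a, b] at h2 ⊢ <;> simp at h2

theorem hvPar_injOn : Set.InjOn hvPar (↑(hvK ×ˢ (Finset.univ : Finset Bool)) : Set (ℕ × Bool)) := by
  rintro ⟨k, b⟩ hkb ⟨k', b'⟩ hkb' h
  rw [Finset.mem_coe, Finset.mem_product] at hkb hkb'
  have hk := hkb.1
  have hk' := hkb'.1
  simp only at hk hk'
  unfold hvPar at h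
  simp only at h
  have par : ∀ (k k' : ℕ), oK k ≠ hvTau (oK k') := by
    intro k k' he
    have h1 := congrFun he none
    have h2 := oK_even k none
    have h3 := oK_even k' none
    have h4 := wSv_odd none
    unfold hvTau at h1
    omega
  cases b <;> cases b'
  · simp only [Bool.false_eq_true, if_false] at h
    rw [oK_inj k k' hk hk' h]
  · simp only [Bool.false_eq_true, if_false, if_true] at h
    exact absurd h (par k k')
  · simp only [Bool.false_eq_true, if_false, if_true] at h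
    exact absurd h.symm (par k' k)
  · simp only [if_true] at h
    have h' : oK k = oK k' := by
      have := congrArg hvTau h
      rw [hvTau_tau, hvTau_tau] at this
      exact this
    rw [oK_inj k k' hk hk' h']

theorem hvXv_eq : hvXv = hvPar '' (↑(hvK ×ˢ (Finset.univ : Finset Bool)) : Set (ℕ × Bool)) := by
  ext x
  constructor
  · intro hx
    obtain ⟨k, hk, h | h⟩ := hv_class x hx
    · refine ⟨(k, false), ?_, ?_⟩
      · rw [Finset.mem_coe, Finset.mem_product]
        exact ⟨hk, Finset.mem_univ _⟩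
      · rw [h]
        rfl
    · refine ⟨(k, true), ?_, ?_⟩
      · rw [Finset.mem_coe, Finset.mem_product]
        exact ⟨hk, Finset.mem_univ _⟩
      · rw [h]
        rfl
  · rintro ⟨⟨k, b⟩, hkb, rfl⟩
    rw [Finset.mem_coe, Finset.mem_product] at hkb
    have hk := hkb.1
    simp only at hk
    cases b
    · exact oK_mem_X k hk
    · exact hvTau_X _ (oK_mem_X k hk)

theorem hvXv_ncard : hvXv.ncard = 352 := by
  rw [hvXv_eq, Set.InjOn.ncard_image hvPar_injOn, Set.ncard_coe_finset, Finset.card_product,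
    card_hvK]
  rfl

theorem hvX_ncard : hvX.ncard = 352 := by
  rw [← hvXv_ncard, ← Set.ncard_image_of_injective hvX Subtype.val_injective]
  congr 1
  ext w
  constructor
  · rintro ⟨x, ⟨h1, h2, h3⟩, rfl⟩
    exact ⟨x.2, h1, h2, h3⟩
  · rintro ⟨h0, h1, h2, h3⟩
    exact ⟨⟨w, h0⟩, ⟨h1, h2, h3⟩, rfl⟩

end Cfsg.Agent.Lib.helper23
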