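import Cfsg.Agent.Lib.helper23.HvIso
import Cfsg.Agent.Lib.helper23.SUTr

set_option autoImplicit false
set_option maxRecDepth 1000000
set_option Elab.async false
set_option linter.constructorNameAsVariable false

/-!
# The Higman-Sims group on the 352 minimal vectors attached to a pair of vectors
-/

namespace Cfsg.Agent.Lib.helper23

open Cfsg MulAction Subgroup
open Cfsg.Agent.Lib.helper3 Cfsg.Agent.Lib.helper4 Cfsg.Agent.Lib.Lead.CW
open Cfsg.Agent.Lib.Lead.HS Cfsg.Agent.Lib.Lead.CP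
open Cfsg.Agent.Lib.helper14.U35

/-- the set attached to a pair of vectors -/
def hvXg (v w : ↥leechLattice) : Set ↥leechLattice :=
  {x | sqNorm x.1 = 32 ∧ dotInt v.1 x.1 = 16 ∧ dotInt w.1 x.1 = -24}

theorem hvXg_std : hvXg u48 wS = hvX := rfl

/-- transport of the set along an automorphism -/
theorem hvXg_map (k : ↥Co0) (v w x : ↥leechLattice) :
    k.1 x ∈ hvXg (k.1 v) (k.1 w) ↔ x ∈ hvXg v w := by
  unfold hvXg
  simp only [Set.mem_setOf_eq]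
  rw [k.2.2 x, dot_map k v x, dot_map k w x]

theorem hvXg_image (k : ↥Co0) (v w : ↥leechLattice) :
    hvXg (k.1 v) (k.1 w) = k.1 '' hvXg v w := by
  ext x
  constructor
  · intro hx
    refine ⟨k⁻¹.1 x, ?_, apply_inv_apply k x⟩
    rw [← hvXg_map k]
    rw [apply_inv_apply]
    exact hx
  · rintro ⟨y, hy, rfl⟩
    exact (hvXg_map k v w y).2 hy

theorem hvXg_ncard (v w : ↥leechLattice) (hv : sqNorm v.1 = 48) (hw : sqNorm w.1 = 48)
    (hvw : dotInt v.1 w.1 = -32) : (hvXg v w).ncard = 352 := by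
  obtain ⟨k, h1, h2⟩ := hs_pair u48 wS v w frame_chk.1 frame_chk.2.1 frame_chk.2.2.1 hv hw hvw
  rw [← h1, ← h2, hvXg_image, Set.ncard_image_of_injective _ k.1.injective, hvXg_std, hvX_ncard]

theorem hvXg_closed (v w : ↥leechLattice) (hw : sqNorm w.1 = 48)
    (hvw : dotInt v.1 w.1 = -32) (x : ↥leechLattice) (hx : x ∈ hvXg v w) : -w - x ∈ hvXg v w := by
  obtain ⟨h1, h2, h3⟩ := hx
  refine ⟨?_, ?_, ?_⟩
  · show sqNorm (-w.1 - x.1) = 32
    rw [sqNorm_sub, Cfsg.Agent.Lib.Lead.LX.sqNorm_neg, dot_neg_left, hw, h1, h3]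
    norm_num
  · show dotInt v.1 (-w.1 - x.1) = 16
    rw [dot_sub_right, dot_neg_right, hvw, h2]
    norm_num
  · show dotInt w.1 (-w.1 - x.1) = -24
    rw [dot_sub_right, dot_neg_right, dot_self, hw, h3]
    norm_num

theorem hvXg_trans (v w : ↥leechLattice) (hv : sqNorm v.1 = 48) (hw : sqNorm w.1 = 48)
    (hvw : dotInt v.1 w.1 = -32) (x x' : ↥leechLattice) (hx : x ∈ hvXg v w)
    (hx' : x' ∈ hvXg v w) : ∃ g : ↥Co0, g • v = v ∧ g • w = w ∧ g • x = x' := by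
  obtain ⟨k, h1, h2⟩ := hs_pair u48 wS v w frame_chk.1 frame_chk.2.1 frame_chk.2.2.1 hv hw hvw
  have hy : k⁻¹.1 x ∈ hvX := by
    rw [← hvXg_std, ← hvXg_map k, apply_inv_apply, h1, h2]
    exact hx
  have hy' : k⁻¹.1 x' ∈ hvX := by
    rw [← hvXg_std, ← hvXg_map k, apply_inv_apply, h1, h2]
    exact hx'
  obtain ⟨γ, hγ⟩ := G0_trans _ _ hy hy'
  obtain ⟨hu, hws⟩ := (mem_G0 γ.1).1 γ.2
  refine ⟨k * γ.1 * k⁻¹, ?_, ?_, ?_⟩
  · show k.1 (γ.1.1 (k⁻¹.1 v)) = v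
    rw [← h1, inv_apply_apply, hu]
  · show k.1 (γ.1.1 (k⁻¹.1 w)) = w
    rw [← h2, inv_apply_apply, hws]
  · show k.1 (γ.1.1 (k⁻¹.1 x)) = x'
    rw [hγ, apply_inv_apply]

/-! ### the stabiliser of three vectors -/

/-- the stabiliser of three vectors -/
abbrev hvT (v w x : ↥leechLattice) : Subgroup ↥Co0 :=
  stabilizer ↥Co0 v ⊓ stabilizer ↥Co0 w ⊓ stabilizer ↥Co0 x

theorem mem_hvT {v w x : ↥leechLattice} (g : ↥Co0) :
    g ∈ hvT v w x ↔ g.1 v = v ∧ g.1 w = w ∧ g.1 x = x := by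
  rw [Subgroup.mem_inf, Subgroup.mem_inf, mem_stabilizer_iff, mem_stabilizer_iff,
    mem_stabilizer_iff, and_assoc]
  rfl

/-- conjugation of the stabilisers -/
def hvTConj (k : ↥Co0) (v w x : ↥leechLattice) :
    ↥(hvT v w x) ≃* ↥(hvT (k.1 v) (k.1 w) (k.1 x)) where
  toFun g := ⟨k * g.1 * k⁻¹, by
    obtain ⟨a, b, c⟩ := (mem_hvT g.1).1 g.2
    rw [mem_hvT]
    refine ⟨?_, ?_, ?_⟩
    · show k.1 (g.1.1 (k⁻¹.1 (k.1 v))) = k.1 v
      rw [inv_apply_apply, a]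
    · show k.1 (g.1.1 (k⁻¹.1 (k.1 w))) = k.1 w
      rw [inv_apply_apply, b]
    · show k.1 (g.1.1 (k⁻¹.1 (k.1 x))) = k.1 x
      rw [inv_apply_apply, c]⟩
  invFun h := ⟨k⁻¹ * h.1 * k, by
    obtain ⟨a, b, c⟩ := (mem_hvT h.1).1 h.2
    rw [mem_hvT]
    refine ⟨?_, ?_, ?_⟩
    · show k⁻¹.1 (h.1.1 (k.1 v)) = v
      rw [a, inv_apply_apply]
    · show k⁻¹.1 (h.1.1 (k.1 w)) = w
      rw [b, inv_apply_apply]
    · show k⁻¹.1 (h.1.1 (k.1 x)) = x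
      rw [c, inv_apply_apply]⟩
  left_inv g := by
    apply Subtype.ext
    show k⁻¹ * (k * g.1 * k⁻¹) * k = g.1
    group
  right_inv h := by
    apply Subtype.ext
    show k * (k⁻¹ * h.1 * k) * k⁻¹ = h.1
    group
  map_mul' a b := by
    apply Subtype.ext
    show k * (a.1 * b.1) * k⁻¹ = (k * a.1 * k⁻¹) * (k * b.1 * k⁻¹)
    group

/-- the stabiliser of the frame and a vector, inside the group of the frame -/
def hvTStd (y : ↥leechLattice) : ↥(hvT u48 wS y) ≃* ↥(stabilizer ↥G0 y) where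
  toFun g := ⟨⟨g.1, (mem_G0 g.1).2 ⟨((mem_hvT g.1).1 g.2).1, ((mem_hvT g.1).1 g.2).2.1⟩⟩, by
    rw [mem_stabilizer_iff]
    exact ((mem_hvT g.1).1 g.2).2.2⟩
  invFun h := ⟨h.1.1, by
    rw [mem_hvT]
    obtain ⟨a, b⟩ := (mem_G0 h.1.1).1 h.1.2
    have c := h.2
    rw [mem_stabilizer_iff] at c
    exact ⟨a, b, c⟩⟩
  left_inv g := rfl
  right_inv h := rfl
  map_mul' a b := rfl

/-- the main theorem on the stabilisers -/
theorem hvXg_stab (v w : ↥leechLattice) (hv : sqNorm v.1 = 48) (hw : sqNorm w.1 = 48)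
    (hvw : dotInt v.1 w.1 = -32) (F : Type) [Field F] [Fintype F] (hF : Fintype.card F = 25)
    (x : ↥leechLattice) (hx : x ∈ hvXg v w) :
    Nonempty (↥(stabilizer ↥Co0 v ⊓ stabilizer ↥Co0 w ⊓ stabilizer ↥Co0 x) ≃* Cfsg.PSU 3 F 5) := by
  obtain ⟨k, h1, h2⟩ := hs_pair u48 wS v w frame_chk.1 frame_chk.2.1 frame_chk.2.2.1 hv hw hvw
  have hy : k⁻¹.1 x ∈ hvX := by
    rw [← hvXg_std, ← hvXg_map k, apply_inv_apply, h1, h2]
    exact hx
  obtain ⟨e0⟩ := hvStab_iso _ hy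
  have e1 : ↥(hvT u48 wS (k⁻¹.1 x)) ≃* ↥(hvT (k.1 u48) (k.1 wS) (k.1 (k⁻¹.1 x))) :=
    hvTConj k u48 wS (k⁻¹.1 x)
  have e2 : ↥(hvT (k.1 u48) (k.1 wS) (k.1 (k⁻¹.1 x))) ≃* ↥(hvT v w x) :=
    MulEquiv.subgroupCongr (by rw [h1, h2, apply_inv_apply])
  have hcard : Fintype.card F25 = Fintype.card F := by rw [hF, F25.card]
  let e : F25 ≃+* F := FiniteField.ringEquivOfCardEq hcard
  exact ⟨(((e2.symm.trans e1.symm).trans (hvTStd _)).trans e0).trans (psuEquiv e 5)⟩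

end Cfsg.Agent.Lib.helper23
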