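import Cfsg.Agent.Lib.helper23.HveData
import Cfsg.Agent.Lib.helper23.PgX

set_option autoImplicit false
set_option maxRecDepth 1000000
set_option Elab.async false

/-!
# The unitary group of degree 3 over 25 elements on 452 + 126 points: the checks of the stabiliser chain
-/

namespace Cfsg.Agent.Lib.helper23

open Subgroup MulAction

theorem hvechk0x4 : pgChkLvlW0 578 hveL4 [] = true := by decide +kernel
theorem hvechk0x3 : pgChkLvlW0 578 hveL3 [hveL4] = true := by decide +kernel
theorem hvechk0x2 : pgChkLvlW0 578 hveL2 [hveL3, hveL4] = true := by decide +kernel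
theorem hvechk0x1 : pgChkLvlW0 578 hveL1 [hveL2, hveL3, hveL4] = true := by decide +kernel

theorem hvecl4x0 : pgChkGenW 578 (List.range 578) hveL4 []
    (hvegen hveT4x0 hveI4x0) 0 578 = true := by
  decide +kernel
theorem hvecl4x1 : pgChkGenW 578 (List.range 578) hveL4 []
    (hvegen hveT4x1 hveI4x1) 0 578 = true := by
  decide +kernel
theorem hvecl3x0 : pgChkGenW 578 (List.range 578) hveL3 [hveL4]
    (hvegen hveT3x0 hveI3x0) 0 578 = true := by
  decide +kernel
theorem hvecl3x1 : pgChkGenW 578 (List.range 578) hveL3 [hveL4]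
    (hvegen hveT3x1 hveI3x1) 0 578 = true := by
  decide +kernel
theorem hvecl2x0 : pgChkGenW 578 (List.range 578) hveL2 [hveL3, hveL4]
    (hvegen hveT2x0 hveI2x0) 0 578 = true := by
  decide +kernel
theorem hvecl2x1 : pgChkGenW 578 (List.range 578) hveL2 [hveL3, hveL4]
    (hvegen hveT2x1 hveI2x1) 0 578 = true := by
  decide +kernel
theorem hvecl1x0 : pgChkGenW 578 (List.range 578) hveL1 [hveL2, hveL3, hveL4]
    (hvegen hveT1x0 hveI1x0) 0 578 = true := by
  decide +kernel
theorem hvecl1x1 : pgChkGenW 578 (List.range 578) hveL1 [hveL2, hveL3, hveL4]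
    (hvegen hveT1x1 hveI1x1) 0 578 = true := by
  decide +kernel

theorem hvechkL4 : pgChkLvlW 578 (List.range 578) hveL4 [] = true := by
  apply pgChkLvlW_ofAllX hvechk0x4
  intro s hs
  change s ∈ [hvegen hveT4x0 hveI4x0, hvegen hveT4x1 hveI4x1] at hs
  simp only [List.mem_cons, List.not_mem_nil, or_false] at hs
  rcases hs with rfl | rfl
  · exact hvecl4x0
  · exact hvecl4x1

theorem hvechkL3 : pgChkLvlW 578 (List.range 578) hveL3 [hveL4] = true := by
  apply pgChkLvlW_ofAllX hvechk0x3
  intro s hs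
  change s ∈ [hvegen hveT3x0 hveI3x0, hvegen hveT3x1 hveI3x1] at hs
  simp only [List.mem_cons, List.not_mem_nil, or_false] at hs
  rcases hs with rfl | rfl
  · exact hvecl3x0
  · exact hvecl3x1

theorem hvechkL2 : pgChkLvlW 578 (List.range 578) hveL2 [hveL3, hveL4] = true := by
  apply pgChkLvlW_ofAllX hvechk0x2
  intro s hs
  change s ∈ [hvegen hveT2x0 hveI2x0, hvegen hveT2x1 hveI2x1] at hs
  simp only [List.mem_cons, List.not_mem_nil, or_false] at hs
  rcases hs with rfl | rfl
  · exact hvecl2x0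
  · exact hvecl2x1

theorem hvechkL1 : pgChkLvlW 578 (List.range 578) hveL1 [hveL2, hveL3, hveL4] = true := by
  apply pgChkLvlW_ofAllX hvechk0x1
  intro s hs
  change s ∈ [hvegen hveT1x0 hveI1x0, hvegen hveT1x1 hveI1x1] at hs
  simp only [List.mem_cons, List.not_mem_nil, or_false] at hs
  rcases hs with rfl | rfl
  · exact hvecl1x0
  · exact hvecl1x1

/-- the stabiliser chain -/
def hveC : List PgLvlW := [hveL1, hveL2, hveL3, hveL4]

theorem hvechkC : pgChkW 578 (List.range 578) hveC = true := by
  change pgChkW 578 (List.range 578) [hveL1, hveL2, hveL3, hveL4] = true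
  rw [pgChkW_cons, pgChkW_cons, pgChkW_cons, pgChkW_cons, hvechkL1, hvechkL2, hvechkL3, hvechkL4]
  rfl

end Cfsg.Agent.Lib.helper23
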