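import Cfsg.Agent.Lib.helper23.HvMain
import Cfsg.Agent.Lib.helper23.HveChk
import Cfsg.Agent.Lib.helper14.U35d
import Cfsg.Agent.S0283

set_option autoImplicit false
set_option maxRecDepth 1000000
set_option Elab.async false
set_option linter.constructorNameAsVariable false

/-!
# The stabiliser of one of the 352 vectors in the Higman-Sims group is the unitary group of
degree 3 over 25 elements
-/

namespace Cfsg.Agent.Lib.helper23

open Cfsg MulAction Subgroup
open Cfsg.Agent.Lib.helper3 Cfsg.Agent.Lib.helper4 Cfsg.Agent.Lib.Lead.CW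
open Cfsg.Agent.Lib.Lead.HS Cfsg.Agent.Lib.Lead.CP
open Cfsg.Agent.Lib.helper14.PV Cfsg.Agent.Lib.helper14.U35

/-! ### the stabiliser of a point on 452 points -/

/-- the chain of the stabiliser -/
def hvhC : List PgLvlW := [hvcL2, hvcL3, hvcL4, hvcL5]

/-- the stabiliser of the first of the 352 points -/
abbrev H452 : Subgroup (Equiv.Perm (Fin 452)) := pgGrpW 452 hvhC

theorem hvhchk : pgChkW 452 (pgRigidAll 452).base hvhC = true := by
  have h : pgChkW 452 (List.range 452) (hvcL1 :: hvhC) = true := hvcchkC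
  rw [pgChkW_cons, Bool.and_eq_true] at h
  exact h.2

theorem hvh_ord : pgOrdW 452 hvhC = 126000 := by decide +kernel

theorem H452_card : Nat.card H452 = 126000 := by
  rw [pgCardW (pgRigidAll 452) hvhC hvhchk le_top, hvh_ord]

theorem hvhchk0 : pgChk0W 452 hvhC = true := by
  have h : pgChk0W 452 (hvcL1 :: hvhC) = true := hvcchk0
  rw [pgChk0W_cons, Bool.and_eq_true] at h
  exact h.2

theorem mem_H452_iff (g : Equiv.Perm (Fin 452)) : g ∈ H452 ↔ g ∈ P452 ∧ g hvx0 = hvx0 := by
  have hc0 : pgChk0W 452 (hvcL1 :: hvhC) = true := hvcchk0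
  obtain ⟨hb, hle, hfix, -⟩ := pgLvl_facts (n := 452) (L := hvcL1) (C := hvhC) hc0
  have h0 : (⟨hvcL1.b, hb⟩ : Fin 452) = hvx0 := Fin.ext rfl
  have hval : PgValidW 452 (hvcL1 :: hvhC) := hvcvalid
  constructor
  · intro h
    refine ⟨hle h, ?_⟩
    have := hfix g h
    rw [h0] at this
    exact this
  · rintro ⟨h1, h2⟩
    apply hval.2.2.1 g h1 hb
    rw [h0]
    exact h2

/-! ### the generators matched with the unitary group -/

/-- the first generator on 452 points -/
def hvPX : PFun := hvcgen hvTX hvIX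

/-- the second generator on 452 points -/
def hvPB : PFun := hvcgen hvTB hvIB

theorem hvPX_ok : hvPX.ok 452 = true := by decide +kernel

theorem hvPB_ok : hvPB.ok 452 = true := by decide +kernel

theorem hvsiftX : pgSiftW 452 (List.range 452) hvhC hvPX.f = true := by decide +kernel

theorem hvsiftB : pgSiftW 452 (List.range 452) hvhC hvPB.f = true := by decide +kernel

theorem hvPX_mem : hvPX.perm 452 ∈ H452 :=
  pgSiftW_sound' hvhC hvhchk0 hvPX.f (hvPX.perm 452)
    (fun p => (PFun.perm_apply hvPX_ok p).symm) hvsiftX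

theorem hvPB_mem : hvPB.perm 452 ∈ H452 :=
  pgSiftW_sound' hvhC hvhchk0 hvPB.f (hvPB.perm 452)
    (fun p => (PFun.perm_apply hvPB_ok p).symm) hvsiftB

theorem hvPXne : Nat.beq (hvPX.f 0) 0 = false := by decide +kernel

/-! ### the diagonal group on 452 + 126 points -/

/-- the diagonal group -/
abbrev E578 : Subgroup (Equiv.Perm (Fin 578)) := Subgroup.closure (pgSet 578 hveL1.own)

theorem E578_eq : E578 = pgGrpW 578 hveC := rfl

theorem hveown : hveL1.own = [hvegen hveT1x0 hveI1x0, hvegen hveT1x1 hveI1x1] := rfl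

theorem hvemem0 : hvegen hveT1x0 hveI1x0 ∈ hveL1.own := by rw [hveown]; simp

theorem hvemem1 : hvegen hveT1x1 hveI1x1 ∈ hveL1.own := by rw [hveown]; simp

theorem hvechkC' : pgChkW 578 (pgRigidAll 578).base hveC = true := hvechkC

theorem hveok : ∀ P ∈ hveL1.own, P.ok 578 = true :=
  pgChkW_own_ok 578 (pgRigidAll 578).base hveC hvechkC'

theorem hve_ord : pgOrdW 578 hveC = 126000 := by decide +kernel

theorem E578_card : Nat.card E578 = 126000 := by
  rw [E578_eq, pgCardW (pgRigidAll 578) hveC hvechkC' le_top, hve_ord]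

instance : Finite E578 := Nat.finite_of_card_ne_zero (by rw [E578_card]; norm_num)

theorem hveblk1 : pgChkBlk 452 0 hveL1.own = true := by decide +kernel

theorem hveblk2 : pgChkBlk 126 452 hveL1.own = true := by decide +kernel

theorem hvetab1 : ∀ i : Fin 452, hvelk hveT1x0 (0 + i.1) = hvclk hvTX i.1 ∧
    hvelk hveT1x1 (0 + i.1) = hvclk hvTB i.1 := by decide +kernel

theorem hvetab2 : ∀ i : Fin 126, hvelk hveT1x0 (452 + i.1) = 452 + u5lk u5TX i.1 ∧
    hvelk hveT1x1 (452 + i.1) = 452 + u5lk u5TB i.1 := by decide +kernel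

/-! ### the restriction to the last 126 points -/

/-- the restriction to the last 126 points -/
noncomputable def hvres2 : E578 →* Equiv.Perm (Fin 126) :=
  pgBlkHom (n := 578) (m := 126) (off := 452) (by norm_num) hveok hveblk2

theorem hvres2_gen0 :
    hvres2 ⟨(hvegen hveT1x0 hveI1x0).perm 578, Subgroup.subset_closure ⟨_, hvemem0, rfl⟩⟩ =
      u5Sx := by
  ext i
  have h := pgBlkHom_gen (n := 578) (m := 126) (off := 452) (by norm_num) hveok hveblk2 _
    hvemem0 i
  change 452 + (hvres2 _ i).1 = hvelk hveT1x0 (452 + i.1) at h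
  have h2 : (u5Sx i).1 = u5lk u5TX i.1 := PFun.perm_apply u5Px_ok i
  rw [h2]
  have := (hvetab2 i).1
  omega

theorem hvres2_gen1 :
    hvres2 ⟨(hvegen hveT1x1 hveI1x1).perm 578, Subgroup.subset_closure ⟨_, hvemem1, rfl⟩⟩ =
      u5Sb := by
  ext i
  have h := pgBlkHom_gen (n := 578) (m := 126) (off := 452) (by norm_num) hveok hveblk2 _
    hvemem1 i
  change 452 + (hvres2 _ i).1 = hvelk hveT1x1 (452 + i.1) at h
  have h2 : (u5Sb i).1 = u5lk u5TB i.1 := PFun.perm_apply u5Pb_ok i
  rw [h2]
  have := (hvetab2 i).2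
  omega

theorem hvres2_range : hvres2.range = P126 := by
  change _ = Subgroup.closure ({u5Sx, u5Sb} : Set (Equiv.Perm (Fin 126)))
  apply pgBlkHom_range
  · intro P hP
    rw [hveown] at hP
    simp only [List.mem_cons, List.not_mem_nil, or_false] at hP
    rcases hP with rfl | rfl
    · exact Or.inl hvres2_gen0
    · exact Or.inr hvres2_gen1
  · intro s hs
    simp only [Set.mem_insert_iff, Set.mem_singleton_iff] at hs
    rcases hs with rfl | rfl
    · exact ⟨_, hvemem0, hvres2_gen0⟩
    · exact ⟨_, hvemem1, hvres2_gen1⟩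

/-- the diagonal group is the group on 126 points -/
noncomputable def E578_equiv2 : E578 ≃* P126 :=
  pgEquivOfRange hvres2 _ hvres2_range (by rw [E578_card, P126_card])

theorem psu35_simple : IsSimpleGroup (Cfsg.PSU 3 F25 5) :=
  Cfsg.Agent.S0283.result (F := F25) (q := 5) F25.card' 3 (le_refl 3) (by norm_num)

/-- the diagonal group is the projective special unitary group -/
noncomputable def E578_psu : E578 ≃* Cfsg.PSU 3 F25 5 :=
  E578_equiv2.trans (Classical.choice P126_iso)

instance E578_simple : IsSimpleGroup E578 :=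
  haveI := psu35_simple
  MulEquiv.isSimpleGroup E578_psu

/-! ### the restriction to the first 452 points -/

/-- the restriction to the first 452 points -/
noncomputable def hvres1 : E578 →* Equiv.Perm (Fin 452) :=
  pgBlkHom (n := 578) (m := 452) (off := 0) (by norm_num) hveok hveblk1

theorem hvres1_gen0 :
    hvres1 ⟨(hvegen hveT1x0 hveI1x0).perm 578, Subgroup.subset_closure ⟨_, hvemem0, rfl⟩⟩ =
      hvPX.perm 452 := by
  ext i
  have h := pgBlkHom_gen (n := 578) (m := 452) (off := 0) (by norm_num) hveok hveblk1 _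
    hvemem0 i
  rw [Nat.zero_add] at h
  change (hvres1 _ i).1 = _ at h
  rw [h, PFun.perm_apply hvPX_ok]
  exact (hvetab1 i).1

theorem hvres1_gen1 :
    hvres1 ⟨(hvegen hveT1x1 hveI1x1).perm 578, Subgroup.subset_closure ⟨_, hvemem1, rfl⟩⟩ =
      hvPB.perm 452 := by
  ext i
  have h := pgBlkHom_gen (n := 578) (m := 452) (off := 0) (by norm_num) hveok hveblk1 _
    hvemem1 i
  rw [Nat.zero_add] at h
  change (hvres1 _ i).1 = _ at h
  rw [h, PFun.perm_apply hvPB_ok]
  exact (hvetab1 i).2

theorem hvres1_range_le : hvres1.range ≤ H452 := by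
  have h : hvres1.range = Subgroup.closure ({hvPX.perm 452, hvPB.perm 452} :
      Set (Equiv.Perm (Fin 452))) := by
    apply pgBlkHom_range
    · intro P hP
      rw [hveown] at hP
      simp only [List.mem_cons, List.not_mem_nil, or_false] at hP
      rcases hP with rfl | rfl
      · exact Or.inl hvres1_gen0
      · exact Or.inr hvres1_gen1
    · intro s hs
      simp only [Set.mem_insert_iff, Set.mem_singleton_iff] at hs
      rcases hs with rfl | rfl
      · exact ⟨_, hvemem0, hvres1_gen0⟩
      · exact ⟨_, hvemem1, hvres1_gen1⟩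
  rw [h, Subgroup.closure_le]
  intro s hs
  simp only [Set.mem_insert_iff, Set.mem_singleton_iff] at hs
  rcases hs with rfl | rfl
  · exact hvPX_mem
  · exact hvPB_mem

theorem hvPX_ne_one : hvPX.perm 452 ≠ 1 := by
  intro h
  have h1 := congrArg (fun s : Equiv.Perm (Fin 452) => (s 0).1) h
  simp only [Equiv.Perm.one_apply] at h1
  rw [PFun.perm_apply hvPX_ok] at h1
  have h2 := hvPXne
  have h3 : hvPX.f 0 = 0 := h1
  rw [h3] at h2
  simp at h2

theorem hvres1_injective : Function.Injective hvres1 := by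
  rw [← MonoidHom.ker_eq_bot_iff]
  rcases (inferInstance : hvres1.ker.Normal).eq_bot_or_eq_top with h | h
  · exact h
  · exfalso
    have hm : (⟨(hvegen hveT1x0 hveI1x0).perm 578,
        Subgroup.subset_closure ⟨_, hvemem0, rfl⟩⟩ : E578) ∈ hvres1.ker := by
      rw [h]
      exact Subgroup.mem_top _
    rw [MonoidHom.mem_ker, hvres1_gen0] at hm
    exact hvPX_ne_one hm

theorem hvres1_range : hvres1.range = H452 := by
  apply Subgroup.eq_of_le_of_card_ge hvres1_range_le
  rw [H452_card, ← Nat.card_congr (MonoidHom.ofInjective hvres1_injective).toEquiv, E578_card]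

/-- the stabiliser is the projective special unitary group -/
noncomputable def H452_equiv : H452 ≃* Cfsg.PSU 3 F25 5 :=
  (((MonoidHom.ofInjective hvres1_injective).trans
    (MulEquiv.subgroupCongr hvres1_range)).symm).trans E578_psu

/-! ### the stabiliser of a vector in the group of the frame -/

/-- the standard vector among the 352 -/
def hvy0 : ↥leechLattice := hvPt hvx0

theorem hvy0_mem : hvy0 ∈ hvX := (hvPt_X_iff hvx0).2 (le_refl 100)

/-- the stabiliser of the standard vector acts on the points as the stabiliser of a point -/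
noncomputable def hvStabHom : ↥(stabilizer ↥G0 hvy0) →* H452 where
  toFun g := ⟨hvRho g.1, by
    rw [mem_H452_iff]
    refine ⟨?_, ?_⟩
    · rw [← hvRange_eq]
      exact ⟨g.1, rfl⟩
    · apply hvPt_inj
      rw [hvRho_apply]
      exact g.2⟩
  map_one' := by
    apply Subtype.ext
    exact map_one hvRho
  map_mul' a b := by
    apply Subtype.ext
    exact map_mul hvRho a.1 b.1

theorem hvStabHom_bijective : Function.Bijective hvStabHom := by
  constructor
  · intro a b h
    apply Subtype.ext
    apply hvRho_injective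
    exact congrArg Subtype.val h
  · intro h
    have h1 := (mem_H452_iff h.1).1 h.2
    have h2 : h.1 ∈ hvRho.range := by
      rw [hvRange_eq]
      exact h1.1
    obtain ⟨g, hg⟩ := h2
    refine ⟨⟨g, ?_⟩, ?_⟩
    · rw [mem_stabilizer_iff]
      show g.1.1 hvy0 = hvy0
      unfold hvy0
      rw [← hvRho_apply, hg, h1.2]
    · apply Subtype.ext
      exact hg

/-- the stabiliser of the standard vector is the stabiliser of a point -/
noncomputable def hvStabEquiv : ↥(stabilizer ↥G0 hvy0) ≃* H452 :=
  MulEquiv.ofBijective hvStabHom hvStabHom_bijective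

/-- the stabiliser of any of the 352 vectors in the group of the frame -/
theorem hvStab_iso (y : ↥leechLattice) (hy : y ∈ hvX) :
    Nonempty (↥(stabilizer ↥G0 y) ≃* Cfsg.PSU 3 F25 5) := by
  obtain ⟨g, hg⟩ := G0_trans hvy0 y hvy0_mem hy
  have e : ↥(stabilizer ↥G0 hvy0) ≃* ↥(stabilizer ↥G0 y) :=
    stabilizerEquivStabilizer (g := g) (by rw [← hg]; rfl)
  exact ⟨(e.symm.trans hvStabEquiv).trans H452_equiv⟩

end Cfsg.Agent.Lib.helper23
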