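import Cfsg.Agent.Lib.helper23.HvData
import Cfsg.Agent.Lib.helper23.PgX

set_option autoImplicit false
set_option maxRecDepth 1000000
set_option Elab.async false

/-!
# The Higman-Sims group on 100 + 352 points: the checks of the stabiliser chain
-/

namespace Cfsg.Agent.Lib.helper23

open Subgroup MulAction

theorem hvcchk0x5 : pgChkLvlW0 452 hvcL5 [] = true := by decide +kernel
theorem hvcchk0x4 : pgChkLvlW0 452 hvcL4 [hvcL5] = true := by decide +kernel
theorem hvcchk0x3 : pgChkLvlW0 452 hvcL3 [hvcL4, hvcL5] = true := by decide +kernel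
theorem hvcchk0x2 : pgChkLvlW0 452 hvcL2 [hvcL3, hvcL4, hvcL5] = true := by decide +kernel
theorem hvcchk0x1 : pgChkLvlW0 452 hvcL1 [hvcL2, hvcL3, hvcL4, hvcL5] = true := by decide +kernel

theorem hvccl5x0 : pgChkGenW 452 (List.range 452) hvcL5 []
    (hvcgen hvcT5x0 hvcI5x0) 0 452 = true := by
  decide +kernel
theorem hvccl5x1 : pgChkGenW 452 (List.range 452) hvcL5 []
    (hvcgen hvcT5x1 hvcI5x1) 0 452 = true := by
  decide +kernel
theorem hvccl4x0 : pgChkGenW 452 (List.range 452) hvcL4 [hvcL5]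
    (hvcgen hvcT4x0 hvcI4x0) 0 452 = true := by
  decide +kernel
theorem hvccl4x1 : pgChkGenW 452 (List.range 452) hvcL4 [hvcL5]
    (hvcgen hvcT4x1 hvcI4x1) 0 452 = true := by
  decide +kernel
theorem hvccl3x0 : pgChkGenW 452 (List.range 452) hvcL3 [hvcL4, hvcL5]
    (hvcgen hvcT3x0 hvcI3x0) 0 452 = true := by
  decide +kernel
theorem hvccl3x1 : pgChkGenW 452 (List.range 452) hvcL3 [hvcL4, hvcL5]
    (hvcgen hvcT3x1 hvcI3x1) 0 452 = true := by
  decide +kernel
theorem hvccl2x0 : pgChkGenW 452 (List.range 452) hvcL2 [hvcL3, hvcL4, hvcL5]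
    (hvcgen hvcT2x0 hvcI2x0) 0 452 = true := by
  decide +kernel
theorem hvccl2x1 : pgChkGenW 452 (List.range 452) hvcL2 [hvcL3, hvcL4, hvcL5]
    (hvcgen hvcT2x1 hvcI2x1) 0 452 = true := by
  decide +kernel
theorem hvccl1x0 : pgChkGenW 452 (List.range 452) hvcL1 [hvcL2, hvcL3, hvcL4, hvcL5]
    (hvcgen hvcT1x0 hvcI1x0) 0 452 = true := by
  decide +kernel
theorem hvccl1x1 : pgChkGenW 452 (List.range 452) hvcL1 [hvcL2, hvcL3, hvcL4, hvcL5]
    (hvcgen hvcT1x1 hvcI1x1) 0 452 = true := by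
  decide +kernel

theorem hvcchkL5 : pgChkLvlW 452 (List.range 452) hvcL5 [] = true := by
  apply pgChkLvlW_ofAllX hvcchk0x5
  intro s hs
  change s ∈ [hvcgen hvcT5x0 hvcI5x0, hvcgen hvcT5x1 hvcI5x1] at hs
  simp only [List.mem_cons, List.not_mem_nil, or_false] at hs
  rcases hs with rfl | rfl
  · exact hvccl5x0
  · exact hvccl5x1

theorem hvcchkL4 : pgChkLvlW 452 (List.range 452) hvcL4 [hvcL5] = true := by
  apply pgChkLvlW_ofAllX hvcchk0x4
  intro s hs
  change s ∈ [hvcgen hvcT4x0 hvcI4x0, hvcgen hvcT4x1 hvcI4x1] at hs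
  simp only [List.mem_cons, List.not_mem_nil, or_false] at hs
  rcases hs with rfl | rfl
  · exact hvccl4x0
  · exact hvccl4x1

theorem hvcchkL3 : pgChkLvlW 452 (List.range 452) hvcL3 [hvcL4, hvcL5] = true := by
  apply pgChkLvlW_ofAllX hvcchk0x3
  intro s hs
  change s ∈ [hvcgen hvcT3x0 hvcI3x0, hvcgen hvcT3x1 hvcI3x1] at hs
  simp only [List.mem_cons, List.not_mem_nil, or_false] at hs
  rcases hs with rfl | rfl
  · exact hvccl3x0
  · exact hvccl3x1

theorem hvcchkL2 : pgChkLvlW 452 (List.range 452) hvcL2 [hvcL3, hvcL4, hvcL5] = true := by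
  apply pgChkLvlW_ofAllX hvcchk0x2
  intro s hs
  change s ∈ [hvcgen hvcT2x0 hvcI2x0, hvcgen hvcT2x1 hvcI2x1] at hs
  simp only [List.mem_cons, List.not_mem_nil, or_false] at hs
  rcases hs with rfl | rfl
  · exact hvccl2x0
  · exact hvccl2x1

theorem hvcchkL1 : pgChkLvlW 452 (List.range 452) hvcL1 [hvcL2, hvcL3, hvcL4, hvcL5] = true := by
  apply pgChkLvlW_ofAllX hvcchk0x1
  intro s hs
  change s ∈ [hvcgen hvcT1x0 hvcI1x0, hvcgen hvcT1x1 hvcI1x1] at hs
  simp only [List.mem_cons, List.not_mem_nil, or_false] at hs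
  rcases hs with rfl | rfl
  · exact hvccl1x0
  · exact hvccl1x1

/-- the stabiliser chain -/
def hvcC : List PgLvlW := [hvcL1, hvcL2, hvcL3, hvcL4, hvcL5]

theorem hvcchkC : pgChkW 452 (List.range 452) hvcC = true := by
  change pgChkW 452 (List.range 452) [hvcL1, hvcL2, hvcL3, hvcL4, hvcL5] = true
  rw [pgChkW_cons, pgChkW_cons, pgChkW_cons, pgChkW_cons, pgChkW_cons, hvcchkL1, hvcchkL2, hvcchkL3, hvcchkL4, hvcchkL5]
  rfl

end Cfsg.Agent.Lib.helper23
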