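import Cfsg.Agent.Lib.helper23.HvChkA
import Cfsg.Agent.Lib.helper23.HvClass
import Cfsg.Agent.Lib.helper23.HvcChk
import Cfsg.Agent.Lib.Lead.ConwayHSGroup2
import Cfsg.Agent.Lib.helper14.PgV
import Cfsg.Agent.Lib.helper23.PgX
import Cfsg.Agent.Lib.helper23.PgY

set_option autoImplicit false
set_option maxRecDepth 1000000
set_option Elab.async false
set_option linter.constructorNameAsVariable false

/-!
# The Higman-Sims group on 100 + 352 minimal vectors: the permutation representation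
-/

namespace Cfsg.Agent.Lib.helper23

open Cfsg MulAction Subgroup
open Cfsg.Agent.Lib.helper3 Cfsg.Agent.Lib.helper4 Cfsg.Agent.Lib.Lead.CW
open Cfsg.Agent.Lib.Lead.HS Cfsg.Agent.Lib.Lead.CP Cfsg.Agent.Lib.helper14.MS
open Cfsg.Agent.Lib.helper14.PV
open Cfsg.Agent.S0398

/-! ### the points -/

/-- the `i`-th point -/
def hvPt (i : Fin 452) : ↥leechLattice := ⟨hvV i.1, isLeechB_sound _ (hv_leech i)⟩

theorem hvPt_inj : Function.Injective hvPt := by
  intro i j h
  have hv : hvV i.1 = hvV j.1 := congrArg Subtype.val h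
  have hc : hvCode i.1 = hvCode j.1 := by
    rw [← hv_enc i, ← hv_enc j, hv]
  apply Fin.ext
  rcases lt_trichotomy i.1 j.1 with h1 | h1 | h1
  · exact absurd hc (hv_code_ne i j h1)
  · exact h1
  · exact absurd hc.symm (hv_code_ne j i h1)

/-- the set of the points -/
def hvS : Set ↥leechLattice := XS ∪ hvX

theorem hvPt_mem1 (i : Fin 452) (hi : i.1 < 100) : hvPt i ∈ XS :=
  ⟨hv_norm i, hv_dotu1 ⟨i.1, hi⟩, hv_dotw i⟩

theorem hvPt_mem2 (i : Fin 452) (hi : 100 ≤ i.1) : hvPt i ∈ hvX := by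
  refine ⟨hv_norm i, ?_, hv_dotw i⟩
  have := hv_dotu2 ⟨i.1 - 100, by have := i.2; omega⟩
  simp only at this
  rw [show 100 + (i.1 - 100) = i.1 by omega] at this
  exact this

theorem hvPt_mem (i : Fin 452) : hvPt i ∈ hvS := by
  by_cases hi : i.1 < 100
  · exact Or.inl (hvPt_mem1 i hi)
  · exact Or.inr (hvPt_mem2 i (by omega))

theorem hvS_disj : Disjoint XS hvX := by
  rw [Set.disjoint_left]
  intro x h1 h2
  have a := h1.2.1
  have b := h2.2.1
  rw [a] at b
  norm_num at b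

theorem XS_finite : XS.Finite := Set.finite_of_ncard_ne_zero (by rw [XS_ncard]; norm_num)

theorem hvX_finite : hvX.Finite := Set.finite_of_ncard_ne_zero (by rw [hvX_ncard]; norm_num)

theorem hvS_ncard : hvS.ncard = 452 := by
  unfold hvS
  rw [Set.ncard_union_eq hvS_disj XS_finite hvX_finite, XS_ncard, hvX_ncard]

theorem hvS_eq : Set.range hvPt = hvS := by
  apply Set.eq_of_subset_of_ncard_le
  · rintro _ ⟨i, rfl⟩
    exact hvPt_mem i
  · rw [hvS_ncard, Set.ncard_range_of_injective hvPt_inj]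
    simp
  · exact Set.finite_of_ncard_ne_zero (by rw [hvS_ncard]; norm_num)

theorem hvPt_X_iff (i : Fin 452) : hvPt i ∈ hvX ↔ 100 ≤ i.1 := by
  constructor
  · intro h
    by_contra hlt
    exact Set.disjoint_left.1 hvS_disj (hvPt_mem1 i (by omega)) h
  · exact hvPt_mem2 i

/-! ### the two automorphisms of the lattice -/

/-- the first generator: a coordinate permutation -/
def hvE1 : ↥Co0 := ⟨permE hvP1 hvP1_mem, permE_mem _ _⟩

/-- the second generator -/
def hvE2 : ↥Co0 := ⟨permE hvPs hvPs_mem, permE_mem _ _⟩ * ⟨xiE, xiE_mem⟩ *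
  ⟨permE hvPp hvPp_mem, permE_mem _ _⟩ * ⟨xiE, xiE_mem⟩ * ⟨permE hvPb hvPb_mem, permE_mem _ _⟩

theorem hvE1_val (x : ↥leechLattice) (p : GolayPt) :
    (hvE1.1 x).1 p = x.1 (Helper12.Golay.tblFun hvT1 p) := rfl

theorem hvE2_val (x : ↥leechLattice) (p : GolayPt) : (hvE2.1 x).1 p = hvW2 x.1 p := rfl

theorem hvE1_mem : hvE1 ∈ G0 := by
  rw [mem_G0]
  constructor
  · apply Subtype.ext
    funext p
    rw [hvE1_val]
    exact hvE1_fixu p
  · apply Subtype.ext
    funext p
    rw [hvE1_val]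
    exact hvE1_fixw p

theorem hvE2_mem : hvE2 ∈ G0 := by
  rw [mem_G0]
  constructor
  · apply Subtype.ext
    funext p
    rw [hvE2_val]
    exact hvE2_fixu p
  · apply Subtype.ext
    funext p
    rw [hvE2_val]
    exact hvE2_fixw p

/-! ### the action on the indices -/

theorem map_hvS (g : ↥G0) (x : ↥leechLattice) (hx : x ∈ hvS) : g.1.1 x ∈ hvS := by
  obtain ⟨hu, hw⟩ := (mem_G0 g.1).1 g.2
  have du := dot_map g.1 u48 x
  have dw := dot_map g.1 wS x
  rw [hu] at du
  rw [hw] at dw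
  rcases hx with ⟨h1, h2, h3⟩ | ⟨h1, h2, h3⟩
  · exact Or.inl ⟨(g.1.2.2 x).trans h1, du.trans h2, dw.trans h3⟩
  · exact Or.inr ⟨(g.1.2.2 x).trans h1, du.trans h2, dw.trans h3⟩

theorem hv_exists_idx (g : ↥G0) (i : Fin 452) : ∃ j : Fin 452, hvPt j = g.1.1 (hvPt i) := by
  have h := map_hvS g (hvPt i) (hvPt_mem i)
  rw [← hvS_eq] at h
  exact h

/-- the image of an index -/
noncomputable def hvAct (g : ↥G0) (i : Fin 452) : Fin 452 := Classical.choose (hv_exists_idx g i)

theorem hvPt_hvAct (g : ↥G0) (i : Fin 452) : hvPt (hvAct g i) = g.1.1 (hvPt i) :=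
  Classical.choose_spec (hv_exists_idx g i)

theorem hvAct_mul (g h : ↥G0) (i : Fin 452) : hvAct (g * h) i = hvAct g (hvAct h i) := by
  apply hvPt_inj
  rw [hvPt_hvAct, hvPt_hvAct, hvPt_hvAct]
  rfl

theorem hvAct_one (i : Fin 452) : hvAct 1 i = i := by
  apply hvPt_inj
  rw [hvPt_hvAct]
  rfl

/-- the permutation of the indices induced by an element -/
noncomputable def hvPerm (g : ↥G0) : Equiv.Perm (Fin 452) where
  toFun := hvAct g
  invFun := hvAct g⁻¹
  left_inv i := by rw [← hvAct_mul, inv_mul_cancel, hvAct_one]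
  right_inv i := by rw [← hvAct_mul, mul_inv_cancel, hvAct_one]

/-- the permutation representation on the 452 points -/
noncomputable def hvRho : ↥G0 →* Equiv.Perm (Fin 452) where
  toFun := hvPerm
  map_one' := by
    ext i
    exact congrArg Fin.val (hvAct_one i)
  map_mul' g h := by
    ext i
    exact congrArg Fin.val (hvAct_mul g h i)

theorem hvRho_apply (g : ↥G0) (i : Fin 452) : hvPt (hvRho g i) = g.1.1 (hvPt i) :=
  hvPt_hvAct g i

/-- the permutation of the points induced by the first generator -/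
def hvS1 : Equiv.Perm (Fin 452) := (hvcgen hvcT1x0 hvcI1x0).perm 452

/-- the permutation of the points induced by the second generator -/
def hvS2 : Equiv.Perm (Fin 452) := (hvcgen hvcT1x1 hvcI1x1).perm 452

theorem hvS1_val (i : Fin 452) : (hvS1 i).1 = hvclk hvcT1x0 i.1 := PFun.perm_apply hvc_ok1 i

theorem hvS2_val (i : Fin 452) : (hvS2 i).1 = hvclk hvcT1x1 i.1 := PFun.perm_apply hvc_ok2 i

theorem hvE1_pt (i : Fin 452) : hvE1.1 (hvPt i) = hvPt (hvS1 i) := by
  apply Subtype.ext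
  funext p
  show (hvE1.1 (hvPt i)).1 p = hvV (hvS1 i).1 p
  rw [hvS1_val, hvE1_val]
  exact hv_st1 i p

theorem hvE2_pt (i : Fin 452) : hvE2.1 (hvPt i) = hvPt (hvS2 i) := by
  apply Subtype.ext
  funext p
  show (hvE2.1 (hvPt i)).1 p = hvV (hvS2 i).1 p
  rw [hvS2_val, hvE2_val]
  exact hv_st2 i p

theorem hvRho_1 : hvRho ⟨hvE1, hvE1_mem⟩ = hvS1 := by
  ext i
  apply congrArg Fin.val
  apply hvPt_inj
  rw [hvRho_apply]
  exact hvE1_pt i

theorem hvRho_2 : hvRho ⟨hvE2, hvE2_mem⟩ = hvS2 := by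
  ext i
  apply congrArg Fin.val
  apply hvPt_inj
  rw [hvRho_apply]
  exact hvE2_pt i

/-! ### faithfulness -/

instance hvG0_finite : Finite ↥G0 := Nat.finite_of_card_ne_zero (by rw [card_G0]; norm_num)

theorem hvS2_ne_one : hvS2 ≠ 1 := by
  intro h
  have := congrArg (fun s : Equiv.Perm (Fin 452) => (s 0).1) h
  simp only [hvS2_val] at this
  revert this
  decide +kernel

theorem hvRho_injective : Function.Injective hvRho := by
  have := G0_simple
  rw [← MonoidHom.ker_eq_bot_iff]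
  rcases (inferInstance : hvRho.ker.Normal).eq_bot_or_eq_top with h | h
  · exact h
  · exfalso
    have : (⟨hvE2, hvE2_mem⟩ : ↥G0) ∈ hvRho.ker := by
      rw [h]
      exact Subgroup.mem_top _
    rw [MonoidHom.mem_ker, hvRho_2] at this
    exact hvS2_ne_one this

/-! ### the group of the chain -/

/-- the concrete group -/
abbrev P452 : Subgroup (Equiv.Perm (Fin 452)) := pgGrpW 452 hvcC

theorem hvcown : hvcL1.own = [hvcgen hvcT1x0 hvcI1x0, hvcgen hvcT1x1 hvcI1x1] := rfl

theorem P452_le : P452 ≤ hvRho.range := by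
  change Subgroup.closure (pgSet 452 hvcL1.own) ≤ _
  rw [Subgroup.closure_le]
  rintro _ ⟨P, hP, rfl⟩
  rw [hvcown] at hP
  simp only [List.mem_cons, List.not_mem_nil, or_false] at hP
  rcases hP with rfl | rfl
  · exact ⟨_, hvRho_1⟩
  · exact ⟨_, hvRho_2⟩

theorem hvc_ord : pgOrdW 452 hvcC = 44352000 := by decide +kernel

theorem hvcA : pgGrpW 452 hvcC ≤ (pgRigidAll 452).A := le_top

theorem P452_card : Nat.card P452 = 44352000 := by
  rw [pgCardW (pgRigidAll 452) hvcC hvcchkC hvcA, hvc_ord]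

theorem hvRange_card : Nat.card ↥hvRho.range = 44352000 := by
  rw [← Nat.card_congr (MonoidHom.ofInjective hvRho_injective).toEquiv, card_G0]

theorem hvRange_eq : hvRho.range = P452 :=
  (Subgroup.eq_of_le_of_card_ge P452_le (by rw [hvRange_card, P452_card])).symm

theorem hvcchk0 : pgChk0W 452 hvcC = true := by
  unfold hvcC
  rw [pgChk0W_cons, pgChk0W_cons, pgChk0W_cons, pgChk0W_cons, pgChk0W_cons, hvcchk0x1, hvcchk0x2,
    hvcchk0x3, hvcchk0x4, hvcchk0x5]
  rfl

theorem hvcvalid : PgValidW 452 hvcC :=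
  (pgValid_of_card hvcC hvcchk0 (by rw [P452_card, hvc_ord])).1

/-! ### transitivity on the 352 points -/

theorem hvc_orb : ∀ i : Fin 352, hvcL1.inO (100 + i.1) = true := by decide +kernel

theorem hvc_b1 : hvcL1.b = 100 := rfl

/-- the first of the 352 points -/
def hvx0 : Fin 452 := ⟨100, by norm_num⟩

theorem P452_trans (i : Fin 452) (hi : 100 ≤ i.1) : ∃ g ∈ P452, g hvx0 = i := by
  obtain ⟨hb, -, -, horb⟩ := pgLvl_facts (n := 452) (L := hvcL1)
    (C := [hvcL2, hvcL3, hvcL4, hvcL5]) hvcchk0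
  have := hvc_orb ⟨i.1 - 100, by have := i.2; omega⟩
  simp only at this
  rw [show 100 + (i.1 - 100) = i.1 by omega] at this
  obtain ⟨g, hg, hgi⟩ := horb i this
  exact ⟨g, hg, hgi⟩

/-- the group of the frame is transitive on the 352 vectors -/
theorem G0_trans (x x' : ↥leechLattice) (hx : x ∈ hvX) (hx' : x' ∈ hvX) :
    ∃ g : ↥G0, g.1.1 x = x' := by
  have h1 : x ∈ hvS := Or.inr hx
  have h2 : x' ∈ hvS := Or.inr hx'
  rw [← hvS_eq] at h1 h2
  obtain ⟨i, rfl⟩ := h1
  obtain ⟨i', rfl⟩ := h2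
  rw [hvPt_X_iff] at hx hx'
  obtain ⟨a, ha, hai⟩ := P452_trans i hx
  obtain ⟨b, hb, hbi⟩ := P452_trans i' hx'
  have hm : b * a⁻¹ ∈ hvRho.range := by
    rw [hvRange_eq]
    exact mul_mem hb (inv_mem ha)
  obtain ⟨g, hg⟩ := hm
  refine ⟨g, ?_⟩
  rw [← hvRho_apply, hg, Equiv.Perm.mul_apply, ← hai, Equiv.Perm.inv_def, Equiv.symm_apply_apply, hbi]

end Cfsg.Agent.Lib.helper23
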