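import Mathlib
import Cfsg.Prelude.Def_ChevStructure
import Cfsg.Agent.Lib.helper14.INV.Defs

/-!
# Project INV, generic structure lemma (G1)

If the word `w` acts on the roots as an involution fixing or making negative every fundamental root
(`JProp`), then every positive root `r` with `w r` positive lies in the subsystem spanned by the
fundamental roots fixed by `w`.  This is the hypothesis `hstruct` of `invol_conj_N`, for every
Chevalley datum satisfying the small check `h23invChk` (the coordinates of the fundamental roots are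
the unit vectors).

Proof: `W` acts linearly on the coordinates (`H8Refl.tc2`); `L := L_w` fixes `e_j`, `j ∈ J`, maps `e_i`,
`i ∉ J`, to a non-positive vector and `L² e_i = e_i`.
-/

set_option autoImplicit false
set_option linter.unusedVariables false

namespace Cfsg.Agent.Lib.helper14.INV

open Cfsg.Lie Cfsg.Lie.ChevalleyDatum Cfsg.Agent.Lib.helper8 Cfsg.Agent.Lib.helper14

/-- the coordinates of the fundamental roots are the unit vectors, and they are in range -/
def h23invChk (D : ChevalleyDatum) : Bool :=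
  (List.range D.rank).all fun j => decide (D.simple j < D.nroots) &&
    (List.range D.rank).all fun k =>
      decide ((D.coroot.getD (D.simple j) #[]).getD k 0 = if j = k then 1 else 0)

theorem h23invChk_spec (D : ChevalleyDatum) (h : h23invChk D = true) (j : ℕ) (hj : j < D.rank) :
    D.simple j < D.nroots ∧ ∀ k < D.rank,
      (D.coroot.getD (D.simple j) #[]).getD k 0 = if j = k then 1 else 0 := by
  unfold h23invChk at h
  rw [List.all_eq_true] at h
  have h1 := h j (List.mem_range.mpr hj)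
  simp only [Bool.and_eq_true, decide_eq_true_eq, List.all_eq_true, List.mem_range] at h1
  exact h1

/-- the coordinate vector of the root with index `s` -/
def h23cv (D : ChevalleyDatum) (s : ℕ) : Fin D.rank → ℤ :=
  fun j => (D.coroot.getD s #[]).getD j.val 0

/-- the fundamental reflection `s_i` on coordinate vectors -/
def h23rL (D : ChevalleyDatum) (i : ℕ) : (Fin D.rank → ℤ) →ₗ[ℤ] (Fin D.rank → ℤ) where
  toFun v := fun j => v j - if j.val = i then ∑ k : Fin D.rank, v k * D.cartan k.val (D.simple i) else 0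
  map_add' v v' := by
    funext j
    simp only [Pi.add_apply]
    split_ifs
    · simp only [add_mul, Finset.sum_add_distrib]; ring
    · ring
  map_smul' a v := by
    funext j
    simp only [Pi.smul_apply, smul_eq_mul, RingHom.id_apply]
    split_ifs
    · rw [mul_sub, Finset.mul_sum]
      congr 1
      apply Finset.sum_congr rfl
      intro k _
      ring
    · ring

/-- the word `w` on coordinate vectors -/
def h23L (D : ChevalleyDatum) : List ℕ → ((Fin D.rank → ℤ) →ₗ[ℤ] (Fin D.rank → ℤ))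
  | [] => LinearMap.id
  | i :: w => (h23rL D i).comp (h23L D w)

theorem h23cv_refl (D : ChevalleyDatum) (hA : H8ReflAll D) (i : ℕ) (hi : i < D.rank) (s : ℕ)
    (hs : s < D.nroots) : h23cv D (D.reflectRoot i s) = h23rL D i (h23cv D s) := by
  obtain ⟨η, hR⟩ := h8reflAll_spec D hA i hi
  funext j
  have := hR.tc2 j.val j.2 s hs
  show (D.coroot.getD (D.reflectRoot i s) #[]).getD j.val 0 = _
  rw [this]
  rfl

theorem h23cv_word (D : ChevalleyDatum) (hA : H8ReflAll D) (w : List ℕ) (hw : ValidW D w) (s : ℕ)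
    (hs : s < D.nroots) : h23cv D (h8sW D w s) = h23L D w (h23cv D s) := by
  induction w with
  | nil => rfl
  | cons i w ih =>
    have hw' : ValidW D w := fun k hk => hw k (List.mem_cons_of_mem _ hk)
    have hi : i < D.rank := hw i List.mem_cons_self
    show h23cv D (D.reflectRoot i (h8sW D w s)) = (h23rL D i) (h23L D w (h23cv D s))
    rw [h23cv_refl D hA i hi _ (h8sW_lt D hA w hw' s hs), ih hw']

theorem h23getD_mem_or (a : Array ℤ) (j : ℕ) : a.getD j 0 ∈ a.toList ∨ a.getD j 0 = 0 := by
  by_cases h : j < a.size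
  · left
    rw [Array.getD_eq_getD_getElem?, Array.getElem?_eq_getElem h]
    simp
  · right
    rw [Array.getD_eq_getD_getElem?, Array.getElem?_eq_none (by omega)]
    rfl

theorem h23cv_pos (D : ChevalleyDatum) (s : ℕ) (h : D.IsPosRoot s) (j : Fin D.rank) :
    0 ≤ h23cv D s j := by
  rcases h23getD_mem_or (D.coroot.getD s #[]) j.val with h1 | h1
  · exact h.2 _ h1
  · show 0 ≤ (D.coroot.getD s #[]).getD j.val 0
    rw [h1]

theorem h23cv_neg (D : ChevalleyDatum) (s : ℕ) (h : D.IsNegRoot s) (j : Fin D.rank) :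
    h23cv D s j ≤ 0 := by
  rcases h23getD_mem_or (D.coroot.getD s #[]) j.val with h1 | h1
  · exact h.2 _ h1
  · show (D.coroot.getD s #[]).getD j.val 0 ≤ 0
    rw [h1]

theorem h23cv_simple (D : ChevalleyDatum) (hchk : h23invChk D = true) (i : Fin D.rank) :
    h23cv D (D.simple i.val) = fun j => if i = j then 1 else 0 := by
  funext j
  have := (h23invChk_spec D hchk i.val i.2).2 j.val j.2
  show (D.coroot.getD (D.simple i.val) #[]).getD j.val 0 = _
  rw [this]
  by_cases h : i = j
  · rw [if_pos h, if_pos (by rw [h])]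
  · rw [if_neg h, if_neg (fun h' => h (Fin.ext h'))]

/-- the unit vectors -/
def h23e (n : ℕ) (i : Fin n) : Fin n → ℤ := fun j => if i = j then 1 else 0

theorem h23e_self (n : ℕ) (i : Fin n) : h23e n i i = 1 := by
  unfold h23e
  rw [if_pos rfl]

theorem h23e_ne (n : ℕ) (i j : Fin n) (h : i ≠ j) : h23e n i j = 0 := by
  unfold h23e
  rw [if_neg h]

section lin

variable {n : ℕ} (L : (Fin n → ℤ) →ₗ[ℤ] (Fin n → ℤ)) (J : Set (Fin n))

theorem h23lin_exp (v : Fin n → ℤ) (k : Fin n) : L v k = ∑ i, v i * L (h23e n i) k := by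
  have := LinearMap.pi_apply_eq_sum_univ L v
  rw [this, Finset.sum_apply]
  apply Finset.sum_congr rfl
  intro i _
  rfl

/-- a vector supported on `J` is fixed -/
theorem h23lin_fix (H1 : ∀ j ∈ J, L (h23e n j) = h23e n j) (v : Fin n → ℤ)
    (hv : ∀ i, i ∉ J → v i = 0) : L v = v := by
  funext k
  rw [h23lin_exp]
  have : ∀ i ∈ (Finset.univ : Finset (Fin n)), v i * L (h23e n i) k = v i * h23e n i k := by
    intro i _
    by_cases hi : i ∈ J
    · rw [H1 i hi]
    · rw [hv i hi, zero_mul, zero_mul]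
  rw [Finset.sum_congr rfl this]
  have h2 : ∀ i ∈ (Finset.univ : Finset (Fin n)), i ≠ k → v i * h23e n i k = 0 := by
    intro i _ hik
    rw [h23e_ne n i k hik, mul_zero]
  rw [Finset.sum_eq_single k h2 (fun h => absurd (Finset.mem_univ k) h), h23e_self, mul_one]

/-- the key positivity lemma -/
theorem h23lin_supp (H1 : ∀ j ∈ J, L (h23e n j) = h23e n j)
    (H2 : ∀ i, i ∉ J → ∀ k, L (h23e n i) k ≤ 0) (H3 : ∀ i, L (L (h23e n i)) = h23e n i)
    (v : Fin n → ℤ) (hv : ∀ i, 0 ≤ v i) (hLv : ∀ k, 0 ≤ L v k) : ∀ i, i ∉ J → v i = 0 := by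
  have hterm : ∀ k : Fin n, k ∉ J → ∀ i : Fin n, v i * L (h23e n i) k = 0 := by
    intro k hk
    have hnonpos : ∀ i ∈ (Finset.univ : Finset (Fin n)), v i * L (h23e n i) k ≤ 0 := by
      intro i _
      by_cases hi : i ∈ J
      · rw [H1 i hi, h23e_ne n i k (fun h => hk (h ▸ hi)), mul_zero]
      · exact mul_nonpos_of_nonneg_of_nonpos (hv i) (H2 i hi k)
    have hsum : ∑ i, v i * L (h23e n i) k = 0 := by
      apply le_antisymm (Finset.sum_nonpos hnonpos)
      rw [← h23lin_exp]
      exact hLv k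
    intro i
    exact (Finset.sum_eq_zero_iff_of_nonpos hnonpos).mp hsum i (Finset.mem_univ i)
  intro i hiJ
  by_contra hne
  have hLi : ∀ k : Fin n, k ∉ J → L (h23e n i) k = 0 := by
    intro k hk
    rcases mul_eq_zero.mp (hterm k hk i) with h1 | h1
    · exact absurd h1 hne
    · exact h1
  have h1 := h23lin_fix L J H1 (L (h23e n i)) hLi
  rw [H3] at h1
  have h2 := hLi i hiJ
  rw [← h1, h23e_self] at h2
  exact one_ne_zero h2

theorem h23lin_supp_neg (H1 : ∀ j ∈ J, L (h23e n j) = h23e n j)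
    (H2 : ∀ i, i ∉ J → ∀ k, L (h23e n i) k ≤ 0) (H3 : ∀ i, L (L (h23e n i)) = h23e n i)
    (v : Fin n → ℤ) (hv : ∀ i, v i ≤ 0) (hLv : ∀ k, L v k ≤ 0) : ∀ i, i ∉ J → v i = 0 := by
  intro i hi
  have := h23lin_supp L J H1 H2 H3 (-v) (fun i => by simpa using hv i)
    (fun k => by rw [map_neg]; simpa using hLv k) i hi
  simpa using this

end lin

/-- the fundamental roots fixed by `w`, as a set of `Fin D.rank` -/
def h23J (D : ChevalleyDatum) (w : List ℕ) : Set (Fin D.rank) := {i | i.val ∈ FixJ D w}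

theorem h23simple_lt (D : ChevalleyDatum) (hchk : h23invChk D = true) (i : Fin D.rank) :
    D.simple i.val < D.nroots := (h23invChk_spec D hchk i.val i.2).1

theorem h23L_e (D : ChevalleyDatum) (hA : H8ReflAll D) (hchk : h23invChk D = true)
    (w : List ℕ) (hw : ValidW D w) (i : Fin D.rank) :
    h23L D w (h23e D.rank i) = h23cv D (h8sW D w (D.simple i.val)) := by
  rw [h23cv_word D hA w hw _ (h23simple_lt D hchk i), h23cv_simple D hchk i]
  rfl

theorem h23jprop_H1 (D : ChevalleyDatum) (hA : H8ReflAll D) (hchk : h23invChk D = true)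
    (w : List ℕ) (hw : ValidW D w) :
    ∀ j ∈ h23J D w, h23L D w (h23e D.rank j) = h23e D.rank j := by
  intro j hj
  rw [h23L_e D hA hchk w hw j, hj.2, h23cv_simple D hchk j]
  rfl

theorem h23jprop_H2 (D : ChevalleyDatum) (hA : H8ReflAll D)
    (hpn : ∀ r < D.nroots, D.IsPosRoot r ∨ D.IsNegRoot r) (hchk : h23invChk D = true)
    (w : List ℕ) (hw : ValidW D w) (hJ : JProp D w) :
    ∀ i, i ∉ h23J D w → ∀ k, h23L D w (h23e D.rank i) k ≤ 0 := by
  intro i hi k
  rw [h23L_e D hA hchk w hw i]
  apply h23cv_neg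
  rcases hJ.2 i.val i.2 with h1 | h1
  · exact absurd ⟨i.2, h1⟩ hi
  · rcases hpn _ (h8sW_lt D hA w hw _ (h23simple_lt D hchk i)) with h2 | h2
    · exact absurd h2 h1
    · exact h2

theorem h23jprop_H3 (D : ChevalleyDatum) (hA : H8ReflAll D) (hchk : h23invChk D = true)
    (w : List ℕ) (hw : ValidW D w) (hJ : JProp D w) :
    ∀ i, h23L D w (h23L D w (h23e D.rank i)) = h23e D.rank i := by
  intro i
  rw [h23L_e D hA hchk w hw i,
    ← h23cv_word D hA w hw _ (h8sW_lt D hA w hw _ (h23simple_lt D hchk i)),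
    hJ.1 _ (h23simple_lt D hchk i), h23cv_simple D hchk i]
  rfl

/-- G1 : the structure of the words with `JProp` -/
theorem jprop_struct (D : ChevalleyDatum) (hA : H8ReflAll D)
    (hpn : ∀ r < D.nroots, D.IsPosRoot r ∨ D.IsNegRoot r) (hchk : h23invChk D = true)
    (w : List ℕ) (hw : ValidW D w) (hJ : JProp D w) :
    ∀ r, D.IsPosRoot r → D.IsPosRoot (h8sW D w r) → D.InRootSub (FixJ D w) r := by
  intro r hr hwr
  refine ⟨hr.1, fun i hi hiJ => ?_⟩
  exact h23lin_supp (h23L D w) (h23J D w) (h23jprop_H1 D hA hchk w hw)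
    (h23jprop_H2 D hA hpn hchk w hw hJ) (h23jprop_H3 D hA hchk w hw hJ) (h23cv D r)
    (h23cv_pos D r hr) (fun k => by
      rw [← h23cv_word D hA w hw r hr.1]
      exact h23cv_pos D _ hwr k) ⟨i, hi⟩ hiJ

/-- the negative version of G1 -/
theorem jprop_struct_neg (D : ChevalleyDatum) (hA : H8ReflAll D)
    (hpn : ∀ r < D.nroots, D.IsPosRoot r ∨ D.IsNegRoot r) (hchk : h23invChk D = true)
    (w : List ℕ) (hw : ValidW D w) (hJ : JProp D w) :
    ∀ r, D.IsNegRoot r → D.IsNegRoot (h8sW D w r) → D.InRootSub (FixJ D w) r := by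
  intro r hr hwr
  refine ⟨hr.1, fun i hi hiJ => ?_⟩
  exact h23lin_supp_neg (h23L D w) (h23J D w) (h23jprop_H1 D hA hchk w hw)
    (h23jprop_H2 D hA hpn hchk w hw hJ) (h23jprop_H3 D hA hchk w hw hJ) (h23cv D r)
    (h23cv_neg D r hr) (fun k => by
      rw [← h23cv_word D hA w hw r hr.1]
      exact h23cv_neg D _ hwr k) ⟨i, hi⟩ hiJ

/-- a word with `JProp` fixes the coordinates of the roots of its subsystem -/
theorem jprop_fix_sub (D : ChevalleyDatum) (hA : H8ReflAll D) (hchk : h23invChk D = true)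
    (w : List ℕ) (hw : ValidW D w) (r : ℕ) (hr : D.InRootSub (FixJ D w) r) :
    h23cv D (h8sW D w r) = h23cv D r := by
  rw [h23cv_word D hA w hw r hr.1]
  exact h23lin_fix (h23L D w) (h23J D w) (h23jprop_H1 D hA hchk w hw) (h23cv D r)
    (fun i hi => hr.2 i.val i.2 hi)

/-- G2 : a word with `JProp` is determined, as a permutation of the roots, by the set of the
fundamental roots it fixes -/
theorem jprop_unique (D : ChevalleyDatum) (hB0 : H8Base.{0} D) (hA : H8ReflAll D) (hBN : H8BN D)
    (hW : H8BN2 D) (hO2 : H8Ord2 D) (hchk : h23invChk D = true)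
    (w w' : List ℕ) (hw : ValidW D w) (hw' : ValidW D w') (hJ : JProp D w) (hJ' : JProp D w')
    (hFix : FixJ D w = FixJ D w') : ∀ r < D.nroots, h8sW D w r = h8sW D w' r := by
  have hpn := hB0.posneg
  have hJeq : h23J D w = h23J D w' := by
    unfold h23J
    rw [hFix]
  have hmem : h8wPerm D hA w * h8wPerm D hA w' ∈ h8W D hA :=
    Subgroup.mul_mem _ ((h8W_mem_iff D hA _).mpr ⟨w, hw, rfl⟩)
      ((h8W_mem_iff D hA _).mpr ⟨w', hw', rfl⟩)
  have hone := h8W_simple_pos D hB0 hA hBN hW hO2 _ hmem (by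
    intro i
    rw [Equiv.Perm.mul_apply, h8wPerm_val D hA w hw, h8wPerm_val D hA w' hw']
    show D.IsPosRoot (h8sW D w (h8sW D w' (D.simple i.val)))
    have hsl := h23simple_lt D hchk i
    by_cases hi : i.val ∈ FixJ D w'
    · rw [hi.2]
      rw [← hFix] at hi
      rw [hi.2]
      exact h8simple_pos D hBN i.val i.2
    · have hs_lt := h8sW_lt D hA w' hw' _ hsl
      have hs_neg : D.IsNegRoot (h8sW D w' (D.simple i.val)) := by
        rcases hJ'.2 i.val i.2 with h1 | h1
        · exact absurd ⟨i.2, h1⟩ hi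
        · rcases hpn _ hs_lt with h2 | h2
          · exact absurd h2 h1
          · exact h2
      rcases hpn _ (h8sW_lt D hA w hw _ hs_lt) with h2 | h2
      · exact h2
      · exfalso
        have hsub := jprop_struct_neg D hA hpn hchk w hw hJ _ hs_neg h2
        rw [hFix] at hsub
        have hfix := jprop_fix_sub D hA hchk w' hw' _ hsub
        rw [hJ'.1 _ hsl, h23cv_simple D hchk i] at hfix
        have h3 := hsub.2 i.val i.2 hi
        have h4 := congrFun hfix i
        simp only [if_true] at h4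
        have h5 : h23cv D (h8sW D w' (D.simple i.val)) i = 0 := h3
        rw [h5] at h4
        exact one_ne_zero h4)
  intro r hr
  have h1 : (h8wPerm D hA w * h8wPerm D hA w') ⟨r, hr⟩ = ⟨r, hr⟩ := by
    rw [hone, Equiv.Perm.one_apply]
  have h2 := congrArg Fin.val h1
  rw [Equiv.Perm.mul_apply, h8wPerm_val D hA w hw, h8wPerm_val D hA w' hw'] at h2
  have h3 : h8sW D w (h8sW D w (h8sW D w' r)) = h8sW D w' r :=
    hJ.1 _ (h8sW_lt D hA w' hw' r hr)
  have h2' : h8sW D w (h8sW D w' r) = r := h2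
  rw [h2'] at h3
  exact h3

end Cfsg.Agent.Lib.helper14.INV
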