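import Mathlib
import Cfsg.Prelude.Def_ChevStructure
import Cfsg.Agent.Lib.helper23.INVG1

/-!
# Project INV, generic structure lemma (G3): a word with `JProp` is `w₀ w_J`

If `w` has `JProp`, `J = FixJ w`, `x` is a word mapping every positive root to a negative root and `v` is a
word mapping the positive roots of `Φ_J` to negative roots of `Φ_J` and permuting the other positive
roots, then `w ∘ v = x` on the roots.
-/

set_option autoImplicit false
set_option linter.unusedVariables false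

namespace Cfsg.Agent.Lib.helper14.INV

open Cfsg.Lie Cfsg.Lie.ChevalleyDatum Cfsg.Agent.Lib.helper8 Cfsg.Agent.Lib.helper14

/-- no root has the zero coordinate vector -/
def h23invChk2 (D : ChevalleyDatum) : Bool :=
  (List.range D.nroots).all fun r => (List.range D.rank).any fun j =>
    decide ((D.coroot.getD r #[]).getD j 0 ≠ 0)

theorem h23invChk2_spec (D : ChevalleyDatum) (h : h23invChk2 D = true) (r : ℕ) (hr : r < D.nroots) :
    ∃ j : Fin D.rank, h23cv D r j ≠ 0 := by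
  unfold h23invChk2 at h
  rw [List.all_eq_true] at h
  have h1 := h r (List.mem_range.mpr hr)
  simp only [List.any_eq_true, List.mem_range, decide_eq_true_eq] at h1
  obtain ⟨j, hj, h2⟩ := h1
  exact ⟨⟨j, hj⟩, h2⟩

/-- a word with `JProp` maps the negative roots of its subsystem to negative roots -/
theorem jprop_neg_sub (D : ChevalleyDatum) (hA : H8ReflAll D)
    (hpn : ∀ r < D.nroots, D.IsPosRoot r ∨ D.IsNegRoot r) (hchk : h23invChk D = true)
    (hchk2 : h23invChk2 D = true) (w : List ℕ) (hw : ValidW D w) (s : ℕ) (hs : D.IsNegRoot s)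
    (hsub : D.InRootSub (FixJ D w) s) : D.IsNegRoot (h8sW D w s) := by
  rcases hpn _ (h8sW_lt D hA w hw s hs.1) with h2 | h2
  · exfalso
    have hfix := jprop_fix_sub D hA hchk w hw s hsub
    obtain ⟨j, hj⟩ := h23invChk2_spec D hchk2 s hs.1
    apply hj
    apply le_antisymm (h23cv_neg D s hs j)
    rw [← hfix]
    exact h23cv_pos D _ h2 j
  · exact h2

/-- if `X ∈ W` maps positive roots to non-positive roots, then `X⁻¹` maps non-positive roots to positive
roots -/
theorem h23w0_inv_pos (D : ChevalleyDatum) (hB0 : H8Base.{0} D) (hA : H8ReflAll D) (hBN : H8BN D)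
    (hW : H8BN2 D) (hO2 : H8Ord2 D) (X : Equiv.Perm (Fin D.nroots)) (hX : X ∈ h8W D hA)
    (hX0 : ∀ r : Fin D.nroots, D.IsPosRoot r.val → ¬ D.IsPosRoot (X r).val)
    (t : Fin D.nroots) (ht : ¬ D.IsPosRoot t.val) : D.IsPosRoot (X⁻¹ t).val := by
  by_contra hnp
  have h1 : D.IsPosRoot (h8negF D hW (X⁻¹ t)).val := (h8negF_pos D hB0 hBN hW hO2 _).mpr hnp
  have h2 := hX0 _ h1
  have e : X (X⁻¹ t) = t := Equiv.Perm.eq_inv_iff_eq.mp rfl
  rw [h8W_negc D hA hW X hX, e] at h2
  exact h2 ((h8negF_pos D hB0 hBN hW hO2 _).mpr ht)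

/-- G3 : a word with `JProp` is `w₀ w_J` on the roots -/
theorem jprop_eq_w0_wJ (D : ChevalleyDatum) (hB0 : H8Base.{0} D) (hA : H8ReflAll D) (hBN : H8BN D)
    (hW : H8BN2 D) (hO2 : H8Ord2 D) (hchk : h23invChk D = true) (hchk2 : h23invChk2 D = true)
    (w : List ℕ) (hw : ValidW D w) (hJ : JProp D w)
    (x : List ℕ) (hx : ValidW D x) (hx0 : ∀ r, D.IsPosRoot r → ¬ D.IsPosRoot (h8sW D x r))
    (v : List ℕ) (hv : ValidW D v)
    (hv1 : ∀ r, D.IsPosRoot r → D.InRootSub (FixJ D w) r →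
      D.IsNegRoot (h8sW D v r) ∧ D.InRootSub (FixJ D w) (h8sW D v r))
    (hv2 : ∀ r, D.IsPosRoot r → ¬ D.InRootSub (FixJ D w) r →
      D.IsPosRoot (h8sW D v r) ∧ ¬ D.InRootSub (FixJ D w) (h8sW D v r)) :
    ∀ r < D.nroots, h8sW D w (h8sW D v r) = h8sW D x r := by
  have hpn := hB0.posneg
  have hXmem : h8wPerm D hA x ∈ h8W D hA := (h8W_mem_iff D hA _).mpr ⟨x, hx, rfl⟩
  have hmem : (h8wPerm D hA x)⁻¹ * (h8wPerm D hA w * h8wPerm D hA v) ∈ h8W D hA :=
    Subgroup.mul_mem _ (Subgroup.inv_mem _ hXmem)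
      (Subgroup.mul_mem _ ((h8W_mem_iff D hA _).mpr ⟨w, hw, rfl⟩)
        ((h8W_mem_iff D hA _).mpr ⟨v, hv, rfl⟩))
  have hX0 : ∀ r : Fin D.nroots, D.IsPosRoot r.val → ¬ D.IsPosRoot (h8wPerm D hA x r).val := by
    intro r hr
    rw [h8wPerm_val D hA x hx]
    exact hx0 _ hr
  have hone := h8W_simple_pos D hB0 hA hBN hW hO2 _ hmem (by
    intro i
    rw [Equiv.Perm.mul_apply]
    apply h23w0_inv_pos D hB0 hA hBN hW hO2 _ hXmem hX0
    rw [Equiv.Perm.mul_apply, h8wPerm_val D hA w hw, h8wPerm_val D hA v hv]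
    show ¬ D.IsPosRoot (h8sW D w (h8sW D v (D.simple i.val)))
    have hpi := h8simple_pos D hBN i.val i.2
    by_cases hsub : D.InRootSub (FixJ D w) (D.simple i.val)
    · obtain ⟨h1, h2⟩ := hv1 _ hpi hsub
      have h3 := jprop_neg_sub D hA hpn hchk hchk2 w hw _ h1 h2
      intro h4
      exact h8pos_not_neg D hB0 hBN _ h4 h3
    · obtain ⟨h1, h2⟩ := hv2 _ hpi hsub
      intro h4
      exact h2 (jprop_struct D hA hpn hchk w hw hJ _ h1 h4))
  intro r hr
  have h1 : (h8wPerm D hA w * h8wPerm D hA v) ⟨r, hr⟩ = h8wPerm D hA x ⟨r, hr⟩ := by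
    have : h8wPerm D hA w * h8wPerm D hA v =
        h8wPerm D hA x * ((h8wPerm D hA x)⁻¹ * (h8wPerm D hA w * h8wPerm D hA v)) := by group
    rw [this, hone, mul_one]
  have h2 := congrArg Fin.val h1
  rw [Equiv.Perm.mul_apply, h8wPerm_val D hA w hw, h8wPerm_val D hA v hv,
    h8wPerm_val D hA x hx] at h2
  exact h2

end Cfsg.Agent.Lib.helper14.INV
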