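import Mathlib
import Cfsg.Prelude.Def_ChevStructure
import Cfsg.Agent.Lib.helper23.INVG1
import Cfsg.Agent.Lib.helper23.INVG3

/-!
# Project INV: the checks `h23invChk`, `h23invChk2` for the exceptional data
-/

set_option autoImplicit false

namespace Cfsg.Agent.Lib.helper14.INV

open Cfsg.Lie Cfsg.Lie.ChevalleyDatum

theorem h23invChk_G2 : h23invChk chevG2 = true := by decide +kernel
theorem h23invChk_B2 : h23invChk chevB2 = true := by decide +kernel
theorem h23invChk_D4 : h23invChk chevD4 = true := by decide +kernel
theorem h23invChk_F4 : h23invChk chevF4 = true := by decide +kernel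
theorem h23invChk_E6 : h23invChk chevE6 = true := by decide +kernel
theorem h23invChk_E7 : h23invChk chevE7 = true := by decide +kernel
theorem h23invChk_E8 : h23invChk chevE8 = true := by decide +kernel

theorem h23invChk2_G2 : h23invChk2 chevG2 = true := by decide +kernel
theorem h23invChk2_B2 : h23invChk2 chevB2 = true := by decide +kernel
theorem h23invChk2_D4 : h23invChk2 chevD4 = true := by decide +kernel
theorem h23invChk2_F4 : h23invChk2 chevF4 = true := by decide +kernel
theorem h23invChk2_E6 : h23invChk2 chevE6 = true := by decide +kernel
theorem h23invChk2_E7 : h23invChk2 chevE7 = true := by decide +kernel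
theorem h23invChk2_E8 : h23invChk2 chevE8 = true := by decide +kernel

end Cfsg.Agent.Lib.helper14.INV
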