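import Mathlib
import Cfsg.Prelude.Def_ChevStructure
import Cfsg.Agent.Lib.helper23.INVG1
import Cfsg.Agent.Lib.helper23.INVG3

/-!
# Project INV, generic enumeration lemma (G4)

Every word `w` with `JProp` acts on the roots as `x ∘ v_J⁻¹`, where `x` is a word of the longest element,
`J` is the set of the fundamental roots fixed by `w` and `v_J` is ANY word in the letters of `J` mapping the
fundamental roots of `J` to negative roots.  So the tables of the words with `JProp` are found among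
`2^rank` explicit candidates.
-/

set_option autoImplicit false
set_option linter.unusedVariables false

namespace Cfsg.Agent.Lib.helper14.INV

open Cfsg.Lie Cfsg.Lie.ChevalleyDatum Cfsg.Agent.Lib.helper8 Cfsg.Agent.Lib.helper14

/-- a fundamental reflection of `J` preserves the subsystem of `J` -/
theorem h23sub_refl (D : ChevalleyDatum) (hA : H8ReflAll D) (J : Set ℕ) (i : ℕ) (hi : i < D.rank)
    (hiJ : i ∈ J) (s : ℕ) (hs : s < D.nroots) :
    D.InRootSub J (D.reflectRoot i s) ↔ D.InRootSub J s := by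
  obtain ⟨η, hR⟩ := h8reflAll_spec D hA i hi
  have key : ∀ k < D.rank, k ∉ J → (D.coroot.getD (D.reflectRoot i s) #[]).getD k 0 =
      (D.coroot.getD s #[]).getD k 0 := by
    intro k hk hkJ
    rw [hR.tc2 k hk s hs, if_neg (fun (h : k = i) => hkJ (h ▸ hiJ)), sub_zero]
  constructor
  · intro h
    exact ⟨hs, fun k hk hkJ => by rw [← key k hk hkJ]; exact h.2 k hk hkJ⟩
  · intro h
    exact ⟨hR.lt s hs, fun k hk hkJ => by rw [key k hk hkJ]; exact h.2 k hk hkJ⟩

/-- a word in the letters of `J` preserves the subsystem of `J` -/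
theorem h23sub_word (D : ChevalleyDatum) (hA : H8ReflAll D) (J : Set ℕ) (v : List ℕ)
    (hv : ∀ i ∈ v, i < D.rank ∧ i ∈ J) (s : ℕ) (hs : s < D.nroots) :
    D.InRootSub J (h8sW D v s) ↔ D.InRootSub J s := by
  induction v with
  | nil => exact Iff.rfl
  | cons i v ih =>
    have hv' : ∀ k ∈ v, k < D.rank ∧ k ∈ J := fun k hk => hv k (List.mem_cons_of_mem _ hk)
    have hi := hv i List.mem_cons_self
    show D.InRootSub J (D.reflectRoot i (h8sW D v s)) ↔ _
    rw [h23sub_refl D hA J i hi.1 hi.2 _ (h8sW_lt D hA v (fun k hk => (hv' k hk).1) s hs)]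
    exact ih hv'

theorem h23simple_sub (D : ChevalleyDatum) (hchk : h23invChk D = true) (J : Set ℕ) (i : ℕ)
    (hi : i < D.rank) (hiJ : i ∈ J) : D.InRootSub J (D.simple i) := by
  obtain ⟨h1, h2⟩ := h23invChk_spec D hchk i hi
  refine ⟨h1, fun k hk hkJ => ?_⟩
  rw [h2 k hk, if_neg (fun (h : i = k) => hkJ (h ▸ hiJ))]

/-- a word in the letters of `J` permutes the positive roots outside the subsystem of `J` -/
theorem h23wJ_out (D : ChevalleyDatum) (hA : H8ReflAll D) (hBN : H8BN D)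
    (hchk : h23invChk D = true) (J : Set ℕ) (v : List ℕ) (hv : ∀ i ∈ v, i < D.rank ∧ i ∈ J)
    (r : ℕ) (hr : D.IsPosRoot r) (hrJ : ¬ D.InRootSub J r) :
    D.IsPosRoot (h8sW D v r) ∧ ¬ D.InRootSub J (h8sW D v r) := by
  refine ⟨?_, fun h => hrJ ((h23sub_word D hA J v hv r hr.1).mp h)⟩
  induction v with
  | nil => exact hr
  | cons i v ih =>
    have hv' : ∀ k ∈ v, k < D.rank ∧ k ∈ J := fun k hk => hv k (List.mem_cons_of_mem _ hk)
    have hi := hv i List.mem_cons_self
    have h1 := ih hv'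
    have h2 : ¬ D.InRootSub J (h8sW D v r) := fun h =>
      hrJ ((h23sub_word D hA J v hv' r hr.1).mp h)
    have h3 : h8sW D v r ≠ D.simple i := by
      intro h
      rw [h] at h2
      exact h2 (h23simple_sub D hchk J i hi.1 hi.2)
    exact (h8spChk_spec D i (hBN.sp i hi.1) _ h1 h3).1

/-- a word in the letters of `J` making the fundamental roots of `J` negative makes all positive roots
of the subsystem of `J` negative -/
theorem h23wJ_in (D : ChevalleyDatum) (hA : H8ReflAll D)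
    (hpn : ∀ r < D.nroots, D.IsPosRoot r ∨ D.IsNegRoot r)
    (hchk : h23invChk D = true) (hchk2 : h23invChk2 D = true) (J : Set ℕ) (v : List ℕ)
    (hv : ∀ i ∈ v, i < D.rank ∧ i ∈ J)
    (hneg : ∀ j < D.rank, j ∈ J → D.IsNegRoot (h8sW D v (D.simple j)))
    (r : ℕ) (hr : D.IsPosRoot r) (hrJ : D.InRootSub J r) :
    D.IsNegRoot (h8sW D v r) ∧ D.InRootSub J (h8sW D v r) := by
  have hvV : ValidW D v := fun i hi => (hv i hi).1
  refine ⟨?_, (h23sub_word D hA J v hv r hr.1).mpr hrJ⟩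
  have hcoord : ∀ k : Fin D.rank, h23cv D (h8sW D v r) k ≤ 0 := by
    intro k
    rw [h23cv_word D hA v hvV r hr.1, h23lin_exp]
    apply Finset.sum_nonpos
    intro i _
    by_cases hi : i.val ∈ J
    · apply mul_nonpos_of_nonneg_of_nonpos (h23cv_pos D r hr i)
      rw [h23L_e D hA hchk v hvV i]
      exact h23cv_neg D _ (hneg i.val i.2 hi) k
    · have : h23cv D r i = 0 := hrJ.2 i.val i.2 hi
      rw [this, zero_mul]
  rcases hpn _ (h8sW_lt D hA v hvV r hr.1) with h2 | h2
  · exfalso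
    obtain ⟨j, hj⟩ := h23invChk2_spec D hchk2 _ (h8sW_lt D hA v hvV r hr.1)
    exact hj (le_antisymm (hcoord j) (h23cv_pos D _ h2 j))
  · exact h2

/-- G4 : the enumeration of the words with `JProp` -/
theorem jprop_enum (D : ChevalleyDatum) (hB0 : H8Base.{0} D) (hA : H8ReflAll D) (hBN : H8BN D)
    (hW : H8BN2 D) (hO2 : H8Ord2 D) (hchk : h23invChk D = true) (hchk2 : h23invChk2 D = true)
    (x : List ℕ) (hx : ValidW D x) (hx0 : ∀ r, D.IsPosRoot r → D.IsNegRoot (h8sW D x r))
    (vJ : List ℕ → List ℕ)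
    (hvJ : ∀ Jl ∈ (List.range D.rank).sublists, (∀ i ∈ vJ Jl, i ∈ Jl) ∧
      ∀ j ∈ Jl, D.IsNegRoot (h8sW D (vJ Jl) (D.simple j)))
    (w : List ℕ) (hw : ValidW D w) (hJ : JProp D w) :
    ∃ Jl ∈ (List.range D.rank).sublists, (∀ i, i ∈ Jl ↔ i ∈ FixJ D w) ∧
      ∀ r < D.nroots, h8sW D w r = h8sW D x (h8sW D (vJ Jl).reverse r) := by
  classical
  set Jl := (List.range D.rank).filter
    (fun i => decide (h8sW D w (D.simple i) = D.simple i)) with hJl
  have hsub : Jl ∈ (List.range D.rank).sublists := by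
    rw [List.mem_sublists]
    exact List.filter_sublist
  have hmem : ∀ i, i ∈ Jl ↔ i ∈ FixJ D w := by
    intro i
    rw [hJl, List.mem_filter, List.mem_range, decide_eq_true_eq]
    exact Iff.rfl
  obtain ⟨hv1, hv2⟩ := hvJ Jl hsub
  have hv : ∀ i ∈ vJ Jl, i < D.rank ∧ i ∈ FixJ D w := by
    intro i hi
    have := (hmem i).mp (hv1 i hi)
    exact ⟨this.1, this⟩
  have hvV : ValidW D (vJ Jl) := fun i hi => (hv i hi).1
  have hneg : ∀ j < D.rank, j ∈ FixJ D w → D.IsNegRoot (h8sW D (vJ Jl) (D.simple j)) :=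
    fun j _ hj => hv2 j ((hmem j).mpr hj)
  have hpn := hB0.posneg
  have key := jprop_eq_w0_wJ D hB0 hA hBN hW hO2 hchk hchk2 w hw hJ x hx
    (fun r hr hp => h8pos_not_neg D hB0 hBN _ hp (hx0 r hr)) (vJ Jl) hvV
    (fun r hr hrJ => h23wJ_in D hA hpn hchk hchk2 _ _ hv hneg r hr hrJ)
    (fun r hr hrJ => h23wJ_out D hA hBN hchk _ _ hv r hr hrJ)
  refine ⟨Jl, hsub, hmem, fun r hr => ?_⟩
  have hrv : ∀ i ∈ (vJ Jl).reverse, i < D.rank := fun i hi => hvV i (List.mem_reverse.mp hi)
  have h1 := key _ (h8sW_lt D hA _ hrv r hr)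
  rw [h8sW_reverse D hA (vJ Jl) hvV r hr] at h1
  exact h1

end Cfsg.Agent.Lib.helper14.INV
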