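import Mathlib
import Cfsg.Prelude.Def_ChevStructure
import Cfsg.Agent.Lib.helper23.INVG4

/-!
# Project INV, the generic table lemma (G5)

A checkable form of the enumeration `jprop_enum`: given a word `x` of the longest element, an association
list `vT` of words `v_J` (one for every subset `J` of the nodes) and a list `Tabs` of tables, two Boolean
checks imply that the table of every word with `JProp` occurs in `Tabs`.
-/

set_option autoImplicit false
set_option linter.unusedVariables false

namespace Cfsg.Agent.Lib.helper14.INV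

open Cfsg.Lie Cfsg.Lie.ChevalleyDatum Cfsg.Agent.Lib.helper8 Cfsg.Agent.Lib.helper14

/-- lookup of the word `v_J` in an association list -/
def h23vJ (vT : List (List ℕ × List ℕ)) (Jl : List ℕ) : List ℕ :=
  ((vT.find? fun p => p.1 == Jl).map Prod.snd).getD []

/-- the words `v_J` are words in the letters of `J` making the fundamental roots of `J` negative -/
def h23enumChk (D : ChevalleyDatum) (vT : List (List ℕ × List ℕ)) : Bool :=
  (List.range D.rank).sublists.all fun Jl =>
    ((h23vJ vT Jl).all fun i => Jl.contains i) &&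
    Jl.all fun j => decide (D.IsNegRoot (h8sgW D (h23vJ vT Jl) (D.simple j)))

/-- the candidate `x ∘ v_J⁻¹` fixes the fundamental roots of `J` -/
def h23goodJ (D : ChevalleyDatum) (x : List ℕ) (vT : List (List ℕ × List ℕ)) (Jl : List ℕ) : Bool :=
  Jl.all fun j => h8sgW D x (h8sgW D (h23vJ vT Jl).reverse (D.simple j)) == D.simple j

/-- the table of the candidate `x ∘ v_J⁻¹` -/
def h23candTab (D : ChevalleyDatum) (x : List ℕ) (vT : List (List ℕ × List ℕ)) (Jl : List ℕ) :
    List ℕ :=
  (List.range D.nroots).map fun r => h8sgW D x (h8sgW D (h23vJ vT Jl).reverse r)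

/-- the tables of the good candidates occur in `Tabs` -/
def h23tabChk (D : ChevalleyDatum) (x : List ℕ) (vT : List (List ℕ × List ℕ))
    (Tabs : List (List ℕ)) : Bool :=
  (List.range D.rank).sublists.all fun Jl =>
    !(h23goodJ D x vT Jl) || Tabs.contains (h23candTab D x vT Jl)

/-- G5 : the table of a word with `JProp` occurs in `Tabs` -/
theorem jprop_tabs (D : ChevalleyDatum) (hB0 : H8Base.{0} D) (hA : H8ReflAll D) (hBN : H8BN D)
    (hW : H8BN2 D) (hO2 : H8Ord2 D) (hchk : h23invChk D = true) (hchk2 : h23invChk2 D = true)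
    (x : List ℕ) (hx : h8w0Chk D x = true) (vT : List (List ℕ × List ℕ))
    (hV : h23enumChk D vT = true) (Tabs : List (List ℕ)) (hT : h23tabChk D x vT Tabs = true)
    (w : List ℕ) (hw : ValidW D w) (hJ : JProp D w) :
    (List.range D.nroots).map (h8sW D w) ∈ Tabs := by
  have h256 : D.nroots ≤ 256 := by
    unfold h8w0Chk at hx
    simp only [Bool.and_eq_true, decide_eq_true_eq] at hx
    exact hx.1.1
  obtain ⟨hxV, hxpos, _, _⟩ := h8w0Chk_spec D hA x hx
  unfold h23enumChk at hV
  rw [List.all_eq_true] at hV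
  have hvJ : ∀ Jl ∈ (List.range D.rank).sublists, (∀ i ∈ h23vJ vT Jl, i ∈ Jl) ∧
      ∀ j ∈ Jl, D.IsNegRoot (h8sW D (h23vJ vT Jl) (D.simple j)) := by
    intro Jl hJl
    have h1 := hV Jl hJl
    simp only [Bool.and_eq_true, List.all_eq_true, List.contains_iff_mem, decide_eq_true_eq] at h1
    obtain ⟨h2, h3⟩ := h1
    have hJlt : ∀ j ∈ Jl, j < D.rank := by
      intro j hj
      have := (List.mem_sublists.mp hJl).subset hj
      exact List.mem_range.mp this
    refine ⟨h2, fun j hj => ?_⟩
    have := h3 j hj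
    rwa [h8sgW_eq D hA h256 _ (fun i hi => hJlt i (h2 i hi)) _
      (h23invChk_spec D hchk j (hJlt j hj)).1] at this
  obtain ⟨Jl, hJl, hmem, hact⟩ := jprop_enum D hB0 hA hBN hW hO2 hchk hchk2 x hxV hxpos
    (h23vJ vT) hvJ w hw hJ
  have hJlt : ∀ j ∈ Jl, j < D.rank := fun j hj => ((hmem j).mp hj).1
  have hvV : ∀ i ∈ (h23vJ vT Jl).reverse, i < D.rank := fun i hi =>
    hJlt i ((hvJ Jl hJl).1 i (List.mem_reverse.mp hi))
  have hcand : ∀ r < D.nroots,
      h8sgW D x (h8sgW D (h23vJ vT Jl).reverse r) = h8sW D w r := by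
    intro r hr
    rw [h8sgW_eq D hA h256 _ hvV r hr, h8sgW_eq D hA h256 x hxV _ (h8sW_lt D hA _ hvV r hr),
      hact r hr]
  unfold h23tabChk at hT
  rw [List.all_eq_true] at hT
  have h1 := hT Jl hJl
  have hgood : h23goodJ D x vT Jl = true := by
    unfold h23goodJ
    rw [List.all_eq_true]
    intro j hj
    rw [beq_iff_eq, hcand _ (h23invChk_spec D hchk j (hJlt j hj)).1]
    exact ((hmem j).mp hj).2
  rw [hgood] at h1
  simp only [Bool.not_true, Bool.false_or, List.contains_iff_mem] at h1
  have e : h23candTab D x vT Jl = (List.range D.nroots).map (h8sW D w) := by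
    unfold h23candTab
    apply List.map_congr_left
    intro r hr
    exact hcand r (List.mem_range.mp hr)
  rw [← e]
  exact h1

end Cfsg.Agent.Lib.helper14.INV
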