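import Mathlib
import Cfsg.Prelude.Def_ChevStructure
import Cfsg.Agent.Lib.helper23.INVG5
import Cfsg.Agent.Lib.helper23.INVG1Chk

/-!
# Project INV: the words with `JProp` for type `E6` (generated data + `decide`)

`h23e6X` is a reduced word of the longest element, `h23e6VT` lists a longest word of `W_J` for every
subset `J` of the nodes, `h23e6Tabs` are the tables of the 6 elements `w₀ w_J` fixing `J` pointwise,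
for `J = ` [], [1], [3], [2, 3, 4], [0, 2, 3, 4, 5], [0, 1, 2, 3, 4, 5].
-/

set_option autoImplicit false
set_option maxRecDepth 100000

namespace Cfsg.Agent.Lib.helper14.INV

open Cfsg.Lie Cfsg.Lie.ChevalleyDatum Cfsg.Agent.Lib.helper8 Cfsg.Agent.Lib.helper14

def h23e6X : List ℕ := [0, 1, 2, 0, 3, 1, 2, 0, 3, 2, 4, 3, 1, 2, 0, 3, 2, 4, 3, 1, 5, 4, 3, 1, 2, 0, 3, 2, 4, 3, 1, 5, 4, 3, 2, 0]

def h23e6VT : List (List ℕ × List ℕ) :=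
  [([], []),
   ([0], [0]),
   ([1], [1]),
   ([2], [2]),
   ([3], [3]),
   ([4], [4]),
   ([5], [5]),
   ([0, 1], [0, 1]),
   ([0, 2], [0, 2, 0]),
   ([0, 3], [0, 3]),
   ([0, 4], [0, 4]),
   ([0, 5], [0, 5]),
   ([1, 2], [1, 2]),
   ([1, 3], [1, 3, 1]),
   ([1, 4], [1, 4]),
   ([1, 5], [1, 5]),
   ([2, 3], [2, 3, 2]),
   ([2, 4], [2, 4]),
   ([2, 5], [2, 5]),
   ([3, 4], [3, 4, 3]),
   ([3, 5], [3, 5]),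
   ([4, 5], [4, 5, 4]),
   ([0, 1, 2], [0, 1, 2, 0]),
   ([0, 1, 3], [0, 1, 3, 1]),
   ([0, 1, 4], [0, 1, 4]),
   ([0, 1, 5], [0, 1, 5]),
   ([0, 2, 3], [0, 2, 0, 3, 2, 0]),
   ([0, 2, 4], [0, 2, 0, 4]),
   ([0, 2, 5], [0, 2, 0, 5]),
   ([0, 3, 4], [0, 3, 4, 3]),
   ([0, 3, 5], [0, 3, 5]),
   ([0, 4, 5], [0, 4, 5, 4]),
   ([1, 2, 3], [1, 2, 3, 1, 2, 3]),
   ([1, 2, 4], [1, 2, 4]),
   ([1, 2, 5], [1, 2, 5]),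
   ([1, 3, 4], [1, 3, 1, 4, 3, 1]),
   ([1, 3, 5], [1, 3, 1, 5]),
   ([1, 4, 5], [1, 4, 5, 4]),
   ([2, 3, 4], [2, 3, 2, 4, 3, 2]),
   ([2, 3, 5], [2, 3, 2, 5]),
   ([2, 4, 5], [2, 4, 5, 4]),
   ([3, 4, 5], [3, 4, 3, 5, 4, 3]),
   ([0, 1, 2, 3], [0, 1, 2, 0, 3, 1, 2, 0, 3, 2]),
   ([0, 1, 2, 4], [0, 1, 2, 0, 4]),
   ([0, 1, 2, 5], [0, 1, 2, 0, 5]),
   ([0, 1, 3, 4], [0, 1, 3, 1, 4, 3, 1]),
   ([0, 1, 3, 5], [0, 1, 3, 1, 5]),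
   ([0, 1, 4, 5], [0, 1, 4, 5, 4]),
   ([0, 2, 3, 4], [0, 2, 0, 3, 2, 0, 4, 3, 2, 0]),
   ([0, 2, 3, 5], [0, 2, 0, 3, 2, 0, 5]),
   ([0, 2, 4, 5], [0, 2, 0, 4, 5, 4]),
   ([0, 3, 4, 5], [0, 3, 4, 3, 5, 4, 3]),
   ([1, 2, 3, 4], [1, 2, 3, 1, 2, 3, 4, 3, 1, 2, 3, 4]),
   ([1, 2, 3, 5], [1, 2, 3, 1, 2, 3, 5]),
   ([1, 2, 4, 5], [1, 2, 4, 5, 4]),
   ([1, 3, 4, 5], [1, 3, 1, 4, 3, 1, 5, 4, 3, 1]),
   ([2, 3, 4, 5], [2, 3, 2, 4, 3, 2, 5, 4, 3, 2]),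
   ([0, 1, 2, 3, 4], [0, 1, 2, 0, 3, 1, 2, 0, 3, 2, 4, 3, 1, 2, 0, 3, 2, 4, 3, 1]),
   ([0, 1, 2, 3, 5], [0, 1, 2, 0, 3, 1, 2, 0, 3, 2, 5]),
   ([0, 1, 2, 4, 5], [0, 1, 2, 0, 4, 5, 4]),
   ([0, 1, 3, 4, 5], [0, 1, 3, 1, 4, 3, 1, 5, 4, 3, 1]),
   ([0, 2, 3, 4, 5], [0, 2, 0, 3, 2, 0, 4, 3, 2, 0, 5, 4, 3, 2, 0]),
   ([1, 2, 3, 4, 5], [1, 2, 3, 1, 2, 3, 4, 3, 1, 2, 3, 4, 5, 4, 3, 1, 2, 3, 4, 5]),
   ([0, 1, 2, 3, 4, 5], [0, 1, 2, 0, 3, 1, 2, 0, 3, 2, 4, 3, 1, 2, 0, 3, 2, 4, 3, 1, 5, 4, 3, 1, 2, 0, 3, 2, 4, 3, 1, 5, 4, 3, 2, 0])]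
def h23e6Tabs : List (List ℕ) :=
  [[71, 70, 69, 66, 55, 68, 65, 54, 63, 52, 49, 60, 45, 41, 38, 36, 67, 64, 53, 62, 51, 48, 61, 50, 47, 46, 59, 44, 40, 37, 58, 43, 39, 57, 42, 56, 15, 29, 14, 32, 28, 13, 34, 31, 27, 12, 25, 24, 21, 10, 23, 20, 9, 18, 7, 4, 35, 33, 30, 26, 11, 22, 19, 8, 17, 6, 3, 16, 5, 2, 1, 0],
   [70, 71, 69, 66, 55, 68, 65, 54, 60, 45, 41, 63, 52, 49, 38, 36, 67, 64, 53, 59, 44, 40, 58, 43, 39, 25, 62, 51, 48, 37, 61, 50, 47, 57, 42, 56, 15, 29, 14, 24, 21, 10, 34, 23, 20, 9, 46, 32, 28, 13, 31, 27, 12, 18, 7, 4, 35, 33, 22, 19, 8, 30, 26, 11, 17, 6, 3, 16, 5, 2, 0, 1],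
   [71, 69, 70, 66, 55, 68, 63, 52, 65, 54, 49, 60, 45, 38, 41, 36, 67, 62, 51, 64, 53, 48, 61, 50, 46, 47, 59, 44, 37, 40, 57, 42, 32, 58, 43, 56, 15, 28, 13, 39, 29, 14, 31, 34, 27, 12, 24, 25, 21, 10, 23, 18, 7, 20, 9, 4, 35, 30, 33, 26, 11, 22, 17, 6, 19, 8, 3, 16, 5, 1, 2, 0],
   [71, 63, 65, 66, 49, 68, 69, 52, 70, 54, 55, 60, 36, 38, 41, 45, 61, 62, 46, 64, 47, 48, 67, 50, 51, 53, 56, 27, 28, 29, 57, 31, 32, 58, 34, 59, 12, 37, 13, 39, 40, 14, 42, 43, 44, 15, 18, 20, 21, 4, 23, 24, 7, 25, 9, 10, 26, 30, 33, 35, 11, 16, 17, 1, 19, 2, 3, 22, 5, 6, 8, 0],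
   [71, 46, 47, 48, 49, 50, 51, 52, 53, 54, 55, 11, 12, 13, 14, 15, 61, 62, 63, 64, 65, 66, 67, 68, 69, 70, 26, 27, 28, 29, 30, 31, 32, 33, 34, 35, 36, 37, 38, 39, 40, 41, 42, 43, 44, 45, 1, 2, 3, 4, 5, 6, 7, 8, 9, 10, 56, 57, 58, 59, 60, 16, 17, 18, 19, 20, 21, 22, 23, 24, 25, 0],
   [0, 1, 2, 3, 4, 5, 6, 7, 8, 9, 10, 11, 12, 13, 14, 15, 16, 17, 18, 19, 20, 21, 22, 23, 24, 25, 26, 27, 28, 29, 30, 31, 32, 33, 34, 35, 36, 37, 38, 39, 40, 41, 42, 43, 44, 45, 46, 47, 48, 49, 50, 51, 52, 53, 54, 55, 56, 57, 58, 59, 60, 61, 62, 63, 64, 65, 66, 67, 68, 69, 70, 71]]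

theorem h23e6_w0 : h8w0Chk chevE6 h23e6X = true := by decide +kernel

theorem h23e6_enum : h23enumChk chevE6 h23e6VT = true := by decide +kernel

theorem h23e6_tab : h23tabChk chevE6 h23e6X h23e6VT h23e6Tabs = true := by decide +kernel

theorem h23e6_mem_list : chevE6 ∈ [chevG2, chevB2, chevD4, chevF4, chevE6, chevE7, chevE8] := by simp

/-- the structure of the words with `JProp` in type `E6` -/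
theorem h23e6_struct (w : List ℕ) (hw : ValidW chevE6 w) (hJ : JProp chevE6 w) :
    (∀ r, chevE6.IsPosRoot r → chevE6.IsPosRoot (h8sW chevE6 w r) →
      chevE6.InRootSub (FixJ chevE6 w) r) ∧
    (List.range 72).map (h8sW chevE6 w) ∈ h23e6Tabs := by
  have hD := h23e6_mem_list
  have hB0 := h8base_all.{0} chevE6 hD
  have hA := h8reflAll chevE6 hD
  have hBN := h8bn_all chevE6 hD
  have hW := h8bn2_all chevE6 hD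
  obtain ⟨hO, hO2⟩ := h8ord_all chevE6 hD
  exact ⟨jprop_struct chevE6 hA hB0.posneg h23invChk_E6 w hw hJ,
    jprop_tabs chevE6 hB0 hA hBN hW hO2 h23invChk_E6 h23invChk2_E6 h23e6X h23e6_w0
      h23e6VT h23e6_enum h23e6Tabs h23e6_tab w hw hJ⟩

end Cfsg.Agent.Lib.helper14.INV
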