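import Mathlib
import Cfsg.Prelude.Def_ChevStructure
import Cfsg.Agent.Lib.helper23.INVG5
import Cfsg.Agent.Lib.helper23.INVG1Chk
import Cfsg.Agent.Lib.helper14.INV.F4Defs

/-!
# Project INV: the words with `JProp` for type `F4` (generated data + `decide`)

`h23f4X` is a reduced word of the longest element, `h23f4VT` lists a longest word of `W_J` for every
subset `J` of the nodes, `h23f4Tabs` are the tables of the 12 elements `w₀ w_J` fixing `J` pointwise,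
for `J = ` [], [0], [1], [2], [3], [0, 2], [0, 3], [1, 2], [1, 3], [0, 1, 2], [1, 2, 3], [0, 1, 2, 3].
-/

set_option autoImplicit false
set_option maxRecDepth 100000

namespace Cfsg.Agent.Lib.helper14.INV

open Cfsg.Lie Cfsg.Lie.ChevalleyDatum Cfsg.Agent.Lib.helper8 Cfsg.Agent.Lib.helper14

def h23f4X : List ℕ := [0, 1, 0, 2, 1, 0, 2, 1, 2, 3, 2, 1, 0, 2, 1, 2, 3, 2, 1, 0, 2, 1, 2, 3]

def h23f4VT : List (List ℕ × List ℕ) :=
  [([], []),
   ([0], [0]),
   ([1], [1]),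
   ([2], [2]),
   ([3], [3]),
   ([0, 1], [0, 1, 0]),
   ([0, 2], [0, 2]),
   ([0, 3], [0, 3]),
   ([1, 2], [1, 2, 1, 2]),
   ([1, 3], [1, 3]),
   ([2, 3], [2, 3, 2]),
   ([0, 1, 2], [0, 1, 0, 2, 1, 0, 2, 1, 2]),
   ([0, 1, 3], [0, 1, 0, 3]),
   ([0, 2, 3], [0, 2, 3, 2]),
   ([1, 2, 3], [1, 2, 1, 2, 3, 2, 1, 2, 3]),
   ([0, 1, 2, 3], [0, 1, 0, 2, 1, 0, 2, 1, 2, 3, 2, 1, 0, 2, 1, 2, 3, 2, 1, 0, 2, 1, 2, 3])]

theorem h23f4_w0 : h8w0Chk chevF4 h23f4X = true := by decide +kernel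

theorem h23f4_enum : h23enumChk chevF4 h23f4VT = true := by decide +kernel

theorem h23f4_tab : h23tabChk chevF4 h23f4X h23f4VT f4Tabs = true := by decide +kernel

theorem h23f4_mem_list : chevF4 ∈ [chevG2, chevB2, chevD4, chevF4, chevE6, chevE7, chevE8] := by simp

/-- the structure of the words with `JProp` in type `F4` -/
theorem h23f4_struct (w : List ℕ) (hw : ValidW chevF4 w) (hJ : JProp chevF4 w) :
    (∀ r, chevF4.IsPosRoot r → chevF4.IsPosRoot (h8sW chevF4 w r) →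
      chevF4.InRootSub (FixJ chevF4 w) r) ∧
    (List.range 48).map (h8sW chevF4 w) ∈ f4Tabs := by
  have hD := h23f4_mem_list
  have hB0 := h8base_all.{0} chevF4 hD
  have hA := h8reflAll chevF4 hD
  have hBN := h8bn_all chevF4 hD
  have hW := h8bn2_all chevF4 hD
  obtain ⟨hO, hO2⟩ := h8ord_all chevF4 hD
  exact ⟨jprop_struct chevF4 hA hB0.posneg h23invChk_F4 w hw hJ,
    jprop_tabs chevF4 hB0 hA hBN hW hO2 h23invChk_F4 h23invChk2_F4 h23f4X h23f4_w0
      h23f4VT h23f4_enum f4Tabs h23f4_tab w hw hJ⟩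

end Cfsg.Agent.Lib.helper14.INV
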