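import Cfsg.Agent.Lib.helper23.J2Data
import Cfsg.Agent.Lib.helper23.PgD

set_option autoImplicit false

namespace Cfsg.Agent.Lib.helper23

/-- the word of an element of order five -/
def j2tw : List ℕ := [0]

/-- the generators as products of conjugates -/
def j2certs : List (List (List ℕ × List ℕ)) :=
  [[([3], [8]), ([6, 3, 5, 7], [2, 0, 8, 1])],
  [([7, 3, 5, 7], [2, 0, 8, 2]), ([6, 0, 7, 7], [2, 2, 5, 1]), ([6, 4, 6, 6], [1, 1, 9, 1])],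
  [([6, 6, 3], [8, 1, 1]), ([2, 4, 0, 7], [2, 5, 9, 7])],
  [([0, 0, 7, 1, 1], [6, 6, 2, 5, 5]), ([5, 3, 4], [9, 8, 0]), ([7, 5, 4, 2], [7, 9, 0, 2])],
  [([1, 5, 3, 4, 1], [6, 9, 8, 0, 6]), ([3, 1, 4, 3], [8, 9, 6, 8]), ([4, 7], [2, 9])]]

/-- words moving the point 37 to the points of the third class -/
def j2PB : List (List ℕ) := [[], [], [], [], [], [], [], [], [], [], [], [], [], [], [], [], [], [], [], [], [], [], [], [], [], [], [], [], [], [], [], [], [], [], [], [], [], [], [0, 0, 1], [0, 0], [1, 0, 0], [0, 5], [0, 5, 2], [2], [2, 1, 0], [1, 0], [1, 4], [1, 0, 1], [3, 0, 0], [0, 1], [3, 1, 2], [1, 1, 2], [0, 1, 2], [3, 1, 0, 0], [4, 5, 2], [1], [4, 4], [4, 5], [2, 0, 0], [5, 3, 5], [0, 2], [3, 2, 1], [2, 5, 0], [4, 1, 0], [4, 3, 0], [5, 4, 3, 0], [1, 2], [4, 2, 0, 0], [3, 0], [4, 3, 1], [5, 2], [1, 0, 2], [5, 3, 0], [0], [1, 1], [5, 0], [5, 3, 1],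 [3, 4, 5], [0, 3, 1], [5, 4, 4], [4, 3, 4], [5], [2, 3, 1], [3, 4], [0, 1, 0], [1, 1, 4], [4, 2], [3, 5], [5, 5, 0], [2, 5, 3, 1], [5, 0, 2], [2, 1], [5, 0, 1], [4, 1, 1], [4, 5, 0], [3, 1], [1, 3, 5], [2, 3, 0], [4], [2, 0, 2]]

end Cfsg.Agent.Lib.helper23
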