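import Cfsg.Agent.Lib.helper23.J2Data2
import Cfsg.Agent.Lib.Helper12.Maximal

set_option autoImplicit false
set_option maxRecDepth 100000

/-!
# The Hall–Janko group on 100 points: order and simplicity
-/

namespace Cfsg.Agent.Lib.helper23

open Subgroup MulAction

/-- the stabiliser chain -/
def j2C : List PgLvl := [j2L1, j2L2, j2L3, j2L4]

/-- the chain of the point stabiliser -/
def j2C2 : List PgLvl := [j2L2, j2L3, j2L4]

theorem j2chk4 : pgChkLvl 100 j2L4 [] = true := by decide +kernel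
theorem j2chk3 : pgChkLvl 100 j2L3 [j2L4] = true := by decide +kernel
theorem j2chk2 : pgChkLvl 100 j2L2 [j2L3, j2L4] = true := by decide +kernel
theorem j2chk1 : pgChkLvl 100 j2L1 [j2L2, j2L3, j2L4] = true := by decide +kernel

theorem j2chkC2 : pgChk 100 j2C2 = true := by
  simp only [j2C2, pgChk_cons, j2chk2, j2chk3, j2chk4]
  rfl

theorem j2chkC : pgChk 100 j2C = true := by
  have : j2C = j2L1 :: j2C2 := rfl
  rw [this, pgChk_cons, j2chkC2]
  simp only [j2C2, j2chk1]
  rfl

theorem j2ord : pgOrd 100 j2C = 604800 := by decide +kernel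

theorem j2card : Nat.card (pgGrp 100 j2C) = 604800 := by
  rw [pgCard 100 j2C j2chkC, j2ord]

theorem j2all1 : pgAll 100 (fun z => j2in j2M1 z) = true := by decide +kernel

theorem j2chkB : pgAll 100 (fun z => cond (Nat.beq z 0 || j2in j2M2 z) true
    (Nat.beq (pgEvalW (pgGens j2C2) (j2path j2PB z) 37) z)) = true := by decide +kernel

theorem j2pow : pgAll 100 (fun p => Nat.beq (pgEvalW (pgGens j2C) (pgPowW j2tw 5) p) p) = true := by
  decide +kernel

theorem j2nc : pgChkNC 100 (pgGens j2C) j2tw j2certs = true := by decide +kernel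

/-- the class function of the point stabiliser -/
def j2cls (y : Fin 100) : Fin 3 := if y.1 = 0 then 0 else if j2in j2M2 y.1 = true then 1 else 2

theorem j2b1 : j2L1.b = 0 := rfl
theorem j2b2 : j2L2.b = 1 := rfl

theorem j2trans (z : Fin 100) : ∃ g ∈ pgGrp 100 j2C, g 0 = z := by
  obtain ⟨hb, -, -, h4⟩ := pgLvl_main (n := 100) (L := j2L1) (C := j2C2) j2chkC
  exact h4 z ((pgAll_iff _ _).1 j2all1 z.1 z.2)

theorem j2stab_fix : ∀ k ∈ pgGrp 100 j2C2, k (0 : Fin 100) = 0 := by
  obtain ⟨hb, hfix, -⟩ := pgChkLvl_spec (n := 100) (L := j2L1) (Ls := j2C2) j2chk1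
    (pgChk_gens_ok 100 _ j2chkC)
  exact pgGrp_fix (b := (0 : Fin 100)) hfix (pgChk_gens_ok 100 _ j2chkC2)

theorem j2hom (y y' : Fin 100) (h : j2cls y = j2cls y') : ∃ k ∈ pgGrp 100 j2C2, k y = y' := by
  unfold j2cls at h
  by_cases h0 : y.1 = 0
  · rw [if_pos h0] at h
    by_cases h0' : y'.1 = 0
    · exact ⟨1, one_mem _, by rw [Equiv.Perm.one_apply]; exact Fin.ext (h0.trans h0'.symm)⟩
    · rw [if_neg h0'] at h
      split_ifs at h <;> exact absurd h (by decide)
  · rw [if_neg h0] at h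
    by_cases h0' : y'.1 = 0
    · rw [if_pos h0'] at h
      split_ifs at h <;> exact absurd h (by decide)
    rw [if_neg h0'] at h
    by_cases h1 : j2in j2M2 y.1 = true
    · rw [if_pos h1] at h
      have h1' : j2in j2M2 y'.1 = true := by
        by_contra hc
        rw [if_neg hc] at h
        exact absurd h (by decide)
      obtain ⟨hb, -, -, h4⟩ := pgLvl_main (n := 100) (L := j2L2) (C := [j2L3, j2L4]) j2chkC2
      obtain ⟨g, hg, hgy⟩ := h4 y h1
      obtain ⟨g', hg', hgy'⟩ := h4 y' h1'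
      refine ⟨g' * g⁻¹, mul_mem hg' (inv_mem hg), ?_⟩
      rw [Equiv.Perm.mul_apply, ← hgy]
      simp only [Equiv.Perm.coe_inv, Equiv.symm_apply_apply]
      exact hgy'
    · rw [if_neg h1] at h
      have h1' : ¬ j2in j2M2 y'.1 = true := by
        intro hc
        rw [if_pos hc] at h
        exact absurd h (by decide)
      have hgs := pgChk_gens_ok 100 _ j2chkC2
      have key : ∀ z : Fin 100, z.1 ≠ 0 → ¬ j2in j2M2 z.1 = true →
          (pgWordPerm 100 (pgGens j2C2) (j2path j2PB z.1)) (37 : Fin 100) = z := by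
        intro z hz0 hz1
        have := (pgAll_iff _ _).1 j2chkB z.1 z.2
        have e0 : Nat.beq z.1 0 = false := by
          rw [← Bool.not_eq_true, Nat.beq_eq]; exact hz0
        have e1 : j2in j2M2 z.1 = false := by rwa [← Bool.not_eq_true]
        rw [e0, e1] at this
        simp only [Bool.or_self, cond_false, Nat.beq_eq] at this
        apply Fin.ext
        rw [pgWordPerm_apply hgs]
        exact this
      refine ⟨pgWordPerm 100 (pgGens j2C2) (j2path j2PB y'.1) *
        (pgWordPerm 100 (pgGens j2C2) (j2path j2PB y.1))⁻¹,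
        mul_mem (pgWordPerm_mem hgs _) (inv_mem (pgWordPerm_mem hgs _)), ?_⟩
      have hy := key y h0 h1
      have hy' := key y' h0' h1'
      have e : (pgWordPerm 100 (pgGens j2C2) (j2path j2PB y.1))⁻¹ y = 37 :=
        Equiv.Perm.inv_eq_iff_eq.2 hy.symm
      rw [Equiv.Perm.mul_apply, e, hy']

instance j2pretrans : IsPretransitive (pgGrp 100 j2C) (Fin 100) := by
  rw [isPretransitive_iff_base (0 : Fin 100)]
  intro z
  obtain ⟨g, hg, hgz⟩ := j2trans z
  exact ⟨⟨g, hg⟩, hgz⟩

theorem j2ncard0 : ∀ i : Fin 3,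
    (Finset.univ.filter (fun y : Fin 100 => j2cls y = i)).card = ![1, 36, 63] i := by
  decide +kernel

theorem j2ncard (i : Fin 3) :
    {y : Fin 100 | y ∈ (Set.univ : Set (Fin 100)) ∧ j2cls y = i}.ncard = ![1, 36, 63] i := by
  have : {y : Fin 100 | y ∈ (Set.univ : Set (Fin 100)) ∧ j2cls y = i} =
      ↑(Finset.univ.filter (fun y : Fin 100 => j2cls y = i)) := by
    ext y
    simp
  rw [this, Set.ncard_coe_finset]
  exact j2ncard0 i

theorem j2coatom : IsCoatom (stabilizer (pgGrp 100 j2C) (0 : Fin 100)) := by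
  apply Cfsg.Agent.Lib.Helper12.isCoatom_stabilizer_of_classes (0 : Fin 100) Set.univ
    Set.finite_univ ?_ j2cls ?_ ![1, 36, 63] j2ncard ?_ ?_ ?_
  · intro y
    simp only [Set.mem_univ, true_iff]
    obtain ⟨g, hg, hgz⟩ := j2trans y
    exact ⟨⟨g, hg⟩, hgz⟩
  · intro y _ y' _ h
    obtain ⟨k, hk, hky⟩ := j2hom y y' h
    have hk' : k ∈ pgGrp 100 j2C := pgGrp_mono 100 j2L1 j2C2 hk
    refine ⟨⟨k, hk'⟩, ?_, hky⟩
    rw [mem_stabilizer_iff]
    exact j2stab_fix k hk
  · intro y _ h
    unfold j2cls at h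
    by_cases h0 : y.1 = 0
    · exact Fin.ext h0
    · rw [if_neg h0] at h
      simp only [Fin.val_zero, if_true] at h
      split_ifs at h <;> exact absurd h (by decide)
  · exact ⟨1, Set.mem_univ _, by decide⟩
  · rw [Set.ncard_univ, Nat.card_eq_fintype_card, Fintype.card_fin]
    have : j2cls 0 = 0 := rfl
    rw [this]
    decide

instance j2prim : IsPreprimitive (pgGrp 100 j2C) (Fin 100) :=
  (isCoatom_stabilizer_iff_preprimitive _ (0 : Fin 100)).1 j2coatom

theorem j2simple : IsSimpleGroup (pgGrp 100 j2C) := by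
  have hgs := pgChk_gens_ok 100 _ j2chkC
  have hprim : IsPreprimitive (closure (pgSet 100 (pgGens j2C))) (Fin 100) := j2prim
  exact pg_simple (pgSet 100 (pgGens j2C)) 6048 5 (by norm_num) j2card (by norm_num) (by norm_num)
    (pgWordPerm 100 (pgGens j2C) j2tw) (pgWordPerm_mem hgs _) (pgPow_eq_one hgs j2pow)
    (pgChkNC_sound hgs j2nc)

end Cfsg.Agent.Lib.helper23
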