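import Cfsg.Agent.Lib.helper23.PgS

set_option autoImplicit false

/-!
# Enumeration without pruning; orders of words
-/

namespace Cfsg.Agent.Lib.helper23

open Subgroup MulAction

/-- no pruning -/
def pgNoPrune (_ : List (ℕ × ℕ)) : Bool := true

theorem pgEnumM_all {n w : ℕ} (hw : n ≤ 2 ^ w) (R : PgRigid n) {C : List PgLvlW}
    (hchk : pgChkW n R.base C = true) (hA : pgGrpW n C ≤ R.A) (test : (ℕ → ℕ) → Bool) (md : ℕ)
    (hen : pgEnumM n w pgNoPrune test C md (fun p => p) [] = true) :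
    ∀ h ∈ pgGrpW n C, ∃ f : ℕ → ℕ, (∀ p : Fin n, f p.1 = (h p).1) ∧ test f = true := by
  intro h hh
  exact pgEnumM_sound hw R pgNoPrune test h (fun _ _ => rfl) C hchk hA md (fun p => p) 1 []
    (fun _ => rfl) (fun _ hq => absurd hq List.not_mem_nil) hen h hh (one_mul h).symm

/-- the word has order `k`: the `k`-th power is the identity, the smaller ones are not -/
def pgOrdTest (n : ℕ) (gs : List PFun) (k : ℕ) (wd : List ℕ) : Bool :=
  pgAll n (fun p => Nat.beq (pgIter (pgEvalW gs wd) k p) p) &&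
    pgAll k (fun m => Nat.beq m 0 || !(pgAll n (fun p => Nat.beq (pgIter (pgEvalW gs wd) m p) p)))

theorem pgOrdTest_sound {n : ℕ} {gs : List PFun} (hgs : ∀ P ∈ gs, P.ok n = true) {k : ℕ}
    (hk : 0 < k) {wd : List ℕ} (h : pgOrdTest n gs k wd = true) :
    orderOf (pgWordPerm n gs wd) = k := by
  unfold pgOrdTest at h
  rw [Bool.and_eq_true] at h
  obtain ⟨h1, h2⟩ := h
  have hit : ∀ (m : ℕ) (p : Fin n), pgIter (pgEvalW gs wd) m p.1 =
      ((pgWordPerm n gs wd ^ m) p).1 :=
    fun m p => pgIter_perm _ _ (fun q => (pgWordPerm_apply hgs wd q).symm) m p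
  rw [orderOf_eq_iff hk]
  refine ⟨?_, ?_⟩
  · ext p
    have := (pgAll_iff _ _).1 h1 p.1 p.2
    rw [Nat.beq_eq, hit] at this
    exact this
  · intro m hm hm0 hpow
    have := (pgAll_iff _ _).1 h2 m hm
    rw [Bool.or_eq_true] at this
    rcases this with h3 | h3
    · rw [Nat.beq_eq] at h3
      omega
    · have h4 : pgAll n (fun p => Nat.beq (pgIter (pgEvalW gs wd) m p) p) = true := by
        rw [pgAll_iff]
        intro p hp
        rw [Nat.beq_eq, hit m ⟨p, hp⟩, hpow]
        rfl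
      rw [h4] at h3
      exact absurd h3 (by decide)

end Cfsg.Agent.Lib.helper23
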