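import Cfsg.Agent.Lib.helper23.J2pMain
import Cfsg.Agent.Lib.helper23.J2oData
import Cfsg.Agent.Lib.helper23.PgU

set_option autoImplicit false
set_option maxRecDepth 1000000
set_option Elab.async false

/-!
# The Hall–Janko group on 315 points: Sylow subgroups, representatives, words of given orders
-/

namespace Cfsg.Agent.Lib.helper23

/-! ### The chains of the Sylow subgroups -/

theorem j2pS2chk : pgChkW 315 (List.range 315) j2pS2C = true := by decide +kernel
theorem j2pS3chk : pgChkW 315 (List.range 315) j2pS3C = true := by decide +kernel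
theorem j2pS5chk : pgChkW 315 (List.range 315) j2pS5C = true := by decide +kernel
theorem j2pS7chk : pgChkW 315 (List.range 315) j2pS7C = true := by decide +kernel

theorem j2pS2ord : pgOrdW 315 j2pS2C = 2 ^ 7 := by decide +kernel
theorem j2pS3ord : pgOrdW 315 j2pS3C = 3 ^ 3 := by decide +kernel
theorem j2pS5ord : pgOrdW 315 j2pS5C = 5 ^ 2 := by decide +kernel
theorem j2pS7ord : pgOrdW 315 j2pS7C = 7 ^ 1 := by decide +kernel

/-! ### The generators of the Sylow subgroups and the representatives lie in the group -/

theorem j2pS2sift : pgAllL j2pS2L1.own (fun s => pgSiftW 315 (List.range 315) j2pC s.f) = true := by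
  decide +kernel
theorem j2pS3sift : pgAllL j2pS3L1.own (fun s => pgSiftW 315 (List.range 315) j2pC s.f) = true := by
  decide +kernel
theorem j2pS5sift : pgAllL j2pS5L1.own (fun s => pgSiftW 315 (List.range 315) j2pC s.f) = true := by
  decide +kernel
theorem j2pS7sift : pgAllL j2pS7L1.own (fun s => pgSiftW 315 (List.range 315) j2pC s.f) = true := by
  decide +kernel

/-- the representatives -/
def j2pReps : List PFun := [j2pgen j2pR3A j2pRi3A, j2pgen j2pR3B j2pRi3B, j2pgen j2pR5A j2pRi5A,
  j2pgen j2pR5C j2pRi5C, j2pgen j2pR7A j2pRi7A]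

theorem j2pRepsOk : pgAllL j2pReps (fun s => s.ok 315 &&
    pgSiftW 315 (List.range 315) j2pC s.f) = true := by
  decide +kernel

/-! ### The elements of the Sylow subgroups -/

theorem j2pS2test : pgEnumM 315 9 pgNoPrune (pgExpTest 315 9 [8]) j2pS2C 0 (fun p => p) [] =
    true := by
  decide +kernel

theorem j2pS3test : pgEnumM 315 9 pgNoPrune (pgConjTest 315 9 j2pL1.own j2pCert3) j2pS3C 0
    (fun p => p) [] = true := by
  decide +kernel

theorem j2pS5test : pgEnumM 315 9 pgNoPrune (pgConjTest 315 9 j2pL1.own j2pCert5) j2pS5C 0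
    (fun p => p) [] = true := by
  decide +kernel

theorem j2pS7test : pgEnumM 315 9 pgNoPrune (pgConjTest 315 9 j2pL1.own j2pCert7) j2pS7C 0
    (fun p => p) [] = true := by
  decide +kernel

/-! ### Words of given orders -/

theorem j2pWitOk : pgAllL j2pWit (fun kw => Nat.blt 0 kw.1 && pgOrdTest 315 j2pL1.own kw.1 kw.2) =
    true := by
  decide +kernel

end Cfsg.Agent.Lib.helper23
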