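import Mathlib

set_option autoImplicit false

/-!
# Element orders from Sylow subgroups and centralisers of representatives

If in a finite group of order `2^7 * 3^3 * 5^2 * 7` subgroups of orders `2^7`, `3^3`, `5^2`, `7`
are given, every element of the first one has an exponent from a list, every nonidentity element
of the three others has a conjugate with a power in a set `R`, and every element commuting with
an element of `R` has an exponent from the list, then all elements have an exponent from the list.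
-/

namespace Cfsg.Agent.Lib.helper23

open scoped Pointwise

/-- a `p`-element is conjugate into a subgroup whose order is the full power of `p` -/
theorem conj_mem_of_pgroup {G : Type*} [Group G] [Finite G] {p : ℕ} [hp : Fact p.Prime]
    (P : Subgroup G) {k : ℕ} (hP : Nat.card P = p ^ k) (hidx : ¬ p ∣ P.index) (x : G) {a : ℕ}
    (hx : orderOf x = p ^ a) : ∃ c : G, c * x * c⁻¹ ∈ P := by
  have hPp : IsPGroup p P := IsPGroup.of_card hP
  have hZ : IsPGroup p (Subgroup.zpowers x) := IsPGroup.of_card (by rw [Nat.card_zpowers, hx])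
  obtain ⟨Q, hQ⟩ := hZ.exists_le_sylow
  obtain ⟨c, hc⟩ := MulAction.exists_smul_eq G Q (hPp.toSylow hidx)
  refine ⟨c, ?_⟩
  have h1 : x ∈ (Q : Subgroup G) := hQ (Subgroup.mem_zpowers x)
  have h3 : ((c • Q : Sylow p G) : Subgroup G) = P := by rw [hc]; rfl
  rw [← h3, Sylow.coe_subgroup_smul, Subgroup.mem_pointwise_smul_iff_inv_smul_mem,
    MulAut.smul_def, ← map_inv, MulAut.conj_apply, inv_inv]
  have : c⁻¹ * (c * x * c⁻¹) * c = x := by group
  rw [this]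
  exact h1

theorem exponents_of_sylow_data {G : Type*} [Group G] [Finite G] (Ks : List ℕ)
    (hcard : Nat.card G = 2 ^ 7 * 3 ^ 3 * 5 ^ 2 * 7)
    (P2 P3 P5 P7 : Subgroup G) (h2 : Nat.card P2 = 2 ^ 7) (h3 : Nat.card P3 = 3 ^ 3)
    (h5 : Nat.card P5 = 5 ^ 2) (h7 : Nat.card P7 = 7 ^ 1) (R : Set G)
    (hR : ∀ r ∈ R, ∀ h : G, h * r = r * h → ∃ K ∈ Ks, h ^ K = 1)
    (hP2 : ∀ w ∈ P2, ∃ K ∈ Ks, w ^ K = 1)
    (hP : ∀ w : G, (w ∈ P3 ∨ w ∈ P5 ∨ w ∈ P7) → w ≠ 1 →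
      ∃ c : G, ∃ j : ℕ, (c * w * c⁻¹) ^ j ∈ R) :
    ∀ g : G, ∃ K ∈ Ks, g ^ K = 1 := by
  intro g
  have hidx : ∀ (P : Subgroup G) (p k m : ℕ), p.Prime → Nat.card P = p ^ k →
      2 ^ 7 * 3 ^ 3 * 5 ^ 2 * 7 = p ^ k * m → ¬ p ∣ m → ¬ p ∣ P.index := by
    intro P p k m hp hPc hm hnd hd
    apply hnd
    have h1 := Subgroup.card_mul_index P
    rw [hcard, hPc, hm] at h1
    have : P.index = m := Nat.eq_of_mul_eq_mul_left (pow_pos hp.pos k) h1
    rwa [this] at hd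
  -- the case of an odd prime dividing the order
  have key : ∀ (p : ℕ) [Fact p.Prime] (P : Subgroup G) (k : ℕ), Nat.card P = p ^ k →
      ¬ p ∣ P.index → (P = P3 ∨ P = P5 ∨ P = P7) → p ∣ orderOf g → ∃ K ∈ Ks, g ^ K = 1 := by
    intro p hp P k hPc hPi hPP hpg
    obtain ⟨m, hm⟩ := hpg
    have hgpos : 0 < orderOf g := orderOf_pos g
    have hmpos : 0 < m := by
      rcases Nat.eq_zero_or_pos m with h | h
      · rw [h, mul_zero] at hm; omega
      · exact h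
    set u := g ^ m with hu
    have hou : orderOf u = p ^ 1 := by
      rw [pow_one, hu, orderOf_pow' g hmpos.ne', hm, Nat.gcd_mul_left_left,
        Nat.mul_div_cancel _ hmpos]
    obtain ⟨c1, hc1⟩ := conj_mem_of_pgroup P hPc hPi u hou
    have hne : c1 * u * c1⁻¹ ≠ 1 := by
      intro h
      have : u = 1 := by
        have := congrArg (fun t => c1⁻¹ * t * c1) h
        simpa [mul_assoc] using this
      rw [this, orderOf_one, pow_one] at hou
      exact hp.out.one_lt.ne hou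
    have hmem : c1 * u * c1⁻¹ ∈ P3 ∨ c1 * u * c1⁻¹ ∈ P5 ∨ c1 * u * c1⁻¹ ∈ P7 := by
      rcases hPP with rfl | rfl | rfl
      · exact Or.inl hc1
      · exact Or.inr (Or.inl hc1)
      · exact Or.inr (Or.inr hc1)
    obtain ⟨c, j, hr⟩ := hP _ hmem hne
    set d := c * c1 with hd
    have hr' : (c * (c1 * u * c1⁻¹) * c⁻¹) ^ j = d * u ^ j * d⁻¹ := by
      have : c * (c1 * u * c1⁻¹) * c⁻¹ = d * u * d⁻¹ := by rw [hd]; group
      rw [this, conj_pow]
    rw [hr'] at hr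
    have hcomm : (d * g * d⁻¹) * (d * u ^ j * d⁻¹) = (d * u ^ j * d⁻¹) * (d * g * d⁻¹) := by
      have : g * u ^ j = u ^ j * g := by
        rw [hu, ← pow_mul, ← pow_succ', ← pow_succ]
      calc (d * g * d⁻¹) * (d * u ^ j * d⁻¹) = d * (g * u ^ j) * d⁻¹ := by group
        _ = d * (u ^ j * g) * d⁻¹ := by rw [this]
        _ = (d * u ^ j * d⁻¹) * (d * g * d⁻¹) := by group
    obtain ⟨K, hK, hK1⟩ := hR _ hr _ hcomm
    refine ⟨K, hK, ?_⟩
    rw [conj_pow] at hK1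
    have := congrArg (fun t => d⁻¹ * t * d) hK1
    simpa [mul_assoc] using this
  by_cases h7d : 7 ∣ orderOf g
  · haveI : Fact (Nat.Prime 7) := ⟨by norm_num⟩
    exact key 7 P7 1 h7 (hidx P7 7 1 (2 ^ 7 * 3 ^ 3 * 5 ^ 2) (by norm_num) h7 (by norm_num)
      (by norm_num)) (Or.inr (Or.inr rfl)) h7d
  by_cases h5d : 5 ∣ orderOf g
  · haveI : Fact (Nat.Prime 5) := ⟨by norm_num⟩
    exact key 5 P5 2 h5 (hidx P5 5 2 (2 ^ 7 * 3 ^ 3 * 7) (by norm_num) h5 (by norm_num)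
      (by norm_num)) (Or.inr (Or.inl rfl)) h5d
  by_cases h3d : 3 ∣ orderOf g
  · haveI : Fact (Nat.Prime 3) := ⟨by norm_num⟩
    exact key 3 P3 3 h3 (hidx P3 3 3 (2 ^ 7 * 5 ^ 2 * 7) (by norm_num) h3 (by norm_num)
      (by norm_num)) (Or.inl rfl) h3d
  -- the order is a power of two
  have hdvd : orderOf g ∣ 2 ^ 7 * 3 ^ 3 * 5 ^ 2 * 7 := by
    rw [← hcard]
    exact orderOf_dvd_natCard g
  have hc3 : Nat.Coprime (orderOf g) 3 :=
    (Nat.coprime_comm.1 ((Nat.Prime.coprime_iff_not_dvd (by norm_num)).2 h3d))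
  have hc5 : Nat.Coprime (orderOf g) 5 :=
    (Nat.coprime_comm.1 ((Nat.Prime.coprime_iff_not_dvd (by norm_num)).2 h5d))
  have hc7 : Nat.Coprime (orderOf g) 7 :=
    (Nat.coprime_comm.1 ((Nat.Prime.coprime_iff_not_dvd (by norm_num)).2 h7d))
  have h1 : orderOf g ∣ 2 ^ 7 * 3 ^ 3 * 5 ^ 2 := hc7.dvd_of_dvd_mul_right hdvd
  have h2' : orderOf g ∣ 2 ^ 7 * 3 ^ 3 := (hc5.pow_right 2).dvd_of_dvd_mul_right h1
  have h3' : orderOf g ∣ 2 ^ 7 := (hc3.pow_right 3).dvd_of_dvd_mul_right h2'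
  obtain ⟨a, -, ha⟩ := (Nat.dvd_prime_pow Nat.prime_two).1 h3'
  haveI : Fact (Nat.Prime 2) := ⟨Nat.prime_two⟩
  obtain ⟨c, hc⟩ := conj_mem_of_pgroup P2 h2 (hidx P2 2 7 (3 ^ 3 * 5 ^ 2 * 7) Nat.prime_two h2
    (by norm_num) (by norm_num)) g ha
  obtain ⟨K, hK, hK1⟩ := hP2 _ hc
  refine ⟨K, hK, ?_⟩
  rw [conj_pow] at hK1
  have := congrArg (fun t => c⁻¹ * t * c) hK1
  simpa [mul_assoc] using this

end Cfsg.Agent.Lib.helper23
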