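import Cfsg.Agent.Lib.helper23.J2oCent
import Cfsg.Agent.Lib.helper23.J2oSyl
import Cfsg.Agent.Lib.helper23.PgT

set_option autoImplicit false
set_option maxRecDepth 1000000

/-!
# The element orders of the Hall–Janko group on 315 points
-/

namespace Cfsg.Agent.Lib.helper23

open Subgroup

theorem j2pclosure_eq : closure (pgSet 315 j2pL1.own) = pgGrpW 315 j2pC := rfl

theorem j2p_sub_of_sift {C : List PgLvlW} (hchk : pgChkW 315 (List.range 315) C = true)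
    (hs : pgAllL (pgOwnW C) (fun s => pgSiftW 315 (List.range 315) j2pC s.f) = true) :
    pgGrpW 315 C ≤ pgGrpW 315 j2pC := by
  apply (closure_le _).2
  rintro x ⟨P, hP, rfl⟩
  have hok := pgChkW_own_ok 315 _ C hchk P hP
  exact pgSift_mem (pgRigidTop 315) j2pchkC j2pA hok (mem_top _) ((pgAllL_iff _ _).1 hs P hP)

theorem j2pS2le : pgGrpW 315 j2pS2C ≤ pgGrpW 315 j2pC := j2p_sub_of_sift j2pS2chk j2pS2sift
theorem j2pS3le : pgGrpW 315 j2pS3C ≤ pgGrpW 315 j2pC := j2p_sub_of_sift j2pS3chk j2pS3sift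
theorem j2pS5le : pgGrpW 315 j2pS5C ≤ pgGrpW 315 j2pC := j2p_sub_of_sift j2pS5chk j2pS5sift
theorem j2pS7le : pgGrpW 315 j2pS7C ≤ pgGrpW 315 j2pC := j2p_sub_of_sift j2pS7chk j2pS7sift

theorem j2pS2card : Nat.card (pgGrpW 315 j2pS2C) = 2 ^ 7 :=
  (pgCardW (pgRigidTop 315) j2pS2C j2pS2chk le_top).trans j2pS2ord
theorem j2pS3card : Nat.card (pgGrpW 315 j2pS3C) = 3 ^ 3 :=
  (pgCardW (pgRigidTop 315) j2pS3C j2pS3chk le_top).trans j2pS3ord
theorem j2pS5card : Nat.card (pgGrpW 315 j2pS5C) = 5 ^ 2 :=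
  (pgCardW (pgRigidTop 315) j2pS5C j2pS5chk le_top).trans j2pS5ord
theorem j2pS7card : Nat.card (pgGrpW 315 j2pS7C) = 7 ^ 1 :=
  (pgCardW (pgRigidTop 315) j2pS7C j2pS7chk le_top).trans j2pS7ord

theorem j2p_card_subgroupOf {H : Subgroup (Equiv.Perm (Fin 315))} (h : H ≤ pgGrpW 315 j2pC) :
    Nat.card (H.subgroupOf (pgGrpW 315 j2pC)) = Nat.card H :=
  Nat.card_congr (subgroupOfEquivOfLe h).toEquiv

/-! ### The representatives -/

theorem j2pRepOk {P : PFun} (hP : P ∈ j2pReps) : P.ok 315 = true := by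
  have := (pgAllL_iff _ _).1 j2pRepsOk P hP
  rw [Bool.and_eq_true] at this
  exact this.1

theorem j2pRepMem {P : PFun} (hP : P ∈ j2pReps) : P.perm 315 ∈ pgGrpW 315 j2pC := by
  have := (pgAllL_iff _ _).1 j2pRepsOk P hP
  rw [Bool.and_eq_true] at this
  exact pgSift_mem (pgRigidTop 315) j2pchkC j2pA this.1 (mem_top _) this.2

theorem j2pmemR3A : j2pgen j2pR3A j2pRi3A ∈ j2pReps := List.mem_cons_self
theorem j2pmemR3B : j2pgen j2pR3B j2pRi3B ∈ j2pReps := List.mem_cons_of_mem _ List.mem_cons_self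
theorem j2pmemR5A : j2pgen j2pR5A j2pRi5A ∈ j2pReps :=
  List.mem_cons_of_mem _ (List.mem_cons_of_mem _ List.mem_cons_self)
theorem j2pmemR5C : j2pgen j2pR5C j2pRi5C ∈ j2pReps :=
  List.mem_cons_of_mem _ (List.mem_cons_of_mem _ (List.mem_cons_of_mem _ List.mem_cons_self))
theorem j2pmemR7A : j2pgen j2pR7A j2pRi7A ∈ j2pReps :=
  List.mem_cons_of_mem _ (List.mem_cons_of_mem _ (List.mem_cons_of_mem _
    (List.mem_cons_of_mem _ List.mem_cons_self)))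

theorem j2p_cent_of {T T' : ℕ} (hok : (j2pgen T T').ok 315 = true)
    (hen : pgEnumM 315 9 (pgCentPrune (j2plk T)) (pgCentTest 315 9 (j2plk T) j2pKs) j2pC 2
      (fun p => p) [] = true) :
    ∀ h ∈ pgGrpW 315 j2pC, h * (j2pgen T T').perm 315 = (j2pgen T T').perm 315 * h →
      ∃ K ∈ j2pKs, h ^ K = 1 :=
  pgCent_main (by norm_num) (pgRigidTop 315) j2pchkC j2pA (j2plk T) j2pKs 2 _
    (fun p => (PFun.perm_apply hok p).symm) hen

theorem j2p_cent_reps {P : PFun} (hP : P ∈ j2pReps) :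
    ∀ h ∈ pgGrpW 315 j2pC, h * P.perm 315 = P.perm 315 * h → ∃ K ∈ j2pKs, h ^ K = 1 := by
  unfold j2pReps at hP
  simp only [List.mem_cons, List.not_mem_nil, or_false] at hP
  rcases hP with rfl | rfl | rfl | rfl | rfl
  · exact j2p_cent_of (j2pRepOk j2pmemR3A) j2pcent3A
  · exact j2p_cent_of (j2pRepOk j2pmemR3B) j2pcent3B
  · exact j2p_cent_of (j2pRepOk j2pmemR5A) j2pcent5A
  · exact j2p_cent_of (j2pRepOk j2pmemR5C) j2pcent5C
  · exact j2p_cent_of (j2pRepOk j2pmemR7A) j2pcent7A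

theorem j2p_rep_of_table (x : Equiv.Perm (Fin 315)) (T : ℕ)
    (hT : T = j2pR3A ∨ T = j2pR3B ∨ T = j2pR5A ∨ T = j2pR5C ∨ T = j2pR7A)
    (hx : ∀ p : Fin 315, (x p).1 = pgLk 9 T p.1) : ∃ P ∈ j2pReps, x = P.perm 315 := by
  have key : ∀ T' : ℕ, j2pgen T T' ∈ j2pReps → ∃ P ∈ j2pReps, x = P.perm 315 := by
    intro T' hmem
    refine ⟨_, hmem, Equiv.ext fun p => Fin.ext ?_⟩
    rw [hx, PFun.perm_apply (j2pRepOk hmem)]
    rfl
  rcases hT with rfl | rfl | rfl | rfl | rfl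
  · exact key _ j2pmemR3A
  · exact key _ j2pmemR3B
  · exact key _ j2pmemR5A
  · exact key _ j2pmemR5C
  · exact key _ j2pmemR7A

theorem j2pCertTabs : pgAllL (j2pCert3 ++ j2pCert5 ++ j2pCert7) (fun c =>
    Nat.beq c.2.2 j2pR3A || Nat.beq c.2.2 j2pR3B || Nat.beq c.2.2 j2pR5A || Nat.beq c.2.2 j2pR5C
      || Nat.beq c.2.2 j2pR7A) = true := by
  decide +kernel

theorem j2pCertTab {c : List ℕ × ℕ × ℕ} (hc : c ∈ j2pCert3 ∨ c ∈ j2pCert5 ∨ c ∈ j2pCert7) :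
    c.2.2 = j2pR3A ∨ c.2.2 = j2pR3B ∨ c.2.2 = j2pR5A ∨ c.2.2 = j2pR5C ∨ c.2.2 = j2pR7A := by
  have hmem : c ∈ j2pCert3 ++ j2pCert5 ++ j2pCert7 := by
    simp only [List.mem_append]
    tauto
  have := (pgAllL_iff _ _).1 j2pCertTabs c hmem
  simp only [Bool.or_eq_true] at this
  rcases this with (((h | h) | h) | h) | h
  · exact Or.inl (Nat.eq_of_beq_eq_true h)
  · exact Or.inr (Or.inl (Nat.eq_of_beq_eq_true h))
  · exact Or.inr (Or.inr (Or.inl (Nat.eq_of_beq_eq_true h)))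
  · exact Or.inr (Or.inr (Or.inr (Or.inl (Nat.eq_of_beq_eq_true h))))
  · exact Or.inr (Or.inr (Or.inr (Or.inr (Nat.eq_of_beq_eq_true h))))

/-- the elements of the chain of a Sylow subgroup for an odd prime are conjugate to elements with
a power among the representatives -/
theorem j2p_conj_of_test {C : List PgLvlW} {certs : List (List ℕ × ℕ × ℕ)}
    (hchk : pgChkW 315 (List.range 315) C = true)
    (hcerts : ∀ c ∈ certs, c ∈ j2pCert3 ∨ c ∈ j2pCert5 ∨ c ∈ j2pCert7)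
    (ht : pgEnumM 315 9 pgNoPrune (pgConjTest 315 9 j2pL1.own certs) C 0 (fun p => p) [] = true) :
    ∀ h ∈ pgGrpW 315 C, h ≠ 1 → ∃ a ∈ pgGrpW 315 j2pC, ∃ j : ℕ, ∃ P ∈ j2pReps,
      (a * h * a⁻¹) ^ j = P.perm 315 := by
  intro h hh h1
  obtain ⟨f, hf, htf⟩ := pgEnumM_all (by norm_num) (pgRigidTop 315) hchk le_top _ 0 ht h hh
  have hgs : ∀ P ∈ j2pL1.own, P.ok 315 = true := j2pok
  rcases pgConjTest_sound (by norm_num) hgs hf htf with h0 | ⟨c, hc, a, ha, hx⟩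
  · exact absurd h0 h1
  · obtain ⟨P, hP, hPe⟩ := j2p_rep_of_table _ c.2.2 (j2pCertTab (hcerts c hc)) hx
    exact ⟨a, ha, c.2.1, P, hP, hPe⟩

/-! ### The exponents -/

theorem j2p_exponent : ∀ g ∈ pgGrpW 315 j2pC, ∃ K ∈ j2pKs, g ^ K = 1 := by
  have main := exponents_of_sylow_data (G := ↥(pgGrpW 315 j2pC)) j2pKs
    (by rw [j2pcard]; norm_num)
    ((pgGrpW 315 j2pS2C).subgroupOf _) ((pgGrpW 315 j2pS3C).subgroupOf _)
    ((pgGrpW 315 j2pS5C).subgroupOf _) ((pgGrpW 315 j2pS7C).subgroupOf _)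
    ((j2p_card_subgroupOf j2pS2le).trans j2pS2card)
    ((j2p_card_subgroupOf j2pS3le).trans j2pS3card)
    ((j2p_card_subgroupOf j2pS5le).trans j2pS5card)
    ((j2p_card_subgroupOf j2pS7le).trans j2pS7card)
    {x | ∃ P ∈ j2pReps, x.1 = P.perm 315}
    (by
      rintro r ⟨P, hP, hr⟩ h hcomm
      have hc : h.1 * P.perm 315 = P.perm 315 * h.1 := by
        rw [← hr, ← Subgroup.coe_mul, hcomm, Subgroup.coe_mul]
      obtain ⟨K, hK, hpow⟩ := j2p_cent_reps hP h.1 h.2 hc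
      exact ⟨K, hK, Subtype.ext (by rw [Subgroup.coe_pow, hpow]; rfl)⟩)
    (by
      intro w hw
      rw [mem_subgroupOf] at hw
      obtain ⟨f, hf, htf⟩ := pgEnumM_all (by norm_num) (pgRigidTop 315) j2pS2chk le_top _ 0
        j2pS2test w.1 hw
      obtain ⟨K, hK, hpow⟩ := pgExpTest_sound (by norm_num) hf htf
      rw [List.mem_singleton] at hK
      subst hK
      exact ⟨8, by decide, Subtype.ext (by rw [Subgroup.coe_pow, hpow]; rfl)⟩)
    (by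
      intro w hw hw1
      have hw1' : w.1 ≠ 1 := fun h => hw1 (Subtype.ext h)
      have key : ∃ a ∈ pgGrpW 315 j2pC, ∃ j : ℕ, ∃ P ∈ j2pReps,
          (a * w.1 * a⁻¹) ^ j = P.perm 315 := by
        rcases hw with hw | hw | hw
        · exact j2p_conj_of_test j2pS3chk (fun c hc => Or.inl hc) j2pS3test w.1
            (mem_subgroupOf.1 hw) hw1'
        · exact j2p_conj_of_test j2pS5chk (fun c hc => Or.inr (Or.inl hc)) j2pS5test w.1
            (mem_subgroupOf.1 hw) hw1'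
        · exact j2p_conj_of_test j2pS7chk (fun c hc => Or.inr (Or.inr hc)) j2pS7test w.1
            (mem_subgroupOf.1 hw) hw1'
      obtain ⟨a, ha, j, P, hP, he⟩ := key
      refine ⟨⟨a, ha⟩, j, P, hP, ?_⟩
      rw [← he]
      rfl)
  intro g hg
  obtain ⟨K, hK, hpow⟩ := main ⟨g, hg⟩
  exact ⟨K, hK, by simpa using congrArg Subtype.val hpow⟩

theorem j2pdivs : ∀ K ∈ j2pKs, ∀ d, d ≤ 15 → d ∣ K →
    d ∈ ([1, 2, 3, 4, 5, 6, 7, 8, 10, 12, 15] : List ℕ) := by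
  decide

theorem j2p_orderOf_mem (g : Equiv.Perm (Fin 315)) (hg : g ∈ pgGrpW 315 j2pC) :
    orderOf g ∈ ([1, 2, 3, 4, 5, 6, 7, 8, 10, 12, 15] : List ℕ) := by
  obtain ⟨K, hK, hpow⟩ := j2p_exponent g hg
  have hd := orderOf_dvd_of_pow_eq_one hpow
  have hK15 : K ≤ 15 := by
    have : ∀ K ∈ j2pKs, K ≤ 15 := by decide
    exact this K hK
  have hK0 : 0 < K := by
    have : ∀ K ∈ j2pKs, 0 < K := by decide
    exact this K hK
  exact j2pdivs K hK _ ((Nat.le_of_dvd hK0 hd).trans hK15) hd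

theorem j2p_orderOf_exists {k : ℕ} (hk : k ∈ ([1, 2, 3, 4, 5, 6, 7, 8, 10, 12, 15] : List ℕ)) :
    ∃ g ∈ pgGrpW 315 j2pC, orderOf g = k := by
  have hmap : j2pWit.map Prod.fst = [1, 2, 3, 4, 5, 6, 7, 8, 10, 12, 15] := by decide
  rw [← hmap, List.mem_map] at hk
  obtain ⟨⟨k', wd⟩, hwd, rfl⟩ := hk
  have := (pgAllL_iff _ _).1 j2pWitOk (k', wd) hwd
  rw [Bool.and_eq_true] at this
  have hk0 : 0 < k' := by simpa using this.1
  exact ⟨pgWordPerm 315 j2pL1.own wd, pgWordPerm_mem j2pok wd, pgOrdTest_sound j2pok hk0 this.2⟩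

theorem j2p_order_range : Set.range (orderOf : ↥(pgGrpW 315 j2pC) → ℕ) =
    {k | k ∈ ([1, 2, 3, 4, 5, 6, 7, 8, 10, 12, 15] : List ℕ)} := by
  ext k
  constructor
  · rintro ⟨g, rfl⟩
    rw [← Subgroup.orderOf_coe]
    exact j2p_orderOf_mem g.1 g.2
  · intro hk
    obtain ⟨g, hg, hgo⟩ := j2p_orderOf_exists hk
    exact ⟨⟨g, hg⟩, by rw [← Subgroup.orderOf_coe]; exact hgo⟩

end Cfsg.Agent.Lib.helper23
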