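import Mathlib

namespace Cfsg.Agent.Lib.helper23

/-- possible element orders in the symmetric group of degree `s` (for `s ≤ 8`). -/
def s8A : ℕ → List ℕ
  | 0 => [1]
  | 1 => [1]
  | 2 => [1,2]
  | 3 => [1,2,3]
  | 4 => [1,2,3,4]
  | 5 => [1,2,3,4,5,6]
  | 6 => [1,2,3,4,5,6]
  | 7 => [1,2,3,4,5,6,7,10,12]
  | _ => [1,2,3,4,5,6,7,8,10,12,15]

theorem s8A_base : ∀ s, s ≤ 8 → 1 ∈ s8A s := by decide

theorem s8A_step : ∀ s, s ≤ 8 → ∀ a, a ≤ s → 2 ≤ a → ∀ l ∈ s8A (s - a), Nat.lcm a l ∈ s8A s := by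
  decide

theorem s8_lcm_mem (m : Multiset ℕ) : (∀ a ∈ m, 2 ≤ a) → ∀ s, s ≤ 8 → m.sum ≤ s → m.lcm ∈ s8A s := by
  induction m using Multiset.induction_on with
  | empty =>
    intro _ s hs _
    simpa using s8A_base s hs
  | cons a m ih =>
    intro h2 s hs hsum
    rw [Multiset.sum_cons] at hsum
    rw [Multiset.lcm_cons]
    have ha : a ≤ s := by omega
    have h2a : 2 ≤ a := h2 a (Multiset.mem_cons_self a m)
    have hm := ih (fun b hb => h2 b (Multiset.mem_cons_of_mem hb)) (s - a) (by omega) (by omega)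
    exact s8A_step s hs a ha h2a _ hm

theorem s8_orderOf_mem (σ : Equiv.Perm (Fin 8)) : orderOf σ ∈ s8A 8 := by
  rw [← Equiv.Perm.lcm_cycleType]
  apply s8_lcm_mem _ (fun a ha => Equiv.Perm.two_le_of_mem_cycleType ha) 8 le_rfl
  rw [Equiv.Perm.sum_cycleType]
  exact (Finset.card_le_univ _).trans (by simp)

/-- explicit permutation from a function table with inverse. -/
def s8P (f g : Fin 8 → Fin 8) (h1 : ∀ i, g (f i) = i) (h2 : ∀ i, f (g i) = i) :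
    Equiv.Perm (Fin 8) := ⟨f, g, h1, h2⟩

def s8p2 : Equiv.Perm (Fin 8) := s8P ![1,0,2,3,4,5,6,7] ![1,0,2,3,4,5,6,7] (by decide) (by decide)
def s8p3 : Equiv.Perm (Fin 8) := s8P ![1,2,0,3,4,5,6,7] ![2,0,1,3,4,5,6,7] (by decide) (by decide)
def s8p4 : Equiv.Perm (Fin 8) := s8P ![1,2,3,0,4,5,6,7] ![3,0,1,2,4,5,6,7] (by decide) (by decide)
def s8p5 : Equiv.Perm (Fin 8) := s8P ![1,2,3,4,0,5,6,7] ![4,0,1,2,3,5,6,7] (by decide) (by decide)
def s8p6 : Equiv.Perm (Fin 8) := s8P ![1,2,0,4,3,5,6,7] ![2,0,1,4,3,5,6,7] (by decide) (by decide)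
def s8p7 : Equiv.Perm (Fin 8) := s8P ![1,2,3,4,5,6,0,7] ![6,0,1,2,3,4,5,7] (by decide) (by decide)
def s8p8 : Equiv.Perm (Fin 8) := s8P ![1,2,3,4,5,6,7,0] ![7,0,1,2,3,4,5,6] (by decide) (by decide)
def s8p10 : Equiv.Perm (Fin 8) := s8P ![1,2,3,4,0,6,5,7] ![4,0,1,2,3,6,5,7] (by decide) (by decide)
def s8p12 : Equiv.Perm (Fin 8) := s8P ![1,2,3,0,5,6,4,7] ![3,0,1,2,6,4,5,7] (by decide) (by decide)
def s8p15 : Equiv.Perm (Fin 8) := s8P ![1,2,3,4,0,6,7,5] ![4,0,1,2,3,7,5,6] (by decide) (by decide)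

theorem s8_order_crit (σ : Equiv.Perm (Fin 8)) (n : ℕ) (hn : 0 < n)
    (h : (∀ i, (σ ^ n) i = i) ∧ ∀ m, m < n → 0 < m → ∃ i, (σ ^ m) i ≠ i) : orderOf σ = n := by
  rw [orderOf_eq_iff hn]
  refine ⟨Equiv.ext h.1, fun m hm hm0 he => ?_⟩
  obtain ⟨i, hi⟩ := h.2 m hm hm0
  exact hi (by rw [he]; rfl)

theorem s8o2 : orderOf s8p2 = 2 := s8_order_crit _ _ (by norm_num) (by decide)
theorem s8o3 : orderOf s8p3 = 3 := s8_order_crit _ _ (by norm_num) (by decide)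
theorem s8o4 : orderOf s8p4 = 4 := s8_order_crit _ _ (by norm_num) (by decide)
theorem s8o5 : orderOf s8p5 = 5 := s8_order_crit _ _ (by norm_num) (by decide)
theorem s8o6 : orderOf s8p6 = 6 := s8_order_crit _ _ (by norm_num) (by decide)
theorem s8o7 : orderOf s8p7 = 7 := s8_order_crit _ _ (by norm_num) (by decide)
theorem s8o8 : orderOf s8p8 = 8 := s8_order_crit _ _ (by norm_num) (by decide)
theorem s8o10 : orderOf s8p10 = 10 := s8_order_crit _ _ (by norm_num) (by decide)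
theorem s8o12 : orderOf s8p12 = 12 := s8_order_crit _ _ (by norm_num) (by decide)
theorem s8o15 : orderOf s8p15 = 15 := s8_order_crit _ _ (by norm_num) (by decide)

theorem s8_range : Set.range (orderOf : Equiv.Perm (Fin 8) → ℕ) =
    {k | k ∈ ([1,2,3,4,5,6,7,8,10,12,15] : List ℕ)} := by
  ext k
  constructor
  · rintro ⟨σ, rfl⟩
    exact s8_orderOf_mem σ
  · intro hk
    change k ∈ ([1,2,3,4,5,6,7,8,10,12,15] : List ℕ) at hk
    simp only [List.mem_cons, List.not_mem_nil, or_false] at hk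
    rcases hk with rfl | rfl | rfl | rfl | rfl | rfl | rfl | rfl | rfl | rfl | rfl
    · exact ⟨1, orderOf_one⟩
    · exact ⟨_, s8o2⟩
    · exact ⟨_, s8o3⟩
    · exact ⟨_, s8o4⟩
    · exact ⟨_, s8o5⟩
    · exact ⟨_, s8o6⟩
    · exact ⟨_, s8o7⟩
    · exact ⟨_, s8o8⟩
    · exact ⟨_, s8o10⟩
    · exact ⟨_, s8o12⟩
    · exact ⟨_, s8o15⟩

end Cfsg.Agent.Lib.helper23
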