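import Cfsg.Prelude.Def_Spor_J2
import Cfsg.Agent.Lib.helper23.J2oMain
import Cfsg.Agent.Lib.helper23.S8Ord

set_option autoImplicit false

/-!
# The spectrum of the Hall–Janko group, given an isomorphism with the group on 315 points
-/

namespace Cfsg.Agent.Lib.helper23

open Cfsg.Agent.Lib.Lead.J2

theorem range_orderOf_of_mulEquiv {G H : Type*} [Group G] [Group H] (e : G ≃* H) :
    Set.range (orderOf : G → ℕ) = Set.range (orderOf : H → ℕ) := by
  ext k
  constructor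
  · rintro ⟨g, rfl⟩
    exact ⟨e g, MulEquiv.orderOf_eq e g⟩
  · rintro ⟨h, rfl⟩
    exact ⟨e.symm h, MulEquiv.orderOf_eq e.symm h⟩

theorem P315_order_range : Set.range (orderOf : ↥P315 → ℕ) =
    {k | k ∈ ([1, 2, 3, 4, 5, 6, 7, 8, 10, 12, 15] : List ℕ)} := by
  rw [range_orderOf_of_mulEquiv (MulEquiv.subgroupCongr P315_eq)]
  exact j2p_order_range

theorem j2_spectrum_of_iso (e : Cfsg.Spor.J2 ≃* ↥P315) :
    Set.range (orderOf : Cfsg.Spor.J2 → ℕ) =
      {k | k ∈ ([1, 2, 3, 4, 5, 6, 7, 8, 10, 12, 15] : List ℕ)} := by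
  rw [range_orderOf_of_mulEquiv e]
  exact P315_order_range

theorem s8_j2_isospectral_of_iso (e : Cfsg.Spor.J2 ≃* ↥P315) :
    Set.range (orderOf : Equiv.Perm (Fin 8) → ℕ) = Set.range (orderOf : Cfsg.Spor.J2 → ℕ) := by
  rw [j2_spectrum_of_iso e, s8_range]

end Cfsg.Agent.Lib.helper23
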