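import Cfsg.Agent.Lib.helper23.J2Spec
import Cfsg.Agent.Lib.helper23.A8wMain

set_option autoImplicit false

/-!
# Groups of arbitrarily large order with the element orders of the Hall–Janko group,
given an isomorphism of the latter with the group on 315 points
-/

namespace Cfsg.Agent.Lib.helper23

open Cfsg.Agent.Lib.Lead.J2

theorem j2_large_isospectral_of_iso (e : Cfsg.Spor.J2 ≃* ↥P315) (N : ℕ) :
    ∃ (H : Type) (_ : Group H) (_ : Fintype H), N < Fintype.card H ∧
      Set.range (orderOf : H → ℕ) = Set.range (orderOf : Cfsg.Spor.J2 → ℕ) := by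
  obtain ⟨K, i1, i2, h1, h2⟩ := a8w_large N
  exact ⟨K, i1, i2, h1, h2.trans (j2_spectrum_of_iso e).symm⟩

end Cfsg.Agent.Lib.helper23
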