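import Cfsg.Agent.Lib.helper23.U3eMain

set_option autoImplicit false

/-!
# A group isomorphic to the Hall–Janko group on 315 points has a subgroup of index 100 isomorphic
to the unitary group of degree three over nine elements, with suborbits of lengths 36 and 63
-/

namespace Cfsg.Agent.Lib.helper23

open Subgroup MulAction Cfsg.Agent.Lib.Helper19.L27 Cfsg.Agent.Lib.Lead.J2

theorem u33_of_iso {J : Type*} [Group J] (e0 : J ≃* ↥P315) :
    ∃ H : Subgroup J, H.index = 100 ∧
      (∃ (F : Type) (_ : Field F) (_ : Fintype F), Fintype.card F = 9 ∧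
        Nonempty (↥H ≃* Cfsg.PSU 3 F 3)) ∧
      ∃ c₁ c₂ : J ⧸ H, (MulAction.orbit ↥H c₁).ncard = 36 ∧
        (MulAction.orbit ↥H c₂).ncard = 63 := by
  let e : J ≃* D415 := e0.trans D415_equiv.symm
  obtain ⟨g1, hg1⟩ := D415_y1
  obtain ⟨g2, hg2⟩ := D415_y2
  refine ⟨D415H.comap e.toMonoidHom, ?_, ⟨F9, inferInstance, inferInstance, F9.card, ?_⟩,
    QuotientGroup.mk (e.symm g1), QuotientGroup.mk (e.symm g2), ?_, ?_⟩
  · rw [pgIndex_comap, D415_orbit]
  · obtain ⟨f⟩ := D415H_iso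
    exact ⟨(pgComapEquiv e D415H).trans f⟩
  · rw [pgOrbit_quot, hg1]
    exact D415_suborbits.1
  · rw [pgOrbit_quot, hg2]
    exact D415_suborbits.2

end Cfsg.Agent.Lib.helper23
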