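import Cfsg.Agent.Lib.helper23.J2pMain
import Cfsg.Agent.Lib.helper23.J2cData
import Cfsg.Agent.Lib.helper23.PgW

set_option autoImplicit false
set_option maxRecDepth 1000000
set_option Elab.async false

/-!
# The Hall–Janko group on 315 points: the checks for the centraliser of a reflection, part 1
-/

namespace Cfsg.Agent.Lib.helper23

/-! ### The involution -/

theorem j2cTok : (j2pgen j2cT j2cT).ok 315 = true := by decide +kernel

theorem j2cTsift : pgSiftW 315 (List.range 315) j2pC2 (j2plk j2cT) = true := by decide +kernel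

theorem j2cTword : pgEq 315 (j2plk j2cT)
    (pgEvalW j2pL1.own (j2cW ++ [0] ++ pgInvW 4 j2cW)) = true := by decide +kernel

theorem j2cWlt : pgAllL j2cW (fun j => Nat.blt j 8) = true := by decide +kernel

theorem j2cTne : Nat.beq (j2plk j2cT 0) 0 = false := by decide +kernel

theorem j2cTsq : pgEq 315 (fun p => j2plk j2cT (j2plk j2cT p)) (fun p => p) = true := by
  decide +kernel

/-- the generators of the stabiliser commute with the involution -/
theorem j2cTcomm : pgAllL j2pL2.own (fun s =>
    pgEq 315 (fun p => s.f (j2plk j2cT p)) (fun p => j2plk j2cT (s.f p))) = true := by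
  decide +kernel

/-! ### The normal subgroup of order 32 -/

theorem j2cQchk : pgChkW 315 (List.range 315) j2cQC = true := by decide +kernel

theorem j2cQord : pgOrdW 315 j2cQC = 32 := by decide +kernel

theorem j2cQsift : pgAllL j2cQL1.own (fun s => pgSiftW 315 (List.range 315) j2pC2 s.f) = true := by
  decide +kernel

theorem j2cQnorm : pgAllL j2pL2.own (fun s => pgAllL j2cQL1.own (fun t =>
    pgSiftW 315 (List.range 315) j2cQC (fun p => s.f (t.f (s.g p))) &&
    pgSiftW 315 (List.range 315) j2cQC (fun p => s.g (t.f (s.f p))))) = true := by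
  decide +kernel

theorem j2cTQ : pgSiftW 315 (List.range 315) j2cQC (j2plk j2cT) = true := by decide +kernel

/-- the test for one element, given by its table -/
def j2cTest1 (T : ℕ) : Bool :=
  (pgEq 315 (fun p => pgLk 9 T (pgLk 9 T p)) (fun p => p) ||
    pgEq 315 (fun p => pgLk 9 T (pgLk 9 T p)) (j2plk j2cT)) &&
  (pgEq 315 (pgLk 9 T) (fun p => p) || pgEq 315 (pgLk 9 T) (j2plk j2cT) ||
    pgAnyL j2cQL1.own (fun s =>
      !(pgEq 315 (fun p => pgLk 9 T (s.f p)) (fun p => s.f (pgLk 9 T p)))))

/-- the test for two elements, given by their tables -/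
def j2cTest2 (T T' : ℕ) : Bool :=
  (pgEq 315 (fun p => pgLk 9 T (pgLk 9 T' p)) (fun p => pgLk 9 T' (pgLk 9 T p)) ||
    pgEq 315 (fun p => pgLk 9 T (pgLk 9 T' p))
      (fun p => j2plk j2cT (pgLk 9 T' (pgLk 9 T p)))) &&
  (!(pgEq 315 (fun p => pgLk 9 T (pgLk 9 T p)) (fun p => p) &&
      pgEq 315 (fun p => pgLk 9 T' (pgLk 9 T' p)) (fun p => p) &&
      pgEq 315 (fun p => pgLk 9 T (pgLk 9 T' p)) (fun p => pgLk 9 T' (pgLk 9 T p))) ||
    (pgEq 315 (pgLk 9 T) (fun p => p) || pgEq 315 (pgLk 9 T) (j2plk j2cT) ||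
      pgEq 315 (pgLk 9 T') (fun p => p) || pgEq 315 (pgLk 9 T') (j2plk j2cT) ||
      pgEq 315 (pgLk 9 T') (pgLk 9 T) ||
      pgEq 315 (pgLk 9 T') (fun p => pgLk 9 T (j2plk j2cT p))))

theorem j2cQtest1 : pgEnumM 315 9 pgNoPrune (fun f => pgForce (pgMk 9 315 f) j2cTest1) j2cQC 0
    (fun p => p) [] = true := by
  decide +kernel

/-- two generators of the normal subgroup do not commute -/
theorem j2cQnab : pgAnyL j2cQL1.own (fun s => pgAnyL j2cQL1.own (fun t =>
    !(pgEq 315 (fun p => s.f (t.f p)) (fun p => t.f (s.f p))))) = true := by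
  decide +kernel

/-! ### The two elements of orders 3 and 5 -/

theorem j2cXYok : ((j2pgen j2cX j2cXi).ok 315 && (j2pgen j2cY j2cYi).ok 315) = true := by
  decide +kernel

theorem j2cXYsift : (pgSiftW 315 (List.range 315) j2pC2 (j2plk j2cX) &&
    pgSiftW 315 (List.range 315) j2pC2 (j2plk j2cY)) = true := by
  decide +kernel

theorem j2cX3 : pgEq 315 (fun p => j2plk j2cX (j2plk j2cX (j2plk j2cX p))) (fun p => p) = true := by
  decide +kernel

theorem j2cY5 : pgEq 315 (fun p => j2plk j2cY (j2plk j2cY (j2plk j2cY (j2plk j2cY (j2plk j2cY p)))))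
    (fun p => p) = true := by
  decide +kernel

theorem j2cXY2 : pgEq 315 (fun p => j2plk j2cX (j2plk j2cY (j2plk j2cX (j2plk j2cY p))))
    (fun p => p) = true := by
  decide +kernel

theorem j2cXne : Nat.beq (j2plk j2cX 4) 4 = false := by decide +kernel


end Cfsg.Agent.Lib.helper23
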