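import Cfsg.Agent.Lib.helper23.J2cChkA

set_option autoImplicit false
set_option maxRecDepth 1000000
set_option Elab.async false

/-!
# The Hall–Janko group on 315 points: the checks for the centraliser of a reflection, part 2
-/

namespace Cfsg.Agent.Lib.helper23

/-- the test at the leaves: an element commuting with the involution fixes the point 11 -/
def j2cFixTest (f : ℕ → ℕ) : Bool :=
  cond (pgAll 315 (fun p => Nat.beq (f (j2plk j2cT p)) (j2plk j2cT (f p)))) (Nat.beq (f 11) 11) true

theorem j2cCentFix_0 : pgEnumPiece 315 9 (pgCentPrune (j2plk j2cT)) j2cFixTest j2pL1 j2pC2 2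
    0 15 = true := by decide +kernel

theorem j2cCentFix_1 : pgEnumPiece 315 9 (pgCentPrune (j2plk j2cT)) j2cFixTest j2pL1 j2pC2 2
    15 20 = true := by decide +kernel

theorem j2cCentFix_2 : pgEnumPiece 315 9 (pgCentPrune (j2plk j2cT)) j2cFixTest j2pL1 j2pC2 2
    35 15 = true := by decide +kernel

theorem j2cCentFix_3 : pgEnumPiece 315 9 (pgCentPrune (j2plk j2cT)) j2cFixTest j2pL1 j2pC2 2
    50 15 = true := by decide +kernel

theorem j2cCentFix_4 : pgEnumPiece 315 9 (pgCentPrune (j2plk j2cT)) j2cFixTest j2pL1 j2pC2 2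
    65 15 = true := by decide +kernel

theorem j2cCentFix_5 : pgEnumPiece 315 9 (pgCentPrune (j2plk j2cT)) j2cFixTest j2pL1 j2pC2 2
    80 235 = true := by decide +kernel

/-- the elements commuting with the involution fix the point 11 -/
theorem j2cCentFix : pgEnumM 315 9 (pgCentPrune (j2plk j2cT)) j2cFixTest j2pC 2 (fun p => p) [] =
    true := by
  apply pgEnumM_of_pieces
  intro z hz
  by_cases h0 : z < 15
  · exact pgEnumPiece_spec j2cCentFix_0 z (by omega) (by omega)
  by_cases h1 : z < 35
  · exact pgEnumPiece_spec j2cCentFix_1 z (by omega) (by omega)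
  by_cases h2 : z < 50
  · exact pgEnumPiece_spec j2cCentFix_2 z (by omega) (by omega)
  by_cases h3 : z < 65
  · exact pgEnumPiece_spec j2cCentFix_3 z (by omega) (by omega)
  by_cases h4 : z < 80
  · exact pgEnumPiece_spec j2cCentFix_4 z (by omega) (by omega)
  exact pgEnumPiece_spec j2cCentFix_5 z (by omega) (by omega)

end Cfsg.Agent.Lib.helper23
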