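import Cfsg.Agent.Lib.helper23.J2cChkA

set_option autoImplicit false
set_option maxRecDepth 1000000
set_option Elab.async false

/-!
# The Hall–Janko group on 315 points: the checks for the centraliser of a reflection, part 3
-/

namespace Cfsg.Agent.Lib.helper23

theorem j2cQtest2 : pgEnumM 315 9 pgNoPrune (fun f => pgForce (pgMk 9 315 f) (fun T =>
    pgEnumM 315 9 pgNoPrune (fun f' => pgForce (pgMk 9 315 f') (fun T' => j2cTest2 T T')) j2cQC 0
      (fun p => p) [])) j2cQC 0 (fun p => p) [] = true := by
  decide +kernel


end Cfsg.Agent.Lib.helper23
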