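import Cfsg.Agent.Lib.helper23.J2cChkB
import Cfsg.Agent.Lib.helper23.J2cChkC
import Cfsg.Agent.Lib.helper23.CentShape
import Cfsg.Agent.Lib.helper4.J3CAbs

set_option autoImplicit false
set_option maxRecDepth 1000000

/-!
# The Hall–Janko group on 315 points: the centraliser of a reflection
-/

namespace Cfsg.Agent.Lib.helper23

open Subgroup Cfsg.Agent.Lib.Lead.J2

/-! ### The subgroups -/

theorem j2pchkC2 : pgChkW 315 (pgRigidTop 315).base j2pC2 = true := pgChkW_tail j2pchkC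

theorem j2pok2 : ∀ P ∈ pgOwnW j2pC2, P.ok 315 = true :=
  pgChkW_own_ok 315 (pgRigidTop 315).base j2pC2 j2pchkC2

theorem j2pC2le : pgGrpW 315 j2pC2 ≤ pgGrpW 315 j2pC := by
  obtain ⟨_, -, -, -, h⟩ := pgLvlW_main (pgRigidTop 315) j2pchkC j2pA
  exact h

theorem j2pC2stab : ∀ g ∈ pgGrpW 315 j2pC, g (11 : Fin 315) = 11 → g ∈ pgGrpW 315 j2pC2 := by
  obtain ⟨_, h, -, -, -⟩ := pgLvlW_main (pgRigidTop 315) j2pchkC j2pA
  exact h

theorem j2pC2card : Nat.card (pgGrpW 315 j2pC2) = 1920 :=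
  (pgCardW (pgRigidTop 315) j2pC2 j2pchkC2 le_top).trans j2pord2

/-- the involution -/
def j2ct : Equiv.Perm (Fin 315) := (j2pgen j2cT j2cT).perm 315

theorem j2ct_rep : PgRep (j2plk j2cT) j2ct := PgRep.perm j2cTok

theorem j2ct_mem2 : j2ct ∈ pgGrpW 315 j2pC2 :=
  pgSift_mem (pgRigidTop 315) j2pchkC2 le_top j2cTok (mem_top _) j2cTsift

theorem j2ct_mem : j2ct ∈ pgGrpW 315 j2pC := j2pC2le j2ct_mem2

theorem j2ct_ne : j2ct ≠ 1 := by
  intro h
  have h1 := j2ct_rep (0 : Fin 315)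
  rw [h] at h1
  have h2 := j2cTne
  have h3 : j2plk j2cT 0 = 0 := h1
  rw [h3] at h2
  exact absurd h2 (by decide)

theorem j2ct_sq : j2ct * j2ct = 1 :=
  (pgEq_iff (PgRep.mul j2ct_rep j2ct_rep) PgRep.one).1 j2cTsq

/-- the conjugating element -/
def j2cg : Equiv.Perm (Fin 315) := pgWordPerm 315 j2pL1.own j2cW

theorem j2cg_mem : j2cg ∈ pgGrpW 315 j2pC := pgWordPerm_mem j2pok j2cW

theorem j2ct_eq : j2ct = j2cg * piG 0 * j2cg⁻¹ := by
  have hgs : ∀ P ∈ j2pL1.own, P.ok 315 = true := j2pok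
  have hlt : ∀ j ∈ j2cW, j < 2 * j2pL1.own.length := by
    intro j hj
    have := (pgAllL_iff _ _).1 j2cWlt j hj
    have h8 : 2 * j2pL1.own.length = 8 := by decide
    rw [h8]
    simpa using this
  have h1 : j2ct = pgWordPerm 315 j2pL1.own (j2cW ++ [0] ++ pgInvW 4 j2cW) :=
    (pgEq_iff j2ct_rep (fun p => (pgWordPerm_apply hgs _ p).symm)).1 j2cTword
  have h4 : pgInvW 4 j2cW = pgInvW j2pL1.own.length j2cW := rfl
  rw [h1, pgWordPerm_append, pgWordPerm_append, h4, pgInvW_perm hgs j2cW hlt]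
  have h0 : pgWordPerm 315 j2pL1.own [0] = piG 0 := by
    rw [← j2pgen_eq0]
    unfold pgWordPerm
    simp only [List.map_cons, List.map_nil, List.prod_cons, List.prod_nil, mul_one]
    rfl
  rw [h0]
  rfl

/-- the stabiliser of the point 11 centralises the involution -/
theorem j2cC2comm : ∀ h ∈ pgGrpW 315 j2pC2, h * j2ct = j2ct * h := by
  have : pgGrpW 315 j2pC2 ≤ centralizer {j2ct} := by
    apply (closure_le _).2
    rintro x ⟨s, hs, rfl⟩
    rw [SetLike.mem_coe, mem_centralizer_iff]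
    intro y hy
    rw [Set.mem_singleton_iff] at hy
    subst hy
    have hsok := j2pok2 s hs
    have := (pgAllL_iff _ _).1 j2cTcomm s hs
    exact ((pgEq_iff (PgRep.mul (PgRep.perm hsok) j2ct_rep)
      (PgRep.mul j2ct_rep (PgRep.perm hsok))).1 this).symm
  intro h hh
  exact ((mem_centralizer_iff.1 (this hh)) j2ct rfl).symm

/-- the centraliser of the involution fixes the point 11 -/
theorem j2cCentStab : ∀ h ∈ pgGrpW 315 j2pC, h * j2ct = j2ct * h → h ∈ pgGrpW 315 j2pC2 := by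
  intro h hh hc
  obtain ⟨f, hf, ht⟩ := pgCent_gen (by norm_num : 315 ≤ 2 ^ 9) (pgRigidTop 315) j2pchkC j2pA
    (j2plk j2cT) (fun f => Nat.beq (f 11) 11) 2 j2ct j2ct_rep j2cCentFix h hh hc
  apply j2pC2stab h hh
  apply Fin.ext
  rw [← hf (11 : Fin 315)]
  have : Nat.beq (f 11) 11 = true := ht
  rw [Nat.beq_eq] at this
  exact this

/-! ### The normal subgroup of order 32 -/

theorem j2cQchkR : pgChkW 315 (pgRigidTop 315).base j2cQC = true := j2cQchk

theorem j2cQok : ∀ P ∈ pgOwnW j2cQC, P.ok 315 = true :=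
  pgChkW_own_ok 315 (pgRigidTop 315).base j2cQC j2cQchkR

theorem j2cQcard : Nat.card (pgGrpW 315 j2cQC) = 32 :=
  (pgCardW (pgRigidTop 315) j2cQC j2cQchkR le_top).trans j2cQord

theorem j2cQle2 : pgGrpW 315 j2cQC ≤ pgGrpW 315 j2pC2 := by
  apply (closure_le _).2
  rintro x ⟨P, hP, rfl⟩
  exact pgSift_mem (pgRigidTop 315) j2pchkC2 le_top (j2cQok P hP) (mem_top _)
    ((pgAllL_iff _ _).1 j2cQsift P hP)

theorem j2cQle : pgGrpW 315 j2cQC ≤ pgGrpW 315 j2pC := j2cQle2.trans j2pC2le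

theorem j2ct_memQ : j2ct ∈ pgGrpW 315 j2cQC :=
  pgSiftW_sound (pgRigidTop 315) j2cQC j2cQchkR le_top _ _ (mem_top _) j2ct_rep j2cTQ

theorem j2cQ_conj {s : PFun} (hs : s ∈ j2pL2.own) :
    (∀ x ∈ pgGrpW 315 j2cQC, s.perm 315 * x * (s.perm 315)⁻¹ ∈ pgGrpW 315 j2cQC) ∧
    (∀ x ∈ pgGrpW 315 j2cQC, (s.perm 315)⁻¹ * x * s.perm 315 ∈ pgGrpW 315 j2cQC) := by
  have hsok : s.ok 315 = true := j2pok2 s hs
  have h1 := (pgAllL_iff _ _).1 j2cQnorm s hs
  rw [pgAllL_iff] at h1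
  constructor
  · have : pgGrpW 315 j2cQC ≤
        (pgGrpW 315 j2cQC).comap (MulAut.conj (s.perm 315)).toMonoidHom := by
      apply (closure_le _).2
      rintro x ⟨t, ht, rfl⟩
      have h2 := h1 t ht
      rw [Bool.and_eq_true] at h2
      have htok : t.ok 315 = true := j2cQok t ht
      rw [SetLike.mem_coe, mem_comap]
      refine pgSiftW_sound (pgRigidTop 315) j2cQC j2cQchkR le_top _ _ (mem_top _) ?_ h2.1
      exact PgRep.mul (PgRep.mul (PgRep.perm hsok) (PgRep.perm htok)) (PgRep.perm_inv hsok)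
    intro x hx
    exact this hx
  · have : pgGrpW 315 j2cQC ≤
        (pgGrpW 315 j2cQC).comap (MulAut.conj (s.perm 315)⁻¹).toMonoidHom := by
      apply (closure_le _).2
      rintro x ⟨t, ht, rfl⟩
      have h2 := h1 t ht
      rw [Bool.and_eq_true] at h2
      have htok : t.ok 315 = true := j2cQok t ht
      rw [SetLike.mem_coe, mem_comap]
      refine pgSiftW_sound (pgRigidTop 315) j2cQC j2cQchkR le_top _ _ (mem_top _) ?_ h2.2
      have := PgRep.mul (PgRep.mul (PgRep.perm_inv hsok) (PgRep.perm htok)) (PgRep.perm hsok)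
      intro p
      have e : (MulAut.conj (s.perm 315)⁻¹).toMonoidHom (t.perm 315) =
          (s.perm 315)⁻¹ * t.perm 315 * s.perm 315 := by
        simp
      rw [e]
      exact this p
    intro x hx
    have := this hx
    rw [mem_comap] at this
    simpa using this

theorem j2cQ_normalizer : pgGrpW 315 j2pC2 ≤ normalizer (pgGrpW 315 j2cQC) := by
  apply (closure_le _).2
  rintro x ⟨s, hs, rfl⟩
  obtain ⟨h1, h2⟩ := j2cQ_conj hs
  rw [SetLike.mem_coe, mem_normalizer_iff]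
  intro y
  constructor
  · exact h1 y
  · intro hy
    have := h2 _ hy
    have e : (s.perm 315)⁻¹ * (s.perm 315 * y * (s.perm 315)⁻¹) * s.perm 315 = y := by group
    rwa [e] at this

/-! ### The elements of the normal subgroup -/

theorem j2cQ_single : ∀ q ∈ pgGrpW 315 j2cQC, (q * q = 1 ∨ q * q = j2ct) ∧
    ((∀ r ∈ pgGrpW 315 j2cQC, q * r = r * q) → q = 1 ∨ q = j2ct) := by
  intro q hq
  obtain ⟨T, hT, ht⟩ := pgEnumM_tab (by norm_num : 315 ≤ 2 ^ 9) (pgRigidTop 315) j2cQchkR le_top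
    j2cTest1 j2cQtest1 q hq
  unfold j2cTest1 at ht
  rw [Bool.and_eq_true, Bool.or_eq_true, Bool.or_eq_true, Bool.or_eq_true] at ht
  obtain ⟨h1, h2⟩ := ht
  constructor
  · rcases h1 with h1 | h1
    · exact Or.inl ((pgEq_iff (PgRep.mul hT hT) PgRep.one).1 h1)
    · exact Or.inr ((pgEq_iff (PgRep.mul hT hT) j2ct_rep).1 h1)
  · intro hall
    rcases h2 with (h2 | h2) | h2
    · exact Or.inl ((pgEq_iff hT PgRep.one).1 h2)
    · exact Or.inr ((pgEq_iff hT j2ct_rep).1 h2)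
    · exfalso
      obtain ⟨s, hs, hs2⟩ := (pgAnyL_iff _ _).1 h2
      have hsok := j2cQok s hs
      have hsm : s.perm 315 ∈ pgGrpW 315 j2cQC := subset_closure ⟨s, hs, rfl⟩
      have := (pgEq_iff (PgRep.mul hT (PgRep.perm hsok)) (PgRep.mul (PgRep.perm hsok) hT)).2
        (hall _ hsm)
      rw [this] at hs2
      exact absurd hs2 (by decide)

theorem j2cQ_pair : ∀ q ∈ pgGrpW 315 j2cQC, ∀ r ∈ pgGrpW 315 j2cQC,
    (q * r = r * q ∨ q * r = j2ct * (r * q)) ∧
    (q * q = 1 → r * r = 1 → q * r = r * q →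
      q = 1 ∨ q = j2ct ∨ r = 1 ∨ r = j2ct ∨ r = q ∨ r = q * j2ct) := by
  intro q hq r hr
  obtain ⟨T, T', hT, hT', ht⟩ := pgEnumM_pairs (by norm_num : 315 ≤ 2 ^ 9) (pgRigidTop 315)
    j2cQchkR le_top j2cQchkR le_top j2cTest2 j2cQtest2 q hq r hr
  unfold j2cTest2 at ht
  rw [Bool.and_eq_true] at ht
  obtain ⟨h1, h2⟩ := ht
  constructor
  · rw [Bool.or_eq_true] at h1
    rcases h1 with h1 | h1
    · exact Or.inl ((pgEq_iff (PgRep.mul hT hT') (PgRep.mul hT' hT)).1 h1)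
    · exact Or.inr ((pgEq_iff (PgRep.mul hT hT')
        (PgRep.mul j2ct_rep (PgRep.mul hT' hT))).1 h1)
  · intro hqq hrr hqr
    rw [Bool.or_eq_true] at h2
    rcases h2 with h2 | h2
    · exfalso
      have e1 := (pgEq_iff (PgRep.mul hT hT) PgRep.one).2 hqq
      have e2 := (pgEq_iff (PgRep.mul hT' hT') PgRep.one).2 hrr
      have e3 := (pgEq_iff (PgRep.mul hT hT') (PgRep.mul hT' hT)).2 hqr
      rw [e1, e2, e3] at h2
      exact absurd h2 (by decide)
    · simp only [Bool.or_eq_true] at h2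
      rcases h2 with ((((h2 | h2) | h2) | h2) | h2) | h2
      · exact Or.inl ((pgEq_iff hT PgRep.one).1 h2)
      · exact Or.inr (Or.inl ((pgEq_iff hT j2ct_rep).1 h2))
      · exact Or.inr (Or.inr (Or.inl ((pgEq_iff hT' PgRep.one).1 h2)))
      · exact Or.inr (Or.inr (Or.inr (Or.inl ((pgEq_iff hT' j2ct_rep).1 h2))))
      · exact Or.inr (Or.inr (Or.inr (Or.inr (Or.inl ((pgEq_iff hT' hT).1 h2)))))
      · exact Or.inr (Or.inr (Or.inr (Or.inr (Or.inr
          ((pgEq_iff hT' (PgRep.mul hT j2ct_rep)).1 h2)))))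

theorem j2cQ_nab : ∃ q ∈ pgGrpW 315 j2cQC, ∃ r ∈ pgGrpW 315 j2cQC, q * r ≠ r * q := by
  obtain ⟨s, hs, h1⟩ := (pgAnyL_iff _ _).1 j2cQnab
  obtain ⟨t, ht, h2⟩ := (pgAnyL_iff _ _).1 h1
  refine ⟨s.perm 315, subset_closure ⟨s, hs, rfl⟩, t.perm 315, subset_closure ⟨t, ht, rfl⟩, ?_⟩
  intro h
  have := (pgEq_iff (PgRep.mul (PgRep.perm (j2cQok s hs)) (PgRep.perm (j2cQok t ht)))
    (PgRep.mul (PgRep.perm (j2cQok t ht)) (PgRep.perm (j2cQok s hs)))).2 h
  rw [this] at h2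
  exact absurd h2 (by decide)

/-! ### The elements of orders 3 and 5 -/

/-- the element of order 3 -/
def j2cx : Equiv.Perm (Fin 315) := (j2pgen j2cX j2cXi).perm 315

/-- the element of order 5 -/
def j2cy : Equiv.Perm (Fin 315) := (j2pgen j2cY j2cYi).perm 315

theorem j2cXok : (j2pgen j2cX j2cXi).ok 315 = true := by
  have := j2cXYok
  rw [Bool.and_eq_true] at this
  exact this.1

theorem j2cYok : (j2pgen j2cY j2cYi).ok 315 = true := by
  have := j2cXYok
  rw [Bool.and_eq_true] at this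
  exact this.2

theorem j2cx_rep : PgRep (j2plk j2cX) j2cx := PgRep.perm j2cXok

theorem j2cy_rep : PgRep (j2plk j2cY) j2cy := PgRep.perm j2cYok

theorem j2cx_mem2 : j2cx ∈ pgGrpW 315 j2pC2 := by
  have := j2cXYsift
  rw [Bool.and_eq_true] at this
  exact pgSift_mem (pgRigidTop 315) j2pchkC2 le_top j2cXok (mem_top _) this.1

theorem j2cy_mem2 : j2cy ∈ pgGrpW 315 j2pC2 := by
  have := j2cXYsift
  rw [Bool.and_eq_true] at this
  exact pgSift_mem (pgRigidTop 315) j2pchkC2 le_top j2cYok (mem_top _) this.2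

theorem j2cx_pow : j2cx ^ 3 = 1 := by
  have h : j2cx * (j2cx * j2cx) = 1 :=
    (pgEq_iff (PgRep.mul j2cx_rep (PgRep.mul j2cx_rep j2cx_rep)) PgRep.one).1 j2cX3
  rw [pow_three]
  exact h

theorem j2cy_pow : j2cy ^ 5 = 1 := by
  have h : j2cy * (j2cy * (j2cy * (j2cy * j2cy))) = 1 :=
    (pgEq_iff (PgRep.mul j2cy_rep (PgRep.mul j2cy_rep (PgRep.mul j2cy_rep
      (PgRep.mul j2cy_rep j2cy_rep)))) PgRep.one).1 j2cY5
  calc j2cy ^ 5 = j2cy * j2cy ^ 4 := pow_succ' j2cy 4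
    _ = j2cy * (j2cy * j2cy ^ 3) := by rw [pow_succ' j2cy 3]
    _ = j2cy * (j2cy * (j2cy * (j2cy * j2cy))) := by rw [pow_three]
    _ = 1 := h

theorem j2cxy_pow : (j2cx * j2cy) ^ 2 = 1 := by
  have h : j2cx * (j2cy * (j2cx * j2cy)) = 1 :=
    (pgEq_iff (PgRep.mul j2cx_rep (PgRep.mul j2cy_rep (PgRep.mul j2cx_rep j2cy_rep)))
      PgRep.one).1 j2cXY2
  rw [pow_two, mul_assoc]
  exact h

theorem j2cx_ne : j2cx ≠ 1 := by
  intro h
  have h1 := j2cx_rep (4 : Fin 315)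
  rw [h] at h1
  have h2 := j2cXne
  have h3 : j2plk j2cX 4 = 4 := h1
  rw [h3] at h2
  exact absurd h2 (by decide)

/-! ### The shape of the centraliser -/

/-- the involution as an element of the group of the chain -/
def j2ctG : ↥(pgGrpW 315 j2pC) := ⟨j2ct, j2ct_mem⟩

theorem j2c_mem_cent {c : ↥(pgGrpW 315 j2pC)} :
    c ∈ centralizer ({j2ctG} : Set ↥(pgGrpW 315 j2pC)) ↔ c.1 ∈ pgGrpW 315 j2pC2 := by
  rw [mem_centralizer_iff]
  constructor
  · intro h
    have h1 := h j2ctG rfl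
    have h2 : j2ct * c.1 = c.1 * j2ct := congrArg Subtype.val h1
    exact j2cCentStab c.1 c.2 h2.symm
  · intro h y hy
    rw [Set.mem_singleton_iff] at hy
    subst hy
    exact Subtype.ext (j2cC2comm c.1 h).symm

theorem j2c_cent_eq : centralizer ({j2ctG} : Set ↥(pgGrpW 315 j2pC)) =
    (pgGrpW 315 j2pC2).subgroupOf (pgGrpW 315 j2pC) := by
  ext c
  rw [j2c_mem_cent, mem_subgroupOf]

theorem j2c_cent_card : Nat.card ↥(centralizer ({j2ctG} : Set ↥(pgGrpW 315 j2pC))) = 1920 := by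
  rw [j2c_cent_eq, Nat.card_congr (subgroupOfEquivOfLe j2pC2le).toEquiv, j2pC2card]

theorem j2c_shape_chain : CentShape j2ctG := by
  have hfin : Finite ↥(pgGrpW 315 j2pC) := inferInstance
  obtain ⟨Q', hQ'n, hxs, hcard, -, -, hiso⟩ := Cfsg.Agent.Lib.helper4.cent_shape j2ctG
    ((pgGrpW 315 j2cQC).subgroupOf (pgGrpW 315 j2pC))
    (by
      intro q hq
      rw [j2c_mem_cent]
      exact j2cQle2 (mem_subgroupOf.1 hq))
    (by
      intro c hc q hq
      rw [mem_subgroupOf] at hq ⊢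
      have hc2 := j2c_mem_cent.1 hc
      have := (mem_normalizer_iff.1 (j2cQ_normalizer hc2) q.1).1 hq
      simpa using this)
    (mem_subgroupOf.2 j2ct_memQ)
    (fun h => j2ct_ne (congrArg Subtype.val h))
    (Subtype.ext j2ct_sq)
    (by
      intro q hq hall
      rw [mem_subgroupOf] at hq
      have := (j2cQ_single q.1 hq).2 (fun r hr => by
        have := hall ⟨r, j2cQle hr⟩ (mem_subgroupOf.2 hr)
        exact congrArg Subtype.val this)
      rcases this with h | h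
      · exact Or.inl (Subtype.ext h)
      · exact Or.inr (Subtype.ext h))
    (by
      intro q hq r hr
      rw [mem_subgroupOf] at hq hr
      rcases (j2cQ_pair q.1 hq r.1 hr).1 with h | h
      · exact Or.inl (Subtype.ext h)
      · exact Or.inr (Subtype.ext h))
    (by
      intro q hq
      rw [mem_subgroupOf] at hq
      rcases (j2cQ_single q.1 hq).1 with h | h
      · exact Or.inl (Subtype.ext h)
      · exact Or.inr (Subtype.ext h))
    (by
      obtain ⟨q, hq, r, hr, hne⟩ := j2cQ_nab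
      exact ⟨⟨q, j2cQle hq⟩, mem_subgroupOf.2 hq, ⟨r, j2cQle hr⟩, mem_subgroupOf.2 hr,
        fun h => hne (congrArg Subtype.val h)⟩)
    ((Nat.card_congr (subgroupOfEquivOfLe j2cQle).toEquiv).trans j2cQcard)
    (by
      intro q hq r hr hqq hrr hqr
      rw [mem_subgroupOf] at hq hr
      have := (j2cQ_pair q.1 hq r.1 hr).2 (congrArg Subtype.val hqq) (congrArg Subtype.val hrr)
        (congrArg Subtype.val hqr)
      rcases this with h | h | h | h | h | h
      · exact Or.inl (Subtype.ext h)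
      · exact Or.inr (Or.inl (Subtype.ext h))
      · exact Or.inr (Or.inr (Or.inl (Subtype.ext h)))
      · exact Or.inr (Or.inr (Or.inr (Or.inl (Subtype.ext h))))
      · exact Or.inr (Or.inr (Or.inr (Or.inr (Or.inl (Subtype.ext h)))))
      · exact Or.inr (Or.inr (Or.inr (Or.inr (Or.inr (Subtype.ext h))))))
    ⟨j2cx, j2pC2le j2cx_mem2⟩ ⟨j2cy, j2pC2le j2cy_mem2⟩
    (j2c_mem_cent.2 j2cx_mem2) (j2c_mem_cent.2 j2cy_mem2)
    (Subtype.ext (by rw [Subgroup.coe_pow]; exact j2cx_pow))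
    (Subtype.ext (by rw [Subgroup.coe_pow]; exact j2cy_pow))
    (Subtype.ext (by rw [Subgroup.coe_pow]; exact j2cxy_pow))
    (fun h => j2cx_ne (congrArg Subtype.val h))
    j2c_cent_card
  exact ⟨Q', hQ'n, hcard, hxs, hiso⟩

/-! ### Transport to the generators of `P315` -/

/-- the first generator as an element of `P315` -/
def piG0 : ↥P315 := ⟨piG 0, subset_closure (Set.mem_range_self 0)⟩

theorem P315_shape0 : CentShape piG0 := by
  let e : ↥(pgGrpW 315 j2pC) ≃* ↥P315 := MulEquiv.subgroupCongr P315_eq.symm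
  have h1 : CentShape (e j2ctG) := j2c_shape_chain.map e
  let c : ↥P315 := e ⟨j2cg, j2cg_mem⟩
  have h2 : e j2ctG = c * piG0 * c⁻¹ := by
    apply Subtype.ext
    change j2ct = j2cg * piG 0 * j2cg⁻¹
    exact j2ct_eq
  rw [h2] at h1
  have h3 := h1.conj c⁻¹
  have h4 : c⁻¹ * (c * piG0 * c⁻¹) * c⁻¹⁻¹ = piG0 := by group
  rwa [h4] at h3

/-- every conjugate of the first generator of `P315` has a centraliser of the shape
`2^{1+4} . A5` -/
theorem P315_shape (c : ↥P315) : CentShape (c * piG0 * c⁻¹) := P315_shape0.conj c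

end Cfsg.Agent.Lib.helper23
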