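import Cfsg.Agent.Lib.helper23.J2hData
import Cfsg.Agent.Lib.helper23.PgX

set_option autoImplicit false
set_option maxRecDepth 1000000
set_option Elab.async false

/-!
# The Hall–Janko group on 315 + 100 points: the checks of the stabiliser chain
-/

namespace Cfsg.Agent.Lib.helper23

open Subgroup MulAction

theorem j2hchk0x4 : pgChkLvlW0 415 j2hL4 [] = true := by decide +kernel
theorem j2hchk0x3 : pgChkLvlW0 415 j2hL3 [j2hL4] = true := by decide +kernel
theorem j2hchk0x2 : pgChkLvlW0 415 j2hL2 [j2hL3, j2hL4] = true := by decide +kernel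
theorem j2hchk0x1 : pgChkLvlW0 415 j2hL1 [j2hL2, j2hL3, j2hL4] = true := by decide +kernel

theorem j2hcl4x0 : pgChkGenW 415 (List.range 415) j2hL4 []
    (j2hgen j2hT4x0 j2hI4x0) 0 415 = true := by
  decide +kernel
theorem j2hcl4x1 : pgChkGenW 415 (List.range 415) j2hL4 []
    (j2hgen j2hT4x1 j2hI4x1) 0 415 = true := by
  decide +kernel
theorem j2hcl3x0 : pgChkGenW 415 (List.range 415) j2hL3 [j2hL4]
    (j2hgen j2hT3x0 j2hI3x0) 0 415 = true := by
  decide +kernel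
theorem j2hcl3x1 : pgChkGenW 415 (List.range 415) j2hL3 [j2hL4]
    (j2hgen j2hT3x1 j2hI3x1) 0 415 = true := by
  decide +kernel
theorem j2hcl2x0 : pgChkGenW 415 (List.range 415) j2hL2 [j2hL3, j2hL4]
    (j2hgen j2hT2x0 j2hI2x0) 0 415 = true := by
  decide +kernel
theorem j2hcl2x1 : pgChkGenW 415 (List.range 415) j2hL2 [j2hL3, j2hL4]
    (j2hgen j2hT2x1 j2hI2x1) 0 415 = true := by
  decide +kernel
theorem j2hcl1x0 : pgChkGenW 415 (List.range 415) j2hL1 [j2hL2, j2hL3, j2hL4]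
    (j2hgen j2hT1x0 j2hI1x0) 0 415 = true := by
  decide +kernel
theorem j2hcl1x1 : pgChkGenW 415 (List.range 415) j2hL1 [j2hL2, j2hL3, j2hL4]
    (j2hgen j2hT1x1 j2hI1x1) 0 415 = true := by
  decide +kernel
theorem j2hcl1x2 : pgChkGenW 415 (List.range 415) j2hL1 [j2hL2, j2hL3, j2hL4]
    (j2hgen j2hT1x2 j2hI1x2) 0 415 = true := by
  decide +kernel
theorem j2hcl1x3 : pgChkGenW 415 (List.range 415) j2hL1 [j2hL2, j2hL3, j2hL4]
    (j2hgen j2hT1x3 j2hI1x3) 0 415 = true := by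
  decide +kernel

theorem j2hchkL4 : pgChkLvlW 415 (List.range 415) j2hL4 [] = true := by
  apply pgChkLvlW_ofAllX j2hchk0x4
  intro s hs
  change s ∈ [j2hgen j2hT4x0 j2hI4x0, j2hgen j2hT4x1 j2hI4x1] at hs
  simp only [List.mem_cons, List.not_mem_nil, or_false] at hs
  rcases hs with rfl | rfl
  · exact j2hcl4x0
  · exact j2hcl4x1

theorem j2hchkL3 : pgChkLvlW 415 (List.range 415) j2hL3 [j2hL4] = true := by
  apply pgChkLvlW_ofAllX j2hchk0x3
  intro s hs
  change s ∈ [j2hgen j2hT3x0 j2hI3x0, j2hgen j2hT3x1 j2hI3x1] at hs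
  simp only [List.mem_cons, List.not_mem_nil, or_false] at hs
  rcases hs with rfl | rfl
  · exact j2hcl3x0
  · exact j2hcl3x1

theorem j2hchkL2 : pgChkLvlW 415 (List.range 415) j2hL2 [j2hL3, j2hL4] = true := by
  apply pgChkLvlW_ofAllX j2hchk0x2
  intro s hs
  change s ∈ [j2hgen j2hT2x0 j2hI2x0, j2hgen j2hT2x1 j2hI2x1] at hs
  simp only [List.mem_cons, List.not_mem_nil, or_false] at hs
  rcases hs with rfl | rfl
  · exact j2hcl2x0
  · exact j2hcl2x1

theorem j2hchkL1 : pgChkLvlW 415 (List.range 415) j2hL1 [j2hL2, j2hL3, j2hL4] = true := by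
  apply pgChkLvlW_ofAllX j2hchk0x1
  intro s hs
  change s ∈ [j2hgen j2hT1x0 j2hI1x0, j2hgen j2hT1x1 j2hI1x1, j2hgen j2hT1x2 j2hI1x2, j2hgen j2hT1x3 j2hI1x3] at hs
  simp only [List.mem_cons, List.not_mem_nil, or_false] at hs
  rcases hs with rfl | rfl | rfl | rfl
  · exact j2hcl1x0
  · exact j2hcl1x1
  · exact j2hcl1x2
  · exact j2hcl1x3

/-- the stabiliser chain -/
def j2hC : List PgLvlW := [j2hL1, j2hL2, j2hL3, j2hL4]

theorem j2hchkC : pgChkW 415 (pgRigidAll 415).base j2hC = true := by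
  change pgChkW 415 (List.range 415) [j2hL1, j2hL2, j2hL3, j2hL4] = true
  rw [pgChkW_cons, pgChkW_cons, pgChkW_cons, pgChkW_cons, j2hchkL1, j2hchkL2, j2hchkL3, j2hchkL4]
  rfl

end Cfsg.Agent.Lib.helper23
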