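import Cfsg.Agent.Lib.helper23.J2pMain
import Cfsg.Agent.Lib.helper23.J2oData
import Cfsg.Agent.Lib.helper23.PgS

set_option autoImplicit false
set_option maxRecDepth 1000000
set_option Elab.async false

/-!
# The Hall–Janko group on 315 points: the checks for the element orders
-/

namespace Cfsg.Agent.Lib.helper23

/-- the exponents -/
def j2pKs : List ℕ := [7, 8, 10, 12, 15]

/-! ### Centralisers of the representatives -/

theorem j2pcent7A_0 : pgEnumPiece 315 9 (pgCentPrune (j2plk j2pR7A))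
    (pgCentTest 315 9 (j2plk j2pR7A) j2pKs) j2pL1 j2pC2 2 0 315 = true := by decide +kernel

theorem j2pcent7A : pgEnumM 315 9 (pgCentPrune (j2plk j2pR7A))
    (pgCentTest 315 9 (j2plk j2pR7A) j2pKs) j2pC 2 (fun p => p) [] = true := by
  apply pgEnumM_of_pieces
  intro z hz
  exact pgEnumPiece_spec j2pcent7A_0 z (by omega) (by omega)

theorem j2pcent3B_0 : pgEnumPiece 315 9 (pgCentPrune (j2plk j2pR3B))
    (pgCentTest 315 9 (j2plk j2pR3B) j2pKs) j2pL1 j2pC2 2 0 315 = true := by decide +kernel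

theorem j2pcent3B : pgEnumM 315 9 (pgCentPrune (j2plk j2pR3B))
    (pgCentTest 315 9 (j2plk j2pR3B) j2pKs) j2pC 2 (fun p => p) [] = true := by
  apply pgEnumM_of_pieces
  intro z hz
  exact pgEnumPiece_spec j2pcent3B_0 z (by omega) (by omega)

theorem j2pcent5C_0 : pgEnumPiece 315 9 (pgCentPrune (j2plk j2pR5C))
    (pgCentTest 315 9 (j2plk j2pR5C) j2pKs) j2pL1 j2pC2 2 0 315 = true := by decide +kernel

theorem j2pcent5C : pgEnumM 315 9 (pgCentPrune (j2plk j2pR5C))
    (pgCentTest 315 9 (j2plk j2pR5C) j2pKs) j2pC 2 (fun p => p) [] = true := by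
  apply pgEnumM_of_pieces
  intro z hz
  exact pgEnumPiece_spec j2pcent5C_0 z (by omega) (by omega)

theorem j2pcent5A_0 : pgEnumPiece 315 9 (pgCentPrune (j2plk j2pR5A))
    (pgCentTest 315 9 (j2plk j2pR5A) j2pKs) j2pL1 j2pC2 2 0 105 = true := by decide +kernel

theorem j2pcent5A_1 : pgEnumPiece 315 9 (pgCentPrune (j2plk j2pR5A))
    (pgCentTest 315 9 (j2plk j2pR5A) j2pKs) j2pL1 j2pC2 2 105 105 = true := by decide +kernel

theorem j2pcent5A_2 : pgEnumPiece 315 9 (pgCentPrune (j2plk j2pR5A))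
    (pgCentTest 315 9 (j2plk j2pR5A) j2pKs) j2pL1 j2pC2 2 210 105 = true := by decide +kernel

theorem j2pcent5A : pgEnumM 315 9 (pgCentPrune (j2plk j2pR5A))
    (pgCentTest 315 9 (j2plk j2pR5A) j2pKs) j2pC 2 (fun p => p) [] = true := by
  apply pgEnumM_of_pieces
  intro z hz
  by_cases h0 : z < 105
  · exact pgEnumPiece_spec j2pcent5A_0 z (by omega) (by omega)
  by_cases h1 : z < 210
  · exact pgEnumPiece_spec j2pcent5A_1 z (by omega) (by omega)
  exact pgEnumPiece_spec j2pcent5A_2 z (by omega) (by omega)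

theorem j2pcent3A_0 : pgEnumPiece 315 9 (pgCentPrune (j2plk j2pR3A))
    (pgCentTest 315 9 (j2plk j2pR3A) j2pKs) j2pL1 j2pC2 2 0 40 = true := by decide +kernel

theorem j2pcent3A_1 : pgEnumPiece 315 9 (pgCentPrune (j2plk j2pR3A))
    (pgCentTest 315 9 (j2plk j2pR3A) j2pKs) j2pL1 j2pC2 2 40 40 = true := by decide +kernel

theorem j2pcent3A_2 : pgEnumPiece 315 9 (pgCentPrune (j2plk j2pR3A))
    (pgCentTest 315 9 (j2plk j2pR3A) j2pKs) j2pL1 j2pC2 2 80 40 = true := by decide +kernel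

theorem j2pcent3A_3 : pgEnumPiece 315 9 (pgCentPrune (j2plk j2pR3A))
    (pgCentTest 315 9 (j2plk j2pR3A) j2pKs) j2pL1 j2pC2 2 120 40 = true := by decide +kernel

theorem j2pcent3A_4 : pgEnumPiece 315 9 (pgCentPrune (j2plk j2pR3A))
    (pgCentTest 315 9 (j2plk j2pR3A) j2pKs) j2pL1 j2pC2 2 160 40 = true := by decide +kernel

theorem j2pcent3A_5 : pgEnumPiece 315 9 (pgCentPrune (j2plk j2pR3A))
    (pgCentTest 315 9 (j2plk j2pR3A) j2pKs) j2pL1 j2pC2 2 200 40 = true := by decide +kernel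

theorem j2pcent3A_6 : pgEnumPiece 315 9 (pgCentPrune (j2plk j2pR3A))
    (pgCentTest 315 9 (j2plk j2pR3A) j2pKs) j2pL1 j2pC2 2 240 40 = true := by decide +kernel

theorem j2pcent3A_7 : pgEnumPiece 315 9 (pgCentPrune (j2plk j2pR3A))
    (pgCentTest 315 9 (j2plk j2pR3A) j2pKs) j2pL1 j2pC2 2 280 35 = true := by decide +kernel

theorem j2pcent3A : pgEnumM 315 9 (pgCentPrune (j2plk j2pR3A))
    (pgCentTest 315 9 (j2plk j2pR3A) j2pKs) j2pC 2 (fun p => p) [] = true := by
  apply pgEnumM_of_pieces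
  intro z hz
  by_cases h0 : z < 40
  · exact pgEnumPiece_spec j2pcent3A_0 z (by omega) (by omega)
  by_cases h1 : z < 80
  · exact pgEnumPiece_spec j2pcent3A_1 z (by omega) (by omega)
  by_cases h2 : z < 120
  · exact pgEnumPiece_spec j2pcent3A_2 z (by omega) (by omega)
  by_cases h3 : z < 160
  · exact pgEnumPiece_spec j2pcent3A_3 z (by omega) (by omega)
  by_cases h4 : z < 200
  · exact pgEnumPiece_spec j2pcent3A_4 z (by omega) (by omega)
  by_cases h5 : z < 240
  · exact pgEnumPiece_spec j2pcent3A_5 z (by omega) (by omega)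
  by_cases h6 : z < 280
  · exact pgEnumPiece_spec j2pcent3A_6 z (by omega) (by omega)
  exact pgEnumPiece_spec j2pcent3A_7 z (by omega) (by omega)

end Cfsg.Agent.Lib.helper23
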