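import Cfsg.Agent.Lib.helper23.J3Chk1x0p0
import Cfsg.Agent.Lib.helper23.J3Chk1x0p1

set_option autoImplicit false
set_option maxRecDepth 1000000

namespace Cfsg.Agent.Lib.helper23

theorem j3cl1x0 : pgChkGenW 6156 j3base j3L1 [j3L2, j3L3]
    (j3gen j3T1x0 j3I1x0) 0 6156 = true :=
  pgChkGenW_append (lo := 0) (c1 := 5643) (c2 := 513) (pgChkGenW_append (lo := 0) (c1 := 5130) (c2 := 513) (pgChkGenW_append (lo := 0) (c1 := 4617) (c2 := 513) (pgChkGenW_append (lo := 0) (c1 := 4104) (c2 := 513) (pgChkGenW_append (lo := 0) (c1 := 3591) (c2 := 513) (pgChkGenW_append (lo := 0) (c1 := 3078) (c2 := 513) (pgChkGenW_append (lo := 0) (c1 := 2565) (c2 := 513) (pgChkGenW_append (lo := 0) (c1 := 2052) (c2 := 513) (pgChkGenW_append (lo := 0) (c1 := 1539) (c2 := 513) (pgChkGenW_append (lo := 0) (c1 := 1026) (c2 := 513) (pgChkGenW_append (lo := 0) (c1 := 513) (c2 := 513) (j3cl1x0c0) j3cl1x0c513) j3cl1x0c1026)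 j3cl1x0c1539) j3cl1x0c2052) j3cl1x0c2565) j3cl1x0c3078) j3cl1x0c3591) j3cl1x0c4104) j3cl1x0c4617) j3cl1x0c5130) j3cl1x0c5643

end Cfsg.Agent.Lib.helper23
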