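import Cfsg.Agent.Lib.helper23.J3Data

set_option autoImplicit false
set_option maxRecDepth 1000000

namespace Cfsg.Agent.Lib.helper23

theorem j3cl1x1c0 : pgChkGenW 6156 j3base j3L1 [j3L2, j3L3]
    (j3gen j3T1x1 j3I1x1) 0 513 = true := by decide +kernel

theorem j3cl1x1c513 : pgChkGenW 6156 j3base j3L1 [j3L2, j3L3]
    (j3gen j3T1x1 j3I1x1) 513 513 = true := by decide +kernel

theorem j3cl1x1c1026 : pgChkGenW 6156 j3base j3L1 [j3L2, j3L3]
    (j3gen j3T1x1 j3I1x1) 1026 513 = true := by decide +kernel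

theorem j3cl1x1c1539 : pgChkGenW 6156 j3base j3L1 [j3L2, j3L3]
    (j3gen j3T1x1 j3I1x1) 1539 513 = true := by decide +kernel

theorem j3cl1x1c2052 : pgChkGenW 6156 j3base j3L1 [j3L2, j3L3]
    (j3gen j3T1x1 j3I1x1) 2052 513 = true := by decide +kernel

theorem j3cl1x1c2565 : pgChkGenW 6156 j3base j3L1 [j3L2, j3L3]
    (j3gen j3T1x1 j3I1x1) 2565 513 = true := by decide +kernel


end Cfsg.Agent.Lib.helper23
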