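import Cfsg.Agent.Lib.helper23.J3Chk2x1p0

set_option autoImplicit false
set_option maxRecDepth 1000000

namespace Cfsg.Agent.Lib.helper23

theorem j3cl2x1 : pgChkGenW 6156 j3base j3L2 [j3L3]
    (j3gen j3T2x1 j3I2x1) 0 6156 = true :=
  pgChkGenW_append (lo := 0) (c1 := 5130) (c2 := 1026) (pgChkGenW_append (lo := 0) (c1 := 4104) (c2 := 1026) (pgChkGenW_append (lo := 0) (c1 := 3078) (c2 := 1026) (pgChkGenW_append (lo := 0) (c1 := 2052) (c2 := 1026) (pgChkGenW_append (lo := 0) (c1 := 1026) (c2 := 1026) (j3cl2x1c0) j3cl2x1c1026) j3cl2x1c2052) j3cl2x1c3078) j3cl2x1c4104) j3cl2x1c5130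

end Cfsg.Agent.Lib.helper23
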