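import Cfsg.Agent.Lib.helper23.J3Data

set_option autoImplicit false
set_option maxRecDepth 1000000

namespace Cfsg.Agent.Lib.helper23

theorem j3cl2x1c0 : pgChkGenW 6156 j3base j3L2 [j3L3]
    (j3gen j3T2x1 j3I2x1) 0 1026 = true := by decide +kernel

theorem j3cl2x1c1026 : pgChkGenW 6156 j3base j3L2 [j3L3]
    (j3gen j3T2x1 j3I2x1) 1026 1026 = true := by decide +kernel

theorem j3cl2x1c2052 : pgChkGenW 6156 j3base j3L2 [j3L3]
    (j3gen j3T2x1 j3I2x1) 2052 1026 = true := by decide +kernel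

theorem j3cl2x1c3078 : pgChkGenW 6156 j3base j3L2 [j3L3]
    (j3gen j3T2x1 j3I2x1) 3078 1026 = true := by decide +kernel

theorem j3cl2x1c4104 : pgChkGenW 6156 j3base j3L2 [j3L3]
    (j3gen j3T2x1 j3I2x1) 4104 1026 = true := by decide +kernel

theorem j3cl2x1c5130 : pgChkGenW 6156 j3base j3L2 [j3L3]
    (j3gen j3T2x1 j3I2x1) 5130 1026 = true := by decide +kernel


end Cfsg.Agent.Lib.helper23
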