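import Cfsg.Agent.Lib.helper23.J3Data
import Cfsg.Agent.Lib.helper23.J3Graph

set_option autoImplicit false
set_option maxRecDepth 1000000

namespace Cfsg.Agent.Lib.helper23

theorem j3GrG1c0 : pgChkGraphFunR j3nb (j3lk j3I1x1) 0 1026 = true := by decide +kernel

theorem j3GrG1c1026 : pgChkGraphFunR j3nb (j3lk j3I1x1) 1026 1026 = true := by decide +kernel

theorem j3GrG1c2052 : pgChkGraphFunR j3nb (j3lk j3I1x1) 2052 1026 = true := by decide +kernel

theorem j3GrG1c3078 : pgChkGraphFunR j3nb (j3lk j3I1x1) 3078 1026 = true := by decide +kernel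

theorem j3GrG1c4104 : pgChkGraphFunR j3nb (j3lk j3I1x1) 4104 1026 = true := by decide +kernel

theorem j3GrG1c5130 : pgChkGraphFunR j3nb (j3lk j3I1x1) 5130 1026 = true := by decide +kernel

theorem j3GrG1 : pgChkGraphFun 6156 j3nb (j3lk j3I1x1) = true :=
  pgChkGraphFunR_append (lo := 0) (c1 := 5130) (c2 := 1026) (pgChkGraphFunR_append (lo := 0) (c1 := 4104) (c2 := 1026) (pgChkGraphFunR_append (lo := 0) (c1 := 3078) (c2 := 1026) (pgChkGraphFunR_append (lo := 0) (c1 := 2052) (c2 := 1026) (pgChkGraphFunR_append (lo := 0) (c1 := 1026) (c2 := 1026) (j3GrG1c0) j3GrG1c1026) j3GrG1c2052) j3GrG1c3078) j3GrG1c4104) j3GrG1c5130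

end Cfsg.Agent.Lib.helper23
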