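import Cfsg.Agent.Lib.helper23.J3Graph

set_option autoImplicit false
set_option maxRecDepth 1000000

namespace Cfsg.Agent.Lib.helper23

theorem j3rig1 : pgRigRun 6156 j3nb (pgUnpack 14) j3st1 (fun m => Nat.beq m j3mk1) j3mk0 = true := by
  decide +kernel

theorem j3rig2 : pgRigRun 6156 j3nb (pgUnpack 14) j3st2 (fun m => Nat.beq m j3mk2) j3mk1 = true := by
  decide +kernel

theorem j3rig3 : pgRigRun 6156 j3nb (pgUnpack 14) j3st3 (fun m => Nat.beq m j3mk3) j3mk2 = true := by
  decide +kernel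

theorem j3rig4 : pgRigRun 6156 j3nb (pgUnpack 14) j3st4 (fun m => Nat.beq m j3mk4) j3mk3 = true := by
  decide +kernel

theorem j3rig5 : pgRigRun 6156 j3nb (pgUnpack 14) j3st5 (fun m => Nat.beq m j3mk5) j3mk4 = true := by
  decide +kernel

theorem j3rig6 : pgRigRun 6156 j3nb (pgUnpack 14) j3st6 (fun m => Nat.beq m j3mk6) j3mk5 = true := by
  decide +kernel

theorem j3rig7 : pgRigRun 6156 j3nb (pgUnpack 14) j3st7 (fun m => Nat.beq m j3mk7) j3mk6 = true := by
  decide +kernel


end Cfsg.Agent.Lib.helper23
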