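import Cfsg.Agent.Lib.helper23.J3Graph

set_option autoImplicit false
set_option maxRecDepth 1000000

namespace Cfsg.Agent.Lib.helper23

theorem j3rig8 : pgRigRun 6156 j3nb (pgUnpack 14) j3st8 (fun m => Nat.beq m j3mk8) j3mk7 = true := by
  decide +kernel

theorem j3rig9 : pgRigRun 6156 j3nb (pgUnpack 14) j3st9 (fun m => Nat.beq m j3mk9) j3mk8 = true := by
  decide +kernel

theorem j3rig10 : pgRigRun 6156 j3nb (pgUnpack 14) j3st10 (fun m => Nat.beq m j3mk10) j3mk9 = true := by
  decide +kernel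

theorem j3rig11 : pgRigRun 6156 j3nb (pgUnpack 14) j3st11 (fun m => Nat.beq m j3mk11) j3mk10 = true := by
  decide +kernel

theorem j3rig12 : pgRigRun 6156 j3nb (pgUnpack 14) j3st12 (fun m => Nat.beq m j3mk12) j3mk11 = true := by
  decide +kernel

theorem j3rig13 : pgRigRun 6156 j3nb (pgUnpack 14) j3st13 (fun m => Nat.beq m j3mk13) j3mk12 = true := by
  decide +kernel

theorem j3rig14 : pgRigRun 6156 j3nb (pgUnpack 14) j3st14 (fun m => Nat.beq m j3mk14) j3mk13 = true := by
  decide +kernel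


end Cfsg.Agent.Lib.helper23
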