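import Cfsg.Agent.Lib.helper23.J3Graph

set_option autoImplicit false
set_option maxRecDepth 1000000

namespace Cfsg.Agent.Lib.helper23

theorem j3rig15 : pgRigRun 6156 j3nb (pgUnpack 14) j3st15 (fun m => Nat.beq m j3mk15) j3mk14 = true := by
  decide +kernel

theorem j3rig16 : pgRigRun 6156 j3nb (pgUnpack 14) j3st16 (fun m => Nat.beq m j3mk16) j3mk15 = true := by
  decide +kernel

theorem j3rig17 : pgRigRun 6156 j3nb (pgUnpack 14) j3st17 (fun m => Nat.beq m j3mk17) j3mk16 = true := by
  decide +kernel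

theorem j3rig18 : pgRigRun 6156 j3nb (pgUnpack 14) j3st18 (fun m => Nat.beq m j3mk18) j3mk17 = true := by
  decide +kernel

theorem j3rig19 : pgRigRun 6156 j3nb (pgUnpack 14) j3st19 (fun m => Nat.beq m j3mk19) j3mk18 = true := by
  decide +kernel

theorem j3rig20 : pgRigRun 6156 j3nb (pgUnpack 14) j3st20 (fun m => Nat.beq m j3mk20) j3mk19 = true := by
  decide +kernel

theorem j3rig21 : pgRigRun 6156 j3nb (pgUnpack 14) j3st21 (fun m => Nat.beq m j3mk21) j3mk20 = true := by
  decide +kernel


end Cfsg.Agent.Lib.helper23
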