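import Cfsg.Agent.Lib.helper23.J3Data
import Cfsg.Agent.Lib.helper23.J3ChkR0
import Cfsg.Agent.Lib.helper23.J3ChkR1
import Cfsg.Agent.Lib.helper23.J3ChkR2
import Cfsg.Agent.Lib.helper23.J3ChkGF0
import Cfsg.Agent.Lib.helper23.J3ChkGG0
import Cfsg.Agent.Lib.helper23.J3ChkGF1
import Cfsg.Agent.Lib.helper23.J3ChkGG1

set_option autoImplicit false
set_option maxRecDepth 1000000

namespace Cfsg.Agent.Lib.helper23

theorem j3baseok : pgAllL j3base (fun β => Nat.blt β 6156) = true := by decide +kernel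

theorem j3mk0eq : pgMask j3base = j3mk0 := by decide +kernel

theorem j3mkall : pgAll 6156 (fun x => pgBit j3mk21 x) = true := by decide +kernel

theorem j3rigid : ∀ g ∈ pgGraphGrp 6156 j3nb,
    (∀ β ∈ j3base, ∀ h : β < 6156, g ⟨β, h⟩ = ⟨β, h⟩) → g = 1 := by
  intro g hg hfix
  have h0 := pgFixes_base j3baseok hfix
  rw [j3mk0eq] at h0
  have h1 := pgRigRun_sound hg _ _ j3rig1 h0
  have h2 := pgRigRun_sound hg _ _ j3rig2 h1
  have h3 := pgRigRun_sound hg _ _ j3rig3 h2
  have h4 := pgRigRun_sound hg _ _ j3rig4 h3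
  have h5 := pgRigRun_sound hg _ _ j3rig5 h4
  have h6 := pgRigRun_sound hg _ _ j3rig6 h5
  have h7 := pgRigRun_sound hg _ _ j3rig7 h6
  have h8 := pgRigRun_sound hg _ _ j3rig8 h7
  have h9 := pgRigRun_sound hg _ _ j3rig9 h8
  have h10 := pgRigRun_sound hg _ _ j3rig10 h9
  have h11 := pgRigRun_sound hg _ _ j3rig11 h10
  have h12 := pgRigRun_sound hg _ _ j3rig12 h11
  have h13 := pgRigRun_sound hg _ _ j3rig13 h12
  have h14 := pgRigRun_sound hg _ _ j3rig14 h13
  have h15 := pgRigRun_sound hg _ _ j3rig15 h14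
  have h16 := pgRigRun_sound hg _ _ j3rig16 h15
  have h17 := pgRigRun_sound hg _ _ j3rig17 h16
  have h18 := pgRigRun_sound hg _ _ j3rig18 h17
  have h19 := pgRigRun_sound hg _ _ j3rig19 h18
  have h20 := pgRigRun_sound hg _ _ j3rig20 h19
  have h21 := pgRigRun_sound hg _ _ j3rig21 h20
  exact pgFixes_all h21 j3mkall

/-- the rigid ambient group -/
noncomputable def j3R : PgRigid 6156 := pgGraphRigid 6156 j3nb j3base j3rigid

end Cfsg.Agent.Lib.helper23
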