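import Cfsg.Agent.Lib.helper23.J3Data

set_option autoImplicit false
set_option maxRecDepth 1000000

namespace Cfsg.Agent.Lib.helper23

theorem j3chk0x1 : pgChkLvlW0 6156 j3L1 [j3L2, j3L3] = true := by decide +kernel

theorem j3chk0x2 : pgChkLvlW0 6156 j3L2 [j3L3] = true := by decide +kernel

theorem j3chk0x3 : pgChkLvlW0 6156 j3L3 [] = true := by decide +kernel


end Cfsg.Agent.Lib.helper23
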