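import Cfsg.Agent.Lib.helper23.J3Data

set_option autoImplicit false
set_option maxRecDepth 1000000

namespace Cfsg.Agent.Lib.helper23

theorem j3cl3x0 : pgChkGenW 6156 j3base j3L3 []
    (j3gen j3T3x0 j3I3x0) 0 6156 = true := by decide +kernel

theorem j3cl3x1 : pgChkGenW 6156 j3base j3L3 []
    (j3gen j3T3x1 j3I3x1) 0 6156 = true := by decide +kernel


end Cfsg.Agent.Lib.helper23
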