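import Cfsg.Agent.Lib.helper23.PgJ
import Cfsg.Agent.Lib.helper23.J3Data2
import Cfsg.Agent.Lib.helper23.J3ChkA
import Cfsg.Agent.Lib.helper23.J3ChkB
import Cfsg.Agent.Lib.helper23.J3ChkS
import Cfsg.Agent.Lib.helper23.J3Chk1x0
import Cfsg.Agent.Lib.helper23.J3Chk1x1
import Cfsg.Agent.Lib.helper23.J3Chk2x0
import Cfsg.Agent.Lib.helper23.J3Chk2x1

set_option autoImplicit false
set_option maxRecDepth 1000000

/-!
# The third Janko group on 6156 points: order, simplicity, point stabiliser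
-/

namespace Cfsg.Agent.Lib.helper23

open Subgroup MulAction

/-- the stabiliser chain -/
def j3C : List PgLvlW := [j3L1, j3L2, j3L3]

/-- the chain of the point stabiliser -/
def j3C2 : List PgLvlW := [j3L2, j3L3]

theorem j3chkL3 : pgChkLvlW 6156 j3base j3L3 [] = true :=
  pgChkLvlW_of2 rfl j3chk0x3 j3cl3x0 j3cl3x1

theorem j3chkL2 : pgChkLvlW 6156 j3base j3L2 [j3L3] = true :=
  pgChkLvlW_of2 rfl j3chk0x2 j3cl2x0 j3cl2x1

theorem j3chkL1 : pgChkLvlW 6156 j3base j3L1 [j3L2, j3L3] = true :=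
  pgChkLvlW_of2 rfl j3chk0x1 j3cl1x0 j3cl1x1

theorem j3chkC : pgChkW 6156 j3R.base j3C = true := by
  change pgChkW 6156 j3base [j3L1, j3L2, j3L3] = true
  rw [pgChkW_cons, pgChkW_cons, pgChkW_cons, j3chkL1, j3chkL2, j3chkL3]
  rfl

theorem j3ok : ∀ P ∈ pgOwnW j3C, P.ok 6156 = true := pgChkW_own_ok 6156 j3R.base j3C j3chkC

theorem j3A : pgGrpW 6156 j3C ≤ j3R.A := by
  apply (closure_le _).2
  rintro x ⟨P, hP, rfl⟩
  have hok := j3ok P hP
  change P ∈ [j3gen j3T1x0 j3I1x0, j3gen j3T1x1 j3I1x1] at hP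
  rcases List.mem_cons.1 hP with rfl | hP
  · exact pgGraph_mem hok j3GrF0 j3GrG0
  · rcases List.mem_cons.1 hP with rfl | hP
    · exact pgGraph_mem hok j3GrF1 j3GrG1
    · exact absurd hP List.not_mem_nil

theorem j3ord : pgOrdW 6156 j3C = 50232960 := by decide +kernel

theorem j3ord2 : pgOrdW 6156 j3C2 = 8160 := by decide +kernel

theorem j3card : Nat.card (pgGrpW 6156 j3C) = 50232960 := by
  rw [pgCardW j3R j3C j3chkC j3A, j3ord]

theorem j3all1 : pgAll 6156 (fun z => pgBit j3M1 z) = true := by decide +kernel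

theorem j3b1 : j3L1.b < 6156 := by decide

theorem j3trans (z : Fin 6156) : ∃ g ∈ pgGrpW 6156 j3C, g (0 : Fin 6156) = z := by
  obtain ⟨hb, -, -, h4, -⟩ := pgLvlW_main j3R j3chkC j3A
  exact h4 z ((pgAll_iff _ _).1 j3all1 z.1 z.2)

instance j3pretrans : IsPretransitive (pgGrpW 6156 j3C) (Fin 6156) := by
  rw [isPretransitive_iff_base (0 : Fin 6156)]
  intro z
  obtain ⟨g, hg, hgz⟩ := j3trans z
  exact ⟨⟨g, hg⟩, hgz⟩

theorem j3stab : Nat.card (stabilizer (pgGrpW 6156 j3C) (0 : Fin 6156)) = 8160 := by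
  have := pgStabW_card j3R j3chkC j3A j3b1
  rw [← j3ord2]
  exact this

theorem j3clsChk : pgChkCls 6156 0 (pgBit j3M1) j3L2.own j3K = true := by decide +kernel

theorem j3cnt1 : pgCount 6156 (pgBit j3M1) = 6156 := by decide +kernel

theorem j3arith : ∀ I : Finset (Fin 8), (⟨0, by decide⟩ : Fin 8) ∈ I →
    (∀ i ∈ I, ([1, 2040, 680, 1360, 510, 1360, 120, 85] : List ℕ).getD i.1 0 ≠ 0) →
    (∑ i ∈ I, ([1, 2040, 680, 1360, 510, 1360, 120, 85] : List ℕ).getD i.1 0) ∣ 6156 →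
    I = {(⟨0, by decide⟩ : Fin 8)} ∨
      ∀ i : Fin 8, ([1, 2040, 680, 1360, 510, 1360, 120, 85] : List ℕ).getD i.1 0 ≠ 0 → i ∈ I := by
  decide +kernel

theorem j3coatom : IsCoatom (stabilizer (pgGrpW 6156 j3C) (0 : Fin 6156)) := by
  refine pgCoatomW j3R (L := j3L1) (L2 := j3L2) (D := [j3L3]) j3chkC j3A j3b1 j3K
    (by decide) j3clsChk ⟨1, by decide +kernel, by decide⟩ ?_
  change ∀ I : Finset (Fin 8), _ → _ → _ ∣ pgCount 6156 (pgBit j3M1) → _
  rw [j3cnt1]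
  exact j3arith

theorem j3pow : pgAll j3L1.own.length (fun j => pgAll 6156
    (fun p => Nat.beq (pgEvalW j3L1.own (pgPowW [j] 19) p) p)) = true := by decide +kernel

theorem j3simple : IsSimpleGroup (pgGrpW 6156 j3C) := by
  refine pgSimpleW j3R (L := j3L1) (C := j3C2) j3chkC j3A j3b1 j3coatom ?_ 19 ?_ j3pow ?_
  · intro L' _
    have : L'.b < 6156 → j3L1.inO L'.b = true := fun h => (pgAll_iff _ _).1 j3all1 _ h
    apply this
    rename_i hL'
    change L' ∈ [j3L1, j3L2, j3L3] at hL'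
    simp only [List.mem_cons, List.not_mem_nil, or_false] at hL'
    rcases hL' with rfl | rfl | rfl <;> decide
  · rw [j3ord2]
    decide
  · exact ⟨j3gen j3T1x0 j3I1x0, List.mem_cons_self, 0, by decide, by decide +kernel⟩

end Cfsg.Agent.Lib.helper23
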