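import Mathlib
import Cfsg.Agent.Lib.helper23.KulG

set_option autoImplicit false

namespace Cfsg.Agent.Lib.helper23

open scoped BigOperators
open Cfsg.Agent.Lib.Helper1

universe u

section

variable {G : Type*} [Group G]

/-- cyclic subgroups below `Q` versus cyclic subgroups of `↥Q`. -/
def ksubEquivCyc (Q : Subgroup G) (m : ℕ) :
    {H : Subgroup G // (IsCyclic H ∧ Nat.card H = m) ∧ H ≤ Q} ≃
      {H' : Subgroup ↥Q // IsCyclic H' ∧ Nat.card H' = m} where
  toFun H := ⟨H.1.subgroupOf Q, by
    refine ⟨?_, ?_⟩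
    · haveI := H.2.1.1
      exact isCyclic_of_surjective (Subgroup.subgroupOfEquivOfLe H.2.2).symm
        (Subgroup.subgroupOfEquivOfLe H.2.2).symm.surjective
    · rw [Nat.card_congr (Subgroup.subgroupOfEquivOfLe H.2.2).toEquiv]; exact H.2.1.2⟩
  invFun H' := ⟨H'.1.map Q.subtype, by
    refine ⟨⟨?_, ?_⟩, Subgroup.map_subtype_le H'.1⟩
    · haveI := H'.2.1
      exact isCyclic_of_surjective
        (Subgroup.equivMapOfInjective H'.1 Q.subtype Q.subtype_injective)
        (Subgroup.equivMapOfInjective H'.1 Q.subtype Q.subtype_injective).surjective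
    · exact (Nat.card_congr
        (Subgroup.equivMapOfInjective H'.1 Q.subtype Q.subtype_injective).symm.toEquiv).trans H'.2.2⟩
  left_inv H := by
    apply Subtype.ext
    simp only
    rw [Subgroup.subgroupOf, Subgroup.map_comap_eq, Subgroup.range_subtype]
    exact inf_eq_right.mpr H.2.2
  right_inv H' := by
    apply Subtype.ext
    simp only
    rw [Subgroup.subgroupOf]
    exact Subgroup.comap_map_eq_self_of_injective Q.subtype_injective H'.1

variable [Finite G] {p : ℕ} [hp : Fact p.Prime]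

/-- a proper subgroup of a `p`-group lies in `≡ 1 (mod p)` maximal subgroups. -/
theorem kul_pointwise_mod_p {n : ℕ} (hG : Nat.card G = p ^ n) (H : Subgroup G) (hH : H ≠ ⊤) :
    Nat.card {M : Subgroup G // M.index = p ∧ H ≤ M} ≡ 1 [MOD p] := by
  have hpg : IsPGroup p G := IsPGroup.of_card hG
  set L : Subgroup G := H ⊔ frattini G with hL
  haveI hLn : L.Normal := kul_normal_of_frattini_le hpg L le_sup_right
  obtain ⟨M, hM, hHM⟩ := (eq_top_or_exists_le_coatom H).resolve_left hH
  have hLne : L ≠ ⊤ := by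
    intro h
    have : L ≤ M := sup_le hHM (frattini_le_coatom hM)
    rw [h] at this
    exact hM.1 (top_le_iff.mp this)
  obtain ⟨e, he⟩ := hpg.index L
  have he1 : 1 ≤ e := by
    by_contra h0
    have : e = 0 := by omega
    rw [this, pow_zero, Subgroup.index_eq_one] at he
    exact hLne he
  have hQ : Nat.card (G ⧸ L) = p ^ e := by rw [← Subgroup.index_eq_card, he]
  have e1 : {M : Subgroup G // M.index = p ∧ H ≤ M} ≃ {M : Subgroup G // M.index = p ∧ L ≤ M} :=
    Equiv.subtypeEquivRight (fun M => by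
      constructor
      · rintro ⟨h1, h2⟩
        exact ⟨h1, sup_le h2 (kul_frattini_le_of_index hG M h1)⟩
      · rintro ⟨h1, h2⟩
        exact ⟨h1, le_sup_left.trans h2⟩)
  have e2 : {K : Subgroup (G ⧸ L) // K.index = p} ≃
      {K : Subgroup (G ⧸ L) // Nat.card K = p ^ (e - 1)} :=
    Equiv.subtypeEquivRight (fun K => by
      have := kul_card_of_index hQ he1 K
      rwa [pow_one] at this)
  rw [Nat.card_congr e1, Nat.card_congr (kulQuotEquiv L p), Nat.card_congr e2]
  exact Cfsg.Agent.S3975.result p (e - 1) hp.out (by rw [hQ]; exact pow_dvd_pow p (by omega))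

/-- Hall's enumeration principle modulo `p` for an arbitrary family of proper subgroups. -/
theorem kul_hall_mod_p {n : ℕ} (hG : Nat.card G = p ^ n) (C : Subgroup G → Prop)
    (hC : ∀ H, C H → H ≠ ⊤) [Fintype {M : Subgroup G // M.index = p}] :
    Nat.card {H : Subgroup G // C H} ≡
      ∑ M : {M : Subgroup G // M.index = p}, Nat.card {H : Subgroup G // C H ∧ H ≤ M.1}
      [MOD p] := by
  classical
  letI : Fintype {H : Subgroup G // C H} := Fintype.ofFinite _
  have hdc := kul_double_count (fun M : Subgroup G => M.index = p) C (fun M H => H ≤ M)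
  rw [hdc]
  have h0 : Nat.card {H : Subgroup G // C H} = ∑ _H : {H : Subgroup G // C H}, 1 := by
    rw [Finset.sum_const, smul_eq_mul, mul_one, Finset.card_univ, Nat.card_eq_fintype_card]
  rw [h0]
  apply kul_sum_modEq
  intro H _
  exact (kul_pointwise_mod_p hG H.1 (hC H.1 H.2)).symm

end

/-- the number of cyclic maximal subgroups of a non-cyclic `p`-group of order at least `p³`,
`p` odd, is divisible by `p`. -/
theorem kul_cyclic_max_count (p : ℕ) [hp : Fact p.Prime] (hp2 : p ≠ 2) {G : Type u} [Group G]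
    [Finite G] {n : ℕ} (hG : Nat.card G = p ^ n) (hnc : ¬ IsCyclic G) (hn : 3 ≤ n) :
    p ∣ Nat.card {M : Subgroup G // M.index = p ∧ IsCyclic ↥M} := by
  classical
  letI : Fintype {M : Subgroup G // M.index = p} := Fintype.ofFinite _
  letI : Fintype {K : Subgroup G // K.index = p ^ 2 ∧ frattini G ≤ K} := Fintype.ofFinite _
  have hall := kul_hall_enum hG (show 1 < n by omega)
  -- the K-sum
  have hK : p * ∑ K : {K : Subgroup G // K.index = p ^ 2 ∧ frattini G ≤ K},
      Nat.card {H : Subgroup G // Nat.card H = p ^ 1 ∧ H ≤ K.1} ≡ p [MOD p ^ 2] := by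
    have h1 : (∑ K : {K : Subgroup G // K.index = p ^ 2 ∧ frattini G ≤ K},
        Nat.card {H : Subgroup G // Nat.card H = p ^ 1 ∧ H ≤ K.1}) ≡
        ∑ _K : {K : Subgroup G // K.index = p ^ 2 ∧ frattini G ≤ K}, 1 [MOD p] := by
      apply kul_sum_modEq
      intro K _
      rw [Nat.card_congr (ksubEquiv K.1 (p ^ 1))]
      have hKc : Nat.card K.1 = p ^ (n - 2) :=
        (kul_card_of_index hG (show 2 ≤ n by omega) K.1).mp K.2.1
      exact Cfsg.Agent.S3975.result p 1 hp.out
        (by rw [hKc]; exact pow_dvd_pow p (by omega))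
    rw [Finset.sum_const, smul_eq_mul, mul_one, Finset.card_univ,
      ← Nat.card_eq_fintype_card] at h1
    have h2 := Nat.ModEq.mul_left' p (h1.trans (kul_card_K hG hnc))
    rwa [← pow_two, mul_one] at h2
  -- the M-sum
  have hM : (∑ M : {M : Subgroup G // M.index = p},
      Nat.card {H : Subgroup G // Nat.card H = p ^ 1 ∧ H ≤ M.1}) ≡
      ∑ M : {M : Subgroup G // M.index = p},
        (if IsCyclic ↥M.1 then 1 else 1 + p) [MOD p ^ 2] := by
    apply kul_sum_modEq
    intro M _
    rw [Nat.card_congr (ksubEquiv M.1 (p ^ 1))]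
    have hMc : Nat.card M.1 = p ^ (n - 1) := by
      have := (kul_card_of_index hG (show 1 ≤ n by omega) M.1).mp
        (by rw [pow_one]; exact M.2)
      exact this
    by_cases hcyc : IsCyclic ↥M.1
    · rw [if_pos hcyc]
      haveI := hcyc
      rw [kul_cyclic_count hMc (show 1 ≤ n - 1 by omega)]
    · rw [if_neg hcyc]
      exact kulakoff p hp2 (n - 1) ↥M.1 hMc hcyc 1 le_rfl (by omega)
  have hs1 := kulakoff p hp2 n G hG hnc 1 le_rfl (by omega)
  -- Σ v + p γ = (1+p) |M|
  have hsum : (∑ M : {M : Subgroup G // M.index = p},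
      (if IsCyclic ↥M.1 then 1 else 1 + p)) +
      p * Nat.card {M : Subgroup G // M.index = p ∧ IsCyclic ↥M} =
      (1 + p) * Nat.card {M : Subgroup G // M.index = p} := by
    have h1 : Nat.card {M : Subgroup G // M.index = p ∧ IsCyclic ↥M} =
        ∑ M : {M : Subgroup G // M.index = p}, (if IsCyclic ↥M.1 then 1 else 0) := by
      rw [Nat.card_congr (Equiv.subtypeSubtypeEquivSubtypeInter
        (fun M : Subgroup G => M.index = p) (fun M : Subgroup G => IsCyclic ↥M)).symm]
      rw [Nat.card_eq_fintype_card, Fintype.card_subtype, Finset.sum_boole, Nat.cast_id]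
    rw [h1, Finset.mul_sum, ← Finset.sum_add_distrib]
    rw [Nat.card_eq_fintype_card, ← Finset.card_univ, mul_comm, ← smul_eq_mul,
      ← Finset.sum_const]
    apply Finset.sum_congr rfl
    intro M _
    by_cases hcyc : IsCyclic ↥M.1
    · rw [if_pos hcyc, if_pos hcyc, mul_one]
    · rw [if_neg hcyc, if_neg hcyc, mul_zero, add_zero]
  have hMmax := kul_card_maximal hG hnc
  -- combine
  have h1 : (1 + p) + p + p * Nat.card {M : Subgroup G // M.index = p ∧ IsCyclic ↥M} ≡
      (1 + p) * (1 + p) [MOD p ^ 2] := by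
    have h2 : Nat.card {H : Subgroup G // Nat.card H = p ^ 1} +
        p * ∑ K : {K : Subgroup G // K.index = p ^ 2 ∧ frattini G ≤ K},
          Nat.card {H : Subgroup G // Nat.card H = p ^ 1 ∧ H ≤ K.1} ≡ (1 + p) + p [MOD p ^ 2] :=
      Nat.ModEq.add hs1 hK
    have h3 := (h2.symm.trans hall).trans hM
    have h4 := Nat.ModEq.add_right
      (p * Nat.card {M : Subgroup G // M.index = p ∧ IsCyclic ↥M}) h3
    rw [hsum] at h4
    exact h4.trans (Nat.ModEq.mul_left _ hMmax)
  have h5 : (1 + p) * (1 + p) = (1 + p) + p + p ^ 2 * 1 := by ring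
  have h6 : (1 + p) + p + p ^ 2 * 1 ≡ (1 + p) + p + 0 [MOD p ^ 2] := by
    unfold Nat.ModEq
    rw [add_zero]
    exact Nat.add_mul_mod_self_left _ _ _
  rw [h5] at h1
  have h7 := Nat.ModEq.add_left_cancel' _ (h1.trans h6)
  have h8 : p ^ 2 ∣ p * Nat.card {M : Subgroup G // M.index = p ∧ IsCyclic ↥M} :=
    (Nat.modEq_zero_iff_dvd).mp h7
  rw [pow_two] at h8
  exact Nat.dvd_of_mul_dvd_mul_left hp.out.pos h8

end Cfsg.Agent.Lib.helper23
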