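import Mathlib
import Cfsg.Agent.Lib.helper23.KulH

set_option autoImplicit false

namespace Cfsg.Agent.Lib.helper23

open scoped BigOperators

universe u

/-- Miller's theorem: in a non-cyclic `p`-group, `p` odd, the number of cyclic subgroups of
order `p^s`, `s ≥ 2`, is divisible by `p`. -/
theorem kul_miller (p : ℕ) [hp : Fact p.Prime] (hp2 : p ≠ 2) :
    ∀ n : ℕ, ∀ (G : Type u) [Group G] [Finite G], Nat.card G = p ^ n → ¬ IsCyclic G →
      ∀ s : ℕ, 2 ≤ s →
        p ∣ Nat.card {C : Subgroup G // IsCyclic ↥C ∧ Nat.card C = p ^ s} := by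
  intro n
  induction n using Nat.strong_induction_on with
  | _ n ih =>
  intro G _ _ hG hnc s hs
  classical
  rcases Nat.lt_or_ge s n with hsn | hsn
  swap
  · -- no such subgroups
    have : IsEmpty {C : Subgroup G // IsCyclic ↥C ∧ Nat.card C = p ^ s} := by
      refine ⟨fun C => ?_⟩
      have h1 : Nat.card C.1 ∣ Nat.card G := Subgroup.card_subgroup_dvd_card C.1
      rw [C.2.2, hG] at h1
      have h2 : s ≤ n := (Nat.pow_dvd_pow_iff_le_right hp.out.one_lt).mp h1
      have h3 : s = n := le_antisymm h2 hsn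
      have h4 : C.1 = ⊤ := by
        apply (Subgroup.card_eq_iff_eq_top C.1).mp
        rw [C.2.2, hG, h3]
      apply hnc
      haveI := C.2.1
      exact isCyclic_of_surjective (Subgroup.topEquiv.toMonoidHom.comp
        (MulEquiv.subgroupCongr h4).toMonoidHom)
        ((Subgroup.topEquiv.surjective).comp (MulEquiv.subgroupCongr h4).surjective)
    rw [Nat.card_of_isEmpty]
    exact dvd_zero p
  · letI : Fintype {M : Subgroup G // M.index = p} := Fintype.ofFinite _
    have hall := kul_hall_mod_p hG (fun H : Subgroup G => IsCyclic ↥H ∧ Nat.card H = p ^ s)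
      (by
        intro H hH h
        have h1 := hH.2
        rw [h, Subgroup.card_top, hG] at h1
        have := Nat.pow_right_injective hp.out.two_le h1
        omega)
    have hM : (∑ M : {M : Subgroup G // M.index = p},
        Nat.card {H : Subgroup G // (IsCyclic ↥H ∧ Nat.card H = p ^ s) ∧ H ≤ M.1}) ≡
        ∑ M : {M : Subgroup G // M.index = p}, (if IsCyclic ↥M.1 then 1 else 0) [MOD p] := by
      apply kul_sum_modEq
      intro M _
      rw [Nat.card_congr (ksubEquivCyc M.1 (p ^ s))]
      have hMc : Nat.card M.1 = p ^ (n - 1) := by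
        have := (kul_card_of_index hG (show 1 ≤ n by omega) M.1).mp
          (by rw [pow_one]; exact M.2)
        exact this
      by_cases hcyc : IsCyclic ↥M.1
      · rw [if_pos hcyc]
        haveI := hcyc
        have e : {H' : Subgroup ↥M.1 // IsCyclic ↥H' ∧ Nat.card H' = p ^ s} ≃
            {H' : Subgroup ↥M.1 // Nat.card H' = p ^ s} :=
          Equiv.subtypeEquivRight (fun H' => ⟨fun h => h.2, fun h => ⟨inferInstance, h⟩⟩)
        rw [Nat.card_congr e, kul_cyclic_count hMc (show s ≤ n - 1 by omega)]
      · rw [if_neg hcyc]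
        exact (Nat.modEq_zero_iff_dvd).mpr (ih (n - 1) (by omega) ↥M.1 hMc hcyc s hs)
    have hγ : (∑ M : {M : Subgroup G // M.index = p}, (if IsCyclic ↥M.1 then 1 else 0)) =
        Nat.card {M : Subgroup G // M.index = p ∧ IsCyclic ↥M} := by
      rw [Nat.card_congr (Equiv.subtypeSubtypeEquivSubtypeInter
        (fun M : Subgroup G => M.index = p) (fun M : Subgroup G => IsCyclic ↥M)).symm]
      rw [Nat.card_eq_fintype_card, Fintype.card_subtype, Finset.sum_boole, Nat.cast_id]
    rw [hγ] at hM
    have hγ0 := kul_cyclic_max_count p hp2 hG hnc (show 3 ≤ n by omega)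
    exact (Nat.modEq_zero_iff_dvd).mp
      ((hall.trans hM).trans ((Nat.modEq_zero_iff_dvd).mpr hγ0))

end Cfsg.Agent.Lib.helper23
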