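import Mathlib
import Cfsg.Agent.Lib.helper23.KulI

set_option autoImplicit false

namespace Cfsg.Agent.Lib.helper23

open scoped BigOperators

universe u

section

variable {G : Type*} [Group G]

theorem kcj_isCyclic (g : G) (H : Subgroup G) (h : IsCyclic ↥H) : IsCyclic ↥(kcj g H) := by
  unfold kcj
  exact isCyclic_of_surjective
    (Subgroup.equivMapOfInjective H ((MulAut.conj g : G ≃* G) : G →* G) (MulAut.conj g).injective)
    (Subgroup.equivMapOfInjective H ((MulAut.conj g : G ≃* G) : G →* G)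
      (MulAut.conj g).injective).surjective

variable [Finite G] {p : ℕ} [hp : Fact p.Prime]

/-- fixed point congruence for the conjugation action of a `p`-subgroup on a family of
subgroups. -/
theorem kul_fixed_count (S : Subgroup G) (hS : IsPGroup p S) (C : Subgroup G → Prop)
    (hC : ∀ g ∈ S, ∀ H, C H → C (kcj g H)) :
    Nat.card {H : Subgroup G // C H} ≡
      Nat.card {H : Subgroup G // C H ∧ S ≤ Subgroup.normalizer (H : Set G)} [MOD p] := by
  letI act := kconjAct S C hC
  have h1 := hS.card_modEq_card_fixedPoints {H : Subgroup G // C H}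
  have e : MulAction.fixedPoints ↥S {H : Subgroup G // C H} ≃
      {H : Subgroup G // C H ∧ S ≤ Subgroup.normalizer (H : Set G)} :=
    { toFun := fun x => ⟨x.1.1, x.1.2, by
        intro g hg
        rw [← kcj_eq_self_iff]
        have := x.2 ⟨g, hg⟩
        exact congrArg Subtype.val this⟩
      invFun := fun H => ⟨⟨H.1, H.2.1⟩, by
        intro g
        apply Subtype.ext
        exact kcj_eq_self_iff.mpr (H.2.2 g.2)⟩
      left_inv := fun x => rfl
      right_inv := fun H => rfl }
  rw [← Nat.card_congr e]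
  exact h1

/-- reduction to the Sylow subgroup, modulo `p`, for cyclic subgroups of order `p^s`. -/
theorem kul_cyc_sylow_reduction (P : Sylow p G) (s : ℕ) :
    Nat.card {C : Subgroup G // IsCyclic ↥C ∧ Nat.card C = p ^ s} ≡
      Nat.card {C : Subgroup ↥(P : Subgroup G) // IsCyclic ↥C ∧ Nat.card C = p ^ s} [MOD p] := by
  set P0 : Subgroup G := (P : Subgroup G) with hP0
  have hC1 : ∀ g ∈ P0, ∀ H : Subgroup G, (IsCyclic ↥H ∧ Nat.card H = p ^ s) →
      (IsCyclic ↥(kcj g H) ∧ Nat.card (kcj g H) = p ^ s) := by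
    intro g _ H h
    exact ⟨kcj_isCyclic g H h.1, by rw [card_kcj]; exact h.2⟩
  have hC2 : ∀ g ∈ P0, ∀ H : Subgroup G, ((IsCyclic ↥H ∧ Nat.card H = p ^ s) ∧ H ≤ P0) →
      ((IsCyclic ↥(kcj g H) ∧ Nat.card (kcj g H) = p ^ s) ∧ kcj g H ≤ P0) := by
    intro g hg H h
    refine ⟨hC1 g hg H h.1, ?_⟩
    have := kcj_le_kcj (g := g) h.2
    rwa [kcj_eq_of_mem hg] at this
  have h1 := kul_fixed_count P0 P.2 _ hC1
  have h2 := kul_fixed_count P0 P.2 _ hC2
  have e : {H : Subgroup G // (IsCyclic ↥H ∧ Nat.card H = p ^ s) ∧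
      P0 ≤ Subgroup.normalizer (H : Set G)} ≃
      {H : Subgroup G // ((IsCyclic ↥H ∧ Nat.card H = p ^ s) ∧ H ≤ P0) ∧
        P0 ≤ Subgroup.normalizer (H : Set G)} :=
    Equiv.subtypeEquivRight (fun H => by
      constructor
      · rintro ⟨h3, h4⟩
        exact ⟨⟨h3, kul_not_normalizes P H (IsPGroup.of_card h3.2) h4⟩, h4⟩
      · rintro ⟨⟨h3, -⟩, h4⟩
        exact ⟨h3, h4⟩)
  rw [Nat.card_congr e] at h1
  rw [← Nat.card_congr (ksubEquivCyc P0 (p ^ s))]
  exact h1.trans h2.symm

end

/-- in a finite group with non-cyclic Sylow `p`-subgroups, `p` odd, the number of cyclic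
subgroups of order `p^s`, `s ≥ 2`, is divisible by `p`. -/
theorem kul_cyc_count_dvd {G : Type u} [Group G] [Finite G] (p : ℕ) [hp : Fact p.Prime]
    (hp2 : p ≠ 2) (P : Sylow p G) (hP : ¬ IsCyclic ↥(P : Subgroup G)) (s : ℕ) (hs : 2 ≤ s) :
    p ∣ Nat.card {C : Subgroup G // IsCyclic ↥C ∧ Nat.card C = p ^ s} := by
  have h1 := kul_cyc_sylow_reduction P s
  have h2 := kul_miller p hp2 _ ↥(P : Subgroup G) P.card_eq_multiplicity hP s hs
  exact (Nat.modEq_zero_iff_dvd).mp (h1.trans ((Nat.modEq_zero_iff_dvd).mpr h2))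

/-- elements of a given order versus cyclic subgroups of that order. -/
theorem kul_card_orderOf {H : Type*} [Group H] [Finite H] (N : ℕ) :
    Nat.card {x : H // orderOf x = N} =
      N.totient * Nat.card {C : Subgroup H // IsCyclic ↥C ∧ Nat.card C = N} := by
  classical
  letI : Fintype {C : Subgroup H // IsCyclic ↥C ∧ Nat.card C = N} := Fintype.ofFinite _
  have hsig : Nat.card {x : H // orderOf x = N} =
      ∑ C : {C : Subgroup H // IsCyclic ↥C ∧ Nat.card C = N},
        Nat.card {x : H // orderOf x = N ∧ Subgroup.zpowers x = C.1} := by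
    rw [← Nat.card_sigma]
    apply Nat.card_congr
    exact
      { toFun := fun x => ⟨⟨Subgroup.zpowers x.1, inferInstance, by
            rw [Nat.card_zpowers]; exact x.2⟩, ⟨x.1, x.2, rfl⟩⟩
        invFun := fun z => ⟨z.2.1, z.2.2.1⟩
        left_inv := fun x => rfl
        right_inv := fun z => Sigma.subtype_ext (Subtype.ext z.2.2.2) rfl }
  have hfib : ∀ C : {C : Subgroup H // IsCyclic ↥C ∧ Nat.card C = N},
      Nat.card {x : H // orderOf x = N ∧ Subgroup.zpowers x = C.1} = N.totient := by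
    intro C
    haveI := C.2.1
    letI : Fintype ↥C.1 := Fintype.ofFinite _
    have h1 := IsCyclic.card_orderOf_eq_totient (α := ↥C.1) (d := N)
      (by rw [← Nat.card_eq_fintype_card, C.2.2])
    rw [← h1, ← Fintype.card_subtype, ← Nat.card_eq_fintype_card]
    apply Nat.card_congr
    exact
      { toFun := fun x => ⟨⟨x.1, (SetLike.ext_iff.mp x.2.2 x.1).mp (Subgroup.mem_zpowers x.1)⟩, by
          rw [Subgroup.orderOf_mk]; exact x.2.1⟩
        invFun := fun y => ⟨y.1.1, by
          have h2 : orderOf (y.1 : H) = N := by rw [Subgroup.orderOf_coe]; exact y.2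
          refine ⟨h2, ?_⟩
          refine Subgroup.eq_of_le_of_card_ge ?_ ?_
          · rw [Subgroup.zpowers_le]; exact y.1.2
          · rw [Nat.card_zpowers, h2, C.2.2]⟩
        left_inv := fun x => rfl
        right_inv := fun y => rfl }
  rw [hsig, Finset.sum_congr rfl (fun C _ => hfib C), Finset.sum_const, smul_eq_mul,
    Finset.card_univ, ← Nat.card_eq_fintype_card, mul_comm]

/-- divisibility of the number of elements of order `p^s`. -/
theorem kul_elts_dvd_weak {H : Type*} [Group H] [Finite H] (p : ℕ) [hp : Fact p.Prime]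
    (s : ℕ) (hs : 1 ≤ s) : p ^ (s - 1) ∣ Nat.card {x : H // orderOf x = p ^ s} := by
  rw [kul_card_orderOf, Nat.totient_prime_pow hp.out (by omega)]
  exact Dvd.dvd.mul_right (Dvd.intro _ rfl) _

theorem kul_elts_dvd {H : Type u} [Group H] [Finite H] (p : ℕ) [hp : Fact p.Prime]
    (hp2 : p ≠ 2) (P : Sylow p H) (hP : ¬ IsCyclic ↥(P : Subgroup H)) (s : ℕ) (hs : 2 ≤ s) :
    p ^ s ∣ Nat.card {x : H // orderOf x = p ^ s} := by
  rw [kul_card_orderOf, Nat.totient_prime_pow hp.out (by omega)]
  obtain ⟨c, hc⟩ := kul_cyc_count_dvd p hp2 P hP s hs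
  rw [hc]
  have : p ^ s = p ^ (s - 1) * p := by rw [← pow_succ]; congr 1; omega
  rw [this]
  exact ⟨(p - 1) * c, by ring⟩

end Cfsg.Agent.Lib.helper23
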