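import Mathlib
import Cfsg.Agent.Lib.helper23.KulJ

set_option autoImplicit false

namespace Cfsg.Agent.Lib.helper23

open scoped BigOperators

universe u

section decomp

variable {G : Type*} [Group G]

theorem kul_bezout (a b : ℕ) (hab : Nat.Coprime a b) :
    (1 : ℤ) = a * a.gcdA b + b * a.gcdB b := by
  have := Nat.gcd_eq_gcd_ab a b
  rw [hab.gcd_eq_one] at this
  exact_mod_cast this

/-- recovering the coprime parts of a product of commuting elements. -/
theorem kul_parts (a b : ℕ) (hab : Nat.Coprime a b) (x y : G) (hc : Commute x y)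
    (hx : x ^ a = 1) (hy : y ^ b = 1) :
    (x * y) ^ ((b : ℤ) * a.gcdB b) = x ∧ (x * y) ^ ((a : ℤ) * a.gcdA b) = y := by
  have hbz := kul_bezout a b hab
  have hxa : ∀ k : ℤ, x ^ ((a : ℤ) * k) = 1 := by
    intro k
    rw [zpow_mul, zpow_natCast, hx, one_zpow]
  have hyb : ∀ k : ℤ, y ^ ((b : ℤ) * k) = 1 := by
    intro k
    rw [zpow_mul, zpow_natCast, hy, one_zpow]
  refine ⟨?_, ?_⟩
  · rw [hc.mul_zpow, hyb, mul_one]
    have : (b : ℤ) * a.gcdB b = 1 - a * a.gcdA b := by linarith
    rw [this, zpow_sub, zpow_one, hxa, inv_one, mul_one]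
  · rw [hc.mul_zpow, hxa, one_mul]
    have : (a : ℤ) * a.gcdA b = 1 - b * a.gcdB b := by linarith
    rw [this, zpow_sub, zpow_one, hyb, inv_one, mul_one]

/-- elements of order `a * b` (coprime) are the products of commuting elements of orders
`a` and `b`. -/
theorem kul_decomp_card [Finite G] (a b : ℕ) (hab : Nat.Coprime a b) (ha : 0 < a) (hb : 0 < b) :
    Nat.card {g : G // orderOf g = a * b} =
      Nat.card {z : G × G // orderOf z.1 = a ∧ orderOf z.2 = b ∧ Commute z.1 z.2} := by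
  symm
  have hbz := kul_bezout a b hab
  let f : {z : G × G // orderOf z.1 = a ∧ orderOf z.2 = b ∧ Commute z.1 z.2} →
      {g : G // orderOf g = a * b} := fun z => ⟨z.1.1 * z.1.2, by
    rw [z.2.2.2.orderOf_mul_eq_mul_orderOf_of_coprime (by rw [z.2.1, z.2.2.1]; exact hab),
      z.2.1, z.2.2.1]⟩
  apply Nat.card_congr (Equiv.ofBijective f ⟨?_, ?_⟩)
  · rintro ⟨⟨x, y⟩, hx, hy, hc⟩ ⟨⟨x', y'⟩, hx', hy', hc'⟩ h
    have h1 : x * y = x' * y' := congrArg Subtype.val h
    have hp := kul_parts a b hab x y hc (by rw [← hx]; exact pow_orderOf_eq_one x)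
      (by rw [← hy]; exact pow_orderOf_eq_one y)
    have hp' := kul_parts a b hab x' y' hc' (by rw [← hx']; exact pow_orderOf_eq_one x')
      (by rw [← hy']; exact pow_orderOf_eq_one y')
    apply Subtype.ext
    simp only
    rw [Prod.mk.injEq]
    refine ⟨?_, ?_⟩
    · rw [← hp.1, ← hp'.1, h1]
    · rw [← hp.2, ← hp'.2, h1]
  · rintro ⟨g, hg⟩
    set x : G := g ^ ((b : ℤ) * a.gcdB b) with hx
    set y : G := g ^ ((a : ℤ) * a.gcdA b) with hy
    have hgab : g ^ (a * b) = 1 := by rw [← hg]; exact pow_orderOf_eq_one g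
    have hxa : x ^ a = 1 := by
      rw [hx, ← zpow_natCast, ← zpow_mul]
      have : (b : ℤ) * a.gcdB b * a = ((a * b : ℕ) : ℤ) * a.gcdB b := by push_cast; ring
      rw [this, zpow_mul, zpow_natCast, hgab, one_zpow]
    have hyb : y ^ b = 1 := by
      rw [hy, ← zpow_natCast, ← zpow_mul]
      have : (a : ℤ) * a.gcdA b * b = ((a * b : ℕ) : ℤ) * a.gcdA b := by push_cast; ring
      rw [this, zpow_mul, zpow_natCast, hgab, one_zpow]
    have hxy : x * y = g := by
      rw [hx, hy, ← zpow_add]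
      have : (b : ℤ) * a.gcdB b + a * a.gcdA b = 1 := by linarith
      rw [this, zpow_one]
    have hc : Commute x y := by
      rw [hx, hy]
      exact (Commute.refl g).zpow_zpow _ _
    have hox : orderOf x ∣ a := orderOf_dvd_of_pow_eq_one hxa
    have hoy : orderOf y ∣ b := orderOf_dvd_of_pow_eq_one hyb
    have hcop : (orderOf x).Coprime (orderOf y) := Nat.Coprime.of_dvd hox hoy hab
    have hmul := hc.orderOf_mul_eq_mul_orderOf_of_coprime hcop
    rw [hxy, hg] at hmul
    obtain ⟨c, hc1⟩ := hox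
    obtain ⟨d, hd1⟩ := hoy
    have hox0 : 0 < orderOf x := Nat.pos_of_ne_zero (fun h => by rw [h, zero_mul] at hc1; omega)
    have hoy0 : 0 < orderOf y := Nat.pos_of_ne_zero (fun h => by rw [h, zero_mul] at hd1; omega)
    have hcd : c * d = 1 := by
      have h2 : orderOf x * orderOf y * (c * d) = orderOf x * orderOf y * 1 := by
        rw [mul_one]
        calc orderOf x * orderOf y * (c * d) = (orderOf x * c) * (orderOf y * d) := by ring
          _ = a * b := by rw [← hc1, ← hd1]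
          _ = orderOf x * orderOf y := hmul
      exact Nat.eq_of_mul_eq_mul_left (Nat.mul_pos hox0 hoy0) h2
    have hc' : c = 1 := Nat.eq_one_of_mul_eq_one_right hcd
    have hd' : d = 1 := Nat.eq_one_of_mul_eq_one_left hcd
    rw [hc', mul_one] at hc1
    rw [hd', mul_one] at hd1
    exact ⟨⟨(x, y), hc1.symm, hd1.symm, hc⟩, Subtype.ext hxy⟩

end decomp

section orbsum

variable {Γ Y : Type*} [Group Γ] [MulAction Γ Y] [Finite Γ] [Finite Y]

/-- divisibility of an orbit sum. -/
theorem kul_orbit_sum_dvd (F : Y → ℕ) (hF : ∀ (g : Γ) (y : Y), F (g • y) = F y) (d : ℕ)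
    (hdiv : ∀ y : Y, d ∣ (MulAction.stabilizer Γ y).index * F y) [Fintype Y] :
    d ∣ ∑ y : Y, F y := by
  classical
  let e := MulAction.selfEquivSigmaOrbits Γ Y
  letI : Fintype (MulAction.orbitRel.Quotient Γ Y) := Fintype.ofFinite _
  letI : ∀ ω : MulAction.orbitRel.Quotient Γ Y, Fintype (MulAction.orbit Γ ω.out) :=
    fun ω => Fintype.ofFinite _
  have h1 : (∑ y : Y, F y) = ∑ z : (Σ ω : MulAction.orbitRel.Quotient Γ Y,
      MulAction.orbit Γ ω.out), F (e.symm z) := by
    rw [← Equiv.sum_comp e.symm]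
  rw [h1, Fintype.sum_sigma]
  apply Finset.dvd_sum
  intro ω _
  have h2 : ∀ y : MulAction.orbit Γ ω.out, F (e.symm ⟨ω, y⟩) = F ω.out := by
    intro y
    obtain ⟨g, hg⟩ := y.2
    have : e.symm ⟨ω, y⟩ = (y : Y) := rfl
    rw [this, ← hg]
    exact hF g _
  rw [Finset.sum_congr rfl (fun y _ => h2 y), Finset.sum_const, smul_eq_mul,
    Finset.card_univ, ← Nat.card_eq_fintype_card, Nat.card_coe_set_eq,
    ← MulAction.index_stabilizer]
  exact hdiv _

end orbsum

end Cfsg.Agent.Lib.helper23
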