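import Mathlib
import Cfsg.Agent.Lib.helper23.KulK

set_option autoImplicit false

namespace Cfsg.Agent.Lib.helper23

open scoped BigOperators

universe u

/-- conjugation action of `G` on its elements of order `m`. -/
@[reducible] def kconjElt (G : Type*) [Group G] (m : ℕ) : MulAction G {y : G // orderOf y = m} where
  smul g y := ⟨g * y.1 * g⁻¹, by
    have := (MulAut.conj g).orderOf_eq y.1
    rw [MulAut.conj_apply] at this
    rw [this]; exact y.2⟩
  one_smul y := Subtype.ext (by change (1 : G) * y.1 * (1 : G)⁻¹ = y.1; simp)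
  mul_smul g h y := Subtype.ext (by
    change (g * h) * y.1 * (g * h)⁻¹ = g * (h * y.1 * h⁻¹) * g⁻¹
    group)

theorem kconjElt_stab (G : Type*) [Group G] (m : ℕ) (y : {y : G // orderOf y = m}) :
    @MulAction.stabilizer G _ _ (kconjElt G m) y = Subgroup.centralizer {y.1} := by
  letI := kconjElt G m
  ext g
  rw [MulAction.mem_stabilizer_iff, Subgroup.mem_centralizer_iff]
  constructor
  · intro h z hz
    rw [Set.mem_singleton_iff] at hz
    subst hz
    have h1 : g * y.1 * g⁻¹ = y.1 := congrArg Subtype.val h
    calc y.1 * g = (g * y.1 * g⁻¹) * g := by rw [h1]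
      _ = g * y.1 := by group
  · intro h
    apply Subtype.ext
    change g * y.1 * g⁻¹ = y.1
    have h1 := h y.1 (Set.mem_singleton _)
    rw [← h1]
    group

/-- the number of elements of order `p^s m`. -/
theorem kul_elements_main {G : Type u} [Group G] [Finite G] (p : ℕ) [hp : Fact p.Prime]
    (hodd : p ≠ 2) (P : Sylow p G) (hP : ¬ IsCyclic ↥(P : Subgroup G)) (s m : ℕ) (hs : 1 < s)
    (hm : Nat.Coprime p m) :
    p ^ s ∣ Nat.card {g : G // orderOf g = p ^ s * m} := by
  classical
  have hm0 : 0 < m := by
    rcases Nat.eq_zero_or_pos m with h | h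
    · subst h
      rw [Nat.coprime_zero_right] at hm
      exact absurd hm hp.out.one_lt.ne'
    · exact h
  have hcop : Nat.Coprime (p ^ s) m := Nat.Coprime.pow_left s hm
  rw [kul_decomp_card (p ^ s) m hcop (pow_pos hp.out.pos s) hm0]
  letI act := kconjElt G m
  letI : Fintype {y : G // orderOf y = m} := Fintype.ofFinite _
  have hsig : Nat.card {z : G × G // orderOf z.1 = p ^ s ∧ orderOf z.2 = m ∧ Commute z.1 z.2} =
      ∑ y : {y : G // orderOf y = m}, Nat.card {x : G // orderOf x = p ^ s ∧ Commute x y.1} := by
    rw [← Nat.card_sigma]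
    apply Nat.card_congr
    exact
      { toFun := fun z => ⟨⟨z.1.2, z.2.2.1⟩, ⟨z.1.1, z.2.1, z.2.2.2⟩⟩
        invFun := fun w => ⟨(w.2.1, w.1.1), w.2.2.1, w.1.2, w.2.2.2⟩
        left_inv := fun z => rfl
        right_inv := fun w => rfl }
  rw [hsig]
  apply kul_orbit_sum_dvd (Γ := G) (Y := {y : G // orderOf y = m})
  · -- invariance
    intro g y
    apply Nat.card_congr
    exact
      { toFun := fun x => ⟨g⁻¹ * x.1 * g, by
          refine ⟨?_, ?_⟩
          · have := (MulAut.conj g⁻¹).orderOf_eq x.1
            rw [MulAut.conj_apply, inv_inv] at this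
            rw [this]; exact x.2.1
          · have h1 : Commute x.1 (g * y.1 * g⁻¹) := x.2.2
            have h2 : x.1 * (g * y.1 * g⁻¹) = (g * y.1 * g⁻¹) * x.1 := h1.eq
            change (g⁻¹ * x.1 * g) * y.1 = y.1 * (g⁻¹ * x.1 * g)
            calc (g⁻¹ * x.1 * g) * y.1 = g⁻¹ * (x.1 * (g * y.1 * g⁻¹)) * g := by group
              _ = g⁻¹ * ((g * y.1 * g⁻¹) * x.1) * g := by rw [h2]
              _ = y.1 * (g⁻¹ * x.1 * g) := by group⟩
        invFun := fun x => ⟨g * x.1 * g⁻¹, by
          refine ⟨?_, ?_⟩
          · have := (MulAut.conj g).orderOf_eq x.1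
            rw [MulAut.conj_apply] at this
            rw [this]; exact x.2.1
          · have h2 : x.1 * y.1 = y.1 * x.1 := x.2.2.eq
            change (g * x.1 * g⁻¹) * (g * y.1 * g⁻¹) = (g * y.1 * g⁻¹) * (g * x.1 * g⁻¹)
            calc (g * x.1 * g⁻¹) * (g * y.1 * g⁻¹) = g * (x.1 * y.1) * g⁻¹ := by group
              _ = g * (y.1 * x.1) * g⁻¹ := by rw [h2]
              _ = (g * y.1 * g⁻¹) * (g * x.1 * g⁻¹) := by group⟩
        left_inv := fun x => Subtype.ext (by simp only; group)
        right_inv := fun x => Subtype.ext (by simp only; group) }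
  · -- divisibility
    intro y
    rw [kconjElt_stab]
    set Hy : Subgroup G := Subgroup.centralizer {y.1} with hHy
    have e : {x : G // orderOf x = p ^ s ∧ Commute x y.1} ≃ {x' : ↥Hy // orderOf x' = p ^ s} :=
      { toFun := fun x => ⟨⟨x.1, by
            rw [hHy, Subgroup.mem_centralizer_iff]
            intro z hz
            rw [Set.mem_singleton_iff] at hz
            rw [hz]
            exact x.2.2.eq.symm⟩, by rw [Subgroup.orderOf_mk]; exact x.2.1⟩
        invFun := fun x' => ⟨x'.1.1, by
          refine ⟨by rw [Subgroup.orderOf_coe]; exact x'.2, ?_⟩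
          have h1 : (x'.1 : G) ∈ Subgroup.centralizer {y.1} := x'.1.2
          rw [Subgroup.mem_centralizer_iff] at h1
          exact (h1 y.1 (Set.mem_singleton _)).symm⟩
        left_inv := fun x => rfl
        right_inv := fun x' => rfl }
    rw [Nat.card_congr e]
    obtain ⟨S⟩ : Nonempty (Sylow p ↥Hy) := inferInstance
    by_cases hS : IsCyclic ↥(S : Subgroup ↥Hy)
    · -- cyclic Sylow: the index is divisible by p
      have hweak := kul_elts_dvd_weak (H := ↥Hy) p s (by omega)
      have hidx : p ∣ Hy.index := by
        by_contra hnd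
        apply hP
        -- S has the order of P
        have h1 := Subgroup.card_mul_index Hy
        have hScard := S.card_eq_multiplicity
        have hPcard := P.card_eq_multiplicity
        have hfac : (Nat.card ↥Hy).factorization p = (Nat.card G).factorization p := by
          rw [← h1, Nat.factorization_mul Nat.card_pos.ne' (Subgroup.index_ne_zero_of_finite),
            Finsupp.add_apply, Nat.factorization_eq_zero_of_not_dvd hnd, add_zero]
        rw [hfac] at hScard
        set S' : Subgroup G := (S : Subgroup ↥Hy).map Hy.subtype with hS'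
        have eS : ↥(S : Subgroup ↥Hy) ≃* ↥S' :=
          Subgroup.equivMapOfInjective _ Hy.subtype Hy.subtype_injective
        have hS'card : Nat.card S' = p ^ (Nat.card G).factorization p := by
          rw [← Nat.card_congr eS.toEquiv]; exact hScard
        have hS'p : IsPGroup p S' := IsPGroup.of_card hS'card
        obtain ⟨P', hP'⟩ := hS'p.exists_le_sylow
        have hP'card := P'.card_eq_multiplicity
        have hEq : S' = (P' : Subgroup G) :=
          Subgroup.eq_of_le_of_card_ge hP' (by rw [hP'card, hS'card])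
        have e2 : ↥(P : Subgroup G) ≃* ↥(P' : Subgroup G) := Sylow.equiv P P'
        have e3 : ↥(P' : Subgroup G) ≃* ↥S' := MulEquiv.subgroupCongr hEq.symm
        haveI := hS
        exact isCyclic_of_surjective ((e2.trans e3).trans eS.symm).symm
          ((e2.trans e3).trans eS.symm).symm.surjective
      have h2 : p ^ s = p * p ^ (s - 1) := by rw [← pow_succ']; congr 1; omega
      calc p ^ s = p * p ^ (s - 1) := h2
        _ ∣ _ := Nat.mul_dvd_mul hidx hweak
    · exact Dvd.dvd.mul_left (kul_elts_dvd (H := ↥Hy) p hodd S hS s (by omega)) _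

end Cfsg.Agent.Lib.helper23
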