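import Mathlib

set_option autoImplicit false

namespace Cfsg.Agent.Lib.helper23

/-! ### Data for the generation of the stabiliser of a point in the group of the length-24 code by
three elements of prime orders with product one -/

/-- an element of order five -/
def m23U5 : List ℕ := [20,18,2,4,11,7,19,1,15,8,10,12,22,5,0,21,9,17,13,14,6,16,3,23]

/-- an element of order seven -/
def m23U7 : List ℕ := [22,0,14,9,17,8,21,2,6,5,10,3,4,16,1,15,12,19,7,20,13,11,18,23]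

/-- cycles of the representative of the involutions with fixed points -/
def m23Col2 : List ℕ := [0,1,2,3,4,1,5,6,6,7,3,8,9,10,9,11,12,12,13,2,5,10,14,15]

/-- cycles of the representative of the elements of order three with fixed points -/
def m23Col3 : List ℕ := [0,1,1,2,3,4,2,5,6,2,3,1,7,5,8,4,8,8,9,4,3,5,10,11]

/-- cycles of the element of order five -/
def m23Col5 : List ℕ := [0,1,2,3,3,1,0,1,4,4,5,3,3,1,0,4,4,6,1,0,0,4,3,7]

/-- cycles of the element of order seven -/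
def m23Col7 : List ℕ := [0,0,0,1,2,1,1,0,1,1,3,1,2,2,0,4,2,2,0,2,2,1,0,5]

set_option maxRecDepth 1000000 in
/-- the certificates: orders, the two tables, and the program computing the three standard
generators -/
def m23Certs : List (ℕ × ℕ × ℕ × List ℕ × List ℕ × List (ℕ × ℕ)) := [
  (2, 5, 11, [16,22,2,10,4,5,7,6,12,9,3,19,8,13,20,15,0,17,21,11,14,18,1,23], [16,4,1,3,11,12,20,7,21,2,22,9,15,18,14,0,5,8,19,6,13,10,17,23],
    [(1,0),(1,2),(0,3),(1,4),(1,5),(1,6),(0,7),(1,1),(9,9),(0,10),(1,0),(0,12),(11,13),(0,1),(14,15),(15,16),(14,17),(8,18),(10,0),(20,20),(21,20),(11,0),(23,12),(22,24),(15,15),(15,26),(15,27),(15,28),(15,29),(25,30),(31,14),(31,32),(19,33),(20,20),(35,24),(15,15),(36,37),(14,15),(15,39),(15,40),(15,41),(38,42),(22,20),(44,20),(45,20),(14,27),(46,47),(14,31),(48,49),(14,37),(35,51),(52,14),(24,53),(50,54),(43,55),(34,56),(24,38),(58,14),(20,24),(60,20),(61,20),(62,20),(63,52),(59,64),(65,54),(66,66),(64,59),(68,43),(67,69),(50,43),(64,71),(70,72),(54,43),(64,74),(73,75),(57,76),(77,73),(14,32),(18,79),(80,55),(43,54),(59,82),(83,83),(75,84),(81,85),(15,17),(14,87),(88,32),(43,43),(50,90),(89,91),(83,75),(75,93),(92,94)]),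
  (2, 5, 23, [7,1,18,6,4,8,3,0,5,21,11,10,13,12,14,15,19,17,2,16,20,9,22,23], [5,4,2,3,22,7,12,20,13,6,0,9,15,18,19,11,8,16,17,1,10,21,14,23],
    [(0,1),(1,2),(1,3),(1,4),(1,5),(0,6),(1,7),(1,1),(9,9),(0,10),(1,0),(0,12),(11,13),(1,1),(0,15),(16,16),(16,17),(14,18),(8,19),(10,10),(21,0),(11,0),(23,12),(22,24),(25,16),(26,24),(22,22),(28,22),(29,24),(16,16),(16,31),(16,32),(16,33),(16,34),(16,35),(30,36),(27,37),(38,14),(20,39),(24,26),(22,22),(42,24),(16,16),(43,44),(41,45),(14,16),(22,47),(14,44),(42,49),(48,50),(46,51),(52,52),(24,45),(50,14),(14,55),(54,56),(53,57),(45,26),(48,14),(50,60),(59,61),(62,38),(58,63),(40,64),(54,24),(66,55),(62,62),(67,68),(69,69),(26,45),(50,48),(14,72),(71,73),(38,74),(70,75),(29,22),(77,22),(78,22),(79,22),(14,32),(80,81),(14,48),(82,83),(84,52),(58,38),(85,86),(76,87),(65,88),(89,76),(16,18),(16,91),(16,92),(93,50),(62,62),(38,95),(94,96),(58,58),(87,98),(76,99),(97,100),(50,39),(19,102),(103,96),(76,98),(104,105),(76,76),(106,107)]),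
  (2, 7, 7, [22,15,18,3,4,17,6,14,20,16,10,13,12,11,7,1,9,5,2,19,8,21,0,23], [0,1,15,8,2,4,14,16,22,17,19,12,3,9,7,13,20,5,21,11,18,6,10,23],
    [(1,0),(1,2),(1,3),(0,4),(1,5),(0,6),(1,7),(1,8),(0,9),(1,10),(0,11),(1,1),(13,13),(13,14),(0,15),(1,0),(0,17),(16,18),(1,1),(1,20),(19,21),(12,22),(16,0),(24,17),(15,25),(26,15),(19,1),(1,28),(19,29),(27,30),(19,31),(23,32),(15,15),(34,25),(1,1),(35,36),(37,25),(19,36),(34,39),(19,40),(31,41),(38,42),(27,25),(44,29),(45,25),(46,37),(31,19),(19,48),(47,49),(45,37),(51,25),(15,15),(53,15),(54,15),(1,1),(1,56),(1,57),(19,58),(55,59),(52,60),(50,61),(25,45),(63,25),(19,31),(40,65),(64,66),(62,67),(43,68),(33,69),(25,37),(71,19),(38,45),(73,41),(72,74),(67,67),(75,76),(70,77),(50,50),(40,19),(25,80),(43,81),(79,82),(62,43),(83,84),(78,85),(1,21),(1,87),(1,88),(31,19),(19,90),(89,91),(92,67),(62,62),(93,94),(19,1),(1,96),(1,97),(62,31),(31,99),(98,100),(43,81),(62,102),(81,103),(101,104),(77,43),(62,106),(105,107),(85,85),(108,109)]),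
  (2, 7, 11, [3,22,9,0,4,13,11,19,8,2,16,6,12,5,20,15,10,17,18,7,14,21,1,23], [2,15,5,16,8,21,17,13,1,6,7,11,22,12,18,14,10,0,19,4,20,9,3,23],
    [(1,1),(0,2),(1,3),(1,4),(0,5),(1,1),(7,7),(7,8),(0,9),(10,0),(1,0),(1,12),(11,13),(6,14),(10,9),(0,12),(16,17),(18,18),(9,9),(20,9),(1,1),(1,22),(0,23),(21,24),(14,14),(25,26),(19,27),(21,0),(29,23),(18,30),(31,14),(30,32),(25,14),(18,34),(35,25),(25,36),(33,37),(38,28),(28,39),(15,40),(30,32),(19,30),(43,26),(42,44),(35,25),(28,46),(35,47),(45,48),(33,30),(50,36),(32,44),(28,35),(25,53),(52,54),(55,38),(51,56),(57,55),(49,58),(41,59),(14,14),(14,61),(14,62),(14,63),(14,64),(14,65),(14,66),(14,67),(35,25),(28,69),(68,70),(71,38),(52,30),(73,53),(44,74),(75,51),(28,38),(38,77),(55,78),(76,79),(80,57),(49,81),(72,82),(61,70),(55,28),(84,85),(45,32),(87,47),(74,88),(44,74),(90,88),(28,38),(49,92),(28,93),(91,94),(89,95),(96,80),(86,97)]),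
  (2, 7, 23, [14,18,15,3,4,8,6,22,5,11,10,9,12,16,0,2,13,20,1,19,17,21,7,23], [11,17,18,16,12,5,22,20,15,3,21,10,2,13,1,0,7,4,14,8,6,19,9,23],
    [(1,0),(1,0),(0,3),(1,4),(0,5),(1,1),(7,7),(7,8),(9,9),(10,0),(1,1),(11,12),(0,9),(14,0),(15,9),(16,0),(13,17),(18,18),(17,17),(20,17),(21,13),(6,6),(6,23),(22,24),(19,25),(17,17),(9,0),(28,9),(0,1),(1,30),(0,31),(29,32),(27,33),(26,34),(0,12),(10,36),(35,37),(6,38),(6,39),(35,40),(6,41),(2,42),(37,24),(21,44),(43,45),(6,37),(47,45),(25,48),(49,35),(46,50),(25,18),(52,45),(18,25),(54,47),(53,55),(56,53),(45,47),(18,58),(59,49),(49,60),(59,61),(57,62),(51,63),(55,53),(65,53),(66,55),(49,59),(49,68),(67,69),(53,53),(35,35),(71,72),(59,69),(66,74),(63,75),(73,76),(70,77),(78,78),(64,79),(6,6),(6,81),(35,82),(35,47),(83,84),(49,49),(49,86),(85,87),(73,75),(88,89),(90,78),(35,45),(47,92),(47,93),(81,94),(49,59),(49,96),(49,97),(95,98),(73,63),(75,100),(99,101)]),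
  (2, 11, 11, [9,1,14,7,17,11,6,3,15,0,22,5,12,13,2,8,16,4,18,20,19,21,10,23], [18,14,2,8,12,4,9,6,11,1,16,10,15,21,22,20,7,5,17,13,19,0,3,23],
    [(1,0),(1,1),(3,3),(4,4),(3,5),(0,6),(1,0),(0,8),(7,9),(2,10),(6,6),(12,6),(13,6),(1,1),(0,15),(14,16),(0,1),(6,18),(12,0),(1,15),(1,21),(20,22),(19,23),(17,24),(7,0),(26,8),(27,17),(10,19),(19,29),(28,30),(31,31),(25,32),(11,33),(6,0),(35,1),(17,36),(37,23),(36,27),(39,36),(23,10),(40,41),(38,42),(43,42),(31,25),(31,45),(25,46),(44,47),(38,42),(49,42),(50,42),(31,31),(31,52),(25,53),(51,54),(48,55),(34,56),(42,38),(58,31),(44,38),(60,46),(59,61),(25,31),(42,63),(48,64),(55,65),(62,66),(57,67),(42,42),(69,42),(70,38),(31,25),(31,72),(31,73),(71,74),(75,59),(42,42),(77,38),(78,42),(31,25),(25,80),(31,81),(25,82),(79,83),(76,84),(68,85),(31,25),(19,87),(64,56),(88,89),(90,48),(23,10),(25,87),(31,93),(31,94),(92,95),(85,48),(96,97),(98,85)]),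
  (2, 11, 23, [18,8,2,4,3,5,9,19,1,6,20,11,12,13,14,21,16,22,0,7,10,15,17,23], [12,11,18,3,17,16,0,8,10,20,14,22,5,9,19,6,13,15,21,2,4,1,7,23],
    [(1,0),(1,2),(1,1),(4,4),(5,5),(4,6),(7,7),(1,1),(0,9),(8,10),(3,11),(7,0),(13,1),(0,1),(7,15),(11,16),(14,17),(8,0),(19,9),(7,7),(21,7),(22,0),(1,1),(1,24),(23,25),(16,11),(26,27),(28,18),(20,29),(1,0),(0,31),(1,32),(1,33),(30,34),(18,35),(12,36),(14,20),(38,16),(0,7),(40,0),(41,7),(42,7),(20,14),(0,25),(22,45),(44,46),(39,47),(48,11),(43,49),(39,50),(51,29),(35,18),(52,53),(54,29),(39,29),(56,39),(35,18),(35,58),(57,59),(55,60),(61,48),(37,62),(35,18),(18,64),(35,65),(11,66),(39,50),(68,50),(48,18),(18,70),(69,71),(48,53),(51,73),(48,74),(72,75),(29,76),(77,29),(61,48),(78,79),(76,80),(29,54),(48,74),(61,83),(82,84),(81,85),(48,79),(77,87),(61,88),(86,89),(67,90),(86,86),(91,92),(16,35),(61,74),(61,95),(48,96),(94,97),(61,89),(98,99),(100,86)]),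
  (2, 23, 23, [5,10,22,15,20,0,6,7,21,9,1,18,12,17,14,3,16,13,11,19,4,8,2,23], [14,19,13,17,21,2,8,10,5,20,15,1,4,16,22,9,0,7,6,12,11,18,3,23],
    [(1,0),(1,2),(0,3),(1,4),(1,5),(0,6),(1,1),(8,8),(8,9),(9,9),(11,11),(10,12),(0,13),(14,13),(15,0),(1,1),(1,17),(1,18),(16,19),(0,1),(13,21),(20,22),(20,23),(7,24),(0,13),(26,0),(1,1),(27,28),(20,20),(29,30),(31,31),(25,32),(13,0),(34,1),(29,35),(36,29),(13,13),(1,0),(0,39),(38,40),(41,41),(22,42),(37,43),(35,29),(45,29),(22,41),(46,47),(29,35),(41,22),(41,50),(49,51),(52,52),(31,53),(48,54),(55,55),(44,56),(33,57),(48,48),(13,13),(60,13),(61,13),(1,0),(1,63),(0,64),(62,65),(66,66),(67,41),(59,68),(69,52),(29,29),(71,35),(22,41),(41,73),(72,74),(70,75),(48,75),(52,52),(52,78),(77,79),(75,80),(44,55),(81,82),(76,83),(70,75),(81,55),(55,86),(85,87),(88,81),(84,89),(58,90),(48,48),(92,48),(44,52),(93,94),(95,44),(76,96),(97,82),(84,81),(88,99),(98,100),(91,101),(41,20),(22,103),(44,52),(52,105),(31,106),(104,107),(81,57),(108,109),(81,88),(110,111),(101,101),(112,113),(31,52),(52,115),(103,116),(81,55),(44,118),(117,119),(120,84)]),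
  (3, 3, 11, [13,1,18,10,3,5,12,16,15,9,4,0,19,11,7,20,14,2,17,6,8,21,22,23], [20,19,17,2,12,15,5,1,8,14,0,11,22,13,21,6,16,3,18,7,10,9,4,23],
    [(1,1),(0,2),(1,3),(0,4),(1,5),(1,6),(0,0),(1,0),(8,9),(8,8),(0,0),(1,12),(11,13),(14,10),(10,15),(14,16),(10,17),(7,18),(1,1),(8,20),(21,0),(11,20),(23,12),(22,24),(25,24),(14,10),(14,27),(10,28),(26,29),(22,22),(10,10),(14,32),(31,33),(30,34),(34,35),(34,36),(30,37),(19,38),(31,24),(40,32),(41,41),(30,30),(42,43),(44,44),(39,45),(26,22),(47,28),(41,48),(49,48),(50,41),(30,34),(30,52),(51,53),(48,48),(34,34),(55,56),(54,57),(58,54),(44,44),(44,60),(44,61),(59,62),(46,63),(54,57),(65,57),(34,53),(50,67),(68,44),(68,69),(66,70),(57,57),(72,57),(73,57),(44,68),(68,75),(74,76),(71,77),(78,71),(79,71),(57,54),(44,44),(68,82),(44,83),(81,84),(80,85),(64,86),(10,14),(10,88),(14,89),(14,90),(34,34),(91,92),(68,44),(68,94),(93,95),(57,54),(97,54),(44,68),(44,99),(98,100),(101,63),(96,102),(103,86),(90,35),(44,94),(44,106),(68,107),(105,108),(63,102),(109,110)]),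
  (3, 3, 23, [0,3,2,6,15,20,1,14,8,22,10,9,21,13,16,18,7,12,4,5,19,17,11,23], [3,17,0,2,15,5,6,18,7,13,9,19,12,10,1,22,16,14,8,21,20,11,4,23],
    [(1,0),(0,0),(1,1),(3,4),(1,0),(0,6),(5,7),(8,8),(2,9),(5,3),(11,6),(12,12),(3,3),(0,0),(1,15),(14,16),(8,8),(17,18),(13,19),(10,20),(14,4),(22,15),(23,23),(24,12),(17,17),(25,26),(27,27),(13,23),(29,18),(28,30),(8,26),(24,32),(33,33),(20,34),(33,35),(31,36),(30,27),(33,20),(20,39),(38,40),(37,41),(37,42),(21,43),(38,30),(45,39),(31,27),(47,35),(46,48),(49,46),(50,48),(37,41),(37,52),(41,53),(51,54),(55,55),(44,56),(46,46),(58,48),(59,48),(60,46),(41,41),(37,62),(41,63),(37,64),(61,65),(48,66),(37,55),(67,68),(69,69),(57,70),(17,17),(2,72),(33,20),(73,74),(41,42),(37,76),(37,77),(41,78),(75,79),(55,37),(80,81),(82,69),(1,1),(0,84),(0,85),(1,86),(20,20),(87,88),(41,41),(37,90),(41,91),(37,92),(89,93),(94,55)]),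
  (3, 5, 5, [11,14,19,12,4,21,2,3,5,9,13,18,7,16,17,15,10,1,0,6,20,8,22,23], [14,22,2,3,12,9,17,13,21,18,8,20,0,10,15,4,1,16,11,19,5,7,6,23],
    [(0,1),(0,2),(0,0),(1,1),(5,5),(4,6),(1,0),(0,8),(7,9),(0,0),(1,11),(4,12),(10,13),(10,14),(3,15),(7,4),(17,8),(4,4),(19,6),(20,0),(21,21),(22,18),(13,13),(10,24),(13,25),(23,26),(18,27),(10,10),(28,29),(10,30),(28,31),(28,32),(16,33),(18,18),(23,21),(36,25),(37,10),(35,38),(39,38),(40,18),(10,10),(28,42),(10,43),(28,44),(41,45),(46,28),(18,18),(48,38),(49,18),(50,38),(21,18),(52,21),(13,13),(10,54),(10,55),(53,56),(51,57),(38,58),(47,59),(28,28),(60,61),(34,62),(39,18),(64,38),(28,43),(10,66),(65,67),(38,68),(69,28),(38,70),(38,38),(18,38),(73,18),(74,38),(28,10),(28,76),(10,77),(75,78),(72,79),(80,28),(38,81),(71,82),(63,83),(13,15),(13,85),(28,30),(60,87),(86,88),(21,21),(90,18),(91,18),(10,13),(13,93),(92,94),(10,10),(28,96),(10,97),(28,98),(95,99),(100,28),(101,69),(18,102),(28,10),(28,104),(103,105),(106,28),(69,107),(60,108),(89,109),(110,71),(60,60),(111,112),(14,32),(28,106),(69,115),(60,116),(114,117),(71,80),(60,119),(118,120),(121,60)]),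
  (3, 5, 7, [21,13,15,2,11,8,0,20,12,9,10,19,5,17,14,3,16,1,7,4,18,6,22,23], [15,1,10,22,14,8,6,21,13,0,9,4,11,7,18,2,3,16,12,17,20,5,19,23],
    [(1,0),(0,2),(1,3),(0,4),(0,5),(0,0),(7,7),(0,0),(1,9),(8,10),(1,1),(12,12),(7,13),(14,7),(1,0),(1,16),(15,17),(11,18),(6,19),(8,13),(21,9),(22,22),(18,18),(23,24),(22,22),(14,13),(0,16),(27,28),(26,29),(11,18),(11,31),(30,32),(33,33),(25,34),(25,35),(20,36),(29,22),(38,22),(11,11),(18,40),(39,41),(25,33),(42,43),(29,29),(11,11),(45,46),(33,25),(47,48),(44,49),(49,50),(44,51),(37,52),(47,42),(54,25),(55,55),(49,49),(49,57),(44,58),(56,59),(44,49),(44,61),(55,62),(63,60),(60,64),(53,65),(42,47),(67,33),(68,55),(69,68),(49,49),(44,71),(49,72),(70,73),(66,74),(11,11),(49,44),(76,77),(60,63),(78,79),(74,74),(80,81),(18,19),(25,25),(33,84),(25,85),(83,86),(87,49),(63,79),(88,89),(90,81)]),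
  (3, 5, 11, [0,1,2,16,8,22,6,19,14,10,15,17,3,11,4,9,12,13,5,21,20,7,18,23], [14,0,1,3,8,2,13,7,16,4,21,15,11,19,5,10,22,17,6,20,18,12,9,23],
    [(1,0),(1,2),(1,3),(1,1),(5,5),(0,0),(7,7),(8,6),(9,7),(10,6),(0,0),(1,12),(0,13),(11,14),(6,15),(16,6),(1,14),(10,18),(1,1),(19,20),(17,21),(22,22),(15,6),(24,15),(1,19),(1,26),(25,27),(23,28),(29,22),(15,15),(31,15),(7,6),(33,6),(0,0),(1,35),(1,36),(0,37),(34,38),(32,39),(30,40),(1,1),(41,42),(41,43),(4,44),(6,6),(46,15),(19,1),(1,48),(47,49),(41,50),(45,51),(22,22),(53,22),(24,6),(19,26),(55,56),(57,50),(57,58),(54,59),(22,22),(61,28),(50,57),(50,63),(62,64),(65,60),(60,66),(52,67),(22,28),(69,28),(50,50),(50,71),(70,72),(28,22),(74,22),(50,50),(57,76),(75,77),(73,78),(79,73),(80,73),(28,22),(50,57),(57,83),(82,84),(81,85),(86,86),(68,87),(82,28),(89,83),(65,60),(60,91),(60,92),(90,93),(94,94),(7,7),(96,6),(97,6),(98,7),(1,0),(1,100),(99,101),(19,19),(19,103),(102,104),(50,50),(57,106),(50,107),(105,108),(65,41),(109,110),(111,86),(95,112),(113,113),(88,114),(0,2),(1,116),(1,42),(117,118),(119,50),(120,60),(73,94),(41,65),(122,123),(124,87),(121,125),(126,114),(57,51),(60,65),(65,129),(128,130),(111,124),(131,132)]),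
  (3, 5, 23, [4,1,15,5,14,8,9,16,3,11,10,6,2,22,0,12,17,7,18,19,13,21,20,23], [21,3,1,7,12,13,6,20,8,10,16,18,19,15,17,11,0,4,5,14,2,9,22,23],
    [(1,0),(0,2),(1,3),(1,1),(5,5),(0,1),(6,7),(0,0),(0,0),(1,10),(1,11),(9,12),(13,8),(8,14),(4,15),(6,9),(17,1),(9,9),(19,6),(20,6),(21,0),(18,22),(23,22),(13,8),(8,25),(24,26),(27,27),(22,18),(29,22),(8,13),(8,31),(30,32),(28,33),(18,18),(35,22),(8,8),(13,37),(8,38),(36,39),(34,40),(29,18),(13,31),(42,43),(23,18),(13,25),(45,46),(47,47),(44,48),(41,49),(16,50),(41,41),(51,52),(36,18),(54,38),(47,47),(44,56),(55,57),(33,58),(44,41),(59,60),(53,61),(58,33),(41,44),(63,64),(58,58),(66,33),(67,58),(41,41),(44,69),(68,70),(65,71),(33,33),(73,58),(74,58),(44,44),(41,76),(41,77),(44,78),(75,79),(72,80),(81,81),(62,82),(8,8),(13,84),(41,44),(41,86),(44,87),(85,88),(41,70),(67,90),(91,61),(61,92),(89,93),(94,82),(41,47),(47,96),(8,97),(98,87),(61,61),(99,100)]),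
  (3, 7, 7, [5,20,4,9,7,14,12,2,6,18,10,17,8,13,0,15,11,16,3,1,19,21,22,23], [0,2,21,20,7,22,13,12,5,3,8,18,15,19,14,9,6,11,16,17,4,10,1,23],
    [(1,0),(1,2),(0,0),(4,4),(0,0),(1,6),(5,7),(8,1),(1,9),(1,10),(3,11),(1,1),(13,13),(13,14),(15,15),(16,15),(1,1),(8,18),(17,19),(5,15),(21,6),(15,22),(1,1),(1,24),(1,25),(23,26),(20,27),(20,28),(12,29),(16,22),(1,18),(31,32),(33,33),(34,33),(20,27),(27,36),(35,37),(38,38),(30,39),(15,15),(41,15),(42,15),(8,1),(43,44),(33,45),(46,45),(27,20),(20,48),(47,49),(45,33),(51,45),(20,20),(20,53),(52,54),(50,55),(46,33),(27,48),(57,58),(38,38),(59,60),(56,61),(50,55),(63,55),(59,38),(64,65),(27,27),(27,67),(33,68),(50,69),(66,70),(71,62),(62,72),(40,73),(74,71),(27,20),(20,76),(20,77),(1,78),(38,59),(71,80),(71,81),(79,82),(83,62),(71,71),(84,85),(8,9),(8,87),(88,78),(71,38),(89,90),(55,50),(38,59),(38,93),(92,94),(62,95),(71,96),(95,97),(91,98)]),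
  (3, 7, 11, [22,14,10,3,5,8,6,2,4,9,7,19,11,0,21,18,15,17,16,12,20,1,13,23], [19,1,10,18,12,6,3,15,8,13,21,4,2,5,11,20,0,9,17,7,22,14,16,23],
    [(0,1),(1,2),(0,3),(1,4),(0,5),(0,0),(1,1),(8,8),(8,9),(7,10),(11,10),(12,12),(13,12),(14,12),(15,12),(16,12),(10,7),(18,10),(1,1),(0,20),(19,21),(17,22),(12,12),(24,12),(1,0),(1,26),(27,27),(27,28),(23,29),(25,30),(31,23),(23,32),(23,33),(6,34),(10,10),(36,7),(0,1),(1,38),(37,39),(27,27),(27,41),(27,42),(27,43),(27,44),(40,45),(25,46),(47,29),(46,48),(23,31),(49,50),(31,31),(51,52),(35,53),(48,46),(31,23),(55,56),(46,48),(58,48),(23,23),(59,60),(61,52),(57,62),(51,51),(51,64),(63,65),(48,48),(46,46),(31,23),(31,69),(68,70),(67,71),(67,57),(51,51),(52,74),(73,75),(72,76),(66,77),(54,78),(23,27),(27,80),(27,81),(23,82),(83,23),(51,51),(84,85),(52,51),(57,87),(86,88),(27,27),(27,90),(27,91),(27,92),(23,93),(27,94),(23,23),(31,96),(23,97),(23,98),(31,99),(95,100),(101,72),(102,66)]),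
  (3, 7, 23, [6,19,14,2,4,8,15,18,16,17,10,9,7,13,3,0,5,11,12,22,20,21,1,23], [17,6,22,9,12,5,8,2,19,10,13,1,16,21,14,18,7,11,3,0,4,15,20,23],
    [(0,1),(1,2),(1,1),(4,4),(4,5),(0,0),(6,7),(1,1),(8,9),(10,10),(10,11),(3,12),(6,6),(0,1),(14,15),(7,6),(17,6),(18,6),(10,10),(10,20),(10,21),(10,22),(19,23),(16,24),(25,24),(10,10),(10,27),(10,28),(26,29),(16,16),(31,16),(32,16),(33,16),(1,0),(1,35),(1,36),(34,37),(38,30),(30,39),(13,40),(38,38),(30,42),(16,16),(44,16),(45,16),(38,10),(38,47),(46,48),(49,49),(50,24),(30,30),(30,52),(51,53),(43,54),(43,55),(43,56),(41,57),(50,49),(38,52),(59,60),(24,24),(62,49),(61,63),(64,61),(54,43),(54,66),(43,67),(65,68),(69,69),(58,70),(63,61),(72,63),(73,54),(74,74),(63,63),(43,43),(54,77),(54,78),(76,79),(54,43),(43,81),(61,82),(80,83),(75,84),(85,85),(71,86),(38,12),(38,38),(38,89),(88,90),(43,43),(54,92),(43,93),(91,94),(80,69),(95,96),(97,86),(38,11),(10,99),(38,39),(38,101),(30,102),(100,103),(54,43),(54,105),(104,106),(107,80),(108,86)]),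
  (3, 11, 11, [0,7,15,21,2,17,22,20,18,5,8,6,12,13,14,4,3,9,10,19,1,16,11,23], [15,19,6,11,20,4,21,18,10,3,0,13,2,8,7,5,12,17,16,14,9,22,1,23],
    [(1,0),(1,2),(1,3),(1,4),(1,1),(6,6),(7,7),(6,8),(9,9),(1,1),(0,11),(10,12),(13,13),(5,14),(0,0),(9,16),(17,1),(10,16),(19,11),(18,20),(21,18),(0,1),(9,23),(13,24),(24,25),(13,26),(22,27),(20,18),(29,20),(13,24),(24,31),(24,32),(30,33),(34,34),(34,35),(34,36),(28,37),(15,38),(18,20),(40,18),(41,18),(24,13),(13,43),(42,44),(45,45),(22,20),(47,26),(46,48),(34,34),(28,50),(34,51),(49,52),(45,45),(54,45),(34,34),(34,56),(28,57),(55,58),(53,59),(53,60),(59,61),(59,62),(53,63),(39,64),(55,48),(66,57),(67,67),(49,45),(69,51),(68,70),(59,59),(53,72),(59,73),(71,74),(70,70),(76,59),(71,67),(78,73),(77,79),(70,67),(81,70),(53,59),(59,83),(59,84),(82,85),(80,86),(53,53),(67,88),(87,89),(75,90),(65,91),(92,87),(24,14),(5,94),(28,34),(28,96),(34,97),(95,98),(99,61),(89,89),(100,101),(24,24),(13,103),(24,104),(2,105),(34,28),(28,107),(28,108),(106,109),(110,53),(111,101),(112,87)]),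
  (3, 11, 23, [21,20,2,0,4,14,17,19,8,9,16,6,10,1,22,7,12,11,18,15,13,3,5,23], [1,18,16,17,13,4,2,20,9,10,22,0,7,21,11,8,12,5,3,19,15,14,6,23],
    [(1,1),(2,2),(3,3),(2,4),(5,5),(1,1),(0,7),(6,8),(0,0),(10,10),(1,1),(1,12),(11,13),(9,14),(14,15),(14,16),(9,17),(1,18),(6,10),(20,7),(14,14),(14,22),(21,23),(24,24),(24,25),(19,26),(5,5),(28,5),(0,0),(29,30),(21,31),(32,21),(14,9),(33,34),(31,31),(36,31),(37,9),(35,38),(39,35),(9,34),(32,41),(24,42),(24,43),(40,44),(42,42),(24,46),(45,47),(45,48),(27,49),(39,38),(42,43),(51,52),(53,53),(42,24),(24,55),(35,56),(54,57),(50,58),(35,35),(60,38),(61,61),(62,53),(63,61),(45,47),(64,65),(53,61),(38,35),(68,38),(69,42),(45,45),(70,71),(67,72),(47,45),(47,74),(73,75),(66,76),(58,58),(77,78),(79,79),(59,80),(14,14),(9,82),(9,83),(14,84),(24,42),(42,86),(24,87),(42,88),(85,89),(47,45),(47,91),(90,92),(67,61),(58,74),(94,95),(58,96),(93,97),(98,79),(42,89),(24,100),(82,101),(102,49),(61,53),(47,47),(45,105),(47,106),(104,107),(108,108),(103,109)]),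
  (3, 23, 23, [1,4,3,10,0,5,17,7,8,6,2,14,12,19,22,15,20,9,16,21,18,13,11,23], [13,11,18,22,15,14,4,19,20,12,7,16,10,5,3,9,6,1,0,21,17,2,8,23],
    [(1,1),(2,2),(2,3),(3,3),(5,5),(4,6),(0,0),(7,8),(9,8),(0,1),(1,11),(10,12),(9,7),(0,11),(14,15),(16,16),(17,16),(18,16),(19,16),(20,16),(7,7),(1,1),(0,23),(22,24),(21,25),(13,13),(26,27),(13,28),(13,29),(0,30),(22,8),(32,23),(13,13),(13,34),(13,35),(13,36),(13,37),(33,38),(16,39),(40,39),(13,13),(13,42),(13,43),(41,44),(26,45),(26,46),(26,47),(31,48),(16,16),(50,16),(51,16),(26,13),(26,53),(52,54),(55,55),(26,26),(26,57),(56,58),(45,26),(26,60),(59,61),(49,62),(39,55),(64,39),(39,39),(66,39),(45,45),(67,68),(65,69),(70,65),(59,59),(59,72),(59,73),(71,74),(65,69),(59,59),(61,77),(76,78),(79,75),(75,80),(63,81),(69,69),(83,65),(59,61),(84,85),(86,86),(69,69),(88,69),(89,65),(61,59),(59,91),(59,92),(90,93),(87,94),(82,95),(26,13),(13,97),(98,47),(59,62),(59,100),(99,101),(95,75),(102,103),(26,97),(26,26),(45,106),(26,107),(45,108),(105,109),(59,59),(59,111),(61,112),(59,113),(110,114),(75,79),(95,116),(115,117),(95,95),(118,119)]),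
  (5, 5, 5, [1,20,12,21,7,5,6,19,9,10,3,11,16,14,2,17,13,4,22,15,18,8,0,23], [0,6,7,19,17,21,15,18,3,8,9,14,22,5,1,11,16,2,4,10,20,12,13,23],
    [(1,1),(1,2),(1,3),(0,4),(1,1),(6,6),(7,7),(0,0),(9,9),(10,10),(0,0),(1,12),(11,13),(8,14),(7,7),(16,7),(15,1),(15,18),(17,19),(20,15),(15,21),(15,22),(5,23),(20,20),(11,7),(26,12),(1,1),(27,28),(7,29),(30,29),(1,1),(1,32),(31,33),(29,34),(35,29),(15,20),(20,37),(36,38),(39,25),(25,40),(24,41),(34,34),(34,29),(44,34),(20,15),(15,46),(45,47),(43,48),(49,43),(39,25),(39,51),(25,52),(39,53),(50,54),(25,39),(48,56),(55,57),(42,58),(15,1),(1,60),(15,15),(15,62),(20,63),(61,64),(65,41),(48,43),(67,39),(43,48),(69,48),(70,48),(39,39),(25,72),(71,73),(68,74),(48,48),(76,48),(77,43),(78,48),(29,34),(15,15),(20,81),(15,82),(80,83),(79,84),(75,85),(86,58),(66,87),(15,2),(15,89),(15,90),(15,63),(15,92),(91,93),(39,39),(94,95),(96,87),(97,86)]),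
  (5, 5, 7, [15,9,2,4,11,17,14,3,8,20,10,18,19,6,5,1,12,13,7,22,0,16,21,23], [14,0,9,16,2,5,19,1,3,15,21,10,12,13,20,17,6,4,11,8,7,22,18,23],
    [(0,0),(0,0),(1,3),(4,4),(2,5),(1,1),(7,7),(0,0),(9,9),(8,10),(11,10),(1,0),(12,13),(10,10),(15,8),(14,16),(17,14),(10,8),(0,1),(0,20),(19,21),(22,22),(4,23),(18,24),(14,14),(4,4),(4,27),(26,28),(25,25),(29,30),(25,31),(6,32),(29,29),(33,34),(14,14),(36,16),(4,22),(22,38),(37,39),(40,40),(41,40),(25,25),(29,43),(42,44),(16,16),(46,16),(22,22),(47,48),(49,49),(45,50),(51,45),(41,49),(25,43),(53,54),(34,55),(55,56),(34,57),(52,58),(55,34),(55,60),(50,61),(59,62),(35,63),(50,45),(65,45),(66,34),(52,50),(68,57),(67,69),(45,45),(71,50),(72,45),(73,50),(55,34),(34,75),(55,76),(55,77),(74,78),(70,79),(45,50),(81,45),(40,49),(83,40),(29,25),(29,85),(29,86),(84,87),(82,88),(80,89),(90,90),(64,91),(5,31),(55,34),(34,94),(90,95),(93,96),(50,45),(98,50),(99,45),(100,45),(55,55),(34,102),(55,103),(34,104),(101,105),(106,59),(90,107),(97,108),(25,29),(29,110),(29,111),(29,112),(22,113),(55,95),(114,115),(90,59),(62,117),(116,118)]),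
  (5, 5, 11, [18,15,9,16,12,6,8,7,10,4,22,3,21,1,20,0,14,17,13,19,11,2,5,23], [5,19,14,4,8,1,20,3,18,2,10,11,0,15,6,21,16,13,7,12,9,22,17,23],
    [(1,1),(1,1),(3,3),(4,4),(0,0),(0,6),(5,7),(8,8),(2,9),(0,0),(11,11),(12,12),(13,12),(1,1),(14,15),(16,16),(17,16),(18,16),(19,16),(20,16),(21,16),(22,16),(23,16),(24,16),(12,4),(1,0),(0,27),(26,28),(25,29),(26,12),(31,27),(8,8),(8,33),(8,34),(8,35),(8,36),(8,37),(8,38),(8,39),(8,40),(32,41),(16,42),(43,42),(8,8),(8,45),(8,46),(44,47),(30,48),(48,49),(30,50),(10,51),(48,30),(48,53),(42,54),(52,55),(16,16),(57,16),(58,16),(30,8),(30,60),(59,61),(42,62),(63,62),(64,30),(42,42),(66,62),(30,48),(30,68),(67,69),(42,42),(48,48),(71,72),(55,73),(70,74),(65,75),(62,62),(30,30),(77,78),(79,65),(70,55),(80,81),(82,82),(76,83),(56,84),(79,65),(62,42),(87,42),(30,30),(48,89),(88,90),(86,91),(92,55),(65,91),(55,73),(94,95),(93,96),(79,79),(70,73),(70,99),(98,100),(97,101),(85,102),(30,8),(30,104),(30,105),(8,106),(8,107),(48,30),(30,109),(30,110),(108,111),(112,70),(102,82),(76,114),(113,115),(116,102),(8,104),(8,118),(8,119),(8,120),(121,111),(70,70),(70,123),(73,124),(122,125),(82,76),(102,127),(126,128)]),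
  (5, 5, 23, [9,17,2,15,0,13,6,3,20,1,18,14,12,16,5,22,11,4,8,7,21,10,19,23], [0,12,5,11,22,15,10,1,3,8,14,13,4,9,17,21,2,20,18,19,6,16,7,23],
    [(0,0),(1,1),(3,3),(0,0),(5,5),(6,4),(7,6),(0,0),(0,9),(1,10),(8,11),(4,12),(6,6),(14,4),(0,0),(1,16),(0,17),(15,18),(13,19),(2,20),(13,13),(21,22),(6,6),(24,6),(25,4),(1,0),(0,27),(26,28),(29,1),(4,30),(31,4),(32,4),(1,1),(13,34),(33,35),(30,36),(37,30),(4,4),(39,30),(13,1),(1,41),(1,42),(40,43),(44,44),(38,45),(30,30),(46,47),(36,36),(44,13),(13,50),(49,51),(52,22),(52,53),(48,54),(47,46),(52,22),(22,57),(56,58),(56,47),(60,57),(46,47),(62,46),(4,30),(19,19),(64,65),(66,44),(30,67),(63,68),(61,69),(70,55),(59,71),(55,72),(23,73),(66,66),(44,75),(66,76),(20,77),(22,52),(70,79),(78,80),(81,73),(70,70),(82,83),(1,19),(1,85),(13,86),(13,75),(87,88),(89,80),(70,59),(55,91),(90,92),(93,83)]),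
  (5, 7, 7, [12,16,2,7,13,15,20,0,8,4,18,22,19,5,1,9,11,17,21,3,10,6,14,23], [21,20,10,18,13,2,0,7,9,15,12,17,4,19,8,16,1,6,11,5,14,3,22,23],
    [(0,1),(0,2),(1,3),(0,4),(1,1),(6,6),(6,7),(8,8),(0,0),(0,10),(9,11),(0,0),(13,13),(14,14),(15,14),(1,1),(16,17),(18,18),(19,18),(20,18),(21,18),(22,18),(23,18),(24,18),(14,8),(26,14),(1,0),(1,28),(27,29),(25,30),(12,12),(12,32),(31,33),(31,34),(12,35),(5,36),(18,18),(26,8),(0,28),(39,40),(12,12),(12,42),(12,43),(12,44),(12,45),(12,46),(12,47),(41,48),(38,49),(50,18),(12,12),(31,52),(31,53),(51,54),(55,31),(55,56),(55,57),(37,58),(50,49),(12,53),(60,61),(62,62),(63,62),(31,55),(31,65),(64,66),(49,49),(68,62),(31,31),(55,70),(31,71),(69,72),(67,73),(62,49),(75,49),(55,55),(55,77),(76,78),(62,62),(55,31),(31,81),(80,82),(74,83),(79,84),(74,85),(59,86),(49,62),(88,49),(55,55),(89,90),(79,83),(91,92),(91,91),(83,83),(79,95),(94,96),(97,97),(93,98),(87,99),(31,12),(31,101),(12,102),(31,31),(55,104),(55,105),(103,106),(83,85),(107,108),(74,97),(109,110),(12,34),(12,112),(113,104),(83,83),(83,115),(74,116),(114,117),(93,93),(74,119),(118,120)]),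
  (5, 7, 11, [20,11,8,17,1,18,9,7,21,16,4,13,12,10,19,15,14,22,3,6,2,0,5,23], [10,21,20,3,1,7,6,8,12,17,4,16,15,19,0,9,22,5,14,2,11,18,13,23],
    [(0,1),(0,2),(1,1),(4,4),(4,5),(6,6),(0,1),(7,8),(9,9),(10,9),(11,9),(0,0),(13,13),(0,0),(1,15),(14,16),(12,17),(6,14),(1,1),(19,20),(18,21),(18,22),(3,23),(9,9),(21,21),(18,26),(25,27),(18,28),(28,29),(18,30),(28,31),(24,32),(14,14),(34,6),(35,0),(21,21),(21,37),(21,38),(36,39),(28,18),(40,41),(25,40),(43,26),(40,44),(45,18),(46,46),(44,44),(47,48),(44,40),(50,44),(51,40),(18,18),(18,53),(28,54),(28,55),(52,56),(49,57),(28,28),(58,59),(42,60),(42,61),(33,62),(46,48),(64,46),(65,46),(59,42),(66,67),(40,40),(69,40),(70,44),(71,44),(18,28),(28,73),(18,74),(72,75),(42,42),(59,77),(76,78),(68,79),(46,48),(58,42),(81,82),(80,83),(48,46),(42,59),(59,86),(85,87),(58,88),(84,89),(63,90),(91,84),(21,22),(21,93),(18,18),(28,95),(94,96),(46,46),(98,48),(99,46),(42,42),(59,101),(42,102),(59,103),(100,104),(105,88),(97,106),(84,84),(107,108),(18,23),(110,32),(111,62)]),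
  (5, 7, 23, [16,19,15,17,0,14,1,21,3,10,6,11,12,22,8,13,7,5,18,9,2,4,20,23], [16,18,7,17,15,21,3,0,2,12,8,6,11,13,10,5,14,19,22,9,20,1,4,23],
    [(0,0),(0,2),(1,3),(0,0),(5,5),(6,1),(7,7),(7,8),(7,9),(4,10),(6,6),(1,1),(13,13),(13,14),(12,15),(15,0),(16,17),(0,0),(1,19),(20,20),(18,21),(11,22),(16,16),(7,20),(24,25),(17,17),(27,16),(28,17),(20,7),(29,30),(22,22),(22,32),(22,33),(22,34),(22,35),(31,36),(26,37),(38,37),(22,22),(22,40),(39,41),(42,37),(26,26),(44,26),(26,26),(46,26),(47,26),(48,26),(49,26),(17,16),(7,7),(20,52),(7,53),(51,54),(50,55),(56,22),(56,57),(45,58),(59,56),(59,60),(43,61),(62,62),(23,63),(26,37),(65,26),(66,26),(22,22),(56,68),(22,69),(56,70),(67,71),(37,72),(73,56),(37,74),(37,42),(76,42),(56,59),(77,78),(73,62),(79,80),(81,73),(75,82),(64,83),(20,9),(7,85),(56,22),(22,87),(56,88),(56,89),(86,90),(59,56),(56,92),(59,93),(91,94),(95,83),(22,22),(56,97),(7,98),(99,62),(75,81),(100,101)]),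
  (5, 11, 11, [15,2,10,7,9,4,6,13,5,11,14,8,12,20,22,17,0,21,3,19,18,16,1,23], [12,17,4,7,9,10,16,19,15,3,2,18,21,1,14,22,0,5,8,13,11,20,6,23],
    [(1,0),(0,2),(1,1),(4,4),(5,5),(4,6),(7,7),(0,0),(0,9),(8,10),(11,11),(11,12),(11,13),(11,14),(3,15),(0,0),(17,17),(7,18),(19,1),(20,20),(21,20),(0,1),(7,23),(11,24),(22,25),(26,26),(18,18),(28,18),(1,1),(29,30),(31,20),(24,24),(11,33),(32,34),(27,35),(20,31),(24,24),(24,38),(37,39),(40,40),(36,41),(40,42),(36,43),(36,44),(16,45),(20,20),(47,31),(24,11),(48,49),(40,40),(50,51),(26,26),(53,26),(54,52),(40,40),(40,56),(55,57),(52,58),(59,52),(60,58),(26,26),(62,26),(63,26),(36,40),(40,65),(36,66),(64,67),(61,68),(36,36),(69,70),(46,71),(52,52),(73,58),(74,36),(36,57),(54,76),(69,77),(58,78),(36,36),(77,80),(52,81),(79,82),(75,83),(69,82),(75,85),(79,86),(84,87),(72,88),(11,24),(24,90),(11,91),(40,44),(92,93),(36,77),(94,95),(84,79),(96,97),(36,40),(36,99),(14,100),(77,36),(36,102),(77,103),(77,104),(101,105),(106,97)]),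
  (5, 11, 23, [13,10,8,19,2,18,17,7,5,0,3,16,21,11,14,1,9,12,4,15,6,20,22,23], [22,17,6,15,4,2,19,3,12,5,9,20,21,10,8,11,18,0,7,1,14,16,13,23],
    [(1,0),(0,2),(0,3),(1,4),(1,1),(6,6),(7,7),(6,8),(0,1),(9,10),(5,11),(0,0),(13,13),(9,14),(15,1),(16,16),(17,16),(1,1),(14,19),(11,11),(20,21),(18,22),(16,16),(20,11),(24,25),(23,26),(26,27),(23,28),(26,29),(23,30),(23,31),(12,32),(9,9),(34,0),(16,35),(11,11),(36,37),(17,35),(11,21),(39,40),(38,41),(42,41),(43,38),(44,38),(23,26),(26,46),(26,47),(23,48),(23,49),(45,50),(51,51),(33,52),(38,38),(54,41),(26,26),(55,56),(23,23),(57,58),(59,59),(42,38),(61,38),(62,41),(63,41),(23,46),(26,65),(26,66),(64,67),(41,68),(41,41),(23,56),(54,71),(70,72),(73,51),(69,74),(60,75),(41,41),(73,23),(77,78),(73,73),(79,80),(76,81),(53,82),(76,76),(83,84),(11,11),(11,86),(11,87),(88,26),(51,23),(23,90),(73,91),(73,92),(89,93),(79,73),(94,95),(96,84),(20,20),(20,98),(26,30),(99,100),(101,93),(102,79),(103,84)]),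
  (5, 23, 23, [3,21,6,14,22,1,19,12,0,7,16,17,11,13,20,15,2,9,18,10,8,4,5,23], [14,17,21,22,9,3,1,19,4,13,20,6,16,15,8,18,7,10,2,11,5,12,0,23],
    [(1,0),(0,2),(0,3),(1,1),(5,5),(5,6),(6,6),(8,8),(7,9),(0,0),(10,11),(1,0),(1,13),(12,14),(4,15),(14,14),(12,17),(0,0),(19,19),(20,20),(21,1),(14,12),(22,23),(18,24),(16,25),(20,10),(27,10),(28,28),(29,22),(30,30),(18,18),(24,32),(31,33),(22,28),(35,12),(36,36),(37,30),(38,30),(18,24),(24,40),(39,41),(30,36),(43,36),(18,24),(24,45),(18,46),(44,47),(42,48),(49,34),(49,50),(34,51),(26,52),(49,49),(53,54),(12,12),(12,56),(18,18),(18,58),(57,59),(60,50),(31,36),(62,32),(42,63),(64,42),(36,30),(66,36),(24,24),(18,68),(18,69),(67,70),(34,34),(71,72),(34,73),(65,74),(61,75),(14,56),(12,77),(71,50),(49,79),(78,80),(81,49),(42,42),(34,34),(83,84),(63,63),(86,42),(87,63),(34,71),(71,89),(88,90),(85,91),(49,75),(92,93),(94,94),(82,95)]),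
  (7, 7, 7, [6,18,0,19,5,16,7,10,3,9,13,17,21,20,8,14,1,4,11,12,2,15,22,23], [0,9,5,8,19,18,11,21,20,2,7,14,16,6,10,12,3,17,4,1,22,13,15,23],
    [(1,0),(0,2),(0,3),(1,4),(1,5),(1,1),(7,7),(7,8),(9,9),(10,9),(11,9),(0,0),(13,13),(13,14),(15,15),(0,0),(0,17),(1,18),(16,19),(12,20),(21,1),(21,22),(21,23),(21,24),(1,25),(6,26),(9,9),(1,1),(21,29),(28,30),(31,21),(27,32),(16,15),(34,9),(35,17),(1,1),(1,37),(1,38),(36,39),(28,40),(41,29),(42,40),(31,31),(43,44),(33,45),(42,42),(21,31),(47,48),(40,40),(50,40),(31,21),(51,52),(49,53),(40,42),(21,21),(21,56),(55,57),(58,45),(58,59),(45,60),(54,61),(46,62),(53,49),(64,49),(65,58),(54,53),(67,49),(68,59),(66,69),(49,49),(71,49),(72,53),(73,53),(40,40),(21,21),(31,76),(75,77),(74,78),(70,79),(63,80),(1,1),(21,32),(31,83),(21,84),(31,85),(82,86),(58,58),(87,88),(53,53),(90,53),(58,45),(45,92),(45,93),(91,94),(80,95),(89,96),(97,80),(1,82),(1,99),(21,31),(21,101),(21,102),(100,103),(45,45),(45,105),(104,106),(80,62),(62,108),(107,109),(80,80),(110,111)]),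
  (7, 7, 11, [7,8,5,14,22,9,2,17,16,1,0,12,20,10,13,4,6,3,18,11,15,21,19,23], [13,18,17,9,4,11,14,21,2,15,0,8,16,6,12,19,10,7,3,20,1,5,22,23],
    [(0,0),(0,2),(1,3),(0,4),(0,0),(6,6),(6,7),(0,0),(1,9),(8,10),(8,8),(1,1),(13,13),(13,14),(12,15),(16,0),(17,17),(18,17),(19,17),(8,15),(1,0),(0,22),(21,23),(20,24),(25,11),(25,26),(25,27),(11,28),(5,29),(17,17),(31,17),(32,17),(11,11),(25,34),(25,35),(33,36),(25,25),(25,38),(37,39),(30,40),(21,8),(42,22),(11,11),(11,44),(11,45),(43,46),(47,47),(31,47),(49,47),(11,34),(11,51),(50,52),(48,53),(25,25),(54,55),(47,53),(25,37),(57,58),(37,55),(48,60),(61,59),(59,62),(56,63),(53,47),(37,25),(65,66),(56,67),(47,47),(69,47),(37,25),(25,71),(37,72),(70,73),(74,74),(68,75),(64,76),(41,77),(11,11),(11,79),(11,80),(11,81),(82,39),(83,59),(56,67),(59,59),(61,86),(85,87),(84,88),(76,64),(90,90),(89,91),(28,37),(61,59),(93,94),(64,88),(76,96),(88,97),(95,98),(99,91)]),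
  (7, 7, 23, [14,5,15,9,19,18,6,7,11,13,22,21,4,17,12,0,8,1,3,2,10,20,16,23], [11,18,14,7,22,5,9,21,12,15,17,6,4,13,19,10,1,0,20,16,2,8,3,23],
    [(1,0),(1,2),(1,3),(0,0),(5,5),(5,6),(7,7),(1,1),(9,9),(9,10),(8,11),(0,0),(0,13),(12,14),(15,15),(16,15),(11,11),(1,1),(0,19),(18,20),(17,21),(8,7),(1,13),(23,24),(22,25),(22,26),(22,27),(4,28),(29,22),(18,7),(31,19),(25,25),(25,33),(32,34),(35,35),(36,35),(15,15),(38,35),(25,25),(25,40),(25,41),(39,42),(43,43),(37,44),(45,45),(35,35),(22,43),(43,48),(47,49),(46,50),(38,15),(52,15),(22,40),(53,54),(55,35),(43,22),(43,57),(56,58),(55,55),(22,22),(22,61),(60,62),(59,63),(59,64),(51,65),(30,66),(45,45),(63,63),(59,69),(59,70),(68,71),(35,55),(73,55),(22,43),(74,75),(45,76),(77,76),(63,59),(63,79),(78,80),(59,63),(63,82),(76,83),(81,84),(72,85),(67,86),(25,26),(25,88),(25,89),(43,43),(43,91),(22,92),(90,93),(63,59),(59,95),(94,96),(45,76),(98,45),(99,59),(55,35),(101,55),(22,22),(102,103),(63,63),(104,105),(100,106),(45,45),(51,63),(108,109),(107,110),(111,111),(97,112),(43,22),(22,114),(22,115),(43,116),(88,117),(51,59),(118,119),(51,84),(120,121),(122,112)]),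
  (7, 11, 11, [1,13,0,10,20,6,18,17,2,9,5,22,4,7,3,11,14,8,16,19,21,15,12,23], [0,21,3,13,2,19,22,1,7,11,18,10,20,8,16,6,9,14,5,12,17,15,4,23],
    [(0,0),(2,2),(2,3),(1,1),(5,5),(6,6),(5,7),(4,8),(9,4),(1,0),(1,11),(10,12),(13,1),(13,14),(0,15),(8,8),(9,8),(0,11),(18,19),(17,20),(21,1),(8,20),(1,13),(1,24),(23,25),(22,26),(1,1),(13,28),(8,29),(22,22),(20,8),(32,8),(13,1),(33,34),(35,30),(31,36),(37,36),(20,8),(13,13),(13,40),(39,41),(38,42),(27,30),(43,44),(30,45),(27,46),(16,47),(20,20),(49,20),(1,13),(50,51),(30,30),(27,53),(27,54),(52,55),(56,56),(27,27),(57,58),(36,56),(60,36),(61,56),(22,36),(43,30),(63,64),(62,65),(59,66),(43,27),(43,68),(67,69),(48,70),(56,36),(72,36),(27,43),(67,74),(73,75),(36,36),(43,43),(77,78),(79,79),(76,80),(71,81),(13,13),(1,83),(30,30),(27,85),(30,86),(84,87),(88,69),(79,76),(89,90),(67,67),(91,92),(1,13),(13,94),(27,69),(95,96)]),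
  (7, 11, 23, [22,15,9,21,16,20,1,7,0,10,12,11,18,3,5,19,2,8,4,13,17,6,14,23], [22,2,14,1,16,6,20,11,7,5,8,13,17,3,12,18,15,10,19,0,4,21,9,23],
    [(0,0),(0,2),(1,3),(0,4),(0,0),(6,6),(6,7),(8,8),(9,8),(1,0),(1,11),(10,12),(8,1),(14,13),(14,15),(13,16),(5,17),(14,14),(18,19),(1,1),(21,21),(22,22),(21,23),(24,0),(25,25),(8,24),(27,24),(0,0),(0,29),(28,30),(25,31),(32,31),(13,14),(13,34),(14,35),(33,36),(37,19),(37,38),(26,39),(25,31),(41,25),(42,25),(13,14),(43,44),(26,45),(14,44),(14,47),(41,48),(49,19),(19,50),(46,51),(40,52),(37,53),(40,54),(20,55),(37,37),(40,57),(56,58),(33,25),(60,35),(61,61),(26,61),(63,61),(64,19),(62,65),(46,26),(67,50),(68,61),(69,65),(70,68),(40,52),(52,72),(37,73),(71,74),(66,75),(76,76),(59,77),(13,14),(19,49),(37,80),(49,81),(79,82),(37,52),(40,84),(37,85),(83,86),(87,76),(13,79),(13,89),(37,49),(49,91),(90,92),(52,85),(40,94),(93,95),(40,37),(61,97),(98,57),(96,99),(100,77)]),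
  (7, 23, 23, [0,10,3,6,2,13,7,21,12,16,15,11,14,18,1,17,22,8,9,5,4,20,19,23], [16,18,14,8,2,9,22,12,10,7,15,3,6,1,21,4,20,11,5,17,13,0,19,23],
    [(0,0),(1,2),(0,3),(0,0),(5,5),(5,6),(1,1),(8,8),(8,9),(9,9),(11,11),(10,12),(7,13),(0,0),(14,15),(13,13),(17,13),(0,1),(18,19),(7,7),(1,0),(21,22),(20,23),(16,24),(25,16),(26,24),(13,7),(1,1),(1,29),(28,30),(16,31),(32,23),(23,33),(27,34),(16,16),(36,16),(37,16),(38,24),(23,23),(23,40),(23,41),(39,42),(43,35),(44,24),(32,34),(26,46),(32,42),(38,48),(47,49),(45,50),(35,51),(16,16),(53,24),(54,16),(7,7),(56,13),(57,7),(0,0),(1,59),(1,60),(58,61),(55,62),(43,63),(52,64),(23,23),(23,66),(23,67),(65,68),(4,69),(65,32),(70,71),(72,47),(24,35),(74,32),(35,75),(43,35),(77,43),(16,16),(79,24),(23,23),(23,81),(32,82),(23,83),(23,84),(80,85),(78,86),(76,87),(65,88),(73,89),(79,16),(91,24),(92,16),(93,16),(32,81),(94,95),(47,49),(49,97),(96,98),(47,32),(24,100),(101,47),(99,102),(57,13),(0,60),(104,105),(23,23),(32,107),(23,108),(106,109),(110,49),(32,50),(44,112),(113,47),(111,114),(103,115),(116,103),(65,101),(75,118),(117,119),(120,120),(90,121),(32,23),(23,123),(23,124),(4,125),(88,32),(126,127),(88,101),(47,129),(128,130),(88,65),(131,132),(133,121),(23,125),(32,135),(1,136),(137,32),(88,47),(47,139),(138,140),(88,88),(65,142),(141,143),(144,120)]),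
  (11, 11, 11, [17,13,18,12,20,7,2,8,10,1,0,4,6,21,9,15,5,11,22,16,19,3,14,23], [2,3,16,14,0,9,19,4,8,10,11,17,18,6,15,21,20,22,13,5,1,7,12,23],
    [(1,1),(1,2),(1,3),(0,0),(5,5),(6,6),(5,7),(1,1),(9,9),(10,10),(9,11),(8,12),(0,1),(0,14),(13,15),(0,0),(1,17),(8,18),(19,19),(16,20),(16,21),(4,22),(16,16),(16,24),(23,25),(12,8),(27,8),(1,0),(28,29),(8,8),(31,12),(32,0),(33,30),(34,30),(35,30),(16,19),(19,37),(36,38),(30,39),(40,39),(16,16),(41,42),(39,39),(44,30),(34,33),(16,37),(16,47),(46,48),(16,16),(16,50),(49,51),(45,52),(53,53),(43,54),(55,55),(26,56),(16,19),(30,30),(49,16),(49,60),(59,61),(53,62),(53,63),(58,64),(65,55),(30,30),(67,30),(68,39),(49,49),(16,70),(69,71),(72,43),(62,62),(53,74),(73,75),(66,76),(19,20),(19,78),(19,79),(49,49),(16,81),(80,82),(62,62),(62,84),(83,85),(43,43),(62,62),(62,88),(53,89),(87,90),(91,56),(86,92),(76,76),(93,94)]),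
  (11, 11, 23, [12,3,20,14,18,19,0,16,11,4,9,21,13,10,22,15,1,5,8,2,7,6,17,23], [22,2,11,15,8,5,16,18,14,12,3,0,21,9,1,4,13,19,20,6,17,7,10,23],
    [(1,0),(0,2),(1,3),(0,4),(0,0),(6,6),(7,7),(6,8),(9,9),(1,1),(11,11),(12,12),(11,13),(10,14),(1,1),(0,16),(15,17),(5,18),(14,14),(20,9),(0,0),(1,22),(21,23),(14,14),(0,0),(0,26),(25,27),(28,18),(24,29),(9,9),(31,9),(1,1),(32,33),(34,24),(28,28),(28,36),(35,37),(38,30),(30,39),(34,34),(41,34),(18,28),(42,43),(24,34),(45,18),(44,46),(38,38),(38,48),(47,49),(40,50),(19,51),(46,44),(53,46),(44,46),(55,44),(30,30),(30,57),(56,58),(54,59),(60,59),(46,46),(62,46),(30,38),(38,64),(63,65),(40,66),(40,67),(61,68),(44,44),(70,44),(30,38),(71,72),(73,73),(66,40),(66,75),(74,76),(69,77),(52,78),(59,54),(80,54),(66,40),(66,82),(81,83),(54,59),(50,40),(85,86),(84,87),(79,88),(28,28),(30,30),(30,91),(38,92),(38,93),(90,94),(66,40),(95,96),(88,78),(97,98),(99,88),(18,18),(28,101),(38,91),(30,103),(102,104),(66,50),(105,106),(77,69),(77,108),(107,109),(110,88)]),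
  (11, 23, 23, [6,1,21,12,10,18,8,11,19,3,20,2,0,15,16,9,5,13,7,22,14,4,17,23], [4,7,15,19,10,17,3,12,5,18,16,0,8,2,6,14,22,11,1,9,13,20,21,23],
    [(0,0),(1,2),(0,3),(1,4),(0,0),(6,6),(7,7),(6,8),(9,9),(10,9),(1,0),(1,12),(11,13),(1,1),(15,15),(15,16),(16,16),(18,18),(17,19),(20,9),(1,1),(21,22),(14,23),(14,24),(5,25),(9,20),(27,20),(0,0),(0,29),(28,30),(31,31),(20,20),(0,1),(33,34),(35,35),(36,31),(37,31),(14,23),(14,39),(23,40),(38,41),(14,14),(42,43),(32,44),(26,45),(35,31),(47,31),(48,35),(23,23),(14,50),(14,51),(49,52),(31,35),(54,35),(55,35),(23,14),(14,57),(56,58),(43,42),(59,60),(45,45),(61,62),(53,63),(64,32),(32,53),(66,43),(67,67),(53,32),(54,31),(23,57),(23,71),(70,72),(69,73),(68,74),(43,42),(75,76),(65,77),(78,67),(67,67),(80,67),(81,67),(53,32),(43,43),(42,84),(83,85),(82,86),(53,32),(88,63),(75,42),(43,90),(89,91),(87,92),(79,93),(92,45),(67,95),(96,75),(94,97),(46,98),(23,23),(14,100),(75,43),(42,102),(42,103),(75,104),(101,105),(45,45),(45,107),(106,108),(32,32),(110,53),(43,42),(111,112),(45,45),(45,114),(45,115),(113,116),(117,63),(78,117),(45,92),(119,120),(118,121),(78,63),(75,45),(92,124),(123,125),(122,126),(75,87),(127,128),(109,129),(127,127),(130,131),(23,100),(14,133),(75,42),(42,135),(42,136),(42,137),(134,138),(45,92),(139,140),(141,128),(142,127)]),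
  (23, 23, 23, [3,21,20,2,0,17,22,18,6,12,13,9,1,5,19,11,7,15,14,4,8,16,10,23], [22,15,16,1,9,18,19,0,11,12,5,13,17,2,8,4,3,10,21,7,6,20,14,23],
    [(1,0),(0,0),(3,3),(3,4),(4,4),(6,6),(5,7),(0,0),(1,9),(1,10),(8,11),(1,1),(13,13),(13,14),(14,14),(16,16),(15,17),(18,18),(19,18),(0,0),(0,21),(0,22),(20,23),(24,24),(24,25),(12,26),(2,27),(8,8),(29,18),(30,18),(31,0),(8,8),(33,8),(34,8),(1,1),(1,36),(35,37),(32,38),(12,12),(12,40),(39,41),(38,32),(43,32),(12,12),(24,45),(44,46),(47,47),(42,48),(28,49),(32,32),(51,38),(12,24),(12,53),(52,54),(55,55),(47,47),(47,57),(42,58),(56,59),(60,60),(50,61),(32,32),(63,32),(24,12),(64,65),(66,55),(67,66),(47,42),(68,69),(42,69),(67,71),(72,72),(60,73),(70,74),(62,75),(70,70),(56,55),(78,66),(79,57),(77,80),(81,72),(82,82),(70,80),(60,60),(72,85),(84,86),(83,87),(88,88),(76,89),(47,48),(26,91),(60,61),(72,93),(92,94),(80,80),(60,72),(72,97),(96,98),(99,99),(95,100),(101,88),(12,24),(24,103),(72,72),(72,105),(60,106),(60,107),(104,108),(109,88)])]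

end Cfsg.Agent.Lib.helper23
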