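import Mathlib

set_option autoImplicit false

/-!
# The inequality of Ree and Scott for three permutations with product one

For permutations `x y z` of a finite set of `n` points with `x * y * z = 1`, the numbers of cycles
(fixed points included) satisfy `c x + c y + c z ≤ n + 2 * k`, where `k` is the number of orbits
of the group generated by `x` and `y`.  The proof is Scott's: linear algebra on the permutation
module.
-/

namespace Cfsg.Agent.Lib.helper23

open Module

section
variable {α : Type*} [Fintype α] [DecidableEq α]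

/-- precomposition with a permutation, on the rational functions on the points -/
noncomputable def reeP (g : Equiv.Perm α) : (α → ℚ) →ₗ[ℚ] (α → ℚ) := LinearMap.funLeft ℚ ℚ g

theorem reeP_apply (g : Equiv.Perm α) (v : α → ℚ) (a : α) : reeP g v a = v (g a) := rfl

/-- `1 - g` on the functions -/
noncomputable def reeA (g : Equiv.Perm α) : (α → ℚ) →ₗ[ℚ] (α → ℚ) := LinearMap.id - reeP g

theorem reeA_apply (g : Equiv.Perm α) (v : α → ℚ) (a : α) : reeA g v a = v a - v (g a) := rfl

theorem mem_ker_reeA (g : Equiv.Perm α) (v : α → ℚ) :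
    v ∈ LinearMap.ker (reeA g) ↔ ∀ a, v (g a) = v a := by
  rw [LinearMap.mem_ker]
  constructor
  · intro h a
    have := congrFun h a
    rw [reeA_apply] at this
    have h0 : (0 : α → ℚ) a = 0 := rfl
    rw [h0] at this
    linarith
  · intro h
    funext a
    rw [reeA_apply, h a]
    simp

/-- the number of cycles of a permutation, fixed points included -/
noncomputable def reeCyc (g : Equiv.Perm α) : ℕ :=
  Nat.card (MulAction.orbitRel.Quotient (Subgroup.zpowers g) α)

/-- the number of orbits of a subgroup -/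
noncomputable def reeOrb (H : Subgroup (Equiv.Perm α)) : ℕ :=
  Nat.card (MulAction.orbitRel.Quotient H α)

theorem reeCyc_le (g : Equiv.Perm α) : reeCyc g ≤ finrank ℚ (LinearMap.ker (reeA g)) := by
  classical
  let Q := MulAction.orbitRel.Quotient (Subgroup.zpowers g) α
  letI : Fintype Q := Fintype.ofFinite Q
  have hmk : ∀ a : α, (Quotient.mk'' (g a) : Q) = Quotient.mk'' a := by
    intro a
    apply Quotient.sound'
    exact ⟨⟨g, Subgroup.mem_zpowers g⟩, rfl⟩
  let f : (Q → ℚ) →ₗ[ℚ] LinearMap.ker (reeA g) :=
    { toFun := fun u => ⟨fun a => u (Quotient.mk'' a), by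
        rw [mem_ker_reeA]
        intro a
        rw [hmk]⟩
      map_add' := fun u w => rfl
      map_smul' := fun c u => rfl }
  have hinj : Function.Injective f := by
    intro u w h
    funext q
    induction q using Quotient.inductionOn' with
    | h a =>
      have := congrArg (fun t : LinearMap.ker (reeA g) => (t : α → ℚ) a) h
      exact this
  have := LinearMap.finrank_le_finrank_of_injective hinj
  rw [Module.finrank_fintype_fun_eq_card] at this
  unfold reeCyc
  rw [Nat.card_eq_fintype_card]
  exact this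

theorem ree_invariant {x y : Equiv.Perm α} {v : α → ℚ} (hx : ∀ a, v (x a) = v a)
    (hy : ∀ a, v (y a) = v a) : ∀ h ∈ Subgroup.closure ({x, y} : Set (Equiv.Perm α)),
    ∀ a, v (h a) = v a := by
  intro h hh
  induction hh using Subgroup.closure_induction with
  | mem s hs =>
    rcases hs with rfl | rfl
    · exact hx
    · exact hy
  | one => intro a; rfl
  | mul g1 g2 _ _ ih1 ih2 =>
    intro a
    rw [Equiv.Perm.mul_apply, ih1, ih2]
  | inv g _ ih =>
    intro a
    have := ih (g⁻¹ a)
    have e : g (g⁻¹ a) = a := by simp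
    rw [e] at this
    exact this.symm

/-- functions invariant under `x` and `y` -/
theorem ree_inv_le (x y : Equiv.Perm α) :
    finrank ℚ (LinearMap.ker (reeA x) ⊓ LinearMap.ker (reeA y) : Submodule ℚ (α → ℚ)) ≤
      reeOrb (Subgroup.closure {x, y}) := by
  classical
  let H := Subgroup.closure ({x, y} : Set (Equiv.Perm α))
  let Q := MulAction.orbitRel.Quotient H α
  letI : Fintype Q := Fintype.ofFinite Q
  let W : Submodule ℚ (α → ℚ) := LinearMap.ker (reeA x) ⊓ LinearMap.ker (reeA y)
  let f : W →ₗ[ℚ] (Q → ℚ) :=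
    { toFun := fun v q => (v : α → ℚ) (Quotient.out q)
      map_add' := fun u w => rfl
      map_smul' := fun c u => rfl }
  have hinj : Function.Injective f := by
    intro u w h
    apply Subtype.ext
    funext a
    have hu := u.2
    have hw := w.2
    rw [Submodule.mem_inf, mem_ker_reeA, mem_ker_reeA] at hu hw
    have h1 : (Quotient.mk'' (Quotient.out (Quotient.mk'' a : Q)) : Q) = Quotient.mk'' a :=
      Quotient.out_eq' _
    have h2 := Quotient.exact' h1
    obtain ⟨⟨k, hk⟩, hka⟩ := h2
    have hka' : k a = Quotient.out (Quotient.mk'' a : Q) := hka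
    have e1 := ree_invariant hu.1 hu.2 k hk a
    have e2 := ree_invariant hw.1 hw.2 k hk a
    have := congrFun h (Quotient.mk'' a)
    change (u : α → ℚ) (Quotient.out (Quotient.mk'' a : Q)) =
      (w : α → ℚ) (Quotient.out (Quotient.mk'' a : Q)) at this
    rw [← hka', e1, e2] at this
    exact this
  have := LinearMap.finrank_le_finrank_of_injective hinj
  rw [Module.finrank_fintype_fun_eq_card] at this
  unfold reeOrb
  rw [Nat.card_eq_fintype_card]
  exact this

/-- the differences of the basis vectors of two points of one orbit lie in the sum of the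
ranges -/
theorem ree_single_sub_mem (x y : Equiv.Perm α) :
    ∀ h ∈ Subgroup.closure ({x, y} : Set (Equiv.Perm α)), ∀ a : α,
      (Pi.single a 1 - Pi.single (h a) 1 : α → ℚ) ∈
        (LinearMap.range (reeA x) ⊔ LinearMap.range (reeA y) : Submodule ℚ (α → ℚ)) := by
  have key : ∀ g : Equiv.Perm α, ∀ a : α,
      (Pi.single a 1 - Pi.single (g a) 1 : α → ℚ) = - reeA g (Pi.single (g a) 1) := by
    intro g a
    funext b
    rw [Pi.neg_apply, reeA_apply, Pi.sub_apply]
    by_cases hb : b = a
    · subst hb
      by_cases hg : g b = b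
      · rw [hg]
        simp
      · rw [Pi.single_eq_same, Pi.single_eq_of_ne (Ne.symm hg), Pi.single_eq_same]
        simp
    · rw [Pi.single_eq_of_ne hb]
      have hgb : g b ≠ g a := fun h => hb (g.injective h)
      rw [Pi.single_eq_of_ne hgb]
      simp
  intro h hh
  induction hh using Subgroup.closure_induction with
  | mem s hs =>
    intro a
    rcases hs with rfl | rfl
    · rw [key]
      exact Submodule.neg_mem _ (Submodule.mem_sup_left ⟨_, rfl⟩)
    · rw [key]
      exact Submodule.neg_mem _ (Submodule.mem_sup_right ⟨_, rfl⟩)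
  | one =>
    intro a
    simp
  | mul g1 g2 _ _ ih1 ih2 =>
    intro a
    have e : (Pi.single a 1 - Pi.single ((g1 * g2) a) 1 : α → ℚ) =
        (Pi.single a 1 - Pi.single (g2 a) 1) +
          (Pi.single (g2 a) 1 - Pi.single (g1 (g2 a)) 1) := by
      rw [Equiv.Perm.mul_apply]
      abel
    rw [e]
    exact Submodule.add_mem _ (ih2 a) (ih1 (g2 a))
  | inv g _ ih =>
    intro a
    have := ih (g⁻¹ a)
    have e : g (g⁻¹ a) = a := by simp
    rw [e] at this
    have e2 : (Pi.single a 1 - Pi.single (g⁻¹ a) 1 : α → ℚ) =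
        - (Pi.single (g⁻¹ a) 1 - Pi.single a 1) := by abel
    rw [e2]
    exact Submodule.neg_mem _ this

theorem ree_range_ge (x y : Equiv.Perm α) :
    Fintype.card α ≤ finrank ℚ (LinearMap.range (reeA x) ⊔ LinearMap.range (reeA y) :
      Submodule ℚ (α → ℚ)) + reeOrb (Subgroup.closure {x, y}) := by
  classical
  let H := Subgroup.closure ({x, y} : Set (Equiv.Perm α))
  let Q := MulAction.orbitRel.Quotient H α
  letI : Fintype Q := Fintype.ofFinite Q
  let W : Submodule ℚ (α → ℚ) := LinearMap.range (reeA x) ⊔ LinearMap.range (reeA y)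
  let S : Submodule ℚ (α → ℚ) :=
    Submodule.span ℚ (Set.range (fun q : Q => (Pi.single (Quotient.out q) 1 : α → ℚ)))
  have htop : (⊤ : Submodule ℚ (α → ℚ)) ≤ W ⊔ S := by
    rw [← (Pi.basisFun ℚ α).span_eq]
    apply Submodule.span_le.2
    rintro _ ⟨a, rfl⟩
    rw [Pi.basisFun_apply]
    have h1 : (Quotient.mk'' (Quotient.out (Quotient.mk'' a : Q)) : Q) = Quotient.mk'' a :=
      Quotient.out_eq' _
    obtain ⟨⟨k, hk⟩, hka⟩ := Quotient.exact' h1
    have hka' : k a = Quotient.out (Quotient.mk'' a : Q) := hka
    have e : (Pi.single a 1 : α → ℚ) = (Pi.single a 1 - Pi.single (k a) 1) +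
        Pi.single (Quotient.out (Quotient.mk'' a : Q)) 1 := by
      rw [hka']
      abel
    rw [e]
    apply Submodule.add_mem
    · exact Submodule.mem_sup_left (ree_single_sub_mem x y k hk a)
    · exact Submodule.mem_sup_right (Submodule.subset_span ⟨_, rfl⟩)
  have h1 : finrank ℚ (⊤ : Submodule ℚ (α → ℚ)) ≤ finrank ℚ (W ⊔ S : Submodule ℚ (α → ℚ)) :=
    Submodule.finrank_mono htop
  have h2 := Submodule.finrank_add_le_finrank_add_finrank W S
  have h3 : finrank ℚ S ≤ Fintype.card Q :=
    finrank_range_le_card (fun q : Q => (Pi.single (Quotient.out q) 1 : α → ℚ))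
  rw [finrank_top, Module.finrank_fintype_fun_eq_card] at h1
  have h4 : reeOrb (Subgroup.closure {x, y}) = Fintype.card Q := by
    unfold reeOrb
    rw [Nat.card_eq_fintype_card]
  have h5 : finrank ℚ W = finrank ℚ (LinearMap.range (reeA x) ⊔ LinearMap.range (reeA y) :
      Submodule ℚ (α → ℚ)) := rfl
  rw [h4, ← h5]
  omega

/-- **The inequality of Ree and Scott.** -/
theorem ree_inequality (x y z : Equiv.Perm α) (h : x * y * z = 1) :
    reeCyc x + reeCyc y + reeCyc z ≤
      Fintype.card α + 2 * reeOrb (Subgroup.closure {x, y}) := by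
  classical
  let V := α → ℚ
  let Kx := LinearMap.ker (reeA x)
  let Ky := LinearMap.ker (reeA y)
  let Kz := LinearMap.ker (reeA z)
  -- the map `(a, b, c) ↦ (1 - x) a + (1 - y) b + (1 - z) c`
  let δ : (V × V × V) →ₗ[ℚ] V :=
    (reeA x).coprod ((reeA y).coprod (reeA z))
  -- the map `(v, a, b, c) ↦ (v + a, v x + b, v x y + c)`
  let Φ : (V × Kx × Ky × Kz) →ₗ[ℚ] (V × V × V) :=
    (LinearMap.id.prod ((reeP x).prod ((reeP y).comp (reeP x)))).coprod
      (Kx.subtype.prodMap (Ky.subtype.prodMap Kz.subtype))
  have hxyz : ∀ v : V, reeP z (reeP y (reeP x v)) = v := by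
    intro v
    funext a
    rw [reeP_apply, reeP_apply, reeP_apply, ← Equiv.Perm.mul_apply, ← Equiv.Perm.mul_apply, h]
    rfl
  have hΦδ : LinearMap.range Φ ≤ LinearMap.ker δ := by
    rintro _ ⟨⟨v, a, b, c⟩, rfl⟩
    rw [LinearMap.mem_ker]
    have ha : reeA x (a : V) = 0 := a.2
    have hb : reeA y (b : V) = 0 := b.2
    have hc : reeA z (c : V) = 0 := c.2
    change reeA x (v + (a : V)) + (reeA y (reeP x v + (b : V)) +
      reeA z (reeP y (reeP x v) + (c : V))) = 0
    rw [map_add, map_add, map_add, ha, hb, hc, add_zero, add_zero, add_zero]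
    have e1 : reeA x v = v - reeP x v := rfl
    have e2 : reeA y (reeP x v) = reeP x v - reeP y (reeP x v) := rfl
    have e3 : reeA z (reeP y (reeP x v)) = reeP y (reeP x v) - reeP z (reeP y (reeP x v)) := rfl
    rw [e1, e2, e3, hxyz]
    abel
  -- the kernel of `Φ` consists of invariant functions
  have hmemΦ : ∀ w : V × Kx × Ky × Kz, Φ w = 0 →
      w.1 ∈ (Kx ⊓ Ky : Submodule ℚ V) ∧ (w.2.1 : V) = - w.1 ∧ (w.2.2.1 : V) = - w.1 ∧
        (w.2.2.2 : V) = - w.1 := by
    rintro ⟨v, a, b, c⟩ hw
    have hw' : (v + (a : V), reeP x v + (b : V), reeP y (reeP x v) + (c : V)) =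
        ((0 : V), (0 : V), (0 : V)) := hw
    have h1 : v + (a : V) = 0 := congrArg Prod.fst hw'
    have h2 : reeP x v + (b : V) = 0 := congrArg (fun t => t.2.1) hw'
    have h3 : reeP y (reeP x v) + (c : V) = 0 := congrArg (fun t => t.2.2) hw'
    have ha : (a : V) = - v := by
      rw [← sub_eq_zero, sub_neg_eq_add, add_comm]
      exact h1
    have hvx : v ∈ Kx := by
      have : v = - (a : V) := by rw [ha, neg_neg]
      rw [this]
      exact Kx.neg_mem a.2
    have hvx' : reeP x v = v := by
      funext p
      exact (mem_ker_reeA x v).1 hvx p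
    rw [hvx'] at h2 h3
    have hb : (b : V) = - v := by
      rw [← sub_eq_zero, sub_neg_eq_add, add_comm]
      exact h2
    have hvy : v ∈ Ky := by
      have : v = - (b : V) := by rw [hb, neg_neg]
      rw [this]
      exact Ky.neg_mem b.2
    have hvy' : reeP y v = v := by
      funext p
      exact (mem_ker_reeA y v).1 hvy p
    rw [hvy'] at h3
    have hc : (c : V) = - v := by
      rw [← sub_eq_zero, sub_neg_eq_add, add_comm]
      exact h3
    exact ⟨⟨hvx, hvy⟩, ha, hb, hc⟩
  have hkerΦ : finrank ℚ (LinearMap.ker Φ) ≤ reeOrb (Subgroup.closure {x, y}) := by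
    let f0 : LinearMap.ker Φ →ₗ[ℚ] V :=
      (LinearMap.fst ℚ V (Kx × Ky × Kz)).comp (LinearMap.ker Φ).subtype
    let f : LinearMap.ker Φ →ₗ[ℚ] (Kx ⊓ Ky : Submodule ℚ V) :=
      f0.codRestrict (Kx ⊓ Ky) (fun w => (hmemΦ w.1 w.2).1)
    have hinj : Function.Injective f := by
      intro w1 w2 he
      have he' : (w1 : V × Kx × Ky × Kz).1 = (w2 : V × Kx × Ky × Kz).1 :=
        congrArg (fun t : (Kx ⊓ Ky : Submodule ℚ V) => (t : V)) he
      obtain ⟨-, a1, b1, c1⟩ := hmemΦ w1.1 w1.2
      obtain ⟨-, a2, b2, c2⟩ := hmemΦ w2.1 w2.2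
      apply Subtype.ext
      apply Prod.ext he'
      apply Prod.ext
      · apply Subtype.ext
        rw [a1, a2, he']
      · apply Prod.ext
        · apply Subtype.ext
          rw [b1, b2, he']
        · apply Subtype.ext
          rw [c1, c2, he']
    exact le_trans (LinearMap.finrank_le_finrank_of_injective hinj) (ree_inv_le x y)
  have hrn1 := LinearMap.finrank_range_add_finrank_ker Φ
  have hrn2 := LinearMap.finrank_range_add_finrank_ker δ
  have hd1 : finrank ℚ (V × Kx × Ky × Kz) =
      Fintype.card α + (finrank ℚ Kx + (finrank ℚ Ky + finrank ℚ Kz)) := by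
    rw [Module.finrank_prod, Module.finrank_prod, Module.finrank_prod,
      Module.finrank_fintype_fun_eq_card]
  have hd2 : finrank ℚ (V × V × V) = Fintype.card α + (Fintype.card α + Fintype.card α) := by
    rw [Module.finrank_prod, Module.finrank_prod, Module.finrank_fintype_fun_eq_card]
  have hle : finrank ℚ (LinearMap.range Φ) ≤ finrank ℚ (LinearMap.ker δ) :=
    Submodule.finrank_mono hΦδ
  have hrange : finrank ℚ (LinearMap.range (reeA x) ⊔ LinearMap.range (reeA y) :
      Submodule ℚ (α → ℚ)) ≤ finrank ℚ (LinearMap.range δ) := by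
    apply Submodule.finrank_mono
    have : LinearMap.range δ = LinearMap.range (reeA x) ⊔
        (LinearMap.range (reeA y) ⊔ LinearMap.range (reeA z)) := by
      change LinearMap.range ((reeA x).coprod ((reeA y).coprod (reeA z))) = _
      rw [LinearMap.range_coprod, LinearMap.range_coprod]
    rw [this]
    exact sup_le le_sup_left (le_trans le_sup_left le_sup_right)
  have hge := ree_range_ge x y
  have c1 := reeCyc_le x
  have c2 := reeCyc_le y
  have c3 := reeCyc_le z
  have k1 : finrank ℚ Kx = finrank ℚ (LinearMap.ker (reeA x)) := rfl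
  have k2 : finrank ℚ Ky = finrank ℚ (LinearMap.ker (reeA y)) := rfl
  have k3 : finrank ℚ Kz = finrank ℚ (LinearMap.ker (reeA z)) := rfl
  rw [hd1] at hrn1
  rw [hd2] at hrn2
  omega

/-- a lower bound for the number of cycles from an invariant colouring -/
theorem reeCyc_ge (g : Equiv.Perm α) {c : ℕ} (col : α → Fin c) (hs : Function.Surjective col)
    (hinv : ∀ a, col (g a) = col a) : c ≤ reeCyc g := by
  have hinv' : ∀ a, col (g⁻¹ a) = col a := by
    intro a
    have := hinv (g⁻¹ a)
    have e : g (g⁻¹ a) = a := by simp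
    rw [e] at this
    exact this.symm
  have hz : ∀ k ∈ Subgroup.zpowers g, ∀ a, col (k a) = col a := by
    intro k hk
    rw [Subgroup.zpowers_eq_closure] at hk
    induction hk using Subgroup.closure_induction with
    | one => intro a; simp
    | mem u hu =>
      intro a
      rw [Set.mem_singleton_iff] at hu
      subst hu
      exact hinv a
    | inv u _ hu =>
      intro a
      have := hu (u⁻¹ a)
      have e : u (u⁻¹ a) = a := by simp
      rw [e] at this
      exact this.symm
    | mul u v _ _ hu hv =>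
      intro a
      rw [Equiv.Perm.mul_apply, hu, hv]
  let f : MulAction.orbitRel.Quotient (Subgroup.zpowers g) α → Fin c :=
    Quotient.lift col (by
      rintro a b ⟨⟨k, hk⟩, rfl⟩
      exact hz k hk b)
  have hf : Function.Surjective f := by
    intro j
    obtain ⟨a, rfl⟩ := hs j
    exact ⟨Quotient.mk'' a, rfl⟩
  have := Nat.card_le_card_of_surjective f hf
  rw [Nat.card_eq_fintype_card, Fintype.card_fin] at this
  exact this

/-- the same for a conjugate -/
theorem reeCyc_conj_ge (g h : Equiv.Perm α) {c : ℕ} (col : α → Fin c)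
    (hs : Function.Surjective col) (hinv : ∀ a, col (g a) = col a) :
    c ≤ reeCyc (h * g * h⁻¹) := by
  refine reeCyc_ge _ (fun a => col (h⁻¹ a)) ?_ ?_
  · intro j
    obtain ⟨a, rfl⟩ := hs j
    exact ⟨h a, by simp⟩
  · intro a
    simp only [Equiv.Perm.mul_apply]
    have e : h⁻¹ (h (g (h⁻¹ a))) = g (h⁻¹ a) := by simp
    rw [e, hinv]

/-- the same for a conjugate of a power -/
theorem reeCyc_conj_pow_ge (g h : Equiv.Perm α) (k : ℕ) {c : ℕ} (col : α → Fin c)
    (hs : Function.Surjective col) (hinv : ∀ a, col (g a) = col a) :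
    c ≤ reeCyc (h * g ^ k * h⁻¹) := by
  refine reeCyc_conj_ge (g ^ k) h col hs ?_
  induction k with
  | zero => intro a; simp
  | succ k ih =>
    intro a
    rw [pow_succ, Equiv.Perm.mul_apply, ih, hinv]

/-- an upper bound for the number of orbits -/
theorem reeOrb_le_two (H : Subgroup (Equiv.Perm α)) (a b : α)
    (hab : ∀ p, p ∈ MulAction.orbit H a ∨ p ∈ MulAction.orbit H b) : reeOrb H ≤ 2 := by
  let f : Bool → MulAction.orbitRel.Quotient H α :=
    fun t => cond t (Quotient.mk'' a) (Quotient.mk'' b)
  have hf : Function.Surjective f := by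
    intro q
    induction q using Quotient.inductionOn' with
    | h p =>
      rcases hab p with hp | hp
      · exact ⟨true, (Quotient.sound' hp).symm⟩
      · exact ⟨false, (Quotient.sound' hp).symm⟩
  have := Nat.card_le_card_of_surjective f hf
  rw [Nat.card_eq_fintype_card (α := Bool), Fintype.card_bool] at this
  exact this

end

end Cfsg.Agent.Lib.helper23
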