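import Mathlib
import Cfsg.Prelude.Def_Sporadic_a
import Cfsg.Prelude.Def_Spor_Mathieu
import Cfsg.Agent.Lib.helper4.OutM23
import Cfsg.Agent.Lib.helper4.ElemClassB
import Cfsg.Agent.Lib.helper4.AutRigid
import Cfsg.Agent.Lib.helper23.Ree
import Cfsg.Agent.Lib.helper23.M23GenData

set_option autoImplicit false

/-!
# Generation of the point stabiliser in the group of the length-24 code: the non-existence part

The numbers of cycles of the elements of orders 2, 3, 5, 7 on the 24 points are at least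
16, 12, 8, 6, and the stabiliser has two orbits, so the inequality of Ree and Scott excludes
the triples of primes not on the list.
-/

namespace Cfsg.Agent.Lib.helper23

open Cfsg Cfsg.Agent.Lib.helper4 Cfsg.Agent.Lib.Helper12.Golay

/-- the colouring of the points given by a table -/
def m23Col (c : ℕ) (T : List ℕ) (p : GolayPt) : Fin (c + 1) := Fin.ofNat (c + 1) (T.getD (idx p) 0)

theorem m23_okK : okK rep2A = true ∧ okK rep3A = true ∧ okK m23U5 = true ∧ okK m23U7 = true ∧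
    m23U5.getD 23 0 = 23 ∧ m23U7.getD 23 0 = 23 ∧
    powT m23U5 5 = List.range 24 ∧ m23U5 ≠ List.range 24 ∧
    powT m23U7 7 = List.range 24 ∧ m23U7 ≠ List.range 24 := by
  decide +kernel

theorem m23_col2 : (∀ j : Fin 16, ∃ p, m23Col 15 m23Col2 p = j) ∧
    ∀ p, m23Col 15 m23Col2 (tblFun rep2A p) = m23Col 15 m23Col2 p := by
  decide +kernel

theorem m23_col3 : (∀ j : Fin 12, ∃ p, m23Col 11 m23Col3 p = j) ∧
    ∀ p, m23Col 11 m23Col3 (tblFun rep3A p) = m23Col 11 m23Col3 p := by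
  decide +kernel

theorem m23_col5 : (∀ j : Fin 8, ∃ p, m23Col 7 m23Col5 p = j) ∧
    ∀ p, m23Col 7 m23Col5 (tblFun m23U5 p) = m23Col 7 m23Col5 p := by
  decide +kernel

theorem m23_col7 : (∀ j : Fin 6, ∃ p, m23Col 5 m23Col7 p = j) ∧
    ∀ p, m23Col 5 m23Col7 (tblFun m23U7 p) = m23Col 5 m23Col7 p := by
  decide +kernel

theorem m23_coe_mem (x : ↥Cfsg.Spor.M23) : (x : Equiv.Perm GolayPt) ∈ M24 :=
  (Subgroup.mem_inf.mp x.2).1

theorem m23_coe_fix (x : ↥Cfsg.Spor.M23) : (x : Equiv.Perm GolayPt) none = none := by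
  have := (Subgroup.mem_inf.mp x.2).2
  rwa [MulAction.mem_stabilizer_iff, Equiv.Perm.smul_def] at this

theorem m23_cyc2 (x : ↥Cfsg.Spor.M23) (hx : orderOf x = 2) :
    16 ≤ reeCyc (x : Equiv.Perm GolayPt) := by
  have ho : orderOf (x : Equiv.Perm GolayPt) = 2 := by rw [Subgroup.orderOf_coe, hx]
  have h2 : (x : Equiv.Perm GolayPt) ^ 2 = 1 := by rw [← ho]; exact pow_orderOf_eq_one _
  have h1 : (x : Equiv.Perm GolayPt) ≠ 1 := by
    intro h
    rw [h, orderOf_one] at ho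
    norm_num at ho
  obtain ⟨-, w, -, e⟩ := class2A (m23_coe_mem x) h2 h1 ⟨none, m23_coe_fix x⟩
  have hxe : (x : Equiv.Perm GolayPt) = w⁻¹ * fperm rep2A * (w⁻¹)⁻¹ := by rw [← e]; group
  rw [hxe]
  refine reeCyc_conj_ge (fperm rep2A) w⁻¹ (m23Col 15 m23Col2) m23_col2.1 ?_
  intro a
  rw [fperm_apply (okK_valid m23_okK.1)]
  exact m23_col2.2 a

theorem m23_cyc3 (x : ↥Cfsg.Spor.M23) (hx : orderOf x = 3) :
    12 ≤ reeCyc (x : Equiv.Perm GolayPt) := by
  have ho : orderOf (x : Equiv.Perm GolayPt) = 3 := by rw [Subgroup.orderOf_coe, hx]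
  have h3 : (x : Equiv.Perm GolayPt) ^ 3 = 1 := by rw [← ho]; exact pow_orderOf_eq_one _
  have h1 : (x : Equiv.Perm GolayPt) ≠ 1 := by
    intro h
    rw [h, orderOf_one] at ho
    norm_num at ho
  obtain ⟨-, w, -, e⟩ := class3A (m23_coe_mem x) h3 h1 ⟨none, m23_coe_fix x⟩
  have hxe : (x : Equiv.Perm GolayPt) = w⁻¹ * fperm rep3A * (w⁻¹)⁻¹ := by rw [← e]; group
  rw [hxe]
  refine reeCyc_conj_ge (fperm rep3A) w⁻¹ (m23Col 11 m23Col3) m23_col3.1 ?_
  intro a
  rw [fperm_apply (okK_valid m23_okK.2.1)]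
  exact m23_col3.2 a

/-- the chosen element of order five -/
noncomputable def m23u5 : ↥Cfsg.Spor.M23 :=
  ⟨fperm m23U5, mem_SporM23 m23_okK.2.2.1 m23_okK.2.2.2.2.1⟩

/-- the chosen element of order seven -/
noncomputable def m23u7 : ↥Cfsg.Spor.M23 :=
  ⟨fperm m23U7, mem_SporM23 m23_okK.2.2.2.1 m23_okK.2.2.2.2.2.1⟩

theorem m23_tau_mk {L : List ℕ} (hok : okK L = true) (h : L.getD 23 0 = 23) :
    tau23 ⟨fperm L, mem_SporM23 hok h⟩ = L := by
  unfold tau23 tau
  exact tblOf_fperm (okK_valid hok)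

theorem m23_orderOf_of_tau {x : ↥Cfsg.Spor.M23} {p : ℕ} (hp : p.Prime)
    (h1 : powT (tau23 x) p = List.range 24) (h2 : tau23 x ≠ List.range 24) : orderOf x = p := by
  have : Fact p.Prime := ⟨hp⟩
  apply orderOf_eq_prime
  · apply tau23_injective
    rw [tau23_pow, tau23_one, h1]
  · intro h
    apply h2
    rw [h, tau23_one]

theorem orderOf_m23u5 : orderOf m23u5 = 5 := by
  apply m23_orderOf_of_tau (by norm_num)
  · unfold m23u5; rw [m23_tau_mk m23_okK.2.2.1 m23_okK.2.2.2.2.1]; exact m23_okK.2.2.2.2.2.2.1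
  · unfold m23u5; rw [m23_tau_mk m23_okK.2.2.1 m23_okK.2.2.2.2.1]; exact m23_okK.2.2.2.2.2.2.2.1

theorem orderOf_m23u7 : orderOf m23u7 = 7 := by
  apply m23_orderOf_of_tau (by norm_num)
  · unfold m23u7; rw [m23_tau_mk m23_okK.2.2.2.1 m23_okK.2.2.2.2.2.1]
    exact m23_okK.2.2.2.2.2.2.2.2.1
  · unfold m23u7; rw [m23_tau_mk m23_okK.2.2.2.1 m23_okK.2.2.2.2.2.1]
    exact m23_okK.2.2.2.2.2.2.2.2.2

theorem m23_cyc5 (x : ↥Cfsg.Spor.M23) (hx : orderOf x = 5) :
    8 ≤ reeCyc (x : Equiv.Perm GolayPt) := by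
  have : Fact (Nat.Prime 5) := ⟨by norm_num⟩
  have hp2 : ¬ 5 ^ 2 ∣ Nat.card ↥Cfsg.Spor.M23 := by rw [card_SporM23]; norm_num
  obtain ⟨g, k, hgk⟩ := exists_conj_pow_of_orderOf_prime 5 hp2 m23u5 x orderOf_m23u5 hx
  have hxe : (x : Equiv.Perm GolayPt) =
      (g : Equiv.Perm GolayPt) * (fperm m23U5) ^ k * (g : Equiv.Perm GolayPt)⁻¹ := by
    rw [hgk]; rfl
  rw [hxe]
  refine reeCyc_conj_pow_ge (fperm m23U5) _ k (m23Col 7 m23Col5) m23_col5.1 ?_
  intro a
  rw [fperm_apply (okK_valid m23_okK.2.2.1)]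
  exact m23_col5.2 a

theorem m23_cyc7 (x : ↥Cfsg.Spor.M23) (hx : orderOf x = 7) :
    6 ≤ reeCyc (x : Equiv.Perm GolayPt) := by
  have : Fact (Nat.Prime 7) := ⟨by norm_num⟩
  have hp2 : ¬ 7 ^ 2 ∣ Nat.card ↥Cfsg.Spor.M23 := by rw [card_SporM23]; norm_num
  obtain ⟨g, k, hgk⟩ := exists_conj_pow_of_orderOf_prime 7 hp2 m23u7 x orderOf_m23u7 hx
  have hxe : (x : Equiv.Perm GolayPt) =
      (g : Equiv.Perm GolayPt) * (fperm m23U7) ^ k * (g : Equiv.Perm GolayPt)⁻¹ := by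
    rw [hgk]; rfl
  rw [hxe]
  refine reeCyc_conj_pow_ge (fperm m23U7) _ k (m23Col 5 m23Col7) m23_col7.1 ?_
  intro a
  rw [fperm_apply (okK_valid m23_okK.2.2.2.1)]
  exact m23_col7.2 a

theorem m23_cyc_any (x : ↥Cfsg.Spor.M23) : 2 ≤ reeCyc (x : Equiv.Perm GolayPt) := by
  refine reeCyc_ge _ (fun p : GolayPt => if p = none then (0 : Fin 2) else 1) ?_ ?_
  · intro j
    fin_cases j
    · exact ⟨none, by simp⟩
    · exact ⟨some 0, by simp⟩
  · intro a
    have hfix := m23_coe_fix x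
    by_cases ha : a = none
    · subst ha
      rw [hfix]
    · have : (x : Equiv.Perm GolayPt) a ≠ none := by
        intro h
        rw [← hfix] at h
        exact ha ((x : Equiv.Perm GolayPt).injective h)
      rw [if_neg this, if_neg ha]

theorem m23_orb : reeOrb Cfsg.Spor.M23 ≤ 2 := by
  refine reeOrb_le_two _ none (some 0) ?_
  intro p
  rcases p with _ | t
  · left
    exact MulAction.mem_orbit_self _
  · right
    refine ⟨hA ^ t.val, ?_⟩
    show ((hA ^ t.val : ↥Cfsg.Spor.M23) : Equiv.Perm GolayPt) (some 0) = some t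
    rw [← tblFun_tblOf ((hA ^ t.val : ↥Cfsg.Spor.M23) : Equiv.Perm GolayPt)]
    have : tblOf ((hA ^ t.val : ↥Cfsg.Spor.M23) : Equiv.Perm GolayPt) = tau23 (hA ^ t.val) := rfl
    rw [this, tau23_hA_pow]
    revert t
    decide

/-- the inequality of Ree and Scott in the point stabiliser -/
theorem m23_ree (x y z : ↥Cfsg.Spor.M23) (h : x * y * z = 1)
    (hgen : Subgroup.closure {x, y} = ⊤) :
    reeCyc (x : Equiv.Perm GolayPt) + reeCyc (y : Equiv.Perm GolayPt) +
      reeCyc (z : Equiv.Perm GolayPt) ≤ 28 := by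
  have h' : (x : Equiv.Perm GolayPt) * (y : Equiv.Perm GolayPt) * (z : Equiv.Perm GolayPt) = 1 := by
    have := congrArg (Subgroup.subtype Cfsg.Spor.M23) h
    simpa using this
  have key := ree_inequality _ _ _ h'
  have hcl : Subgroup.closure {(x : Equiv.Perm GolayPt), (y : Equiv.Perm GolayPt)} =
      Cfsg.Spor.M23 := by
    have : Subgroup.closure {(x : Equiv.Perm GolayPt), (y : Equiv.Perm GolayPt)} =
        (Subgroup.closure {x, y}).map (Cfsg.Spor.M23).subtype := by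
      rw [MonoidHom.map_closure, Set.image_pair]
      rfl
    rw [this, hgen, ← MonoidHom.range_eq_map, Subgroup.range_subtype]
  rw [hcl] at key
  have hc : Fintype.card GolayPt = 24 := by decide
  have := m23_orb
  omega

/-- the triples of primes excluded by the inequality -/
theorem m23_neg {p q r : ℕ} (hr : r.Prime)
    (hex : (p = 2 ∧ q = 3) ∨ (p = 2 ∧ q = 5 ∧ r = 5) ∨ (p = 2 ∧ q = 5 ∧ r = 7) ∨
      (p = 3 ∧ q = 3 ∧ r ≤ 7)) (hqr : q ≤ r) :
    ¬ ∃ x y z : ↥Cfsg.Spor.M23, orderOf x = p ∧ orderOf y = q ∧ orderOf z = r ∧ x * y * z = 1 ∧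
      Subgroup.closure {x, y} = ⊤ := by
  rintro ⟨x, y, z, hx, hy, hz, hxyz, hgen⟩
  have key := m23_ree x y z hxyz hgen
  have hzany := m23_cyc_any z
  rcases hex with ⟨rfl, rfl⟩ | ⟨rfl, rfl, rfl⟩ | ⟨rfl, rfl, rfl⟩ | ⟨rfl, rfl, hr7⟩
  · have := m23_cyc2 x hx
    have := m23_cyc3 y hy
    omega
  · have := m23_cyc2 x hx
    have := m23_cyc5 y hy
    have := m23_cyc5 z hz
    omega
  · have := m23_cyc2 x hx
    have := m23_cyc5 y hy
    have := m23_cyc7 z hz
    omega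
  · have := m23_cyc3 x hx
    have := m23_cyc3 y hy
    have hr3 : 3 ≤ r := hqr
    have hcases : r = 3 ∨ r = 5 ∨ r = 7 := by
      interval_cases r
      · left; rfl
      · exfalso; revert hr; decide
      · right; left; rfl
      · exfalso; revert hr; decide
      · right; right; rfl
    rcases hcases with rfl | rfl | rfl
    · have := m23_cyc3 z hz
      omega
    · have := m23_cyc5 z hz
      omega
    · have := m23_cyc7 z hz
      omega

end Cfsg.Agent.Lib.helper23
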