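import Mathlib
import Cfsg.Prelude.Def_Sporadic_a
import Cfsg.Prelude.Def_Spor_Mathieu
import Cfsg.Agent.Lib.helper4.OutM23
import Cfsg.Agent.Lib.helper23.M23GenData

set_option autoImplicit false

/-!
# Generation of the point stabiliser in the group of the length-24 code: the existence part

For each triple of primes on the list a pair of tables `X`, `Y` is given together with a
straight-line program computing the three standard generators from them.
-/

namespace Cfsg.Agent.Lib.helper23

open Cfsg Cfsg.Agent.Lib.helper4 Cfsg.Agent.Lib.Helper12.Golay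

/-- the three standard generators occur in the list -/
def m23Has (T : List (List ℕ)) : Bool := T.contains tA24 && T.contains tU24 && T.contains tC24

/-- the boolean check of a certificate -/
def m23CertOK (c : ℕ × ℕ × ℕ × List ℕ × List ℕ × List (ℕ × ℕ)) : Bool :=
  okK c.2.2.2.1 && okK c.2.2.2.2.1 && Nat.beq (c.2.2.2.1.getD 23 0) 23 &&
    Nat.beq (c.2.2.2.2.1.getD 23 0) 23 &&
    isIdT (powT c.2.2.2.1 c.1) && !isIdT c.2.2.2.1 &&
    isIdT (powT c.2.2.2.2.1 c.2.1) && !isIdT c.2.2.2.2.1 &&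
    forceList (compTbl c.2.2.2.1 c.2.2.2.2.1) (fun Z => isIdT (powT Z c.2.2.1) && !isIdT Z) &&
    m23Has (evalSLP c.2.2.2.2.2 2 [c.2.2.2.2.1, c.2.2.2.1])

set_option maxRecDepth 1000000 in
theorem m23Certs_ok : m23Certs.all m23CertOK = true := by decide +kernel

theorem tau23_mk {L : List ℕ} (hok : okK L = true) (h : L.getD 23 0 = 23) :
    tau23 ⟨fperm L, mem_SporM23 hok h⟩ = L := by
  unfold tau23 tau
  exact tblOf_fperm (okK_valid hok)

theorem orderOf_of_tau23 {x : ↥Cfsg.Spor.M23} {p : ℕ} (hp : p.Prime)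
    (h1 : powT (tau23 x) p = List.range 24) (h2 : tau23 x ≠ List.range 24) : orderOf x = p := by
  have : Fact p.Prime := ⟨hp⟩
  apply orderOf_eq_prime
  · apply tau23_injective
    rw [tau23_pow, tau23_one, h1]
  · intro h
    apply h2
    rw [h, tau23_one]

theorem eq_fperm_of_realIn {H : Subgroup (Equiv.Perm GolayPt)} {L : List ℕ} (hv : ValidT L)
    (h : RealIn H L) : fperm L ∈ H := by
  obtain ⟨-, hlt, g, hg, hgf⟩ := h
  have : g = fperm L := by
    apply Equiv.ext
    intro p
    rw [hgf, fperm_apply hv, tblFun_bridge hlt]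
  rw [← this]
  exact hg

theorem m23CertOK_spec {p q r : ℕ} {X Y : List ℕ} {prog : List (ℕ × ℕ)} (hp : p.Prime)
    (hq : q.Prime) (hr : r.Prime) (h : m23CertOK (p, q, r, X, Y, prog) = true) :
    ∃ x y z : ↥Cfsg.Spor.M23, orderOf x = p ∧ orderOf y = q ∧ orderOf z = r ∧ x * y * z = 1 ∧
      Subgroup.closure {x, y} = ⊤ := by
  unfold m23CertOK at h
  simp only [Bool.and_eq_true, forceList_eq, Bool.not_eq_true'] at h
  obtain ⟨⟨⟨⟨⟨⟨⟨⟨⟨hX, hY⟩, hX23'⟩, hY23'⟩, hXp⟩, hX1⟩, hYq⟩, hY1⟩, hZr, hZ1⟩, hprog⟩ := h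
  have hX23 : X.getD 23 0 = 23 := Nat.eq_of_beq_eq_true hX23'
  have hY23 : Y.getD 23 0 = 23 := Nat.eq_of_beq_eq_true hY23'
  have idT : ∀ L : List ℕ, isIdT L = true ↔ L = List.range 24 := by
    intro L
    unfold isIdT
    exact beq_iff_eq
  have idF : ∀ L : List ℕ, isIdT L = false ↔ L ≠ List.range 24 := by
    intro L
    rw [← Bool.not_eq_true, idT]
  set x : ↥Cfsg.Spor.M23 := ⟨fperm X, mem_SporM23 hX hX23⟩ with hx
  set y : ↥Cfsg.Spor.M23 := ⟨fperm Y, mem_SporM23 hY hY23⟩ with hy
  have tx : tau23 x = X := tau23_mk hX hX23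
  have ty : tau23 y = Y := tau23_mk hY hY23
  have txy : tau23 (x * y) = compTbl X Y := by rw [tau23_mul, tx, ty]
  refine ⟨x, y, (x * y)⁻¹, ?_, ?_, ?_, mul_inv_cancel _, ?_⟩
  · apply orderOf_of_tau23 hp
    · rw [tx]; exact (idT _).mp hXp
    · rw [tx]; exact (idF _).mp hX1
  · apply orderOf_of_tau23 hq
    · rw [ty]; exact (idT _).mp hYq
    · rw [ty]; exact (idF _).mp hY1
  · rw [orderOf_inv]
    apply orderOf_of_tau23 hr
    · rw [txy]; exact (idT _).mp hZr
    · rw [txy]; exact (idF _).mp hZ1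
  · set H : Subgroup (Equiv.Perm GolayPt) :=
      Subgroup.closure {(x : Equiv.Perm GolayPt), (y : Equiv.Perm GolayPt)} with hH
    have hXH : RealIn H X :=
      realIn_fperm H (okK_valid hX) (Subgroup.subset_closure (by simp [hx]))
    have hYH : RealIn H Y :=
      realIn_fperm H (okK_valid hY) (Subgroup.subset_closure (by simp [hy]))
    have hall : ∀ L ∈ evalSLP prog 2 [Y, X], RealIn H L := by
      apply realIn_evalSLP
      intro L hL
      simp only [List.mem_cons, List.not_mem_nil, or_false] at hL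
      rcases hL with rfl | rfl
      · exact hYH
      · exact hXH
    unfold m23Has at hprog
    simp only [Bool.and_eq_true, List.contains_iff_mem] at hprog
    obtain ⟨⟨hA, hU⟩, hC⟩ := hprog
    have mA : fperm tA24 ∈ H := eq_fperm_of_realIn (okK_valid out24_basic.1) (hall _ hA)
    have mU : fperm tU24 ∈ H := eq_fperm_of_realIn (okK_valid out24_basic.2.1) (hall _ hU)
    have mC : fperm tC24 ∈ H :=
      eq_fperm_of_realIn (okK_valid out24_basic.2.2.2.1) (hall _ hC)
    have hle : Cfsg.Spor.M23 ≤ H := by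
      refine le_trans M23_le_H23 ?_
      unfold H23
      rw [Subgroup.closure_le]
      intro g hg
      rcases hg with rfl | rfl | rfl
      · exact mA
      · exact mU
      · exact mC
    have hmap : H = (Subgroup.closure {x, y}).map (Cfsg.Spor.M23).subtype := by
      rw [MonoidHom.map_closure, Set.image_pair]
      rfl
    rw [eq_top_iff]
    intro m _
    have hm : (m : Equiv.Perm GolayPt) ∈ H := hle m.2
    rw [hmap] at hm
    exact (Subgroup.mem_map_iff_mem (Subgroup.subtype_injective _)).mp hm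

/-- existence of generating triples for the triples of primes on the list -/
theorem m23_pos {p q r : ℕ} (hp : p.Prime) (hq : q.Prime) (hr : r.Prime)
    (h : (p, q, r) ∈ m23Certs.map fun c => (c.1, c.2.1, c.2.2.1)) :
    ∃ x y z : ↥Cfsg.Spor.M23, orderOf x = p ∧ orderOf y = q ∧ orderOf z = r ∧ x * y * z = 1 ∧
      Subgroup.closure {x, y} = ⊤ := by
  rw [List.mem_map] at h
  obtain ⟨⟨p', q', r', X, Y, prog⟩, hc, he⟩ := h
  simp only [Prod.mk.injEq] at he
  obtain ⟨rfl, rfl, rfl⟩ := he
  have := m23Certs_ok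
  rw [List.all_eq_true] at this
  exact m23CertOK_spec hp hq hr (this _ hc)

end Cfsg.Agent.Lib.helper23
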