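import Cfsg.Agent.Lib.helper23.Mc2aData
import Cfsg.Agent.Lib.helper23.PgX

set_option autoImplicit false
set_option maxRecDepth 1000000
set_option Elab.async false

/-!
# The alternating group of degree 8: the checks of the stabiliser chain
-/

namespace Cfsg.Agent.Lib.helper23

open Subgroup MulAction

theorem mc2achk0x6 : pgChkLvlW0 8 mc2aL6 [] = true := by decide +kernel
theorem mc2achk0x5 : pgChkLvlW0 8 mc2aL5 [mc2aL6] = true := by decide +kernel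
theorem mc2achk0x4 : pgChkLvlW0 8 mc2aL4 [mc2aL5, mc2aL6] = true := by decide +kernel
theorem mc2achk0x3 : pgChkLvlW0 8 mc2aL3 [mc2aL4, mc2aL5, mc2aL6] = true := by decide +kernel
theorem mc2achk0x2 : pgChkLvlW0 8 mc2aL2 [mc2aL3, mc2aL4, mc2aL5, mc2aL6] = true := by decide +kernel
theorem mc2achk0x1 : pgChkLvlW0 8 mc2aL1 [mc2aL2, mc2aL3, mc2aL4, mc2aL5, mc2aL6] = true := by decide +kernel

theorem mc2acl6x0 : pgChkGenW 8 (List.range 8) mc2aL6 []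
    (mc2agen mc2aT6x0 mc2aI6x0) 0 8 = true := by
  decide +kernel
theorem mc2acl6x1 : pgChkGenW 8 (List.range 8) mc2aL6 []
    (mc2agen mc2aT6x1 mc2aI6x1) 0 8 = true := by
  decide +kernel
theorem mc2acl5x0 : pgChkGenW 8 (List.range 8) mc2aL5 [mc2aL6]
    (mc2agen mc2aT5x0 mc2aI5x0) 0 8 = true := by
  decide +kernel
theorem mc2acl5x1 : pgChkGenW 8 (List.range 8) mc2aL5 [mc2aL6]
    (mc2agen mc2aT5x1 mc2aI5x1) 0 8 = true := by
  decide +kernel
theorem mc2acl4x0 : pgChkGenW 8 (List.range 8) mc2aL4 [mc2aL5, mc2aL6]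
    (mc2agen mc2aT4x0 mc2aI4x0) 0 8 = true := by
  decide +kernel
theorem mc2acl4x1 : pgChkGenW 8 (List.range 8) mc2aL4 [mc2aL5, mc2aL6]
    (mc2agen mc2aT4x1 mc2aI4x1) 0 8 = true := by
  decide +kernel
theorem mc2acl3x0 : pgChkGenW 8 (List.range 8) mc2aL3 [mc2aL4, mc2aL5, mc2aL6]
    (mc2agen mc2aT3x0 mc2aI3x0) 0 8 = true := by
  decide +kernel
theorem mc2acl3x1 : pgChkGenW 8 (List.range 8) mc2aL3 [mc2aL4, mc2aL5, mc2aL6]
    (mc2agen mc2aT3x1 mc2aI3x1) 0 8 = true := by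
  decide +kernel
theorem mc2acl2x0 : pgChkGenW 8 (List.range 8) mc2aL2 [mc2aL3, mc2aL4, mc2aL5, mc2aL6]
    (mc2agen mc2aT2x0 mc2aI2x0) 0 8 = true := by
  decide +kernel
theorem mc2acl2x1 : pgChkGenW 8 (List.range 8) mc2aL2 [mc2aL3, mc2aL4, mc2aL5, mc2aL6]
    (mc2agen mc2aT2x1 mc2aI2x1) 0 8 = true := by
  decide +kernel
theorem mc2acl1x0 : pgChkGenW 8 (List.range 8) mc2aL1 [mc2aL2, mc2aL3, mc2aL4, mc2aL5, mc2aL6]
    (mc2agen mc2aT1x0 mc2aI1x0) 0 8 = true := by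
  decide +kernel
theorem mc2acl1x1 : pgChkGenW 8 (List.range 8) mc2aL1 [mc2aL2, mc2aL3, mc2aL4, mc2aL5, mc2aL6]
    (mc2agen mc2aT1x1 mc2aI1x1) 0 8 = true := by
  decide +kernel

theorem mc2achkL6 : pgChkLvlW 8 (List.range 8) mc2aL6 [] = true := by
  apply pgChkLvlW_ofAllX mc2achk0x6
  intro s hs
  change s ∈ [mc2agen mc2aT6x0 mc2aI6x0, mc2agen mc2aT6x1 mc2aI6x1] at hs
  simp only [List.mem_cons, List.not_mem_nil, or_false] at hs
  rcases hs with rfl | rfl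
  · exact mc2acl6x0
  · exact mc2acl6x1

theorem mc2achkL5 : pgChkLvlW 8 (List.range 8) mc2aL5 [mc2aL6] = true := by
  apply pgChkLvlW_ofAllX mc2achk0x5
  intro s hs
  change s ∈ [mc2agen mc2aT5x0 mc2aI5x0, mc2agen mc2aT5x1 mc2aI5x1] at hs
  simp only [List.mem_cons, List.not_mem_nil, or_false] at hs
  rcases hs with rfl | rfl
  · exact mc2acl5x0
  · exact mc2acl5x1

theorem mc2achkL4 : pgChkLvlW 8 (List.range 8) mc2aL4 [mc2aL5, mc2aL6] = true := by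
  apply pgChkLvlW_ofAllX mc2achk0x4
  intro s hs
  change s ∈ [mc2agen mc2aT4x0 mc2aI4x0, mc2agen mc2aT4x1 mc2aI4x1] at hs
  simp only [List.mem_cons, List.not_mem_nil, or_false] at hs
  rcases hs with rfl | rfl
  · exact mc2acl4x0
  · exact mc2acl4x1

theorem mc2achkL3 : pgChkLvlW 8 (List.range 8) mc2aL3 [mc2aL4, mc2aL5, mc2aL6] = true := by
  apply pgChkLvlW_ofAllX mc2achk0x3
  intro s hs
  change s ∈ [mc2agen mc2aT3x0 mc2aI3x0, mc2agen mc2aT3x1 mc2aI3x1] at hs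
  simp only [List.mem_cons, List.not_mem_nil, or_false] at hs
  rcases hs with rfl | rfl
  · exact mc2acl3x0
  · exact mc2acl3x1

theorem mc2achkL2 : pgChkLvlW 8 (List.range 8) mc2aL2 [mc2aL3, mc2aL4, mc2aL5, mc2aL6] = true := by
  apply pgChkLvlW_ofAllX mc2achk0x2
  intro s hs
  change s ∈ [mc2agen mc2aT2x0 mc2aI2x0, mc2agen mc2aT2x1 mc2aI2x1] at hs
  simp only [List.mem_cons, List.not_mem_nil, or_false] at hs
  rcases hs with rfl | rfl
  · exact mc2acl2x0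
  · exact mc2acl2x1

theorem mc2achkL1 : pgChkLvlW 8 (List.range 8) mc2aL1 [mc2aL2, mc2aL3, mc2aL4, mc2aL5, mc2aL6] = true := by
  apply pgChkLvlW_ofAllX mc2achk0x1
  intro s hs
  change s ∈ [mc2agen mc2aT1x0 mc2aI1x0, mc2agen mc2aT1x1 mc2aI1x1] at hs
  simp only [List.mem_cons, List.not_mem_nil, or_false] at hs
  rcases hs with rfl | rfl
  · exact mc2acl1x0
  · exact mc2acl1x1

/-- the stabiliser chain -/
def mc2aC : List PgLvlW := [mc2aL1, mc2aL2, mc2aL3, mc2aL4, mc2aL5, mc2aL6]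

theorem mc2achkC : pgChkW 8 (pgRigidAll 8).base mc2aC = true := by
  change pgChkW 8 (List.range 8) [mc2aL1, mc2aL2, mc2aL3, mc2aL4, mc2aL5, mc2aL6] = true
  rw [pgChkW_cons, pgChkW_cons, pgChkW_cons, pgChkW_cons, pgChkW_cons, pgChkW_cons, mc2achkL1, mc2achkL2, mc2achkL3, mc2achkL4, mc2achkL5, mc2achkL6]
  rfl

end Cfsg.Agent.Lib.helper23
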