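import Cfsg.Agent.Lib.helper23.Mc2dData
import Cfsg.Agent.Lib.helper23.PgX

set_option autoImplicit false
set_option maxRecDepth 1000000
set_option Elab.async false

/-!
# The centraliser of an involution of the McLaughlin group on 275 points: the checks of the stabiliser chain
-/

namespace Cfsg.Agent.Lib.helper23

open Subgroup MulAction

theorem mc2dchk0x3 : pgChkLvlW0 275 mc2dL3 [] = true := by decide +kernel
theorem mc2dchk0x2 : pgChkLvlW0 275 mc2dL2 [mc2dL3] = true := by decide +kernel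
theorem mc2dchk0x1 : pgChkLvlW0 275 mc2dL1 [mc2dL2, mc2dL3] = true := by decide +kernel

theorem mc2dcl3x0 : pgChkGenW 275 (List.range 275) mc2dL3 []
    (mc2dgen mc2dT3x0 mc2dI3x0) 0 275 = true := by
  decide +kernel
theorem mc2dcl3x1 : pgChkGenW 275 (List.range 275) mc2dL3 []
    (mc2dgen mc2dT3x1 mc2dI3x1) 0 275 = true := by
  decide +kernel
theorem mc2dcl2x0 : pgChkGenW 275 (List.range 275) mc2dL2 [mc2dL3]
    (mc2dgen mc2dT2x0 mc2dI2x0) 0 275 = true := by
  decide +kernel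
theorem mc2dcl2x1 : pgChkGenW 275 (List.range 275) mc2dL2 [mc2dL3]
    (mc2dgen mc2dT2x1 mc2dI2x1) 0 275 = true := by
  decide +kernel
theorem mc2dcl1x0 : pgChkGenW 275 (List.range 275) mc2dL1 [mc2dL2, mc2dL3]
    (mc2dgen mc2dT1x0 mc2dI1x0) 0 275 = true := by
  decide +kernel
theorem mc2dcl1x1 : pgChkGenW 275 (List.range 275) mc2dL1 [mc2dL2, mc2dL3]
    (mc2dgen mc2dT1x1 mc2dI1x1) 0 275 = true := by
  decide +kernel

theorem mc2dchkL3 : pgChkLvlW 275 (List.range 275) mc2dL3 [] = true := by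
  apply pgChkLvlW_ofAllX mc2dchk0x3
  intro s hs
  change s ∈ [mc2dgen mc2dT3x0 mc2dI3x0, mc2dgen mc2dT3x1 mc2dI3x1] at hs
  simp only [List.mem_cons, List.not_mem_nil, or_false] at hs
  rcases hs with rfl | rfl
  · exact mc2dcl3x0
  · exact mc2dcl3x1

theorem mc2dchkL2 : pgChkLvlW 275 (List.range 275) mc2dL2 [mc2dL3] = true := by
  apply pgChkLvlW_ofAllX mc2dchk0x2
  intro s hs
  change s ∈ [mc2dgen mc2dT2x0 mc2dI2x0, mc2dgen mc2dT2x1 mc2dI2x1] at hs
  simp only [List.mem_cons, List.not_mem_nil, or_false] at hs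
  rcases hs with rfl | rfl
  · exact mc2dcl2x0
  · exact mc2dcl2x1

theorem mc2dchkL1 : pgChkLvlW 275 (List.range 275) mc2dL1 [mc2dL2, mc2dL3] = true := by
  apply pgChkLvlW_ofAllX mc2dchk0x1
  intro s hs
  change s ∈ [mc2dgen mc2dT1x0 mc2dI1x0, mc2dgen mc2dT1x1 mc2dI1x1] at hs
  simp only [List.mem_cons, List.not_mem_nil, or_false] at hs
  rcases hs with rfl | rfl
  · exact mc2dcl1x0
  · exact mc2dcl1x1

/-- the stabiliser chain -/
def mc2dC : List PgLvlW := [mc2dL1, mc2dL2, mc2dL3]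

theorem mc2dchkC : pgChkW 275 (pgRigidAll 275).base mc2dC = true := by
  change pgChkW 275 (List.range 275) [mc2dL1, mc2dL2, mc2dL3] = true
  rw [pgChkW_cons, pgChkW_cons, pgChkW_cons, mc2dchkL1, mc2dchkL2, mc2dchkL3]
  rfl

end Cfsg.Agent.Lib.helper23
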