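import Cfsg.Agent.Lib.helper23.Mc2eData
import Cfsg.Agent.Lib.helper23.PgX

set_option autoImplicit false
set_option maxRecDepth 1000000
set_option Elab.async false

/-!
# The centraliser of an involution of the McLaughlin group on 275 + 8 points: the checks of the stabiliser chain
-/

namespace Cfsg.Agent.Lib.helper23

open Subgroup MulAction

theorem mc2echk0x3 : pgChkLvlW0 283 mc2eL3 [] = true := by decide +kernel
theorem mc2echk0x2 : pgChkLvlW0 283 mc2eL2 [mc2eL3] = true := by decide +kernel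
theorem mc2echk0x1 : pgChkLvlW0 283 mc2eL1 [mc2eL2, mc2eL3] = true := by decide +kernel

theorem mc2ecl3x0 : pgChkGenW 283 (List.range 283) mc2eL3 []
    (mc2egen mc2eT3x0 mc2eI3x0) 0 283 = true := by
  decide +kernel
theorem mc2ecl3x1 : pgChkGenW 283 (List.range 283) mc2eL3 []
    (mc2egen mc2eT3x1 mc2eI3x1) 0 283 = true := by
  decide +kernel
theorem mc2ecl2x0 : pgChkGenW 283 (List.range 283) mc2eL2 [mc2eL3]
    (mc2egen mc2eT2x0 mc2eI2x0) 0 283 = true := by
  decide +kernel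
theorem mc2ecl2x1 : pgChkGenW 283 (List.range 283) mc2eL2 [mc2eL3]
    (mc2egen mc2eT2x1 mc2eI2x1) 0 283 = true := by
  decide +kernel
theorem mc2ecl1x0 : pgChkGenW 283 (List.range 283) mc2eL1 [mc2eL2, mc2eL3]
    (mc2egen mc2eT1x0 mc2eI1x0) 0 283 = true := by
  decide +kernel
theorem mc2ecl1x1 : pgChkGenW 283 (List.range 283) mc2eL1 [mc2eL2, mc2eL3]
    (mc2egen mc2eT1x1 mc2eI1x1) 0 283 = true := by
  decide +kernel

theorem mc2echkL3 : pgChkLvlW 283 (List.range 283) mc2eL3 [] = true := by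
  apply pgChkLvlW_ofAllX mc2echk0x3
  intro s hs
  change s ∈ [mc2egen mc2eT3x0 mc2eI3x0, mc2egen mc2eT3x1 mc2eI3x1] at hs
  simp only [List.mem_cons, List.not_mem_nil, or_false] at hs
  rcases hs with rfl | rfl
  · exact mc2ecl3x0
  · exact mc2ecl3x1

theorem mc2echkL2 : pgChkLvlW 283 (List.range 283) mc2eL2 [mc2eL3] = true := by
  apply pgChkLvlW_ofAllX mc2echk0x2
  intro s hs
  change s ∈ [mc2egen mc2eT2x0 mc2eI2x0, mc2egen mc2eT2x1 mc2eI2x1] at hs
  simp only [List.mem_cons, List.not_mem_nil, or_false] at hs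
  rcases hs with rfl | rfl
  · exact mc2ecl2x0
  · exact mc2ecl2x1

theorem mc2echkL1 : pgChkLvlW 283 (List.range 283) mc2eL1 [mc2eL2, mc2eL3] = true := by
  apply pgChkLvlW_ofAllX mc2echk0x1
  intro s hs
  change s ∈ [mc2egen mc2eT1x0 mc2eI1x0, mc2egen mc2eT1x1 mc2eI1x1] at hs
  simp only [List.mem_cons, List.not_mem_nil, or_false] at hs
  rcases hs with rfl | rfl
  · exact mc2ecl1x0
  · exact mc2ecl1x1

/-- the stabiliser chain -/
def mc2eC : List PgLvlW := [mc2eL1, mc2eL2, mc2eL3]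

theorem mc2echkC : pgChkW 283 (pgRigidAll 283).base mc2eC = true := by
  change pgChkW 283 (List.range 283) [mc2eL1, mc2eL2, mc2eL3] = true
  rw [pgChkW_cons, pgChkW_cons, pgChkW_cons, mc2echkL1, mc2echkL2, mc2echkL3]
  rfl

end Cfsg.Agent.Lib.helper23
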