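import Cfsg.Agent.Lib.helper23.Mc2sData
import Cfsg.Agent.Lib.helper23.PgX

set_option autoImplicit false
set_option maxRecDepth 1000000
set_option Elab.async false

/-!
# A Sylow 2-subgroup of the McLaughlin group on 275 points: the checks of the stabiliser chain
-/

namespace Cfsg.Agent.Lib.helper23

open Subgroup MulAction

theorem mc2schk0x2 : pgChkLvlW0 275 mc2sL2 [] = true := by decide +kernel
theorem mc2schk0x1 : pgChkLvlW0 275 mc2sL1 [mc2sL2] = true := by decide +kernel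

theorem mc2scl2x0 : pgChkGenW 275 (List.range 275) mc2sL2 []
    (mc2sgen mc2sT2x0 mc2sI2x0) 0 275 = true := by
  decide +kernel
theorem mc2scl2x1 : pgChkGenW 275 (List.range 275) mc2sL2 []
    (mc2sgen mc2sT2x1 mc2sI2x1) 0 275 = true := by
  decide +kernel
theorem mc2scl1x0 : pgChkGenW 275 (List.range 275) mc2sL1 [mc2sL2]
    (mc2sgen mc2sT1x0 mc2sI1x0) 0 275 = true := by
  decide +kernel
theorem mc2scl1x1 : pgChkGenW 275 (List.range 275) mc2sL1 [mc2sL2]
    (mc2sgen mc2sT1x1 mc2sI1x1) 0 275 = true := by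
  decide +kernel
theorem mc2scl1x2 : pgChkGenW 275 (List.range 275) mc2sL1 [mc2sL2]
    (mc2sgen mc2sT1x2 mc2sI1x2) 0 275 = true := by
  decide +kernel

theorem mc2schkL2 : pgChkLvlW 275 (List.range 275) mc2sL2 [] = true := by
  apply pgChkLvlW_ofAllX mc2schk0x2
  intro s hs
  change s ∈ [mc2sgen mc2sT2x0 mc2sI2x0, mc2sgen mc2sT2x1 mc2sI2x1] at hs
  simp only [List.mem_cons, List.not_mem_nil, or_false] at hs
  rcases hs with rfl | rfl
  · exact mc2scl2x0
  · exact mc2scl2x1

theorem mc2schkL1 : pgChkLvlW 275 (List.range 275) mc2sL1 [mc2sL2] = true := by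
  apply pgChkLvlW_ofAllX mc2schk0x1
  intro s hs
  change s ∈ [mc2sgen mc2sT1x0 mc2sI1x0, mc2sgen mc2sT1x1 mc2sI1x1, mc2sgen mc2sT1x2 mc2sI1x2] at hs
  simp only [List.mem_cons, List.not_mem_nil, or_false] at hs
  rcases hs with rfl | rfl | rfl
  · exact mc2scl1x0
  · exact mc2scl1x1
  · exact mc2scl1x2

/-- the stabiliser chain -/
def mc2sC : List PgLvlW := [mc2sL1, mc2sL2]

theorem mc2schkC : pgChkW 275 (pgRigidAll 275).base mc2sC = true := by
  change pgChkW 275 (List.range 275) [mc2sL1, mc2sL2] = true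
  rw [pgChkW_cons, pgChkW_cons, mc2schkL1, mc2schkL2]
  rfl

end Cfsg.Agent.Lib.helper23
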