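import Cfsg.Agent.Lib.helper14.MPe
import Cfsg.Agent.Lib.helper23.Mc2Tab
import Cfsg.Agent.Lib.helper23.Mc2sChk
import Cfsg.Agent.Lib.helper23.Mc2dChk
import Cfsg.Agent.Lib.helper23.Mc2eChk
import Cfsg.Agent.Lib.helper23.Mc2aChk
import Cfsg.Agent.Lib.helper23.PgS
import Cfsg.Agent.Lib.helper23.PgU
import Cfsg.Agent.Lib.helper23.PgW
import Cfsg.Agent.Lib.helper23.PgY

set_option autoImplicit false
set_option maxRecDepth 1000000
set_option Elab.async false

/-!
# The McLaughlin group on 275 points: the computations for the centraliser of an involution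
-/

namespace Cfsg.Agent.Lib.helper23

open Cfsg.Agent.Lib.helper14.MP

/-! ### the tables are permutations -/

theorem mc2Tok : (mpgen mc2T mc2T).ok 275 = true := by decide +kernel

theorem mc2Yok : (mpgen mc2Y mc2Yi).ok 275 = true := by decide +kernel

theorem mc2TEok : (mc2egen mc2TE mc2TE).ok 283 = true := by decide +kernel

/-! ### membership -/

theorem mc2Tsift : pgSiftW 275 (List.range 275) mpC (mplk mc2T) = true := by decide +kernel

theorem mc2Ysift : pgSiftW 275 (List.range 275) mpC (mplk mc2Y) = true := by decide +kernel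

theorem mc2Ssift : pgAllL mc2sL1.own (fun s => pgSiftW 275 (List.range 275) mpC s.f) = true := by
  decide +kernel

theorem mc2Dsift : pgAllL mc2dL1.own (fun s => pgSiftW 275 (List.range 275) mpC s.f) = true := by
  decide +kernel

theorem mc2TEsift : pgSiftW 283 (List.range 283) mc2eC (mc2elk mc2TE) = true := by decide +kernel

/-! ### relations -/

theorem mc2Tsq : pgEq 275 (fun p => mplk mc2T (mplk mc2T p)) (fun p => p) = true := by
  decide +kernel

theorem mc2Ysq : pgEq 275 (fun p => mplk mc2Y (mplk mc2Y p)) (mplk mc2T) = true := by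
  decide +kernel

theorem mc2Dcomm : pgAllL mc2dL1.own (fun s =>
    pgEq 275 (fun p => s.f (mplk mc2T p)) (fun p => mplk mc2T (s.f p))) = true := by
  decide +kernel

theorem mc2T01 : mplk mc2T 0 = 1 ∧ mplk mc2T 1 = 0 := by decide +kernel

theorem mc2Tmoved : pgCount 275 (fun p => !(Nat.beq (mplk mc2T p) p)) = 240 := by decide +kernel

/-- the involution on 275 + 8 points: the first 275 points as the involution, the last 8 fixed -/
theorem mc2TEtab : pgAll 275 (fun p => Nat.beq (mc2elk mc2TE p) (mplk mc2T p)) = true ∧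
    pgAll 8 (fun p => Nat.beq (mc2elk mc2TE (Nat.add 275 p)) (Nat.add 275 p)) = true := by
  decide +kernel

/-! ### orders -/

theorem mc2sord : pgOrdW 275 mc2sC = 128 := by decide +kernel

theorem mc2dord : pgOrdW 275 mc2dC = 40320 := by decide +kernel

theorem mc2eord : pgOrdW 283 mc2eC = 40320 := by decide +kernel

theorem mc2aord : pgOrdW 8 mc2aC = 20160 := by decide +kernel

/-! ### the elements of the Sylow subgroup -/

theorem mc2CertTabs : pgAllL mc2Certs (fun c => Nat.beq c.2.2 mc2T) = true := by decide +kernel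

theorem mc2Stest : pgEnumM 275 9 pgNoPrune (pgConjTest 275 9 mcL1.own mc2Certs) mc2sC 0
    (fun p => p) [] = true := by
  decide +kernel

/-! ### the elements of the stabiliser of the points 0 and 1 commuting with the involution -/

/-- the table of the function is in the list -/
def mc2TabTest (f : ℕ → ℕ) : Bool :=
  pgForce (pgMk 9 275 f) (fun T => pgAnyL mc2Tabs (fun T' => Nat.beq T T'))

theorem mc2Kcent : pgEnumM 275 9 (pgCentPrune (mplk mc2T))
    (fun f => cond (pgAll 275 (fun p => Nat.beq (f (mplk mc2T p)) (mplk mc2T (f p))))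
      (mc2TabTest f) true) [mcL3, mcL4, mcL5] 2 (fun p => p) [] = true := by
  decide +kernel

theorem mc2TabsLen : mc2Tabs.length = 168 := by decide +kernel

/-! ### the blocks of the diagonal group -/

theorem mc2eblk1 : pgChkBlk 275 0 mc2eL1.own = true := by decide +kernel

theorem mc2eblk2 : pgChkBlk 8 275 mc2eL1.own = true := by decide +kernel

theorem mc2etab1 : ∀ i : Fin 275, mc2elk mc2eT1x0 (0 + i.1) = mc2dlk mc2dT1x0 i.1 ∧
    mc2elk mc2eT1x1 (0 + i.1) = mc2dlk mc2dT1x1 i.1 := by decide +kernel

theorem mc2etab2 : ∀ i : Fin 8, mc2elk mc2eT1x0 (275 + i.1) = 275 + mc2alk mc2aT1x0 i.1 ∧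
    mc2elk mc2eT1x1 (275 + i.1) = 275 + mc2alk mc2aT1x1 i.1 := by decide +kernel

end Cfsg.Agent.Lib.helper23
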