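import Cfsg.Agent.Lib.helper23.Mc2A
import Cfsg.Agent.Lib.helper23.PgT
import Cfsg.Agent.Lib.helper23.PgX

set_option autoImplicit false
set_option maxRecDepth 1000000
set_option Elab.async false

/-!
# The McLaughlin group on 275 points: the centraliser of an involution
-/

namespace Cfsg.Agent.Lib.helper23

open Cfsg.Agent.Lib.helper14.MP Subgroup MulAction

/-- the group -/
abbrev G275 : Subgroup (Equiv.Perm (Fin 275)) := pgGrpW 275 mpC

theorem G275_card : Nat.card G275 = 898128000 := mpcard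

theorem mc2A : pgGrpW 275 mpC ≤ (mpRigidTop 275).A := le_top

instance : Finite G275 := Nat.finite_of_card_ne_zero (by rw [G275_card]; norm_num)

/-! ### the involution and its square root -/

/-- the involution -/
def mc2t : Equiv.Perm (Fin 275) := (mpgen mc2T mc2T).perm 275

theorem mc2t_rep : PgRep (mplk mc2T) mc2t := PgRep.perm mc2Tok

theorem mc2t_mem : mc2t ∈ G275 :=
  pgSift_mem (mpRigidTop 275) mpchkC mc2A mc2Tok (mem_top _) mc2Tsift

theorem mc2t_sq : mc2t * mc2t = 1 :=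
  (pgEq_iff (PgRep.mul mc2t_rep mc2t_rep) PgRep.one).1 mc2Tsq

theorem mc2t_zero : mc2t 0 = 1 := by
  apply Fin.ext
  have h := mc2t_rep (0 : Fin 275)
  have h2 : mplk mc2T (0 : Fin 275).1 = 1 := mc2T01.1
  rw [← h, h2]
  rfl

theorem mc2t_one : mc2t 1 = 0 := by
  apply Fin.ext
  have h := mc2t_rep (1 : Fin 275)
  have h2 : mplk mc2T (1 : Fin 275).1 = 0 := mc2T01.2
  rw [← h, h2]
  rfl

theorem mc2t_ne : mc2t ≠ 1 := by
  intro h
  have := mc2t_zero
  rw [h] at this
  exact absurd this (by decide)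

theorem mc2t_order : orderOf mc2t = 2 :=
  orderOf_eq_prime (by rw [pow_two]; exact mc2t_sq) mc2t_ne

/-- an element whose square is the involution -/
def mc2y : Equiv.Perm (Fin 275) := (mpgen mc2Y mc2Yi).perm 275

theorem mc2y_rep : PgRep (mplk mc2Y) mc2y := PgRep.perm mc2Yok

theorem mc2y_mem : mc2y ∈ G275 :=
  pgSift_mem (mpRigidTop 275) mpchkC mc2A mc2Yok (mem_top _) mc2Ysift

theorem mc2y_sq : mc2y * mc2y = mc2t :=
  (pgEq_iff (PgRep.mul mc2y_rep mc2y_rep) mc2t_rep).1 mc2Ysq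

/-! ### the centraliser -/

/-- the centraliser of the involution -/
def C275 : Subgroup (Equiv.Perm (Fin 275)) := G275 ⊓ centralizer {mc2t}

theorem mem_C275 {h : Equiv.Perm (Fin 275)} : h ∈ C275 ↔ h ∈ G275 ∧ h * mc2t = mc2t * h := by
  unfold C275
  rw [mem_inf, mem_centralizer_iff]
  constructor
  · rintro ⟨h1, h2⟩
    exact ⟨h1, (h2 mc2t rfl).symm⟩
  · rintro ⟨h1, h2⟩
    refine ⟨h1, ?_⟩
    intro g hg
    rw [Set.mem_singleton_iff] at hg
    rw [hg]
    exact h2.symm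

theorem mc2y_memC : mc2y ∈ C275 := by
  rw [mem_C275]
  refine ⟨mc2y_mem, ?_⟩
  rw [← mc2y_sq, mul_assoc]

theorem mc2t_memC : mc2t ∈ C275 := mem_C275.2 ⟨mc2t_mem, rfl⟩

/-- the elements of the centraliser fixing the point 0 are in the list -/
theorem mc2_stab_tab (h : Equiv.Perm (Fin 275)) (hC : h ∈ C275) (h0 : h 0 = 0) :
    ∃ T ∈ mc2Tabs, PgRep (pgLk 9 T) h := by
  obtain ⟨hG, hcomm⟩ := mem_C275.1 hC
  obtain ⟨hb1, h1, -, -, hm1⟩ := pgLvlW_main (mpRigidTop 275) mpchkC mc2A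
  have hG2 : h ∈ pgGrpW 275 [mcL2, mcL3, mcL4, mcL5] := by
    apply h1 h hG
    exact h0
  have hchk2 : pgChkW 275 (mpRigidTop 275).base [mcL2, mcL3, mcL4, mcL5] = true :=
    pgChkW_tail mpchkC
  have hA2 : pgGrpW 275 [mcL2, mcL3, mcL4, mcL5] ≤ (mpRigidTop 275).A := le_top
  obtain ⟨hb2, h2, -, -, hm2⟩ := pgLvlW_main (mpRigidTop 275) hchk2 hA2
  have h1' : h 1 = 1 := by
    have e : h (mc2t 0) = mc2t (h 0) := by
      rw [← Equiv.Perm.mul_apply, ← Equiv.Perm.mul_apply, hcomm]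
    rw [mc2t_zero, h0, mc2t_zero] at e
    exact e
  have hG3 : h ∈ pgGrpW 275 [mcL3, mcL4, mcL5] := by
    apply h2 h hG2
    exact h1'
  have hchk3 : pgChkW 275 (mpRigidTop 275).base [mcL3, mcL4, mcL5] = true := pgChkW_tail hchk2
  have hA3 : pgGrpW 275 [mcL3, mcL4, mcL5] ≤ (mpRigidTop 275).A := le_top
  obtain ⟨f, hf, htf⟩ := pgCent_gen (w := 9) (by norm_num) (mpRigidTop 275) hchk3 hA3 (mplk mc2T)
    mc2TabTest 2 mc2t mc2t_rep mc2Kcent h hG3 hcomm
  unfold mc2TabTest at htf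
  rw [pgForce_eq, pgAnyL_iff] at htf
  obtain ⟨T, hT, hTe⟩ := htf
  have hTe' : pgMk 9 275 f = T := Nat.eq_of_beq_eq_true hTe
  refine ⟨T, hT, ?_⟩
  intro p
  rw [← hTe', pgMk_lk 9 275 f ?_ p.1 p.2, hf]
  intro k hk
  rw [hf ⟨k, hk⟩]
  exact lt_of_lt_of_le (h ⟨k, hk⟩).2 (by norm_num)

theorem pgRep_unique {n : ℕ} {f : ℕ → ℕ} {a b : Equiv.Perm (Fin n)} (ha : PgRep f a)
    (hb : PgRep f b) : a = b := by
  ext p
  rw [← ha p, ← hb p]

theorem mc2_stab_card : Nat.card (stabilizer C275 (0 : Fin 275)) ≤ 168 := by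
  have key : ∀ s : stabilizer C275 (0 : Fin 275), ∃ T ∈ mc2Tabs, PgRep (pgLk 9 T) s.1.1 := by
    intro s
    apply mc2_stab_tab s.1.1 s.1.2
    have := mem_stabilizer_iff.1 s.2
    exact this
  choose F hF1 hF2 using key
  let F' : stabilizer C275 (0 : Fin 275) → {T // T ∈ mc2Tabs.toFinset} :=
    fun s => ⟨F s, List.mem_toFinset.2 (hF1 s)⟩
  have hinj : Function.Injective F' := by
    intro s s' hss
    have e : F s = F s' := congrArg Subtype.val hss
    have h1 := hF2 s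
    have h2 := hF2 s'
    rw [e] at h1
    exact Subtype.ext (Subtype.ext (pgRep_unique h1 h2))
  have h1 := Nat.card_le_card_of_injective F' hinj
  have h2 : Nat.card {T // T ∈ mc2Tabs.toFinset} = mc2Tabs.toFinset.card := by
    rw [Nat.card_eq_fintype_card, Fintype.card_coe]
  have h3 : mc2Tabs.toFinset.card ≤ 168 := by
    rw [← mc2TabsLen]
    exact List.toFinset_card_le _
  omega

theorem mc2_orbit_card : (orbit C275 (0 : Fin 275)).ncard ≤ 240 := by
  have hsub : orbit C275 (0 : Fin 275) ⊆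
      ↑(Finset.univ.filter (fun z : Fin 275 => (!(Nat.beq (mplk mc2T z.1) z.1)) = true)) := by
    rintro p ⟨c, rfl⟩
    obtain ⟨hG, hcomm⟩ := mem_C275.1 c.2
    rw [Finset.coe_filter]
    refine ⟨Finset.mem_univ _, ?_⟩
    have e : mc2t (c.1 0) = c.1 (mc2t 0) := by
      rw [← Equiv.Perm.mul_apply, ← Equiv.Perm.mul_apply, hcomm]
    rw [mc2t_zero] at e
    have hne : mc2t (c.1 0) ≠ c.1 0 := by
      rw [e]
      intro h
      exact absurd (c.1.injective h) (by decide)
    have hrep := mc2t_rep (c.1 0)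
    change (!(Nat.beq (mplk mc2T (c.1 0).1) (c.1 0).1)) = true
    rw [hrep]
    cases hb : Nat.beq (mc2t (c.1 0)).1 (c.1 0).1 with
    | false => rfl
    | true => exact absurd (Fin.ext (Nat.eq_of_beq_eq_true hb)) hne
  have h1 := Set.ncard_le_ncard hsub (Set.toFinite _)
  rw [Set.ncard_coe_finset, pgCount_fin 275 (fun p => !(Nat.beq (mplk mc2T p) p)), mc2Tmoved] at h1
  exact h1

theorem C275_card_le : Nat.card C275 ≤ 40320 := by
  have h1 := Subgroup.card_mul_index (stabilizer C275 (0 : Fin 275))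
  rw [index_stabilizer] at h1
  have h2 := mc2_stab_card
  have h3 := mc2_orbit_card
  calc Nat.card C275 = Nat.card (stabilizer C275 (0 : Fin 275)) *
      (orbit C275 (0 : Fin 275)).ncard := h1.symm
    _ ≤ 168 * 240 := Nat.mul_le_mul h2 h3
    _ = 40320 := by norm_num

/-! ### the generated subgroup -/

/-- the subgroup generated by two elements of the centraliser -/
abbrev D275 : Subgroup (Equiv.Perm (Fin 275)) := pgGrpW 275 mc2dC

theorem mc2dok : ∀ P ∈ mc2dL1.own, P.ok 275 = true :=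
  pgChkW_own_ok 275 (pgRigidAll 275).base mc2dC mc2dchkC

theorem D275_card : Nat.card D275 = 40320 := by
  rw [pgCardW (pgRigidAll 275) mc2dC mc2dchkC le_top, mc2dord]

theorem D275_le : D275 ≤ C275 := by
  change Subgroup.closure _ ≤ _
  rw [Subgroup.closure_le]
  rintro _ ⟨P, hP, rfl⟩
  rw [SetLike.mem_coe, mem_C275]
  have hok := mc2dok P hP
  constructor
  · exact pgSift_mem (mpRigidTop 275) mpchkC mc2A hok (mem_top _)
      ((pgAllL_iff _ _).1 mc2Dsift P hP)
  · exact (pgEq_iff (PgRep.mul (PgRep.perm hok) mc2t_rep)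
      (PgRep.mul mc2t_rep (PgRep.perm hok))).1 ((pgAllL_iff _ _).1 mc2Dcomm P hP)

theorem D275_eq : D275 = C275 :=
  Subgroup.eq_of_le_of_card_ge D275_le (by rw [D275_card]; exact C275_card_le)

theorem C275_card : Nat.card C275 = 40320 := by rw [← D275_eq, D275_card]

end Cfsg.Agent.Lib.helper23
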