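import Cfsg.Agent.Lib.helper23.Mc2B
import Cfsg.Agent.Lib.helper23.DoubleCover

set_option autoImplicit false
set_option maxRecDepth 1000000
set_option Elab.async false

/-!
# The McLaughlin group on 275 points: the centraliser of an involution covers the alternating
group of degree 8
-/

namespace Cfsg.Agent.Lib.helper23

open Cfsg.Agent.Lib.helper14.MP Subgroup MulAction

/-! ### the diagonal group on 275 + 8 points -/

theorem mc2eA : pgGrpW 283 mc2eC ≤ (pgRigidAll 283).A := le_top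

theorem mc2eok : ∀ P ∈ mc2eL1.own, P.ok 283 = true :=
  pgChkW_own_ok 283 (pgRigidAll 283).base mc2eC mc2echkC

/-- the diagonal group -/
abbrev E283 : Subgroup (Equiv.Perm (Fin 283)) := Subgroup.closure (pgSet 283 mc2eL1.own)

theorem E283_eq : E283 = pgGrpW 283 mc2eC := rfl

theorem E283_card : Nat.card E283 = 40320 := by
  rw [E283_eq, pgCardW (pgRigidAll 283) mc2eC mc2echkC mc2eA, mc2eord]

instance : Finite E283 := Nat.finite_of_card_ne_zero (by rw [E283_card]; norm_num)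

theorem mc2eown : mc2eL1.own = [mc2egen mc2eT1x0 mc2eI1x0, mc2egen mc2eT1x1 mc2eI1x1] := rfl

theorem mc2emem0 : mc2egen mc2eT1x0 mc2eI1x0 ∈ mc2eL1.own := by rw [mc2eown]; simp

theorem mc2emem1 : mc2egen mc2eT1x1 mc2eI1x1 ∈ mc2eL1.own := by rw [mc2eown]; simp

theorem mc2down : mc2dL1.own = [mc2dgen mc2dT1x0 mc2dI1x0, mc2dgen mc2dT1x1 mc2dI1x1] := rfl

theorem mc2dmem0 : mc2dgen mc2dT1x0 mc2dI1x0 ∈ mc2dL1.own := by rw [mc2down]; simp

theorem mc2dmem1 : mc2dgen mc2dT1x1 mc2dI1x1 ∈ mc2dL1.own := by rw [mc2down]; simp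

theorem mc2aown : mc2aL1.own = [mc2agen mc2aT1x0 mc2aI1x0, mc2agen mc2aT1x1 mc2aI1x1] := rfl

theorem mc2amem0 : mc2agen mc2aT1x0 mc2aI1x0 ∈ mc2aL1.own := by rw [mc2aown]; simp

theorem mc2amem1 : mc2agen mc2aT1x1 mc2aI1x1 ∈ mc2aL1.own := by rw [mc2aown]; simp

theorem mc2aok : ∀ P ∈ mc2aL1.own, P.ok 8 = true :=
  pgChkW_own_ok 8 (pgRigidAll 8).base mc2aC mc2achkC

/-! ### the restriction to the first 275 points -/

/-- the restriction to the first 275 points -/
noncomputable def mc2res1 : E283 →* Equiv.Perm (Fin 275) :=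
  pgBlkHom (n := 283) (m := 275) (off := 0) (by norm_num) mc2eok mc2eblk1

theorem mc2res1_gen0 :
    mc2res1 ⟨(mc2egen mc2eT1x0 mc2eI1x0).perm 283, Subgroup.subset_closure ⟨_, mc2emem0, rfl⟩⟩ =
      (mc2dgen mc2dT1x0 mc2dI1x0).perm 275 := by
  ext i
  have h := pgBlkHom_gen (n := 283) (m := 275) (off := 0) (by norm_num) mc2eok mc2eblk1 _
    mc2emem0 i
  rw [Nat.zero_add] at h
  change (mc2res1 _ i).1 = _ at h
  rw [h, PFun.perm_apply (mc2dok _ mc2dmem0)]
  exact (mc2etab1 i).1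

theorem mc2res1_gen1 :
    mc2res1 ⟨(mc2egen mc2eT1x1 mc2eI1x1).perm 283, Subgroup.subset_closure ⟨_, mc2emem1, rfl⟩⟩ =
      (mc2dgen mc2dT1x1 mc2dI1x1).perm 275 := by
  ext i
  have h := pgBlkHom_gen (n := 283) (m := 275) (off := 0) (by norm_num) mc2eok mc2eblk1 _
    mc2emem1 i
  rw [Nat.zero_add] at h
  change (mc2res1 _ i).1 = _ at h
  rw [h, PFun.perm_apply (mc2dok _ mc2dmem1)]
  exact (mc2etab1 i).2

theorem mc2res1_range : mc2res1.range = D275 := by
  change _ = Subgroup.closure (pgSet 275 mc2dL1.own)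
  apply pgBlkHom_range
  · intro P hP
    rw [mc2eown] at hP
    simp only [List.mem_cons, List.not_mem_nil, or_false] at hP
    rcases hP with rfl | rfl
    · exact ⟨_, mc2dmem0, mc2res1_gen0⟩
    · exact ⟨_, mc2dmem1, mc2res1_gen1⟩
  · rintro _ ⟨Q, hQ, rfl⟩
    rw [mc2down] at hQ
    simp only [List.mem_cons, List.not_mem_nil, or_false] at hQ
    rcases hQ with rfl | rfl
    · exact ⟨_, mc2emem0, mc2res1_gen0⟩
    · exact ⟨_, mc2emem1, mc2res1_gen1⟩

/-- the diagonal group is the centraliser -/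
noncomputable def E283_equiv : E283 ≃* D275 :=
  pgEquivOfRange mc2res1 _ mc2res1_range (by rw [E283_card, D275_card])

theorem E283_equiv_apply (g : E283) : ((E283_equiv g : D275) : Equiv.Perm (Fin 275)) =
    mc2res1 g := rfl

/-! ### the restriction to the last 8 points -/

/-- the restriction to the last 8 points -/
noncomputable def mc2res2 : E283 →* Equiv.Perm (Fin 8) :=
  pgBlkHom (n := 283) (m := 8) (off := 275) (by norm_num) mc2eok mc2eblk2

theorem mc2res2_gen0 :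
    mc2res2 ⟨(mc2egen mc2eT1x0 mc2eI1x0).perm 283, Subgroup.subset_closure ⟨_, mc2emem0, rfl⟩⟩ =
      (mc2agen mc2aT1x0 mc2aI1x0).perm 8 := by
  ext i
  have h := pgBlkHom_gen (n := 283) (m := 8) (off := 275) (by norm_num) mc2eok mc2eblk2 _
    mc2emem0 i
  change 275 + (mc2res2 _ i).1 = mc2elk mc2eT1x0 (275 + i.1) at h
  rw [PFun.perm_apply (mc2aok _ mc2amem0)]
  have := (mc2etab2 i).1
  change (mc2res2 _ i).1 = mc2alk mc2aT1x0 i.1
  omega

theorem mc2res2_gen1 :
    mc2res2 ⟨(mc2egen mc2eT1x1 mc2eI1x1).perm 283, Subgroup.subset_closure ⟨_, mc2emem1, rfl⟩⟩ =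
      (mc2agen mc2aT1x1 mc2aI1x1).perm 8 := by
  ext i
  have h := pgBlkHom_gen (n := 283) (m := 8) (off := 275) (by norm_num) mc2eok mc2eblk2 _
    mc2emem1 i
  change 275 + (mc2res2 _ i).1 = mc2elk mc2eT1x1 (275 + i.1) at h
  rw [PFun.perm_apply (mc2aok _ mc2amem1)]
  have := (mc2etab2 i).2
  change (mc2res2 _ i).1 = mc2alk mc2aT1x1 i.1
  omega

theorem mc2res2_range' : mc2res2.range = pgGrpW 8 mc2aC := by
  change _ = Subgroup.closure (pgSet 8 mc2aL1.own)
  apply pgBlkHom_range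
  · intro P hP
    rw [mc2eown] at hP
    simp only [List.mem_cons, List.not_mem_nil, or_false] at hP
    rcases hP with rfl | rfl
    · exact ⟨_, mc2amem0, mc2res2_gen0⟩
    · exact ⟨_, mc2amem1, mc2res2_gen1⟩
  · rintro _ ⟨Q, hQ, rfl⟩
    rw [mc2aown] at hQ
    simp only [List.mem_cons, List.not_mem_nil, or_false] at hQ
    rcases hQ with rfl | rfl
    · exact ⟨_, mc2emem0, mc2res2_gen0⟩
    · exact ⟨_, mc2emem1, mc2res2_gen1⟩

theorem mc2a_card : Nat.card (pgGrpW 8 mc2aC) = 20160 := by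
  rw [pgCardW (pgRigidAll 8) mc2aC mc2achkC le_top, mc2aord]

theorem mc2a_alt : pgGrpW 8 mc2aC = alternatingGroup (Fin 8) := by
  apply Equiv.Perm.eq_alternatingGroup_of_index_eq_two
  have h := Subgroup.card_mul_index (pgGrpW 8 mc2aC)
  rw [mc2a_card, Nat.card_perm, Nat.card_fin] at h
  have e : (8 : ℕ).factorial = 40320 := by decide
  rw [e] at h
  omega

theorem mc2res2_range : mc2res2.range = alternatingGroup (Fin 8) := by
  rw [mc2res2_range', mc2a_alt]

/-! ### the involution in the diagonal group -/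

/-- the involution on 275 + 8 points -/
def mc2tE : Equiv.Perm (Fin 283) := (mc2egen mc2TE mc2TE).perm 283

theorem mc2tE_rep : PgRep (mc2elk mc2TE) mc2tE := PgRep.perm mc2TEok

theorem mc2tE_mem : mc2tE ∈ E283 :=
  pgSift_mem (pgRigidAll 283) mc2echkC mc2eA mc2TEok (mem_top _) mc2TEsift

theorem mc2res1_tE : mc2res1 ⟨mc2tE, mc2tE_mem⟩ = mc2t := by
  ext i
  have h := pgBlkHom_spec (n := 283) (m := 275) (off := 0) (by norm_num) mc2eok mc2eblk1
    ⟨mc2tE, mc2tE_mem⟩ i
  rw [Nat.zero_add] at h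
  change (mc2res1 _ i).1 = _ at h
  rw [h, ← mc2t_rep i]
  have h2 := mc2tE_rep (pgBlk 283 275 0 (by norm_num) i)
  change mc2elk mc2TE (0 + i.1) = _ at h2
  rw [← h2, Nat.zero_add]
  exact Nat.eq_of_beq_eq_true ((pgAll_iff _ _).1 mc2TEtab.1 i.1 i.2)

theorem mc2res2_tE : mc2res2 ⟨mc2tE, mc2tE_mem⟩ = 1 := by
  ext i
  have h := pgBlkHom_spec (n := 283) (m := 8) (off := 275) (by norm_num) mc2eok mc2eblk2
    ⟨mc2tE, mc2tE_mem⟩ i
  change 275 + (mc2res2 _ i).1 = _ at h
  have h2 := mc2tE_rep (pgBlk 283 8 275 (by norm_num) i)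
  change mc2elk mc2TE (275 + i.1) = _ at h2
  rw [← h2] at h
  have h3 : mc2elk mc2TE (275 + i.1) = 275 + i.1 :=
    Nat.eq_of_beq_eq_true ((pgAll_iff _ _).1 mc2TEtab.2 i.1 i.2)
  rw [h3] at h
  change (mc2res2 _ i).1 = i.1
  omega

/-! ### the homomorphism onto the alternating group -/

/-- the homomorphism of the centraliser onto the alternating group -/
noncomputable def mc2psi : D275 →* alternatingGroup (Fin 8) :=
  (mc2res2.codRestrict (alternatingGroup (Fin 8)) (fun g => by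
    rw [← mc2res2_range]
    exact ⟨g, rfl⟩)).comp E283_equiv.symm.toMonoidHom

theorem mc2psi_surjective : Function.Surjective mc2psi := by
  intro a
  have ha : a.1 ∈ mc2res2.range := by rw [mc2res2_range]; exact a.2
  obtain ⟨g, hg⟩ := ha
  refine ⟨E283_equiv g, ?_⟩
  apply Subtype.ext
  change mc2res2 (E283_equiv.symm (E283_equiv g)) = a.1
  rw [MulEquiv.symm_apply_apply, hg]

/-- the involution in the subgroup -/
def mc2tD : D275 := ⟨mc2t, by rw [D275_eq]; exact mc2t_memC⟩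

/-- its square root in the subgroup -/
def mc2yD : D275 := ⟨mc2y, by rw [D275_eq]; exact mc2y_memC⟩

theorem mc2tD_eq : E283_equiv ⟨mc2tE, mc2tE_mem⟩ = mc2tD := by
  apply Subtype.ext
  rw [E283_equiv_apply, mc2res1_tE]
  rfl

theorem mc2psi_tD : mc2psi mc2tD = 1 := by
  apply Subtype.ext
  change mc2res2 (E283_equiv.symm mc2tD) = 1
  rw [← mc2tD_eq, MulEquiv.symm_apply_apply, mc2res2_tE]

theorem mc2tD_ne : mc2tD ≠ 1 := by
  intro h
  exact mc2t_ne (congrArg Subtype.val h)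

theorem mc2tD_center : mc2tD ∈ center D275 := by
  rw [mem_center_iff]
  intro g
  apply Subtype.ext
  have hg : g.1 ∈ C275 := by rw [← D275_eq]; exact g.2
  exact (mem_C275.1 hg).2

theorem mc2yD_sq : mc2yD * mc2yD = mc2tD := Subtype.ext mc2y_sq

instance : Finite D275 := Nat.finite_of_card_ne_zero (by rw [D275_card]; norm_num)

theorem mc2psi_ker_card : Nat.card mc2psi.ker = 2 := by
  have h1 := Subgroup.card_mul_index mc2psi.ker
  rw [Subgroup.index_ker, MonoidHom.range_eq_top.2 mc2psi_surjective, Subgroup.card_top,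
    D275_card, nat_card_alternatingGroup, Nat.card_fin] at h1
  have e : (8 : ℕ).factorial = 40320 := by decide
  rw [e] at h1
  omega

theorem mc2psi_ker (h : D275) (hh : mc2psi h = 1) : h = 1 ∨ h = mc2tD := by
  by_contra hcon
  rw [not_or] at hcon
  obtain ⟨y, -, hy⟩ := (Nat.card_eq_two_iff' (1 : mc2psi.ker)).1 mc2psi_ker_card
  have h1 : (⟨h, hh⟩ : mc2psi.ker) = y := hy _ (fun e => hcon.1 (congrArg Subtype.val e))
  have h2 : (⟨mc2tD, mc2psi_tD⟩ : mc2psi.ker) = y :=
    hy _ (fun e => mc2tD_ne (congrArg Subtype.val e))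
  exact hcon.2 (congrArg Subtype.val (h1.trans h2.symm))

end Cfsg.Agent.Lib.helper23
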