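import Cfsg.Agent.Lib.helper23.Mc2C

set_option autoImplicit false
set_option maxRecDepth 1000000
set_option Elab.async false

/-!
# The McLaughlin group on 275 points: one class of involutions, and the centraliser of an
involution is a non-split double cover of the alternating group of degree 8
-/

namespace Cfsg.Agent.Lib.helper23

open Cfsg.Agent.Lib.helper14.MP Subgroup MulAction

/-! ### the Sylow 2-subgroup -/

/-- a Sylow 2-subgroup -/
abbrev S275 : Subgroup (Equiv.Perm (Fin 275)) := pgGrpW 275 mc2sC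

theorem mc2sok : ∀ P ∈ mc2sL1.own, P.ok 275 = true :=
  pgChkW_own_ok 275 (pgRigidAll 275).base mc2sC mc2schkC

theorem S275_card : Nat.card S275 = 128 := by
  rw [pgCardW (pgRigidAll 275) mc2sC mc2schkC le_top, mc2sord]

theorem S275_le : S275 ≤ G275 := by
  change Subgroup.closure _ ≤ _
  rw [Subgroup.closure_le]
  rintro _ ⟨P, hP, rfl⟩
  exact pgSift_mem (mpRigidTop 275) mpchkC mc2A (mc2sok P hP) (mem_top _)
    ((pgAllL_iff _ _).1 mc2Ssift P hP)

theorem mc2lk_eq (T i : ℕ) : pgLk 9 T i = mplk T i := rfl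

/-- an involution of the Sylow subgroup is conjugate to the involution -/
theorem mc2_invol_syl (h : Equiv.Perm (Fin 275)) (hS : h ∈ S275) (h2 : orderOf h = 2) :
    ∃ a ∈ G275, a * h * a⁻¹ = mc2t := by
  obtain ⟨f, hf, htf⟩ := pgEnumM_all (w := 9) (by norm_num) (pgRigidAll 275) mc2schkC le_top _ 0
    mc2Stest h hS
  have hgs : ∀ P ∈ mcL1.own, P.ok 275 = true := mpok
  rcases pgConjTest_sound (by norm_num) hgs hf htf with h0 | ⟨c, hc, a, ha, hx⟩
  · rw [h0, orderOf_one] at h2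
    exact absurd h2 (by norm_num)
  · refine ⟨a, ha, ?_⟩
    have hcT : c.2.2 = mc2T := Nat.eq_of_beq_eq_true ((pgAllL_iff _ _).1 mc2CertTabs c hc)
    have hpow : (a * h * a⁻¹) ^ c.2.1 = mc2t := by
      ext p
      rw [hx p, hcT, mc2lk_eq, mc2t_rep p]
    have hu2 : (a * h * a⁻¹) ^ 2 = 1 := by
      have : (a * h * a⁻¹) ^ 2 = a * h ^ 2 * a⁻¹ := by
        rw [pow_two, pow_two]; group
      rw [this, ← h2, pow_orderOf_eq_one, mul_one, mul_inv_cancel]
    have hmod : (a * h * a⁻¹) ^ c.2.1 = (a * h * a⁻¹) ^ (c.2.1 % 2) := by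
      conv_lhs => rw [← Nat.div_add_mod c.2.1 2, pow_add, pow_mul, hu2, one_pow, one_mul]
    rcases Nat.mod_two_eq_zero_or_one c.2.1 with e | e
    · rw [hmod, e, pow_zero] at hpow
      exact absurd hpow.symm mc2t_ne
    · rw [hmod, e, pow_one] at hpow
      exact hpow

/-- an involution of the group is conjugate to the involution -/
theorem mc2_invol (x : G275) (hx : orderOf x = 2) :
    ∃ c : G275, c * x * c⁻¹ = ⟨mc2t, mc2t_mem⟩ := by
  have hP : Nat.card (S275.subgroupOf G275) = 2 ^ 7 := by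
    rw [Nat.card_congr (subgroupOfEquivOfLe S275_le).toEquiv, S275_card]
    norm_num
  have hidx : ¬ 2 ∣ (S275.subgroupOf G275).index := by
    have h1 := Subgroup.card_mul_index (S275.subgroupOf G275)
    rw [hP, G275_card] at h1
    have : (S275.subgroupOf G275).index = 7016625 := by omega
    rw [this]
    norm_num
  obtain ⟨c, hc⟩ := conj_mem_of_pgroup (p := 2) (S275.subgroupOf G275) hP hidx x (a := 1)
    (by rw [hx, pow_one])
  rw [mem_subgroupOf] at hc
  have ho : orderOf (c * x * c⁻¹).1 = 2 := by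
    rw [Subgroup.orderOf_coe]
    have : c * x * c⁻¹ = MulAut.conj c x := rfl
    rw [this, MulEquiv.orderOf_eq, hx]
  obtain ⟨a, ha, e⟩ := mc2_invol_syl _ hc ho
  refine ⟨⟨a, ha⟩ * c, ?_⟩
  apply Subtype.ext
  change a * c.1 * x.1 * (a * c.1)⁻¹ = mc2t
  rw [← e]
  change a * c.1 * x.1 * (a * c.1)⁻¹ = a * (c.1 * x.1 * c.1⁻¹) * a⁻¹
  group

/-! ### the theorem for a group isomorphic to the permutation group -/

section final

variable {Gx : Type*} [Group Gx]

theorem mc2_one_class (e : Gx ≃* G275) (x y : Gx) (hx : orderOf x = 2) (hy : orderOf y = 2) :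
    IsConj x y := by
  obtain ⟨c, hc⟩ := mc2_invol (e x) (by rw [MulEquiv.orderOf_eq, hx])
  obtain ⟨d, hd⟩ := mc2_invol (e y) (by rw [MulEquiv.orderOf_eq, hy])
  rw [isConj_iff]
  refine ⟨e.symm (d⁻¹ * c), ?_⟩
  apply e.injective
  rw [map_mul, map_mul, map_inv, e.apply_symm_apply]
  have h1 : e x = c⁻¹ * ⟨mc2t, mc2t_mem⟩ * c := by rw [← hc]; group
  have h2 : e y = d⁻¹ * ⟨mc2t, mc2t_mem⟩ * d := by rw [← hd]; group
  rw [h1, h2]
  group

/-- the involution of the group -/
noncomputable def mc2tx (e : Gx ≃* G275) : Gx := e.symm ⟨mc2t, mc2t_mem⟩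

theorem mc2tx_order (e : Gx ≃* G275) : orderOf (mc2tx e) = 2 := by
  unfold mc2tx
  rw [MulEquiv.orderOf_eq, Subgroup.orderOf_mk, mc2t_order]

theorem mc2_e_tx (e : Gx ≃* G275) : e (mc2tx e) = ⟨mc2t, mc2t_mem⟩ := e.apply_symm_apply _

theorem mc2phi_mem (e : Gx ≃* G275) (h : centralizer ({mc2tx e} : Set Gx)) :
    (e h.1).1 ∈ D275 := by
  rw [D275_eq, mem_C275]
  refine ⟨(e h.1).2, ?_⟩
  have hc : mc2tx e * h.1 = h.1 * mc2tx e := (mem_centralizer_iff.1 h.2) (mc2tx e) rfl
  have h2 : e (mc2tx e) * e h.1 = e h.1 * e (mc2tx e) := by rw [← map_mul, ← map_mul, hc]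
  rw [mc2_e_tx] at h2
  exact (congrArg Subtype.val h2).symm

/-- the centraliser maps to the subgroup: the function -/
noncomputable def mc2phiFun (e : Gx ≃* G275) (h : centralizer ({mc2tx e} : Set Gx)) : D275 :=
  ⟨(e h.1).1, mc2phi_mem e h⟩

theorem mc2phiFun_val (e : Gx ≃* G275) (h : centralizer ({mc2tx e} : Set Gx)) :
    (mc2phiFun e h).1 = (e h.1).1 := by
  unfold mc2phiFun
  exact Subtype.coe_mk _ _

/-- the centraliser maps to the subgroup -/
noncomputable def mc2phi (e : Gx ≃* G275) : centralizer ({mc2tx e} : Set Gx) →* D275 where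
  toFun := mc2phiFun e
  map_one' := by
    apply Subtype.ext
    rw [mc2phiFun_val]
    change (e (1 : Gx)).1 = 1
    rw [map_one]
    rfl
  map_mul' a b := by
    apply Subtype.ext
    rw [Subgroup.coe_mul, mc2phiFun_val, mc2phiFun_val, mc2phiFun_val]
    change (e (a.1 * b.1)).1 = (e a.1).1 * (e b.1).1
    rw [map_mul]
    rfl

theorem mc2phi_val (e : Gx ≃* G275) (h : centralizer ({mc2tx e} : Set Gx)) :
    (mc2phi e h).1 = (e h.1).1 := mc2phiFun_val e h

theorem mc2phi_injective (e : Gx ≃* G275) : Function.Injective (mc2phi e) := by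
  intro a b hab
  apply Subtype.ext
  apply e.injective
  apply Subtype.ext
  have := congrArg Subtype.val hab
  rw [mc2phi_val, mc2phi_val] at this
  exact this

theorem mc2phi_surjective (e : Gx ≃* G275) : Function.Surjective (mc2phi e) := by
  intro d
  have hd : d.1 ∈ C275 := by rw [← D275_eq]; exact d.2
  obtain ⟨hG, hcomm⟩ := mem_C275.1 hd
  have hmem : e.symm ⟨d.1, hG⟩ ∈ centralizer ({mc2tx e} : Set Gx) := by
    rw [mem_centralizer_iff]
    intro g hg
    rw [Set.mem_singleton_iff] at hg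
    subst hg
    apply e.injective
    rw [map_mul, map_mul, mc2_e_tx, e.apply_symm_apply]
    apply Subtype.ext
    exact hcomm.symm
  refine ⟨⟨e.symm ⟨d.1, hG⟩, hmem⟩, ?_⟩
  apply Subtype.ext
  rw [mc2phi_val]
  change (e (e.symm ⟨d.1, hG⟩)).1 = d.1
  rw [e.apply_symm_apply]

theorem mc2_tx_mem (e : Gx ≃* G275) : mc2tx e ∈ centralizer ({mc2tx e} : Set Gx) := by
  rw [mem_centralizer_iff]
  intro g hg
  rw [Set.mem_singleton_iff] at hg
  rw [hg]

theorem mc2phi_tx (e : Gx ≃* G275) : mc2phi e ⟨mc2tx e, mc2_tx_mem e⟩ = mc2tD := by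
  apply Subtype.ext
  rw [mc2phi_val]
  change (e (mc2tx e)).1 = mc2t
  rw [mc2_e_tx]

theorem mc2_double_cover (e : Gx ≃* G275) :
    Cfsg.IsNonsplitDoubleCover (centralizer ({mc2tx e} : Set Gx)) (alternatingGroup (Fin 8)) := by
  obtain ⟨y, hy⟩ := mc2phi_surjective e mc2yD
  apply isNonsplitDoubleCover_of_hom (mc2psi.comp (mc2phi e))
    (mc2psi_surjective.comp (mc2phi_surjective e)) ⟨mc2tx e, mc2_tx_mem e⟩ ?_ ?_ ?_ ?_
    (alternatingGroup.center_eq_bot (by rw [Nat.card_fin]; norm_num)) y ?_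
  · intro h
    have := congrArg (mc2phi e) h
    rw [mc2phi_tx, map_one] at this
    exact mc2tD_ne this
  · rw [mem_center_iff]
    intro g
    apply Subtype.ext
    exact ((mem_centralizer_iff.1 g.2) (mc2tx e) rfl).symm
  · intro h hh
    rcases mc2psi_ker (mc2phi e h) hh with h1 | h1
    · left
      apply mc2phi_injective e
      rw [h1, map_one]
    · right
      apply mc2phi_injective e
      rw [h1, mc2phi_tx]
  · change mc2psi (mc2phi e ⟨mc2tx e, mc2_tx_mem e⟩) = 1
    rw [mc2phi_tx, mc2psi_tD]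
  · apply mc2phi_injective e
    rw [map_mul, hy, mc2yD_sq, mc2phi_tx]

theorem mc2_final (e : Gx ≃* G275) :
    (∀ x y : Gx, orderOf x = 2 → orderOf y = 2 → IsConj x y) ∧
    ∃ t : Gx, orderOf t = 2 ∧
      Cfsg.IsNonsplitDoubleCover (centralizer ({t} : Set Gx)) (alternatingGroup (Fin 8)) :=
  ⟨mc2_one_class e, mc2tx e, mc2tx_order e, mc2_double_cover e⟩

end final

end Cfsg.Agent.Lib.helper23
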