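import Cfsg.Agent.Lib.helper23.PgK
import Cfsg.Agent.Lib.helper23.PgJ

set_option autoImplicit false
set_option maxRecDepth 100000

namespace Cfsg.Agent.Lib.helper23

/-! ### The alternating group of degree 8: data -/

/-- lookup in a packed table, 3 bits per entry -/
def mc2alk (T i : ℕ) : ℕ := Nat.land (Nat.shiftRight T (Nat.mul 3 i)) 7

/-- a generator from its table and the table of its inverse -/
def mc2agen (T T' : ℕ) : PFun := ⟨fun i => mc2alk T i, fun i => mc2alk T' i⟩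

/-- the word of a point -/
def mc2apath (l : List (List ℕ)) (z : ℕ) : List ℕ := l.getD z []

/-- level 1: orbit -/
def mc2aM1 : ℕ := 255

/-- level 1: words -/
def mc2aP1 : List (List ℕ) := [[], [2, 1], [0, 3], [3, 2, 2, 1], [1, 2, 2, 1], [3], [2, 2, 1], [1]]

/-- level 1: generator 0 -/
def mc2aT1x0 : ℕ := 10831800

/-- level 1: inverse of generator 0 -/
def mc2aI1x0 : ℕ := 2869104

/-- level 1: generator 1 -/
def mc2aT1x1 : ℕ := 11549839

/-- level 1: inverse of generator 1 -/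
def mc2aI1x1 : ℕ := 1042573

/-- level 1 -/
def mc2aL1 : PgLvlW := ⟨0, pgBit mc2aM1, mc2apath mc2aP1, [mc2agen mc2aT1x0 mc2aI1x0, mc2agen mc2aT1x1 mc2aI1x1], [[3, 0, 1, 2, 1, 3, 0, 2, 1], [3, 0, 1, 2, 1, 1, 2, 2, 2, 2, 1]]⟩

/-- level 2: orbit -/
def mc2aM2 : ℕ := 254

/-- level 2: words -/
def mc2aP2 : List (List ℕ) := [[], [], [3], [1, 0], [2], [1, 1], [0], [1]]

/-- level 2: generator 0 -/
def mc2aT2x0 : ℕ := 5478256

/-- level 2: inverse of generator 0 -/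
def mc2aI2x0 : ℕ := 10840032

/-- level 2: generator 1 -/
def mc2aT2x1 : ℕ := 11357304

/-- level 2: inverse of generator 1 -/
def mc2aI2x1 : ℕ := 3132752

/-- level 2 -/
def mc2aL2 : PgLvlW := ⟨1, pgBit mc2aM2, mc2apath mc2aP2, [mc2agen mc2aT2x0 mc2aI2x0, mc2agen mc2aT2x1 mc2aI2x1], [[2, 3, 2, 1, 0, 1, 2, 1, 1], [3, 3, 3, 3, 1, 2, 1, 1]]⟩

/-- level 3: orbit -/
def mc2aM3 : ℕ := 252

/-- level 3: words -/
def mc2aP3 : List (List ℕ) := [[], [], [], [1, 0], [0], [3, 0], [3, 2], [2]]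

/-- level 3: generator 0 -/
def mc2aT3x0 : ℕ := 5961480

/-- level 3: inverse of generator 0 -/
def mc2aI3x0 : ℕ := 10135496

/-- level 3: generator 1 -/
def mc2aT3x1 : ℕ := 12467336

/-- level 3: inverse of generator 1 -/
def mc2aI3x1 : ℕ := 13621384

/-- level 3 -/
def mc2aL3 : PgLvlW := ⟨2, pgBit mc2aM3, mc2apath mc2aP3, [mc2agen mc2aT3x0 mc2aI3x0, mc2agen mc2aT3x1 mc2aI3x1], [[1, 2, 3, 1, 0], [0, 2, 2, 1, 1, 2]]⟩

/-- level 4: orbit -/
def mc2aM4 : ℕ := 248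

/-- level 4: words -/
def mc2aP4 : List (List ℕ) := [[], [], [], [], [1], [3], [0], [0, 0]]

/-- level 4: generator 0 -/
def mc2aT4x0 : ℕ := 12467336

/-- level 4: inverse of generator 0 -/
def mc2aI4x0 : ℕ := 13621384

/-- level 4: generator 1 -/
def mc2aT4x1 : ℕ := 14022792

/-- level 4: inverse of generator 1 -/
def mc2aI4x1 : ℕ := 10435208

/-- level 4 -/
def mc2aL4 : PgLvlW := ⟨3, pgBit mc2aM4, mc2apath mc2aP4, [mc2agen mc2aT4x0 mc2aI4x0, mc2agen mc2aT4x1 mc2aI4x1], [[3, 2, 1, 3], [1, 1, 0, 2, 0]]⟩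

/-- level 5: orbit -/
def mc2aM5 : ℕ := 240

/-- level 5: words -/
def mc2aP5 : List (List ℕ) := [[], [], [], [], [], [2], [0], [1]]

/-- level 5: generator 0 -/
def mc2aT5x0 : ℕ := 16148104

/-- level 5: inverse of generator 0 -/
def mc2aI5x0 : ℕ := 15947400

/-- level 5: generator 1 -/
def mc2aT5x1 : ℕ := 9926280

/-- level 5: inverse of generator 1 -/
def mc2aI5x1 : ℕ := 9926280

/-- level 5 -/
def mc2aL5 : PgLvlW := ⟨4, pgBit mc2aM5, mc2apath mc2aP5, [mc2agen mc2aT5x0 mc2aI5x0, mc2agen mc2aT5x1 mc2aI5x1], [[2, 0, 2, 1, 2], [2, 0, 3, 2, 1]]⟩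

/-- level 6: orbit -/
def mc2aM6 : ℕ := 224

/-- level 6: words -/
def mc2aP6 : List (List ℕ) := [[], [], [], [], [], [], [0], [1]]

/-- level 6: generator 0 -/
def mc2aT6x0 : ℕ := 12535432

/-- level 6: inverse of generator 0 -/
def mc2aI6x0 : ℕ := 14141064

/-- level 6: generator 1 -/
def mc2aT6x1 : ℕ := 14141064

/-- level 6: inverse of generator 1 -/
def mc2aI6x1 : ℕ := 12535432

/-- level 6 -/
def mc2aL6 : PgLvlW := ⟨5, pgBit mc2aM6, mc2apath mc2aP6, [mc2agen mc2aT6x0 mc2aI6x0, mc2agen mc2aT6x1 mc2aI6x1], []⟩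

end Cfsg.Agent.Lib.helper23
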