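import Cfsg.Agent.S1578
import Cfsg.Agent.Lib.Lead.ConwayHS3
import Cfsg.Agent.Lib.helper4.OctadFix

set_option autoImplicit false

/-!
# The McLaughlin configuration in the standard frame: the count 275
-/

namespace Cfsg.Agent.Lib.helper23

open Cfsg
open Cfsg.Agent.Lib.Lead.LX Cfsg.Agent.Lib.Lead.CW Cfsg.Agent.Lib.Lead.CO Cfsg.Agent.Lib.Lead.CP
open Cfsg.Agent.Lib.helper3 Cfsg.Agent.Lib.helper4 Cfsg.Agent.S0398 Cfsg.Agent.S1571
open Cfsg.Agent.Lib.Lead.LC Cfsg.Agent.Lib.Lead.LC3 Cfsg.Agent.Lib.Lead.HS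

/-- the set of the McLaughlin configuration -/
def mclX (u v : ↥leechLattice) : Set ↥leechLattice :=
  {x | sqNorm x.1 = 32 ∧ sqNorm (u - x).1 = 32 ∧ dotInt v.1 x.1 = 16}

/-- the standard vector `(1, 5, 1, …, 1)` -/
def mclU : ↥leechLattice := v32 + W1

theorem mclU_apply (p : GolayPt) : mclU.1 p = if p = some 0 then 5 else 1 := by
  show v32.1 p + x0 p = _
  rw [v32_apply]
  unfold x0
  by_cases h0 : p = none
  · subst h0
    simp
  · by_cases h1 : p = some 0
    · subst h1
      simp
    · rw [if_neg h0, if_neg h1, if_neg h0, if_neg h1]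
      norm_num

theorem mclU_none : mclU.1 none = 1 := by
  rw [mclU_apply]
  simp

theorem mclU_zero : mclU.1 (some 0) = 5 := by
  rw [mclU_apply]
  simp

set_option maxRecDepth 100000 in
theorem mclU_norm : sqNorm mclU.1 = 48 := by decide +kernel

theorem mclU_sub_v32 : mclU - v32 = W1 := by
  unfold mclU
  abel

theorem W1_none : W1.1 none = -3 := rfl

theorem W1_zero : W1.1 (some 0) = 1 := rfl

set_option maxRecDepth 100000 in
theorem W1_norm : sqNorm W1.1 = 32 := by decide +kernel

theorem mcl_sum_eight (x : ↥leechLattice) (hN : sqNorm x.1 = 32)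
    (h8 : x.1 none + x.1 (some 0) = 8) : x = v32 := by
  have hb := sq_le_norm x.1 none (some 0) (by simp)
  rw [hN] at hb
  have h1 : (x.1 none - 4) ^ 2 + (x.1 (some 0) - 4) ^ 2 ≤ 0 := by nlinarith
  have ha : (x.1 none - 4) ^ 2 = 0 :=
    le_antisymm (by nlinarith [sq_nonneg (x.1 (some 0) - 4)]) (sq_nonneg _)
  have hb' : (x.1 (some 0) - 4) ^ 2 = 0 :=
    le_antisymm (by nlinarith [sq_nonneg (x.1 none - 4)]) (sq_nonneg _)
  have ha' := pow_eq_zero_iff (by norm_num) |>.1 ha
  have hb'' := pow_eq_zero_iff (by norm_num) |>.1 hb'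
  exact eq_v32 x hN (by omega) (by omega)

/-- the possible values of `x ∞ + x 0` on a minimal vector -/
theorem mcl_sum_cases (x : ↥leechLattice) (hN : sqNorm x.1 = 32) :
    x.1 none + x.1 (some 0) = 8 ∨ x.1 none + x.1 (some 0) = 4 ∨
    x.1 none + x.1 (some 0) = 2 ∨ x.1 none + x.1 (some 0) = 0 ∨
    x.1 none + x.1 (some 0) = -2 ∨ x.1 none + x.1 (some 0) = -4 ∨
    x.1 none + x.1 (some 0) = -8 := by
  have hb := sq_le_norm x.1 none (some 0) (by simp)
  rw [hN] at hb
  have ha : -5 ≤ x.1 none ∧ x.1 none ≤ 5 := by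
    constructor <;> nlinarith [sq_nonneg (x.1 (some 0))]
  have hb' : -5 ≤ x.1 (some 0) ∧ x.1 (some 0) ≤ 5 := by
    constructor <;> nlinarith [sq_nonneg (x.1 none)]
  rcases parity_cases x.1 x.2 with hev | hod
  · have e0 := hev none
    have e1 := hev (some 0)
    have k1 : (x.1 none).natAbs = 4 → x.1 (some 0) = 0 ∨ (x.1 (some 0)).natAbs = 4 := by
      intro h4
      obtain ⟨k, hk, hk4, hz⟩ := pair_shape x hN none h4
      by_cases hk0 : k = some 0
      · right
        rw [← hk0]
        exact hk4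
      · left
        exact hz (some 0) (by simp) (Ne.symm hk0)
    have k2 : (x.1 (some 0)).natAbs = 4 → x.1 none = 0 ∨ (x.1 none).natAbs = 4 := by
      intro h4
      obtain ⟨k, hk, hk4, hz⟩ := pair_shape x hN (some 0) h4
      by_cases hk0 : k = none
      · right
        rw [← hk0]
        exact hk4
      · left
        exact hz none (by simp) (Ne.symm hk0)
    by_cases h4 : (x.1 none).natAbs = 4
    · rcases k1 h4 with h | h <;> omega
    · by_cases h4' : (x.1 (some 0)).natAbs = 4
      · rcases k2 h4' with h | h <;> omega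
      · omega
  · obtain ⟨c3, hsh⟩ := odd_shape x hN hod
    have hA := hsh none
    have hB := hsh (some 0)
    have hne : ¬ ((x.1 none).natAbs = 3 ∧ (x.1 (some 0)).natAbs = 3) := by
      rintro ⟨h, h'⟩
      have := eq_of_cnt_one x.1 3 c3 none (some 0) h h'
      simp at this
    omega

/-- decompositions of the standard vector -/
theorem mcl_T_cases (x : ↥leechLattice) (hx : sqNorm x.1 = 32)
    (hx' : sqNorm (mclU - x).1 = 32) :
    x = v32 ∨ x = W1 ∨ x.1 none + x.1 (some 0) = 4 ∨ x.1 none + x.1 (some 0) = 2 := by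
  have e0 : (mclU - x).1 none = 1 - x.1 none := by
    show mclU.1 none - x.1 none = _
    rw [mclU_none]
  have e1 : (mclU - x).1 (some 0) = 5 - x.1 (some 0) := by
    show mclU.1 (some 0) - x.1 (some 0) = _
    rw [mclU_zero]
  have c1 := mcl_sum_cases x hx
  have c2 := mcl_sum_cases (mclU - x) hx'
  rw [e0, e1] at c2
  by_cases h8 : x.1 none + x.1 (some 0) = 8
  · exact Or.inl (mcl_sum_eight x hx h8)
  · by_cases h8' : (mclU - x).1 none + (mclU - x).1 (some 0) = 8
    · right
      left
      have := mcl_sum_eight (mclU - x) hx' h8'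
      rw [← mclU_sub_v32, ← this]
      abel
    · rw [e0, e1] at h8'
      omega

theorem mcl_mem_X0 (x : ↥leechLattice) : x ∈ mclX mclU v32 ↔
    sqNorm x.1 = 32 ∧ sqNorm (mclU - x).1 = 32 ∧ x.1 none + x.1 (some 0) = 4 := by
  unfold mclX
  rw [Set.mem_ofPred_eq, dot_v32]
  constructor
  · rintro ⟨h1, h2, h3⟩
    exact ⟨h1, h2, by omega⟩
  · rintro ⟨h1, h2, h3⟩
    exact ⟨h1, h2, by omega⟩

/-- the number of vectors of the standard configuration -/
theorem mcl_card_X0 : (mclX mclU v32).ncard = 275 := by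
  classical
  have hT : {v : ↥leechLattice | sqNorm v.1 = 32 ∧ sqNorm (mclU - v).1 = 32}.ncard = 552 :=
    Cfsg.Agent.S1578.result mclU mclU_norm
  have hfin : {v : ↥leechLattice | sqNorm v.1 = 32 ∧ sqNorm (mclU - v).1 = 32}.Finite :=
    Set.finite_of_ncard_ne_zero (by rw [hT]; norm_num)
  have hcard : hfin.toFinset.card = 552 := by
    rw [← Set.ncard_eq_toFinset_card _ hfin, hT]
  have memT : ∀ y, y ∈ hfin.toFinset ↔ sqNorm y.1 = 32 ∧ sqNorm (mclU - y).1 = 32 :=
    fun y => Set.Finite.mem_toFinset hfin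
  set FT := hfin.toFinset with hFT
  have hmaps : ∀ y ∈ FT, y.1 none + y.1 (some 0) ∈ ({8, 4, 2, -2} : Finset ℤ) := by
    intro y hy
    rw [memT] at hy
    simp only [Finset.mem_insert, Finset.mem_singleton]
    rcases mcl_T_cases y hy.1 hy.2 with h | h | h | h
    · rw [h]
      left
      rfl
    · rw [h]
      right; right; right
      rfl
    · right; left
      exact h
    · right; right; left
      exact h
  have hsum := Finset.card_eq_sum_card_fiberwise hmaps
  have f8 : FT.filter (fun y => y.1 none + y.1 (some 0) = 8) = {v32} := by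
    ext y
    rw [Finset.mem_filter, Finset.mem_singleton, memT]
    constructor
    · rintro ⟨⟨h1, -⟩, h2⟩
      exact mcl_sum_eight y h1 h2
    · rintro rfl
      refine ⟨⟨norm_v32, ?_⟩, rfl⟩
      rw [mclU_sub_v32]
      exact W1_norm
  have f2 : FT.filter (fun y => y.1 none + y.1 (some 0) = -2) = {W1} := by
    ext y
    rw [Finset.mem_filter, Finset.mem_singleton, memT]
    constructor
    · rintro ⟨⟨h1, h1'⟩, h2⟩
      rcases mcl_T_cases y h1 h1' with h | h | h | h
      · rw [h] at h2
        exact absurd h2 (by decide)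
      · exact h
      · omega
      · omega
    · rintro rfl
      refine ⟨⟨W1_norm, ?_⟩, rfl⟩
      have : mclU - W1 = v32 := by
        unfold mclU
        abel
      rw [this]
      exact norm_v32
  have f4 : (FT.filter (fun y => y.1 none + y.1 (some 0) = 4)).card = (mclX mclU v32).ncard := by
    rw [← Set.ncard_coe_finset]
    congr 1
    ext y
    rw [Finset.mem_coe, Finset.mem_filter, memT, mcl_mem_X0, and_assoc]
  have fsw : (FT.filter (fun y => y.1 none + y.1 (some 0) = 2)).card
      = (FT.filter (fun y => y.1 none + y.1 (some 0) = 4)).card := by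
    have hsub : ∀ y : ↥leechLattice, mclU - (mclU - y) = y := fun y => by abel
    refine Finset.card_bij' (fun y _ => mclU - y) (fun y _ => mclU - y) ?_ ?_ ?_ ?_
    · intro y hy
      rw [Finset.mem_filter, memT] at hy ⊢
      refine ⟨⟨hy.1.2, by rw [hsub]; exact hy.1.1⟩, ?_⟩
      show (mclU.1 none - y.1 none) + (mclU.1 (some 0) - y.1 (some 0)) = 4
      rw [mclU_none, mclU_zero]
      omega
    · intro y hy
      rw [Finset.mem_filter, memT] at hy ⊢
      refine ⟨⟨hy.1.2, by rw [hsub]; exact hy.1.1⟩, ?_⟩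
      show (mclU.1 none - y.1 none) + (mclU.1 (some 0) - y.1 (some 0)) = 2
      rw [mclU_none, mclU_zero]
      omega
    · intro y _
      exact hsub y
    · intro y _
      exact hsub y
  rw [hcard, Finset.sum_insert (by decide), Finset.sum_insert (by decide),
    Finset.sum_insert (by decide), Finset.sum_singleton, f8, f2, fsw, f4,
    Finset.card_singleton, Finset.card_singleton] at hsum
  omega

end Cfsg.Agent.Lib.helper23
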