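import Cfsg.Agent.Lib.helper23.McLA

set_option autoImplicit false

/-!
# The three families of the standard McLaughlin configuration
-/

namespace Cfsg.Agent.Lib.helper23

open Cfsg
open Cfsg.Agent.Lib.Lead.LX Cfsg.Agent.Lib.Lead.CW Cfsg.Agent.Lib.Lead.CO Cfsg.Agent.Lib.Lead.CP
open Cfsg.Agent.Lib.helper3 Cfsg.Agent.Lib.helper4 Cfsg.Agent.S0398 Cfsg.Agent.S1571
open Cfsg.Agent.Lib.Lead.LC Cfsg.Agent.Lib.Lead.LC3 Cfsg.Agent.Lib.Lead.HS

/-- the standard vector as a function -/
def mclUv : GolayPt → ℤ := fun p => if p = some 0 then 5 else 1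

theorem mclU_val : mclU.1 = mclUv := by
  funext p
  rw [mclU_apply]
  rfl

/-- membership in the standard configuration from the dot products -/
theorem mcl_mem_of_dots (y : ↥leechLattice) (h1 : sqNorm y.1 = 32)
    (h2 : dotInt mclUv y.1 = 24) (h3 : dotInt v32.1 y.1 = 16) : y ∈ mclX mclU v32 := by
  refine ⟨h1, ?_, h3⟩
  show sqNorm (mclU.1 - y.1) = 32
  rw [sqNorm_sub, mclU_norm, h1, mclU_val, h2]
  norm_num

/-! ### first family -/

/-- the vectors `4e_0 + 4e_j` -/
def mclF1 (j : ZMod 23) : GolayPt → ℤ :=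
  fun p => (if p = some 0 then 4 else 0) + (if p = some j then 4 else 0)

set_option maxRecDepth 1000000 in
theorem mclF1_chk : ∀ j : ZMod 23, j ≠ 0 → isLeechB (mclF1 j) = true ∧ sqNorm (mclF1 j) = 32 ∧
    dotInt mclUv (mclF1 j) = 24 ∧ dotInt v32.1 (mclF1 j) = 16 := by decide +kernel

/-- the first family as lattice vectors -/
def mclL1 (j : ZMod 23) : ↥leechLattice :=
  if h : isLeechB (mclF1 j) = true then ⟨mclF1 j, isLeechB_sound _ h⟩ else 0

theorem mclL1_val (j : ZMod 23) (hj : j ≠ 0) : (mclL1 j).1 = mclF1 j := by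
  unfold mclL1
  rw [dif_pos (mclF1_chk j hj).1]

theorem mclL1_mem (j : ZMod 23) (hj : j ≠ 0) : mclL1 j ∈ mclX mclU v32 := by
  have h := mclF1_chk j hj
  apply mcl_mem_of_dots <;> rw [mclL1_val j hj]
  · exact h.2.1
  · exact h.2.2.1
  · exact h.2.2.2

theorem mclL1_none (j : ZMod 23) (hj : j ≠ 0) : (mclL1 j).1 none = 0 := by
  rw [mclL1_val j hj]
  unfold mclF1
  simp

theorem mclL1_inj (j j' : ZMod 23) (hj : j ≠ 0) (hj' : j' ≠ 0) (h : mclL1 j = mclL1 j') :
    j = j' := by
  have h1 : mclF1 j (some j) = mclF1 j' (some j) := by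
    rw [← mclL1_val j hj, ← mclL1_val j' hj', h]
  unfold mclF1 at h1
  have e : (some j : GolayPt) ≠ some 0 := by simpa using hj
  rw [if_neg e, if_pos rfl] at h1
  by_contra hne
  rw [if_neg (by simpa using hne)] at h1
  omega

/-! ### second family -/

set_option maxRecDepth 1000000 in
theorem mcl_oK_chk : ∀ k : Fin 4096, keyM k = (6, true, true) → dotInt mclUv (oK k) = 24 := by
  decide +kernel

theorem mclL2_mem (k : ℕ) (hk : k ∈ K77) : oL k ∈ mclX mclU v32 := by
  have hv := oL_val k hk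
  rw [mem_K77] at hk
  have h := oK_chk ⟨k, hk.1⟩ hk.2
  have h' := mcl_oK_chk ⟨k, hk.1⟩ hk.2
  apply mcl_mem_of_dots <;> rw [hv]
  · exact h.2.1
  · exact h'
  · exact h.2.2.2.2.1

theorem mclL2_none (k : ℕ) (hk : k ∈ K77) : (oL k).1 none = 2 := by
  rw [oL_val k hk]
  rw [mem_K77] at hk
  have hkey := hk.2
  unfold keyM at hkey
  rw [Prod.mk.injEq, Prod.mk.injEq] at hkey
  have h0 : Cw k none ≠ 0 := of_decide_eq_true hkey.2.1
  unfold oK
  rw [if_pos h0]

/-! ### third family -/

/-- the vectors with `3` at `0`, `-1` on the rest of an octad through `0` and `1` elsewhere -/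
def mclZ (k : ℕ) : GolayPt → ℤ :=
  fun p => if p = some 0 then 3 else if Cw k p ≠ 0 then -1 else 1

set_option maxRecDepth 1000000 in
theorem mclZ_chk : ∀ k : Fin 4096, keyM k = (7, false, true) →
    isLeechB (mclZ k) = true ∧ sqNorm (mclZ k) = 32 ∧ dotInt mclUv (mclZ k) = 24 ∧
      dotInt v32.1 (mclZ k) = 16 ∧ popc (golayMask k) = 8 := by
  decide +kernel

/-- the third family as lattice vectors -/
def mclL3 (k : ℕ) : ↥leechLattice :=
  if h : isLeechB (mclZ k) = true then ⟨mclZ k, isLeechB_sound _ h⟩ else 0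

/-- indices of the octads through `0` avoiding `∞` -/
def K176 : Finset ℕ := (Finset.range 4096).filter (fun k => keyM k = (7, false, true))

theorem mem_K176 (k : ℕ) : k ∈ K176 ↔ k < 4096 ∧ keyM k = (7, false, true) := by
  unfold K176
  rw [Finset.mem_filter, Finset.mem_range]

theorem card_K176 : K176.card = 176 :=
  keyM_count ((7, false, true), 176) (by simp [keyTable])

theorem mclL3_val (k : ℕ) (hk : k ∈ K176) : (mclL3 k).1 = mclZ k := by
  rw [mem_K176] at hk
  unfold mclL3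
  rw [dif_pos (mclZ_chk ⟨k, hk.1⟩ hk.2).1]

theorem mclL3_mem (k : ℕ) (hk : k ∈ K176) : mclL3 k ∈ mclX mclU v32 := by
  have hv := mclL3_val k hk
  rw [mem_K176] at hk
  have h := mclZ_chk ⟨k, hk.1⟩ hk.2
  apply mcl_mem_of_dots <;> rw [hv]
  · exact h.2.1
  · exact h.2.2.1
  · exact h.2.2.2.1

theorem K176_key (k : ℕ) (hk : k ∈ K176) : ¬ Cw k none ≠ 0 ∧ Cw k (some 0) ≠ 0 := by
  rw [mem_K176] at hk
  have hkey := hk.2
  unfold keyM at hkey
  rw [Prod.mk.injEq, Prod.mk.injEq] at hkey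
  exact ⟨of_decide_eq_false hkey.2.1, of_decide_eq_true hkey.2.2⟩

theorem mclL3_none (k : ℕ) (hk : k ∈ K176) : (mclL3 k).1 none = 1 := by
  rw [mclL3_val k hk]
  unfold mclZ
  rw [if_neg (by simp), if_neg (K176_key k hk).1]

theorem mclL3_inj (k k' : ℕ) (hk : k ∈ K176) (hk' : k' ∈ K176) (h : mclL3 k = mclL3 k') :
    k = k' := by
  have h1 : mclZ k = mclZ k' := by
    rw [← mclL3_val k hk, ← mclL3_val k' hk', h]
  have a := (K176_key k hk).2
  have a' := (K176_key k' hk').2
  rw [mem_K176] at hk hk'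
  apply Cw_injOn hk.1 hk'.1
  funext p
  by_cases hp : p = some 0
  · subst hp
    rw [(zmod2_ne_zero_iff _).1 a, (zmod2_ne_zero_iff _).1 a']
  · have h2 := congrFun h1 p
    unfold mclZ at h2
    rw [if_neg hp, if_neg hp] at h2
    rcases zmod2_eq (Cw k p) with b | b <;> rcases zmod2_eq (Cw k' p) with b' | b' <;>
      rw [b, b'] at h2 ⊢ <;> simp at h2

/-! ### the classification -/

/-- the first family -/
def mclFA : Finset ↥leechLattice := ((Finset.univ : Finset (ZMod 23)).erase 0).image mclL1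

/-- the second family -/
def mclFB : Finset ↥leechLattice := K77.image oL

/-- the third family -/
def mclFC : Finset ↥leechLattice := K176.image mclL3

theorem mem_mclFA (y : ↥leechLattice) : y ∈ mclFA ↔ ∃ j : ZMod 23, j ≠ 0 ∧ mclL1 j = y := by
  unfold mclFA
  rw [Finset.mem_image]
  constructor
  · rintro ⟨j, hj, rfl⟩
    exact ⟨j, Finset.ne_of_mem_erase hj, rfl⟩
  · rintro ⟨j, hj, rfl⟩
    exact ⟨j, Finset.mem_erase.2 ⟨hj, Finset.mem_univ _⟩, rfl⟩

theorem mem_mclFB (y : ↥leechLattice) : y ∈ mclFB ↔ ∃ k ∈ K77, oL k = y := by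
  unfold mclFB
  rw [Finset.mem_image]

theorem mem_mclFC (y : ↥leechLattice) : y ∈ mclFC ↔ ∃ k ∈ K176, mclL3 k = y := by
  unfold mclFC
  rw [Finset.mem_image]

theorem card_mclFA : mclFA.card = 22 := by
  unfold mclFA
  rw [Finset.card_image_of_injOn, Finset.card_erase_of_mem (Finset.mem_univ _),
    Finset.card_univ, ZMod.card]
  intro j hj j' hj' h
  exact mclL1_inj j j' (Finset.ne_of_mem_erase hj) (Finset.ne_of_mem_erase hj') h

theorem card_mclFB : mclFB.card = 77 := by
  unfold mclFB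
  rw [Finset.card_image_of_injOn (fun k hk k' hk' h => oL_inj k k' hk hk' h), card_K77]

theorem card_mclFC : mclFC.card = 176 := by
  unfold mclFC
  rw [Finset.card_image_of_injOn (fun k hk k' hk' h => mclL3_inj k k' hk hk' h), card_K176]

theorem mclFA_none (y : ↥leechLattice) (hy : y ∈ mclFA) : y.1 none = 0 := by
  rw [mem_mclFA] at hy
  obtain ⟨j, hj, rfl⟩ := hy
  exact mclL1_none j hj

theorem mclFB_none (y : ↥leechLattice) (hy : y ∈ mclFB) : y.1 none = 2 := by
  rw [mem_mclFB] at hy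
  obtain ⟨k, hk, rfl⟩ := hy
  exact mclL2_none k hk

theorem mclFC_none (y : ↥leechLattice) (hy : y ∈ mclFC) : y.1 none = 1 := by
  rw [mem_mclFC] at hy
  obtain ⟨k, hk, rfl⟩ := hy
  exact mclL3_none k hk

theorem mcl_disj_AB : Disjoint mclFA mclFB := by
  rw [Finset.disjoint_left]
  intro y h1 h2
  have := mclFA_none y h1
  have := mclFB_none y h2
  omega

theorem mcl_disj_ABC : Disjoint (mclFA ∪ mclFB) mclFC := by
  rw [Finset.disjoint_left]
  intro y h1 h2
  have := mclFC_none y h2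
  rcases Finset.mem_union.1 h1 with h | h
  · have := mclFA_none y h
    omega
  · have := mclFB_none y h
    omega

/-- the standard configuration is the union of the three families -/
theorem mcl_X0_eq (y : ↥leechLattice) :
    y ∈ mclX mclU v32 ↔ y ∈ (mclFA ∪ mclFB) ∪ mclFC := by
  classical
  have hfin : (mclX mclU v32).Finite :=
    Set.finite_of_ncard_ne_zero (by rw [mcl_card_X0]; norm_num)
  have hFX : hfin.toFinset.card = 275 := by
    rw [← Set.ncard_eq_toFinset_card _ hfin, mcl_card_X0]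
  have memFX : ∀ y, y ∈ hfin.toFinset ↔ y ∈ mclX mclU v32 := fun y => Set.Finite.mem_toFinset hfin
  have hsub : (mclFA ∪ mclFB) ∪ mclFC ⊆ hfin.toFinset := by
    intro y hy
    rw [memFX]
    rcases Finset.mem_union.1 hy with h | h
    · rcases Finset.mem_union.1 h with h | h
      · rw [mem_mclFA] at h
        obtain ⟨j, hj, rfl⟩ := h
        exact mclL1_mem j hj
      · rw [mem_mclFB] at h
        obtain ⟨k, hk, rfl⟩ := h
        exact mclL2_mem k hk
    · rw [mem_mclFC] at h
      obtain ⟨k, hk, rfl⟩ := h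
      exact mclL3_mem k hk
  have hc : ((mclFA ∪ mclFB) ∪ mclFC).card = 275 := by
    rw [Finset.card_union_of_disjoint mcl_disj_ABC, Finset.card_union_of_disjoint mcl_disj_AB,
      card_mclFA, card_mclFB, card_mclFC]
  have heq : (mclFA ∪ mclFB) ∪ mclFC = hfin.toFinset :=
    Finset.eq_of_subset_of_card_le hsub (by omega)
  rw [heq, memFX]

end Cfsg.Agent.Lib.helper23
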