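import Cfsg.Agent.Lib.helper23.McLB

set_option autoImplicit false

/-!
# The permutations fixing `∞` and `0` on the three families
-/

namespace Cfsg.Agent.Lib.helper23

open Cfsg
open Cfsg.Agent.Lib.Lead.LX Cfsg.Agent.Lib.Lead.CW Cfsg.Agent.Lib.Lead.CO Cfsg.Agent.Lib.Lead.CP
open Cfsg.Agent.Lib.helper3 Cfsg.Agent.Lib.helper4 Cfsg.Agent.S0398 Cfsg.Agent.S1571
open Cfsg.Agent.Lib.Lead.LC Cfsg.Agent.Lib.Lead.LC3 Cfsg.Agent.Lib.Lead.HS
open scoped Pointwise

theorem mcl_perm_iff (π : Equiv.Perm GolayPt) (a b p : GolayPt) (h : π b = a) :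
    π p = a ↔ p = b := by
  constructor
  · intro h'
    apply π.injective
    rw [h', h]
  · rintro rfl
    exact h

theorem mcl_perm_fix_U (π : Equiv.Perm GolayPt) (hπ : π ∈ M24) (h1 : π (some 0) = some 0) :
    (permE π hπ) mclU = mclU := by
  apply Subtype.ext
  funext p
  rw [permE_apply, mclU_apply, mclU_apply]
  simp only [mcl_perm_iff π (some 0) (some 0) p h1]

theorem mcl_perm_L1 (π : Equiv.Perm GolayPt) (hπ : π ∈ M24) (j j' : ZMod 23) (hj : j ≠ 0)
    (hj' : j' ≠ 0) (h1 : π (some 0) = some 0) (h : π (some j') = some j) :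
    (permE π hπ) (mclL1 j) = mclL1 j' := by
  apply Subtype.ext
  funext p
  rw [permE_apply, mclL1_val j hj, mclL1_val j' hj']
  unfold mclF1
  simp only [mcl_perm_iff π (some 0) (some 0) p h1, mcl_perm_iff π (some j) (some j') p h]

theorem mcl_perm_L3 (π : Equiv.Perm GolayPt) (hπ : π ∈ M24) (k k' : ℕ) (hk : k ∈ K176)
    (hk' : k' ∈ K176) (h1 : π (some 0) = some 0)
    (h : ∀ p, Cw k (π p) ≠ 0 ↔ Cw k' p ≠ 0) : (permE π hπ) (mclL3 k) = mclL3 k' := by
  apply Subtype.ext
  funext p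
  rw [permE_apply, mclL3_val k hk, mclL3_val k' hk']
  unfold mclZ
  simp only [mcl_perm_iff π (some 0) (some 0) p h1]
  by_cases hp0 : p = some 0
  · rw [if_pos hp0, if_pos hp0]
  · rw [if_neg hp0, if_neg hp0]
    by_cases hp : Cw k' p ≠ 0
    · rw [if_pos hp, if_pos ((h p).2 hp)]
    · rw [if_neg hp, if_neg (fun h' => hp ((h p).1 h'))]

theorem mem_support₂_Cw (k : ℕ) (p : GolayPt) : p ∈ support₂ (Cw k) ↔ Cw k p ≠ 0 := by
  unfold support₂
  rw [Finset.mem_filter]
  simp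

/-- data of an octad through `0` avoiding `∞` -/
theorem K176_octad (k : ℕ) (hk : k ∈ K176) :
    support₂ (Cw k) ∈ octads ∧ none ∉ support₂ (Cw k) ∧ some 0 ∈ support₂ (Cw k) ∧
    ∃ a b c d : GolayPt, a ∈ support₂ (Cw k) ∧ b ∈ support₂ (Cw k) ∧ c ∈ support₂ (Cw k) ∧
      d ∈ support₂ (Cw k) ∧ a ≠ some 0 ∧ b ≠ some 0 ∧ c ≠ some 0 ∧ d ≠ some 0 ∧
      a ≠ b ∧ a ≠ c ∧ a ≠ d ∧ b ≠ c ∧ b ≠ d ∧ c ≠ d := by
  classical
  obtain ⟨k0, k1⟩ := K176_key k hk
  rw [mem_K176] at hk
  have hchk := mclZ_chk ⟨k, hk.1⟩ hk.2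
  have hoct : support₂ (Cw k) ∈ octads := by
    rw [mem_octads_iff]
    refine ⟨Cw k, Cw_mem k, rfl, ?_⟩
    show hammingNorm (gword (golayMask k)) = 8
    rw [hammingNorm_gword]
    exact hchk.2.2.2.2
  have m0 : none ∉ support₂ (Cw k) := by
    rw [mem_support₂_Cw]
    exact k0
  have m1 : some 0 ∈ support₂ (Cw k) := by
    rw [mem_support₂_Cw]
    exact k1
  have hcard : (support₂ (Cw k)).card = 8 := octads_card_eq hoct
  have hS : ((support₂ (Cw k)).erase (some 0)).card = 7 := by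
    rw [Finset.card_erase_of_mem m1, hcard]
  let e := (Finset.equivFinOfCardEq hS).symm
  have hmem : ∀ i, (e i).1 ∈ support₂ (Cw k) ∧ (e i).1 ≠ some 0 := by
    intro i
    have := (e i).2
    rw [Finset.mem_erase] at this
    exact ⟨this.2, this.1⟩
  have hne : ∀ i j, i ≠ j → (e i).1 ≠ (e j).1 := by
    intro i j hij h
    exact hij (e.injective (Subtype.ext h))
  exact ⟨hoct, m0, m1, (e 0).1, (e 1).1, (e 2).1, (e 3).1, (hmem 0).1, (hmem 1).1, (hmem 2).1,
    (hmem 3).1, (hmem 0).2, (hmem 1).2, (hmem 2).2, (hmem 3).2, hne 0 1 (by decide),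
    hne 0 2 (by decide), hne 0 3 (by decide), hne 1 2 (by decide), hne 1 3 (by decide),
    hne 2 3 (by decide)⟩

/-- the pointwise stabiliser of an octad is transitive on its complement -/
theorem mcl_octad_fix_trans (o : Finset GolayPt) (ho : o ∈ octads) (q q' : GolayPt)
    (hq : q ∉ o) (hq' : q' ∉ o) :
    ∃ κ ∈ M24, (∀ y ∈ o, κ y = y) ∧ κ q = q' := by
  obtain ⟨h, hh, hho⟩ := octad_to_base ho
  rw [← O1_eq] at hho
  have out : ∀ r, r ∉ o → O1.testBit (gidx (h r)) = false := by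
    intro r hr
    have : h r ∉ gset O1 := by
      rw [← hho]
      intro hm
      obtain ⟨x, hx, hxe⟩ := Finset.mem_smul_finset.mp hm
      have : x = r := h.injective hxe
      rw [this] at hx
      exact hr hx
    rw [mem_gset] at this
    simpa using this
  obtain ⟨k1, hk1, e1, -⟩ := exists_K0_map (gidx_lt (h q)) (out q hq)
  obtain ⟨k2, hk2, e2, -⟩ := exists_K0_map (gidx_lt (h q')) (out q' hq')
  rw [gpt_gidx] at e1 e2
  have hk : k2 * k1⁻¹ ∈ K0 := K0.mul_mem hk2 (K0.inv_mem hk1)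
  have hκ := conj_mem_octFix hh hho hk
  rw [mem_octFix_iff] at hκ
  refine ⟨h⁻¹ * (k2 * k1⁻¹) * h, hκ.1, hκ.2, ?_⟩
  rw [Equiv.Perm.mul_apply, Equiv.Perm.mul_apply, Equiv.Perm.mul_apply,
    Equiv.Perm.inv_eq_iff_eq.2 e1.symm, e2]
  exact Equiv.Perm.inv_eq_iff_eq.2 rfl

/-- the permutations fixing `∞` and `0` are transitive on the octads through `0` avoiding `∞` -/
theorem mcl_exists_perm_z (k k' : ℕ) (hk : k ∈ K176) (hk' : k' ∈ K176) :
    ∃ π ∈ M24, π none = none ∧ π (some 0) = some 0 ∧ ∀ p, Cw k (π p) ≠ 0 ↔ Cw k' p ≠ 0 := by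
  classical
  obtain ⟨hoct, m0, m1, a, b, c, d, ha, hb, hc, hd, a1, b1, c1, d1, hab, hac, had, hbc, hbd, hcd⟩ :=
    K176_octad k hk
  obtain ⟨hoct', m0', m1', a', b', c', d', ha', hb', hc', hd', a1', b1', c1', d1', hab', hac',
    had', hbc', hbd', hcd'⟩ := K176_octad k' hk'
  have h5 := Cfsg.Agent.S0366.result
  rw [MulAction.isMultiplyPretransitive_iff] at h5
  obtain ⟨g, hg⟩ := h5 ⟨![some 0, a', b', c', d'], inj5 _ (Ne.symm a1') (Ne.symm b1')
      (Ne.symm c1') (Ne.symm d1') hab' hac' had' hbc' hbd' hcd'⟩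
    ⟨![some 0, a, b, c, d], inj5 _ (Ne.symm a1) (Ne.symm b1)
      (Ne.symm c1) (Ne.symm d1) hab hac had hbc hbd hcd⟩
  have g1 : g.1 (some 0) = some 0 := congrArg (fun f : Fin 5 ↪ GolayPt => f 0) hg
  have g2 : g.1 a' = a := congrArg (fun f : Fin 5 ↪ GolayPt => f 1) hg
  have g3 : g.1 b' = b := congrArg (fun f : Fin 5 ↪ GolayPt => f 2) hg
  have g4 : g.1 c' = c := congrArg (fun f : Fin 5 ↪ GolayPt => f 3) hg
  have g5 : g.1 d' = d := congrArg (fun f : Fin 5 ↪ GolayPt => f 4) hg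
  have hoct2 : g.1 • support₂ (Cw k') ∈ octads := smul_octads_of_mem_M24 g.2 _ hoct'
  have heq : g.1 • support₂ (Cw k') = support₂ (Cw k) := by
    by_contra hne
    have hle := octads_inter_card_le hoct2 hoct hne
    have hsub : ({some 0, a, b, c, d} : Finset GolayPt)
        ⊆ g.1 • support₂ (Cw k') ∩ support₂ (Cw k) := by
      intro q hq
      rw [Finset.mem_insert, Finset.mem_insert, Finset.mem_insert, Finset.mem_insert,
        Finset.mem_singleton] at hq
      rw [Finset.mem_inter]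
      rcases hq with rfl | rfl | rfl | rfl | rfl
      · refine ⟨?_, m1⟩
        rw [← g1]
        exact Finset.smul_mem_smul_finset m1'
      · refine ⟨?_, ha⟩
        rw [← g2]
        exact Finset.smul_mem_smul_finset ha'
      · refine ⟨?_, hb⟩
        rw [← g3]
        exact Finset.smul_mem_smul_finset hb'
      · refine ⟨?_, hc⟩
        rw [← g4]
        exact Finset.smul_mem_smul_finset hc'
      · refine ⟨?_, hd⟩
        rw [← g5]
        exact Finset.smul_mem_smul_finset hd'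
    have hc5 : ({some 0, a, b, c, d} : Finset GolayPt).card = 5 := by
      rw [Finset.card_insert_of_notMem, Finset.card_insert_of_notMem,
        Finset.card_insert_of_notMem, Finset.card_insert_of_notMem, Finset.card_singleton]
      · simp [hcd]
      · simp [hbc, hbd]
      · simp [hab, hac, had]
      · simp [Ne.symm a1, Ne.symm b1, Ne.symm c1, Ne.symm d1]
    have := Finset.card_le_card hsub
    omega
  -- the image of `∞` lies outside the octad
  have hq : g.1 none ∉ support₂ (Cw k) := by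
    rw [← heq]
    intro hm
    obtain ⟨x, hx, hxe⟩ := Finset.mem_smul_finset.mp hm
    have : x = none := g.1.injective hxe
    rw [this] at hx
    exact m0' hx
  obtain ⟨κ, hκ, hκfix, hκq⟩ := mcl_octad_fix_trans _ hoct (g.1 none) none hq m0
  have hκmem : ∀ y, κ y ∈ support₂ (Cw k) ↔ y ∈ support₂ (Cw k) := by
    intro y
    constructor
    · intro hy
      have := hκfix _ hy
      have : κ y = y := κ.injective this
      rw [← this]
      exact hy
    · intro hy
      rw [hκfix y hy]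
      exact hy
  refine ⟨κ * g.1, M24.mul_mem hκ g.2, ?_, ?_, fun p => ?_⟩
  · rw [Equiv.Perm.mul_apply, hκq]
  · rw [Equiv.Perm.mul_apply, g1, hκfix _ m1]
  · rw [Equiv.Perm.mul_apply, ← mem_support₂_Cw, ← mem_support₂_Cw, hκmem, ← heq]
    exact Finset.smul_mem_smul_finset_iff g.1

end Cfsg.Agent.Lib.helper23
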