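import Cfsg.Agent.Lib.helper23.McLC
import Cfsg.Agent.Lib.Lead.ConwayHSGroup

set_option autoImplicit false

/-!
# Orbit lengths of the stabiliser of the standard McLaughlin frame are divisible by 25
-/

namespace Cfsg.Agent.Lib.helper23

open Cfsg
open Cfsg.Agent.Lib.Lead.LX Cfsg.Agent.Lib.Lead.CW Cfsg.Agent.Lib.Lead.CO Cfsg.Agent.Lib.Lead.CP
open Cfsg.Agent.Lib.helper3 Cfsg.Agent.Lib.helper4 Cfsg.Agent.S0398 Cfsg.Agent.S1571
open Cfsg.Agent.Lib.Lead.LC Cfsg.Agent.Lib.Lead.LC3 Cfsg.Agent.Lib.Lead.HS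

/-- the two-point stabilisers computed in either order -/
def mclStabSwap {G α : Type*} [Group G] [MulAction G α] (a b : α) :
    ↥(MulAction.stabilizer ↥(MulAction.stabilizer G a) b)
      ≃ ↥(MulAction.stabilizer ↥(MulAction.stabilizer G b) a) where
  toFun g := ⟨⟨g.1.1, g.2⟩, g.1.2⟩
  invFun g := ⟨⟨g.1.1, g.2⟩, g.1.2⟩
  left_inv _ := rfl
  right_inv _ := rfl

theorem mcl_orbit_card {G α : Type*} [Group G] [Finite G] [MulAction G α] (a : α) :
    (MulAction.orbit G a).ncard * Nat.card ↥(MulAction.stabilizer G a) = Nat.card G := by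
  rw [← MulAction.index_stabilizer, mul_comm]
  exact (MulAction.stabilizer G a).card_mul_index

/-- double counting of the orbit of a pair -/
theorem mcl_orbit_double {G α : Type*} [Group G] [Finite G] [MulAction G α] (a b : α) :
    (MulAction.orbit G a).ncard * (MulAction.orbit ↥(MulAction.stabilizer G a) b).ncard
      = (MulAction.orbit G b).ncard * (MulAction.orbit ↥(MulAction.stabilizer G b) a).ncard := by
  have h1 := mcl_orbit_card (G := G) a
  have h2 := mcl_orbit_card (G := ↥(MulAction.stabilizer G a)) b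
  have h3 := mcl_orbit_card (G := G) b
  have h4 := mcl_orbit_card (G := ↥(MulAction.stabilizer G b)) a
  have h5 := Nat.card_congr (mclStabSwap (G := G) a b)
  have hpos : 0 < Nat.card ↥(MulAction.stabilizer ↥(MulAction.stabilizer G b) a) := Nat.card_pos
  rw [← h2] at h1
  rw [← h4] at h3
  rw [h5] at h1
  apply Nat.eq_of_mul_eq_mul_right hpos
  rw [mul_assoc, h1, mul_assoc, h3]

/-- the stabiliser of `v32` -/
abbrev mclA : Subgroup ↥Co0 := MulAction.stabilizer ↥Co0 v32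

theorem mem_mclA (g : ↥Co0) : g ∈ mclA ↔ g.1 v32 = v32 := by
  unfold mclA
  rw [MulAction.mem_stabilizer_iff]
  rfl

theorem mcl_inv_fix (g : ↥Co0) (y : ↥leechLattice) (h : g.1 y = y) : g⁻¹.1 y = y := by
  have := inv_apply_apply g y
  rw [h] at this
  exact this

theorem mcl_orbit_W1 : MulAction.orbit ↥mclA W1
    = {w : ↥leechLattice | sqNorm w.1 = 32 ∧ w.1 none + w.1 (some 0) = -2} := by
  ext w
  constructor
  · rintro ⟨g, rfl⟩
    have hg : g.1.1 v32 = v32 := (mem_mclA _).1 g.2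
    refine ⟨?_, ?_⟩
    · show sqNorm (g.1.1 W1).1 = 32
      rw [g.1.2.2]
      exact W1_norm
    · show (g.1.1 W1).1 none + (g.1.1 W1).1 (some 0) = -2
      rw [Cfsg.Agent.S1583.stab_sum g.1 hg]
      rfl
  · rintro ⟨h1, h2⟩
    obtain ⟨g, hg1, hg2⟩ := oct_main w h1 h2
    refine ⟨⟨g⁻¹, (mem_mclA _).2 (mcl_inv_fix g v32 hg1)⟩, ?_⟩
    show g⁻¹.1 W1 = w
    rw [← hg2, inv_apply_apply]

theorem mcl_ncard_O :
    {w : ↥leechLattice | sqNorm w.1 = 32 ∧ w.1 none + w.1 (some 0) = -2}.ncard = 47104 := by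
  rw [← count32.2.1]
  apply Set.ncard_congr (fun w _ => w.1)
  · rintro w ⟨h1, h2⟩
    exact ⟨w.2, h1, h2⟩
  · intro a b _ _ h
    exact Subtype.ext h
  · rintro b ⟨hb, h1, h2⟩
    exact ⟨⟨b, hb⟩, ⟨h1, h2⟩, rfl⟩

theorem mcl_neg_W0 (g : ↥Co0) (y : ↥leechLattice) (h : g.1 (-y) = W0) : g.1 y = -W0 := by
  rw [map_neg'] at h
  rw [← h, neg_neg]

theorem mcl_orbit_x (x : ↥leechLattice) (hN : sqNorm x.1 = 32)
    (hs : x.1 none + x.1 (some 0) = 4) : MulAction.orbit ↥mclA x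
    = {y : ↥leechLattice | sqNorm y.1 = 32 ∧ y.1 none + y.1 (some 0) = 4} := by
  ext y
  constructor
  · rintro ⟨g, rfl⟩
    have hg : g.1.1 v32 = v32 := (mem_mclA _).1 g.2
    refine ⟨?_, ?_⟩
    · show sqNorm (g.1.1 x).1 = 32
      rw [g.1.2.2]
      exact hN
    · show (g.1.1 x).1 none + (g.1.1 x).1 (some 0) = 4
      rw [Cfsg.Agent.S1583.stab_sum g.1 hg]
      exact hs
  · rintro ⟨h1, h2⟩
    have key : ∀ z : ↥leechLattice, sqNorm z.1 = 32 → z.1 none + z.1 (some 0) = 4 →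
        ∃ g : ↥Co0, g.1 v32 = v32 ∧ g.1 z = -W0 := by
      intro z hz1 hz2
      have n1 : sqNorm (-z).1 = 32 := by
        show sqNorm (-z.1) = 32
        rw [sqNorm_neg]
        exact hz1
      have n2 : (-z).1 none + (-z).1 (some 0) = -4 := by
        show -z.1 none + -z.1 (some 0) = -4
        omega
      obtain ⟨g, hg1, hg2⟩ := hex_main (-z) n1 n2
      exact ⟨g, hg1, mcl_neg_W0 g z hg2⟩
    obtain ⟨g1, a1, b1⟩ := key y h1 h2
    obtain ⟨g2, a2, b2⟩ := key x hN hs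
    refine ⟨⟨g1⁻¹ * g2, (mem_mclA _).2 ?_⟩, ?_⟩
    · show g1⁻¹.1 (g2.1 v32) = v32
      rw [a2]
      exact mcl_inv_fix g1 v32 a1
    · show g1⁻¹.1 (g2.1 x) = y
      rw [b2, ← b1, inv_apply_apply]

theorem mcl_ncard_Q :
    {y : ↥leechLattice | sqNorm y.1 = 32 ∧ y.1 none + y.1 (some 0) = 4}.ncard = 4600 := by
  rw [← count32.1]
  apply Set.ncard_congr (fun y _ => -y.1)
  · rintro y ⟨h1, h2⟩
    refine ⟨leechLattice.neg_mem y.2, ?_, ?_⟩
    · rw [sqNorm_neg]
      exact h1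
    · show -y.1 none + -y.1 (some 0) = -4
      omega
  · intro a b _ _ h
    exact Subtype.ext (neg_injective h)
  · rintro b ⟨hb, h1, h2⟩
    refine ⟨⟨-b, leechLattice.neg_mem hb⟩, ⟨?_, ?_⟩, ?_⟩
    · show sqNorm (-b) = 32
      rw [sqNorm_neg]
      exact h1
    · show -b none + -b (some 0) = 4
      omega
    · show - -b = b
      rw [neg_neg]

/-- the orbit lengths of the frame stabiliser on the configuration are divisible by 25 -/
theorem mcl_orbit_dvd (x : ↥leechLattice) (hN : sqNorm x.1 = 32)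
    (hs : x.1 none + x.1 (some 0) = 4) :
    25 ∣ (MulAction.orbit ↥(MulAction.stabilizer ↥mclA W1) x).ncard := by
  have h := mcl_orbit_double (G := ↥mclA) W1 x
  rw [mcl_orbit_W1, mcl_ncard_O, mcl_orbit_x x hN hs, mcl_ncard_Q] at h
  omega

/-- equivalence under the stabiliser of the standard frame -/
def mclRel (x y : ↥leechLattice) : Prop :=
  ∃ g : ↥Co0, g.1 v32 = v32 ∧ g.1 W1 = W1 ∧ g.1 x = y

theorem mcl_orbit_eq (x : ↥leechLattice) :
    MulAction.orbit ↥(MulAction.stabilizer ↥mclA W1) x = {y | mclRel x y} := by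
  ext y
  constructor
  · rintro ⟨g, rfl⟩
    exact ⟨g.1.1, (mem_mclA _).1 g.1.2, g.2, rfl⟩
  · rintro ⟨g, h1, h2, h3⟩
    exact ⟨⟨⟨g, (mem_mclA _).2 h1⟩, h2⟩, h3⟩

theorem mcl_rel_dvd (x : ↥leechLattice) (hN : sqNorm x.1 = 32)
    (hs : x.1 none + x.1 (some 0) = 4) : 25 ∣ {y | mclRel x y}.ncard := by
  rw [← mcl_orbit_eq]
  exact mcl_orbit_dvd x hN hs

theorem mclRel.refl (x : ↥leechLattice) : mclRel x x := ⟨1, rfl, rfl, rfl⟩

theorem mclRel.trans {x y z : ↥leechLattice} (h1 : mclRel x y) (h2 : mclRel y z) :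
    mclRel x z := by
  obtain ⟨g, a, b, c⟩ := h1
  obtain ⟨g', a', b', c'⟩ := h2
  refine ⟨g' * g, ?_, ?_, ?_⟩
  · show g'.1 (g.1 v32) = v32
    rw [a, a']
  · show g'.1 (g.1 W1) = W1
    rw [b, b']
  · show g'.1 (g.1 x) = z
    rw [c, c']

end Cfsg.Agent.Lib.helper23
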