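import Cfsg.Agent.Lib.helper23.McLC

set_option autoImplicit false

/-!
# Transitivity lemmas for the permutations of the code on flags of octads
-/

namespace Cfsg.Agent.Lib.helper23

open Cfsg
open Cfsg.Agent.Lib.Lead.LX Cfsg.Agent.Lib.Lead.CW Cfsg.Agent.Lib.Lead.CO Cfsg.Agent.Lib.Lead.CP
open Cfsg.Agent.Lib.helper3 Cfsg.Agent.Lib.helper4 Cfsg.Agent.S0398 Cfsg.Agent.S1571
open Cfsg.Agent.Lib.Lead.LC Cfsg.Agent.Lib.Lead.LC3 Cfsg.Agent.Lib.Lead.HS
open scoped Pointwise

/-- picking distinct points of a finite set -/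
theorem mcl_pick (S : Finset GolayPt) (n : ℕ) (h : n ≤ S.card) :
    ∃ f : Fin n → GolayPt, Function.Injective f ∧ ∀ i, f i ∈ S := by
  refine ⟨fun i => (S.equivFin.symm (Fin.castLE h i)).1, ?_, fun i => (S.equivFin.symm _).2⟩
  intro i j hij
  have := S.equivFin.symm.injective (Subtype.ext hij)
  exact Fin.castLE_injective h this

/-- two octads with five common points are equal -/
theorem mcl_octad_eq_of_five (o o' : Finset GolayPt) (ho : o ∈ octads) (ho' : o' ∈ octads)
    (x : Fin 5 → GolayPt) (hx : Function.Injective x) (h1 : ∀ i, x i ∈ o) (h2 : ∀ i, x i ∈ o') :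
    o = o' := by
  classical
  by_contra hne
  have hle := octads_inter_card_le ho ho' hne
  have hsub : Finset.univ.image x ⊆ o ∩ o' := by
    intro q hq
    rw [Finset.mem_image] at hq
    obtain ⟨i, -, rfl⟩ := hq
    exact Finset.mem_inter.2 ⟨h1 i, h2 i⟩
  have hc : (Finset.univ.image x).card = 5 := by
    rw [Finset.card_image_of_injective _ hx, Finset.card_univ, Fintype.card_fin]
  have := Finset.card_le_card hsub
  omega

theorem mcl_smul_mem_iff (g : Equiv.Perm GolayPt) (o : Finset GolayPt) (p : GolayPt) :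
    g p ∈ g • o ↔ p ∈ o := Finset.smul_mem_smul_finset_iff g

/-- flags (five points of an octad, a point outside) form one orbit -/
theorem mcl_octad_flag (o o' : Finset GolayPt) (ho : o ∈ octads) (ho' : o' ∈ octads)
    (x x' : Fin 5 → GolayPt) (hx : Function.Injective x) (hx' : Function.Injective x')
    (hxo : ∀ i, x i ∈ o) (hxo' : ∀ i, x' i ∈ o') (q q' : GolayPt) (hq : q ∉ o) (hq' : q' ∉ o') :
    ∃ π ∈ M24, (∀ i, π (x' i) = x i) ∧ π q' = q ∧ ∀ p, π p ∈ o ↔ p ∈ o' := by
  classical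
  have h5 := Cfsg.Agent.S0366.result
  rw [MulAction.isMultiplyPretransitive_iff] at h5
  obtain ⟨g, hg⟩ := h5 ⟨x', hx'⟩ ⟨x, hx⟩
  have hgx : ∀ i, g.1 (x' i) = x i := fun i => congrArg (fun f : Fin 5 ↪ GolayPt => f i) hg
  have hoct2 : g.1 • o' ∈ octads := smul_octads_of_mem_M24 g.2 _ ho'
  have heq : g.1 • o' = o := by
    apply mcl_octad_eq_of_five _ _ hoct2 ho x hx _ hxo
    intro i
    rw [← hgx i]
    exact Finset.smul_mem_smul_finset (hxo' i)
  have hgq : g.1 q' ∉ o := by
    rw [← heq, mcl_smul_mem_iff]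
    exact hq'
  obtain ⟨κ, hκ, hκfix, hκq⟩ := mcl_octad_fix_trans o ho (g.1 q') q hgq hq
  have hκmem : ∀ y, κ y ∈ o ↔ y ∈ o := by
    intro y
    constructor
    · intro hy
      have := hκfix _ hy
      have : κ y = y := κ.injective this
      rw [← this]
      exact hy
    · intro hy
      rw [hκfix y hy]
      exact hy
  refine ⟨κ * g.1, M24.mul_mem hκ g.2, fun i => ?_, ?_, fun p => ?_⟩
  · rw [Equiv.Perm.mul_apply, hgx i, hκfix _ (hxo i)]
  · rw [Equiv.Perm.mul_apply, hκq]
  · rw [Equiv.Perm.mul_apply, hκmem, ← heq, mcl_smul_mem_iff]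

/-- pairs of octads meeting in four points, with a marked common point and a marked point of the
first octad outside the second, form one orbit under the stabiliser of the first octad -/
theorem mcl_octad_pair (o o' o'' : Finset GolayPt) (ho : o ∈ octads) (ho' : o' ∈ octads)
    (ho'' : o'' ∈ octads) (p1 p2 : GolayPt) (h1 : p1 ∈ o) (h2 : p2 ∈ o)
    (h' : (o ∩ o').card = 4) (h'' : (o ∩ o'').card = 4) (hp1' : p1 ∉ o') (hp1'' : p1 ∉ o'')
    (hp2' : p2 ∈ o') (hp2'' : p2 ∈ o'') :
    ∃ π ∈ M24, π p1 = p1 ∧ π p2 = p2 ∧ (∀ p, π p ∈ o ↔ p ∈ o) ∧ ∀ p, π p ∈ o'' ↔ p ∈ o' := by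
  classical
  -- three further common points on each side
  have key : ∀ z : Finset GolayPt, (o ∩ z).card = 4 → p1 ∉ z → p2 ∈ z →
      ∃ y : Fin 5 → GolayPt, Function.Injective y ∧ (∀ i, y i ∈ o) ∧ y 0 = p1 ∧ y 1 = p2 ∧
        (∀ i, i ≠ 0 → y i ∈ z) := by
    intro z hz hz1 hz2
    have m2 : p2 ∈ o ∩ z := Finset.mem_inter.2 ⟨h2, hz2⟩
    have hc : 3 ≤ ((o ∩ z).erase p2).card := by
      rw [Finset.card_erase_of_mem m2, hz]
    obtain ⟨f, hf, hfm⟩ := mcl_pick _ 3 hc
    have hfo : ∀ i, f i ∈ o := fun i =>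
      (Finset.mem_inter.1 (Finset.mem_of_mem_erase (hfm i))).1
    have hfz : ∀ i, f i ∈ z := fun i =>
      (Finset.mem_inter.1 (Finset.mem_of_mem_erase (hfm i))).2
    have hf2 : ∀ i, f i ≠ p2 := fun i => Finset.ne_of_mem_erase (hfm i)
    have hf1 : ∀ i, f i ≠ p1 := fun i h => hz1 (h ▸ hfz i)
    have h12 : p1 ≠ p2 := fun h => hz1 (h ▸ hz2)
    refine ⟨![p1, p2, f 0, f 1, f 2], ?_, ?_, rfl, rfl, ?_⟩
    · apply inj5
      · exact h12
      · exact Ne.symm (hf1 0)
      · exact Ne.symm (hf1 1)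
      · exact Ne.symm (hf1 2)
      · exact Ne.symm (hf2 0)
      · exact Ne.symm (hf2 1)
      · exact Ne.symm (hf2 2)
      · exact hf.ne (by decide)
      · exact hf.ne (by decide)
      · exact hf.ne (by decide)
    · intro i
      fin_cases i
      · exact h1
      · exact h2
      · exact hfo 0
      · exact hfo 1
      · exact hfo 2
    · intro i hi
      fin_cases i
      · exact absurd rfl hi
      · exact hz2
      · exact hfz 0
      · exact hfz 1
      · exact hfz 2
  obtain ⟨y', hy', hyo', y0', y1', hyz'⟩ := key o' h' hp1' hp2'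
  obtain ⟨y'', hy'', hyo'', y0'', y1'', hyz''⟩ := key o'' h'' hp1'' hp2''
  have h5 := Cfsg.Agent.S0366.result
  rw [MulAction.isMultiplyPretransitive_iff] at h5
  obtain ⟨g, hg⟩ := h5 ⟨y', hy'⟩ ⟨y'', hy''⟩
  have hgy : ∀ i, g.1 (y' i) = y'' i := fun i => congrArg (fun f : Fin 5 ↪ GolayPt => f i) hg
  have hgo : g.1 • o = o := by
    apply mcl_octad_eq_of_five _ _ (smul_octads_of_mem_M24 g.2 _ ho) ho y'' hy'' _ hyo''
    intro i
    rw [← hgy i]
    exact Finset.smul_mem_smul_finset (hyo' i)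
  have hgo' : g.1 • o' ∈ octads := smul_octads_of_mem_M24 g.2 _ ho'
  -- the image of the second octad meets the first in four points
  have hc4 : (o ∩ g.1 • o').card = 4 := by
    have : o ∩ g.1 • o' = g.1 • (o ∩ o') := by
      rw [Finset.smul_finset_inter, hgo]
    rw [this, Finset.card_smul_finset, h']
  have hex : ∀ z : Finset GolayPt, z ∈ octads → (o ∩ z).card = 4 → ∃ r, r ∈ z ∧ r ∉ o := by
    intro z hz hz4
    have hcz : z.card = 8 := octads_card_eq hz
    have : (z \ o).card = 4 := by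
      have := Finset.card_sdiff_add_card_inter z o
      rw [Finset.inter_comm, hz4, hcz] at this
      omega
    have hpos : 0 < (z \ o).card := by omega
    obtain ⟨r, hr⟩ := Finset.card_pos.1 hpos
    rw [Finset.mem_sdiff] at hr
    exact ⟨r, hr.1, hr.2⟩
  obtain ⟨r, hr1, hr2⟩ := hex _ hgo' hc4
  obtain ⟨r'', hr1'', hr2''⟩ := hex o'' ho'' h''
  obtain ⟨κ, hκ, hκfix, hκr⟩ := mcl_octad_fix_trans o ho r r'' hr2 hr2''
  have hκmem : ∀ y, κ y ∈ o ↔ y ∈ o := by
    intro y
    constructor
    · intro hy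
      have := hκfix _ hy
      have : κ y = y := κ.injective this
      rw [← this]
      exact hy
    · intro hy
      rw [hκfix y hy]
      exact hy
  -- the image of the second octad is the third
  have hfin : κ • (g.1 • o') = o'' := by
    have hoct3 : κ • (g.1 • o') ∈ octads := smul_octads_of_mem_M24 hκ _ hgo'
    apply mcl_octad_eq_of_five _ _ hoct3 ho'' ![r'', y'' 1, y'' 2, y'' 3, y'' 4]
    · have hne : ∀ i, r'' ≠ y'' i := fun i h => hr2'' (h ▸ hyo'' i)
      apply inj5
      · exact hne 1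
      · exact hne 2
      · exact hne 3
      · exact hne 4
      · exact hy''.ne (by decide)
      · exact hy''.ne (by decide)
      · exact hy''.ne (by decide)
      · exact hy''.ne (by decide)
      · exact hy''.ne (by decide)
      · exact hy''.ne (by decide)
    · have hmem : ∀ i, i ≠ 0 → y'' i ∈ κ • (g.1 • o') := by
        intro i hi
        have e1 : κ (y'' i) = y'' i := hκfix _ (hyo'' i)
        rw [← e1, mcl_smul_mem_iff, ← hgy i, mcl_smul_mem_iff]
        exact hyz' i hi
      intro i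
      fin_cases i
      · show r'' ∈ _
        rw [← hκr, mcl_smul_mem_iff]
        exact hr1
      · exact hmem 1 (by decide)
      · exact hmem 2 (by decide)
      · exact hmem 3 (by decide)
      · exact hmem 4 (by decide)
    · intro i
      fin_cases i
      · exact hr1''
      · exact hyz'' 1 (by decide)
      · exact hyz'' 2 (by decide)
      · exact hyz'' 3 (by decide)
      · exact hyz'' 4 (by decide)
  refine ⟨κ * g.1, M24.mul_mem hκ g.2, ?_, ?_, fun p => ?_, fun p => ?_⟩
  · have := hgy 0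
    rw [y0', y0''] at this
    rw [Equiv.Perm.mul_apply, this, hκfix _ h1]
  · have := hgy 1
    rw [y1', y1''] at this
    rw [Equiv.Perm.mul_apply, this, hκfix _ h2]
  · rw [Equiv.Perm.mul_apply, hκmem]
    nth_rewrite 1 [← hgo]
    rw [mcl_smul_mem_iff]
  · rw [Equiv.Perm.mul_apply, ← hfin, mcl_smul_mem_iff, mcl_smul_mem_iff]

end Cfsg.Agent.Lib.helper23
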