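import Cfsg.Agent.Lib.helper23.McLF

set_option autoImplicit false

/-!
# The permutations fixing `∞`, `0`, `1` on octads
-/

namespace Cfsg.Agent.Lib.helper23

open Cfsg
open Cfsg.Agent.Lib.Lead.LX Cfsg.Agent.Lib.Lead.CW Cfsg.Agent.Lib.Lead.CO Cfsg.Agent.Lib.Lead.CP
open Cfsg.Agent.Lib.helper3 Cfsg.Agent.Lib.helper4 Cfsg.Agent.S0398 Cfsg.Agent.S1571
open Cfsg.Agent.Lib.Lead.LC Cfsg.Agent.Lib.Lead.LC3 Cfsg.Agent.Lib.Lead.HS
open scoped Pointwise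

/-! ### a certificate: the stabiliser of a base octad, `0` in it and `∞` outside it is transitive
on the other points outside -/

/-- fifteen permutations of the code fixing `∞`, `0` and the base octad, as tables -/
def mclA7Tables : List (List ℕ) := [
  [0, 1, 2, 3, 4, 5, 6, 7, 8, 9, 10, 11, 12, 13, 14, 15, 16, 17, 18, 19, 20, 21, 22, 23],
  [0, 3, 13, 7, 19, 11, 6, 1, 4, 9, 22, 12, 5, 14, 2, 20, 16, 15, 18, 8, 17, 10, 21, 23],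
  [0, 4, 2, 1, 7, 22, 9, 3, 6, 19, 12, 5, 10, 17, 16, 14, 20, 13, 11, 8, 15, 21, 18, 23],
  [0, 5, 13, 6, 19, 7, 4, 18, 11, 22, 10, 9, 21, 2, 16, 14, 20, 17, 1, 3, 15, 12, 8, 23],
  [0, 6, 20, 19, 12, 10, 8, 7, 18, 21, 4, 22, 5, 16, 17, 15, 2, 14, 1, 11, 13, 9, 3, 23],
  [0, 7, 16, 19, 10, 22, 21, 11, 1, 5, 6, 9, 3, 2, 15, 17, 14, 20, 18, 4, 13, 12, 8, 23],
  [0, 8, 16, 10, 9, 7, 3, 11, 6, 21, 1, 18, 4, 13, 14, 20, 15, 2, 19, 5, 17, 22, 12, 23],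
  [0, 9, 13, 18, 3, 6, 10, 19, 5, 12, 8, 1, 11, 17, 2, 15, 20, 14, 21, 7, 16, 4, 22, 23],
  [0, 10, 15, 3, 1, 4, 7, 18, 21, 22, 5, 8, 11, 20, 16, 14, 2, 17, 19, 6, 13, 12, 9, 23],
  [0, 11, 13, 10, 7, 18, 21, 5, 19, 4, 8, 22, 12, 15, 20, 14, 2, 16, 6, 1, 17, 9, 3, 23],
  [0, 12, 17, 11, 21, 5, 19, 8, 6, 18, 22, 4, 9, 13, 15, 14, 2, 20, 1, 7, 16, 3, 10, 23],
  [0, 18, 20, 4, 8, 7, 9, 21, 22, 10, 11, 6, 5, 15, 2, 13, 14, 17, 1, 19, 16, 12, 3, 23],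
  [0, 19, 2, 8, 11, 5, 6, 7, 18, 12, 4, 10, 22, 16, 20, 14, 17, 13, 3, 21, 15, 1, 9, 23],
  [0, 21, 2, 10, 18, 12, 8, 9, 19, 22, 11, 1, 7, 15, 17, 20, 16, 13, 6, 4, 14, 3, 5, 23],
  [0, 22, 2, 11, 1, 21, 19, 3, 12, 8, 6, 7, 9, 13, 20, 15, 16, 14, 5, 10, 17, 18, 4, 23]]

/-- the base octad `{0, 2, 13, 14, 15, 16, 17, 20}` -/
def mclO5 : ℕ := 1302533

theorem mclO5_eq : mclO5 = golayMask 5 := by decide

def mclA7OK (L : List ℕ) : Bool :=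
  tblCheck L && (L.getD 23 0 == 23) && (L.getD 0 0 == 0) &&
    (List.range 24).all (fun i => mclO5.testBit (L.getD i 0) == mclO5.testBit i)

def mclA7Cert : Bool :=
  mclA7Tables.all mclA7OK &&
    (List.range 23).all (fun r => mclO5.testBit r || mclA7Tables.any (fun L => L.getD 1 0 == r))

set_option maxRecDepth 1000000 in
theorem mclA7Cert_true : mclA7Cert = true := by decide +kernel

theorem Cw_ne_zero_iff (k : ℕ) (p : GolayPt) :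
    Cw k p ≠ 0 ↔ (golayMask k).testBit (gidx p) = true := by
  show gword (golayMask k) p ≠ 0 ↔ _
  unfold gword
  by_cases h : (golayMask k).testBit (gidx p) = true
  · rw [if_pos h]
    simp [h]
  · rw [if_neg h]
    simp [h]

theorem mcl_A7_map {r : ℕ} (hr : r < 23) (hrO : mclO5.testBit r = false) :
    ∃ g ∈ M24, g none = none ∧ g (some 0) = some 0 ∧ (∀ p, Cw 5 (g p) ≠ 0 ↔ Cw 5 p ≠ 0) ∧
      g (gpt 1) = gpt r := by
  have hc := mclA7Cert_true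
  unfold mclA7Cert at hc
  rw [Bool.and_eq_true, List.all_eq_true, List.all_eq_true] at hc
  obtain ⟨hc1, hc2⟩ := hc
  have h2 := hc2 r (List.mem_range.2 hr)
  rw [hrO, Bool.false_or, List.any_eq_true] at h2
  obtain ⟨L, hL, hLq⟩ := h2
  rw [beq_iff_eq] at hLq
  have h1 := hc1 L hL
  unfold mclA7OK at h1
  simp only [Bool.and_eq_true, List.all_eq_true, List.mem_range, beq_iff_eq] at h1
  obtain ⟨⟨⟨hchk, h23⟩, h0⟩, hO⟩ := h1
  obtain ⟨g, hg, hgf⟩ := exists_perm_of_tblCheck hchk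
  obtain ⟨hlen, hlt, -, -⟩ := tblCheck_spec hchk
  have hLlt : ∀ i < 24, L.getD i 0 < 24 := by
    intro i hi
    rw [List.getD_eq_getElem _ _ (by omega)]
    exact hlt _ (List.getElem_mem _)
  refine ⟨g, hg, ?_, ?_, fun p => ?_, ?_⟩
  · rw [hgf]
    show gpt (L.getD 23 0) = none
    rw [h23]
    rfl
  · rw [hgf]
    show gpt (L.getD 0 0) = some 0
    rw [h0]
    rfl
  · rw [Cw_ne_zero_iff, Cw_ne_zero_iff, hgf]
    unfold tblFun
    rw [gidx_gpt (hLlt _ (gidx_lt p)), ← mclO5_eq, hO _ (gidx_lt p)]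
  · rw [hgf, tblFun_gpt (by norm_num), hLq]

end Cfsg.Agent.Lib.helper23
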