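import Cfsg.Agent.Lib.helper23.McLG

set_option autoImplicit false

/-!
# Transitivity of the permutations fixing `∞`, `0`, `1` on the blocks of the configuration
-/

namespace Cfsg.Agent.Lib.helper23

open Cfsg
open Cfsg.Agent.Lib.Lead.LX Cfsg.Agent.Lib.Lead.CW Cfsg.Agent.Lib.Lead.CO Cfsg.Agent.Lib.Lead.CP
open Cfsg.Agent.Lib.helper3 Cfsg.Agent.Lib.helper4 Cfsg.Agent.S0398 Cfsg.Agent.S1571
open Cfsg.Agent.Lib.Lead.LC Cfsg.Agent.Lib.Lead.LC3 Cfsg.Agent.Lib.Lead.HS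
open scoped Pointwise

theorem mcl_K77_basic (k : ℕ) (hk : k ∈ K77) :
    support₂ (Cw k) ∈ octads ∧ none ∈ support₂ (Cw k) ∧ some 0 ∈ support₂ (Cw k) := by
  obtain ⟨h1, h2, h3, -⟩ := K77_octad k hk
  exact ⟨h1, h2, h3⟩

theorem mcl_K176_basic (k : ℕ) (hk : k ∈ K176) :
    support₂ (Cw k) ∈ octads ∧ none ∉ support₂ (Cw k) ∧ some 0 ∈ support₂ (Cw k) := by
  obtain ⟨h1, h2, h3, -⟩ := K176_octad k hk
  exact ⟨h1, h2, h3⟩

/-- a five-tuple with two prescribed entries -/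
theorem mcl_tuple2 (p0 p1 : GolayPt) (S : Finset GolayPt) (h01 : p0 ≠ p1) (hp0 : p0 ∉ S)
    (hp1 : p1 ∉ S) (hc : 3 ≤ S.card) :
    ∃ y : Fin 5 → GolayPt, Function.Injective y ∧ y 0 = p0 ∧ y 1 = p1 ∧
      y 2 ∈ S ∧ y 3 ∈ S ∧ y 4 ∈ S := by
  obtain ⟨f, hf, hfm⟩ := mcl_pick S 3 hc
  have n0 : ∀ i, p0 ≠ f i := fun i h => hp0 (h ▸ hfm i)
  have n1 : ∀ i, p1 ≠ f i := fun i h => hp1 (h ▸ hfm i)
  refine ⟨![p0, p1, f 0, f 1, f 2], ?_, rfl, rfl, hfm 0, hfm 1, hfm 2⟩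
  apply inj5
  · exact h01
  · exact n0 0
  · exact n0 1
  · exact n0 2
  · exact n1 0
  · exact n1 1
  · exact n1 2
  · exact hf.ne (by decide)
  · exact hf.ne (by decide)
  · exact hf.ne (by decide)

/-- a five-tuple with three prescribed entries -/
theorem mcl_tuple3 (p0 p1 p2 : GolayPt) (S : Finset GolayPt) (h01 : p0 ≠ p1) (h02 : p0 ≠ p2)
    (h12 : p1 ≠ p2) (hp0 : p0 ∉ S) (hp1 : p1 ∉ S) (hp2 : p2 ∉ S) (hc : 2 ≤ S.card) :
    ∃ y : Fin 5 → GolayPt, Function.Injective y ∧ y 0 = p0 ∧ y 1 = p1 ∧ y 2 = p2 ∧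
      y 3 ∈ S ∧ y 4 ∈ S := by
  obtain ⟨f, hf, hfm⟩ := mcl_pick S 2 hc
  have n0 : ∀ i, p0 ≠ f i := fun i h => hp0 (h ▸ hfm i)
  have n1 : ∀ i, p1 ≠ f i := fun i h => hp1 (h ▸ hfm i)
  have n2 : ∀ i, p2 ≠ f i := fun i h => hp2 (h ▸ hfm i)
  refine ⟨![p0, p1, p2, f 0, f 1], ?_, rfl, rfl, rfl, hfm 0, hfm 1⟩
  apply inj5
  · exact h01
  · exact h02
  · exact n0 0
  · exact n0 1
  · exact h12
  · exact n1 0
  · exact n1 1
  · exact n2 0
  · exact n2 1
  · exact hf.ne (by decide)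

theorem mcl_apply_inv (f : Equiv.Perm GolayPt) (x : GolayPt) : f (f⁻¹ x) = x :=
  f.apply_symm_apply x

theorem mcl_01 : (some 0 : GolayPt) ≠ some 1 := by decide

theorem mcl_exists_outside (o : Finset GolayPt) (ho : o ∈ octads) : ∃ q, q ∉ o := by
  by_contra h
  push Not at h
  have := Finset.eq_univ_iff_forall.2 h
  have hc := octads_card_eq ho
  rw [this, Finset.card_univ, card_pts] at hc
  omega

/-- the points other than `∞`, `0`, `1` -/
theorem mcl_perm_A21 (j j' : ZMod 23) (hj : j ≠ 0) (hj1 : j ≠ 1) (hj' : j' ≠ 0) (hj1' : j' ≠ 1) :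
    ∃ π ∈ M24, π none = none ∧ π (some 0) = some 0 ∧ π (some 1) = some 1 ∧
      π (some j') = some j := by
  have h4 := M24_four
  rw [MulAction.isMultiplyPretransitive_iff] at h4
  have e0 : (some j : GolayPt) ≠ some 0 := by simpa using hj
  have e1 : (some j : GolayPt) ≠ some 1 := by simpa using hj1
  have e0' : (some j' : GolayPt) ≠ some 0 := by simpa using hj'
  have e1' : (some j' : GolayPt) ≠ some 1 := by simpa using hj1'
  obtain ⟨g, hg⟩ := h4 ⟨![none, some 0, some 1, some j'], inj4 _ (by simp) (by simp) (by simp)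
      mcl_01 (Ne.symm e0') (Ne.symm e1')⟩
    ⟨![none, some 0, some 1, some j], inj4 _ (by simp) (by simp) (by simp)
      mcl_01 (Ne.symm e0) (Ne.symm e1)⟩
  refine ⟨g.1, g.2, ?_, ?_, ?_, ?_⟩
  · exact congrArg (fun f : Fin 4 ↪ GolayPt => f 0) hg
  · exact congrArg (fun f : Fin 4 ↪ GolayPt => f 1) hg
  · exact congrArg (fun f : Fin 4 ↪ GolayPt => f 2) hg
  · exact congrArg (fun f : Fin 4 ↪ GolayPt => f 3) hg

/-- the octads through `∞`, `0`, `1` -/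
theorem mcl_perm_B21 (k k' : ℕ) (hk : k ∈ K77) (hk' : k' ∈ K77) (h1 : Cw k (some 1) ≠ 0)
    (h1' : Cw k' (some 1) ≠ 0) :
    ∃ π ∈ M24, π none = none ∧ π (some 0) = some 0 ∧ π (some 1) = some 1 ∧
      ∀ p, Cw k (π p) ≠ 0 ↔ Cw k' p ≠ 0 := by
  classical
  have key : ∀ k : ℕ, k ∈ K77 → Cw k (some 1) ≠ 0 →
      ∃ y : Fin 5 → GolayPt, Function.Injective y ∧ y 0 = none ∧ y 1 = some 0 ∧ y 2 = some 1 ∧
        ∀ i, y i ∈ support₂ (Cw k) := by
    intro k hk h1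
    obtain ⟨hoct, m0, m1⟩ := mcl_K77_basic k hk
    have m2 : some 1 ∈ support₂ (Cw k) := (mem_support₂_Cw k _).2 h1
    have hcard := octads_card_eq hoct
    have a1 : some 0 ∈ (support₂ (Cw k)).erase none := Finset.mem_erase.2 ⟨by simp, m1⟩
    have a2 : some 1 ∈ ((support₂ (Cw k)).erase none).erase (some 0) :=
      Finset.mem_erase.2 ⟨by decide, Finset.mem_erase.2 ⟨by simp, m2⟩⟩
    have hc : 2 ≤ ((((support₂ (Cw k)).erase none).erase (some 0)).erase (some 1)).card := by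
      rw [Finset.card_erase_of_mem a2, Finset.card_erase_of_mem a1, Finset.card_erase_of_mem m0,
        hcard]
      norm_num
    obtain ⟨y, hy, y0, y1, y2, y3, y4⟩ := mcl_tuple3 none (some 0) (some 1) _ (by simp) (by simp)
      (by decide) (by simp) (by simp) (by simp) hc
    refine ⟨y, hy, y0, y1, y2, fun i => ?_⟩
    fin_cases i
    · show y 0 ∈ _
      rw [y0]; exact m0
    · show y 1 ∈ _
      rw [y1]; exact m1
    · show y 2 ∈ _
      rw [y2]; exact m2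
    · exact Finset.mem_of_mem_erase (Finset.mem_of_mem_erase (Finset.mem_of_mem_erase y3))
    · exact Finset.mem_of_mem_erase (Finset.mem_of_mem_erase (Finset.mem_of_mem_erase y4))
  obtain ⟨y, hy, y0, y1, y2, hyo⟩ := key k hk h1
  obtain ⟨y', hy', y0', y1', y2', hyo'⟩ := key k' hk' h1'
  obtain ⟨hoct, -, -⟩ := mcl_K77_basic k hk
  obtain ⟨hoct', -, -⟩ := mcl_K77_basic k' hk'
  obtain ⟨q, hq⟩ := mcl_exists_outside _ hoct
  obtain ⟨q', hq'⟩ := mcl_exists_outside _ hoct'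
  obtain ⟨π, hπ, hπy, -, hπo⟩ := mcl_octad_flag _ _ hoct hoct' y y' hy hy' hyo hyo' q q' hq hq'
  refine ⟨π, hπ, ?_, ?_, ?_, fun p => ?_⟩
  · have := hπy 0
    rw [y0, y0'] at this
    exact this
  · have := hπy 1
    rw [y1, y1'] at this
    exact this
  · have := hπy 2
    rw [y2, y2'] at this
    exact this
  · rw [← mem_support₂_Cw, ← mem_support₂_Cw]
    exact hπo p

/-- the octads through `∞`, `0` avoiding `1` -/
theorem mcl_perm_B56 (k k' : ℕ) (hk : k ∈ K77) (hk' : k' ∈ K77) (h1 : ¬ Cw k (some 1) ≠ 0)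
    (h1' : ¬ Cw k' (some 1) ≠ 0) :
    ∃ π ∈ M24, π none = none ∧ π (some 0) = some 0 ∧ π (some 1) = some 1 ∧
      ∀ p, Cw k (π p) ≠ 0 ↔ Cw k' p ≠ 0 := by
  classical
  have key : ∀ k : ℕ, k ∈ K77 →
      ∃ y : Fin 5 → GolayPt, Function.Injective y ∧ y 0 = none ∧ y 1 = some 0 ∧
        ∀ i, y i ∈ support₂ (Cw k) := by
    intro k hk
    obtain ⟨hoct, m0, m1⟩ := mcl_K77_basic k hk
    have hcard := octads_card_eq hoct
    have a1 : some 0 ∈ (support₂ (Cw k)).erase none := Finset.mem_erase.2 ⟨by simp, m1⟩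
    have hc : 3 ≤ (((support₂ (Cw k)).erase none).erase (some 0)).card := by
      rw [Finset.card_erase_of_mem a1, Finset.card_erase_of_mem m0, hcard]
      norm_num
    obtain ⟨y, hy, y0, y1, y2, y3, y4⟩ := mcl_tuple2 none (some 0) _ (by simp) (by simp)
      (by simp) hc
    refine ⟨y, hy, y0, y1, fun i => ?_⟩
    fin_cases i
    · show y 0 ∈ _
      rw [y0]; exact m0
    · show y 1 ∈ _
      rw [y1]; exact m1
    · exact Finset.mem_of_mem_erase (Finset.mem_of_mem_erase y2)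
    · exact Finset.mem_of_mem_erase (Finset.mem_of_mem_erase y3)
    · exact Finset.mem_of_mem_erase (Finset.mem_of_mem_erase y4)
  obtain ⟨y, hy, y0, y1, hyo⟩ := key k hk
  obtain ⟨y', hy', y0', y1', hyo'⟩ := key k' hk'
  obtain ⟨hoct, -, -⟩ := mcl_K77_basic k hk
  obtain ⟨hoct', -, -⟩ := mcl_K77_basic k' hk'
  have hq : some 1 ∉ support₂ (Cw k) := fun h => h1 ((mem_support₂_Cw k _).1 h)
  have hq' : some 1 ∉ support₂ (Cw k') := fun h => h1' ((mem_support₂_Cw k' _).1 h)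
  obtain ⟨π, hπ, hπy, hπq, hπo⟩ := mcl_octad_flag _ _ hoct hoct' y y' hy hy' hyo hyo' _ _ hq hq'
  refine ⟨π, hπ, ?_, ?_, hπq, fun p => ?_⟩
  · have := hπy 0
    rw [y0, y0'] at this
    exact this
  · have := hπy 1
    rw [y1, y1'] at this
    exact this
  · rw [← mem_support₂_Cw, ← mem_support₂_Cw]
    exact hπo p

/-- the octads through `0`, `1` avoiding `∞` -/
theorem mcl_perm_C56 (k k' : ℕ) (hk : k ∈ K176) (hk' : k' ∈ K176) (h1 : Cw k (some 1) ≠ 0)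
    (h1' : Cw k' (some 1) ≠ 0) :
    ∃ π ∈ M24, π none = none ∧ π (some 0) = some 0 ∧ π (some 1) = some 1 ∧
      ∀ p, Cw k (π p) ≠ 0 ↔ Cw k' p ≠ 0 := by
  classical
  have key : ∀ k : ℕ, k ∈ K176 → Cw k (some 1) ≠ 0 →
      ∃ y : Fin 5 → GolayPt, Function.Injective y ∧ y 0 = some 0 ∧ y 1 = some 1 ∧
        ∀ i, y i ∈ support₂ (Cw k) := by
    intro k hk h1
    obtain ⟨hoct, m0, m1⟩ := mcl_K176_basic k hk
    have m2 : some 1 ∈ support₂ (Cw k) := (mem_support₂_Cw k _).2 h1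
    have hcard := octads_card_eq hoct
    have a2 : some 1 ∈ (support₂ (Cw k)).erase (some 0) :=
      Finset.mem_erase.2 ⟨by decide, m2⟩
    have hc : 3 ≤ (((support₂ (Cw k)).erase (some 0)).erase (some 1)).card := by
      rw [Finset.card_erase_of_mem a2, Finset.card_erase_of_mem m1, hcard]
      norm_num
    obtain ⟨y, hy, y0, y1, y2, y3, y4⟩ := mcl_tuple2 (some 0) (some 1) _ (by decide) (by simp)
      (by simp) hc
    refine ⟨y, hy, y0, y1, fun i => ?_⟩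
    fin_cases i
    · show y 0 ∈ _
      rw [y0]; exact m1
    · show y 1 ∈ _
      rw [y1]; exact m2
    · exact Finset.mem_of_mem_erase (Finset.mem_of_mem_erase y2)
    · exact Finset.mem_of_mem_erase (Finset.mem_of_mem_erase y3)
    · exact Finset.mem_of_mem_erase (Finset.mem_of_mem_erase y4)
  obtain ⟨y, hy, y0, y1, hyo⟩ := key k hk h1
  obtain ⟨y', hy', y0', y1', hyo'⟩ := key k' hk' h1'
  obtain ⟨hoct, hq, -⟩ := mcl_K176_basic k hk
  obtain ⟨hoct', hq', -⟩ := mcl_K176_basic k' hk'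
  obtain ⟨π, hπ, hπy, hπq, hπo⟩ := mcl_octad_flag _ _ hoct hoct' y y' hy hy' hyo hyo' _ _ hq hq'
  refine ⟨π, hπ, hπq, ?_, ?_, fun p => ?_⟩
  · have := hπy 0
    rw [y0, y0'] at this
    exact this
  · have := hπy 1
    rw [y1, y1'] at this
    exact this
  · rw [← mem_support₂_Cw, ← mem_support₂_Cw]
    exact hπo p

set_option maxRecDepth 100000 in
theorem mcl_five_mem : 5 ∈ K176 := by
  rw [mem_K176]
  decide +kernel

/-- the octads through `0` avoiding `∞` and `1` -/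
theorem mcl_perm_C120 (k k' : ℕ) (hk : k ∈ K176) (hk' : k' ∈ K176) (h1 : ¬ Cw k (some 1) ≠ 0)
    (h1' : ¬ Cw k' (some 1) ≠ 0) :
    ∃ π ∈ M24, π none = none ∧ π (some 0) = some 0 ∧ π (some 1) = some 1 ∧
      ∀ p, Cw k (π p) ≠ 0 ↔ Cw k' p ≠ 0 := by
  -- move both octads to the base octad
  have key : ∀ k : ℕ, k ∈ K176 → ¬ Cw k (some 1) ≠ 0 →
      ∃ σ ∈ M24, σ none = none ∧ σ (some 0) = some 0 ∧ σ (some 1) = some 1 ∧
        ∀ p, Cw k (σ p) ≠ 0 ↔ Cw 5 p ≠ 0 := by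
    intro k hk h1
    obtain ⟨π, hπ, a, b, c⟩ := mcl_exists_perm_z 5 k mcl_five_mem hk
    -- the image of `1` lies outside the base octad and is not `∞`
    have hr1 : ¬ Cw 5 (π (some 1)) ≠ 0 := fun h => h1 ((c _).1 h)
    have hrn : π (some 1) ≠ none := by
      intro h
      rw [← a] at h
      exact absurd (π.injective h) (by simp)
    have hlt : gidx (π (some 1)) < 23 := by
      cases hp : π (some 1) with
      | none => exact absurd hp hrn
      | some x => exact ZMod.val_lt x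
    have hbit : mclO5.testBit (gidx (π (some 1))) = false := by
      rw [Cw_ne_zero_iff, ← mclO5_eq] at hr1
      simpa using hr1
    obtain ⟨g, hg, g0, g1, g2, g3⟩ := mcl_A7_map hlt hbit
    rw [gpt_gidx] at g3
    have e1 : gpt 1 = some 1 := rfl
    rw [e1] at g3
    -- `σ = π⁻¹ g`
    refine ⟨π⁻¹ * g, M24.mul_mem (M24.inv_mem hπ) hg, ?_, ?_, ?_, fun p => ?_⟩
    · rw [Equiv.Perm.mul_apply, g0, Equiv.Perm.inv_eq_iff_eq, a]
    · rw [Equiv.Perm.mul_apply, g1, Equiv.Perm.inv_eq_iff_eq, b]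
    · rw [Equiv.Perm.mul_apply, g3, Equiv.Perm.inv_eq_iff_eq]
    · rw [Equiv.Perm.mul_apply, ← g2 p]
      have := c (π⁻¹ (g p))
      rw [mcl_apply_inv] at this
      exact this.symm
  obtain ⟨σ, hσ, s0, s1, s2, s3⟩ := key k hk h1
  obtain ⟨σ', hσ', s0', s1', s2', s3'⟩ := key k' hk' h1'
  refine ⟨σ * σ'⁻¹, M24.mul_mem hσ (M24.inv_mem hσ'), ?_, ?_, ?_, fun p => ?_⟩
  · rw [Equiv.Perm.mul_apply, Equiv.Perm.inv_eq_iff_eq.2 s0'.symm, s0]
  · rw [Equiv.Perm.mul_apply, Equiv.Perm.inv_eq_iff_eq.2 s1'.symm, s1]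
  · rw [Equiv.Perm.mul_apply, Equiv.Perm.inv_eq_iff_eq.2 s2'.symm, s2]
  · rw [Equiv.Perm.mul_apply, s3, ← s3' (σ'⁻¹ p), mcl_apply_inv]

/-- octads through `0` avoiding `∞` that meet a fixed octad through `∞`, `0` in four points -/
theorem mcl_perm_D80 (kB k k' : ℕ) (hkB : kB ∈ K77) (hk : k ∈ K176) (hk' : k' ∈ K176)
    (h : (support₂ (Cw kB) ∩ support₂ (Cw k)).card = 4)
    (h' : (support₂ (Cw kB) ∩ support₂ (Cw k')).card = 4) :
    ∃ π ∈ M24, π none = none ∧ π (some 0) = some 0 ∧ (∀ p, Cw kB (π p) ≠ 0 ↔ Cw kB p ≠ 0) ∧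
      ∀ p, Cw k (π p) ≠ 0 ↔ Cw k' p ≠ 0 := by
  obtain ⟨hoB, mB0, mB1⟩ := mcl_K77_basic kB hkB
  obtain ⟨ho, m0, m1⟩ := mcl_K176_basic k hk
  obtain ⟨ho', m0', m1'⟩ := mcl_K176_basic k' hk'
  obtain ⟨π, hπ, a, b, c, d⟩ := mcl_octad_pair _ _ _ hoB ho' ho none (some 0) mB0 mB1 h' h
    m0' m0 m1' m1
  refine ⟨π, hπ, a, b, fun p => ?_, fun p => ?_⟩
  · rw [← mem_support₂_Cw, ← mem_support₂_Cw]
    exact c p
  · rw [← mem_support₂_Cw, ← mem_support₂_Cw]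
    exact d p

end Cfsg.Agent.Lib.helper23
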