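import Cfsg.Agent.Lib.helper23.McLH
import Cfsg.Agent.Lib.helper23.McLE

set_option autoImplicit false

/-!
# The point `4e_0 + 4e_1` of the standard McLaughlin configuration: the two suborbits
-/

namespace Cfsg.Agent.Lib.helper23

open Cfsg
open Cfsg.Agent.Lib.Lead.LX Cfsg.Agent.Lib.Lead.CW Cfsg.Agent.Lib.Lead.CO Cfsg.Agent.Lib.Lead.CP
open Cfsg.Agent.Lib.helper3 Cfsg.Agent.Lib.helper4 Cfsg.Agent.S0398 Cfsg.Agent.S1571
open Cfsg.Agent.Lib.Lead.LC Cfsg.Agent.Lib.Lead.LC3 Cfsg.Agent.Lib.Lead.HS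

theorem mcl_one_ne : (1 : ZMod 23) ≠ 0 := by decide

/-- the base point `4e_0 + 4e_1` -/
def mclX1 : ↥leechLattice := mclL1 1

theorem mclX1_val : mclX1.1 = mclF1 1 := mclL1_val 1 mcl_one_ne

theorem mclX1_mem : mclX1 ∈ mclX mclU v32 := mclL1_mem 1 mcl_one_ne

theorem dot_mclX1 (y : GolayPt → ℤ) : dotInt mclX1.1 y = 4 * y (some 0) + 4 * y (some 1) := by
  rw [mclX1_val]
  unfold dotInt mclF1
  have : ∀ p : GolayPt, ((if p = some 0 then (4 : ℤ) else 0) + (if p = some 1 then 4 else 0)) * y p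
      = (if p = some 0 then 4 * y (some 0) else 0) + (if p = some 1 then 4 * y (some 1) else 0) := by
    intro p
    by_cases h0 : p = some 0
    · subst h0
      have : (some 0 : GolayPt) ≠ some 1 := by decide
      rw [if_pos rfl, if_neg this, if_pos rfl, if_neg this]
      ring
    · by_cases h1 : p = some 1
      · subst h1
        rw [if_neg h0, if_pos rfl, if_neg h0, if_pos rfl]
        ring
      · rw [if_neg h0, if_neg h1, if_neg h0, if_neg h1]
        ring
  rw [Finset.sum_congr rfl (fun p _ => this p), Finset.sum_add_distrib,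
    Finset.sum_ite_eq' Finset.univ (some 0), Finset.sum_ite_eq' Finset.univ (some 1),
    if_pos (Finset.mem_univ _), if_pos (Finset.mem_univ _)]

theorem dot_X1_L1 (j : ZMod 23) (hj : j ≠ 0) :
    dotInt mclX1.1 (mclL1 j).1 = if j = 1 then 32 else 16 := by
  rw [dot_mclX1, mclL1_val j hj]
  unfold mclF1
  have e1 : (some 0 : GolayPt) ≠ some j := by simpa using Ne.symm hj
  have e2 : (some 1 : GolayPt) ≠ some 0 := by decide
  rw [if_pos rfl, if_neg e1, if_neg e2]
  by_cases h : j = 1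
  · subst h
    rw [if_pos rfl, if_pos rfl]
    norm_num
  · have : (some 1 : GolayPt) ≠ some j := by simpa using Ne.symm h
    rw [if_neg this, if_neg h]
    norm_num

theorem K77_zero (k : ℕ) (hk : k ∈ K77) : Cw k (some 0) ≠ 0 := by
  rw [mem_K77] at hk
  have hkey := hk.2
  unfold keyM at hkey
  rw [Prod.mk.injEq, Prod.mk.injEq] at hkey
  exact of_decide_eq_true hkey.2.2

theorem dot_X1_L2 (k : ℕ) (hk : k ∈ K77) :
    dotInt mclX1.1 (oL k).1 = if Cw k (some 1) ≠ 0 then 16 else 8 := by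
  rw [dot_mclX1, oL_val k hk]
  unfold oK
  rw [if_pos (K77_zero k hk)]
  by_cases h : Cw k (some 1) ≠ 0
  · rw [if_pos h, if_pos h]
    norm_num
  · rw [if_neg h, if_neg h]
    norm_num

theorem dot_X1_L3 (k : ℕ) (hk : k ∈ K176) :
    dotInt mclX1.1 (mclL3 k).1 = if Cw k (some 1) ≠ 0 then 8 else 16 := by
  rw [dot_mclX1, mclL3_val k hk]
  unfold mclZ
  have e2 : (some 1 : GolayPt) ≠ some 0 := by decide
  rw [if_pos rfl, if_neg e2]
  by_cases h : Cw k (some 1) ≠ 0
  · rw [if_pos h, if_pos h]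
    norm_num
  · rw [if_neg h, if_neg h]
    norm_num

/-! ### the blocks -/

def mclA21 : Finset ↥leechLattice :=
  (((Finset.univ : Finset (ZMod 23)).erase 0).erase 1).image mclL1

def mclB21 : Finset ↥leechLattice := (K77.filter (fun k => Cw k (some 1) ≠ 0)).image oL

def mclB56 : Finset ↥leechLattice := (K77.filter (fun k => ¬ Cw k (some 1) ≠ 0)).image oL

def mclC56 : Finset ↥leechLattice := (K176.filter (fun k => Cw k (some 1) ≠ 0)).image mclL3

def mclC120 : Finset ↥leechLattice := (K176.filter (fun k => ¬ Cw k (some 1) ≠ 0)).image mclL3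

theorem mem_mclA21 (y : ↥leechLattice) :
    y ∈ mclA21 ↔ ∃ j : ZMod 23, j ≠ 0 ∧ j ≠ 1 ∧ mclL1 j = y := by
  unfold mclA21
  rw [Finset.mem_image]
  constructor
  · rintro ⟨j, hj, rfl⟩
    rw [Finset.mem_erase, Finset.mem_erase] at hj
    exact ⟨j, hj.2.1, hj.1, rfl⟩
  · rintro ⟨j, h0, h1, rfl⟩
    exact ⟨j, Finset.mem_erase.2 ⟨h1, Finset.mem_erase.2 ⟨h0, Finset.mem_univ _⟩⟩, rfl⟩

theorem mem_mclB21 (y : ↥leechLattice) :
    y ∈ mclB21 ↔ ∃ k ∈ K77, Cw k (some 1) ≠ 0 ∧ oL k = y := by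
  unfold mclB21
  rw [Finset.mem_image]
  constructor
  · rintro ⟨k, hk, rfl⟩
    rw [Finset.mem_filter] at hk
    exact ⟨k, hk.1, hk.2, rfl⟩
  · rintro ⟨k, hk, h1, rfl⟩
    exact ⟨k, Finset.mem_filter.2 ⟨hk, h1⟩, rfl⟩

theorem mem_mclB56 (y : ↥leechLattice) :
    y ∈ mclB56 ↔ ∃ k ∈ K77, ¬ Cw k (some 1) ≠ 0 ∧ oL k = y := by
  unfold mclB56
  rw [Finset.mem_image]
  constructor
  · rintro ⟨k, hk, rfl⟩
    rw [Finset.mem_filter] at hk
    exact ⟨k, hk.1, hk.2, rfl⟩
  · rintro ⟨k, hk, h1, rfl⟩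
    exact ⟨k, Finset.mem_filter.2 ⟨hk, h1⟩, rfl⟩

theorem mem_mclC56 (y : ↥leechLattice) :
    y ∈ mclC56 ↔ ∃ k ∈ K176, Cw k (some 1) ≠ 0 ∧ mclL3 k = y := by
  unfold mclC56
  rw [Finset.mem_image]
  constructor
  · rintro ⟨k, hk, rfl⟩
    rw [Finset.mem_filter] at hk
    exact ⟨k, hk.1, hk.2, rfl⟩
  · rintro ⟨k, hk, h1, rfl⟩
    exact ⟨k, Finset.mem_filter.2 ⟨hk, h1⟩, rfl⟩

theorem mem_mclC120 (y : ↥leechLattice) :
    y ∈ mclC120 ↔ ∃ k ∈ K176, ¬ Cw k (some 1) ≠ 0 ∧ mclL3 k = y := by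
  unfold mclC120
  rw [Finset.mem_image]
  constructor
  · rintro ⟨k, hk, rfl⟩
    rw [Finset.mem_filter] at hk
    exact ⟨k, hk.1, hk.2, rfl⟩
  · rintro ⟨k, hk, h1, rfl⟩
    exact ⟨k, Finset.mem_filter.2 ⟨hk, h1⟩, rfl⟩

set_option maxRecDepth 1000000 in
theorem mcl_block_counts :
    ((Finset.range 4096).filter (fun k => keyM k = (6, true, true) ∧ Cw k (some 1) ≠ 0)).card = 21 ∧
    ((Finset.range 4096).filter
      (fun k => keyM k = (6, true, true) ∧ ¬ Cw k (some 1) ≠ 0)).card = 56 ∧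
    ((Finset.range 4096).filter
      (fun k => keyM k = (7, false, true) ∧ Cw k (some 1) ≠ 0)).card = 56 ∧
    ((Finset.range 4096).filter
      (fun k => keyM k = (7, false, true) ∧ ¬ Cw k (some 1) ≠ 0)).card = 120 := by
  decide +kernel

theorem card_mclA21 : mclA21.card = 21 := by
  unfold mclA21
  rw [Finset.card_image_of_injOn, Finset.card_erase_of_mem, Finset.card_erase_of_mem
    (Finset.mem_univ _), Finset.card_univ, ZMod.card]
  · exact Finset.mem_erase.2 ⟨mcl_one_ne, Finset.mem_univ _⟩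
  · intro j hj j' hj' h
    have hj0 : j ≠ 0 := Finset.ne_of_mem_erase (Finset.mem_of_mem_erase hj)
    have hj0' : j' ≠ 0 := Finset.ne_of_mem_erase (Finset.mem_of_mem_erase hj')
    exact mclL1_inj j j' hj0 hj0' h

theorem card_mclB21 : mclB21.card = 21 := by
  unfold mclB21
  rw [Finset.card_image_of_injOn]
  · rw [← mcl_block_counts.1]
    unfold K77
    rw [Finset.filter_filter]
  · intro k hk k' hk' h
    exact oL_inj k k' (Finset.mem_filter.1 hk).1 (Finset.mem_filter.1 hk').1 h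

theorem card_mclB56 : mclB56.card = 56 := by
  unfold mclB56
  rw [Finset.card_image_of_injOn]
  · rw [← mcl_block_counts.2.1]
    unfold K77
    rw [Finset.filter_filter]
  · intro k hk k' hk' h
    exact oL_inj k k' (Finset.mem_filter.1 hk).1 (Finset.mem_filter.1 hk').1 h

theorem card_mclC56 : mclC56.card = 56 := by
  unfold mclC56
  rw [Finset.card_image_of_injOn]
  · rw [← mcl_block_counts.2.2.1]
    unfold K176
    rw [Finset.filter_filter]
  · intro k hk k' hk' h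
    exact mclL3_inj k k' (Finset.mem_filter.1 hk).1 (Finset.mem_filter.1 hk').1 h

theorem card_mclC120 : mclC120.card = 120 := by
  unfold mclC120
  rw [Finset.card_image_of_injOn]
  · rw [← mcl_block_counts.2.2.2]
    unfold K176
    rw [Finset.filter_filter]
  · intro k hk k' hk' h
    exact mclL3_inj k k' (Finset.mem_filter.1 hk).1 (Finset.mem_filter.1 hk').1 h

theorem mclA21_sub (y : ↥leechLattice) (hy : y ∈ mclA21) : y ∈ mclFA := by
  rw [mem_mclA21] at hy
  obtain ⟨j, h0, -, rfl⟩ := hy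
  exact (mem_mclFA _).2 ⟨j, h0, rfl⟩

theorem mclB21_sub (y : ↥leechLattice) (hy : y ∈ mclB21) : y ∈ mclFB := by
  rw [mem_mclB21] at hy
  obtain ⟨k, hk, -, rfl⟩ := hy
  exact (mem_mclFB _).2 ⟨k, hk, rfl⟩

theorem mclB56_sub (y : ↥leechLattice) (hy : y ∈ mclB56) : y ∈ mclFB := by
  rw [mem_mclB56] at hy
  obtain ⟨k, hk, -, rfl⟩ := hy
  exact (mem_mclFB _).2 ⟨k, hk, rfl⟩

theorem mclC56_sub (y : ↥leechLattice) (hy : y ∈ mclC56) : y ∈ mclFC := by
  rw [mem_mclC56] at hy
  obtain ⟨k, hk, -, rfl⟩ := hy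
  exact (mem_mclFC _).2 ⟨k, hk, rfl⟩

theorem mclC120_sub (y : ↥leechLattice) (hy : y ∈ mclC120) : y ∈ mclFC := by
  rw [mem_mclC120] at hy
  obtain ⟨k, hk, -, rfl⟩ := hy
  exact (mem_mclFC _).2 ⟨k, hk, rfl⟩

/-- the vectors of the configuration with dot product `8` with the base point -/
theorem mcl_mem_Y8 (y : ↥leechLattice) :
    (y ∈ mclX mclU v32 ∧ dotInt mclX1.1 y.1 = 8) ↔ y ∈ mclB56 ∪ mclC56 := by
  rw [mcl_X0_eq, Finset.mem_union, Finset.mem_union, Finset.mem_union]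
  constructor
  · rintro ⟨(h | h) | h, hd⟩
    · rw [mem_mclFA] at h
      obtain ⟨j, hj, rfl⟩ := h
      rw [dot_X1_L1 j hj] at hd
      split_ifs at hd <;> omega
    · rw [mem_mclFB] at h
      obtain ⟨k, hk, rfl⟩ := h
      rw [dot_X1_L2 k hk] at hd
      left
      rw [mem_mclB56]
      refine ⟨k, hk, ?_, rfl⟩
      intro h1
      rw [if_pos h1] at hd
      omega
    · rw [mem_mclFC] at h
      obtain ⟨k, hk, rfl⟩ := h
      rw [dot_X1_L3 k hk] at hd
      right
      rw [mem_mclC56]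
      refine ⟨k, hk, ?_, rfl⟩
      by_cases h1 : Cw k (some 1) ≠ 0
      · exact h1
      · rw [if_neg h1] at hd
        omega
  · rintro (h | h)
    · refine ⟨Or.inl (Or.inr (mclB56_sub y h)), ?_⟩
      rw [mem_mclB56] at h
      obtain ⟨k, hk, h1, rfl⟩ := h
      rw [dot_X1_L2 k hk, if_neg h1]
    · refine ⟨Or.inr (mclC56_sub y h), ?_⟩
      rw [mem_mclC56] at h
      obtain ⟨k, hk, h1, rfl⟩ := h
      rw [dot_X1_L3 k hk, if_pos h1]

/-- the vectors of the configuration other than the base point with dot product `16` with it -/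
theorem mcl_mem_Y16 (y : ↥leechLattice) :
    (y ∈ mclX mclU v32 ∧ y ≠ mclX1 ∧ dotInt mclX1.1 y.1 = 16) ↔
      y ∈ (mclA21 ∪ mclB21) ∪ mclC120 := by
  rw [mcl_X0_eq, Finset.mem_union, Finset.mem_union, Finset.mem_union, Finset.mem_union]
  constructor
  · rintro ⟨(h | h) | h, hne, hd⟩
    · rw [mem_mclFA] at h
      obtain ⟨j, hj, rfl⟩ := h
      left; left
      rw [mem_mclA21]
      refine ⟨j, hj, ?_, rfl⟩
      rintro rfl
      exact hne rfl
    · rw [mem_mclFB] at h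
      obtain ⟨k, hk, rfl⟩ := h
      rw [dot_X1_L2 k hk] at hd
      left; right
      rw [mem_mclB21]
      refine ⟨k, hk, ?_, rfl⟩
      by_cases h1 : Cw k (some 1) ≠ 0
      · exact h1
      · rw [if_neg h1] at hd
        omega
    · rw [mem_mclFC] at h
      obtain ⟨k, hk, rfl⟩ := h
      rw [dot_X1_L3 k hk] at hd
      right
      rw [mem_mclC120]
      refine ⟨k, hk, ?_, rfl⟩
      intro h1
      rw [if_pos h1] at hd
      omega
  · have hne : ∀ z : ↥leechLattice, dotInt mclX1.1 z.1 = 16 → z ≠ mclX1 := by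
      intro z hz h
      have h32 : dotInt mclX1.1 mclX1.1 = 32 := by
        have := dot_X1_L1 1 mcl_one_ne
        rw [if_pos rfl] at this
        exact this
      rw [h, h32] at hz
      omega
    rintro ((h | h) | h)
    · have hd : dotInt mclX1.1 y.1 = 16 := by
        rw [mem_mclA21] at h
        obtain ⟨j, h0, h1, rfl⟩ := h
        rw [dot_X1_L1 j h0, if_neg h1]
      exact ⟨Or.inl (Or.inl (mclA21_sub y h)), hne y hd, hd⟩
    · have hd : dotInt mclX1.1 y.1 = 16 := by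
        rw [mem_mclB21] at h
        obtain ⟨k, hk, h1, rfl⟩ := h
        rw [dot_X1_L2 k hk, if_pos h1]
      exact ⟨Or.inl (Or.inr (mclB21_sub y h)), hne y hd, hd⟩
    · have hd : dotInt mclX1.1 y.1 = 16 := by
        rw [mem_mclC120] at h
        obtain ⟨k, hk, h1, rfl⟩ := h
        rw [dot_X1_L3 k hk, if_neg h1]
      exact ⟨Or.inr (mclC120_sub y h), hne y hd, hd⟩

theorem mcl_disj_BC56 : Disjoint mclB56 mclC56 := by
  rw [Finset.disjoint_left]
  intro y h1 h2
  have := mclFB_none y (mclB56_sub y h1)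
  have := mclFC_none y (mclC56_sub y h2)
  omega

theorem mcl_disj_AB21 : Disjoint mclA21 mclB21 := by
  rw [Finset.disjoint_left]
  intro y h1 h2
  have := mclFA_none y (mclA21_sub y h1)
  have := mclFB_none y (mclB21_sub y h2)
  omega

theorem mcl_disj_ABC21 : Disjoint (mclA21 ∪ mclB21) mclC120 := by
  rw [Finset.disjoint_left]
  intro y h1 h2
  have := mclFC_none y (mclC120_sub y h2)
  rcases Finset.mem_union.1 h1 with h | h
  · have := mclFA_none y (mclA21_sub y h)
    omega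
  · have := mclFB_none y (mclB21_sub y h)
    omega

/-- the first suborbit has 112 elements -/
theorem mcl_card_Y8 :
    {y : ↥leechLattice | y ∈ mclX mclU v32 ∧ dotInt mclX1.1 y.1 = 8}.ncard = 112 := by
  have : {y : ↥leechLattice | y ∈ mclX mclU v32 ∧ dotInt mclX1.1 y.1 = 8}
      = ↑(mclB56 ∪ mclC56) := by
    ext y
    rw [Finset.mem_coe, ← mcl_mem_Y8]
    rfl
  rw [this, Set.ncard_coe_finset, Finset.card_union_of_disjoint mcl_disj_BC56, card_mclB56,
    card_mclC56]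

/-- the second suborbit has 162 elements -/
theorem mcl_card_Y16 :
    {y : ↥leechLattice | y ∈ mclX mclU v32 ∧ y ≠ mclX1 ∧ dotInt mclX1.1 y.1 = 16}.ncard
      = 162 := by
  have : {y : ↥leechLattice | y ∈ mclX mclU v32 ∧ y ≠ mclX1 ∧ dotInt mclX1.1 y.1 = 16}
      = ↑((mclA21 ∪ mclB21) ∪ mclC120) := by
    ext y
    rw [Finset.mem_coe, ← mcl_mem_Y16]
    rfl
  rw [this, Set.ncard_coe_finset, Finset.card_union_of_disjoint mcl_disj_ABC21,
    Finset.card_union_of_disjoint mcl_disj_AB21, card_mclA21, card_mclB21, card_mclC120]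

end Cfsg.Agent.Lib.helper23
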