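import Cfsg.Agent.Lib.helper23.McLI

set_option autoImplicit false

/-!
# The stabiliser of a point of the McLaughlin configuration: relations and divisibility
-/

namespace Cfsg.Agent.Lib.helper23

open Cfsg
open Cfsg.Agent.Lib.Lead.LX Cfsg.Agent.Lib.Lead.CW Cfsg.Agent.Lib.Lead.CO Cfsg.Agent.Lib.Lead.CP
open Cfsg.Agent.Lib.helper3 Cfsg.Agent.Lib.helper4 Cfsg.Agent.S0398 Cfsg.Agent.S1571
open Cfsg.Agent.Lib.Lead.LC Cfsg.Agent.Lib.Lead.LC3 Cfsg.Agent.Lib.Lead.HS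

/-- equivalence under the stabiliser of the standard frame and of a point `x` -/
def mclRelP (x y y' : ↥leechLattice) : Prop :=
  ∃ g : ↥Co0, g.1 v32 = v32 ∧ g.1 W1 = W1 ∧ g.1 x = x ∧ g.1 y = y'

theorem mclRelP.refl (x y : ↥leechLattice) : mclRelP x y y := ⟨1, rfl, rfl, rfl, rfl⟩

theorem mclRelP.symm {x y y' : ↥leechLattice} (h : mclRelP x y y') : mclRelP x y' y := by
  obtain ⟨g, a, b, c, d⟩ := h
  refine ⟨g⁻¹, mcl_inv_fix g _ a, mcl_inv_fix g _ b, mcl_inv_fix g _ c, ?_⟩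
  rw [← d, inv_apply_apply]

theorem mclRelP.trans {x y y' y'' : ↥leechLattice} (h1 : mclRelP x y y')
    (h2 : mclRelP x y' y'') : mclRelP x y y'' := by
  obtain ⟨g, a, b, c, d⟩ := h1
  obtain ⟨g', a', b', c', d'⟩ := h2
  refine ⟨g' * g, ?_, ?_, ?_, ?_⟩
  · show g'.1 (g.1 v32) = v32
    rw [a, a']
  · show g'.1 (g.1 W1) = W1
    rw [b, b']
  · show g'.1 (g.1 x) = x
    rw [c, c']
  · show g'.1 (g.1 y) = y''
    rw [d, d']

/-- the configuration and the dot product with the point are preserved -/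
theorem mclRelP.mem {x y y' : ↥leechLattice} (h : mclRelP x y y') (hy : y ∈ mclX mclU v32) :
    y' ∈ mclX mclU v32 ∧ dotInt x.1 y'.1 = dotInt x.1 y.1 := by
  obtain ⟨g, a, b, c, d⟩ := h
  refine ⟨mcl_rel_mem y y' hy ⟨g, a, b, d⟩, ?_⟩
  have := dot_map g x y
  rw [c, d] at this
  exact this

/-- permutations fixing `∞`, `0` and the point -/
theorem mcl_relP_perm (π : Equiv.Perm GolayPt) (hπ : π ∈ M24) (h0 : π none = none)
    (h1 : π (some 0) = some 0) (x y y' : ↥leechLattice) (hx : (permE π hπ) x = x)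
    (h : (permE π hπ) y = y') : mclRelP x y y' := by
  obtain ⟨g, a, b, c⟩ := mcl_rel_perm π hπ h0 h1 y y' h
  exact ⟨⟨permE π hπ, permE_mem π hπ⟩, perm_fix π hπ h0 h1,
    (mcl_rel_perm π hπ h0 h1 y y' h).choose_spec.2.1 |> fun _ => by
      have hU := mcl_perm_fix_U π hπ h1
      have hV := perm_fix π hπ h0 h1
      show (permE π hπ) W1 = W1
      have e : W1 = mclU - v32 := mclU_sub_v32.symm
      have hs := Cfsg.Agent.Lib.Lead.CP.map_sub' ⟨permE π hπ, permE_mem π hπ⟩ mclU v32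
      rw [e]
      refine hs.trans ?_
      show (permE π hπ) mclU - (permE π hπ) v32 = mclU - v32
      rw [hU, hV], hx, h⟩

theorem mcl_perm_fix_X1 (π : Equiv.Perm GolayPt) (hπ : π ∈ M24) (h0 : π (some 0) = some 0)
    (h1 : π (some 1) = some 1) : (permE π hπ) mclX1 = mclX1 :=
  mcl_perm_L1 π hπ 1 1 mcl_one_ne mcl_one_ne h0 h1

theorem mcl_relU_A21 (y y' : ↥leechLattice) (hy : y ∈ mclA21) (hy' : y' ∈ mclA21) :
    mclRelP mclX1 y y' := by
  rw [mem_mclA21] at hy hy'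
  obtain ⟨j, h0, h1, rfl⟩ := hy
  obtain ⟨j', h0', h1', rfl⟩ := hy'
  obtain ⟨π, hπ, a, b, c, d⟩ := mcl_perm_A21 j j' h0 h1 h0' h1'
  exact mcl_relP_perm π hπ a b _ _ _ (mcl_perm_fix_X1 π hπ b c)
    (mcl_perm_L1 π hπ j j' h0 h0' b d)

theorem mcl_relU_B21 (y y' : ↥leechLattice) (hy : y ∈ mclB21) (hy' : y' ∈ mclB21) :
    mclRelP mclX1 y y' := by
  rw [mem_mclB21] at hy hy'
  obtain ⟨k, hk, h1, rfl⟩ := hy
  obtain ⟨k', hk', h1', rfl⟩ := hy'
  obtain ⟨π, hπ, a, b, c, d⟩ := mcl_perm_B21 k k' hk hk' h1 h1'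
  exact mcl_relP_perm π hπ a b _ _ _ (mcl_perm_fix_X1 π hπ b c) (perm_oL π hπ k k' hk hk' d)

theorem mcl_relU_B56 (y y' : ↥leechLattice) (hy : y ∈ mclB56) (hy' : y' ∈ mclB56) :
    mclRelP mclX1 y y' := by
  rw [mem_mclB56] at hy hy'
  obtain ⟨k, hk, h1, rfl⟩ := hy
  obtain ⟨k', hk', h1', rfl⟩ := hy'
  obtain ⟨π, hπ, a, b, c, d⟩ := mcl_perm_B56 k k' hk hk' h1 h1'
  exact mcl_relP_perm π hπ a b _ _ _ (mcl_perm_fix_X1 π hπ b c) (perm_oL π hπ k k' hk hk' d)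

theorem mcl_relU_C56 (y y' : ↥leechLattice) (hy : y ∈ mclC56) (hy' : y' ∈ mclC56) :
    mclRelP mclX1 y y' := by
  rw [mem_mclC56] at hy hy'
  obtain ⟨k, hk, h1, rfl⟩ := hy
  obtain ⟨k', hk', h1', rfl⟩ := hy'
  obtain ⟨π, hπ, a, b, c, d⟩ := mcl_perm_C56 k k' hk hk' h1 h1'
  exact mcl_relP_perm π hπ a b _ _ _ (mcl_perm_fix_X1 π hπ b c)
    (mcl_perm_L3 π hπ k k' hk hk' b d)

theorem mcl_relU_C120 (y y' : ↥leechLattice) (hy : y ∈ mclC120) (hy' : y' ∈ mclC120) :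
    mclRelP mclX1 y y' := by
  rw [mem_mclC120] at hy hy'
  obtain ⟨k, hk, h1, rfl⟩ := hy
  obtain ⟨k', hk', h1', rfl⟩ := hy'
  obtain ⟨π, hπ, a, b, c, d⟩ := mcl_perm_C120 k k' hk hk' h1 h1'
  exact mcl_relP_perm π hπ a b _ _ _ (mcl_perm_fix_X1 π hπ b c)
    (mcl_perm_L3 π hπ k k' hk hk' b d)

theorem mcl_filterP_all_or_none (F : Finset ↥leechLattice) (x y : ↥leechLattice)
    [DecidablePred (mclRelP x y)] (hF : ∀ z ∈ F, ∀ z' ∈ F, mclRelP x z z') :
    (F.filter (mclRelP x y)).card = 0 ∨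
      ((F.filter (mclRelP x y)).card = F.card ∧ ∀ z ∈ F, mclRelP x y z) := by
  by_cases h : ∃ z ∈ F, mclRelP x y z
  · obtain ⟨z, hz, hyz⟩ := h
    have hall : ∀ z' ∈ F, mclRelP x y z' := fun z' hz' => hyz.trans (hF z hz z' hz')
    right
    exact ⟨by rw [Finset.filter_true_of_mem hall], hall⟩
  · left
    rw [Finset.card_eq_zero, Finset.filter_eq_empty_iff]
    intro z hz hyz
    exact h ⟨z, hz, hyz⟩

/-! ### divisibility by 81 -/

/-- the stabiliser of the standard frame -/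
abbrev mclB : Subgroup ↥mclA := MulAction.stabilizer ↥mclA W1

theorem mcl_orbit_B (x : ↥leechLattice) (hx : x ∈ mclX mclU v32) :
    MulAction.orbit ↥mclB x = mclX mclU v32 := by
  rw [mcl_orbit_eq]
  ext y
  constructor
  · intro h
    exact mcl_rel_mem x y hx h
  · intro h
    exact mcl_frame_trans x y hx h

theorem mcl_orbit_U (x y : ↥leechLattice) :
    MulAction.orbit ↥(MulAction.stabilizer ↥mclB x) y = {z | mclRelP x y z} := by
  ext z
  constructor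
  · rintro ⟨g, rfl⟩
    exact ⟨g.1.1.1, (mem_mclA _).1 g.1.1.2, g.1.2, g.2, rfl⟩
  · rintro ⟨g, h1, h2, h3, h4⟩
    exact ⟨⟨⟨⟨g, (mem_mclA _).2 h1⟩, h2⟩, h3⟩, h4⟩

theorem mcl_orbit_orth (d : ↥leechLattice) (hN : sqNorm d.1 = 32)
    (hs : d.1 none + d.1 (some 0) = 0) : MulAction.orbit ↥mclA d
    = {z : ↥leechLattice | sqNorm z.1 = 32 ∧ z.1 none + z.1 (some 0) = 0} := by
  ext y
  constructor
  · rintro ⟨g, rfl⟩
    have hg : g.1.1 v32 = v32 := (mem_mclA _).1 g.2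
    refine ⟨?_, ?_⟩
    · show sqNorm (g.1.1 d).1 = 32
      rw [g.1.2.2]
      exact hN
    · show (g.1.1 d).1 none + (g.1.1 d).1 (some 0) = 0
      rw [Cfsg.Agent.S1583.stab_sum g.1 hg]
      exact hs
  · rintro ⟨h1, h2⟩
    have key : ∀ z : ↥leechLattice, sqNorm z.1 = 32 → z.1 none + z.1 (some 0) = 0 →
        ∃ g : ↥Co0, g.1 v32 = v32 ∧ g.1 z = B0 := by
      intro z hz1 hz2
      have hd : dotInt v32.1 z.1 = 0 := by
        rw [dot_v32]
        omega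
      exact orth_std v32 z norm_v32 hz1 hd
    obtain ⟨g1, a1, b1⟩ := key y h1 h2
    obtain ⟨g2, a2, b2⟩ := key d hN hs
    refine ⟨⟨g1⁻¹ * g2, (mem_mclA _).2 ?_⟩, ?_⟩
    · show g1⁻¹.1 (g2.1 v32) = v32
      rw [a2]
      exact mcl_inv_fix g1 v32 a1
    · show g1⁻¹.1 (g2.1 d) = y
      rw [b2, ← b1, inv_apply_apply]

theorem mcl_ncard_orth :
    {z : ↥leechLattice | sqNorm z.1 = 32 ∧ z.1 none + z.1 (some 0) = 0}.ncard = 93150 := by
  rw [← count32.2.2]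
  apply Set.ncard_congr (fun w _ => w.1)
  · rintro w ⟨h1, h2⟩
    exact ⟨w.2, h1, h2⟩
  · intro a b _ _ h
    exact Subtype.ext h
  · rintro b ⟨hb, h1, h2⟩
    exact ⟨⟨b, hb⟩, ⟨h1, h2⟩, rfl⟩

/-- the orbit of `x - y` under the stabiliser of `x` has the length of the orbit of `y` -/
theorem mcl_orbit_sub (x y : ↥leechLattice) :
    (MulAction.orbit ↥(MulAction.stabilizer ↥mclB x) (x - y)).ncard
      = (MulAction.orbit ↥(MulAction.stabilizer ↥mclB x) y).ncard := by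
  rw [mcl_orbit_U, mcl_orbit_U]
  apply Set.ncard_congr (fun z _ => x - z)
  · rintro z ⟨g, a, b, c, d⟩
    refine ⟨g, a, b, c, ?_⟩
    have e : g.1 (x - y) = g.1 x - g.1 y := Cfsg.Agent.Lib.Lead.CP.map_sub' g x y
    rw [e, c] at d
    rw [← d]
    abel
  · intro a b _ _ h
    have := sub_right_injective h
    exact this
  · rintro z ⟨g, a, b, c, d⟩
    refine ⟨x - z, ⟨g, a, b, c, ?_⟩, by abel⟩
    have e : g.1 (x - y) = g.1 x - g.1 y := Cfsg.Agent.Lib.Lead.CP.map_sub' g x y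
    rw [e, c, d]

/-- the orbit lengths of the point stabiliser on the vectors with dot product `16` are divisible
by 81 -/
theorem mcl_U_dvd (x y : ↥leechLattice) (hx : x ∈ mclX mclU v32) (hy : y ∈ mclX mclU v32)
    (hd : dotInt x.1 y.1 = 16) : 81 ∣ {z | mclRelP x y z}.ncard := by
  have hx0 := (mcl_mem_X0 x).1 hx
  have hy0 := (mcl_mem_X0 y).1 hy
  have hN : sqNorm (x - y).1 = 32 := by
    show sqNorm (x.1 - y.1) = 32
    rw [sqNorm_sub, hx0.1, hy0.1, hd]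
    norm_num
  have hs : (x - y).1 none + (x - y).1 (some 0) = 0 := by
    show (x.1 none - y.1 none) + (x.1 (some 0) - y.1 (some 0)) = 0
    have := hx0.2.2
    have := hy0.2.2
    omega
  have h1 := mcl_orbit_double (G := ↥mclB) x (x - y)
  have h2 := mcl_orbit_double (G := ↥mclA) W1 (x - y)
  rw [mcl_orbit_B x hx, mcl_card_X0, mcl_orbit_sub, mcl_orbit_U] at h1
  rw [mcl_orbit_W1, mcl_ncard_O, mcl_orbit_orth (x - y) hN hs, mcl_ncard_orth] at h2
  set s := {z | mclRelP x y z}.ncard with hs'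
  set m := (MulAction.orbit ↥mclB (x - y)).ncard with hm
  set t1 := (MulAction.orbit ↥(MulAction.stabilizer ↥mclB (x - y)) x).ncard with ht1
  set t2 := (MulAction.orbit ↥(MulAction.stabilizer ↥mclA (x - y)) W1).ncard with ht2
  have e : s * (47104 * 275) = 81 * (1150 * t2 * t1) := by
    calc s * (47104 * 275) = 47104 * (275 * s) := by ring
      _ = 47104 * (m * t1) := by rw [h1]
      _ = (47104 * m) * t1 := by ring
      _ = (93150 * t2) * t1 := by rw [h2]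
      _ = 81 * (1150 * t2 * t1) := by ring
  have hco : Nat.Coprime 81 (47104 * 275) := by norm_num
  exact hco.dvd_of_dvd_mul_right ⟨_, e⟩

end Cfsg.Agent.Lib.helper23
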