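import Cfsg.Agent.Lib.helper23.McLJ

set_option autoImplicit false

/-!
# The McLaughlin group has rank 3 on the 275 vectors
-/

namespace Cfsg.Agent.Lib.helper23

open Cfsg
open Cfsg.Agent.Lib.Lead.LX Cfsg.Agent.Lib.Lead.CW Cfsg.Agent.Lib.Lead.CO Cfsg.Agent.Lib.Lead.CP
open Cfsg.Agent.Lib.helper3 Cfsg.Agent.Lib.helper4 Cfsg.Agent.S0398 Cfsg.Agent.S1571
open Cfsg.Agent.Lib.Lead.LC Cfsg.Agent.Lib.Lead.LC3 Cfsg.Agent.Lib.Lead.HS

theorem mcl_dot_X1_self : dotInt mclX1.1 mclX1.1 = 32 := by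
  have := dot_X1_L1 1 mcl_one_ne
  rw [if_pos rfl] at this
  exact this

/-- the point stabiliser is transitive on the vectors with dot product `16` -/
theorem mcl_Y16_trans (y y' : ↥leechLattice) (hy : y ∈ (mclA21 ∪ mclB21) ∪ mclC120)
    (hy' : y' ∈ (mclA21 ∪ mclB21) ∪ mclC120) : mclRelP mclX1 y y' := by
  classical
  have hyY := (mcl_mem_Y16 y).2 hy
  have hdvd := mcl_U_dvd mclX1 y mclX1_mem hyY.1 hyY.2.2
  have hset : {z | mclRelP mclX1 y z}
      = ↑(((mclA21 ∪ mclB21) ∪ mclC120).filter (mclRelP mclX1 y)) := by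
    ext z
    rw [Finset.mem_coe, Finset.mem_filter, ← mcl_mem_Y16]
    constructor
    · intro h
      obtain ⟨h1, h2⟩ := mclRelP.mem h hyY.1
      refine ⟨⟨h1, ?_, by rw [h2]; exact hyY.2.2⟩, h⟩
      intro hz
      rw [hz, mcl_dot_X1_self, hyY.2.2] at h2
      omega
    · intro h
      exact h.2
  rw [hset, Set.ncard_coe_finset, Finset.filter_union,
    Finset.card_union_of_disjoint (Finset.disjoint_filter_filter mcl_disj_ABC21),
    Finset.filter_union,
    Finset.card_union_of_disjoint (Finset.disjoint_filter_filter mcl_disj_AB21)] at hdvd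
  have hpos : 0 < (mclA21.filter (mclRelP mclX1 y)).card + (mclB21.filter (mclRelP mclX1 y)).card
      + (mclC120.filter (mclRelP mclX1 y)).card := by
    have hxm : y ∈ ((mclA21 ∪ mclB21) ∪ mclC120).filter (mclRelP mclX1 y) := by
      rw [Finset.mem_filter]
      exact ⟨hy, mclRelP.refl _ y⟩
    have := Finset.card_pos.2 ⟨y, hxm⟩
    rw [Finset.filter_union,
      Finset.card_union_of_disjoint (Finset.disjoint_filter_filter mcl_disj_ABC21),
      Finset.filter_union,
      Finset.card_union_of_disjoint (Finset.disjoint_filter_filter mcl_disj_AB21)] at this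
    exact this
  have hA := mcl_filterP_all_or_none mclA21 mclX1 y (fun z hz z' hz' => mcl_relU_A21 z z' hz hz')
  have hB := mcl_filterP_all_or_none mclB21 mclX1 y (fun z hz z' hz' => mcl_relU_B21 z z' hz hz')
  have hC := mcl_filterP_all_or_none mclC120 mclX1 y
    (fun z hz z' hz' => mcl_relU_C120 z z' hz hz')
  rw [card_mclA21] at hA
  rw [card_mclB21] at hB
  rw [card_mclC120] at hC
  rcases hA with a0 | ⟨a1, fa⟩ <;> rcases hB with b0 | ⟨b1, fb⟩ <;>
    rcases hC with c0 | ⟨c1, fc⟩ <;> first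
    | (exfalso; omega)
    | (rcases Finset.mem_union.1 hy' with h | h
       · rcases Finset.mem_union.1 h with h | h
         · exact fa y' h
         · exact fb y' h
       · exact fc y' h)

/-- conjugating the orbits of point stabilisers -/
theorem mcl_relP_conj (h : ↥Co0) (a : h.1 v32 = v32) (b : h.1 W1 = W1) (x y : ↥leechLattice) :
    {z | mclRelP (h.1 x) (h.1 y) z} = (fun z => h.1 z) '' {z | mclRelP x y z} := by
  ext z
  constructor
  · rintro ⟨g, g1, g2, g3, g4⟩
    refine ⟨h⁻¹.1 z, ⟨h⁻¹ * g * h, ?_, ?_, ?_, ?_⟩, apply_inv_apply h z⟩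
    · show h⁻¹.1 (g.1 (h.1 v32)) = v32
      rw [a, g1]
      exact mcl_inv_fix h _ a
    · show h⁻¹.1 (g.1 (h.1 W1)) = W1
      rw [b, g2]
      exact mcl_inv_fix h _ b
    · show h⁻¹.1 (g.1 (h.1 x)) = x
      rw [g3, inv_apply_apply]
    · show h⁻¹.1 (g.1 (h.1 y)) = h⁻¹.1 z
      rw [g4]
  · rintro ⟨z', ⟨g, g1, g2, g3, g4⟩, rfl⟩
    refine ⟨h * g * h⁻¹, ?_, ?_, ?_, ?_⟩
    · show h.1 (g.1 (h⁻¹.1 v32)) = v32
      rw [mcl_inv_fix h _ a, g1, a]
    · show h.1 (g.1 (h⁻¹.1 W1)) = W1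
      rw [mcl_inv_fix h _ b, g2, b]
    · show h.1 (g.1 (h⁻¹.1 (h.1 x))) = h.1 x
      rw [inv_apply_apply, g3]
    · show h.1 (g.1 (h⁻¹.1 (h.1 y))) = h.1 z'
      rw [inv_apply_apply, g4]

/-! ### a large block at another point -/

set_option maxRecDepth 100000 in
theorem mcl_one_mem_K77 : 1 ∈ K77 := by
  rw [mem_K77]
  decide +kernel

/-- the octads through `0` avoiding `∞` meeting the base octad in four points -/
def mclK80 : Finset ℕ :=
  K176.filter (fun k => (support₂ (Cw 1) ∩ support₂ (Cw k)).card = 4)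

set_option maxRecDepth 1000000 in
theorem mcl_card_K80_aux : ((Finset.range 4096).filter (fun k => keyM k = (7, false, true) ∧
    (support₂ (Cw 1) ∩ support₂ (Cw k)).card = 4)).card = 80 := by decide +kernel

theorem mcl_card_K80 : mclK80.card = 80 := by
  rw [← mcl_card_K80_aux]
  unfold mclK80 K176
  rw [Finset.filter_filter]

set_option maxRecDepth 100000 in
theorem mcl_five_mem_K80 : 5 ∈ mclK80 := by
  unfold mclK80
  rw [Finset.mem_filter]
  refine ⟨mcl_five_mem, ?_⟩
  decide +kernel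

set_option maxRecDepth 100000 in
theorem mcl_dot_oK_Z : dotInt (oK 1) (mclZ 5) = 8 := by decide +kernel

theorem mcl_rel_D80 (k k' : ℕ) (hk : k ∈ mclK80) (hk' : k' ∈ mclK80) :
    mclRelP (oL 1) (mclL3 k) (mclL3 k') := by
  unfold mclK80 at hk hk'
  rw [Finset.mem_filter] at hk hk'
  obtain ⟨π, hπ, a, b, c, d⟩ := mcl_perm_D80 1 k k' mcl_one_mem_K77 hk.1 hk'.1 hk.2 hk'.2
  exact mcl_relP_perm π hπ a b _ _ _ (perm_oL π hπ 1 1 mcl_one_mem_K77 mcl_one_mem_K77 c)
    (mcl_perm_L3 π hπ k k' hk.1 hk'.1 b d)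

/-- the point stabiliser is transitive on the vectors with dot product `8` -/
theorem mcl_Y8_trans (y y' : ↥leechLattice) (hy : y ∈ mclB56 ∪ mclC56)
    (hy' : y' ∈ mclB56 ∪ mclC56) : mclRelP mclX1 y y' := by
  classical
  have hfin : (mclX mclU v32).Finite :=
    Set.finite_of_ncard_ne_zero (by rw [mcl_card_X0]; norm_num)
  have hB := mclL2_mem 1 mcl_one_mem_K77
  have hZ := mclL3_mem 5 mcl_five_mem
  -- the orbit at the other point is large
  have hbig : 80 ≤ {z | mclRelP (oL 1) (mclL3 5) z}.ncard := by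
    have hsub : ↑(mclK80.image mclL3) ⊆ {z | mclRelP (oL 1) (mclL3 5) z} := by
      intro z hz
      rw [Finset.mem_coe, Finset.mem_image] at hz
      obtain ⟨k, hk, rfl⟩ := hz
      exact mcl_rel_D80 5 k mcl_five_mem_K80 hk
    have hfin2 : {z | mclRelP (oL 1) (mclL3 5) z}.Finite :=
      hfin.subset (fun z hz => (mclRelP.mem hz hZ).1)
    have := Set.ncard_le_ncard hsub hfin2
    rw [Set.ncard_coe_finset, Finset.card_image_of_injOn, mcl_card_K80] at this
    · exact this
    · intro k hk k' hk' h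
      unfold mclK80 at hk hk'
      exact mclL3_inj k k' (Finset.mem_filter.1 hk).1 (Finset.mem_filter.1 hk').1 h
  -- move the other point to the base point
  obtain ⟨h, a, b, c⟩ := mcl_frame_trans (oL 1) mclX1 hB mclX1_mem
  have hconj := mcl_relP_conj h a b (oL 1) (mclL3 5)
  rw [c] at hconj
  have hbig' : 80 ≤ {z | mclRelP mclX1 (h.1 (mclL3 5)) z}.ncard := by
    rw [hconj, Set.ncard_image_of_injective _ h.1.injective]
    exact hbig
  have hw : h.1 (mclL3 5) ∈ mclB56 ∪ mclC56 := by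
    rw [← mcl_mem_Y8]
    refine ⟨mcl_rel_mem _ _ hZ ⟨h, a, b, rfl⟩, ?_⟩
    have := dot_map h (oL 1) (mclL3 5)
    rw [c] at this
    rw [this, oL_val 1 mcl_one_mem_K77, mclL3_val 5 mcl_five_mem]
    exact mcl_dot_oK_Z
  set w := h.1 (mclL3 5) with hwdef
  have hwY := (mcl_mem_Y8 w).2 hw
  have hset : {z | mclRelP mclX1 w z} = ↑((mclB56 ∪ mclC56).filter (mclRelP mclX1 w)) := by
    ext z
    rw [Finset.mem_coe, Finset.mem_filter, ← mcl_mem_Y8]
    constructor
    · intro hz
      obtain ⟨h1, h2⟩ := mclRelP.mem hz hwY.1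
      exact ⟨⟨h1, by rw [h2]; exact hwY.2⟩, hz⟩
    · intro hz
      exact hz.2
  rw [hset, Set.ncard_coe_finset, Finset.filter_union,
    Finset.card_union_of_disjoint (Finset.disjoint_filter_filter mcl_disj_BC56)] at hbig'
  have hB' := mcl_filterP_all_or_none mclB56 mclX1 w (fun z hz z' hz' => mcl_relU_B56 z z' hz hz')
  have hC' := mcl_filterP_all_or_none mclC56 mclX1 w (fun z hz z' hz' => mcl_relU_C56 z z' hz hz')
  rw [card_mclB56] at hB'
  rw [card_mclC56] at hC'
  have hall : ∀ z ∈ mclB56 ∪ mclC56, mclRelP mclX1 w z := by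
    rcases hB' with b0 | ⟨b1, fb⟩ <;> rcases hC' with c0 | ⟨c1, fc⟩ <;> first
      | (exfalso; omega)
      | (intro z hz
         rcases Finset.mem_union.1 hz with h | h
         · exact fb z h
         · exact fc z h)
  exact (hall y hy).symm.trans (hall y' hy')

/-- the values of the dot product with the base point -/
theorem mcl_dot_cases (y : ↥leechLattice) (hy : y ∈ mclX mclU v32) :
    y = mclX1 ∨ dotInt mclX1.1 y.1 = 8 ∨ dotInt mclX1.1 y.1 = 16 := by
  rw [mcl_X0_eq, Finset.mem_union, Finset.mem_union] at hy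
  rcases hy with (h | h) | h
  · rw [mem_mclFA] at h
    obtain ⟨j, hj, rfl⟩ := h
    by_cases h1 : j = 1
    · left
      rw [h1]
      rfl
    · right; right
      rw [dot_X1_L1 j hj, if_neg h1]
  · rw [mem_mclFB] at h
    obtain ⟨k, hk, rfl⟩ := h
    rw [dot_X1_L2 k hk]
    right
    split_ifs
    · right; rfl
    · left; rfl
  · rw [mem_mclFC] at h
    obtain ⟨k, hk, rfl⟩ := h
    rw [dot_X1_L3 k hk]
    right
    split_ifs
    · left; rfl
    · right; rfl

/-- rank 3 in the standard frame -/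
theorem mcl_rank3_frame (y y' : ↥leechLattice) (hy : y ∈ mclX mclU v32)
    (hy' : y' ∈ mclX mclU v32) (hne : y ≠ mclX1) (hne' : y' ≠ mclX1)
    (hd : dotInt mclX1.1 y.1 = dotInt mclX1.1 y'.1) : mclRelP mclX1 y y' := by
  rcases mcl_dot_cases y hy with h | h | h
  · exact absurd h hne
  · apply mcl_Y8_trans
    · rw [← mcl_mem_Y8]
      exact ⟨hy, h⟩
    · rw [← mcl_mem_Y8]
      exact ⟨hy', by rw [← hd]; exact h⟩
  · apply mcl_Y16_trans
    · rw [← mcl_mem_Y16]
      exact ⟨hy, hne, h⟩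
    · rw [← mcl_mem_Y16]
      exact ⟨hy', hne', by rw [← hd]; exact h⟩

end Cfsg.Agent.Lib.helper23
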