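import Cfsg.Agent.Lib.helper23.McLK

set_option autoImplicit false

/-!
# The McLaughlin group has rank 3 on the 275 vectors: general frames
-/

namespace Cfsg.Agent.Lib.helper23

open Cfsg
open Cfsg.Agent.Lib.Lead.LX Cfsg.Agent.Lib.Lead.CW Cfsg.Agent.Lib.Lead.CO Cfsg.Agent.Lib.Lead.CP
open Cfsg.Agent.Lib.helper3 Cfsg.Agent.Lib.helper4 Cfsg.Agent.S0398 Cfsg.Agent.S1571
open Cfsg.Agent.Lib.Lead.LC Cfsg.Agent.Lib.Lead.LC3 Cfsg.Agent.Lib.Lead.HS

/-- moving a general frame to the standard one -/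
theorem mcl_to_frame (u v : ↥leechLattice) (hu : sqNorm u.1 = 48) (hv : sqNorm v.1 = 32)
    (huv : sqNorm (u - v).1 = 32) :
    ∃ g0 : ↥Co0, g0.1 u = mclU ∧ g0.1 v = v32 ∧
      ∀ x : ↥leechLattice, x ∈ mclX u v ↔ g0.1 x ∈ mclX mclU v32 := by
  have hd : dotInt v.1 (u - v).1 = -8 := by
    have e : u.1 = v.1 + (u - v).1 := by
      show u.1 = v.1 + (u.1 - v.1)
      abel
    have := sqNorm_add v.1 (u - v).1
    rw [← e, hu, hv, huv] at this
    omega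
  obtain ⟨g0, hg1, hg2⟩ := oct_trans v (u - v) hv huv hd
  have hgu : g0.1 u = mclU := by
    have e : u = v + (u - v) := by abel
    rw [e, map_add', hg1, hg2]
    rfl
  refine ⟨g0, hgu, hg1, fun x => ?_⟩
  unfold mclX
  rw [Set.mem_ofPred_eq, Set.mem_ofPred_eq, g0.2.2 x, ← hgu, ← Cfsg.Agent.Lib.Lead.CP.map_sub',
    g0.2.2 (u - x), ← hg1, dot_map]

/-- the McLaughlin group has rank 3 with subdegrees 1, 112, 162 -/
theorem mcl_rank3 (u v x : ↥leechLattice) (hu : sqNorm u.1 = 48) (hv : sqNorm v.1 = 32)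
    (huv : sqNorm (u - v).1 = 32) (hx : x ∈ mclX u v) :
    {y : ↥leechLattice | y ∈ mclX u v ∧ dotInt x.1 y.1 = 8}.ncard = 112 ∧
    {y : ↥leechLattice | y ∈ mclX u v ∧ y ≠ x ∧ dotInt x.1 y.1 = 16}.ncard = 162 ∧
    ∀ y ∈ mclX u v, ∀ y' ∈ mclX u v, y ≠ x → y' ≠ x → dotInt x.1 y.1 = dotInt x.1 y'.1 →
      ∃ g : ↥Co0, g.1 u = u ∧ g.1 v = v ∧ g.1 x = x ∧ g.1 y = y' := by
  obtain ⟨g0, hgu, hgv, tr0⟩ := mcl_to_frame u v hu hv huv
  have hx0 := (tr0 x).1 hx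
  obtain ⟨k, k1, k2, k3⟩ := mcl_frame_trans (g0.1 x) mclX1 hx0 mclX1_mem
  have kU := mcl_rel_fix_U k k1 k2
  -- the combined map
  have GU : (k * g0).1 u = mclU := by
    show k.1 (g0.1 u) = mclU
    rw [hgu, kU]
  have GV : (k * g0).1 v = v32 := by
    show k.1 (g0.1 v) = v32
    rw [hgv, k1]
  have GX : (k * g0).1 x = mclX1 := k3
  have tr : ∀ y : ↥leechLattice, y ∈ mclX u v ↔ (k * g0).1 y ∈ mclX mclU v32 := by
    intro y
    rw [tr0]
    constructor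
    · intro h
      exact mcl_rel_mem _ _ h ⟨k, k1, k2, rfl⟩
    · intro h
      have : mclRel ((k * g0).1 y) (g0.1 y) :=
        ⟨k⁻¹, mcl_inv_fix k _ k1, mcl_inv_fix k _ k2, inv_apply_apply k _⟩
      exact mcl_rel_mem _ _ h this
  have dotG : ∀ y : ↥leechLattice, dotInt mclX1.1 ((k * g0).1 y).1 = dotInt x.1 y.1 := by
    intro y
    have := dot_map (k * g0) x y
    rw [GX] at this
    exact this
  have neG : ∀ y : ↥leechLattice, (k * g0).1 y ≠ mclX1 ↔ y ≠ x := by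
    intro y
    rw [← GX]
    exact (k * g0).1.injective.ne_iff
  generalize k * g0 = G at GU GV GX tr dotG neG
  refine ⟨?_, ?_, ?_⟩
  · rw [← mcl_card_Y8]
    apply Set.ncard_congr (fun y _ => G.1 y)
    · rintro y ⟨h1, h2⟩
      exact ⟨(tr y).1 h1, by rw [dotG]; exact h2⟩
    · intro a b _ _ h
      exact G.1.injective h
    · rintro z ⟨h1, h2⟩
      refine ⟨G⁻¹.1 z, ⟨?_, ?_⟩, apply_inv_apply G z⟩
      · rw [tr, apply_inv_apply]
        exact h1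
      · rw [← dotG, apply_inv_apply]
        exact h2
  · rw [← mcl_card_Y16]
    apply Set.ncard_congr (fun y _ => G.1 y)
    · rintro y ⟨h1, h2, h3⟩
      exact ⟨(tr y).1 h1, (neG y).2 h2, by rw [dotG]; exact h3⟩
    · intro a b _ _ h
      exact G.1.injective h
    · rintro z ⟨h1, h2, h3⟩
      refine ⟨G⁻¹.1 z, ⟨?_, ?_, ?_⟩, apply_inv_apply G z⟩
      · rw [tr, apply_inv_apply]
        exact h1
      · rw [← neG, apply_inv_apply]
        exact h2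
      · rw [← dotG, apply_inv_apply]
        exact h3
  · intro y hy y' hy' hne hne' hd
    obtain ⟨m, m1, m2, m3, m4⟩ := mcl_rank3_frame (G.1 y) (G.1 y') ((tr y).1 hy) ((tr y').1 hy')
      ((neG y).2 hne) ((neG y').2 hne') (by rw [dotG, dotG]; exact hd)
    have mU := mcl_rel_fix_U m m1 m2
    refine ⟨G⁻¹ * m * G, ?_, ?_, ?_, ?_⟩
    · show G⁻¹.1 (m.1 (G.1 u)) = u
      rw [GU, mU, ← GU, inv_apply_apply]
    · show G⁻¹.1 (m.1 (G.1 v)) = v
      rw [GV, m1, ← GV, inv_apply_apply]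
    · show G⁻¹.1 (m.1 (G.1 x)) = x
      rw [GX, m3, ← GX, inv_apply_apply]
    · show G⁻¹.1 (m.1 (G.1 y)) = y'
      rw [m4, inv_apply_apply]

end Cfsg.Agent.Lib.helper23
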