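import Mathlib
import Cfsg.Prelude.Def_KGroupFacts
import Cfsg.Prelude.Def_Characters
import Cfsg.Agent.Lib.Helper25.CharOrth
import Cfsg.Agent.Lib.Helper25.CharAbelian

set_option autoImplicit false
set_option linter.style.haveILetI false

namespace Cfsg.Agent.Lib.helper23

open scoped commutatorElement
open scoped ComplexConjugate

/-- a central commutator element acts in an irreducible representation of degree `n` as a scalar
which is an `n`-th root of unity -/
theorem mxe_scalar {Γ : Type*} [Group Γ] {n : ℕ} (ρ : Representation ℂ Γ (Fin n → ℂ))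
    [ρ.IsIrreducible] (z : Γ) (hz : z ∈ Subgroup.center Γ) (hz' : z ∈ commutator Γ) :
    ∃ c : ℂ, ρ z = c • LinearMap.id ∧ c ^ n = 1 := by
  have hcomm : ∀ g : Γ, ρ z ∘ₗ ρ g = ρ g ∘ₗ ρ z := by
    intro g
    rw [← Module.End.mul_eq_comp, ← Module.End.mul_eq_comp, ← map_mul, ← map_mul,
      (Subgroup.mem_center_iff.mp hz g)]
  obtain ⟨c, hc⟩ := Cfsg.Agent.Lib.Helper25.commuting_end_scalar ρ (ρ z) hcomm
  refine ⟨c, hc, ?_⟩
  let D : Γ →* ℂ := (LinearMap.det : ((Fin n → ℂ) →ₗ[ℂ] (Fin n → ℂ)) →* ℂ).comp ρ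
  have h1 : D.toHomUnits z = 1 := Abelianization.commutator_subset_ker D.toHomUnits hz'
  have h2 : D z = 1 := by
    have := congrArg Units.val h1
    rwa [MonoidHom.coe_toHomUnits, Units.val_one] at this
  have h3 : D z = c ^ n := by
    show LinearMap.det (ρ z) = c ^ n
    rw [hc, LinearMap.det_smul, LinearMap.det_id, mul_one, Module.finrank_fin_fun]
  rw [← h3, h2]

/-- the central character on a central subgroup inside the commutator subgroup -/
theorem mxe_central {Γ : Type*} [Group Γ] (χ : Cfsg.IrrCharacter Γ) (K : Subgroup Γ)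
    (hK : K ≤ Subgroup.center Γ) (hK' : K ≤ commutator Γ) :
    ∃ ω : K →* ℂˣ, (∀ a : K, (χ : Γ → ℂ) (a : Γ) = (ω a : ℂ) * (χ : Γ → ℂ) 1) ∧
      ω ^ Cfsg.charDegree (χ : Γ → ℂ) = 1 := by
  obtain ⟨n, ρ, hρ, hχ⟩ := χ.2
  haveI := hρ
  have hn0 : n ≠ 0 := by
    have := Cfsg.Agent.Lib.Helper25.finrank_ne_zero_of_irr ρ
    rwa [Module.finrank_fin_fun] at this
  have hχ1 : (χ : Γ → ℂ) 1 = (n : ℂ) := by
    rw [← hχ, Representation.char_one, Module.finrank_fin_fun]
  have hdeg : Cfsg.charDegree (χ : Γ → ℂ) = n := by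
    have := (Cfsg.Agent.Lib.Helper25.charDegree_irr χ).1
    rw [hχ1] at this
    exact_mod_cast this
  have hχ1ne : (χ : Γ → ℂ) 1 ≠ 0 := by
    rw [hχ1]; exact_mod_cast hn0
  have key : ∀ a : K, ∃ c : ℂ, (∀ x : Γ, (χ : Γ → ℂ) ((a : Γ) * x) = c * (χ : Γ → ℂ) x) ∧
      c ^ n = 1 := by
    intro a
    obtain ⟨c, hc, hcn⟩ := mxe_scalar ρ (a : Γ) (hK a.2) (hK' a.2)
    refine ⟨c, fun x => ?_, hcn⟩
    rw [← hχ]
    simp only [Representation.character]
    rw [map_mul, hc, smul_mul_assoc, map_smul, smul_eq_mul]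
    congr 1
  let f : K →* ℂ :=
    { toFun := fun a => (χ : Γ → ℂ) (a : Γ) / (χ : Γ → ℂ) 1
      map_one' := by
        show (χ : Γ → ℂ) ((1 : K) : Γ) / (χ : Γ → ℂ) 1 = 1
        rw [Subgroup.coe_one, div_self hχ1ne]
      map_mul' := by
        intro a b
        obtain ⟨c, hc, _⟩ := key a
        show (χ : Γ → ℂ) ((a * b : K) : Γ) / (χ : Γ → ℂ) 1 =
          (χ : Γ → ℂ) (a : Γ) / (χ : Γ → ℂ) 1 * ((χ : Γ → ℂ) (b : Γ) / (χ : Γ → ℂ) 1)
        have h1 := hc (b : Γ)
        have h2 := hc 1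
        rw [mul_one] at h2
        rw [Subgroup.coe_mul, h1, h2]
        field_simp }
  have hf : ∀ a : K, f a = (χ : Γ → ℂ) (a : Γ) / (χ : Γ → ℂ) 1 := fun a => rfl
  refine ⟨f.toHomUnits, ?_, ?_⟩
  · intro a
    rw [MonoidHom.coe_toHomUnits, hf, div_mul_cancel₀ _ hχ1ne]
  · apply MonoidHom.ext
    intro a
    apply Units.ext
    rw [MonoidHom.pow_apply, Units.val_pow_eq_pow_val, MonoidHom.coe_toHomUnits, hf,
      MonoidHom.one_apply, Units.val_one, hdeg]
    obtain ⟨c, hc, hcn⟩ := key a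
    have h2 := hc 1
    rw [mul_one] at h2
    rw [h2, mul_div_assoc, div_self hχ1ne, mul_one, hcn]

/-- the squared order of a linear character of a central subgroup of the commutator subgroup divides
the index of that subgroup -/
theorem mxe_sum {Γ : Type*} [Group Γ] [Finite Γ] (K : Subgroup Γ)
    (hK : K ≤ Subgroup.center Γ) (hK' : K ≤ commutator Γ) (lam : K →* ℂˣ) :
    orderOf lam ^ 2 ∣ K.index := by
  classical
  haveI : Fintype Γ := Fintype.ofFinite Γ
  haveI : Fintype K := Fintype.ofFinite K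
  haveI : Fintype (Cfsg.IrrCharacter Γ) := Fintype.ofFinite _
  choose ω hω1 hω2 using fun χ : Cfsg.IrrCharacter Γ => mxe_central χ K hK hK'
  set d : Cfsg.IrrCharacter Γ → ℕ := fun χ => Cfsg.charDegree (χ : Γ → ℂ) with hd
  have hdχ : ∀ χ : Cfsg.IrrCharacter Γ, ((d χ : ℕ) : ℂ) = (χ : Γ → ℂ) 1 := fun χ =>
    (Cfsg.Agent.Lib.Helper25.charDegree_irr χ).1
  have hcent1 : Nat.card (Subgroup.centralizer ({(1 : Γ)} : Set Γ)) = Nat.card Γ := by
    have : Subgroup.centralizer ({(1 : Γ)} : Set Γ) = ⊤ := by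
      rw [Subgroup.centralizer_eq_top_iff_subset]
      intro x hx
      rw [Set.mem_singleton_iff] at hx
      rw [hx]
      exact Subgroup.one_mem _
    rw [this, Subgroup.card_top]
  have hcol : ∀ a : K, ∑ χ : Cfsg.IrrCharacter Γ, (χ : Γ → ℂ) (a : Γ) * conj ((χ : Γ → ℂ) 1) =
      if a = 1 then (Nat.card Γ : ℂ) else 0 := by
    intro a
    rw [Cfsg.Agent.Lib.Helper25.irr_column_orthogonality (a : Γ) 1, hcent1]
    by_cases ha : a = 1
    · rw [if_pos ha, if_pos]
      rw [ha]; exact IsConj.refl _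
    · rw [if_neg ha, if_neg]
      intro h
      apply ha
      have := isConj_one_right.mp h
      exact Subtype.ext this
  have hT1 : ∑ a : K, (((lam a)⁻¹ : ℂˣ) : ℂ) *
      ∑ χ : Cfsg.IrrCharacter Γ, (χ : Γ → ℂ) (a : Γ) * conj ((χ : Γ → ℂ) 1) = (Nat.card Γ : ℂ) := by
    rw [Finset.sum_eq_single (1 : K)]
    · rw [hcol, if_pos rfl, map_one, inv_one, Units.val_one, one_mul]
    · intro a _ ha
      rw [hcol, if_neg ha, mul_zero]
    · intro h
      exact absurd (Finset.mem_univ _) h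
  have hinner : ∀ χ : Cfsg.IrrCharacter Γ, ∑ a : K, (((lam a)⁻¹ : ℂˣ) : ℂ) *
      ((χ : Γ → ℂ) (a : Γ) * conj ((χ : Γ → ℂ) 1)) =
        ((d χ : ℕ) : ℂ) ^ 2 * (if ω χ = lam then (Nat.card K : ℂ) else 0) := by
    intro χ
    have hterm : ∀ a : K, (((lam a)⁻¹ : ℂˣ) : ℂ) *
        ((χ : Γ → ℂ) (a : Γ) * conj ((χ : Γ → ℂ) 1)) =
          ((d χ : ℕ) : ℂ) ^ 2 * ((((lam⁻¹ * ω χ) a : ℂˣ)) : ℂ) := by
      intro a
      rw [hω1 χ a, ← hdχ χ, Complex.conj_natCast, MonoidHom.mul_apply, MonoidHom.inv_apply,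
        Units.val_mul]
      ring
    rw [Finset.sum_congr rfl (fun a _ => hterm a), ← Finset.mul_sum]
    congr 1
    by_cases h : ω χ = lam
    · rw [if_pos h, h]
      have h1 : ∀ i : K, (((lam⁻¹ * lam) i : ℂˣ) : ℂ) = 1 := by
        intro i
        rw [MonoidHom.mul_apply, MonoidHom.inv_apply, inv_mul_cancel, Units.val_one]
      rw [Finset.sum_congr rfl (fun i _ => h1 i)]
      simp [Nat.card_eq_fintype_card]
    · rw [if_neg h]
      have hne : (Units.coeHom ℂ).comp (lam⁻¹ * ω χ) ≠ 1 := by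
        intro h1
        apply h
        have h2 : lam⁻¹ * ω χ = 1 := by
          apply MonoidHom.ext
          intro a
          apply Units.ext
          have := DFunLike.congr_fun h1 a
          simpa using this
        apply MonoidHom.ext
        intro a
        have h3 := DFunLike.congr_fun h2 a
        rw [MonoidHom.mul_apply, MonoidHom.inv_apply, MonoidHom.one_apply] at h3
        exact (inv_mul_eq_one.mp h3).symm
      have := sum_hom_units_eq_zero ((Units.coeHom ℂ).comp (lam⁻¹ * ω χ)) hne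
      simpa using this
  have hT2 : ∑ a : K, (((lam a)⁻¹ : ℂˣ) : ℂ) *
      ∑ χ : Cfsg.IrrCharacter Γ, (χ : Γ → ℂ) (a : Γ) * conj ((χ : Γ → ℂ) 1) =
      ∑ χ : Cfsg.IrrCharacter Γ,
        ((d χ : ℕ) : ℂ) ^ 2 * (if ω χ = lam then (Nat.card K : ℂ) else 0) := by
    simp_rw [Finset.mul_sum]
    rw [Finset.sum_comm]
    apply Finset.sum_congr rfl
    intro χ _
    exact hinner χ
  have hnat : Nat.card Γ = Nat.card K *
      ∑ χ ∈ Finset.univ.filter (fun χ : Cfsg.IrrCharacter Γ => ω χ = lam), d χ ^ 2 := by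
    have h1 : (Nat.card Γ : ℂ) = ∑ χ : Cfsg.IrrCharacter Γ,
        ((d χ : ℕ) : ℂ) ^ 2 * (if ω χ = lam then (Nat.card K : ℂ) else 0) := by
      rw [← hT1, hT2]
    have h2 : ((Nat.card Γ : ℕ) : ℂ) = ((Nat.card K *
        ∑ χ ∈ Finset.univ.filter (fun χ : Cfsg.IrrCharacter Γ => ω χ = lam), d χ ^ 2 : ℕ) : ℂ) := by
      rw [h1]
      push_cast
      rw [Finset.mul_sum, Finset.sum_filter]
      apply Finset.sum_congr rfl
      intro χ _
      by_cases h : ω χ = lam
      · rw [if_pos h, if_pos h]; ring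
      · rw [if_neg h, if_neg h, mul_zero]
    exact_mod_cast h2
  have hdvd : orderOf lam ^ 2 ∣
      ∑ χ ∈ Finset.univ.filter (fun χ : Cfsg.IrrCharacter Γ => ω χ = lam), d χ ^ 2 := by
    apply Finset.dvd_sum
    intro χ hχ
    have h := (Finset.mem_filter.mp hχ).2
    apply pow_dvd_pow_of_dvd
    apply orderOf_dvd_of_pow_eq_one
    rw [← h]
    exact hω2 χ
  have hidx : K.index =
      ∑ χ ∈ Finset.univ.filter (fun χ : Cfsg.IrrCharacter Γ => ω χ = lam), d χ ^ 2 := by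
    have h1 := Subgroup.card_mul_index K
    rw [hnat] at h1
    have hpos : 0 < Nat.card K := Nat.card_pos
    exact Nat.eq_of_mul_eq_mul_left hpos h1
  rw [hidx]
  exact hdvd

/-- the square of the exponent of the multiplier divides the group order -/
theorem mxe_main {Q : Type*} [Group Q] [Finite Q] {A : Type*} [CommGroup A]
    (hA : Cfsg.HasSchurMultiplier Q A) : Monoid.exponent A ^ 2 ∣ Nat.card Q := by
  obtain ⟨Γ, instΓ, finΓ, σ, hσ, ⟨e₀⟩⟩ := hA.1
  have hfinA : Finite A := Finite.of_equiv _ e₀.toEquiv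
  have : NeZero (Monoid.exponent A) := ⟨Monoid.exponent_ne_zero_of_finite⟩
  obtain ⟨eD⟩ := CommGroup.monoidHom_mulEquiv_of_hasEnoughRootsOfUnity A ℂ
  have hexp : Monoid.exponent (A →* ℂˣ) = Monoid.exponent A := Monoid.exponent_eq_of_mulEquiv eD
  have hfinD : Finite (A →* ℂˣ) := Finite.of_equiv _ eD.symm.toEquiv
  obtain ⟨lam₀, hlam₀⟩ := Monoid.exists_orderOf_eq_exponent
    (Monoid.ExponentExists.of_finite (G := A →* ℂˣ))
  let lam : σ.ker →* ℂˣ := lam₀.comp e₀.toMonoidHom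
  have hord : orderOf lam = orderOf lam₀ := by
    have hinj : Function.Injective (MonoidHom.compHom' (P := ℂˣ) e₀.toMonoidHom) := by
      intro χ₁ χ₂ h
      have h2 : χ₁.comp e₀.toMonoidHom = χ₂.comp e₀.toMonoidHom := h
      exact (MonoidHom.cancel_right e₀.surjective).mp h2
    exact orderOf_injective (MonoidHom.compHom' (P := ℂˣ) e₀.toMonoidHom) hinj lam₀
  have h1 := mxe_sum σ.ker hσ.2.1 hσ.2.2 lam
  rw [hord, hlam₀, hexp] at h1
  have h2 : σ.ker.index = Nat.card Q := by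
    rw [Subgroup.index_ker, MonoidHom.range_eq_top_of_surjective σ hσ.1, Subgroup.card_top]
  rwa [h2] at h1

end Cfsg.Agent.Lib.helper23
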