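import Cfsg.Agent.Lib.Helper28.O73C.Defs

/-!
Project O73C : small generic facts about the matrices of the elements of `GO` (helper23).
-/

set_option autoImplicit false

namespace Cfsg.Agent.Lib.Helper28.O73C

open Cfsg.Agent.Lib.Helper12.O73 Matrix

theorem h23_mat_mul (g h : GO) : (g * h).mat = g.mat * h.mat := rfl

theorem h23_mat_one : (1 : GO).mat = 1 := rfl

theorem h23_mulVec_mul (g h : GO) (v : I7 → K) : (g * h).mat *ᵥ v = g.mat *ᵥ (h.mat *ᵥ v) := by
  rw [h23_mat_mul, Matrix.mulVec_mulVec]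

theorem h23_one_mulVec (v : I7 → K) : (1 : GO).mat *ᵥ v = v := by
  rw [h23_mat_one, Matrix.one_mulVec]

theorem h23_inv_mulVec (g : GO) (v : I7 → K) : g⁻¹.mat *ᵥ (g.mat *ᵥ v) = v := by
  rw [← h23_mulVec_mul, inv_mul_cancel, h23_one_mulVec]

theorem h23_mulVec_inv (g : GO) (v : I7 → K) : g.mat *ᵥ (g⁻¹.mat *ᵥ v) = v := by
  rw [← h23_mulVec_mul, mul_inv_cancel, h23_one_mulVec]

/-- an isometry preserves the quadratic form -/
theorem h23_quad_mulVec (g : GO) (v : I7 → K) :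
    Cfsg.quadFormOdd 3 K (g.mat *ᵥ v) = Cfsg.quadFormOdd 3 K v :=
  (Cfsg.Agent.Lib.Helper16.mem_iso_iff (Cfsg.quadFormOdd 3 K) (g : Matrix.GeneralLinearGroup I7 K)).mp
    g.2 v

theorem h23_bas_red (j : ℕ) : (bas j).red = true := by
  rcases j with _ | _ | _ | _ | _ | _ | j <;> rfl

end Cfsg.Agent.Lib.Helper28.O73C
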