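import Mathlib
import Cfsg.Agent.Lib.Helper12.OMB.Defs
import Cfsg.Agent.Lib.Lead.STB.Defs2
import Cfsg.Agent.Lib.Helper28.CTDM1f
import Cfsg.Agent.Lib.Helper28.OMMO10
import Cfsg.Agent.Lib.Helper12.OMB.Mat
import Cfsg.Agent.Lib.Helper1.OMBG9
import Cfsg.Agent.Lib.helper23.OMBG10core

/-!
# Project OMB (designer helper12), row G10 `omega_eq_closureB`, VERBATIM (helper23): `ombg10_core` on helper1's G9 `omegaGL_eq_EOB`.
-/

set_option autoImplicit false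

namespace Cfsg.Agent.Lib.Helper12.OMB

open Matrix Cfsg.Agent.Lib.helper15.St2 Cfsg.Agent.Lib.helper3.STC Cfsg.Agent.Lib.Lead.STD Cfsg.Agent.Lib.Lead.STB
  Cfsg.Agent.Lib.Lead.SPN Cfsg.Agent.Lib.Helper28.CTD Cfsg.Agent.Lib.Helper28.OMM

universe u w

section G

variable {l : ℕ} {F : Type u} [Field F]

/-- G10 [S]  **(O-d)** the same inside the isometry group.  Model `Helper28.OMMO10` `omega_eq_closure`. -/
theorem omega_eq_closureB [Fintype F] (hl : 3 ≤ l) (h2 : (2 : F) ≠ 0) :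
    Cfsg.Omega F (Cfsg.quadFormOdd l F) =
      Subgroup.closure {g : ↥(Cfsg.isometryGroup F (Cfsg.quadFormOdd l F)) |
        (∃ (a b : Fin l ⊕ Fin l) (t : F), a ≠ b ∧ a ≠ ng b ∧
          ((g : Matrix.GeneralLinearGroup (Ix (Fin l)) F) : Matrix (Ix (Fin l)) (Ix (Fin l)) F) = TbL a b t) ∨
        ∃ (a : Fin l ⊕ Fin l) (t : F),
          ((g : Matrix.GeneralLinearGroup (Ix (Fin l)) F) : Matrix (Ix (Fin l)) (Ix (Fin l)) F) = TbS a t} :=
  ombg10_core (omegaGL_eq_EOB hl h2)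

end G

end Cfsg.Agent.Lib.Helper12.OMB
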