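import Cfsg.Agent.Lib.helper23.ONECNTP
import Cfsg.Agent.Lib.Helper20.ONECM1
import Cfsg.Agent.Lib.helper8.ONECM2

set_option autoImplicit false

/-!
# Project ONE (designer helper18), row CNTM (helper23): `ndm_count_dvd`, verbatim
(core `onecntm_core` + CM1 `ell_sub_const` (helper20) + CM2 `ap_count` (helper8) + CNTP `ndp_count_dvd`).
-/

namespace Cfsg.Agent.Lib.Helper18.ONE

/-- CNTM [M-L]: double count `{(W', W) : W' ≤ W}`. -/
theorem ndm_count_dvd {F : Type*} [Field F] [Fintype F] {p : ℕ} [Fact p.Prime] [CharP F p]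
    (hodd : Odd (Fintype.card F)) (d m : ℕ) (hm : 2 ≤ m) (hme : Even m) (hmd : m ≤ 2 * d)
    (r : ℕ) [Fact r.Prime] (hrp : r ≠ p) (hr : r ∣ Nat.card (NDm d m F)) :
    ∃ j : ℕ, 2 * j < m ∧ r ∣ Fintype.card F ^ (2 * (d - j)) - 1 := by
  obtain ⟨h, hmh⟩ := hme
  have hm2 : m = 2 * h := by omega
  subst hm2
  have hh1 : 1 ≤ h := by omega
  have hh : h ≤ d := by omega
  exact onecntm_core d h hh1 hh r hrp (ell_sub_const hodd d h hh1)
    (fun W' => ap_count hodd d h hh1 hh W')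
    (fun h2 => ndp_count_dvd hodd d (2 * h - 2) ⟨h - 1, by omega⟩ (by omega) r hrp h2) hr

end Cfsg.Agent.Lib.Helper18.ONE
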