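import Cfsg.Agent.Lib.helper23.ONECNTcore
import Cfsg.Agent.Lib.Helper20.ONECP1
import Cfsg.Agent.Lib.Lead.ONECP2

set_option autoImplicit false

/-!
# Project ONE (designer helper18), row CNTP (helper23): `ndp_count_dvd`, verbatim
(core `onecntp_core` + CP1 `hyp_ts_const` (helper20) + CP2 `ts_ext_count` (lead)).
-/

namespace Cfsg.Agent.Lib.Helper18.ONE

/-- CNTP [M-L]: double count `{(U, W) : U ≤ W, U ∈ TSm d h F, W ∈ NDp d (2h) F}`. -/
theorem ndp_count_dvd {F : Type*} [Field F] [Fintype F] {p : ℕ} [Fact p.Prime] [CharP F p]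
    (hodd : Odd (Fintype.card F)) (d m : ℕ) (hme : Even m) (hmd : m ≤ 2 * d) (r : ℕ)
    [Fact r.Prime] (hrp : r ≠ p) (hr : r ∣ Nat.card (NDp d m F)) :
    ∃ j : ℕ, 2 * j < m ∧ r ∣ Fintype.card F ^ (2 * (d - j)) - 1 := by
  obtain ⟨h, hm⟩ := hme
  have hm2 : m = 2 * h := by omega
  subst hm2
  have hh : h ≤ d := by omega
  exact onecntp_core hodd d h hh r hrp (hyp_ts_const hodd d h)
    (fun U hU hUs => ts_ext_count hodd d h hh U hU hUs) hr

end Cfsg.Agent.Lib.Helper18.ONE
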