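import Mathlib
import Cfsg.Agent.Lib.helper23.OrdGen3

set_option autoImplicit false

namespace Cfsg.Agent.Lib.helper23

open Cfsg.Agent.Lib.helper8

variable {G : Type*} [Group G] [Finite G] [IsSimpleGroup G]

theorem o1440_c16 [Fact (Nat.Prime 5)] (P : Sylow 5 G)
    (hP : Nat.card (P : Subgroup G) = 5) (hn : Nat.card (Sylow 5 G) = 16)
    (hC : Nat.card (Subgroup.centralizer ((P : Subgroup G) : Set G)) = 45) : False := by
  haveI : Fact (Nat.Prime 3) := ⟨by norm_num⟩
  set N := Subgroup.normalizer ((P : Subgroup G) : Set G) with hN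
  set C := Subgroup.centralizer ((P : Subgroup G) : Set G) with hCdef
  have hXc : Nat.card (G ⧸ N) = 16 := by
    rw [← hn]; exact P.card_eq_card_quotient_normalizer.symm
  have hidx : N.index = 16 := by rw [← hn]; exact (h8_nsylow_eq_index_normalizer 5 P).symm
  have hNtop : N ≠ ⊤ := by
    intro h
    rw [h, Subgroup.index_top] at hidx
    omega
  have key : ∀ c ∈ C, c ≠ 1 → Nat.card (MulAction.fixedBy (G ⧸ N) c) = 1 := by
    intro c hc hc1
    have hc45 : c ^ 45 = 1 := by
      have h1 : (⟨c, hc⟩ : C) ^ Nat.card C = 1 := pow_card_eq_one'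
      rw [hC] at h1
      have := congrArg Subtype.val h1
      simpa using this
    have hpos : 1 ≤ Nat.card (MulAction.fixedBy (G ⧸ N) c) := by
      apply Nat.card_pos_iff.mpr
      exact ⟨⟨⟨((1 : G) : G ⧸ N), og2_base_fixed N c (Subgroup.centralizer_le_normalizer _ hc)⟩⟩,
        inferInstance⟩
    by_cases hd : c ^ 5 = 1
    · have ho : orderOf c = 5 := orderOf_eq_prime hd hc1
      exact Cfsg.Agent.S1018.part_a 5 P hP c ho
    · have hdC : c ^ 5 ∈ C := C.pow_mem hc 5
      have hd9 : (c ^ 5) ^ 9 = 1 := by rw [← pow_mul]; exact hc45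
      have hd3 : IsPGroup 3 (Subgroup.zpowers (c ^ 5)) := by
        have h1 : orderOf (c ^ 5) ∣ 3 ^ 2 := orderOf_dvd_of_pow_eq_one hd9
        obtain ⟨k, -, hk⟩ := (Nat.dvd_prime_pow Nat.prime_three).mp h1
        apply IsPGroup.of_card (n := k)
        rw [Nat.card_zpowers, hk]
      have h1 := s35_card_fixedBy_modEq (α := G ⧸ N) (c ^ 5) hd3
      have h2 : Nat.card (MulAction.fixedBy (G ⧸ N) (c ^ 5)) ≡ 1 [MOD 5] :=
        og2_card_fixedBy_modEq_one 5 P hP (c ^ 5) hdC
      have h3 : Nat.card (MulAction.fixedBy (G ⧸ N) (c ^ 5)) ≤ Nat.card (G ⧸ N) :=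
        Finite.card_subtype_le _
      have h4 : Nat.card (MulAction.fixedBy (G ⧸ N) (c ^ 5)) ≠ Nat.card (G ⧸ N) :=
        fun h => hd (og2_eq_one_of_card_fixedBy N hNtop (c ^ 5) h)
      have h5 : Nat.card (MulAction.fixedBy (G ⧸ N) (c ^ 5)) = 1 := by
        unfold Nat.ModEq at h1 h2
        rw [hXc] at h1 h3 h4
        omega
      have h6 : Nat.card (MulAction.fixedBy (G ⧸ N) c) ≤
          Nat.card (MulAction.fixedBy (G ⧸ N) (c ^ 5)) := by
        apply Nat.card_le_card_of_injective
          (fun a : MulAction.fixedBy (G ⧸ N) c =>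
            (⟨a.1, by
              have ha : c • a.1 = a.1 := a.2
              rw [MulAction.mem_fixedBy]
              simp [pow_succ, mul_smul, ha]⟩ : MulAction.fixedBy (G ⧸ N) (c ^ 5)))
        intro a b hab
        apply Subtype.ext
        exact congrArg (fun z => z.1) hab
      omega
  haveI hnt : Nontrivial (G ⧸ N) := Finite.one_lt_card_iff_nontrivial.mp (by rw [hXc]; norm_num)
  obtain ⟨x0, hx0⟩ := exists_ne (((1 : G) : G ⧸ N))
  have hinj : Function.Injective (fun c : C => (c : G) • x0) := by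
    intro a b hab
    by_contra hne
    have hab' : (a : G) • x0 = (b : G) • x0 := hab
    have h1 : ((b⁻¹ * a : C) : G) • x0 = x0 := by
      rw [Subgroup.coe_mul, mul_smul, hab', Subgroup.coe_inv, inv_smul_smul]
    have h2 : ((b⁻¹ * a : C) : G) ≠ 1 := by
      intro h
      apply hne
      have h3 : b⁻¹ * a = 1 := Subtype.ext h
      calc a = b * (b⁻¹ * a) := by group
        _ = b := by rw [h3, mul_one]
    have h3 := key _ (b⁻¹ * a).2 h2
    rw [Nat.card_eq_one_iff_unique] at h3
    obtain ⟨hs, -⟩ := h3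
    have h4 := hs.elim
      (⟨x0, h1⟩ : MulAction.fixedBy (G ⧸ N) ((b⁻¹ * a : C) : G))
      ⟨((1 : G) : G ⧸ N), og2_base_fixed N _ (Subgroup.centralizer_le_normalizer _ (b⁻¹ * a).2)⟩
    have h5 := congrArg Subtype.val h4
    exact hx0 h5
  have := Nat.card_le_card_of_injective _ hinj
  rw [hC, hXc] at this
  omega

theorem o1440_c36 (hnc : ¬ IsMulCommutative G) [Fact (Nat.Prime 5)] (P : Sylow 5 G)
    (hP : Nat.card (P : Subgroup G) = 5) (hn : Nat.card (Sylow 5 G) = 36)
    (hC : Nat.card (Subgroup.centralizer ((P : Subgroup G) : Set G)) = 20 ∨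
      Nat.card (Subgroup.centralizer ((P : Subgroup G) : Set G)) = 10) : False := by
  have h2 : 2 ∣ Nat.card (Subgroup.centralizer ((P : Subgroup G) : Set G)) := by
    rcases hC with h | h <;> rw [h] <;> norm_num
  obtain ⟨c, hcC, hc2, f, hf, hf5, hf4, hflt, hrest⟩ :=
    og3_invol_package hnc 5 ⟨2, by norm_num⟩ P hP h2 (by rw [hn]; norm_num)
  have horb := h8_card_orbits_sylow_prime 5 P hP
  rw [hn] at hf4 hflt horb
  have hf16 : f = 16 := by
    unfold Nat.ModEq at hf5
    obtain ⟨k, hk⟩ := hf4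
    omega
  have horb8 : Nat.card (MulAction.orbitRel.Quotient ↥(P : Subgroup G)
      (G ⧸ Subgroup.normalizer ((P : Subgroup G) : Set G))) < f := by
    rw [hf16]
    omega
  obtain ⟨m', hm1, hm2, hm3⟩ := hrest horb8
  rw [hn, hf16] at hm3
  have hm4 : m' ≤ 3 := by
    rcases hC with h | h
    · rw [h] at hm2
      omega
    · rw [h] at hm2
      omega
  clear hrest horb8 horb hf4 hf5 hflt hf hm2 hC h2
  interval_cases m' <;> omega

theorem o1440_main (hG : Nat.card G = 1440) : False := by
  haveI : Fact (Nat.Prime 5) := ⟨by norm_num⟩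
  have hnc : ¬ IsMulCommutative G := h8_not_comm_of_card (by rw [hG]; norm_num)
  have hG5 : Nat.card G = 5 ^ 1 * 288 := by rw [hG]; norm_num
  have hnd : ¬ 5 ∣ 288 := by norm_num
  obtain ⟨P⟩ : Nonempty (Sylow 5 G) := inferInstance
  obtain ⟨hP, hN, hX, r, hr4, hr1, hC⟩ := og3_sylow_data 5 288 hG5 hnd (by norm_num) P
  have hr : r = 2 ∨ r = 4 := by
    have hr4' : r ∣ 4 := hr4
    have hmem : r ∈ Nat.divisors 4 := Nat.mem_divisors.mpr ⟨hr4', by norm_num⟩
    have e4 : Nat.divisors 4 = {1, 2, 4} := by decide +kernel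
    rw [e4] at hmem
    simp only [Finset.mem_insert, Finset.mem_singleton] at hmem
    rcases hmem with h | h | h
    · exact absurd h hr1
    · exact Or.inl h
    · exact Or.inr h
  have h1 := h8_nsylow_mem (G := G) 5 1 288 hG5 hnd
  have e : (Nat.divisors 288).filter (fun d => d % 5 = 1) = {1, 6, 16, 36, 96} := by
    decide +kernel
  rw [e] at h1
  simp only [Finset.mem_insert, Finset.mem_singleton] at h1
  have h2 := h8_simple_nsylow_ne_one (G := G) 5 1 288 hG5 hnd (by norm_num) (by norm_num)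
  rw [hG] at hN
  rcases h1 with h1 | h1 | h1 | h1 | h1
  · exact h2 h1
  · have hidx := h8_nsylow_eq_index_normalizer 5 P
    have hne : Subgroup.normalizer ((P : Subgroup G) : Set G) ≠ ⊤ := by
      intro h
      rw [h, Subgroup.index_top] at hidx
      omega
    have h3 := h8_simple_two_mul_card_dvd_factorial hnc _ hne
    rw [← hidx, h1, hG] at h3
    norm_num [Nat.factorial] at h3
  · rw [h1] at hN
    have hC45 : Nat.card (Subgroup.centralizer ((P : Subgroup G) : Set G)) = 45 := by
      rcases hr with h | h <;> rw [h] at hC <;> omega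
    exact o1440_c16 P hP h1 hC45
  · rw [h1] at hN
    have hC' : Nat.card (Subgroup.centralizer ((P : Subgroup G) : Set G)) = 20 ∨
        Nat.card (Subgroup.centralizer ((P : Subgroup G) : Set G)) = 10 := by
      rcases hr with h | h <;> rw [h] at hC <;> omega
    exact o1440_c36 hnc P hP h1 hC'
  · rw [h1] at hN
    rcases hr with h | h <;> rw [h] at hC <;> omega

end Cfsg.Agent.Lib.helper23
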