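import Mathlib
import Cfsg.Agent.Lib.helper23.OrdGen3

set_option autoImplicit false

namespace Cfsg.Agent.Lib.helper23

open Cfsg.Agent.Lib.helper8

variable {G : Type*} [Group G] [Finite G] [IsSimpleGroup G]

theorem o2016_c36 (hG : Nat.card G = 2016) (hnc : ¬ IsMulCommutative G) [Fact (Nat.Prime 7)]
    (P : Sylow 7 G) (hP : Nat.card (P : Subgroup G) = 7) (hn : Nat.card (Sylow 7 G) = 36)
    (hC : Nat.card (Subgroup.centralizer ((P : Subgroup G) : Set G)) = 28) : False := by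
  haveI : Fact (Nat.Prime 2) := ⟨Nat.prime_two⟩
  have h2 : 2 ∣ Nat.card (Subgroup.centralizer ((P : Subgroup G) : Set G)) := by
    rw [hC]; norm_num
  obtain ⟨c, hcC, hc2, f, hf, hf7, hf4, hflt, hrest⟩ :=
    og3_invol_package hnc 7 ⟨3, by norm_num⟩ P hP h2 (by rw [hn]; norm_num)
  have horb := h8_card_orbits_sylow_prime 7 P hP
  rw [hn] at hf4 hflt horb
  have hf8 : f = 8 := by
    unfold Nat.ModEq at hf7
    obtain ⟨k, hk⟩ := hf4
    omega
  have horb6 : Nat.card (MulAction.orbitRel.Quotient ↥(P : Subgroup G)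
      (G ⧸ Subgroup.normalizer ((P : Subgroup G) : Set G))) < f := by
    rw [hf8]
    omega
  obtain ⟨m', hm1, hm2, hm3⟩ := hrest horb6
  rw [hn, hf8] at hm3
  rw [hC] at hm2
  have hk9 : Nat.card {g : G // IsConj c g} = 9 := by
    have hm4 : m' ≤ 3 := by omega
    clear hrest horb6 horb hf4 hf7 hflt hf hm2 h2
    interval_cases m' <;> omega
  clear hrest horb6 horb hf4 hf7 hflt hf hm2 h2 hm3 hm1
  have h3 := Cfsg.Agent.Lib.Helper18.card_isConj_mul_card_centralizer c
  rw [hG, hk9] at h3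
  have hZ : Nat.card (Subgroup.centralizer ({c} : Set G)) = 224 := by omega
  set Z := Subgroup.centralizer ({c} : Set G) with hZdef
  have hZidx : Z.index = 9 := by
    have := Z.card_mul_index
    rw [hZ, hG] at this
    omega
  have hYc : Nat.card (G ⧸ Z) = 9 := by
    rw [← Subgroup.index_eq_card]; exact hZidx
  have hZtop : Z ≠ ⊤ := by
    intro h
    rw [h, Subgroup.index_top] at hZidx
    omega
  have hdvd : 7 ∣ Nat.card (P : Subgroup G) := by rw [hP]
  obtain ⟨y', hy'⟩ := exists_prime_orderOf_dvd_card' 7 hdvd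
  have hy : orderOf (y' : G) = 7 := by rw [Subgroup.orderOf_coe]; exact hy'
  have hcy : Commute c (y' : G) := (Subgroup.mem_centralizer_iff.mp hcC (y' : G) y'.2).symm
  have hyp : IsPGroup 7 (Subgroup.zpowers (y' : G)) := by
    apply IsPGroup.of_card (n := 1)
    rw [Nat.card_zpowers, hy, pow_one]
  have hcp : IsPGroup 2 (Subgroup.zpowers c) := by
    apply IsPGroup.of_card (n := 1)
    rw [Nat.card_zpowers, hc2, pow_one]
  have hy1 : (y' : G) ≠ 1 := by
    intro h
    rw [h] at hy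
    simp at hy
  have hc1 : c ≠ 1 := by
    intro h
    rw [h] at hc2
    simp at hc2
  have ha1 := s35_card_fixedBy_modEq (α := G ⧸ Z) (y' : G) hyp
  have ha2 : Nat.card (MulAction.fixedBy (G ⧸ Z) (y' : G)) ≤ Nat.card (G ⧸ Z) :=
    Finite.card_subtype_le _
  have ha3 : Nat.card (MulAction.fixedBy (G ⧸ Z) (y' : G)) ≠ Nat.card (G ⧸ Z) :=
    fun h => hy1 (og2_eq_one_of_card_fixedBy Z hZtop _ h)
  have hfy : Nat.card (MulAction.fixedBy (G ⧸ Z) (y' : G)) = 2 := by
    unfold Nat.ModEq at ha1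
    rw [hYc] at ha1 ha2 ha3
    omega
  have hb1 := og2_card_fixedBy_modEq_of_commute (X := G ⧸ Z) c (y' : G) hcy hyp
  have hb2 := og2_card_fixedBy_modEq_of_commute (X := G ⧸ Z) (y' : G) c hcy.symm hcp
  have hjj : Nat.card {x : G ⧸ Z // (y' : G) • x = x ∧ c • x = x} =
      Nat.card {x : G ⧸ Z // c • x = x ∧ (y' : G) • x = x} :=
    Nat.card_congr (Equiv.subtypeEquivRight (fun x => and_comm))
  have hj1 : 1 ≤ Nat.card {x : G ⧸ Z // c • x = x ∧ (y' : G) • x = x} := by
    apply Nat.card_pos_iff.mpr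
    refine ⟨⟨⟨((1 : G) : G ⧸ Z), og2_base_fixed Z c ?_, og2_base_fixed Z (y' : G) ?_⟩⟩,
      inferInstance⟩
    · rw [hZdef, Subgroup.mem_centralizer_iff]
      intro h hh
      rw [Set.mem_singleton_iff] at hh
      rw [hh]
    · rw [hZdef, Subgroup.mem_centralizer_iff]
      intro h hh
      rw [Set.mem_singleton_iff] at hh
      rw [hh]
      exact hcy.eq
  have hj2 : Nat.card {x : G ⧸ Z // c • x = x ∧ (y' : G) • x = x} ≤
      Nat.card (MulAction.fixedBy (G ⧸ Z) (y' : G)) := by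
    apply Nat.card_le_card_of_injective
      (fun a : {x : G ⧸ Z // c • x = x ∧ (y' : G) • x = x} =>
        (⟨a.1, a.2.2⟩ : MulAction.fixedBy (G ⧸ Z) (y' : G)))
    intro a b hab
    apply Subtype.ext
    exact congrArg (fun z => z.1) hab
  have hc4 := h8_simple_involution_fixed (X := G ⧸ Z) hnc c
    (by rw [← hc2]; exact pow_orderOf_eq_one _)
  have hc5 : Nat.card (MulAction.fixedBy (G ⧸ Z) c) ≤ Nat.card (G ⧸ Z) :=
    Finite.card_subtype_le _
  have hc6 : Nat.card (MulAction.fixedBy (G ⧸ Z) c) ≠ Nat.card (G ⧸ Z) :=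
    fun h => hc1 (og2_eq_one_of_card_fixedBy Z hZtop _ h)
  unfold Nat.ModEq at hb1 hb2
  rw [hYc] at hc4 hc5 hc6
  rw [hfy, hjj] at hb2
  rw [hfy] at hj2
  obtain ⟨k, hk⟩ := hc4
  omega

theorem o2016_main (hG : Nat.card G = 2016) : False := by
  haveI : Fact (Nat.Prime 7) := ⟨by norm_num⟩
  have hnc : ¬ IsMulCommutative G := h8_not_comm_of_card (by rw [hG]; norm_num)
  have hG7 : Nat.card G = 7 ^ 1 * 288 := by rw [hG]; norm_num
  have hnd : ¬ 7 ∣ 288 := by norm_num
  obtain ⟨P⟩ : Nonempty (Sylow 7 G) := inferInstance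
  obtain ⟨hP, hN, hX, r, hr6, hr1, hC⟩ := og3_sylow_data 7 288 hG7 hnd (by norm_num) P
  have hr : r = 2 ∨ r = 3 ∨ r = 6 := by
    have hr6' : r ∣ 6 := hr6
    have hmem : r ∈ Nat.divisors 6 := Nat.mem_divisors.mpr ⟨hr6', by norm_num⟩
    have e6 : Nat.divisors 6 = {1, 2, 3, 6} := by decide +kernel
    rw [e6] at hmem
    simp only [Finset.mem_insert, Finset.mem_singleton] at hmem
    rcases hmem with h | h | h | h
    · exact absurd h hr1
    · exact Or.inl h
    · exact Or.inr (Or.inl h)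
    · exact Or.inr (Or.inr h)
  have h1 := h8_nsylow_mem (G := G) 7 1 288 hG7 hnd
  have e : (Nat.divisors 288).filter (fun d => d % 7 = 1) = {1, 8, 36, 288} := by
    decide +kernel
  rw [e] at h1
  simp only [Finset.mem_insert, Finset.mem_singleton] at h1
  have h2 := h8_simple_nsylow_ne_one (G := G) 7 1 288 hG7 hnd (by norm_num) (by norm_num)
  rw [hG] at hN
  rcases h1 with h1 | h1 | h1 | h1
  · exact h2 h1
  · rw [h1] at hN
    have hC2 : 2 ∣ Nat.card (Subgroup.centralizer ((P : Subgroup G) : Set G)) := by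
      rcases hr with h | h | h <;> rw [h] at hC <;> omega
    obtain ⟨c, hcC, hc2, f, hf, hf7, hf4, hflt, hrest⟩ :=
      og3_invol_package hnc 7 ⟨3, by norm_num⟩ P hP hC2 (by rw [h1]; norm_num)
    rw [h1] at hf4 hflt
    unfold Nat.ModEq at hf7
    obtain ⟨k, hk⟩ := hf4
    omega
  · rw [h1] at hN
    have hC28 : Nat.card (Subgroup.centralizer ((P : Subgroup G) : Set G)) = 28 := by
      rcases hr with h | h | h <;> rw [h] at hC <;> omega
    exact o2016_c36 hG hnc P hP h1 hC28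
  · rw [h1] at hN
    rcases hr with h | h | h <;> rw [h] at hC <;> omega

end Cfsg.Agent.Lib.helper23
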