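import Mathlib
import Cfsg.Agent.Lib.helper23.Ord3648b

set_option autoImplicit false

namespace Cfsg.Agent.Lib.helper23

open Cfsg.Agent.Lib.helper8

variable {G : Type*} [Group G] [Finite G]

/-- if the number of conjugates of `t` in `S` equals `|S| / |C(t)|`, fusion of `t` in `S` is
controlled by `S` -/
theorem og_fusion_of_card (t : G) (S : Subgroup G) (htS : t ∈ S) (c n : ℕ)
    (hcent : Nat.card (Subgroup.centralizer ({t} : Set G)) = c)
    (hk : Nat.card {g : G // IsConj t g ∧ g ∈ S} = n) (hS : Nat.card S = c * n) :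
    ∀ g : G, IsConj t g → g ∈ S → ∃ s ∈ S, g = s * t * s⁻¹ := by
  classical
  haveI : Fintype S := Fintype.ofFinite _
  haveI : Fintype {g : G // IsConj t g ∧ g ∈ S} := Fintype.ofFinite _
  haveI : Fintype (Subgroup.centralizer ({t} : Set G)) := Fintype.ofFinite _
  let f : S → {g : G // IsConj t g ∧ g ∈ S} := fun s =>
    ⟨(s : G) * t * (s : G)⁻¹, isConj_iff.mpr ⟨s, rfl⟩, S.mul_mem (S.mul_mem s.2 htS) (S.inv_mem s.2)⟩
  have hfib : ∀ a ∈ (Finset.univ : Finset S).image f,
      ((Finset.univ : Finset S).filter (fun x => f x = a)).card ≤ c := by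
    intro a ha
    obtain ⟨s₀, -, hs₀⟩ := Finset.mem_image.mp ha
    have hmem : ∀ s : S, f s = a → (s₀ : G)⁻¹ * (s : G) ∈ Subgroup.centralizer ({t} : Set G) := by
      intro s hs
      rw [Subgroup.mem_centralizer_iff]
      intro y hy
      rw [Set.mem_singleton_iff] at hy
      subst hy
      have h1 : (s : G) * y * (s : G)⁻¹ = (s₀ : G) * y * (s₀ : G)⁻¹ := by
        have := congrArg (fun z => z.1) (hs.trans hs₀.symm)
        exact this
      have h2 : y = (s : G)⁻¹ * ((s₀ : G) * y * (s₀ : G)⁻¹) * (s : G) := by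
        rw [← h1]; group
      calc y * ((s₀ : G)⁻¹ * (s : G))
          = ((s : G)⁻¹ * ((s₀ : G) * y * (s₀ : G)⁻¹) * (s : G)) * ((s₀ : G)⁻¹ * (s : G)) := by
            rw [← h2]
        _ = (s : G)⁻¹ * (s₀ : G) * y * ((s₀ : G)⁻¹ * (s : G) * ((s₀ : G)⁻¹ * (s : G))) := by group
        _ = (s₀ : G)⁻¹ * (s : G) * y := by
            have h3 : (s₀ : G)⁻¹ * ((s : G) * y * (s : G)⁻¹) * (s₀ : G) = y := by
              rw [h1]; group
            calc (s : G)⁻¹ * (s₀ : G) * y * ((s₀ : G)⁻¹ * (s : G) * ((s₀ : G)⁻¹ * (s : G)))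
                = (s : G)⁻¹ * ((s₀ : G) * y * (s₀ : G)⁻¹) * (s : G) * ((s₀ : G)⁻¹ * (s : G)) := by
                  group
              _ = y * ((s₀ : G)⁻¹ * (s : G)) := by rw [← h2]
              _ = ((s₀ : G)⁻¹ * ((s : G) * y * (s : G)⁻¹) * (s₀ : G)) * ((s₀ : G)⁻¹ * (s : G)) := by
                  rw [h3]
              _ = (s₀ : G)⁻¹ * (s : G) * y := by group
    have hle : ((Finset.univ : Finset S).filter (fun x => f x = a)).card ≤
        (Finset.univ : Finset (Subgroup.centralizer ({t} : Set G))).card := by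
      apply Finset.card_le_card_of_injOn
        (fun s : S => if h : f s = a then
          (⟨(s₀ : G)⁻¹ * (s : G), hmem s h⟩ : Subgroup.centralizer ({t} : Set G)) else 1)
      · intro s _
        exact Finset.mem_coe.mpr (Finset.mem_univ _)
      · intro s hs s' hs' hss
        have hs1 : f s = a := (Finset.mem_filter.mp (Finset.mem_coe.mp hs)).2
        have hs2 : f s' = a := (Finset.mem_filter.mp (Finset.mem_coe.mp hs')).2
        simp only [hs1, hs2, dif_pos] at hss
        have := congrArg (fun z : Subgroup.centralizer ({t} : Set G) => (z : G)) hss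
        simp only [mul_right_inj] at this
        exact Subtype.ext this
    rw [Finset.card_univ, ← Nat.card_eq_fintype_card, hcent] at hle
    exact hle
  have h1 := Finset.card_le_mul_card_image (Finset.univ : Finset S) c hfib
  rw [Finset.card_univ, ← Nat.card_eq_fintype_card, hS] at h1
  have hc0 : 0 < c := by
    rcases Nat.eq_zero_or_pos c with h | h
    · exfalso
      rw [h] at hcent
      have : 0 < Nat.card (Subgroup.centralizer ({t} : Set G)) := Nat.card_pos
      omega
    · exact h
  have h2 : n ≤ ((Finset.univ : Finset S).image f).card := Nat.le_of_mul_le_mul_left h1 hc0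
  have h3 : (Finset.univ : Finset S).image f = Finset.univ := by
    apply Finset.eq_univ_of_card
    have h4 := Finset.card_le_univ ((Finset.univ : Finset S).image f)
    rw [← Nat.card_eq_fintype_card, hk] at h4 ⊢
    omega
  intro g hg hgS
  have h5 : (⟨g, hg, hgS⟩ : {g : G // IsConj t g ∧ g ∈ S}) ∈ (Finset.univ : Finset S).image f := by
    rw [h3]; exact Finset.mem_univ _
  obtain ⟨s, -, hs⟩ := Finset.mem_image.mp h5
  refine ⟨s, s.2, ?_⟩
  have := congrArg (fun z => z.1) hs
  exact this.symm

theorem o3648_main [IsSimpleGroup G] (hG : Nat.card G = 3648) : False := by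
  classical
  haveI : Fact (Nat.Prime 19) := ⟨by norm_num⟩
  haveI : Fact (Nat.Prime 2) := ⟨Nat.prime_two⟩
  have hnc : ¬ IsMulCommutative G := h8_not_comm_of_card (by rw [hG]; norm_num)
  have hG2 : Nat.card G = 2 ^ 6 * 57 := by rw [hG]; norm_num
  have hnd : ¬ 2 ∣ 57 := by norm_num
  obtain ⟨P⟩ : Nonempty (Sylow 19 G) := inferInstance
  obtain ⟨t, htN, ht, hfix⟩ := o3648_t hG P
  obtain ⟨hcent, hcl⟩ := o3648_class hG P t htN ht hfix
  have hp : IsPGroup 2 (Subgroup.zpowers t) :=
    IsPGroup.of_card (n := 1) (by rw [Nat.card_zpowers, ht, pow_one])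
  obtain ⟨S, hS⟩ := hp.exists_le_sylow
  have htS : t ∈ (S : Subgroup G) := hS (Subgroup.mem_zpowers t)
  obtain ⟨hn2, hScard⟩ := o3648_n2 hG t ht hcl S htS
  have hk := o3648_k hG P t ht hfix hcl S htS
  have hfus := og_fusion_of_card t (S : Subgroup G) htS 8 8 hcent hk (by rw [hScard])
  have hSi : (S : Subgroup G).index = 57 := h8_sylow_index 2 6 57 hG2 hnd S
  have ht2 : t ^ 2 = 1 := by rw [← ht]; exact pow_orderOf_eq_one _
  have ht1 : t ≠ 1 := by
    intro h
    rw [h] at ht
    simp at ht
  have hmem := og_mem_commutator_of_fusion hnc (S : Subgroup G) (by rw [hSi]; decide) t htS ht2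
    (fun g hg => hfus (g⁻¹ * t * g) (isConj_iff.mpr ⟨g⁻¹, by simp⟩) hg)
  -- all conjugates of t in S lie in the commutator subgroup
  have hall : ∀ g : G, IsConj t g → ∀ hgS : g ∈ (S : Subgroup G),
      (⟨g, hgS⟩ : (S : Subgroup G)) ∈ commutator (S : Subgroup G) := by
    intro g hg hgS
    obtain ⟨s, hs, hgs⟩ := hfus g hg hgS
    have h1 : (⟨g, hgS⟩ : (S : Subgroup G)) =
        (⟨s, hs⟩ : (S : Subgroup G)) * ⟨t, htS⟩ * (⟨s, hs⟩ : (S : Subgroup G))⁻¹ := by
      apply Subtype.ext
      simp [hgs]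
    rw [h1]
    have hN : (commutator (S : Subgroup G)).Normal := inferInstance
    exact hN.conj_mem _ hmem _
  have hne : commutator (S : Subgroup G) ≠ ⊥ := by
    intro h
    rw [h, Subgroup.mem_bot] at hmem
    exact ht1 (congrArg Subtype.val hmem)
  -- card of commutator ≥ 9
  have h9 : 9 ≤ Nat.card (commutator (S : Subgroup G)) := by
    have h1 := h8_card_ne_one_subgroup (commutator (S : Subgroup G))
    have h2 : Nat.card {g : G // IsConj t g ∧ g ∈ (S : Subgroup G)} ≤
        Nat.card {g : (S : Subgroup G) // g ∈ commutator (S : Subgroup G) ∧ g ≠ 1} := by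
      apply Nat.card_le_card_of_injective
        (fun g : {g : G // IsConj t g ∧ g ∈ (S : Subgroup G)} =>
          (⟨⟨g.1, g.2.2⟩, hall g.1 g.2.1 g.2.2, fun h => by
            have h3 : g.1 = 1 := congrArg Subtype.val h
            have h4 := og_orderOf_of_isConj g.2.1
            rw [h3, ht] at h4
            simp at h4⟩ :
            {g : (S : Subgroup G) // g ∈ commutator (S : Subgroup G) ∧ g ≠ 1}))
      intro a b hab
      apply Subtype.ext
      have := congrArg (fun z => (z.1 : G)) hab
      exact this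
    have h3 : 0 < Nat.card (commutator (S : Subgroup G)) := Nat.card_pos
    omega
  have hidx : (commutator (S : Subgroup G)).index = 4 := by
    have h1 := (commutator (S : Subgroup G)).card_mul_index
    rw [hScard] at h1
    have h2 : Nat.card (commutator (S : Subgroup G)) ∈ Nat.divisors 64 :=
      Nat.mem_divisors.mpr ⟨⟨_, h1.symm⟩, by norm_num⟩
    have e : Nat.divisors 64 = {1, 2, 4, 8, 16, 32, 64} := by decide +kernel
    rw [e] at h2
    simp only [Finset.mem_insert, Finset.mem_singleton] at h2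
    obtain ⟨hi1, hi2⟩ := og_commutator_index_ne S.isPGroup' hne
    rcases h2 with h2 | h2 | h2 | h2 | h2 | h2 | h2
    · omega
    · omega
    · omega
    · omega
    · rw [h2] at h1; omega
    · rw [h2] at h1; exfalso; apply hi2; omega
    · rw [h2] at h1; exfalso; apply hi1; omega
  obtain ⟨C, hCc, hCi⟩ := Cfsg.Agent.Lib.Helper24.tk_exists_cyclic 64 (S : Subgroup G) hScard
    S.isPGroup' hidx (by norm_num)
  haveI := hCc
  haveI hCn : C.Normal := Subgroup.normal_of_index_eq_two hCi
  have hle : commutator (S : Subgroup G) ≤ C := by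
    rw [← Subgroup.Normal.quotient_commutative_iff_commutator_le]
    have hc : Nat.card ((S : Subgroup G) ⧸ C) = 2 := by rw [← Subgroup.index_eq_card]; exact hCi
    haveI : IsCyclic ((S : Subgroup G) ⧸ C) := isCyclic_of_prime_card hc
    exact ⟨⟨fun x y => IsCyclic.commGroup.mul_comm x y⟩⟩
  -- a second conjugate
  haveI : Nontrivial {g : G // IsConj t g ∧ g ∈ (S : Subgroup G)} := by
    apply (Finite.one_lt_card_iff_nontrivial).mp
    rw [hk]; norm_num
  obtain ⟨g, hg⟩ := exists_ne (⟨t, IsConj.refl t, htS⟩ : {g : G // IsConj t g ∧ g ∈ (S : Subgroup G)})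
  have hgt : g.1 ≠ t := fun h => hg (Subtype.ext h)
  have hg2 : g.1 ^ 2 = 1 := by
    have h1 := og_orderOf_of_isConj g.2.1
    rw [ht] at h1
    have h2 := pow_orderOf_eq_one g.1
    rw [h1] at h2
    exact h2
  have hg1 : g.1 ≠ 1 := by
    intro h
    have := og_orderOf_of_isConj g.2.1
    rw [h, ht] at this
    simp at this
  have hab := og_cyclic_two_involutions (C := C)
    (⟨⟨t, htS⟩, hle hmem⟩ : C) ⟨⟨g.1, g.2.2⟩, hle (hall g.1 g.2.1 g.2.2)⟩
    (by apply Subtype.ext; apply Subtype.ext; simpa using ht2)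
    (by apply Subtype.ext; apply Subtype.ext; simpa using hg2)
    (fun h => ht1 (congrArg (fun z : C => ((z : (S : Subgroup G)) : G)) h))
    (fun h => hg1 (congrArg (fun z : C => ((z : (S : Subgroup G)) : G)) h))
  exact hgt (congrArg (fun z : C => ((z : (S : Subgroup G)) : G)) hab).symm

end Cfsg.Agent.Lib.helper23
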