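import Mathlib
import Cfsg.Agent.Lib.helper23.Syl21c

set_option autoImplicit false

namespace Cfsg.Agent.Lib.helper23

open Cfsg.Agent.Lib.helper8

section Tools

/-- an element of prime order is conjugate into any subgroup of index prime to its order -/
theorem s22_conj_mem_of_coprime_index {G : Type*} [Group G] [Finite G] (H : Subgroup G) (z : G)
    (r : ℕ) [hr : Fact r.Prime] (hz : orderOf z = r) (hnd : ¬ r ∣ H.index) :
    ∃ g : G, g⁻¹ * z * g ∈ H := by
  have hzp : IsPGroup r (Subgroup.zpowers z) := by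
    apply IsPGroup.of_card (n := 1)
    rw [Nat.card_zpowers, hz, pow_one]
  have hmod := hzp.card_modEq_card_fixedPoints (G ⧸ H)
  by_contra hcon
  push Not at hcon
  have h0 : Nat.card (MulAction.fixedPoints (Subgroup.zpowers z) (G ⧸ H)) = 0 := by
    rw [Nat.card_eq_zero]
    left
    constructor
    rintro ⟨x, hx⟩
    obtain ⟨g, rfl⟩ := QuotientGroup.mk_surjective x
    have h1 : z • (g : G ⧸ H) = (g : G ⧸ H) := hx ⟨z, Subgroup.mem_zpowers z⟩
    apply hcon g
    rw [MulAction.Quotient.smul_mk, QuotientGroup.eq, ← Subgroup.inv_mem_iff] at h1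
    simpa [mul_assoc] using h1
  rw [h0, ← Subgroup.index_eq_card] at hmod
  exact hnd ((Nat.modEq_zero_iff_dvd).mp hmod)

/-- an element normalizing but not centralizing a fixed point free subgroup of prime order
has few fixed points -/
theorem s22_semireg_fix {G X : Type*} [Group G] [Finite G] [MulAction G X] [Finite X] (q : ℕ)
    (hq : q.Prime) (y k : G) (hy : orderOf y = q) (hfree : ∀ x : X, y • x ≠ x)
    (hk : k * y * k⁻¹ ∈ Subgroup.zpowers y) (hnc : k * y * k⁻¹ ≠ y) :
    q * Nat.card (MulAction.fixedBy X k) ≤ Nat.card X := by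
  have hcard : Nat.card (Subgroup.zpowers y) = q := by rw [Nat.card_zpowers, hy]
  -- A: nonidentity elements of the cyclic group are fixed point free
  have hA : ∀ w ∈ Subgroup.zpowers y, w ≠ 1 → ∀ x : X, w • x ≠ x := by
    intro w hw hw1 x hx
    have h1 := h8_zpowers_eq_of_prime_card q hq (Subgroup.zpowers y) hcard w hw hw1
    have h2 : y ∈ Subgroup.zpowers w := by rw [h1]; exact Subgroup.mem_zpowers y
    obtain ⟨j, hj⟩ := Subgroup.mem_zpowers_iff.mp h2
    apply hfree x
    rw [← hj]
    exact MulAction.fixedBy_subset_fixedBy_zpow X w j hx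
  -- B: conjugation by `k` preserves the cyclic group and moves its nonidentity elements
  have hB1 : ∀ v ∈ Subgroup.zpowers y, k * v * k⁻¹ ∈ Subgroup.zpowers y := by
    intro v hv
    obtain ⟨j, rfl⟩ := Subgroup.mem_zpowers_iff.mp hv
    have h1 : k * y ^ j * k⁻¹ = (k * y * k⁻¹) ^ j := by
      rw [conj_zpow]
    rw [h1]
    exact Subgroup.zpow_mem _ hk j
  have hB2 : ∀ v ∈ Subgroup.zpowers y, k * v * k⁻¹ = v → v = 1 := by
    intro v hv hkv
    by_contra hv1
    have h1 := h8_zpowers_eq_of_prime_card q hq (Subgroup.zpowers y) hcard v hv hv1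
    have h2 : y ∈ Subgroup.zpowers v := by rw [h1]; exact Subgroup.mem_zpowers y
    obtain ⟨j, hj⟩ := Subgroup.mem_zpowers_iff.mp h2
    apply hnc
    rw [← hj]
    have h3 : k * v ^ j * k⁻¹ = (k * v * k⁻¹) ^ j := by rw [conj_zpow]
    rw [h3, hkv]
  have hinj : Function.Injective
      (fun z : ↥(Subgroup.zpowers y) × MulAction.fixedBy X k => (z.1 : G) • (z.2 : X)) := by
    rintro ⟨⟨u, hu⟩, ⟨a, ha⟩⟩ ⟨⟨u', hu'⟩, ⟨a', ha'⟩⟩ hab
    have hab' : u • a = u' • a' := hab
    rw [MulAction.mem_fixedBy] at ha ha'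
    have hv : u'⁻¹ * u ∈ Subgroup.zpowers y :=
      (Subgroup.zpowers y).mul_mem ((Subgroup.zpowers y).inv_mem hu') hu
    have hva : (u'⁻¹ * u) • a = a' := by rw [mul_smul, hab', inv_smul_smul]
    have hka : k⁻¹ • a = a := by
      conv_lhs => rw [← ha]
      rw [inv_smul_smul]
    have h1 : (k * (u'⁻¹ * u) * k⁻¹) • a = (u'⁻¹ * u) • a := by
      rw [mul_smul, mul_smul k, hka, hva, ha']
    have h2 : ((u'⁻¹ * u)⁻¹ * (k * (u'⁻¹ * u) * k⁻¹)) • a = a := by
      rw [mul_smul, h1, inv_smul_smul]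
    have hw : (u'⁻¹ * u)⁻¹ * (k * (u'⁻¹ * u) * k⁻¹) ∈ Subgroup.zpowers y :=
      (Subgroup.zpowers y).mul_mem ((Subgroup.zpowers y).inv_mem hv) (hB1 _ hv)
    have hw1 : (u'⁻¹ * u)⁻¹ * (k * (u'⁻¹ * u) * k⁻¹) = 1 := by
      by_contra hne
      exact hA _ hw hne a h2
    have h3 : k * (u'⁻¹ * u) * k⁻¹ = u'⁻¹ * u := by
      have := inv_mul_eq_one.mp hw1
      exact this.symm
    have h4 : u'⁻¹ * u = 1 := hB2 _ hv h3
    have h5 : u = u' := by
      have := inv_mul_eq_one.mp h4
      exact this.symm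
    subst h5
    have h6 : a = a' := smul_left_cancel u hab'
    subst h6
    rfl
  have h1 := Nat.card_le_card_of_injective _ hinj
  rw [Nat.card_prod, hcard] at h1
  exact h1

end Tools

section Embed

variable {G : Type*} [Group G] {X : Type*} [MulAction G X] (P : Subgroup G) [MulAction ↥P X]

theorem s22_orbMap_wd (hcompat : ∀ (u : ↥P) (x : X), u • x = (u : G) • x)
    (c : G) (hc : c ∈ Subgroup.centralizer (P : Set G)) (a b : X)
    (hab : (MulAction.orbitRel ↥P X).r a b) : (MulAction.orbitRel ↥P X).r (c • a) (c • b) := by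
  have hab' : a ∈ MulAction.orbit ↥P b := hab
  obtain ⟨u, hu⟩ := hab'
  have hu' : (u : G) • b = a := by rw [← hcompat]; exact hu
  show c • a ∈ MulAction.orbit ↥P (c • b)
  refine ⟨u, ?_⟩
  show u • c • b = c • a
  rw [hcompat, ← hu', ← mul_smul, ← mul_smul, Subgroup.mem_centralizer_iff.mp hc (u : G) u.2]

/-- the centralizer of `P` permutes the orbits of `P` -/
noncomputable def s22OrbAction (hcompat : ∀ (u : ↥P) (x : X), u • x = (u : G) • x) :
    MulAction ↥(Subgroup.centralizer (P : Set G)) (MulAction.orbitRel.Quotient ↥P X) where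
  smul c := Quotient.map' (fun x => (c : G) • x) (s22_orbMap_wd P hcompat (c : G) c.2)
  one_smul := by
    intro y
    induction y using Quotient.inductionOn' with
    | h x =>
      show Quotient.map' (fun x => ((1 : ↥(Subgroup.centralizer (P : Set G))) : G) • x) _
        (Quotient.mk'' x) = Quotient.mk'' x
      rw [Quotient.map'_mk'']
      simp
  mul_smul := by
    intro c d y
    induction y using Quotient.inductionOn' with
    | h x =>
      show Quotient.map' (fun x => ((c * d : ↥(Subgroup.centralizer (P : Set G))) : G) • x) _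
          (Quotient.mk'' x) =
        Quotient.map' (fun x => (c : G) • x) _
          (Quotient.map' (fun x => (d : G) • x) _ (Quotient.mk'' x))
      rw [Quotient.map'_mk'', Quotient.map'_mk'', Quotient.map'_mk'']
      simp [mul_smul]

theorem s22OrbAction_mk (hcompat : ∀ (u : ↥P) (x : X), u • x = (u : G) • x)
    (c : ↥(Subgroup.centralizer (P : Set G))) (x : X) :
    letI := s22OrbAction (X := X) P hcompat
    c • (Quotient.mk'' x : MulAction.orbitRel.Quotient ↥P X) = Quotient.mk'' ((c : G) • x) :=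
  rfl

end Embed

section EmbedCard

variable {G : Type*} [Group G] [Finite G] [IsSimpleGroup G] [Fact (Nat.Prime 3)]

theorem s22_fact3 (P : Sylow 3 G) (hP : Nat.card (P : Subgroup G) = 3) :
    (Nat.card G).factorization 3 = 1 := by
  have h1 := P.card_eq_multiplicity
  rw [hP] at h1
  have h2 : 3 ^ 1 = 3 ^ (Nat.card G).factorization 3 := by rw [pow_one]; exact h1
  exact (Nat.pow_right_injective (by norm_num : 2 ≤ 3) h2).symm

theorem s22_N_ne_top (P : Sylow 3 G) (hn : Nat.card (Sylow 3 G) = 22) :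
    Subgroup.normalizer ((P : Subgroup G) : Set G) ≠ ⊤ := by
  intro h1
  have hidx : (Subgroup.normalizer ((P : Subgroup G) : Set G)).index = 22 := by
    rw [← hn]; exact (h8_nsylow_eq_index_normalizer 3 P).symm
  rw [h1, Subgroup.index_top] at hidx
  omega

/-- the centralizer of a Sylow `3`-subgroup of order `3` embeds modulo a `3`-group in the
symmetric group on the seven nontrivial orbits -/
theorem s22_card_cent_dvd (P : Sylow 3 G) (hP : Nat.card (P : Subgroup G) = 3)
    (hn : Nat.card (Sylow 3 G) = 22) :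
    Nat.card (Subgroup.centralizer ((P : Subgroup G) : Set G)) ∣ 15120 := by
  classical
  have hNtop := s22_N_ne_top P hn
  have hY8 : Nat.card (MulAction.orbitRel.Quotient ↥(P : Subgroup G)
      (G ⧸ Subgroup.normalizer ((P : Subgroup G) : Set G))) = 8 := by
    have := h8_card_orbits_sylow_prime 3 P hP
    rw [hn] at this
    omega
  set N := Subgroup.normalizer ((P : Subgroup G) : Set G) with hN
  set C := Subgroup.centralizer ((P : Subgroup G) : Set G) with hC
  set Y := MulAction.orbitRel.Quotient ↥(P : Subgroup G) (G ⧸ N) with hY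
  letI : MulAction ↥C Y := s22OrbAction (X := G ⧸ N) (P : Subgroup G) (fun _ _ => rfl)
  have hmk : ∀ (c : ↥C) (x : G ⧸ N), c • (Quotient.mk'' x : Y) = Quotient.mk'' ((c : G) • x) :=
    fun c x => rfl
  set y0 : Y := Quotient.mk'' ((1 : G) : G ⧸ N) with hy0
  set ψ := MulAction.toPermHom ↥C Y with hψ
  have hstab : ψ.range ≤ MulAction.stabilizer (Equiv.Perm Y) y0 := by
    rintro σ ⟨c, rfl⟩
    rw [MulAction.mem_stabilizer_iff]
    show c • y0 = y0
    rw [hy0, hmk, og2_base_fixed _ (c : G) (Subgroup.centralizer_le_normalizer _ c.2)]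
  have hcardstab : Nat.card (MulAction.stabilizer (Equiv.Perm Y) y0) = 5040 := by
    have h1 := s21_orbit_stabilizer (H := Equiv.Perm Y) y0
    rw [MulAction.orbit_eq_univ, Nat.card_perm, hY8, Nat.card_congr (Equiv.Set.univ _), hY8] at h1
    have h2 : Nat.factorial 8 = 8 * 5040 := by decide
    rw [h2] at h1
    exact Nat.eq_of_mul_eq_mul_left (by norm_num) h1
  -- the kernel has exponent three
  have hker3 : ∀ c ∈ ψ.ker, c ^ 3 = 1 := by
    intro c hc
    rw [MonoidHom.mem_ker] at hc
    have hfix : ∀ x : G ⧸ N, ∃ u : G, u ∈ (P : Subgroup G) ∧ (c : G) • x = u • x := by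
      intro x
      have h1 : c • (Quotient.mk'' x : Y) = Quotient.mk'' x := by
        have := congrArg (fun σ => σ (Quotient.mk'' x : Y)) hc
        exact this
      rw [hmk] at h1
      have h2 := Quotient.eq''.mp h1
      have h3 : (c : G) • x ∈ MulAction.orbit ↥(P : Subgroup G) x := h2
      obtain ⟨u, hu⟩ := h3
      exact ⟨u, u.2, hu.symm⟩
    have hc3 : ∀ x : G ⧸ N, ((c : G) ^ 3) • x = x := by
      intro x
      obtain ⟨u, hu, hux⟩ := hfix x
      have hcu : (c : G) * u = u * (c : G) := (Subgroup.mem_centralizer_iff.mp c.2 u hu).symm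
      have hu3 : u ^ 3 = 1 := by
        have := pow_card_eq_one' (G := ↥(P : Subgroup G)) (x := ⟨u, hu⟩)
        rw [hP] at this
        exact congrArg Subtype.val this
      have e1 : ((c : G) ^ 2) • x = (u ^ 2) • x := by
        rw [pow_two, pow_two, mul_smul, hux, ← mul_smul, hcu, mul_smul, hux, ← mul_smul]
      have h1 : ((c : G) ^ 3) • x = (u ^ 3) • x := by
        have e2 : (c : G) ^ 3 = (c : G) ^ 2 * (c : G) := pow_succ _ 2
        have e3 : u ^ 3 = u * u ^ 2 := pow_succ' _ 2
        have e4 : (c : G) ^ 2 * u = u * (c : G) ^ 2 := (Commute.pow_left hcu 2).eq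
        rw [e2, e3, mul_smul, hux, ← mul_smul, e4, mul_smul, e1, ← mul_smul]
      rw [h1, hu3, one_smul]
    have h1 : ((c : G) ^ 3) = 1 := og2_eq_one_of_fixes_all _ hNtop _ hc3
    apply Subtype.ext
    rw [Subgroup.coe_pow]
    exact h1
  have hkerp : IsPGroup 3 ψ.ker := by
    intro c
    refine ⟨1, ?_⟩
    rw [pow_one]
    apply Subtype.ext
    exact hker3 c.1 c.2
  obtain ⟨j, hj⟩ := IsPGroup.iff_card.mp hkerp
  have hkerdvd : Nat.card ψ.ker ∣ 3 := by
    have h1 : 3 ^ j ∣ Nat.card G := by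
      rw [← hj]
      exact (Subgroup.card_subgroup_dvd_card _).trans (Subgroup.card_subgroup_dvd_card _)
    have h2 := (Nat.Prime.pow_dvd_iff_le_factorization Nat.prime_three Nat.card_pos.ne').mp h1
    rw [s22_fact3 P hP] at h2
    rw [hj]
    calc 3 ^ j ∣ 3 ^ 1 := pow_dvd_pow 3 h2
      _ = 3 := pow_one 3
  have hrange : Nat.card ψ.range ∣ 5040 := by
    rw [← hcardstab]
    exact Subgroup.card_dvd_of_le hstab
  have hmul := Subgroup.card_mul_index ψ.ker
  rw [Subgroup.index_ker] at hmul
  rw [← hmul]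
  calc _ ∣ 3 * 5040 := Nat.mul_dvd_mul hkerdvd hrange
    _ = 15120 := by norm_num

end EmbedCard

end Cfsg.Agent.Lib.helper23
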