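import Mathlib
import Cfsg.Agent.Lib.helper23.Syl22e
import Cfsg.Agent.Lib.helper8.CountOrder

set_option autoImplicit false

namespace Cfsg.Agent.Lib.helper23

open Cfsg.Agent.Lib.helper8

/-- an element normalizing but not centralizing a subgroup `⟨y⟩` of prime order `q` has few fixed
points outside the fixed points of `y` -/
theorem ooa_semireg_fix {G X : Type*} [Group G] [Finite G] [MulAction G X] [Finite X] (q : ℕ)
    (hq : q.Prime) (y k : G) (hy : orderOf y = q)
    (hk : k * y * k⁻¹ ∈ Subgroup.zpowers y) (hnc : k * y * k⁻¹ ≠ y) :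
    q * Nat.card {a : X // k • a = a ∧ y • a ≠ a} ≤ Nat.card {a : X // y • a ≠ a} := by
  have hcard : Nat.card (Subgroup.zpowers y) = q := by rw [Nat.card_zpowers, hy]
  have hA : ∀ w ∈ Subgroup.zpowers y, w ≠ 1 → ∀ x : X, y • x ≠ x → w • x ≠ x := by
    intro w hw hw1 x hyx hx
    have h1 := h8_zpowers_eq_of_prime_card q hq (Subgroup.zpowers y) hcard w hw hw1
    have h2 : y ∈ Subgroup.zpowers w := by rw [h1]; exact Subgroup.mem_zpowers y
    obtain ⟨j, hj⟩ := Subgroup.mem_zpowers_iff.mp h2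
    apply hyx
    rw [← hj]
    exact MulAction.fixedBy_subset_fixedBy_zpow X w j hx
  have hB1 : ∀ v ∈ Subgroup.zpowers y, k * v * k⁻¹ ∈ Subgroup.zpowers y := by
    intro v hv
    obtain ⟨j, rfl⟩ := Subgroup.mem_zpowers_iff.mp hv
    have h1 : k * y ^ j * k⁻¹ = (k * y * k⁻¹) ^ j := by
      rw [conj_zpow]
    rw [h1]
    exact Subgroup.zpow_mem _ hk j
  have hB2 : ∀ v ∈ Subgroup.zpowers y, k * v * k⁻¹ = v → v = 1 := by
    intro v hv hkv
    by_contra hv1
    have h1 := h8_zpowers_eq_of_prime_card q hq (Subgroup.zpowers y) hcard v hv hv1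
    have h2 : y ∈ Subgroup.zpowers v := by rw [h1]; exact Subgroup.mem_zpowers y
    obtain ⟨j, hj⟩ := Subgroup.mem_zpowers_iff.mp h2
    apply hnc
    rw [← hj]
    have h3 : k * v ^ j * k⁻¹ = (k * v * k⁻¹) ^ j := by rw [conj_zpow]
    rw [h3, hkv]
  have hcomm : ∀ u ∈ Subgroup.zpowers y, y * u = u * y := by
    intro u hu
    obtain ⟨j, rfl⟩ := Subgroup.mem_zpowers_iff.mp hu
    exact ((Commute.refl y).zpow_right j).eq
  have hinj : Function.Injective
      (fun z : ↥(Subgroup.zpowers y) × {a : X // k • a = a ∧ y • a ≠ a} =>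
        (⟨(z.1 : G) • (z.2 : X), by
          intro h
          apply z.2.2.2
          rw [← mul_smul, hcomm _ z.1.2, mul_smul] at h
          exact smul_left_cancel _ h⟩ : {a : X // y • a ≠ a})) := by
    rintro ⟨⟨u, hu⟩, ⟨a, ha, hya⟩⟩ ⟨⟨u', hu'⟩, ⟨a', ha', hya'⟩⟩ hab
    have hab' : u • a = u' • a' := congrArg Subtype.val hab
    have hv : u'⁻¹ * u ∈ Subgroup.zpowers y :=
      (Subgroup.zpowers y).mul_mem ((Subgroup.zpowers y).inv_mem hu') hu
    have hva : (u'⁻¹ * u) • a = a' := by rw [mul_smul, hab', inv_smul_smul]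
    have hka : k⁻¹ • a = a := by
      conv_lhs => rw [← ha]
      rw [inv_smul_smul]
    have h1 : (k * (u'⁻¹ * u) * k⁻¹) • a = (u'⁻¹ * u) • a := by
      rw [mul_smul, mul_smul k, hka, hva, ha']
    have h2 : ((u'⁻¹ * u)⁻¹ * (k * (u'⁻¹ * u) * k⁻¹)) • a = a := by
      rw [mul_smul, h1, inv_smul_smul]
    have hw : (u'⁻¹ * u)⁻¹ * (k * (u'⁻¹ * u) * k⁻¹) ∈ Subgroup.zpowers y :=
      (Subgroup.zpowers y).mul_mem ((Subgroup.zpowers y).inv_mem hv) (hB1 _ hv)
    have hw1 : (u'⁻¹ * u)⁻¹ * (k * (u'⁻¹ * u) * k⁻¹) = 1 := by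
      by_contra hne
      exact hA _ hw hne a hya h2
    have h3 : k * (u'⁻¹ * u) * k⁻¹ = u'⁻¹ * u := by
      have := inv_mul_eq_one.mp hw1
      exact this.symm
    have h4 : u'⁻¹ * u = 1 := hB2 _ hv h3
    have h5 : u = u' := by
      have := inv_mul_eq_one.mp h4
      exact this.symm
    subst h5
    have h6 : a = a' := smul_left_cancel u hab'
    subst h6
    rfl
  have h1 := Nat.card_le_card_of_injective _ hinj
  rw [Nat.card_prod, hcard] at h1
  exact h1

end Cfsg.Agent.Lib.helper23
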