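import Mathlib
import Cfsg.Agent.Lib.helper23.OrdOddA

set_option autoImplicit false

namespace Cfsg.Agent.Lib.helper23

open Cfsg.Agent.Lib.helper8

theorem oob_card_split {α : Type*} [Finite α] (q r : α → Prop) :
    Nat.card {x // q x ∧ r x} + Nat.card {x // q x ∧ ¬ r x} = Nat.card {x // q x} := by
  classical
  letI : Fintype α := Fintype.ofFinite α
  rw [Nat.card_eq_fintype_card, Nat.card_eq_fintype_card, Nat.card_eq_fintype_card,
    Fintype.card_subtype, Fintype.card_subtype, Fintype.card_subtype]
  have h1 : (Finset.univ.filter (fun x => q x ∧ r x)) = (Finset.univ.filter q).filter r := by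
    ext x; simp
  have h2 : (Finset.univ.filter (fun x => q x ∧ ¬ r x)) =
      (Finset.univ.filter q).filter (fun x => ¬ r x) := by
    ext x; simp
  rw [h1, h2]
  exact Finset.card_filter_add_card_filter_not r

section Count

variable {G : Type*} [Group G] [Finite G] (p : ℕ) [hp : Fact p.Prime] (P : Sylow p G)

/-- in a Frobenius-like Sylow normalizer of order `q * p`, the elements outside `P` have order `q` -/
theorem oob_order_q (hP : Nat.card (P : Subgroup G) = p)
    (hCP : Nat.card (Subgroup.centralizer ((P : Subgroup G) : Set G)) = p)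
    (q : ℕ) (hq : q.Prime)
    (hNq : Nat.card (Subgroup.normalizer ((P : Subgroup G) : Set G)) = q * p) (z : G)
    (hzN : z ∈ Subgroup.normalizer ((P : Subgroup G) : Set G)) (hzP : z ∉ (P : Subgroup G)) :
    orderOf z = q := by
  have hPC : (P : Subgroup G) ≤ Subgroup.centralizer ((P : Subgroup G) : Set G) := by
    haveI : IsCyclic (P : Subgroup G) := isCyclic_of_prime_card hP
    exact Subgroup.le_centralizer_iff_isMulCommutative.mpr inferInstance
  have hCeq : (P : Subgroup G) = Subgroup.centralizer ((P : Subgroup G) : Set G) :=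
    Subgroup.eq_of_le_of_card_ge hPC (by rw [hCP, hP])
  have hz1 : z ≠ 1 := fun h => hzP (h ▸ (P : Subgroup G).one_mem)
  have hzqp : z ^ (q * p) = 1 := by
    have h1 : (⟨z, hzN⟩ : Subgroup.normalizer ((P : Subgroup G) : Set G)) ^
        Nat.card (Subgroup.normalizer ((P : Subgroup G) : Set G)) = 1 := pow_card_eq_one'
    rw [hNq] at h1
    exact congrArg Subtype.val h1
  haveI : Fact q.Prime := ⟨hq⟩
  by_cases hw : z ^ q = 1
  · exact orderOf_eq_prime hw hz1
  · exfalso
    have hwp : (z ^ q) ^ p = 1 := by rw [← pow_mul]; exact hzqp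
    have hwo : orderOf (z ^ q) = p ^ 1 := by
      rw [pow_one]; exact orderOf_eq_prime hwp hw
    have hwN : z ^ q ∈ Subgroup.normalizer ((P : Subgroup G) : Set G) :=
      Subgroup.pow_mem _ hzN q
    have hwP : z ^ q ∈ (P : Subgroup G) := h8_mem_sylow_of_mem_normalizer p P _ 1 hwo hwN
    have hzp := h8_zpowers_eq_of_prime_card p hp.out (P : Subgroup G) hP (z ^ q) hwP hw
    apply hzP
    rw [hCeq, Subgroup.mem_centralizer_iff]
    intro u hu
    have hu' : u ∈ Subgroup.zpowers (z ^ q) := by rw [hzp]; exact hu
    obtain ⟨j, rfl⟩ := Subgroup.mem_zpowers_iff.mp hu'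
    have hc : Commute z (z ^ q) := (Commute.refl z).pow_right q
    exact (hc.zpow_right j).eq.symm

/-- an element of order `q` fixes few Sylow subgroups -/
theorem oob_fix_le (hP : Nat.card (P : Subgroup G) = p)
    (hCP : Nat.card (Subgroup.centralizer ((P : Subgroup G) : Set G)) = p)
    (q : ℕ) (hq : q.Prime) (hqp : q ≠ p) (x : G) (hx : orderOf x = q) :
    p * (Nat.card (MulAction.fixedBy
      (G ⧸ Subgroup.normalizer ((P : Subgroup G) : Set G)) x) - 1) ≤
      Nat.card (Sylow p G) - 1 := by
  by_cases hne : Nonempty (MulAction.fixedBy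
      (G ⧸ Subgroup.normalizer ((P : Subgroup G) : Set G)) x)
  · obtain ⟨⟨a, ha⟩⟩ := hne
    obtain ⟨g, rfl⟩ := QuotientGroup.mk_surjective a
    rw [MulAction.mem_fixedBy, MulAction.Quotient.smul_mk, QuotientGroup.eq,
      ← Subgroup.inv_mem_iff] at ha
    have hx' : g⁻¹ * x * g ∈ Subgroup.normalizer ((P : Subgroup G) : Set G) := by
      simpa [mul_assoc] using ha
    have hfx := og_card_fixedBy_conj
      (X := G ⧸ Subgroup.normalizer ((P : Subgroup G) : Set G)) g⁻¹ x
    rw [inv_inv] at hfx
    rw [← hfx]
    have hox : orderOf (g⁻¹ * x * g) = q := by rw [h8_orderOf_conj, hx]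
    generalize g⁻¹ * x * g = x' at hx' hox
    -- generator of `P`
    obtain ⟨y', hy'⟩ := exists_prime_orderOf_dvd_card' (G := ↥(P : Subgroup G)) p (by rw [hP])
    have hy : orderOf (y' : G) = p := by rw [Subgroup.orderOf_coe]; exact hy'
    have hy1 : (y' : G) ≠ 1 := by
      intro h1
      rw [h1, orderOf_one] at hy
      exact hp.out.one_lt.ne hy
    have hQz : Subgroup.zpowers (y' : G) = (P : Subgroup G) :=
      h8_zpowers_eq_of_prime_card p hp.out (P : Subgroup G) hP (y' : G) y'.2 hy1
    have hconj : x' * (y' : G) * x'⁻¹ ∈ Subgroup.zpowers (y' : G) := by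
      rw [hQz]
      exact (Subgroup.mem_normalizer_iff.mp hx' (y' : G)).mp y'.2
    have hPC : (P : Subgroup G) ≤ Subgroup.centralizer ((P : Subgroup G) : Set G) := by
      haveI : IsCyclic (P : Subgroup G) := isCyclic_of_prime_card hP
      exact Subgroup.le_centralizer_iff_isMulCommutative.mpr inferInstance
    have hCeq : (P : Subgroup G) = Subgroup.centralizer ((P : Subgroup G) : Set G) :=
      Subgroup.eq_of_le_of_card_ge hPC (by rw [hCP, hP])
    have hnc : x' * (y' : G) * x'⁻¹ ≠ (y' : G) := by
      intro heq
      have hc : Commute x' (y' : G) := by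
        show x' * (y' : G) = (y' : G) * x'
        calc x' * (y' : G) = (x' * (y' : G) * x'⁻¹) * x' := by group
          _ = (y' : G) * x' := by rw [heq]
      have hxC : x' ∈ Subgroup.centralizer ((P : Subgroup G) : Set G) := by
        rw [Subgroup.mem_centralizer_iff]
        intro u hu
        have hu' : u ∈ Subgroup.zpowers (y' : G) := by rw [hQz]; exact hu
        obtain ⟨j, rfl⟩ := Subgroup.mem_zpowers_iff.mp hu'
        exact (hc.zpow_right j).eq.symm
      rw [← hCeq] at hxC
      have h1 := Subgroup.orderOf_dvd_natCard _ hxC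
      rw [hox, hP] at h1
      exact hqp ((Nat.prime_dvd_prime_iff_eq hq hp.out).mp h1)
    have hsr := ooa_semireg_fix (X := G ⧸ Subgroup.normalizer ((P : Subgroup G) : Set G)) p
      hp.out (y' : G) x' hy hconj hnc
    have hfy := Cfsg.Agent.S1018.part_a p P hP (y' : G) hy
    have hsplit1 := oob_card_split
      (fun a : G ⧸ Subgroup.normalizer ((P : Subgroup G) : Set G) => True)
      (fun a => (y' : G) • a = a)
    have hsplit2 := oob_card_split
      (fun a : G ⧸ Subgroup.normalizer ((P : Subgroup G) : Set G) => x' • a = a)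
      (fun a => (y' : G) • a = a)
    have e1 : Nat.card {a : G ⧸ Subgroup.normalizer ((P : Subgroup G) : Set G) //
        True ∧ (y' : G) • a = a} = 1 := by
      rw [← hfy]
      apply Nat.card_congr
      exact Equiv.subtypeEquivRight (fun a => by simp [MulAction.mem_fixedBy])
    have e2 : Nat.card {a : G ⧸ Subgroup.normalizer ((P : Subgroup G) : Set G) //
        True ∧ ¬ (y' : G) • a = a} =
        Nat.card {a : G ⧸ Subgroup.normalizer ((P : Subgroup G) : Set G) // (y' : G) • a ≠ a} := by
      apply Nat.card_congr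
      exact Equiv.subtypeEquivRight (fun a => by simp)
    have e3 : Nat.card {a : G ⧸ Subgroup.normalizer ((P : Subgroup G) : Set G) // True} =
        Nat.card (Sylow p G) := by
      rw [P.card_eq_card_quotient_normalizer]
      exact Nat.card_congr (Equiv.subtypeUnivEquiv (fun _ => trivial))
    have e4 : Nat.card {a : G ⧸ Subgroup.normalizer ((P : Subgroup G) : Set G) //
        x' • a = a ∧ (y' : G) • a = a} ≤ 1 := by
      rw [← hfy]
      apply Nat.card_le_card_of_injective
        (fun a : {a : G ⧸ Subgroup.normalizer ((P : Subgroup G) : Set G) //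
          x' • a = a ∧ (y' : G) • a = a} =>
          (⟨a.1, a.2.2⟩ : MulAction.fixedBy
            (G ⧸ Subgroup.normalizer ((P : Subgroup G) : Set G)) (y' : G)))
      intro a b hab
      apply Subtype.ext
      exact congrArg (fun z => z.1) hab
    have e5 : Nat.card {a : G ⧸ Subgroup.normalizer ((P : Subgroup G) : Set G) // x' • a = a} =
        Nat.card (MulAction.fixedBy
          (G ⧸ Subgroup.normalizer ((P : Subgroup G) : Set G)) x') := rfl
    rw [e1, e2, e3] at hsplit1
    rw [e5] at hsplit2
    have e6 : Nat.card {a : G ⧸ Subgroup.normalizer ((P : Subgroup G) : Set G) //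
        x' • a = a ∧ ¬ (y' : G) • a = a} =
        Nat.card {a : G ⧸ Subgroup.normalizer ((P : Subgroup G) : Set G) //
        x' • a = a ∧ (y' : G) • a ≠ a} := rfl
    rw [e6] at hsplit2
    have h7 : Nat.card (MulAction.fixedBy
          (G ⧸ Subgroup.normalizer ((P : Subgroup G) : Set G)) x') - 1 ≤
        Nat.card {a : G ⧸ Subgroup.normalizer ((P : Subgroup G) : Set G) //
        x' • a = a ∧ (y' : G) • a ≠ a} := by omega
    calc p * (Nat.card (MulAction.fixedBy
          (G ⧸ Subgroup.normalizer ((P : Subgroup G) : Set G)) x') - 1)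
        ≤ p * Nat.card {a : G ⧸ Subgroup.normalizer ((P : Subgroup G) : Set G) //
        x' • a = a ∧ (y' : G) • a ≠ a} := Nat.mul_le_mul_left p h7
      _ ≤ Nat.card {a : G ⧸ Subgroup.normalizer ((P : Subgroup G) : Set G) //
          (y' : G) • a ≠ a} := hsr
      _ = Nat.card (Sylow p G) - 1 := by omega
  · have h0 : Nat.card (MulAction.fixedBy
        (G ⧸ Subgroup.normalizer ((P : Subgroup G) : Set G)) x) = 0 := by
      rw [Nat.card_eq_zero]
      left
      exact not_nonempty_iff.mp hne
    rw [h0]
    simp

/-- many elements of order `q` -/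
theorem oob_count (hP : Nat.card (P : Subgroup G) = p)
    (hCP : Nat.card (Subgroup.centralizer ((P : Subgroup G) : Set G)) = p)
    (q : ℕ) (hq : q.Prime) (hqp : q ≠ p)
    (hNq : Nat.card (Subgroup.normalizer ((P : Subgroup G) : Set G)) = q * p)
    (n0 : ℕ) (hn0 : ∀ f : ℕ, p * (f - 1) ≤ Nat.card (Sylow p G) - 1 → f ≤ n0) :
    Nat.card (Sylow p G) * (q * p - p) ≤ Nat.card {x : G // orderOf x = q} * n0 := by
  classical
  letI : Fintype G := Fintype.ofFinite G
  letI : Fintype (G ⧸ Subgroup.normalizer ((P : Subgroup G) : Set G)) := Fintype.ofFinite _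
  have hcount := Finset.card_mul_le_card_mul
    (s := (Finset.univ : Finset (G ⧸ Subgroup.normalizer ((P : Subgroup G) : Set G))))
    (t := (Finset.univ : Finset G).filter (fun x => orderOf x = q))
    (m := q * p - p) (n := n0)
    (fun (a : G ⧸ Subgroup.normalizer ((P : Subgroup G) : Set G)) (x : G) => x • a = a) ?_ ?_
  · rw [Finset.card_univ, ← Nat.card_eq_fintype_card] at hcount
    rw [P.card_eq_card_quotient_normalizer]
    have e : Nat.card {x : G // orderOf x = q} =
        ((Finset.univ : Finset G).filter (fun x => orderOf x = q)).card := by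
      rw [Nat.card_eq_fintype_card, Fintype.card_subtype]
    rw [e]
    exact hcount
  · -- every point is fixed by many elements of order `q`
    intro a _
    obtain ⟨g, rfl⟩ := QuotientGroup.mk_surjective a
    have hcardNP : Nat.card {z : G // z ∈ Subgroup.normalizer ((P : Subgroup G) : Set G) ∧
        z ∉ (P : Subgroup G)} = q * p - p := by
      have h1 := oob_card_split
        (fun z : G => z ∈ Subgroup.normalizer ((P : Subgroup G) : Set G))
        (fun z => z ∈ (P : Subgroup G))
      have e1 : Nat.card {z : G // z ∈ Subgroup.normalizer ((P : Subgroup G) : Set G) ∧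
          z ∈ (P : Subgroup G)} = p := by
        have e0 : Nat.card {z : G // z ∈ Subgroup.normalizer ((P : Subgroup G) : Set G) ∧
            z ∈ (P : Subgroup G)} = Nat.card (P : Subgroup G) := by
          apply Nat.card_congr
          exact Equiv.subtypeEquivRight (fun z =>
            ⟨fun h => h.2, fun h => ⟨Subgroup.le_normalizer h, h⟩⟩)
        rw [e0, hP]
      have e2 : Nat.card {z : G // z ∈ Subgroup.normalizer ((P : Subgroup G) : Set G)} =
          q * p := hNq
      rw [e1, e2] at h1
      omega
    rw [← hcardNP, Nat.card_eq_fintype_card, ← Fintype.card_coe]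
    apply Fintype.card_le_of_injective
      (fun z : {z : G // z ∈ Subgroup.normalizer ((P : Subgroup G) : Set G) ∧
        z ∉ (P : Subgroup G)} =>
        (⟨g * z.1 * g⁻¹, by
          rw [Finset.bipartiteAbove, Finset.mem_filter, Finset.mem_filter]
          refine ⟨⟨Finset.mem_univ _, ?_⟩, ?_⟩
          · have h1 := oob_order_q p P hP hCP q hq hNq z.1 z.2.1 z.2.2
            have h2 := h8_orderOf_conj g⁻¹ z.1
            rw [inv_inv] at h2
            rw [h2, h1]
          · rw [MulAction.Quotient.smul_mk, QuotientGroup.eq, smul_eq_mul]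
            have h3 : (g * z.1 * g⁻¹ * g)⁻¹ * g = z.1⁻¹ := by group
            rw [h3]
            exact Subgroup.inv_mem _ z.2.1⟩ :
          ↥(Finset.bipartiteAbove
            (fun (a : G ⧸ Subgroup.normalizer ((P : Subgroup G) : Set G)) (x : G) => x • a = a)
            ((Finset.univ : Finset G).filter (fun x => orderOf x = q))
            ((g : G) : G ⧸ Subgroup.normalizer ((P : Subgroup G) : Set G)))))
    intro z z' hzz
    have h1 : g * z.1 * g⁻¹ = g * z'.1 * g⁻¹ := congrArg Subtype.val hzz
    apply Subtype.ext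
    have h2 : g⁻¹ * (g * z.1 * g⁻¹) * g = g⁻¹ * (g * z'.1 * g⁻¹) * g := by rw [h1]
    simpa [mul_assoc] using h2
  · -- every element of order `q` fixes few points
    intro x hx
    rw [Finset.mem_filter] at hx
    apply hn0
    have h1 := oob_fix_le p P hP hCP q hq hqp x hx.2
    have e : (Finset.bipartiteBelow
        (fun (a : G ⧸ Subgroup.normalizer ((P : Subgroup G) : Set G)) (x : G) => x • a = a)
        (Finset.univ : Finset (G ⧸ Subgroup.normalizer ((P : Subgroup G) : Set G))) x).card =
        Nat.card (MulAction.fixedBy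
          (G ⧸ Subgroup.normalizer ((P : Subgroup G) : Set G)) x) := by
      rw [Nat.card_eq_fintype_card, Finset.bipartiteBelow, ← Fintype.card_subtype]
      apply Fintype.card_congr
      exact Equiv.subtypeEquivRight (fun a => by simp [MulAction.mem_fixedBy])
    rw [e]
    exact h1

end Count

end Cfsg.Agent.Lib.helper23
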