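import Mathlib
import Cfsg.Agent.Lib.helper23.OrdOddB

set_option autoImplicit false

namespace Cfsg.Agent.Lib.helper23

open Cfsg.Agent.Lib.helper8

theorem ooc_dvd3 (n a b c : ℕ) (h : n ∣ a * b * c) :
    ∃ x y z, x ∣ a ∧ y ∣ b ∧ z ∣ c ∧ n = x * y * z := by
  obtain ⟨k1, z, hk1, hz, rfl⟩ := (Nat.dvd_mul).mp h
  obtain ⟨x, y, hx, hy, rfl⟩ := (Nat.dvd_mul).mp hk1
  exact ⟨x, y, z, hx, hy, hz, rfl⟩

theorem ooc_dvd27 (x : ℕ) (h : x ∣ 27) : x = 1 ∨ x = 3 ∨ x = 9 ∨ x = 27 := by
  have hle : x ≤ 27 := Nat.le_of_dvd (by norm_num) h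
  interval_cases x <;> omega

variable {G : Type*} [Group G] [Finite G] [IsSimpleGroup G]

/-- a generic Sylow step: the number of Sylow subgroups given that the normalizer quotient must
be nontrivial -/
theorem ooc_nsylow (p m : ℕ) [hp : Fact p.Prime] (hG : Nat.card G = p ^ 1 * m) (hnd : ¬ p ∣ m)
    (hm1 : 1 < m) (n : ℕ) (hn : Nat.card (Sylow p G) = n) :
    ∃ r c : ℕ, r ∣ p - 1 ∧ r ≠ 1 ∧ c * r * n = Nat.card G ∧ p ∣ c := by
  obtain ⟨P⟩ : Nonempty (Sylow p G) := inferInstance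
  obtain ⟨hP, hN, -, r, hr, hr1, hC⟩ := og3_sylow_data p m hG hnd hm1 P
  refine ⟨r, Nat.card (Subgroup.centralizer ((P : Subgroup G) : Set G)), hr, hr1, ?_, ?_⟩
  · rw [hC, ← hn, hN]
  · have hPC : (P : Subgroup G) ≤ Subgroup.centralizer ((P : Subgroup G) : Set G) := by
      haveI : IsCyclic (P : Subgroup G) := isCyclic_of_prime_card hP
      exact Subgroup.le_centralizer_iff_isMulCommutative.mpr inferInstance
    have := Subgroup.card_dvd_of_le hPC
    rwa [hP] at this

theorem o1004913_main (hG : Nat.card G = 1004913) : False := by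
  haveI : Fact (Nat.Prime 409) := ⟨by norm_num⟩
  haveI : Fact (Nat.Prime 7) := ⟨by norm_num⟩
  haveI : Fact (Nat.Prime 13) := ⟨by norm_num⟩
  -- the prime 409
  have hG409 : Nat.card G = 409 ^ 1 * 2457 := by rw [hG]; norm_num
  have hnd409 : ¬ 409 ∣ 2457 := by norm_num
  obtain ⟨P⟩ : Nonempty (Sylow 409 G) := inferInstance
  obtain ⟨hP, hN, -, r, hr, hr1, hC⟩ := og3_sylow_data 409 2457 hG409 hnd409 (by norm_num) P
  have hn409 : Nat.card (Sylow 409 G) = 819 := by
    have hd := h8_nsylow_dvd 409 1 2457 hG409 hnd409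
    have hmod := h8_nsylow_mod (G := G) 409
    have hne := h8_simple_nsylow_ne_one 409 1 2457 hG409 hnd409 (by norm_num) (by norm_num)
    rw [show (2457 : ℕ) = 27 * 7 * 13 by norm_num] at hd
    obtain ⟨x, y, z, hx, hy, hz, hxyz⟩ := ooc_dvd3 _ _ _ _ hd
    rw [hxyz] at hmod hne ⊢
    rcases ooc_dvd27 x hx with rfl | rfl | rfl | rfl <;>
    rcases (Nat.dvd_prime (by norm_num : Nat.Prime 7)).mp hy with rfl | rfl <;>
    rcases (Nat.dvd_prime (by norm_num : Nat.Prime 13)).mp hz with rfl | rfl <;>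
    first | rfl | (exfalso; omega)
  rw [hn409, hG] at hN
  have hNcard : Nat.card (Subgroup.normalizer ((P : Subgroup G) : Set G)) = 3 * 409 := by omega
  have hr3 : r = 3 := by
    have h1 : r ∣ Nat.gcd 408 1227 := by
      apply Nat.dvd_gcd hr
      rw [show (1227 : ℕ) = 3 * 409 by norm_num, ← hNcard, ← hC]
      exact dvd_mul_left _ _
    have h2 : Nat.gcd 408 1227 = 3 := by norm_num
    rw [h2] at h1
    rcases (Nat.dvd_prime Nat.prime_three).mp h1 with h | h
    · exact absurd h hr1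
    · exact h
  have hCcard : Nat.card (Subgroup.centralizer ((P : Subgroup G) : Set G)) = 409 := by
    rw [hr3, hNcard] at hC
    omega
  have hc3 := oob_count 409 P hP hCcard 3 Nat.prime_three (by norm_num) hNcard 3 (by
    intro f hf
    rw [hn409] at hf
    omega)
  rw [hn409] at hc3
  -- the prime 7
  have hG7 : Nat.card G = 7 ^ 1 * 143559 := by rw [hG]; norm_num
  have hnd7 : ¬ 7 ∣ 143559 := by norm_num
  have hn7 : Nat.card (Sylow 7 G) = 47853 := by
    have hd := h8_nsylow_dvd 7 1 143559 hG7 hnd7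
    have hmod := h8_nsylow_mod (G := G) 7
    have hne := h8_simple_nsylow_ne_one 7 1 143559 hG7 hnd7 (by norm_num) (by norm_num)
    have hne351 : Nat.card (Sylow 7 G) ≠ 351 := by
      intro h
      obtain ⟨r7, c7, hr7, hr71, hc7, hc7'⟩ := ooc_nsylow 7 143559 hG7 hnd7 (by norm_num) 351 h
      rw [hG] at hc7
      have h1 : r7 ∣ Nat.gcd 6 2863 := by
        apply Nat.dvd_gcd hr7
        refine ⟨c7, ?_⟩
        have : c7 * r7 * 351 = 2863 * 351 := by rw [hc7]
        have h2 := Nat.eq_of_mul_eq_mul_right (by norm_num) this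
        rw [← h2]; ring
      have h2 : Nat.gcd 6 2863 = 1 := by norm_num
      rw [h2] at h1
      exact hr71 (Nat.dvd_one.mp h1)
    rw [show (143559 : ℕ) = 27 * 13 * 409 by norm_num] at hd
    obtain ⟨x, y, z, hx, hy, hz, hxyz⟩ := ooc_dvd3 _ _ _ _ hd
    rw [hxyz] at hmod hne hne351 ⊢
    rcases ooc_dvd27 x hx with rfl | rfl | rfl | rfl <;>
    rcases (Nat.dvd_prime (by norm_num : Nat.Prime 13)).mp hy with rfl | rfl <;>
    rcases (Nat.dvd_prime (by norm_num : Nat.Prime 409)).mp hz with rfl | rfl <;>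
    first | rfl | (exfalso; omega)
  have hc7 := h8_card_orderOf_eq_prime (G := G) 7 143559 (by rw [hG]) hnd7
  rw [hn7] at hc7
  -- the prime 13
  have hG13 : Nat.card G = 13 ^ 1 * 77301 := by rw [hG]; norm_num
  have hnd13 : ¬ 13 ∣ 77301 := by norm_num
  have hn13 : Nat.card (Sylow 13 G) = 25767 := by
    have hd := h8_nsylow_dvd 13 1 77301 hG13 hnd13
    have hmod := h8_nsylow_mod (G := G) 13
    have hne := h8_simple_nsylow_ne_one 13 1 77301 hG13 hnd13 (by norm_num) (by norm_num)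
    have hne27 : Nat.card (Sylow 13 G) ≠ 27 := by
      intro h
      obtain ⟨r13, c13, hr13, hr131, hc13, hc13'⟩ :=
        ooc_nsylow 13 77301 hG13 hnd13 (by norm_num) 27 h
      rw [hG] at hc13
      have h1 : r13 ∣ Nat.gcd 12 37219 := by
        apply Nat.dvd_gcd hr13
        refine ⟨c13, ?_⟩
        have : c13 * r13 * 27 = 37219 * 27 := by rw [hc13]
        have h2 := Nat.eq_of_mul_eq_mul_right (by norm_num) this
        rw [← h2]; ring
      have h2 : Nat.gcd 12 37219 = 1 := by norm_num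
      rw [h2] at h1
      exact hr131 (Nat.dvd_one.mp h1)
    rw [show (77301 : ℕ) = 27 * 7 * 409 by norm_num] at hd
    obtain ⟨x, y, z, hx, hy, hz, hxyz⟩ := ooc_dvd3 _ _ _ _ hd
    rw [hxyz] at hmod hne hne27 ⊢
    rcases ooc_dvd27 x hx with rfl | rfl | rfl | rfl <;>
    rcases (Nat.dvd_prime (by norm_num : Nat.Prime 7)).mp hy with rfl | rfl <;>
    rcases (Nat.dvd_prime (by norm_num : Nat.Prime 409)).mp hz with rfl | rfl <;>
    first | rfl | (exfalso; omega)
  have hc13 := h8_card_orderOf_eq_prime (G := G) 13 77301 (by rw [hG]) hnd13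
  rw [hn13] at hc13
  have hc409 := h8_card_orderOf_eq_prime (G := G) 409 2457 (by rw [hG]) hnd409
  rw [hn409] at hc409
  have hsum := h8_sum_card_orderOf_le (G := G) ({3, 7, 13, 409} : Finset ℕ)
  rw [Finset.sum_insert (by decide), Finset.sum_insert (by decide), Finset.sum_insert (by decide),
    Finset.sum_singleton, hc7, hc13, hc409, hG] at hsum
  omega

end Cfsg.Agent.Lib.helper23
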