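import Cfsg.Agent.Lib.helper23.TwistD
import Cfsg.Agent.Lib.helper23.OutSolvA
import Cfsg.Prelude.Def_KGroupFacts

set_option autoImplicit false

namespace Cfsg.Agent.Lib.helper23

open MulAction
open scoped Pointwise commutatorElement

section outSolvB

variable {G X : Type*} [Group G] [Finite G] [Fintype X] [MulAction G X] [FaithfulSMul G X]

theorem os_conj_map (α : MulAut G) (g : G) :
    α * MulAut.conj g * α⁻¹ = MulAut.conj (α g) := by
  ext y
  simp [MulAut.mul_apply, MulAut.conj_apply, MulAut.apply_inv_self]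

/-- order of `G` in terms of a point stabilizer -/
theorem os_card (hp : (Fintype.card X).Prime) (h2 : TwoTrans G X) (o : X) :
    Fintype.card X * Nat.card (stabilizer G o) = Nat.card G ∧
      (Nat.card (stabilizer G o)).Coprime (Fintype.card X) := by
  classical
  have hn : ∃ a b : X, a ≠ b := Fintype.one_lt_card_iff.mp hp.one_lt
  haveI : IsPretransitive G X := ⟨h2.trans hn⟩
  have hidx : (stabilizer G o).index = Fintype.card X := by
    rw [MulAction.index_stabilizer_of_transitive, Nat.card_eq_fintype_card]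
  have hcardG : Fintype.card X * Nat.card (stabilizer G o) = Nat.card G := by
    rw [← hidx]; exact Subgroup.index_mul_card _
  refine ⟨hcardG, ?_⟩
  have hdvd : Nat.card G ∣ (Fintype.card X).factorial := by
    have := Subgroup.card_dvd_of_injective (MulAction.toPermHom G X) MulAction.toPerm_injective
    rwa [Nat.card_perm, Nat.card_eq_fintype_card (α := X)] at this
  apply Nat.Coprime.symm
  rw [Nat.Prime.coprime_iff_not_dvd hp]
  intro hd
  have h1 : Fintype.card X * Fintype.card X ∣ (Fintype.card X).factorial := by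
    refine (Nat.mul_dvd_mul_left _ hd).trans ?_
    rw [hcardG]; exact hdvd
  rw [← Nat.mul_factorial_pred hp.pos.ne'] at h1
  have h3 := Nat.dvd_of_mul_dvd_mul_left hp.pos h1
  have h4 := (Nat.Prime.dvd_factorial hp).mp h3
  have := hp.pos
  omega

/-- odd order automorphisms are permutational -/
theorem os_perm_of_odd (hp : (Fintype.card X).Prime) (h2 : TwoTrans G X) (α : MulAut G)
    (hα : Odd (orderOf α)) : ∃ σ : Equiv.Perm X, ∀ (g : G) (x : X), σ (g • x) = α g • σ x := by
  classical
  have hn : ∃ a b : X, a ≠ b := Fintype.one_lt_card_iff.mp hp.one_lt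
  obtain ⟨o⟩ : Nonempty X := Fintype.card_pos_iff.mp hp.pos
  obtain ⟨-, hHall⟩ := os_card hp h2 o
  have hcard : Nat.card ((MulAction.stabilizer G o).map α.toMonoidHom)
      = Nat.card (MulAction.stabilizer G o) :=
    (Nat.card_congr ((MulAction.stabilizer G o).equivMapOfInjective α.toMonoidHom
      α.injective).toEquiv).symm
  have hdvd : Nat.card (MulAction.orbit ((MulAction.stabilizer G o).map α.toMonoidHom) o)
      ∣ Nat.card (MulAction.stabilizer G o) := by
    rw [← hcard, Nat.card_coe_set_eq, ← MulAction.index_stabilizer]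
    exact Subgroup.index_dvd_card _
  have hk : (Nat.card (MulAction.orbit ((MulAction.stabilizer G o).map α.toMonoidHom) o)).Coprime
      (Fintype.card X) := Nat.Coprime.coprime_dvd_left hdvd hHall
  exact (tw_abstract h2 hn α hα o o hk).1

/-- an odd order automorphism fixing an element of order `p` is conjugation by a power of it -/
theorem os_odd_fix (hp : (Fintype.card X).Prime) (h2 : TwoTrans G X) (x₀ : G)
    (hx₀ : orderOf x₀ = Fintype.card X) (c : MulAut G) (hc : c x₀ = x₀) (hodd : Odd (orderOf c)) :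
    c ∈ Subgroup.zpowers (MulAut.conj x₀) := by
  obtain ⟨σ, hσ⟩ := os_perm_of_odd hp h2 c hodd
  have h1 : ∀ x, σ (x₀ • x) = x₀ • σ x := by
    intro x
    rw [hσ, hc]
  obtain ⟨i, hi⟩ := os_cyc_cent hp x₀ hx₀ σ h1
  refine ⟨i, ?_⟩
  show MulAut.conj x₀ ^ i = c
  rw [← map_zpow]
  ext g
  rw [MulAut.conj_apply]
  have h3 : x₀ ^ i * g = c g * x₀ ^ i := by
    apply FaithfulSMul.eq_of_smul_eq_smul (α := X)
    intro x
    rw [mul_smul, mul_smul, ← hi, ← hi, hσ]
  rw [h3, mul_inv_cancel_right]

/-- the outer automorphism group of a faithful doubly transitive group of prime degree is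
solvable -/
theorem os_core (hp : (Fintype.card X).Prime) (h2 : TwoTrans G X) :
    Group.IsSolvable (Cfsg.Out G) := by
  classical
  haveI : Fact (Fintype.card X).Prime := ⟨hp⟩
  obtain ⟨o⟩ : Nonempty X := Fintype.card_pos_iff.mp hp.pos
  obtain ⟨hcardG, hHall⟩ := os_card hp h2 o
  obtain ⟨x₀, hx₀⟩ := exists_prime_orderOf_dvd_card' (G := G) (Fintype.card X)
    (Dvd.intro _ hcardG)
  have hfac : (Nat.card G).factorization (Fintype.card X) = 1 := by
    have hm : ¬ Fintype.card X ∣ Nat.card (stabilizer G o) := by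
      rw [← Nat.Prime.coprime_iff_not_dvd hp]; exact hHall.symm
    have hm0 : Nat.card (stabilizer G o) ≠ 0 := Nat.card_pos.ne'
    rw [← hcardG, Nat.factorization_mul hp.pos.ne' hm0, Finsupp.add_apply,
      Nat.Prime.factorization_self hp, Nat.factorization_eq_zero_of_not_dvd hm]
  obtain ⟨P, hPcoe⟩ : ∃ P : Sylow (Fintype.card X) G, (P : Subgroup G) = Subgroup.zpowers x₀ :=
    ⟨Sylow.ofCard (Subgroup.zpowers x₀) (by rw [Nat.card_zpowers, hx₀, hfac, pow_one]),
      Sylow.coe_ofCard _ _⟩
  -- the two subgroups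
  obtain ⟨S, hSdef⟩ : ∃ S : Subgroup (MulAut G), S = stabilizer (MulAut G) P := ⟨_, rfl⟩
  obtain ⟨C, hCdef⟩ : ∃ C : Subgroup (MulAut G), C = stabilizer (MulAut G) x₀ := ⟨_, rfl⟩
  have hCmem : ∀ β : MulAut G, β ∈ C ↔ β x₀ = x₀ := by
    intro β
    rw [hCdef, mem_stabilizer_iff, MulAut.smul_def]
  have hSmem : ∀ β : MulAut G, β ∈ S → ∀ y ∈ Subgroup.zpowers x₀, β y ∈ Subgroup.zpowers x₀ := by
    intro β hβ y hy
    rw [hSdef, mem_stabilizer_iff] at hβ
    have h1 : β • (P : Subgroup G) = P := by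
      rw [← Sylow.pointwise_smul_def, hβ]
    rw [hPcoe] at h1
    have h3 := Subgroup.smul_mem_pointwise_smul y β _ hy
    rw [h1, MulAut.smul_def] at h3
    exact h3
  have hCS : C ≤ S := by
    intro β hβ
    rw [hCmem] at hβ
    rw [hSdef, mem_stabilizer_iff]
    apply Sylow.ext
    rw [Sylow.pointwise_smul_def, hPcoe]
    show Subgroup.map β.toMonoidHom (Subgroup.zpowers x₀) = Subgroup.zpowers x₀
    rw [MonoidHom.map_zpowers]
    show Subgroup.zpowers (β x₀) = Subgroup.zpowers x₀
    rw [hβ]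
  -- C is solvable
  have hCsolv : Group.IsSolvable C := by
    apply os_odd_elems_solvable' C (Subgroup.zpowers (MulAut.conj x₀))
    · rw [Subgroup.zpowers_le, hCmem, MulAut.conj_apply, mul_inv_cancel_right]
    · intro c hc z hz
      rw [hCmem] at hc
      have h1 : Commute c (MulAut.conj x₀) := by
        have := os_conj_map c x₀
        rw [hc] at this
        exact mul_inv_eq_iff_eq_mul.mp this
      obtain ⟨i, rfl⟩ := hz
      exact (h1.zpow_right i).eq
    · intro c hc hodd
      exact os_odd_fix hp h2 x₀ hx₀ c ((hCmem c).mp hc) hodd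
  -- S is solvable
  have hSsolv : Group.IsSolvable S := by
    apply os_comm_le_solvable S C hCS hCsolv
    intro a ha b hb
    rw [hCmem, commutatorElement_def]
    have hy : b⁻¹ x₀ ∈ Subgroup.zpowers x₀ :=
      hSmem _ (S.inv_mem hb) x₀ (Subgroup.mem_zpowers x₀)
    have hy2 : a⁻¹ (b⁻¹ x₀) ∈ Subgroup.zpowers x₀ := hSmem _ (S.inv_mem ha) _ hy
    obtain ⟨e, he⟩ := hy2
    obtain ⟨i, hi⟩ := hSmem a ha x₀ (Subgroup.mem_zpowers x₀)
    obtain ⟨j, hj⟩ := hSmem b hb x₀ (Subgroup.mem_zpowers x₀)
    have hab : a (b x₀) = b (a x₀) := by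
      change x₀ ^ i = a x₀ at hi
      change x₀ ^ j = b x₀ at hj
      rw [← hi, ← hj, map_zpow, map_zpow, ← hi, ← hj, ← zpow_mul, ← zpow_mul, mul_comm]
    change x₀ ^ e = a⁻¹ (b⁻¹ x₀) at he
    show (a * b * a⁻¹ * b⁻¹) x₀ = x₀
    rw [MulAut.mul_apply, MulAut.mul_apply, MulAut.mul_apply, ← he, map_zpow, map_zpow, hab,
      ← map_zpow, ← map_zpow, he, MulAut.apply_inv_self, MulAut.apply_inv_self]
  -- Frattini argument
  haveI := hSsolv
  have hsurj : Function.Surjective
      ((QuotientGroup.mk' (Cfsg.Inn G)).comp S.subtype) := by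
    intro q
    induction q using QuotientGroup.induction_on with
    | H α =>
      obtain ⟨g, hg⟩ := MulAction.exists_smul_eq G P (α • P)
      rw [Sylow.smul_def] at hg
      have hβ : (MulAut.conj g)⁻¹ * α ∈ S := by
        rw [hSdef, mem_stabilizer_iff, mul_smul, ← hg, inv_smul_smul]
      refine ⟨⟨_, hβ⟩, ?_⟩
      show (((MulAut.conj g)⁻¹ * α : MulAut G) : Cfsg.Out G) = (α : Cfsg.Out G)
      rw [QuotientGroup.mk_mul]
      have h1 : (((MulAut.conj g)⁻¹ : MulAut G) : Cfsg.Out G) = 1 := by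
        rw [QuotientGroup.eq_one_iff]
        exact inv_mem ⟨g, rfl⟩
      rw [h1, one_mul]
  exact Group.isSolvable_of_surjective hsurj

end outSolvB

end Cfsg.Agent.Lib.helper23
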