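import Mathlib
import Cfsg.Agent.Lib.helper23.P4S.DefsC
import Cfsg.Agent.Lib.helper23.P4CSL5
import Cfsg.Agent.Lib.Helper25.P4COUT1
import Cfsg.Agent.Lib.Helper28.P4COUT2
import Cfsg.Agent.Lib.helper4.P4CFIXV

set_option autoImplicit false

/-!
# Project P4C (designer helper23), row OUT4 (`outer_ss`), written by helper23 (second writer).
-/

namespace Cfsg.Agent.Lib.helper23.P4S

open Matrix

/-- OUT4, second copy (the verbatim name is in Helper21/P4COUT4.lean) -/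
theorem outer_ss_h23 {E : Type} [Field E] [Fintype E] (p : ℕ) [Fact p.Prime] [CharP E p] (hp : p ≠ 2) (n : ℕ) (hn : 1 ≤ n)
    (hE : Fintype.card E = p ^ (2 * n)) (A : Matrix.SpecialLinearGroup (Fin 2) E)
    (htr : (A * Matrix.SpecialLinearGroup.map (frq E p n) A).1.trace ^ 2 ≠ 4) :
    orderOf (rho2 (frq E p n) A * Tgl) = Nat.lcm (orderOf (A * Matrix.SpecialLinearGroup.map (frq E p n) A)) 2 ∧
      (orderOf (A * Matrix.SpecialLinearGroup.map (frq E p n) A) ∣ p ^ n - 1 ∨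
        orderOf (A * Matrix.SpecialLinearGroup.map (frq E p n) A) ∣ p ^ n + 1) ∧
      gsum ((rho2 (frq E p n) A * Tgl : GL (Fin 2 × Fin 2) E) : Matrix (Fin 2 × Fin 2) (Fin 2 × Fin 2) E)
        (orderOf (rho2 (frq E p n) A * Tgl)) ≠ 0 := by
  classical
  have hpp : p.Prime := Fact.out
  have hφ : ∀ x : E, frq E p n (frq E p n x) = x := by
    intro x
    rw [frq_apply, frq_apply, ← pow_mul, ← pow_add, ← two_mul, ← hE]
    exact FiniteField.pow_card x
  have h2 : (2 : E) ≠ 0 := by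
    intro h
    have h3 : ((2 : ℕ) : E) = 0 := by exact_mod_cast h
    rw [CharP.cast_eq_zero_iff E p] at h3
    exact hp ((Nat.prime_dvd_prime_iff_eq hpp Nat.prime_two).1 h3)
  obtain ⟨hsq, htrfix⟩ := outer_sq (frq E p n) hφ A
  obtain ⟨r, hr0, hr2, hrB, -, hpow, -, hfix⟩ :=
    rho2_ss p n hn hE (A * Matrix.SpecialLinearGroup.map (frq E p n) A) htr
  have hodd : Odd (p ^ n) := (hpp.odd_of_ne_two hp).pow
  have hgcd : Nat.gcd 2 (p ^ n - 1) = 2 := by
    obtain ⟨k, hk⟩ := hodd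
    have : p ^ n - 1 = 2 * k := by omega
    rw [this]
    exact Nat.gcd_mul_right_right k 2
  rw [hgcd] at hpow
  have heven := outer_even h2 (frq E p n) A
  have hrq := hfix htrfix
  set y : GL (Fin 2 × Fin 2) E := rho2 (frq E p n) A * Tgl with hy
  have hypow : ∀ k : ℕ, y ^ (2 * k) = 1 ↔ r ∣ 2 * k := by
    intro k
    rw [pow_mul, pow_two, hsq]
    exact hpow k
  have hord : orderOf y = Nat.lcm r 2 := by
    apply Nat.dvd_antisymm
    · apply orderOf_dvd_of_pow_eq_one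
      obtain ⟨k1, hk1⟩ := Nat.dvd_lcm_right r 2
      rw [hk1, hypow, ← hk1]
      exact Nat.dvd_lcm_left r 2
    · apply Nat.lcm_dvd
      · obtain ⟨m, hm⟩ := heven
        have hm2 : orderOf y = 2 * m := by rw [hm]; ring
        rw [hm2, ← hypow, ← hm2]
        exact pow_orderOf_eq_one y
      · exact heven.two_dvd
  have hq1 : 1 ≤ p ^ n := Nat.one_le_pow _ _ hpp.pos
  have hdvd : Nat.lcm r 2 ∣ p ^ n - 1 ∨ Nat.lcm r 2 ∣ p ^ n + 1 := by
    obtain ⟨k, hk⟩ := hodd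
    rcases hrq with h | h
    · exact Or.inl (Nat.lcm_dvd h ⟨k, by omega⟩)
    · exact Or.inr (Nat.lcm_dvd h ⟨k + 1, by omega⟩)
  refine ⟨by rw [hrB]; exact hord, by rw [hrB]; exact hrq, ?_⟩
  obtain ⟨v, hv, hfixv⟩ := outer_fix h2 (frq E p n) A
  have hval : ((y : GL (Fin 2 × Fin 2) E) : Matrix (Fin 2 × Fin 2) (Fin 2 × Fin 2) E) =
      rho2M (frq E p n) A.1 * tauM := by
    rw [hy, Units.val_mul, rho2_coe, Tgl_coe]
  rw [hval]
  apply gsum_fix _ v hv hfixv
  rw [hord]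
  intro h0
  rw [CharP.cast_eq_zero_iff E p] at h0
  have hpq : p ∣ p ^ n := dvd_pow_self p (by omega)
  rcases hdvd with h | h
  · have h1 : p ∣ p ^ n - 1 := dvd_trans h0 h
    have : p ∣ 1 := by
      have h3 := Nat.dvd_sub hpq h1
      rwa [Nat.sub_sub_self hq1] at h3
    exact hpp.one_lt.ne' (Nat.dvd_one.1 this)
  · have h1 : p ∣ p ^ n + 1 := dvd_trans h0 h
    have : p ∣ 1 := (Nat.dvd_add_right hpq).1 h1
    exact hpp.one_lt.ne' (Nat.dvd_one.1 this)

end Cfsg.Agent.Lib.helper23.P4S
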