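import Mathlib

set_option autoImplicit false

namespace Cfsg.Agent.Lib.helper23

open scoped Pointwise

universe u

section pcover

variable (p : ℕ) {G : Type*} [Group G]

/-- the subgroup generated by the `p`-elements of `H` -/
def pCore (H : Subgroup G) : Subgroup G :=
  Subgroup.closure {g : G | g ∈ H ∧ ∃ k : ℕ, orderOf g = p ^ k}

theorem pCore_le (H : Subgroup G) : pCore p H ≤ H :=
  (Subgroup.closure_le H).mpr fun _ hg => hg.1

theorem pCore_mono {H H' : Subgroup G} (h : H ≤ H') : pCore p H ≤ pCore p H' :=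
  Subgroup.closure_mono fun _ hg => ⟨h hg.1, hg.2⟩

/-- `H` is generated by its `p`-elements -/
def PGen (H : Subgroup G) : Prop := H ≤ pCore p H

theorem PGen.sup {H H' : Subgroup G} (h : PGen p H) (h' : PGen p H') : PGen p (H ⊔ H') :=
  sup_le (le_trans h (pCore_mono p le_sup_left)) (le_trans h' (pCore_mono p le_sup_right))

theorem pGen_zpowers {g : G} (hg : ∃ k : ℕ, orderOf g = p ^ k) :
    PGen p (Subgroup.zpowers g) := by
  unfold PGen
  rw [Subgroup.zpowers_le]
  exact Subgroup.subset_closure ⟨Subgroup.mem_zpowers g, hg⟩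

theorem pGen_of_isPGroup [Fact p.Prime] {P : Subgroup G} (hP : IsPGroup p P) : PGen p P := by
  intro g hg
  obtain ⟨k, hk⟩ := IsPGroup.iff_orderOf.mp hP ⟨g, hg⟩
  refine Subgroup.subset_closure ⟨hg, k, ?_⟩
  rw [← hk, ← Subgroup.orderOf_coe]

theorem pGen_smul (c : MulAut G) {H : Subgroup G} (h : PGen p H) : PGen p (c • H) := by
  unfold PGen pCore at *
  calc c • H ≤ c • Subgroup.closure {g : G | g ∈ H ∧ ∃ k : ℕ, orderOf g = p ^ k} :=
        Subgroup.pointwise_smul_le_pointwise_smul_iff.mpr h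
    _ = Subgroup.closure (c • {g : G | g ∈ H ∧ ∃ k : ℕ, orderOf g = p ^ k}) :=
        Subgroup.smul_closure c _
    _ ≤ _ := by
      apply Subgroup.closure_mono
      rintro _ ⟨g, ⟨hg, k, hk⟩, rfl⟩
      refine ⟨Subgroup.smul_mem_pointwise_smul g c H hg, k, ?_⟩
      rw [← hk]
      exact MulEquiv.orderOf_eq c g

theorem smul_ne_top (c : MulAut G) {H : Subgroup G} (h : H ≠ ⊤) : c • H ≠ ⊤ := by
  intro hc
  apply h
  rw [eq_top_iff]
  have : (⊤ : Subgroup G) ≤ c • H := hc.ge
  rw [Subgroup.subset_pointwise_smul_iff] at this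
  intro x _
  apply this
  rw [Subgroup.mem_pointwise_smul_iff_inv_smul_mem]
  exact Subgroup.mem_top _

/-- a finite `p`-group is not the union of at most `p` proper subgroups -/
theorem pgroup_cover [Finite G] [hp : Fact p.Prime] (hG : IsPGroup p G)
    (S : Finset (Subgroup G)) (hS : ∀ K ∈ S, K ≠ ⊤) (hcov : ∀ g : G, ∃ K ∈ S, g ∈ K) :
    p + 1 ≤ S.card := by
  classical
  by_contra hlt
  have hle : S.card ≤ p := by omega
  have _ : Fintype G := Fintype.ofFinite G
  set N := Nat.card G with hN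
  have hKp : ∀ K ∈ S, Nat.card K * p ≤ N := by
    intro K hK
    obtain ⟨n, hn⟩ := hG.index K
    have hn0 : n ≠ 0 := by
      rintro rfl
      rw [pow_zero, Subgroup.index_eq_one] at hn
      exact hS K hK hn
    have hpd : p ∣ K.index := by rw [hn]; exact dvd_pow_self p hn0
    have hpos : 0 < K.index := Nat.pos_of_ne_zero Subgroup.index_ne_zero_of_finite
    calc Nat.card K * p ≤ Nat.card K * K.index :=
          Nat.mul_le_mul_left _ (Nat.le_of_dvd hpos hpd)
      _ = N := K.card_mul_index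
  obtain ⟨K₀, hK₀, -⟩ := hcov 1
  have hpN : p ≤ N := by
    have h0 := hKp K₀ hK₀
    have h1 : 1 ≤ Nat.card K₀ := Nat.card_pos
    nlinarith
  let t : Subgroup G → Finset G := fun K => (Finset.univ.filter (· ∈ K)).erase 1
  have hsub : (Finset.univ.erase (1 : G)) ⊆ S.biUnion t := by
    intro g hg
    obtain ⟨K, hK, hgK⟩ := hcov g
    rw [Finset.mem_biUnion]
    refine ⟨K, hK, ?_⟩
    rw [Finset.mem_erase] at hg ⊢
    exact ⟨hg.1, Finset.mem_filter.mpr ⟨Finset.mem_univ _, hgK⟩⟩
  have hcardt : ∀ K : Subgroup G, (t K).card = Nat.card K - 1 := by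
    intro K
    rw [Finset.card_erase_of_mem (Finset.mem_filter.mpr ⟨Finset.mem_univ _, K.one_mem⟩)]
    congr 1
    rw [Nat.card_eq_fintype_card, Fintype.card_subtype]
  have h1 : N - 1 ≤ ∑ K ∈ S, (Nat.card K - 1) := by
    calc N - 1 = (Finset.univ.erase (1 : G)).card := by
          rw [Finset.card_erase_of_mem (Finset.mem_univ _), Finset.card_univ, hN,
            Nat.card_eq_fintype_card]
      _ ≤ (S.biUnion t).card := Finset.card_le_card hsub
      _ ≤ ∑ K ∈ S, (t K).card := Finset.card_biUnion_le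
      _ = _ := Finset.sum_congr rfl fun K _ => hcardt K
  have h2 : p * (∑ K ∈ S, (Nat.card K - 1)) ≤ S.card * (N - p) := by
    rw [Finset.mul_sum, ← smul_eq_mul, ← Finset.sum_const]
    apply Finset.sum_le_sum
    intro K hK
    have h0 := hKp K hK
    have h1 : 1 ≤ Nat.card K := Nat.card_pos
    apply Nat.le_sub_of_add_le
    calc p * (Nat.card K - 1) + p = p * (Nat.card K - 1 + 1) := by ring
      _ = p * Nat.card K := by rw [Nat.sub_add_cancel h1]
      _ ≤ N := by rw [mul_comm]; exact h0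
  have h3 : p * (N - 1) ≤ p * (N - p) :=
    calc p * (N - 1) ≤ p * (∑ K ∈ S, (Nat.card K - 1)) := Nat.mul_le_mul_left _ h1
      _ ≤ S.card * (N - p) := h2
      _ ≤ p * (N - p) := Nat.mul_le_mul_right _ hle
  have hp2 := hp.out.two_le
  have h4 : N - 1 ≤ N - p := Nat.le_of_mul_le_mul_left h3 hp.out.pos
  omega


theorem mem_normalizer_of_conj_smul_eq {g : G} {H : Subgroup G} (h : MulAut.conj g • H = H) :
    g ∈ Subgroup.normalizer (H : Set G) := by
  rw [Subgroup.mem_normalizer_iff]
  intro x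
  rw [← MulAut.conj_apply, ← MulAut.smul_def]
  conv_rhs => rw [← h]
  exact Subgroup.smul_mem_pointwise_smul_iff.symm

end pcover


section main

open Subgroup

/-- Covering the `p`-elements of a group generated by its `p`-elements needs at least `p + 1`
proper subgroups (Finset form, by induction on the order). -/
theorem pcover_aux (p : ℕ) [hp : Fact p.Prime] : ∀ (n : ℕ) (G : Type u) [Group G] [Finite G],
    Nat.card G = n →
    Subgroup.closure {g : G | ∃ k : ℕ, orderOf g = p ^ k} = ⊤ →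
    ∀ S : Finset (Subgroup G), (∀ K ∈ S, K ≠ ⊤) →
    (∀ g : G, (∃ k : ℕ, orderOf g = p ^ k) → ∃ K ∈ S, g ∈ K) →
    p + 1 ≤ S.card := by
  intro n
  induction n using Nat.strong_induction_on with
  | _ n ih =>
  intro G _ _ hn hgen S hS hcov
  classical
  by_contra hlt
  have hle : S.card ≤ p := by omega
  have star : ∀ H : Subgroup G, H ≠ ⊤ → PGen p H → ∃ K ∈ S, H ≤ K := by
    intro H hH hgenH
    by_contra hno
    push Not at hno
    have hcardlt : Nat.card H < n := by
      rw [← hn]
      exact lt_of_le_of_ne (Subgroup.card_le_card_group H)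
        (fun h => hH ((Subgroup.card_eq_iff_eq_top H).mp h))
    have hgenH' : Subgroup.closure {g : H | ∃ k : ℕ, orderOf g = p ^ k} = ⊤ := by
      apply Subgroup.map_injective H.subtype_injective
      rw [MonoidHom.map_closure, ← MonoidHom.range_eq_map, Subgroup.range_subtype]
      apply le_antisymm
      · rw [Subgroup.closure_le]
        rintro _ ⟨g, -, rfl⟩
        exact g.2
      · refine le_trans hgenH (Subgroup.closure_mono ?_)
        rintro g ⟨hg, k, hk⟩
        exact ⟨⟨g, hg⟩, ⟨k, by rw [← hk, ← Subgroup.orderOf_coe]⟩, rfl⟩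
    have h1 := ih (Nat.card H) hcardlt H rfl hgenH' (S.image fun K => K.subgroupOf H) ?_ ?_
    · have h2 := Finset.card_image_le (s := S) (f := fun K => K.subgroupOf H)
      omega
    · intro K' hK'
      obtain ⟨K, hK, rfl⟩ := Finset.mem_image.mp hK'
      rw [Ne, Subgroup.subgroupOf_eq_top]
      exact hno K hK
    · rintro g ⟨k, hk⟩
      obtain ⟨K, hK, hgK⟩ := hcov (g : G) ⟨k, by rw [Subgroup.orderOf_coe, hk]⟩
      exact ⟨K.subgroupOf H, Finset.mem_image_of_mem _ hK, Subgroup.mem_subgroupOf.mpr hgK⟩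
  let Q : Subgroup G → Prop := fun H => H ≠ ⊤ ∧ PGen p H
  have hφ : ∀ H : Subgroup G, ∃ K : Subgroup G, Q H → K ∈ S ∧ H ≤ K := by
    intro H
    by_cases hQ : Q H
    · obtain ⟨K, hK, hHK⟩ := star H hQ.1 hQ.2
      exact ⟨K, fun _ => ⟨hK, hHK⟩⟩
    · exact ⟨⊥, fun h => absurd h hQ⟩
  choose φ hφ using hφ
  have hinj : ∀ M₁ M₂ : Subgroup G, Maximal Q M₁ → Maximal Q M₂ → φ M₁ = φ M₂ → M₁ = M₂ := by
    intro M₁ M₂ h₁ h₂ he
    obtain ⟨hK₁, hle₁⟩ := hφ M₁ h₁.prop
    obtain ⟨hK₂, hle₂⟩ := hφ M₂ h₂.prop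
    have hsup : M₁ ⊔ M₂ ≤ φ M₁ := sup_le hle₁ (he ▸ hle₂)
    have hQs : Q (M₁ ⊔ M₂) :=
      ⟨fun h => hS _ hK₁ (top_le_iff.mp (h ▸ hsup)), h₁.prop.2.sup p h₂.prop.2⟩
    exact le_antisymm (le_trans le_sup_left (h₂.le_of_ge hQs le_sup_right))
      (le_trans le_sup_right (h₁.le_of_ge hQs le_sup_left))
  have hcardT : ∀ T : Finset (Subgroup G), (∀ M ∈ T, Maximal Q M) → T.card ≤ p := by
    intro T hT
    refine le_trans (Finset.card_le_card_of_injOn φ ?_ ?_) hle
    · intro M hM
      exact (hφ M (hT M hM).prop).1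
    · intro M₁ h₁ M₂ h₂ he
      exact hinj M₁ M₂ (hT M₁ h₁) (hT M₂ h₂) he
  have hQsmul : ∀ (c : MulAut G) (H : Subgroup G), Q H → Q (c • H) :=
    fun c H h => ⟨smul_ne_top c h.1, pGen_smul p c h.2⟩
  have hmaxsmul : ∀ (c : MulAut G) (M : Subgroup G), Maximal Q M → Maximal Q (c • M) := by
    intro c M hM
    refine ⟨hQsmul c M hM.prop, fun Y hY hle => ?_⟩
    rw [Subgroup.pointwise_smul_subset_iff] at hle
    have h1 := hM.le_of_ge (hQsmul c⁻¹ Y hY) hle
    rwa [Subgroup.pointwise_smul_subset_iff, inv_inv] at h1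
  have hexM : ∀ g : G, (∃ k : ℕ, orderOf g = p ^ k) → ∃ M, Maximal Q M ∧ g ∈ M := by
    intro g hg
    obtain ⟨K, hK, hgK⟩ := hcov g hg
    have hQz : Q (Subgroup.zpowers g) := by
      refine ⟨fun h => hS K hK ?_, pGen_zpowers p hg⟩
      rw [eq_top_iff, ← h, Subgroup.zpowers_le]
      exact hgK
    obtain ⟨M, hle, hM⟩ := Finite.exists_le_maximal hQz
    exact ⟨M, hM, hle (Subgroup.mem_zpowers g)⟩
  have hnorm : ∀ M, Maximal Q M → ∀ g : G, (∃ k : ℕ, orderOf g = p ^ k) →
      MulAut.conj g • M = M := by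
    intro M hM g hg
    by_contra hne
    obtain ⟨M₀, hM₀, hgM₀⟩ := hexM g hg
    let f : ℕ → Subgroup G := fun j => MulAut.conj (g ^ j) • M
    have key : ∀ i j : ℕ, i < j → j < p → f i ≠ f j := by
      intro i j hij hjp he
      apply hne
      have hd : MulAut.conj (g ^ (j - i)) • M = M := by
        have h1 : g ^ j = g ^ i * g ^ (j - i) := by
          rw [← pow_add]
          congr 1
          omega
        simp only [f] at he
        rw [h1, map_mul, mul_smul] at he
        exact (smul_left_cancel _ he).symm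
      obtain ⟨k, hk⟩ := hg
      have hcop : (j - i).Coprime (orderOf g) := by
        rw [hk]
        apply Nat.Coprime.pow_right
        rw [Nat.coprime_comm]
        exact (Nat.Prime.coprime_iff_not_dvd hp.out).mpr
          (Nat.not_dvd_of_pos_of_lt (by omega) (by omega))
      obtain ⟨m, hm⟩ := exists_pow_eq_self_of_coprime hcop
      have hstab : MulAut.conj (g ^ (j - i)) ∈ MulAction.stabilizer (MulAut G) M := hd
      have h2 := Subgroup.pow_mem _ hstab m
      rw [← map_pow, hm] at h2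
      exact h2
    have hfinj : Set.InjOn f (Finset.range p : Set ℕ) := by
      intro i hi j hj he
      by_contra hij
      rcases Nat.lt_or_gt_of_ne hij with h | h
      · exact key i j h (Finset.mem_range.mp hj) he
      · exact key j i h (Finset.mem_range.mp hi) he.symm
    have hM₀T : M₀ ∉ (Finset.range p).image f := by
      intro h
      obtain ⟨j, -, hj⟩ := Finset.mem_image.mp h
      have h1 : MulAut.conj (g ^ j) • M₀ = M₀ :=
        Subgroup.conj_smul_eq_self_of_mem (Subgroup.pow_mem _ hgM₀ j)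
      have h2 : M = M₀ := by
        have h3 : MulAut.conj (g ^ j) • M = MulAut.conj (g ^ j) • M₀ := by
          rw [h1]
          exact hj
        exact smul_left_cancel _ h3
      apply hne
      rw [h2]
      exact Subgroup.conj_smul_eq_self_of_mem hgM₀
    have hTcard : (insert M₀ ((Finset.range p).image f)).card = p + 1 := by
      rw [Finset.card_insert_of_notMem hM₀T, Finset.card_image_of_injOn hfinj, Finset.card_range]
    have h4 := hcardT (insert M₀ ((Finset.range p).image f)) ?_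
    · omega
    · intro M' hM'
      rcases Finset.mem_insert.mp hM' with rfl | h
      · exact hM₀
      · obtain ⟨j, -, rfl⟩ := Finset.mem_image.mp h
        exact hmaxsmul _ M hM
  have hnormal : ∀ M, Maximal Q M → M.Normal := by
    intro M hM
    rw [← Subgroup.normalizer_eq_top_iff, eq_top_iff, ← hgen, Subgroup.closure_le]
    intro g hg
    exact mem_normalizer_of_conj_smul_eq (hnorm M hM g hg)
  let P : Sylow p G := default
  by_cases hPtop : (P : Subgroup G) = ⊤
  · have hG : IsPGroup p G := by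
      rw [IsPGroup.iff_orderOf]
      intro g
      obtain ⟨k, hk⟩ := IsPGroup.iff_orderOf.mp P.isPGroup' ⟨g, hPtop ▸ Subgroup.mem_top g⟩
      exact ⟨k, by rw [← hk, ← Subgroup.orderOf_coe]⟩
    have hcov' : ∀ g : G, ∃ K ∈ S, g ∈ K := fun g => hcov g (IsPGroup.iff_orderOf.mp hG g)
    exact hlt (pgroup_cover p hG S hS hcov')
  · have hQP : Q (P : Subgroup G) := ⟨hPtop, pGen_of_isPGroup p P.isPGroup'⟩
    obtain ⟨M, hPM, hM⟩ := Finite.exists_le_maximal hQP
    have hMn := hnormal M hM
    apply hM.prop.1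
    rw [eq_top_iff, ← hgen, Subgroup.closure_le]
    rintro g ⟨k, hk⟩
    have hz : IsPGroup p (Subgroup.zpowers g) :=
      IsPGroup.of_card (n := k) (by rw [Nat.card_zpowers, hk])
    obtain ⟨P', hP'⟩ := hz.exists_le_sylow
    obtain ⟨c, hc⟩ := MulAction.exists_smul_eq G P P'
    have h5 : (P' : Subgroup G) ≤ M := by
      rw [← hc, Sylow.coe_subgroup_smul, ← hMn.conj_smul_eq_self c]
      exact Subgroup.pointwise_smul_le_pointwise_smul_iff.mpr hPM
    exact h5 (hP' (Subgroup.mem_zpowers g))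

/-- Covering the `p`-elements of a group generated by its `p`-elements needs at least `p + 1`
proper subgroups. -/
theorem pcover_card {G : Type*} [Group G] [Finite G] (p : ℕ) [Fact p.Prime]
    (hgen : Subgroup.closure {g : G | ∃ k : ℕ, orderOf g = p ^ k} = ⊤)
    {ι : Type*} [Fintype ι] (K : ι → Subgroup G) (hK : ∀ i, K i ≠ ⊤)
    (hcov : ∀ g : G, (∃ k : ℕ, orderOf g = p ^ k) → ∃ i, g ∈ K i) :
    p + 1 ≤ Fintype.card ι := by
  classical
  have h := pcover_aux p (Nat.card G) G rfl hgen (Finset.univ.image K) ?_ ?_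
  · exact le_trans h (le_trans Finset.card_image_le (le_of_eq Finset.card_univ))
  · intro K' hK'
    obtain ⟨i, -, rfl⟩ := Finset.mem_image.mp hK'
    exact hK i
  · intro g hg
    obtain ⟨i, hi⟩ := hcov g hg
    exact ⟨K i, Finset.mem_image_of_mem _ (Finset.mem_univ i), hi⟩

end main

end Cfsg.Agent.Lib.helper23
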