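import Mathlib
import Cfsg.Agent.Lib.Helper1.MinNormal
import Cfsg.Agent.Lib.Helper1.Hall
import Cfsg.Agent.S0050
import Cfsg.Agent.Lib.helper23.SylowQuot
import Cfsg.Agent.Lib.helper23.PCover

set_option autoImplicit false

namespace Cfsg.Agent.Lib.helper23

open scoped Pointwise

universe u

/-- every maximal subgroup has a normal `2`-complement or has prime index -/
def MaxHyp2 (G : Type*) [Group G] : Prop :=
  ∀ M : Subgroup G, IsCoatom M →
    (∃ K : Subgroup ↥M, K.Normal ∧ ¬ 2 ∣ Nat.card K ∧ ∃ k : ℕ, K.index = 2 ^ k) ∨ (M.index).Prime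

/-- a normal series of type (odd, 2, odd, 2) -/
def Chain2 (G : Type*) [Group G] : Prop :=
  ∃ A B C : Subgroup G, A.Normal ∧ B.Normal ∧ C.Normal ∧ A ≤ B ∧ B ≤ C ∧ Odd (Nat.card A) ∧
    (∃ k : ℕ, A.relIndex B = 2 ^ k) ∧ Odd (B.relIndex C) ∧ ∃ k : ℕ, C.index = 2 ^ k

theorem isCoatom_comap_of_surjective {G H : Type*} [Group G] [Group H] {f : G →* H}
    (hf : Function.Surjective f) {M : Subgroup H} (hM : IsCoatom M) : IsCoatom (M.comap f) := by
  constructor
  · intro h
    apply hM.1
    rw [← Subgroup.map_comap_eq_self_of_surjective hf M, h, ← MonoidHom.range_eq_map,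
      MonoidHom.range_eq_top.mpr hf]
  · intro L hL
    have hker : f.ker ≤ L := le_trans (Subgroup.ker_le_comap f M) hL.le
    have h1 : M < L.map f := by
      refine lt_of_le_of_ne ?_ ?_
      · rw [← Subgroup.map_comap_eq_self_of_surjective hf M]
        exact Subgroup.map_mono hL.le
      · intro h
        apply hL.not_ge
        rw [h, Subgroup.comap_map_eq_self hker]
    have h2 := hM.2 _ h1
    rw [← Subgroup.comap_map_eq_self hker, h2, Subgroup.comap_top]

theorem maxHyp2_quotient {G : Type*} [Group G] [Finite G] (N : Subgroup G) [N.Normal]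
    (h : MaxHyp2 G) : MaxHyp2 (G ⧸ N) := by
  intro M hM
  have hsurj : Function.Surjective (QuotientGroup.mk' N) := QuotientGroup.mk'_surjective N
  rcases h (M.comap (QuotientGroup.mk' N)) (isCoatom_comap_of_surjective hsurj hM) with
    ⟨K, hKn, hKodd, k, hk⟩ | hp
  · left
    have hs' := MonoidHom.subgroupComap_surjective_of_surjective (QuotientGroup.mk' N) M hsurj
    refine ⟨K.map ((QuotientGroup.mk' N).subgroupComap M), hKn.map _ hs', ?_, ?_⟩
    · intro h2
      exact hKodd (dvd_trans h2 (Subgroup.card_map_dvd K _))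
    · have hd := Subgroup.index_map_dvd K hs'
      rw [hk] at hd
      obtain ⟨j, -, hj⟩ := (Nat.dvd_prime_pow Nat.prime_two).mp hd
      exact ⟨j, hj⟩
  · right
    rwa [Subgroup.index_comap_of_surjective M hsurj] at hp

/-- pulling back a chain along a surjection -/
theorem chain_comap {G Q : Type*} [Group G] [Group Q] [Finite G] (f : G →* Q)
    (hf : Function.Surjective f) (A B C : Subgroup Q) (hA : A.Normal) (hB : B.Normal)
    (hC : C.Normal) (hAB : A ≤ B) (hBC : B ≤ C) :
    (A.comap f).Normal ∧ (B.comap f).Normal ∧ (C.comap f).Normal ∧ A.comap f ≤ B.comap f ∧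
      B.comap f ≤ C.comap f ∧ Nat.card (A.comap f) = Nat.card f.ker * Nat.card A ∧
      (A.comap f).relIndex (B.comap f) = A.relIndex B ∧
      (B.comap f).relIndex (C.comap f) = B.relIndex C ∧ (C.comap f).index = C.index := by
  refine ⟨hA.comap f, hB.comap f, hC.comap f, Subgroup.comap_mono hAB, Subgroup.comap_mono hBC,
    ?_, ?_, ?_, Subgroup.index_comap_of_surjective C hf⟩
  · have h1 : f.ker ≤ A.comap f := Subgroup.ker_le_comap f A
    have h2 := Subgroup.relIndex_mul_relIndex ⊥ f.ker (A.comap f) bot_le h1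
    rw [Subgroup.relIndex_bot_left, Subgroup.relIndex_bot_left] at h2
    rw [← h2]
    congr 1
    have h3 : f.ker = (⊥ : Subgroup Q).comap f := rfl
    rw [h3, Subgroup.relIndex_comap, Subgroup.map_comap_eq_self_of_surjective hf,
      Subgroup.relIndex_bot_left]
  · rw [Subgroup.relIndex_comap, Subgroup.map_comap_eq_self_of_surjective hf]
  · rw [Subgroup.relIndex_comap, Subgroup.map_comap_eq_self_of_surjective hf]

theorem le_center_of_normal_of_card_two {G : Type*} [Group G] (N : Subgroup G) [hN : N.Normal]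
    (h2 : Nat.card N = 2) : N ≤ Subgroup.center G := by
  intro z hz
  rw [Subgroup.mem_center_iff]
  intro g
  by_cases hz1 : z = 1
  · rw [hz1, mul_one, one_mul]
  obtain ⟨y, -, hy⟩ := (Nat.card_eq_two_iff' (1 : N)).mp h2
  have h1 : (⟨z, hz⟩ : N) = y := hy _ (fun h => hz1 (congrArg Subtype.val h))
  have hc : g * z * g⁻¹ ∈ N := hN.conj_mem z hz g
  have h3 : (⟨g * z * g⁻¹, hc⟩ : N) = y := by
    apply hy
    intro h
    apply hz1
    have h4 : g * z * g⁻¹ = 1 := congrArg Subtype.val h
    have h5 : z = g⁻¹ * (g * z * g⁻¹) * g := by group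
    rw [h5, h4]
    group
  have h6 : g * z * g⁻¹ = z := congrArg Subtype.val (h3.trans h1.symm)
  calc g * z = g * z * g⁻¹ * g := by group
    _ = z * g := by rw [h6]

theorem chain2_aux : ∀ (n : ℕ) (G : Type u) [Group G] [Finite G], Nat.card G = n →
    Group.IsSolvable G → MaxHyp2 G → Chain2 G := by
  intro n
  induction n using Nat.strong_induction_on with
  | _ n ih =>
  intro G _ _ hn hsolv hmax
  by_cases htriv : Subsingleton G
  · refine ⟨⊥, ⊥, ⊥, inferInstance, inferInstance, inferInstance, le_rfl, le_rfl, ?_, ⟨0, ?_⟩, ?_,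
      ⟨0, ?_⟩⟩
    · rw [Subgroup.card_bot]
      exact odd_one
    · rw [Subgroup.relIndex_self, pow_zero]
    · rw [Subgroup.relIndex_self]
      exact odd_one
    · rw [Subgroup.index_bot, pow_zero]
      exact Nat.card_eq_one_iff_unique.mpr ⟨htriv, ⟨1⟩⟩
  have hnt : Nontrivial G := not_subsingleton_iff_nontrivial.mp htriv
  obtain ⟨N, hNn, hN0, hNmin⟩ := Cfsg.Agent.Lib.Helper1.exists_minimal_normal (G := G)
  obtain ⟨hNcomm, r, hr, hNr⟩ := Cfsg.Agent.Lib.Helper1.minimal_normal_of_solvable N hN0 hNmin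
  have hrf : Fact r.Prime := ⟨hr⟩
  have hNp : IsPGroup r N := fun x =>
    ⟨1, by rw [pow_one]; exact Subtype.ext (by simpa using hNr x x.2)⟩
  obtain ⟨e, he⟩ := IsPGroup.iff_card.mp hNp
  have hcardQ : Nat.card (G ⧸ N) < n := by
    rw [← hn, ← Subgroup.index_eq_card, ← N.card_mul_index]
    have h1 : 1 < Nat.card N := (Subgroup.one_lt_card_iff_ne_bot N).mpr hN0
    have h2 : 0 < N.index := Nat.pos_of_ne_zero Subgroup.index_ne_zero_of_finite
    nlinarith
  obtain ⟨A', B', C', hA', hB', hC', hAB', hBC', hAodd, ⟨k1, hk1⟩, hBCodd, ⟨k2, hk2⟩⟩ :=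
    ih _ hcardQ (G ⧸ N) rfl inferInstance (maxHyp2_quotient N hmax)
  obtain ⟨hA1, hB1, hC1, hAB1, hBC1, hcA1, hrAB, hrBC, hiC⟩ :=
    chain_comap (QuotientGroup.mk' N) (QuotientGroup.mk'_surjective N) A' B' C' hA' hB' hC'
      hAB' hBC'
  rw [QuotientGroup.ker_mk', he] at hcA1
  have hNA1 : N ≤ A'.comap (QuotientGroup.mk' N) := by
    have := Subgroup.ker_le_comap (QuotientGroup.mk' N) A'
    rwa [QuotientGroup.ker_mk'] at this
  by_cases hr2 : r = 2
  swap
  · refine ⟨_, _, _, hA1, hB1, hC1, hAB1, hBC1, ?_, ⟨k1, by rw [hrAB, hk1]⟩, by rwa [hrBC],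
      ⟨k2, by rw [hiC, hk2]⟩⟩
    rw [hcA1]
    exact (hr.odd_of_ne_two hr2).pow.mul hAodd
  subst hr2
  set A₁ := A'.comap (QuotientGroup.mk' N) with hA₁
  set B₁ := B'.comap (QuotientGroup.mk' N) with hB₁
  set C₁ := C'.comap (QuotientGroup.mk' N) with hC₁
  set m := Nat.card A' with hm
  have hmpos : 0 < m := Nat.card_pos
  have hcop : m.Coprime (2 ^ e) := Nat.Coprime.pow_right e (Nat.coprime_two_right.mpr hAodd)
  obtain ⟨H, hH⟩ := Cfsg.Agent.Lib.Helper1.hall_exists (G := ↥A₁) m (2 ^ e)
    (by rw [hcA1, mul_comm]) hcop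
  set K := H.map A₁.subtype with hK
  have hKcard : Nat.card K = m := by
    rw [hK, Subgroup.card_map_of_injective A₁.subtype_injective, hH]
  have hKA : K ≤ A₁ := Subgroup.map_subtype_le H
  have hKrel : K.relIndex A₁ = 2 ^ e := by
    have h1 := Subgroup.relIndex_mul_relIndex ⊥ K A₁ bot_le hKA
    rw [Subgroup.relIndex_bot_left, Subgroup.relIndex_bot_left, hKcard, hcA1, mul_comm] at h1
    exact Nat.eq_of_mul_eq_mul_right hmpos h1
  have hfrat : A₁ ⊔ Subgroup.normalizer (K : Set G) = ⊤ :=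
    Cfsg.Agent.S0050.result A₁ inferInstance K hKA (by rw [hKcard, hKrel]; exact hcop)
  have hKN : K ⊓ N = ⊥ :=
    Cfsg.Agent.Lib.Helper1.inf_eq_bot_of_coprime_card K N (by rw [hKcard, he]; exact hcop)
  have hA1eq : K ⊔ N = A₁ := by
    apply Subgroup.eq_of_le_of_card_ge (sup_le hKA hNA1)
    rw [Cfsg.Agent.Lib.Helper1.card_sup_eq_mul_of_inf_eq_bot K N hKN, hKcard, he, hcA1, mul_comm]
  have hNtop : N ⊔ Subgroup.normalizer (K : Set G) = ⊤ := by
    rw [eq_top_iff, ← hfrat, ← hA1eq]
    exact sup_le (sup_le (le_trans Subgroup.le_normalizer le_sup_right) le_sup_left) le_sup_right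
  have final : Subgroup.normalizer (K : Set G) = ⊤ → Chain2 G := by
    intro hKn
    refine ⟨K, B₁, C₁, Subgroup.normalizer_eq_top_iff.mp hKn, hB1, hC1, le_trans hKA hAB1, hBC1,
      ?_, ⟨e + k1, ?_⟩, by rwa [hrBC], ⟨k2, by rw [hiC, hk2]⟩⟩
    · rw [hKcard]
      exact hAodd
    · rw [← Subgroup.relIndex_mul_relIndex K A₁ B₁ hKA hAB1, hKrel, hrAB, hk1, pow_add]
  by_cases hNF : N ≤ frattini G
  · apply final
    apply frattini_nongenerating
    rw [eq_top_iff, ← hNtop]
    exact sup_le (le_trans hNF le_sup_right) le_sup_left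
  have hexM : ∃ M : Subgroup G, IsCoatom M ∧ ¬ N ≤ M := by
    by_contra hno
    push Not at hno
    apply hNF
    unfold frattini Order.radical
    exact le_iInf₂ fun M hM => hno M hM
  obtain ⟨M, hM, hNM⟩ := hexM
  have hMN : M ⊔ N = ⊤ := hM.2 _ (lt_of_le_of_ne le_sup_left (fun h => hNM (h ▸ le_sup_right)))
  have hinfn : (N ⊓ M).Normal := by
    rw [← Subgroup.normalizer_eq_top_iff, eq_top_iff, ← hMN]
    have hNcomm' : ∀ a ∈ N, ∀ b ∈ N, a * b = b * a := by
      intro a ha b hb
      exact congrArg Subtype.val (hNcomm.is_comm.comm ⟨a, ha⟩ ⟨b, hb⟩)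
    refine sup_le ?_ ?_
    · intro x hx
      rw [Subgroup.mem_normalizer_iff]
      intro h
      constructor
      · intro hh
        exact ⟨hNn.conj_mem h hh.1 x, M.mul_mem (M.mul_mem hx hh.2) (M.inv_mem hx)⟩
      · intro hh
        have h1 : h = x⁻¹ * (x * h * x⁻¹) * x⁻¹⁻¹ := by group
        rw [h1]
        exact ⟨hNn.conj_mem _ hh.1 x⁻¹, M.mul_mem (M.mul_mem (M.inv_mem hx) hh.2)
          (M.inv_mem (M.inv_mem hx))⟩
    · intro x hx
      rw [Subgroup.mem_normalizer_iff]
      intro h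
      constructor
      · intro hh
        have h1 : x * h * x⁻¹ = h := by
          rw [hNcomm' x hx h hh.1]
          group
        rw [h1]
        exact hh
      · intro hh
        have hhN : h ∈ N := by
          have h1 : h = x⁻¹ * (x * h * x⁻¹) * x⁻¹⁻¹ := by group
          rw [h1]
          exact hNn.conj_mem _ hh.1 x⁻¹
        have h1 : x * h * x⁻¹ = h := by
          rw [hNcomm' x hx h hhN]
          group
        rw [h1] at hh
        exact hh
  have hNM0 : N ⊓ M = ⊥ := by
    rcases hNmin (N ⊓ M) hinfn inf_le_left with h | h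
    · exact h
    · exact absurd (h ▸ inf_le_right) hNM
  have hcardG : Nat.card G = Nat.card M * Nat.card N := by
    rw [← Cfsg.Agent.Lib.Helper1.card_sup_eq_mul_of_inf_eq_bot M N (by rw [inf_comm]; exact hNM0),
      hMN, Subgroup.card_top]
  have hMpos : 0 < Nat.card M := Nat.card_pos
  rcases hmax M hM with ⟨K', hK'n, hK'odd, k, hk⟩ | hp
  · -- M has a normal 2-complement
    set K'' := K'.map M.subtype with hK''
    have hK''M : K'' ≤ M := Subgroup.map_subtype_le K'
    have hK''card : Nat.card K'' = Nat.card K' := by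
      rw [hK'', Subgroup.card_map_of_injective M.subtype_injective]
    have hMK'' : M ≤ Subgroup.normalizer (K'' : Set G) := by
      rw [← Subgroup.normal_subgroupOf_iff_le_normalizer hK''M, hK'']
      have h1 : (K'.map M.subtype).subgroupOf M = K' := by
        unfold Subgroup.subgroupOf
        exact Subgroup.comap_map_eq_self_of_injective M.subtype_injective K'
      rw [h1]
      exact hK'n
    have hK''N : K'' ⊓ N = ⊥ := by
      rw [eq_bot_iff, ← hNM0]
      exact le_inf inf_le_right (le_trans inf_le_left hK''M)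
    have hCn : (K'' ⊔ N).Normal := by
      rw [← Subgroup.normalizer_eq_top_iff, eq_top_iff, ← hMN]
      exact sup_le (le_trans hMK'' (normalizer_le_normalizer_sup K'' N))
        (le_trans le_sup_right Subgroup.le_normalizer)
    refine ⟨⊥, N, K'' ⊔ N, inferInstance, hNn, hCn, bot_le, le_sup_right, ?_, ⟨e, ?_⟩, ?_, ⟨k, ?_⟩⟩
    · rw [Subgroup.card_bot]
      exact odd_one
    · rw [Subgroup.relIndex_bot_left, he]
    · rw [Subgroup.relIndex_sup_right, ← Subgroup.inf_relIndex_right, inf_comm, hK''N,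
        Subgroup.relIndex_bot_left, hK''card]
      rw [← Nat.not_even_iff_odd, even_iff_two_dvd]
      exact hK'odd
    · have h1 := (K'' ⊔ N).card_mul_index
      rw [Cfsg.Agent.Lib.Helper1.card_sup_eq_mul_of_inf_eq_bot K'' N hK''N, hcardG,
        ← K'.card_mul_index, hk, hK''card] at h1
      have hK'pos : 0 < Nat.card K' := Nat.card_pos
      have hNpos : 0 < Nat.card N := Nat.card_pos
      have h2 : Nat.card K' * Nat.card N * (K'' ⊔ N).index = Nat.card K' * Nat.card N * 2 ^ k := by
        rw [h1]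
        ring
      exact Nat.eq_of_mul_eq_mul_left (Nat.mul_pos hK'pos hNpos) h2
  · -- M has prime index
    apply final
    have hidx : M.index = Nat.card N := by
      have h1 := M.card_mul_index
      rw [hcardG] at h1
      exact Nat.eq_of_mul_eq_mul_left hMpos h1
    rw [hidx, he] at hp
    have he0 : e ≠ 0 := by
      rintro rfl
      rw [pow_zero] at hp
      exact Nat.not_prime_one hp
    have h2 : 2 = 2 ^ e := (Nat.prime_dvd_prime_iff_eq Nat.prime_two hp).mp (dvd_pow_self 2 he0)
    have hN2 : Nat.card N = 2 := by rw [he, ← h2]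
    have hNc : N ≤ Subgroup.center G := le_center_of_normal_of_card_two N hN2
    rw [eq_top_iff, ← hNtop]
    exact sup_le (le_trans hNc (Subgroup.center_le_normalizer _)) le_rfl

end Cfsg.Agent.Lib.helper23
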