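import Mathlib
import Cfsg.Agent.Lib.helper23.TwoLen
import Cfsg.Agent.Lib.Helper5.PConstr
import Cfsg.Agent.Lib.Helper22.SchurZassenhaus
import Cfsg.Agent.Lib.Lead.Coprime
import Cfsg.Agent.S4024
import Cfsg.Agent.S3028
import Cfsg.Agent.S0001

set_option autoImplicit false

namespace Cfsg.Agent.Lib.helper23

open scoped Pointwise

universe u

/-- every maximal subgroup has a normal `p`-complement or has prime index -/
def MaxHypP (p : ℕ) (G : Type*) [Group G] : Prop :=
  ∀ M : Subgroup G, IsCoatom M →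
    (∃ K : Subgroup ↥M, K.Normal ∧ ¬ p ∣ Nat.card K ∧ ∃ k : ℕ, K.index = p ^ k) ∨ (M.index).Prime

/-- a normal series of type (p', p, p', p, p') -/
def Chain5 (p : ℕ) (G : Type*) [Group G] : Prop :=
  ∃ A B C D : Subgroup G, A.Normal ∧ B.Normal ∧ C.Normal ∧ D.Normal ∧ A ≤ B ∧ B ≤ C ∧ C ≤ D ∧
    ¬ p ∣ Nat.card A ∧ (∃ k : ℕ, A.relIndex B = p ^ k) ∧ ¬ p ∣ B.relIndex C ∧
    (∃ k : ℕ, C.relIndex D = p ^ k) ∧ ¬ p ∣ D.index

theorem maxHypP_quotient {p : ℕ} (hp : p.Prime) {G : Type*} [Group G] [Finite G] (N : Subgroup G)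
    [N.Normal] (h : MaxHypP p G) : MaxHypP p (G ⧸ N) := by
  intro M hM
  have hsurj : Function.Surjective (QuotientGroup.mk' N) := QuotientGroup.mk'_surjective N
  rcases h (M.comap (QuotientGroup.mk' N)) (isCoatom_comap_of_surjective hsurj hM) with
    ⟨K, hKn, hKodd, k, hk⟩ | hp'
  · left
    have hs' := MonoidHom.subgroupComap_surjective_of_surjective (QuotientGroup.mk' N) M hsurj
    refine ⟨K.map ((QuotientGroup.mk' N).subgroupComap M), hKn.map _ hs', ?_, ?_⟩
    · intro h2
      exact hKodd (dvd_trans h2 (Subgroup.card_map_dvd K _))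
    · have hd := Subgroup.index_map_dvd K hs'
      rw [hk] at hd
      obtain ⟨j, -, hj⟩ := (Nat.dvd_prime_pow hp).mp hd
      exact ⟨j, hj⟩
  · right
    rwa [Subgroup.index_comap_of_surjective M hsurj] at hp'

theorem relIndex_dvd_relIndex_of_le_right {G : Type*} [Group G] (X K' K : Subgroup G) [X.Normal]
    (h : K' ≤ K) : X.relIndex K' ∣ X.relIndex K := by
  have h1 : (X.subgroupOf K).relIndex (K'.subgroupOf K) ∣ (X.subgroupOf K).index :=
    Subgroup.relIndex_dvd_index_of_normal _ _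
  rwa [Subgroup.relIndex_subgroupOf h] at h1

theorem relIndex_inf_dvd {G : Type*} [Group G] (X Y C : Subgroup G) [X.Normal] (h : X ≤ Y) :
    (X ⊓ C).relIndex (Y ⊓ C) ∣ X.relIndex Y := by
  have h1 : X ⊓ (Y ⊓ C) = X ⊓ C := by
    rw [← inf_assoc, inf_of_le_left h]
  rw [← h1, Subgroup.inf_relIndex_right]
  exact relIndex_dvd_relIndex_of_le_right X (Y ⊓ C) Y inf_le_left

theorem index_inf_dvd_mul {G : Type*} [Group G] (D C : Subgroup G) [C.Normal] :
    (D ⊓ C).index ∣ D.index * C.index := by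
  rw [← Subgroup.relIndex_mul_index (inf_le_left : D ⊓ C ≤ D), Subgroup.inf_relIndex_left, mul_comm]
  exact Nat.mul_dvd_mul_left _ (Subgroup.relIndex_dvd_index_of_normal C D)

/-- the centralizer of a normal subgroup of prime order `p` has index prime to `p` -/
theorem not_dvd_index_centralizer_of_card_prime {G : Type*} [Group G] [Finite G] {p : ℕ}
    (hp : p.Prime) (N : Subgroup G) [N.Normal] (hN : Nat.card N = p) :
    ¬ p ∣ (Subgroup.centralizer (N : Set G)).index := by
  have hpf : Fact p.Prime := ⟨hp⟩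
  have hcyc : IsCyclic N := isCyclic_of_prime_card hN
  have hker : (MulAut.conjNormal (H := N)).ker ≤ Subgroup.centralizer (N : Set G) := by
    intro g hg
    rw [MonoidHom.mem_ker] at hg
    rw [Subgroup.mem_centralizer_iff]
    intro h hh
    have h1 : (MulAut.conjNormal g : MulAut N) ⟨h, hh⟩ = ⟨h, hh⟩ := by rw [hg]; rfl
    have h2 : g * h * g⁻¹ = h := by
      have := congrArg Subtype.val h1
      rwa [MulAut.conjNormal_apply] at this
    calc h * g = g * h * g⁻¹ * g := by rw [h2]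
      _ = g * h := by group
  have h1 : (Subgroup.centralizer (N : Set G)).index ∣ (MulAut.conjNormal (H := N)).ker.index :=
    Subgroup.index_dvd_of_le hker
  have h2 : (MulAut.conjNormal (H := N)).ker.index ∣ Nat.card (MulAut N) := by
    rw [Subgroup.index_ker]
    exact Subgroup.card_subgroup_dvd_card _
  have h3 : Nat.card (MulAut N) = p - 1 := by
    rw [IsCyclic.card_mulAut, hN, Nat.totient_prime hp]
  intro hdvd
  have h4 : p ∣ p - 1 := by
    rw [← h3]
    exact dvd_trans hdvd (dvd_trans h1 h2)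
  have h5 := Nat.le_of_dvd (by have := hp.two_le; omega) h4
  have := hp.two_le
  omega

theorem chain5_aux (p : ℕ) [hpf : Fact p.Prime] : ∀ (n : ℕ) (G : Type u) [Group G] [Finite G],
    Nat.card G = n → Cfsg.IsPSolvable p G → MaxHypP p G → Chain5 p G := by
  intro n
  induction n using Nat.strong_induction_on with
  | _ n ih =>
  intro G _ _ hn hsolv hmax
  have hp : p.Prime := hpf.out
  have hp1 : ¬ p ∣ 1 := Nat.Prime.not_dvd_one hp
  by_cases htriv : Subsingleton G
  · refine ⟨⊥, ⊥, ⊥, ⊥, inferInstance, inferInstance, inferInstance, inferInstance, le_rfl, le_rfl,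
      le_rfl, ?_, ⟨0, ?_⟩, ?_, ⟨0, ?_⟩, ?_⟩
    · rw [Subgroup.card_bot]
      exact hp1
    · rw [Subgroup.relIndex_self, pow_zero]
    · rw [Subgroup.relIndex_self]
      exact hp1
    · rw [Subgroup.relIndex_self, pow_zero]
    · rw [Subgroup.index_bot, Nat.card_eq_one_iff_unique.mpr ⟨htriv, ⟨1⟩⟩]
      exact hp1
  have hnt : Nontrivial G := not_subsingleton_iff_nontrivial.mp htriv
  obtain ⟨M₀, hM₀n, hM₀0, hM₀⟩ := Cfsg.Agent.S4024.exists_normal_p_or_p' hsolv
  obtain ⟨N, hNn, hN0, hNM₀, hNmin⟩ :=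
    Cfsg.Agent.S3028.exists_minimal_normal_le (Nat.card M₀) M₀ rfl hM₀n hM₀0
  have hNdvd : Nat.card N ∣ Nat.card M₀ := Subgroup.card_dvd_of_le hNM₀
  have hcardQ : Nat.card (G ⧸ N) < n := by
    rw [← hn, ← Subgroup.index_eq_card, ← N.card_mul_index]
    have h1 : 1 < Nat.card N := (Subgroup.one_lt_card_iff_ne_bot N).mpr hN0
    have h2 : 0 < N.index := Nat.pos_of_ne_zero Subgroup.index_ne_zero_of_finite
    nlinarith
  have hsolvQ : Cfsg.IsPSolvable p (G ⧸ N) :=
    Cfsg.Agent.Lib.Helper5.h5_isPSolvable_of_surjective (QuotientGroup.mk' N)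
      (QuotientGroup.mk'_surjective N) hsolv
  obtain ⟨A', B', C', D', hA', hB', hC', hD', hAB', hBC', hCD', hAp, ⟨k1, hk1⟩, hBCp, ⟨k2, hk2⟩,
    hDp⟩ := ih _ hcardQ (G ⧸ N) rfl hsolvQ (maxHypP_quotient hp N hmax)
  obtain ⟨hA1, hB1, hC1, hAB1, hBC1, hcA1, hrAB, hrBC, -⟩ :=
    chain_comap (QuotientGroup.mk' N) (QuotientGroup.mk'_surjective N) A' B' C' hA' hB' hC'
      hAB' hBC'
  obtain ⟨-, -, hD1, -, hCD1, -, -, hrCD, hiD⟩ :=
    chain_comap (QuotientGroup.mk' N) (QuotientGroup.mk'_surjective N) B' C' D' hB' hC' hD'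
      hBC' hCD'
  rw [QuotientGroup.ker_mk'] at hcA1
  have hNA1 : N ≤ A'.comap (QuotientGroup.mk' N) := by
    have := Subgroup.ker_le_comap (QuotientGroup.mk' N) A'
    rwa [QuotientGroup.ker_mk'] at this
  rcases hM₀ with ⟨m₀, hm₀⟩ | hcopM
  swap
  · -- N is a p'-group
    have hcopN : (Nat.card N).Coprime p := Nat.Coprime.coprime_dvd_left hNdvd hcopM
    refine ⟨_, _, _, _, hA1, hB1, hC1, hD1, hAB1, hBC1, hCD1, ?_, ⟨k1, by rw [hrAB, hk1]⟩,
      by rwa [hrBC], ⟨k2, by rw [hrCD, hk2]⟩, by rwa [hiD]⟩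
    rw [hcA1]
    intro h
    rcases (Nat.Prime.dvd_mul hp).mp h with h1 | h1
    · exact (Nat.Prime.coprime_iff_not_dvd hp).mp hcopN.symm h1
    · exact hAp h1
  -- N is a p-group
  obtain ⟨e, -, he⟩ := (Nat.dvd_prime_pow hp).mp (hm₀ ▸ hNdvd)
  rw [he] at hcA1
  have hNpg : IsPGroup p N := IsPGroup.of_card he
  have hnil : Group.IsNilpotent N := hNpg.isNilpotent
  have hNsolv : Group.IsSolvable N := inferInstance
  have hNcomm : IsMulCommutative N := by
    apply Cfsg.Agent.Lib.Helper1.isMulCommutative_of_commutator_eq_bot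
    have hlt : ⁅N, N⁆ < N :=
      Cfsg.Agent.Lib.Lead.commutator_lt_of_nilpotent N N le_rfl Subgroup.le_normalizer hnil hN0
    rcases hNmin ⁅N, N⁆ inferInstance hlt.le with h | h
    · exact h
    · exact absurd h hlt.ne
  set A₁ := A'.comap (QuotientGroup.mk' N) with hA₁
  set B₁ := B'.comap (QuotientGroup.mk' N) with hB₁
  set C₁ := C'.comap (QuotientGroup.mk' N) with hC₁
  set D₁ := D'.comap (QuotientGroup.mk' N) with hD₁
  set m := Nat.card A' with hm
  have hmpos : 0 < m := Nat.card_pos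
  have hcop : (p ^ e).Coprime m :=
    Nat.Coprime.pow_left e ((Nat.Prime.coprime_iff_not_dvd hp).mpr hAp)
  have hNrel : N.relIndex A₁ = m := by
    have h1 := Subgroup.relIndex_mul_relIndex ⊥ N A₁ bot_le hNA1
    rw [Subgroup.relIndex_bot_left, Subgroup.relIndex_bot_left, he, hcA1] at h1
    exact Nat.eq_of_mul_eq_mul_left (pow_pos hp.pos e) h1
  -- a complement of N in A₁
  have hexK : ∃ K : Subgroup G, K ≤ A₁ ∧ Nat.card K = m := by
    have hN'n : (N.subgroupOf A₁).Normal := hNn.subgroupOf A₁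
    have hcard' : Nat.card (N.subgroupOf A₁) = p ^ e := by
      rw [Cfsg.Agent.S0001.card_subgroupOf_of_le hNA1, he]
    have hidx' : (N.subgroupOf A₁).index = m := hNrel
    obtain ⟨H', hH'⟩ := Subgroup.exists_left_complement'_of_coprime
      (N := N.subgroupOf A₁) (by rw [hcard', hidx']; exact hcop)
    have h1 := hH'.card_mul_card
    rw [hcard', hcA1, mul_comm] at h1
    refine ⟨H'.map A₁.subtype, Subgroup.map_subtype_le H', ?_⟩
    rw [Subgroup.card_map_of_injective A₁.subtype_injective]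
    exact Nat.eq_of_mul_eq_mul_left (pow_pos hp.pos e) h1
  obtain ⟨K, hKA, hKcard⟩ := hexK
  have hKrel : K.relIndex A₁ = p ^ e := by
    have h1 := Subgroup.relIndex_mul_relIndex ⊥ K A₁ bot_le hKA
    rw [Subgroup.relIndex_bot_left, Subgroup.relIndex_bot_left, hKcard, hcA1, mul_comm] at h1
    exact Nat.eq_of_mul_eq_mul_right hmpos h1
  have hKN : K ⊓ N = ⊥ :=
    Cfsg.Agent.Lib.Helper1.inf_eq_bot_of_coprime_card K N (by rw [hKcard, he]; exact hcop.symm)
  have hA1eq : K ⊔ N = A₁ := by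
    apply Subgroup.eq_of_le_of_card_ge (sup_le hKA hNA1)
    rw [Cfsg.Agent.Lib.Helper1.card_sup_eq_mul_of_inf_eq_bot K N hKN, hKcard, he, hcA1, mul_comm]
  have hNtop : N ⊔ Subgroup.normalizer (K : Set G) = ⊤ := by
    rw [eq_top_iff]
    intro g _
    have hK₁A : MulAut.conj g • K ≤ N ⊔ K := by
      rw [sup_comm, hA1eq, ← hA1.conj_smul_eq_self g]
      exact Subgroup.pointwise_smul_le_pointwise_smul_iff.mpr hKA
    obtain ⟨x, hx, hxK⟩ := Cfsg.Agent.Lib.Helper22.sz_conj_solvable N hNsolv K (MulAut.conj g • K)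
      (Cfsg.Agent.S0001.card_conj K g).symm (by rw [he, hKcard]; exact hcop) hK₁A
    have hxK' : MulAut.conj g • K = MulAut.conj x • K := hxK
    have h3 : MulAut.conj (x⁻¹ * g) • K = K := by
      rw [map_mul, mul_smul, hxK', ← mul_smul, ← map_mul, inv_mul_cancel, map_one, one_smul]
    have h4 : x⁻¹ * g ∈ Subgroup.normalizer (K : Set G) := mem_normalizer_of_conj_smul_eq h3
    have h5 : g = x * (x⁻¹ * g) := by group
    rw [h5]
    exact Subgroup.mul_mem_sup hx h4
  have final : Subgroup.normalizer (K : Set G) = ⊤ → Chain5 p G := by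
    intro hKn
    refine ⟨K, B₁, C₁, D₁, Subgroup.normalizer_eq_top_iff.mp hKn, hB1, hC1, hD1,
      le_trans hKA hAB1, hBC1, hCD1, ?_, ⟨e + k1, ?_⟩, by rwa [hrBC], ⟨k2, by rw [hrCD, hk2]⟩,
      by rwa [hiD]⟩
    · rw [hKcard]
      exact hAp
    · rw [← Subgroup.relIndex_mul_relIndex K A₁ B₁ hKA hAB1, hKrel, hrAB, hk1, pow_add]
  by_cases hNF : N ≤ frattini G
  · apply final
    apply frattini_nongenerating
    rw [eq_top_iff, ← hNtop]
    exact sup_le (le_trans hNF le_sup_right) le_sup_left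
  have hexM : ∃ M : Subgroup G, IsCoatom M ∧ ¬ N ≤ M := by
    by_contra hno
    push Not at hno
    apply hNF
    unfold frattini Order.radical
    exact le_iInf₂ fun M hM => hno M hM
  obtain ⟨M, hM, hNM⟩ := hexM
  have hMN : M ⊔ N = ⊤ := hM.2 _ (lt_of_le_of_ne le_sup_left (fun h => hNM (h ▸ le_sup_right)))
  have hNcomm' : ∀ a ∈ N, ∀ b ∈ N, a * b = b * a := by
    intro a ha b hb
    exact congrArg Subtype.val (hNcomm.is_comm.comm ⟨a, ha⟩ ⟨b, hb⟩)
  have hinfn : (N ⊓ M).Normal := by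
    rw [← Subgroup.normalizer_eq_top_iff, eq_top_iff, ← hMN]
    refine sup_le ?_ ?_
    · intro x hx
      rw [Subgroup.mem_normalizer_iff]
      intro h
      constructor
      · intro hh
        exact ⟨hNn.conj_mem h hh.1 x, M.mul_mem (M.mul_mem hx hh.2) (M.inv_mem hx)⟩
      · intro hh
        have h1 : h = x⁻¹ * (x * h * x⁻¹) * x⁻¹⁻¹ := by group
        rw [h1]
        exact ⟨hNn.conj_mem _ hh.1 x⁻¹, M.mul_mem (M.mul_mem (M.inv_mem hx) hh.2)
          (M.inv_mem (M.inv_mem hx))⟩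
    · intro x hx
      rw [Subgroup.mem_normalizer_iff]
      intro h
      constructor
      · intro hh
        have h1 : x * h * x⁻¹ = h := by
          rw [hNcomm' x hx h hh.1]
          group
        rw [h1]
        exact hh
      · intro hh
        have hhN : h ∈ N := by
          have h1 : h = x⁻¹ * (x * h * x⁻¹) * x⁻¹⁻¹ := by group
          rw [h1]
          exact hNn.conj_mem _ hh.1 x⁻¹
        have h1 : x * h * x⁻¹ = h := by
          rw [hNcomm' x hx h hhN]
          group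
        rw [h1] at hh
        exact hh
  have hNM0 : N ⊓ M = ⊥ := by
    rcases hNmin (N ⊓ M) hinfn inf_le_left with h | h
    · exact h
    · exact absurd (h ▸ inf_le_right) hNM
  have hcardG : Nat.card G = Nat.card M * Nat.card N := by
    rw [← Cfsg.Agent.Lib.Helper1.card_sup_eq_mul_of_inf_eq_bot M N (by rw [inf_comm]; exact hNM0),
      hMN, Subgroup.card_top]
  have hMpos : 0 < Nat.card M := Nat.card_pos
  rcases hmax M hM with ⟨K', hK'n, hK'odd, k, hk⟩ | hpr
  · -- M has a normal p-complement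
    set K'' := K'.map M.subtype with hK''
    have hK''M : K'' ≤ M := Subgroup.map_subtype_le K'
    have hK''card : Nat.card K'' = Nat.card K' := by
      rw [hK'', Subgroup.card_map_of_injective M.subtype_injective]
    have hMK'' : M ≤ Subgroup.normalizer (K'' : Set G) := by
      rw [← Subgroup.normal_subgroupOf_iff_le_normalizer hK''M, hK'']
      have h1 : (K'.map M.subtype).subgroupOf M = K' := by
        unfold Subgroup.subgroupOf
        exact Subgroup.comap_map_eq_self_of_injective M.subtype_injective K'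
      rw [h1]
      exact hK'n
    have hK''N : K'' ⊓ N = ⊥ := by
      rw [eq_bot_iff, ← hNM0]
      exact le_inf inf_le_right (le_trans inf_le_left hK''M)
    have hCn : (K'' ⊔ N).Normal := by
      rw [← Subgroup.normalizer_eq_top_iff, eq_top_iff, ← hMN]
      exact sup_le (le_trans hMK'' (normalizer_le_normalizer_sup K'' N))
        (le_trans le_sup_right Subgroup.le_normalizer)
    refine ⟨⊥, N, K'' ⊔ N, ⊤, inferInstance, hNn, hCn, inferInstance, bot_le, le_sup_right, le_top,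
      ?_, ⟨e, ?_⟩, ?_, ⟨k, ?_⟩, ?_⟩
    · rw [Subgroup.card_bot]
      exact hp1
    · rw [Subgroup.relIndex_bot_left, he]
    · rw [Subgroup.relIndex_sup_right, ← Subgroup.inf_relIndex_right, inf_comm, hK''N,
        Subgroup.relIndex_bot_left, hK''card]
      exact hK'odd
    · rw [Subgroup.relIndex_top_right]
      have h1 := (K'' ⊔ N).card_mul_index
      rw [Cfsg.Agent.Lib.Helper1.card_sup_eq_mul_of_inf_eq_bot K'' N hK''N, hcardG,
        ← K'.card_mul_index, hk, hK''card] at h1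
      have hK'pos : 0 < Nat.card K' := Nat.card_pos
      have hNpos : 0 < Nat.card N := Nat.card_pos
      have h2 : Nat.card K' * Nat.card N * (K'' ⊔ N).index = Nat.card K' * Nat.card N * p ^ k := by
        rw [h1]
        ring
      exact Nat.eq_of_mul_eq_mul_left (Nat.mul_pos hK'pos hNpos) h2
    · rw [Subgroup.index_top]
      exact hp1
  · -- M has prime index, so N has order p
    have hidx : M.index = Nat.card N := by
      have h1 := M.card_mul_index
      rw [hcardG] at h1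
      exact Nat.eq_of_mul_eq_mul_left hMpos h1
    rw [hidx, he] at hpr
    have he0 : e ≠ 0 := by
      rintro rfl
      rw [pow_zero] at hpr
      exact Nat.not_prime_one hpr
    have h2 : p = p ^ e := (Nat.prime_dvd_prime_iff_eq hp hpr).mp (dvd_pow_self p he0)
    have hNp : Nat.card N = p := by rw [he, ← h2]
    set C₀ := Subgroup.centralizer (N : Set G) with hC₀
    have hC₀n : C₀.Normal := Subgroup.normal_centralizer
    have hC₀idx : ¬ p ∣ C₀.index := not_dvd_index_centralizer_of_card_prime hp N hNp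
    have hNC₀ : N ≤ C₀ := by
      intro x hx
      rw [hC₀, Subgroup.mem_centralizer_iff]
      intro h hh
      exact hNcomm' h hh x hx
    set Z₁ := A₁ ⊓ C₀ with hZ₁
    have hZ₁n : Z₁.Normal := Subgroup.normal_inf_normal A₁ C₀
    have hNZ₁ : N ≤ Z₁ := le_inf hNA1 hNC₀
    -- the central Hall subgroup N of Z₁ has a characteristic complement
    have hZc : ∀ z ∈ N.subgroupOf Z₁, ∀ y : ↥Z₁, z * y = y * z := by
      intro z hz y
      have hy : (y : G) ∈ C₀ := y.2.2
      rw [hC₀, Subgroup.mem_centralizer_iff] at hy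
      exact Subtype.ext (hy (z : G) (Subgroup.mem_subgroupOf.mp hz))
    have hrelZ : N.relIndex Z₁ ∣ m := by
      rw [← hNrel]
      exact relIndex_dvd_relIndex_of_le_right N Z₁ A₁ inf_le_left
    have hcardNZ : Nat.card (N.subgroupOf Z₁) = p := by
      rw [Cfsg.Agent.S0001.card_subgroupOf_of_le hNZ₁, hNp]
    have hcopZ : (Nat.card (N.subgroupOf Z₁)).Coprime (N.subgroupOf Z₁).index := by
      rw [hcardNZ]
      have h3 : (N.subgroupOf Z₁).index = N.relIndex Z₁ := rfl
      rw [h3]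
      refine Nat.Coprime.coprime_dvd_right hrelZ ?_
      rw [h2]
      exact hcop
    obtain ⟨D₀, hD₀c, hD₀⟩ :=
      Cfsg.Agent.Lib.Helper5.h5_central_hall_complement (N.subgroupOf Z₁) hZc hcopZ
    set A := D₀.map Z₁.subtype with hA
    have hAn : A.Normal := Cfsg.Agent.Lib.Helper5.h5_normal_map_of_characteristic Z₁ D₀
    have hAZ₁ : A ≤ Z₁ := Subgroup.map_subtype_le D₀
    have hAcard : Nat.card A * p = Nat.card Z₁ := by
      have h3 := hD₀.card_mul_card
      rw [hcardNZ] at h3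
      rw [hA, Subgroup.card_map_of_injective Z₁.subtype_injective, ← h3, mul_comm]
    have hAp' : ¬ p ∣ Nat.card A := by
      have h3 : Nat.card Z₁ = p * N.relIndex Z₁ := by
        have h4 := Subgroup.relIndex_mul_relIndex ⊥ N Z₁ bot_le hNZ₁
        rw [Subgroup.relIndex_bot_left, Subgroup.relIndex_bot_left, hNp] at h4
        exact h4.symm
      have h5 : Nat.card A = N.relIndex Z₁ := by
        have h6 : Nat.card A * p = N.relIndex Z₁ * p := by rw [hAcard, h3, mul_comm]
        exact Nat.eq_of_mul_eq_mul_right hp.pos h6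
      rw [h5]
      intro h7
      exact hAp (dvd_trans h7 hrelZ)
    have hArel : A.relIndex Z₁ = p := by
      have h3 := Subgroup.relIndex_mul_relIndex ⊥ A Z₁ bot_le hAZ₁
      rw [Subgroup.relIndex_bot_left, Subgroup.relIndex_bot_left, ← hAcard] at h3
      exact Nat.eq_of_mul_eq_mul_left Nat.card_pos h3
    have hZ12 : Z₁ ≤ B₁ ⊓ C₀ := inf_le_inf_right C₀ hAB1
    have hd1 : Z₁.relIndex (B₁ ⊓ C₀) ∣ p ^ k1 := by
      rw [← hk1, ← hrAB]
      exact relIndex_inf_dvd A₁ B₁ C₀ hAB1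
    obtain ⟨j1, -, hj1⟩ := (Nat.dvd_prime_pow hp).mp hd1
    have hd3 : (C₁ ⊓ C₀).relIndex (D₁ ⊓ C₀) ∣ p ^ k2 := by
      rw [← hk2, ← hrCD]
      exact relIndex_inf_dvd C₁ D₁ C₀ hCD1
    obtain ⟨j3, -, hj3⟩ := (Nat.dvd_prime_pow hp).mp hd3
    refine ⟨A, B₁ ⊓ C₀, C₁ ⊓ C₀, D₁ ⊓ C₀, hAn, Subgroup.normal_inf_normal B₁ C₀,
      Subgroup.normal_inf_normal C₁ C₀, Subgroup.normal_inf_normal D₁ C₀, le_trans hAZ₁ hZ12,
      inf_le_inf_right C₀ hBC1, inf_le_inf_right C₀ hCD1, hAp', ⟨1 + j1, ?_⟩, ?_, ⟨j3, hj3⟩, ?_⟩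
    · rw [← Subgroup.relIndex_mul_relIndex A Z₁ (B₁ ⊓ C₀) hAZ₁ hZ12, hArel, hj1, pow_add, pow_one]
    · intro h3
      apply hBCp
      rw [← hrBC]
      exact dvd_trans h3 (relIndex_inf_dvd B₁ C₁ C₀ hBC1)
    · intro h3
      have h4 := dvd_trans h3 (index_inf_dvd_mul D₁ C₀)
      rcases (Nat.Prime.dvd_mul hp).mp h4 with h5 | h5
      · rw [hiD] at h5
        exact hDp h5
      · exact hC₀idx h5

end Cfsg.Agent.Lib.helper23
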