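import Mathlib
import Cfsg.Prelude.Def_Characters
import Cfsg.Agent.Lib.helper7.PM2.Defs
import Cfsg.Agent.Lib.helper2.CharNat

/-!
# Project PM2, piece PROJ : the two halves of a character with respect to a central element of order at most two

`(χ(g) + ε χ(u g)) / 2` is afforded by the `ε`-eigenspace of `ρ(u)` (pattern of `Helper20/PM2SQ.lean`).
-/

set_option autoImplicit false
set_option linter.unusedVariables false
set_option linter.unusedSectionVars false

namespace Cfsg.Agent.Lib.helper7.PM2

open scoped ComplexConjugate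

universe u

section generic

variable {G : Type u} [Group G] [Fintype G]

/-- PROJ : the two halves of a character with respect to a central element of order at most two -/
theorem proj_char {χ : G → ℂ} (hχ : Cfsg.IsCharacter G χ) (u : G) (hu : u ∈ Subgroup.center G)
    (hu2 : u * u = 1) (ε : ℂ) (hε : ε * ε = 1) :
    Cfsg.IsCharacter G (fun g => (χ g + ε * χ (u * g)) / 2) := by
  classical
  obtain ⟨n, ρ, rfl⟩ := hχ
  set M : G → Matrix (Fin n) (Fin n) ℂ := fun g => LinearMap.toMatrix' (ρ g) with hM
  have hM1 : M 1 = 1 := by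
    simp only [hM, map_one]
    exact LinearMap.toMatrix'_one
  have hMmul : ∀ g h : G, M (g * h) = M g * M h := by
    intro g h
    simp only [hM, map_mul]
    exact LinearMap.toMatrix'_mul _ _
  have hchar : ∀ g : G, ρ.character g = Matrix.trace (M g) := by
    intro g
    simp only [Representation.character, hM]
    rw [LinearMap.trace_eq_matrix_trace ℂ (Pi.basisFun ℂ (Fin n)), LinearMap.toMatrix_eq_toMatrix']
  set S := M u with hS
  have hSS : S * S = 1 := by rw [hS, ← hMmul, hu2, hM1]
  have hSK : ∀ g : G, S * M g = M g * S := by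
    intro g
    rw [hS, ← hMmul, ← hMmul, (Subgroup.mem_center_iff.mp hu g)]
  set P : Matrix (Fin n) (Fin n) ℂ := (2 : ℂ)⁻¹ • (1 + ε • S) with hP
  have hPP : P * P = P := by
    rw [hP, Matrix.smul_mul, Matrix.mul_smul, Matrix.add_mul, Matrix.mul_add, Matrix.mul_add,
      Matrix.one_mul, Matrix.mul_one, Matrix.one_mul, Matrix.smul_mul, Matrix.mul_smul, hSS,
      smul_smul, smul_smul, hε, one_smul]
    ext a c
    simp only [Matrix.smul_apply, Matrix.add_apply, smul_eq_mul]
    ring
  have hPK : ∀ g : G, P * M g = M g * P := by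
    intro g
    rw [hP, Matrix.smul_mul, Matrix.mul_smul, Matrix.add_mul, Matrix.mul_add, Matrix.one_mul,
      Matrix.mul_one, Matrix.smul_mul, Matrix.mul_smul, hSK]
  let E : Submodule ℂ (Fin n → ℂ) := LinearMap.range (Matrix.toLin' P)
  have hinv : ∀ g : G, ∀ x ∈ E, Matrix.toLin' (M g) x ∈ E := by
    rintro g _ ⟨y, rfl⟩
    refine ⟨Matrix.toLin' (M g) y, ?_⟩
    rw [← LinearMap.comp_apply, ← Matrix.toLin'_mul, hPK, Matrix.toLin'_mul, LinearMap.comp_apply]
  let ρE : Representation ℂ G E :=
    { toFun := fun g => (Matrix.toLin' (M g)).restrict (hinv g)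
      map_one' := by
        apply LinearMap.ext
        intro x
        apply Subtype.ext
        rw [LinearMap.coe_restrict_apply, hM1, Matrix.toLin'_one]
        rfl
      map_mul' := by
        intro g h
        apply LinearMap.ext
        intro x
        apply Subtype.ext
        rw [LinearMap.coe_restrict_apply, hMmul, Matrix.toLin'_mul]
        rfl }
  have hρE : ∀ g : G, ρE g = (Matrix.toLin' (M g)).restrict (hinv g) := fun g => rfl
  have hchE := Cfsg.Agent.Lib.helper2.isCharacter_of_rep ρE
  have hfun : (fun g => (ρ.character g + ε * ρ.character (u * g)) / 2) = ρE.character := by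
    funext g
    show (ρ.character g + ε * ρ.character (u * g)) / 2 = LinearMap.trace ℂ E (ρE g)
    let π : (Fin n → ℂ) →ₗ[ℂ] E := (Matrix.toLin' P).rangeRestrict
    let ι : E →ₗ[ℂ] (Fin n → ℂ) := E.subtype
    have hπι : π ∘ₗ ι = LinearMap.id := by
      apply LinearMap.ext
      rintro ⟨_, ⟨y, rfl⟩⟩
      apply Subtype.ext
      show Matrix.toLin' P (Matrix.toLin' P y) = Matrix.toLin' P y
      rw [← LinearMap.comp_apply, ← Matrix.toLin'_mul, hPP]
    have h1 : ρE g = (ρE g ∘ₗ π) ∘ₗ ι := by
      rw [LinearMap.comp_assoc, hπι, LinearMap.comp_id]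
    have h2 : ι ∘ₗ (ρE g ∘ₗ π) = Matrix.toLin' (M g * P) := by
      apply LinearMap.ext
      intro y
      rw [Matrix.toLin'_mul]
      rfl
    have h3 : M g * S = M (u * g) := by
      rw [hS, ← hMmul, (Subgroup.mem_center_iff.mp hu g)]
    rw [h1, LinearMap.trace_comp_comm', h2, Matrix.trace_toLin'_eq, hchar, hchar, hP,
      Matrix.mul_smul, Matrix.mul_add, Matrix.mul_one, Matrix.mul_smul, h3, Matrix.trace_smul,
      Matrix.trace_add, Matrix.trace_smul]
    simp only [smul_eq_mul]
    ring
  rw [hfun]
  exact hchE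

end generic

end Cfsg.Agent.Lib.helper7.PM2
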