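import Mathlib
import Cfsg.Agent.Lib.helper23.CentMax
import Cfsg.Agent.Lib.Helper22.Sylow

set_option autoImplicit false

namespace Cfsg.Agent.Lib.helper23

open Subgroup

section ppoA

variable {G : Type*} [Group G] [Finite G]

/-- a product of two coprime numbers which is a prime power has a trivial factor -/
theorem ppo_primePow_mul {a b : ℕ} (hab : Nat.Coprime a b) (h : IsPrimePow (a * b)) :
    a = 1 ∨ b = 1 := by
  have hpos : 0 < a * b := h.pos
  have ha : 0 < a := Nat.pos_of_ne_zero (fun h0 => by rw [h0, zero_mul] at hpos; exact lt_irrefl _ hpos)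
  have hb : 0 < b := Nat.pos_of_ne_zero (fun h0 => by rw [h0, mul_zero] at hpos; exact lt_irrefl _ hpos)
  rcases (hab.isPrimePow_dvd_mul h).mp dvd_rfl with h1 | h1
  · right
    have h2 := Nat.le_of_dvd ha h1
    have h3 : a * b ≤ a * 1 := by rw [mul_one]; exact h2
    have h4 := Nat.le_of_mul_le_mul_left h3 ha
    omega
  · left
    have h2 := Nat.le_of_dvd hb h1
    have h3 : a * b ≤ 1 * b := by rw [one_mul]; exact h2
    have h4 := Nat.le_of_mul_le_mul_right h3 hb
    omega

/-- if a coprime power of `x` lies in a subgroup, so does `x` -/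
theorem ppo_mem_of_pow_mem (N : Subgroup G) (x : G) (d : ℕ) (hd : d.Coprime (orderOf x))
    (h : x ^ d ∈ N) : x ∈ N := by
  obtain ⟨m, hm⟩ := exists_pow_eq_self_of_coprime hd
  rw [← hm]
  exact N.pow_mem h m

/-- the centralizer of an element outside `N` of `p`-power order is a `p`-group -/
theorem ppo_cent_pgroup (N : Subgroup G) (x : G) (hxN : x ∉ N) (p k : ℕ) [Fact p.Prime]
    (hk : orderOf x = p ^ k) (h : ∀ y : G, y ∉ N → IsPrimePow (orderOf y)) :
    IsPGroup p (centralizer ({x} : Set G)) := by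
  have hp : p.Prime := Fact.out
  have hx1 : x ≠ 1 := fun h1 => hxN (h1 ▸ N.one_mem)
  have hk0 : p ^ k ≠ 1 := by
    intro h1
    rw [h1, orderOf_eq_one_iff] at hk
    exact hx1 hk
  rintro ⟨m, hm⟩
  obtain ⟨a, b, hab, hcomm, ⟨i, hi⟩, hb, ha', hb'⟩ := Cfsg.Agent.Lib.Helper22.exists_p_decomp p m
  have hmx : x * m = m * x := mem_cent_singleton.mp hm
  have hbx : Commute x b := by
    obtain ⟨j, rfl⟩ := hb'
    exact (show Commute x m from hmx).zpow_right j
  have hb1 : b = 1 := by
    by_contra hb1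
    have hd1 : orderOf b ≠ 1 := fun h1 => hb1 (orderOf_eq_one_iff.mp h1)
    have hcop : (orderOf x).Coprime (orderOf b) := by
      rw [hk]
      exact Nat.Coprime.pow_left k hb.symm
    have hord : orderOf (x * b) = orderOf x * orderOf b :=
      hbx.orderOf_mul_eq_mul_orderOf_of_coprime hcop
    by_cases hxb : x * b ∈ N
    · apply hxN
      apply ppo_mem_of_pow_mem N x (orderOf b) hcop.symm
      have h1 : (x * b) ^ orderOf b = x ^ orderOf b := by
        rw [hbx.mul_pow, pow_orderOf_eq_one, mul_one]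
      rw [← h1]
      exact N.pow_mem hxb _
    · have h1 := h _ hxb
      rw [hord] at h1
      rcases ppo_primePow_mul hcop h1 with h2 | h2
      · rw [hk] at h2
        exact hk0 h2
      · exact hd1 h2
  refine ⟨i, ?_⟩
  apply Subtype.ext
  show m ^ p ^ i = 1
  rw [hab, hb1, mul_one, ← hi, pow_orderOf_eq_one]

/-- a `p`-subgroup that is a maximal subgroup is a Sylow subgroup, unless the group is a `p`-group -/
theorem ppo_sylow_or_pgroup (M : Subgroup G) (hM : IsCoatom M) (p : ℕ) [Fact p.Prime]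
    (hMp : IsPGroup p M) : IsPGroup p G ∨ ∃ P : Sylow p G, (P : Subgroup G) = M := by
  obtain ⟨P, hP⟩ := hMp.exists_le_sylow
  rcases hM.le_iff.mp hP with h1 | h1
  · left
    intro g
    have hg : g ∈ (P : Subgroup G) := h1 ▸ mem_top g
    obtain ⟨j, hj⟩ := P.2 ⟨g, hg⟩
    exact ⟨j, congrArg Subtype.val hj⟩
  · right
    exact ⟨P, h1⟩

/-- elements of the coset `xN` have `p`-power order when `x ∉ N` has -/
theorem ppo_coset_order (N : Subgroup G) [N.Normal] (x : G) (hxN : x ∉ N) (p k : ℕ) [Fact p.Prime]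
    (hk : orderOf x = p ^ k) (h : ∀ y : G, y ∉ N → IsPrimePow (orderOf y)) (n : G) (hn : n ∈ N) :
    x * n ∉ N ∧ ∃ j : ℕ, orderOf (x * n) = p ^ j := by
  have hp : p.Prime := Fact.out
  have hxn : x * n ∉ N := by
    intro h1
    apply hxN
    have : x = x * n * n⁻¹ := by group
    rw [this]
    exact N.mul_mem h1 (N.inv_mem hn)
  refine ⟨hxn, ?_⟩
  obtain ⟨q, j, hq, hj0, hqj⟩ := (isPrimePow_nat_iff _).mp (h _ hxn)
  by_cases hqp : q = p
  · exact ⟨j, by rw [← hqj, hqp]⟩
  · exfalso
    apply hxN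
    have hcop : (q ^ j).Coprime (orderOf x) := by
      rw [hk]
      exact Nat.Coprime.pow _ _ ((Nat.coprime_primes hq hp).mpr hqp)
    apply ppo_mem_of_pow_mem N x (q ^ j) hcop
    have h1 : ((QuotientGroup.mk (x * n) : G ⧸ N)) ^ (q ^ j) = 1 := by
      rw [← QuotientGroup.mk_pow, hqj, pow_orderOf_eq_one, QuotientGroup.mk_one]
    have h2 : (QuotientGroup.mk (x * n) : G ⧸ N) = QuotientGroup.mk x := by
      rw [QuotientGroup.mk_mul, (QuotientGroup.eq_one_iff n).mpr hn, mul_one]
    rw [h2, ← QuotientGroup.mk_pow, QuotientGroup.eq_one_iff] at h1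
    exact h1

end ppoA

end Cfsg.Agent.Lib.helper23
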