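import Mathlib
import Cfsg.Agent.Lib.helper23.PPOutA
import Cfsg.Agent.Lib.helper23.SylowBasic
import Cfsg.Agent.Lib.Helper22.Sylow2

set_option autoImplicit false

namespace Cfsg.Agent.Lib.helper23

open Subgroup

section ppoB

variable {G : Type*} [Group G] [Finite G]

/-- the part of `N` that is central in `Q` -/
def ppoZc (N Q : Subgroup G) : Subgroup G := centralizer (Q : Set G) ⊓ Q ⊓ N

theorem ppoZc_le (N Q : Subgroup G) : ppoZc N Q ≤ Q ⊓ N := by
  intro y hy
  exact ⟨hy.1.2, hy.2⟩

/-- conjugate Sylow subgroups meet a normal subgroup in subgroups of the same order -/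
theorem ppo_card_inf_smul (N : Subgroup G) [hN : N.Normal] {p : ℕ} (P : Sylow p G) (g : G) :
    Nat.card (((g • P : Sylow p G) : Subgroup G) ⊓ N : Subgroup G)
      = Nat.card ((P : Subgroup G) ⊓ N : Subgroup G) := by
  symm
  refine Nat.card_congr
    { toFun := fun s => ⟨g * s.1 * g⁻¹, ?_, ?_⟩
      invFun := fun s => ⟨g⁻¹ * s.1 * g, ?_, ?_⟩
      left_inv := ?_
      right_inv := ?_ }
  · exact (mem_smul_sylow_iff' g P s.1).mpr s.2.1
  · exact hN.conj_mem _ s.2.2 g
  · exact (mem_smul_sylow_iff g P s.1).mp s.2.1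
  · have := hN.conj_mem _ s.2.2 g⁻¹
    rwa [inv_inv] at this
  · intro s
    apply Subtype.ext
    show g⁻¹ * (g * s.1 * g⁻¹) * g = s.1
    group
  · intro s
    apply Subtype.ext
    show g * (g⁻¹ * s.1 * g) * g⁻¹ = s.1
    group

theorem ppo_card_N (N : Subgroup G) [N.Normal] {p : ℕ} (P : Sylow p G)
    (hsup : N ⊔ (P : Subgroup G) = ⊤) :
    (P : Subgroup G).index * Nat.card ((P : Subgroup G) ⊓ N : Subgroup G) = Nat.card N := by
  have h1 := Cfsg.Agent.Lib.Helper22.card_sup_normal (P : Subgroup G) N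
  rw [sup_comm, hsup, Subgroup.card_top] at h1
  have h2 : Nat.card ((P : Subgroup G) ⊓ N : Subgroup G) * N.relIndex (P : Subgroup G)
      = Nat.card (P : Subgroup G) := by
    have e : (P : Subgroup G) ⊓ N = N ⊓ (P : Subgroup G) := inf_comm _ _
    rw [e, ← Subgroup.inf_relIndex_right N (P : Subgroup G)]
    exact Cfsg.Agent.Lib.Helper22.card_mul_relIndex_of_le inf_le_right
  have h3 := (P : Subgroup G).card_mul_index
  have hPpos : 0 < Nat.card (P : Subgroup G) := Nat.card_pos
  have h4 : Nat.card (P : Subgroup G) * ((P : Subgroup G).index *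
      Nat.card ((P : Subgroup G) ⊓ N : Subgroup G)) = Nat.card (P : Subgroup G) * Nat.card N := by
    calc Nat.card (P : Subgroup G) * ((P : Subgroup G).index *
        Nat.card ((P : Subgroup G) ⊓ N : Subgroup G))
        = (Nat.card (P : Subgroup G) * (P : Subgroup G).index) *
            Nat.card ((P : Subgroup G) ⊓ N : Subgroup G) := by ring
      _ = Nat.card G * Nat.card ((P : Subgroup G) ⊓ N : Subgroup G) := by rw [h3]
      _ = Nat.card N * N.relIndex (P : Subgroup G) *
            Nat.card ((P : Subgroup G) ⊓ N : Subgroup G) := by rw [h1]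
      _ = Nat.card N * (Nat.card ((P : Subgroup G) ⊓ N : Subgroup G) *
            N.relIndex (P : Subgroup G)) := by ring
      _ = Nat.card (P : Subgroup G) * Nat.card N := by rw [h2]; ring
  exact Nat.eq_of_mul_eq_mul_left hPpos h4

/-- the counting argument -/
theorem ppo_count (N : Subgroup G) [hN : N.Normal] (p : ℕ) [Fact p.Prime] (P : Sylow p G) (x : G)
    (hsup : N ⊔ (P : Subgroup G) = ⊤)
    (hsyl : ∀ n : N, ∃ Q : Sylow p G, (Q : Subgroup G) = centralizer ({x * (n : G)} : Set G)) :
    ppoZc N (P : Subgroup G) = (P : Subgroup G) ⊓ N ∧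
      normalizer ((P : Subgroup G) : Set G) = (P : Subgroup G) := by
  classical
  haveI : Fintype (Sylow p G) := Fintype.ofFinite _
  choose f hf using hsyl
  set S : Subgroup G := (P : Subgroup G) ⊓ N with hS
  have hcardN := ppo_card_N N P hsup
  -- fibre bound
  have hfib : ∀ Q : Sylow p G, Nat.card {n : N // f n = Q} ≤ Nat.card (ppoZc N (Q : Subgroup G)) := by
    intro Q
    by_cases hne : Nonempty {n : N // f n = Q}
    · obtain ⟨⟨n₀, hn₀⟩⟩ := hne
      have hmemZ : ∀ n : N, f n = Q →
          x * (n : G) ∈ centralizer ((Q : Subgroup G) : Set G) ⊓ (Q : Subgroup G) := by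
        intro n hn
        have hQ : (Q : Subgroup G) = centralizer ({x * (n : G)} : Set G) := by rw [← hn]; exact hf n
        refine Subgroup.mem_inf.mpr ⟨?_, ?_⟩
        · rw [mem_centralizer_iff]
          intro q hq
          have hq' : q ∈ centralizer ({x * (n : G)} : Set G) := hQ ▸ hq
          exact (mem_cent_singleton.mp hq').symm
        · rw [hQ]
          exact self_mem_cent _
      refine Nat.card_le_card_of_injective
        (fun n => ⟨(n₀ : G)⁻¹ * (n.1 : G), ?_, ?_⟩) ?_
      · have h1 := hmemZ n.1 n.2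
        have h2 := hmemZ n₀ hn₀
        have h3 := Subgroup.mul_mem _ (Subgroup.inv_mem _ h2) h1
        have h4 : (x * (n₀ : G))⁻¹ * (x * (n.1 : G)) = (n₀ : G)⁻¹ * (n.1 : G) := by group
        rwa [h4] at h3
      · exact N.mul_mem (N.inv_mem n₀.2) n.1.2
      · intro a b hab
        have h1 : (n₀ : G)⁻¹ * (a.1 : G) = (n₀ : G)⁻¹ * (b.1 : G) := congrArg Subtype.val hab
        exact Subtype.ext (Subtype.ext (mul_left_cancel h1))
    · rw [not_nonempty_iff] at hne
      rw [Nat.card_of_isEmpty]
      exact Nat.zero_le _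
  have hZle : ∀ Q : Sylow p G, Nat.card (ppoZc N (Q : Subgroup G)) ≤
      Nat.card ((Q : Subgroup G) ⊓ N : Subgroup G) :=
    fun Q => Subgroup.card_le_of_le (ppoZc_le N Q)
  have hQS : ∀ Q : Sylow p G, Nat.card ((Q : Subgroup G) ⊓ N : Subgroup G) = Nat.card S := by
    intro Q
    obtain ⟨g, hg⟩ := MulAction.exists_smul_eq G P Q
    rw [← hg]
    exact ppo_card_inf_smul N P g
  have hsum1 : Nat.card N = ∑ Q : Sylow p G, Nat.card {n : N // f n = Q} := by
    rw [← Nat.card_sigma]
    exact Nat.card_congr (Equiv.sigmaFiberEquiv f).symm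
  have hsum2 : ∑ Q : Sylow p G, Nat.card ((Q : Subgroup G) ⊓ N : Subgroup G)
      = Nat.card (Sylow p G) * Nat.card S := by
    rw [Finset.sum_congr rfl (fun Q _ => hQS Q), Finset.sum_const, Finset.card_univ,
      smul_eq_mul, ← Nat.card_eq_fintype_card]
  have hnp : Nat.card (Sylow p G) ∣ (P : Subgroup G).index := by
    rw [Sylow.card_eq_index_normalizer P]
    exact Subgroup.index_dvd_of_le le_normalizer
  have hidx0 : (P : Subgroup G).index ≠ 0 := Subgroup.index_ne_zero_of_finite
  have hnple : Nat.card (Sylow p G) ≤ (P : Subgroup G).index :=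
    Nat.le_of_dvd (Nat.pos_of_ne_zero hidx0) hnp
  have hSpos : 0 < Nat.card S := Nat.card_pos
  have hA : ∑ Q : Sylow p G, Nat.card {n : N // f n = Q}
      ≤ ∑ Q : Sylow p G, Nat.card (ppoZc N (Q : Subgroup G)) :=
    Finset.sum_le_sum (fun Q _ => hfib Q)
  have hB : ∑ Q : Sylow p G, Nat.card (ppoZc N (Q : Subgroup G))
      ≤ ∑ Q : Sylow p G, Nat.card ((Q : Subgroup G) ⊓ N : Subgroup G) :=
    Finset.sum_le_sum (fun Q _ => hZle Q)
  have hC : Nat.card (Sylow p G) * Nat.card S ≤ (P : Subgroup G).index * Nat.card S :=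
    Nat.mul_le_mul_right _ hnple
  have hBeq : ∑ Q : Sylow p G, Nat.card (ppoZc N (Q : Subgroup G))
      = ∑ Q : Sylow p G, Nat.card ((Q : Subgroup G) ⊓ N : Subgroup G) := by
    apply le_antisymm hB
    rw [hsum2]
    calc Nat.card (Sylow p G) * Nat.card S ≤ (P : Subgroup G).index * Nat.card S := hC
      _ = Nat.card N := hcardN
      _ = ∑ Q : Sylow p G, Nat.card {n : N // f n = Q} := hsum1
      _ ≤ _ := hA
  have hCeq : Nat.card (Sylow p G) * Nat.card S = (P : Subgroup G).index * Nat.card S := by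
    apply le_antisymm hC
    rw [hcardN, hsum1, ← hsum2]
    exact hA.trans hB
  constructor
  · have h1 := (Finset.sum_eq_sum_iff_of_le (fun Q _ => hZle Q)).mp hBeq P (Finset.mem_univ _)
    exact Subgroup.eq_of_le_of_card_ge (ppoZc_le N _) h1.ge
  · have h1 : Nat.card (Sylow p G) = (P : Subgroup G).index :=
      Nat.eq_of_mul_eq_mul_right hSpos hCeq
    rw [Sylow.card_eq_index_normalizer P] at h1
    have h1' : (normalizer ((P : Subgroup G) : Set G)).index = (P : Subgroup G).index := h1
    symm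
    apply Subgroup.eq_of_le_of_card_ge le_normalizer
    have h2 := (P : Subgroup G).card_mul_index
    have h3 := (normalizer ((P : Subgroup G) : Set G)).card_mul_index
    rw [h1'] at h3
    have h4 : Nat.card (normalizer ((P : Subgroup G) : Set G)) * (P : Subgroup G).index
        = Nat.card (P : Subgroup G) * (P : Subgroup G).index := by rw [h3, h2]
    exact (Nat.eq_of_mul_eq_mul_right (Nat.pos_of_ne_zero hidx0) h4).le

end ppoB

end Cfsg.Agent.Lib.helper23
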