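import Mathlib
import Cfsg.Agent.Lib.helper23.PPOutB
import Cfsg.Agent.Lib.Helper22.Burnside

set_option autoImplicit false

namespace Cfsg.Agent.Lib.helper23

open Subgroup

section ppoC

variable {G : Type*} [Group G] [Finite G]

/-- normal `p`-complement of a normal subgroup `N`, as a normal subgroup of `G` -/
theorem ppo_complement (N : Subgroup G) [hN : N.Normal] (p : ℕ) [Fact p.Prime] (P : Sylow p G)
    (hsup : N ⊔ (P : Subgroup G) = ⊤)
    (hNC : normalizer (((P : Subgroup G) ⊓ N : Subgroup G) : Set G) ≤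
      centralizer (((P : Subgroup G) ⊓ N : Subgroup G) : Set G)) :
    ∃ K : Subgroup G, K.Normal ∧ K ≤ N ∧ (∀ k, k ∈ K ↔ k ∈ N ∧ (orderOf k).Coprime p) ∧
      (∀ n ∈ N, ∃ k ∈ K, ∃ s ∈ (P : Subgroup G) ⊓ N, n = k * s) := by
  have hp : p.Prime := Fact.out
  set S : Subgroup G := (P : Subgroup G) ⊓ N with hS
  have hSN : S ≤ N := inf_le_right
  have hS'p : IsPGroup p (S.subgroupOf N) :=
    (P.2.to_le (inf_le_left : S ≤ (P : Subgroup G))).comap_of_injective N.subtype
      (Subgroup.subtype_injective N)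
  have hidx : ¬ p ∣ (S.subgroupOf N).index := by
    have h1 := ppo_card_N N P hsup
    have h2 := Cfsg.Agent.Lib.Helper22.card_mul_relIndex_of_le hSN
    have hSpos : 0 < Nat.card S := Nat.card_pos
    have h3 : S.relIndex N = (P : Subgroup G).index := by
      have h4 : Nat.card S * S.relIndex N = Nat.card S * (P : Subgroup G).index := by
        rw [h2, mul_comm, h1]
      exact Nat.eq_of_mul_eq_mul_left hSpos h4
    show ¬ p ∣ S.relIndex N
    rw [h3]
    exact P.not_dvd_index
  set Sy : Sylow p N := hS'p.toSylow hidx with hSy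
  have hSymem : ∀ y : N, y ∈ (Sy : Subgroup N) ↔ (y : G) ∈ S := by
    intro y
    show y ∈ S.subgroupOf N ↔ _
    exact Subgroup.mem_subgroupOf
  have hNC' : normalizer ((Sy : Subgroup N) : Set N) ≤ centralizer ((Sy : Subgroup N) : Set N) := by
    intro g hg
    rw [mem_centralizer_iff]
    intro y hy
    have hyS : (y : G) ∈ S := (hSymem y).mp hy
    have hgN : (g : G) ∈ normalizer (S : Set G) := by
      apply Subgroup.mem_normalizer_fintype
      intro z hz
      have hz' : z ∈ S := hz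
      have h1 : (⟨z, hSN hz'⟩ : N) ∈ (Sy : Subgroup N) := (hSymem _).mpr hz'
      have h2 := (Subgroup.mem_normalizer_iff.mp hg _).mp h1
      have h3 := (hSymem _).mp h2
      simpa using h3
    have hgC := hNC hgN
    rw [mem_centralizer_iff] at hgC
    exact Subtype.ext (hgC (y : G) hyS)
  obtain ⟨K₀, hK₀n, hK₀c, hK₀mem⟩ := Cfsg.Agent.Lib.Helper22.burnside_type p Sy hNC'
  have hmemK : ∀ g, g ∈ K₀.map N.subtype ↔ g ∈ N ∧ (orderOf g).Coprime p := by
    intro g
    rw [Subgroup.mem_map]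
    constructor
    · rintro ⟨k, hk, rfl⟩
      refine ⟨k.2, ?_⟩
      have := (hK₀mem k).mp hk
      simpa using this
    · rintro ⟨hgN, hgo⟩
      refine ⟨⟨g, hgN⟩, (hK₀mem _).mpr ?_, rfl⟩
      rw [Subgroup.orderOf_mk]
      exact hgo
  refine ⟨K₀.map N.subtype, ?_, ?_, hmemK, ?_⟩
  · constructor
    intro k hk g
    rw [hmemK] at hk ⊢
    refine ⟨hN.conj_mem k hk.1 g, ?_⟩
    rw [orderOf_conj_eq]
    exact hk.2
  · intro g hg
    exact ((hmemK g).mp hg).1
  · intro n hn
    have h1 : (⟨n, hn⟩ : N) ∈ ((K₀ ⊔ (Sy : Subgroup N) : Subgroup N) : Set N) := by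
      rw [hK₀c.sup_eq_top]
      trivial
    rw [Subgroup.normal_mul, Set.mem_mul] at h1
    obtain ⟨k, hk, y, hy, hky⟩ := h1
    refine ⟨(k : G), Subgroup.mem_map_of_mem N.subtype hk, (y : G), (hSymem y).mp hy, ?_⟩
    have := congrArg Subtype.val hky
    simpa using this.symm

end ppoC

end Cfsg.Agent.Lib.helper23
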