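import Mathlib
import Cfsg.Agent.Lib.helper23.PPOutC
import Cfsg.Agent.Lib.Helper1.FPF.Main2

set_option autoImplicit false

namespace Cfsg.Agent.Lib.helper23

open Subgroup

section ppoD

variable {G : Type*} [Group G] [Finite G]

/-- the structural configuration reached in the proof -/
structure PPOCfg (N : Subgroup G) (p : ℕ) (P : Sylow p G) (K : Subgroup G) : Prop where
  hKn : K.Normal
  hKN : K ≤ N
  hKmem : ∀ k, k ∈ K ↔ k ∈ N ∧ (orderOf k).Coprime p
  hdec : ∀ n ∈ N, ∃ k ∈ K, ∃ s ∈ (P : Subgroup G) ⊓ N, n = k * s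
  hsup : N ⊔ (P : Subgroup G) = ⊤
  hco : IsCoatom (P : Subgroup G)
  hScent : ∀ s ∈ (P : Subgroup G) ⊓ N, ∀ u ∈ (P : Subgroup G), u * s = s * u
  hcent : ∀ y ∈ (P : Subgroup G), y ∉ N → IsPGroup p (centralizer ({y} : Set G)) ∧
    ∃ Q : Sylow p G, (Q : Subgroup G) = centralizer ({y} : Set G)

variable {N : Subgroup G} {p : ℕ} [Fact p.Prime] {P : Sylow p G} {K : Subgroup G}

theorem PPOCfg.inf_eq_one (c : PPOCfg N p P K) {k : G} (hk : k ∈ K) (hkP : k ∈ (P : Subgroup G)) :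
    k = 1 := by
  have hp : p.Prime := Fact.out
  have h1 := ((c.hKmem k).mp hk).2
  obtain ⟨j, hj⟩ := (IsPGroup.iff_orderOf.mp P.2) ⟨k, hkP⟩
  rw [Subgroup.orderOf_mk] at hj
  rw [hj] at h1
  have h2 : (p ^ j).Coprime (p ^ j) := h1.pow_right j
  rw [Nat.coprime_self] at h2
  rw [h2] at hj
  exact orderOf_eq_one_iff.mp hj

theorem PPOCfg.decomp (c : PPOCfg N p P K) [hN : N.Normal] (g : G) :
    ∃ k ∈ K, ∃ u ∈ (P : Subgroup G), g = k * u := by
  have hg : g ∈ N ⊔ (P : Subgroup G) := c.hsup ▸ mem_top g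
  rw [Subgroup.mem_sup_of_normal_left] at hg
  obtain ⟨n, hn, u, hu, rfl⟩ := hg
  obtain ⟨k, hk, s, hs, rfl⟩ := c.hdec n hn
  exact ⟨k, hk, s * u, (P : Subgroup G).mul_mem hs.1 hu, by rw [mul_assoc]⟩

theorem PPOCfg.free (c : PPOCfg N p P K) {y : G} (hy : y ∈ (P : Subgroup G)) (hyN : y ∉ N)
    {k : G} (hk : k ∈ K) (hyk : y * k = k * y) : k = 1 := by
  have hp : p.Prime := Fact.out
  have h1 := ((c.hKmem k).mp hk).2
  have hkC : k ∈ centralizer ({y} : Set G) := mem_cent_singleton.mpr hyk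
  obtain ⟨j, hj⟩ := (IsPGroup.iff_orderOf.mp (c.hcent y hy hyN).1) ⟨k, hkC⟩
  rw [Subgroup.orderOf_mk] at hj
  rw [hj] at h1
  have h2 : (p ^ j).Coprime (p ^ j) := h1.pow_right j
  rw [Nat.coprime_self] at h2
  rw [h2] at hj
  exact orderOf_eq_one_iff.mp hj

/-- elements of `P` outside `N` are central in `P` -/
theorem PPOCfg.central (c : PPOCfg N p P K) [hN : N.Normal] {y : G} (hy : y ∈ (P : Subgroup G))
    (hyN : y ∉ N) {v : G} (hv : v ∈ (P : Subgroup G)) : y * v = v * y := by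
  haveI := c.hKn
  obtain ⟨Q, hQ⟩ := (c.hcent y hy hyN).2
  obtain ⟨g, hg⟩ := MulAction.exists_smul_eq G P Q
  obtain ⟨k, hk, u, hu, rfl⟩ := c.decomp g
  have hyQ0 : y ∈ (((k * u) • P : Sylow p G) : Subgroup G) := by
    rw [hg, hQ]
    exact self_mem_cent y
  have hyQ := (mem_smul_sylow_iff (k * u) P y).mp hyQ0
  -- `w = k⁻¹ y k ∈ P`
  have hw : k⁻¹ * y * k ∈ (P : Subgroup G) := by
    have h1 := (P : Subgroup G).mul_mem ((P : Subgroup G).mul_mem hu hyQ) ((P : Subgroup G).inv_mem hu)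
    have h2 : u * ((k * u)⁻¹ * y * (k * u)) * u⁻¹ = k⁻¹ * y * k := by group
    rwa [h2] at h1
  have h3 : y⁻¹ * (k⁻¹ * y * k) ∈ K := by
    have h4 : y⁻¹ * (k⁻¹ * y * k) = (y⁻¹ * k⁻¹ * y⁻¹⁻¹) * k := by group
    rw [h4]
    exact K.mul_mem (c.hKn.conj_mem _ (K.inv_mem hk) _) hk
  have h5 : y⁻¹ * (k⁻¹ * y * k) ∈ (P : Subgroup G) :=
    (P : Subgroup G).mul_mem ((P : Subgroup G).inv_mem hy) hw
  have h6 := c.inf_eq_one h3 h5
  have h7 : y * k = k * y := by
    have h8 : k⁻¹ * y * k = y := by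
      have := congrArg (fun t => y * t) h6
      simpa using this
    calc y * k = k * (k⁻¹ * y * k) := by group
      _ = k * y := by rw [h8]
  have hk1 := c.free hy hyN hk h7
  subst hk1
  rw [one_mul] at hg
  have hvQ : v ∈ (Q : Subgroup G) := by
    rw [← hg, mem_smul_sylow_iff]
    exact (P : Subgroup G).mul_mem ((P : Subgroup G).mul_mem ((P : Subgroup G).inv_mem hu) hv) hu
  rw [hQ] at hvQ
  exact mem_cent_singleton.mp hvQ

theorem PPOCfg.abelian (c : PPOCfg N p P K) [hN : N.Normal] {a b : G} (ha : a ∈ (P : Subgroup G))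
    (hb : b ∈ (P : Subgroup G)) : a * b = b * a := by
  by_cases haN : a ∈ N
  · by_cases hbN : b ∈ N
    · exact (c.hScent a ⟨ha, haN⟩ b hb).symm
    · exact (c.central hb hbN ha).symm
  · exact c.central ha haN hb

/-- dichotomy: an element of `P` centralizes `K` or acts without fixed points -/
theorem PPOCfg.dichotomy (c : PPOCfg N p P K) [hN : N.Normal] {u : G} (hu : u ∈ (P : Subgroup G)) :
    (∀ k ∈ K, u * k = k * u) ∨ (∀ k ∈ K, u * k = k * u → k = 1) := by
  haveI := c.hKn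
  -- the subgroup `C_K(u) P`
  let D : Subgroup G :=
    { carrier := {g | ∃ k ∈ K, u * k = k * u ∧ ∃ v ∈ (P : Subgroup G), g = k * v}
      one_mem' := ⟨1, K.one_mem, by simp, 1, (P : Subgroup G).one_mem, by simp⟩
      mul_mem' := by
        rintro _ _ ⟨k, hk, hku, v, hv, rfl⟩ ⟨k', hk', hku', v', hv', rfl⟩
        refine ⟨k * (v * k' * v⁻¹), K.mul_mem hk (c.hKn.conj_mem _ hk' _), ?_, v * v',
          (P : Subgroup G).mul_mem hv hv', by group⟩
        have huv : u * v = v * u := c.abelian hu hv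
        have huv' : u * v⁻¹ = v⁻¹ * u := by
          have : v⁻¹ * (u * v) * v⁻¹ = v⁻¹ * (v * u) * v⁻¹ := by rw [huv]
          have h1 : v⁻¹ * (u * v) * v⁻¹ = v⁻¹ * u := by group
          have h2 : v⁻¹ * (v * u) * v⁻¹ = u * v⁻¹ := by group
          rw [h1, h2] at this
          exact this.symm
        calc u * (k * (v * k' * v⁻¹)) = (u * k) * (v * k' * v⁻¹) := by group
          _ = (k * u) * (v * k' * v⁻¹) := by rw [hku]
          _ = k * ((u * v) * k' * v⁻¹) := by group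
          _ = k * ((v * u) * k' * v⁻¹) := by rw [huv]
          _ = k * (v * (u * k') * v⁻¹) := by group
          _ = k * (v * (k' * u) * v⁻¹) := by rw [hku']
          _ = k * (v * k' * (u * v⁻¹)) := by group
          _ = k * (v * k' * (v⁻¹ * u)) := by rw [huv']
          _ = k * (v * k' * v⁻¹) * u := by group
      inv_mem' := by
        rintro _ ⟨k, hk, hku, v, hv, rfl⟩
        refine ⟨v⁻¹ * k⁻¹ * v⁻¹⁻¹, c.hKn.conj_mem _ (K.inv_mem hk) _, ?_, v⁻¹,
          (P : Subgroup G).inv_mem hv, by group⟩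
        have huv : u * v = v * u := c.abelian hu hv
        have huv' : u * v⁻¹ = v⁻¹ * u := by
          have : v⁻¹ * (u * v) * v⁻¹ = v⁻¹ * (v * u) * v⁻¹ := by rw [huv]
          have h1 : v⁻¹ * (u * v) * v⁻¹ = v⁻¹ * u := by group
          have h2 : v⁻¹ * (v * u) * v⁻¹ = u * v⁻¹ := by group
          rw [h1, h2] at this
          exact this.symm
        have hku' : u * k⁻¹ = k⁻¹ * u := by
          have : k⁻¹ * (u * k) * k⁻¹ = k⁻¹ * (k * u) * k⁻¹ := by rw [hku]
          have h1 : k⁻¹ * (u * k) * k⁻¹ = k⁻¹ * u := by group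
          have h2 : k⁻¹ * (k * u) * k⁻¹ = u * k⁻¹ := by group
          rw [h1, h2] at this
          exact this.symm
        calc u * (v⁻¹ * k⁻¹ * v⁻¹⁻¹) = (u * v⁻¹) * k⁻¹ * v := by group
          _ = (v⁻¹ * u) * k⁻¹ * v := by rw [huv']
          _ = v⁻¹ * (u * k⁻¹) * v := by group
          _ = v⁻¹ * (k⁻¹ * u) * v := by rw [hku']
          _ = v⁻¹ * k⁻¹ * (u * v) := by group
          _ = v⁻¹ * k⁻¹ * (v * u) := by rw [huv]
          _ = v⁻¹ * k⁻¹ * v⁻¹⁻¹ * u := by group }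
  have hPD : (P : Subgroup G) ≤ D := by
    intro v hv
    exact ⟨1, K.one_mem, by simp, v, hv, by simp⟩
  rcases c.hco.le_iff.mp hPD with hD | hD
  · left
    intro k hk
    have hkD : k ∈ D := hD ▸ mem_top k
    obtain ⟨k', hk', hku', v, hv, hkv⟩ := hkD
    have hv1 : v = 1 := by
      have h1 : v = k'⁻¹ * k := by rw [hkv]; group
      have h2 : v ∈ K := by rw [h1]; exact K.mul_mem (K.inv_mem hk') hk
      exact c.inf_eq_one h2 hv
    rw [hv1, mul_one] at hkv
    rw [hkv]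
    exact hku'
  · right
    intro k hk hku
    have hkD : k ∈ D := ⟨k, hk, hku, 1, (P : Subgroup G).one_mem, by simp⟩
    rw [hD] at hkD
    exact c.inf_eq_one hk hkD

/-- `K` is nilpotent -/
theorem PPOCfg.nilpotent (c : PPOCfg N p P K) [hN : N.Normal] (x : G) (hx : x ∈ (P : Subgroup G))
    (hxN : x ∉ N) : Group.IsNilpotent K := by
  classical
  have hp : p.Prime := Fact.out
  haveI := c.hKn
  obtain ⟨e, he⟩ := (IsPGroup.iff_orderOf.mp P.2) ⟨x, hx⟩
  rw [Subgroup.orderOf_mk] at he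
  have hex : ∃ i : ℕ, ∀ k ∈ K, x ^ p ^ i * k = k * x ^ p ^ i := by
    refine ⟨e, fun k _ => ?_⟩
    rw [← he, pow_orderOf_eq_one, one_mul, mul_one]
  set i₁ := Nat.find hex with hi₁
  have hi₁spec := Nat.find_spec hex
  rcases Nat.eq_zero_or_pos i₁ with h0 | hpos
  · -- `x` centralizes `K`, so `K` is trivial
    have hK1 : ∀ k ∈ K, k = 1 := by
      intro k hk
      have h1 := hi₁spec k hk
      rw [← hi₁, h0, pow_zero, pow_one] at h1
      exact c.free hx hxN hk h1
    haveI : Subsingleton K := ⟨fun a b => Subtype.ext ((hK1 a a.2).trans (hK1 b b.2).symm)⟩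
    infer_instance
  · obtain ⟨i, hi⟩ : ∃ i, i₁ = i + 1 := ⟨i₁ - 1, by omega⟩
    have hnot : ¬ ∀ k ∈ K, x ^ p ^ i * k = k * x ^ p ^ i := by
      apply Nat.find_min hex
      omega
    set y := x ^ p ^ i with hy
    have hyP : y ∈ (P : Subgroup G) := (P : Subgroup G).pow_mem hx _
    have hfree : ∀ k ∈ K, y * k = k * y → k = 1 := by
      rcases c.dichotomy hyP with h1 | h1
      · exact absurd h1 hnot
      · exact h1
    have hyp : ∀ k ∈ K, y ^ p * k = k * y ^ p := by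
      intro k hk
      have h1 := hi₁spec k hk
      rw [← hi₁, hi, pow_succ, pow_mul] at h1
      exact h1
    apply Cfsg.Agent.Lib.Helper1.FPF.fpf_nilpotent (MulAut.conjNormal y : K ≃* K) _ hp
    · rw [← map_pow]
      ext k
      rw [MulAut.conjNormal_apply, MulAut.one_apply]
      have h1 := hyp k k.2
      calc y ^ p * (k : G) * (y ^ p)⁻¹ = ((k : G) * y ^ p) * (y ^ p)⁻¹ := by rw [h1]
        _ = (k : G) := by group
    · intro k hk
      have h1 : ((MulAut.conjNormal y k : K) : G) = k := congrArg Subtype.val hk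
      rw [MulAut.conjNormal_apply] at h1
      have h2 : y * (k : G) = (k : G) * y := by
        calc y * (k : G) = (y * (k : G) * y⁻¹) * y := by group
          _ = (k : G) * y := by rw [h1]
      exact Subtype.ext (hfree k k.2 h2)

end ppoD

end Cfsg.Agent.Lib.helper23
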