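import Mathlib
import Cfsg.Agent.Lib.helper23.PPOutD

set_option autoImplicit false

namespace Cfsg.Agent.Lib.helper23

open Subgroup

section ppoE

variable {G : Type*} [Group G] [Finite G]

/-- a `p`-subgroup is solvable -/
theorem ppo_solvable_of_pgroup (N : Subgroup G) (p : ℕ) [Fact p.Prime] (hNp : IsPGroup p N) :
    Group.IsSolvable N := by
  have h1 : Group.IsNilpotent N := hNp.isNilpotent
  infer_instance

/-- a proper normal subgroup all of whose outside elements have prime power order and maximal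
centralizer is solvable -/
theorem ppo_main (N : Subgroup G) [hNn : N.Normal] (hNtop : N ≠ ⊤)
    (h : ∀ x : G, x ∉ N → IsPrimePow (orderOf x) ∧ IsCoatom (centralizer ({x} : Set G))) :
    Group.IsSolvable N := by
  classical
  obtain ⟨x, hxN⟩ : ∃ x : G, x ∉ N := by
    by_contra hcon
    push Not at hcon
    exact hNtop (eq_top_iff.mpr fun g _ => hcon g)
  have hpp : ∀ y : G, y ∉ N → IsPrimePow (orderOf y) := fun y hy => (h y hy).1
  obtain ⟨p, k, hp, hk0, hk⟩ := (isPrimePow_nat_iff _).mp (hpp x hxN)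
  haveI : Fact p.Prime := ⟨hp⟩
  have hk' : orderOf x = p ^ k := hk.symm
  by_cases hGp : IsPGroup p G
  · exact ppo_solvable_of_pgroup N p (hGp.to_subgroup N)
  have hCp := ppo_cent_pgroup N x hxN p k hk' hpp
  rcases ppo_sylow_or_pgroup _ (h x hxN).2 p hCp with h1 | ⟨P, hP⟩
  · exact absurd h1 hGp
  have hco : IsCoatom (P : Subgroup G) := hP ▸ (h x hxN).2
  have hxP : x ∈ (P : Subgroup G) := by rw [hP]; exact self_mem_cent x
  by_cases hNP : N ≤ (P : Subgroup G)
  · exact ppo_solvable_of_pgroup N p (P.2.to_le hNP)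
  have hsup : N ⊔ (P : Subgroup G) = ⊤ := by
    rcases hco.le_iff.mp (le_sup_right : (P : Subgroup G) ≤ N ⊔ P) with h1 | h1
    · exact h1
    · exfalso
      apply hNP
      rw [← h1]
      exact le_sup_left
  have hgen : ∀ y : G, y ∉ N → (∃ j : ℕ, orderOf y = p ^ j) →
      IsPGroup p (centralizer ({y} : Set G)) ∧
        ∃ Q : Sylow p G, (Q : Subgroup G) = centralizer ({y} : Set G) := by
    rintro y hy ⟨j, hj⟩
    have h1 := ppo_cent_pgroup N y hy p j hj hpp
    refine ⟨h1, ?_⟩
    rcases ppo_sylow_or_pgroup _ (h y hy).2 p h1 with h2 | h2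
    · exact absurd h2 hGp
    · exact h2
  have hsyl : ∀ n : N, ∃ Q : Sylow p G,
      (Q : Subgroup G) = centralizer ({x * (n : G)} : Set G) := by
    intro n
    obtain ⟨h1, h2⟩ := ppo_coset_order N x hxN p k hk' hpp n n.2
    exact (hgen _ h1 h2).2
  obtain ⟨hZ, hNP'⟩ := ppo_count N p P x hsup hsyl
  have hScent : ∀ s ∈ (P : Subgroup G) ⊓ N, ∀ u ∈ (P : Subgroup G), u * s = s * u := by
    intro s hs u hu
    have h1 : s ∈ ppoZc N (P : Subgroup G) := by rw [hZ]; exact hs
    have h2 : s ∈ centralizer ((P : Subgroup G) : Set G) := h1.1.1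
    exact mem_centralizer_iff.mp h2 u hu
  have hPtop : (P : Subgroup G) ≠ ⊤ := hco.1
  have hNC : normalizer (((P : Subgroup G) ⊓ N : Subgroup G) : Set G) ≤
      centralizer (((P : Subgroup G) ⊓ N : Subgroup G) : Set G) := by
    have hPC : (P : Subgroup G) ≤ centralizer (((P : Subgroup G) ⊓ N : Subgroup G) : Set G) := by
      intro u hu
      rw [mem_centralizer_iff]
      intro s hs
      exact (hScent s hs u hu).symm
    rcases hco.le_iff.mp hPC with h1 | h1
    · rw [h1]
      exact le_top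
    · have hPNm : (P : Subgroup G) ≤ normalizer (((P : Subgroup G) ⊓ N : Subgroup G) : Set G) := by
        have h2 := centralizer_le_normalizer (((P : Subgroup G) ⊓ N : Subgroup G) : Set G)
        rw [h1] at h2
        exact h2
      rcases hco.le_iff.mp hPNm with h2 | h2
      · exfalso
        have h3 : ((P : Subgroup G) ⊓ N : Subgroup G).Normal := normalizer_eq_top_iff.mp h2
        have h4 : (centralizer (((P : Subgroup G) ⊓ N : Subgroup G) : Set G)).Normal :=
          Subgroup.normal_centralizer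
        rw [h1] at h4
        have h5 : normalizer ((P : Subgroup G) : Set G) = ⊤ := normalizer_eq_top_iff.mpr h4
        rw [hNP'] at h5
        exact hPtop h5
      · rw [h1, h2]
  obtain ⟨K, hKn, hKN, hKmem, hdec⟩ := ppo_complement N p P hsup hNC
  have c : PPOCfg N p P K :=
    { hKn := hKn
      hKN := hKN
      hKmem := hKmem
      hdec := hdec
      hsup := hsup
      hco := hco
      hScent := hScent
      hcent := fun y hy hyN => hgen y hyN (orderOf_eq_prime_pow_of_mem_sylow P hy) }
  have hKnil : Group.IsNilpotent K := c.nilpotent x hxP hxN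
  have hKsol : Group.IsSolvable K := inferInstance
  have hKsN : (K.subgroupOf N).Normal := inferInstance
  have hQp : IsPGroup p (N ⧸ K.subgroupOf N) := by
    intro q
    obtain ⟨n, rfl⟩ := QuotientGroup.mk_surjective q
    obtain ⟨k, hk, s, hs, hn⟩ := hdec n n.2
    obtain ⟨j, hj⟩ := orderOf_eq_prime_pow_of_mem_sylow P hs.1
    refine ⟨j, ?_⟩
    have hn' : n = (⟨k, hKN hk⟩ : N) * ⟨s, hs.2⟩ := Subtype.ext hn
    have hk1 : (((⟨k, hKN hk⟩ : N)) : N ⧸ K.subgroupOf N) = 1 := by
      rw [QuotientGroup.eq_one_iff, Subgroup.mem_subgroupOf]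
      exact hk
    have hs1 : (⟨s, hs.2⟩ : N) ^ (p ^ j) = 1 := by
      apply Subtype.ext
      rw [Subgroup.coe_pow, Subgroup.coe_one]
      show s ^ (p ^ j) = 1
      rw [← hj, pow_orderOf_eq_one]
    rw [hn', QuotientGroup.mk_mul, hk1, one_mul, ← QuotientGroup.mk_pow, hs1, QuotientGroup.mk_one]
  have hQnil : Group.IsNilpotent (N ⧸ K.subgroupOf N) := hQp.isNilpotent
  have hQsol : Group.IsSolvable (N ⧸ K.subgroupOf N) := inferInstance
  refine solvable_of_ker_le_range (Subgroup.inclusion hKN) (QuotientGroup.mk' (K.subgroupOf N)) ?_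
  intro n hn
  rw [QuotientGroup.ker_mk', Subgroup.mem_subgroupOf] at hn
  exact ⟨⟨n, hn⟩, Subtype.ext rfl⟩

end ppoE

end Cfsg.Agent.Lib.helper23
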