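import Cfsg.Agent.Lib.helper23.PgZ
import Cfsg.Agent.Lib.Helper19.L27

set_option autoImplicit false

/-!
# Packed vectors over the field with nine elements

The field is `F9 = (ZMod 3)[i]` with `i ^ 2 = -1`.  A vector of `F9 ^ ι`, with a numbering
`e : ι ≃ Fin m` of the coordinates, is packed into a number, two bits per digit, two digits (real
and imaginary part) per coordinate; a matrix is packed in the same way, row by row.
-/

namespace Cfsg.Agent.Lib.helper23

open Matrix Cfsg.Agent.Lib.Helper19.L27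

/-- the element of the field with given digits -/
def pg9El (a b : ℕ) : F9 := ⟨((a : ℕ) : ZMod 3), ((b : ℕ) : ZMod 3)⟩

theorem pg9El_re (a b : ℕ) : (pg9El a b).re = ((a : ℕ) : ZMod 3) := rfl

theorem pg9El_im (a b : ℕ) : (pg9El a b).im = ((b : ℕ) : ZMod 3) := rfl

theorem f9_re_sum {α : Type*} (s : Finset α) (f : α → F9) :
    (∑ a ∈ s, f a).re = ∑ a ∈ s, (f a).re :=
  map_sum (⟨⟨QuadraticAlgebra.re, rfl⟩, QuadraticAlgebra.re_add⟩ : F9 →+ ZMod 3) f s

theorem f9_im_sum {α : Type*} (s : Finset α) (f : α → F9) :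
    (∑ a ∈ s, f a).im = ∑ a ∈ s, (f a).im :=
  map_sum (⟨⟨QuadraticAlgebra.im, rfl⟩, QuadraticAlgebra.im_add⟩ : F9 →+ ZMod 3) f s

theorem f9_two : (2 : ZMod 3) = -1 := by decide

section
variable {ι : Type} {m : ℕ}

/-- the vector of a packed vector -/
def pg9Dec (e : ι ≃ Fin m) (u : ℕ) : ι → F9 := fun i =>
  pg9El (pgDig u (2 * (e i).1)) (pgDig u (2 * (e i).1 + 1))

theorem pg9Dec_inj (e : ι ≃ Fin m) {u u' : ℕ} (h : u < 4 ^ (2 * m)) (h' : u' < 4 ^ (2 * m))
    (hd : pg3DigOk (2 * m) u = true) (hd' : pg3DigOk (2 * m) u' = true)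
    (he : pg9Dec e u = pg9Dec e u') : u = u' := by
  apply pg_eq_of_dig (2 * m) u u' h h'
  intro i hi
  have h1 := (pgAll_iff _ _).1 hd i hi
  have h2 := (pgAll_iff _ _).1 hd' i hi
  rw [Nat.blt_eq] at h1 h2
  have hk : i / 2 < m := by omega
  have := congrFun he (e.symm ⟨i / 2, hk⟩)
  unfold pg9Dec at this
  rw [Equiv.apply_symm_apply] at this
  rcases Nat.mod_two_eq_zero_or_one i with hm | hm
  · have e2 : 2 * (i / 2) = i := by omega
    have hre := congrArg QuadraticAlgebra.re this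
    rw [pg9El_re, pg9El_re] at hre
    change ((pgDig u (2 * (i / 2)) : ℕ) : ZMod 3) = ((pgDig u' (2 * (i / 2)) : ℕ) : ZMod 3) at hre
    rw [e2] at hre
    exact pg3_cast_inj h1 h2 hre
  · have e2 : 2 * (i / 2) + 1 = i := by omega
    have him := congrArg QuadraticAlgebra.im this
    rw [pg9El_im, pg9El_im] at him
    change ((pgDig u (2 * (i / 2) + 1) : ℕ) : ZMod 3) =
      ((pgDig u' (2 * (i / 2) + 1) : ℕ) : ZMod 3) at him
    rw [e2] at him
    exact pg3_cast_inj h1 h2 him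

/-- the first nonzero coordinate is 1 -/
def pg9NormOk (m u : ℕ) : Bool :=
  pgAnyN m (fun i => (Nat.beq (pgDig u (Nat.mul 2 i)) 1 &&
    Nat.beq (pgDig u (Nat.succ (Nat.mul 2 i))) 0) &&
    pgAll (Nat.mul 2 i) (fun j => Nat.beq (pgDig u j) 0))

theorem pg9El_one : pg9El 1 0 = 1 := by
  ext
  · rfl
  · rfl

theorem pg9El_zero : pg9El 0 0 = 0 := by
  ext
  · rfl
  · rfl

theorem pg9NormOk_spec (e : ι ≃ Fin m) {u : ℕ} (h : pg9NormOk m u = true) :
    ∃ i : ι, pg9Dec e u i = 1 ∧ ∀ j : ι, e j < e i → pg9Dec e u j = 0 := by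
  obtain ⟨i, hi, h1⟩ := (pgAnyN_iff _ _).1 h
  simp only [Bool.and_eq_true, Nat.beq_eq] at h1
  obtain ⟨⟨ha, hb⟩, hc⟩ := h1
  rw [pgAll_iff] at hc
  refine ⟨e.symm ⟨i, hi⟩, ?_, ?_⟩
  · unfold pg9Dec
    rw [Equiv.apply_symm_apply]
    change pg9El (pgDig u (Nat.mul 2 i)) (pgDig u (Nat.succ (Nat.mul 2 i))) = 1
    rw [ha, hb]
    exact pg9El_one
  · intro j hj
    rw [Equiv.apply_symm_apply] at hj
    have hj' : (e j).1 < i := hj
    have c1 := hc (2 * (e j).1) (by change 2 * (e j).1 < 2 * i; omega)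
    have c2 := hc (2 * (e j).1 + 1) (by change 2 * (e j).1 + 1 < 2 * i; omega)
    rw [Nat.beq_eq] at c1 c2
    unfold pg9Dec
    rw [c1, c2]
    exact pg9El_zero

/-- the check of the table of the vectors: in range, strictly increasing, normalised, digits
less than 3 -/
def pg9ChkVecs (N m : ℕ) (V : ℕ → ℕ) : Bool :=
  ((pgAll N (fun x => Nat.blt (V x) (Nat.pow 4 (Nat.mul 2 m))) &&
    pgAll (Nat.pred N) (fun x => Nat.blt (V x) (V (Nat.succ x)))) &&
  pgAll N (fun x => pg9NormOk m (V x))) && pgAll N (fun x => pg3DigOk (Nat.mul 2 m) (V x))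

/-- normalised pairwise different vectors are pairwise non-proportional -/
theorem pgLines_of_norm {F : Type*} [Field F] {N : ℕ} (e : ι ≃ Fin m) (vec : Fin N → ι → F)
    (hnorm : ∀ p, ∃ i : ι, vec p i = 1 ∧ ∀ j : ι, e j < e i → vec p j = 0)
    (hinj : ∀ p p', vec p = vec p' → p = p') : PgLines vec := by
  refine ⟨?_, ?_⟩
  · intro p h0
    obtain ⟨i, hi, -⟩ := hnorm p
    rw [h0] at hi
    exact zero_ne_one hi
  · intro p p' c he
    obtain ⟨i, hi, hi0⟩ := hnorm p
    obtain ⟨i', hi', hi0'⟩ := hnorm p'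
    have hc : c ≠ 0 := by
      rintro rfl
      rw [zero_smul] at he
      rw [he] at hi
      exact zero_ne_one hi
    have hii : i = i' := by
      rcases lt_trichotomy (e i) (e i') with hlt' | heq | hgt
      · have := congrFun he i
        rw [hi, Pi.smul_apply, hi0' i hlt', smul_zero] at this
        exact absurd this one_ne_zero
      · exact e.injective heq
      · have := congrFun he i'
        rw [hi0 i' hgt, Pi.smul_apply, hi', smul_eq_mul, mul_one] at this
        exact absurd this.symm hc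
    have hc1 : c = 1 := by
      have := congrFun he i
      rw [hi, Pi.smul_apply, hii, hi', smul_eq_mul, mul_one] at this
      exact this.symm
    rw [hc1, one_smul] at he
    exact hinj p p' he

theorem pg9Lines_of_chk (e : ι ≃ Fin m) {N : ℕ} {V : ℕ → ℕ} (h : pg9ChkVecs N m V = true) :
    PgLines (fun p : Fin N => pg9Dec e (V p.1)) := by
  unfold pg9ChkVecs at h
  simp only [Bool.and_eq_true] at h
  obtain ⟨⟨⟨h1, h2⟩, h3⟩, h5⟩ := h
  have hmono := pg_strictMono_of_succ (n := N) (v := V) (by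
    intro x hx
    have := (pgAll_iff _ _).1 h2 x (by simpa using hx)
    simpa using this)
  have hlt : ∀ p : Fin N, V p.1 < 4 ^ (2 * m) := by
    intro p
    have := (pgAll_iff _ _).1 h1 p.1 p.2
    simpa using this
  have hdig : ∀ p : Fin N, pg3DigOk (2 * m) (V p.1) = true :=
    fun p => (pgAll_iff _ _).1 h5 p.1 p.2
  apply pgLines_of_norm e
  · exact fun p => pg9NormOk_spec e ((pgAll_iff _ _).1 h3 p.1 p.2)
  · intro p p' he
    have hV := pg9Dec_inj e (hlt p) (hlt p') (hdig p) (hdig p') he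
    by_contra hne
    have hne' : p.1 ≠ p'.1 := fun e => hne (Fin.ext e)
    rcases Nat.lt_or_gt_of_ne hne' with h4 | h4
    · exact absurd hV (ne_of_lt (hmono _ _ h4 p'.2))
    · exact absurd hV (ne_of_gt (hmono _ _ h4 p.2))

variable [Fintype ι] [DecidableEq ι]

/-- the packed matrix `T` is the matrix `M` -/
def PgTab9 (e : ι ≃ Fin m) (T : ℕ) (M : Matrix ι ι F9) : Prop :=
  ∀ i j : ι, M i j = pg9El (pgDig T (2 * (m * (e i).1 + (e j).1)))
    (pgDig T (2 * (m * (e i).1 + (e j).1) + 1))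

/-- the real part of the row `i` of the packed matrix times the packed vector: the first `k`
terms -/
def pg9ReAux (m T u i k : ℕ) : ℕ :=
  @Nat.rec (fun _ => ℕ) 0
    (fun j ih => Nat.add ih (Nat.add
      (Nat.mul (pgDig T (Nat.mul 2 (Nat.add (Nat.mul m i) j))) (pgDig u (Nat.mul 2 j)))
      (Nat.mul 2 (Nat.mul (pgDig T (Nat.succ (Nat.mul 2 (Nat.add (Nat.mul m i) j))))
        (pgDig u (Nat.succ (Nat.mul 2 j))))))) k

/-- the imaginary part of the row `i` of the packed matrix times the packed vector: the first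
`k` terms -/
def pg9ImAux (m T u i k : ℕ) : ℕ :=
  @Nat.rec (fun _ => ℕ) 0
    (fun j ih => Nat.add ih (Nat.add
      (Nat.mul (pgDig T (Nat.mul 2 (Nat.add (Nat.mul m i) j))) (pgDig u (Nat.succ (Nat.mul 2 j))))
      (Nat.mul (pgDig T (Nat.succ (Nat.mul 2 (Nat.add (Nat.mul m i) j))))
        (pgDig u (Nat.mul 2 j))))) k

theorem pg9ReAux_eq (m T u i k : ℕ) :
    pg9ReAux m T u i k = ∑ j ∈ Finset.range k,
      (pgDig T (2 * (m * i + j)) * pgDig u (2 * j) +
        2 * (pgDig T (2 * (m * i + j) + 1) * pgDig u (2 * j + 1))) := by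
  induction k with
  | zero => rfl
  | succ k ih =>
    rw [Finset.sum_range_succ, ← ih]
    rfl

theorem pg9ImAux_eq (m T u i k : ℕ) :
    pg9ImAux m T u i k = ∑ j ∈ Finset.range k,
      (pgDig T (2 * (m * i + j)) * pgDig u (2 * j + 1) +
        pgDig T (2 * (m * i + j) + 1) * pgDig u (2 * j)) := by
  induction k with
  | zero => rfl
  | succ k ih =>
    rw [Finset.sum_range_succ, ← ih]
    rfl

omit [DecidableEq ι] in
theorem pg9Mv_spec (e : ι ≃ Fin m) {T : ℕ} {M : Matrix ι ι F9} (hT : PgTab9 e T M)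
    (u : ℕ) (i : ι) : (M *ᵥ pg9Dec e u) i =
      pg9El (pg9ReAux m T u (e i).1 m) (pg9ImAux m T u (e i).1 m) := by
  change ∑ j, M i j * pg9Dec e u j = _
  apply QuadraticAlgebra.ext
  · rw [f9_re_sum, pg9El_re, pg9ReAux_eq, Nat.cast_sum]
    let F : Fin m → ZMod 3 := fun k =>
      (((pgDig T (2 * (m * (e i).1 + k.1)) * pgDig u (2 * k.1) +
        2 * (pgDig T (2 * (m * (e i).1 + k.1) + 1) * pgDig u (2 * k.1 + 1)) : ℕ)) : ZMod 3)
    have h1 : ∀ j : ι, (M i j * pg9Dec e u j).re = F (e j) := by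
      intro j
      rw [hT i j, QuadraticAlgebra.re_mul]
      unfold pg9Dec
      rw [pg9El_re, pg9El_re, pg9El_im, pg9El_im]
      simp only [F]
      push_cast
      rw [f9_two]
      ring
    rw [Finset.sum_congr rfl (fun j _ => h1 j), Equiv.sum_comp e F]
    exact Fin.sum_univ_eq_sum_range
      (fun k => (((pgDig T (2 * (m * (e i).1 + k)) * pgDig u (2 * k) +
        2 * (pgDig T (2 * (m * (e i).1 + k) + 1) * pgDig u (2 * k + 1)) : ℕ)) : ZMod 3)) m
  · rw [f9_im_sum, pg9El_im, pg9ImAux_eq, Nat.cast_sum]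
    let F : Fin m → ZMod 3 := fun k =>
      (((pgDig T (2 * (m * (e i).1 + k.1)) * pgDig u (2 * k.1 + 1) +
        pgDig T (2 * (m * (e i).1 + k.1) + 1) * pgDig u (2 * k.1) : ℕ)) : ZMod 3)
    have h1 : ∀ j : ι, (M i j * pg9Dec e u j).im = F (e j) := by
      intro j
      rw [hT i j, QuadraticAlgebra.im_mul]
      unfold pg9Dec
      rw [pg9El_re, pg9El_re, pg9El_im, pg9El_im]
      simp only [F]
      push_cast
      ring
    rw [Finset.sum_congr rfl (fun j _ => h1 j), Equiv.sum_comp e F]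
    exact Fin.sum_univ_eq_sum_range
      (fun k => (((pgDig T (2 * (m * (e i).1 + k)) * pgDig u (2 * k + 1) +
        pgDig T (2 * (m * (e i).1 + k) + 1) * pgDig u (2 * k) : ℕ)) : ZMod 3)) m

/-- the check of the images of the lines: the points `p` with `lo ≤ p < lo + cnt`; the image of
the vector of `p` is the scalar with digits `cr p`, `ci p` times the vector of `f p` -/
def pg9ChkPts (m T : ℕ) (V f cr ci : ℕ → ℕ) (N lo cnt : ℕ) : Bool :=
  pgAll cnt (fun k => pgForce (Nat.add lo k) (fun p => pgForce (f p) (fun p' =>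
    Nat.blt p' N && pgAll m (fun i =>
      Nat.beq (Nat.mod (pg9ReAux m T (V p) i m) 3)
        (Nat.mod (Nat.add (Nat.mul (cr p) (pgDig (V p') (Nat.mul 2 i)))
          (Nat.mul 2 (Nat.mul (ci p) (pgDig (V p') (Nat.succ (Nat.mul 2 i)))))) 3) &&
      Nat.beq (Nat.mod (pg9ImAux m T (V p) i m) 3)
        (Nat.mod (Nat.add (Nat.mul (cr p) (pgDig (V p') (Nat.succ (Nat.mul 2 i))))
          (Nat.mul (ci p) (pgDig (V p') (Nat.mul 2 i)))) 3)))))

omit [DecidableEq ι] in
theorem pg9ChkPts_spec (e : ι ≃ Fin m) {T : ℕ} {V f cr ci : ℕ → ℕ} {N : ℕ}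
    {M : Matrix ι ι F9} (hT : PgTab9 e T M)
    (h : pg9ChkPts m T V f cr ci N 0 N = true) (p : ℕ) (hp : p < N) :
    f p < N ∧ M *ᵥ pg9Dec e (V p) = pg9El (cr p) (ci p) • pg9Dec e (V (f p)) := by
  have := (pgAll_iff _ _).1 h p hp
  rw [pgForce_eq, pgForce_eq] at this
  have e0 : Nat.add 0 p = p := by simp
  rw [e0] at this
  simp only [Bool.and_eq_true, Nat.blt_eq] at this
  obtain ⟨h1, h2⟩ := this
  refine ⟨h1, ?_⟩
  funext i
  rw [pg9Mv_spec e hT, Pi.smul_apply, smul_eq_mul]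
  have h3 := (pgAll_iff _ _).1 h2 (e i).1 (e i).2
  simp only [Bool.and_eq_true, Nat.beq_eq] at h3
  obtain ⟨h3a, h3b⟩ := h3
  unfold pg9Dec
  apply QuadraticAlgebra.ext
  · rw [QuadraticAlgebra.re_mul, pg9El_re, pg9El_re, pg9El_re, pg9El_im, pg9El_im]
    have := (ZMod.natCast_eq_natCast_iff' _ _ 3).2 h3a
    rw [this]
    change ((cr p * pgDig (V (f p)) (2 * (e i).1) +
      2 * (ci p * pgDig (V (f p)) (2 * (e i).1 + 1)) : ℕ) : ZMod 3) = _
    push_cast
    rw [f9_two]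
    ring
  · rw [QuadraticAlgebra.im_mul, pg9El_re, pg9El_im, pg9El_re, pg9El_im, pg9El_im]
    have := (ZMod.natCast_eq_natCast_iff' _ _ 3).2 h3b
    rw [this]
    change ((cr p * pgDig (V (f p)) (2 * (e i).1 + 1) +
      ci p * pgDig (V (f p)) (2 * (e i).1) : ℕ) : ZMod 3) = _
    push_cast
    ring

end

section
variable {K : Type*} [Group K] {ι : Type} [Fintype ι] [DecidableEq ι] {m N : ℕ}
  {ρ : K →* Matrix ι ι F9} {V : ℕ → ℕ}

/-- a checked element permutes the lines, as its table says -/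
theorem pg9_gen_of_chk (e : ι ≃ Fin m) (hL : PgLines (fun p : Fin N => pg9Dec e (V p.1))) (g : K)
    {T : ℕ} (hT : PgTab9 e T (ρ g)) {P : PFun} (hP : P.ok N = true) {cr ci : ℕ → ℕ}
    (h : pg9ChkPts m T V P.f cr ci N 0 N = true) :
    ∃ hg : g ∈ pgPStab ρ (fun p : Fin N => pg9Dec e (V p.1)) hL,
      pgPHom ρ (fun p : Fin N => pg9Dec e (V p.1)) hL ⟨g, hg⟩ = P.perm N := by
  have hrel : ∀ p : Fin N, PgRel ρ (fun p : Fin N => pg9Dec e (V p.1)) g p ((P.perm N) p) := by
    intro p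
    obtain ⟨h1, h2⟩ := pg9ChkPts_spec e hT h p.1 p.2
    refine ⟨pg9El (cr p.1) (ci p.1), ?_⟩
    change ρ g *ᵥ pg9Dec e (V p.1) = pg9El (cr p.1) (ci p.1) • pg9Dec e (V ((P.perm N) p).1)
    rw [PFun.perm_apply hP]
    exact h2
  have hg : g ∈ pgPStab ρ (fun p : Fin N => pg9Dec e (V p.1)) hL := fun p => ⟨_, hrel p⟩
  refine ⟨hg, ?_⟩
  ext p
  rw [pgPHom_apply_eq hL ⟨g, hg⟩ (hrel p)]

end

end Cfsg.Agent.Lib.helper23
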