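import Mathlib

set_option autoImplicit false

/-!
# One step of a stabiliser chain (abstract form)

`pg_step`: a set `S` of permutations, a subgroup `K` of the group generated by `S` fixing the
point `b`, and a family `u z` (`z ∈ O`) of elements of the generated group with `u z b = z`,
such that `(u (s z))⁻¹ * s * u z ∈ K` for all `s ∈ S`, `z ∈ O`.  Then the generated group is
`{u z * k}`, the stabiliser of `b` in it is `K`, and its order is `|O| * |K|`.
-/

namespace Cfsg.Agent.Lib.helper23

open Subgroup

theorem pg_inv_smul_subset {G : Type*} [Group G] [Finite G] (P : Set G) (g : G)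
    (h : ∀ x ∈ P, g * x ∈ P) : ∀ x ∈ P, g⁻¹ * x ∈ P := by
  classical
  have hfin : P.Finite := Set.toFinite P
  have himg : (fun x => g * x) '' P = P := by
    apply Set.eq_of_subset_of_ncard_le
    · rintro _ ⟨x, hx, rfl⟩
      exact h x hx
    · rw [Set.ncard_image_of_injective _ (mul_right_injective g)]
    · exact hfin
  intro x hx
  rw [← himg] at hx
  obtain ⟨y, hy, rfl⟩ := hx
  simpa using hy

section step

variable {α : Type*} [DecidableEq α] [Fintype α]

/-- the set of elements compatible with the transversal -/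
def pgP (K : Subgroup (Equiv.Perm α)) (b : α) (O : Finset α) (u : α → Equiv.Perm α) :
    Set (Equiv.Perm α) :=
  {g | g b ∈ O ∧ (u (g b))⁻¹ * g ∈ K}

theorem pg_closure_sub (S : Set (Equiv.Perm α)) (K : Subgroup (Equiv.Perm α)) (b : α)
    (O : Finset α) (u : α → Equiv.Perm α) (hb : b ∈ O) (hub : u b = 1)
    (hcl : ∀ s ∈ S, ∀ z ∈ O, s z ∈ O ∧ (u (s z))⁻¹ * s * u z ∈ K)
    (huz : ∀ z ∈ O, u z b = z) :
    ∀ g ∈ closure S, g ∈ pgP K b O u := by
  have key : ∀ g ∈ closure S, ∀ x ∈ pgP K b O u, g * x ∈ pgP K b O u := by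
    intro g hg
    induction hg using Subgroup.closure_induction with
    | mem s hs =>
      rintro x ⟨hx1, hx2⟩
      obtain ⟨h1, h2⟩ := hcl s hs (x b) hx1
      refine ⟨by simpa using h1, ?_⟩
      have e : (u ((s * x) b))⁻¹ * (s * x) =
          ((u (s (x b)))⁻¹ * s * u (x b)) * ((u (x b))⁻¹ * x) := by
        simp [mul_assoc]
      rw [e]
      exact K.mul_mem h2 hx2
    | one => intro x hx; simpa using hx
    | mul a c _ _ iha ihc =>
      intro x hx
      rw [mul_assoc]
      exact iha _ (ihc x hx)
    | inv a _ iha => exact pg_inv_smul_subset _ a iha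
  intro g hg
  have h1 : (1 : Equiv.Perm α) ∈ pgP K b O u := by
    refine ⟨by simpa using hb, ?_⟩
    simp [hub]
  simpa using key g hg 1 h1

theorem pg_step (S : Set (Equiv.Perm α)) (K : Subgroup (Equiv.Perm α)) (b : α)
    (O : Finset α) (u : α → Equiv.Perm α) (hb : b ∈ O) (hub : u b = 1)
    (huz : ∀ z ∈ O, u z b = z)
    (hK : K ≤ closure S) (hKb : ∀ k ∈ K, k b = b)
    (huS : ∀ z ∈ O, u z ∈ closure S)
    (hcl : ∀ s ∈ S, ∀ z ∈ O, s z ∈ O ∧ (u (s z))⁻¹ * s * u z ∈ K) :
    (∀ g ∈ closure S, g b = b → g ∈ K) ∧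
      Nat.card (closure S) = O.card * Nat.card K := by
  have hP := pg_closure_sub S K b O u hb hub hcl huz
  refine ⟨?_, ?_⟩
  · intro g hg hgb
    have := (hP g hg).2
    rw [hgb, hub] at this
    simpa using this
  · have e : (closure S) ≃ O × K :=
      { toFun := fun g => (⟨g.1 b, (hP g.1 g.2).1⟩, ⟨(u (g.1 b))⁻¹ * g.1, (hP g.1 g.2).2⟩)
        invFun := fun p => ⟨u p.1.1 * p.2.1,
          (closure S).mul_mem (huS p.1.1 p.1.2) (hK p.2.2)⟩
        left_inv := by
          intro g
          apply Subtype.ext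
          simp
        right_inv := by
          rintro ⟨⟨z, hz⟩, ⟨k, hk⟩⟩
          have h1 : (u z * k) b = z := by
            rw [Equiv.Perm.mul_apply, hKb k hk, huz z hz]
          apply Prod.ext
          · apply Subtype.ext
            exact h1
          · apply Subtype.ext
            simp only [h1]
            simp }
    rw [Nat.card_congr e, Nat.card_prod, Nat.card_eq_fintype_card, Fintype.card_coe]

end step

end Cfsg.Agent.Lib.helper23
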