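import Cfsg.Agent.Lib.helper23.PgH

set_option autoImplicit false

/-!
# A rigid ambient group from a graph

The ambient group is the automorphism group of a graph given by lists of neighbours; a base is
rigid if the remaining points can be fixed one after the other: each new point is the only
neighbour of a fixed point, not yet fixed, with prescribed adjacencies to some fixed points.
-/

namespace Cfsg.Agent.Lib.helper23

open Subgroup

/-- a binary tree of numbers -/
inductive PgTree where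
  | leaf : ℕ → PgTree
  | node : PgTree → PgTree → PgTree

/-- lookup in a tree of depth `d`: the bits of `i` from the top -/
noncomputable def PgTree.get (t : PgTree) : ℕ → ℕ → ℕ :=
  @PgTree.rec (fun _ => ℕ → ℕ → ℕ) (fun v _ _ => v)
    (fun _ _ ihl ihr d i => cond (pgBit i (Nat.pred d)) (ihr (Nat.pred d) i) (ihl (Nat.pred d) i)) t

/-- the mask of a list of points -/
def pgMask (l : List ℕ) : ℕ :=
  @List.rec ℕ (fun _ => ℕ) 0 (fun y _ ih => Nat.lor ih (Nat.shiftLeft 1 y)) l

theorem pgMask_cons (y : ℕ) (l : List ℕ) : pgMask (y :: l) = pgMask l ||| 1 <<< y := rfl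

theorem pgBit_or_shift (a z x : ℕ) :
    pgBit (a ||| 1 <<< z) x = true ↔ pgBit a x = true ∨ x = z := by
  rw [pgBit_eq, pgBit_eq, Nat.testBit_or, Bool.or_eq_true, Nat.one_shiftLeft,
    Nat.testBit_two_pow, decide_eq_true_eq]
  exact or_congr Iff.rfl ⟨Eq.symm, Eq.symm⟩

theorem pgMask_bit (l : List ℕ) (y : ℕ) : pgBit (pgMask l) y = true ↔ y ∈ l := by
  induction l with
  | nil =>
    rw [pgBit_eq]
    simp [pgMask]
  | cons a l ih =>
    rw [pgMask_cons, pgBit_or_shift, ih, List.mem_cons]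
    tauto

/-- the automorphism group of the graph -/
def pgGraphGrp (n : ℕ) (nb : ℕ → List ℕ) : Subgroup (Equiv.Perm (Fin n)) where
  carrier := {g | ∀ x y : Fin n, (g y).1 ∈ nb (g x).1 ↔ y.1 ∈ nb x.1}
  one_mem' := fun _ _ => Iff.rfl
  mul_mem' := by
    intro a b ha hb x y
    rw [Equiv.Perm.mul_apply, Equiv.Perm.mul_apply, ha, hb]
  inv_mem' := by
    intro a ha x y
    have e : ∀ i : Fin n, a (a⁻¹ i) = i := fun i => by simp
    have := ha (a⁻¹ x) (a⁻¹ y)
    rw [e, e] at this
    exact this.symm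

/-- the lookup function maps the edges at the points `x` with `lo ≤ x < lo + cnt` to edges -/
def pgChkGraphFunR (nb : ℕ → List ℕ) (f : ℕ → ℕ) (lo cnt : ℕ) : Bool :=
  pgAll cnt (fun k => pgForce (Nat.add lo k) (fun x =>
    pgForce (pgMask (nb (f x))) (fun m => pgAllL (nb x) (fun y => pgBit m (f y)))))

theorem pgChkGraphFunR_append {nb : ℕ → List ℕ} {f : ℕ → ℕ} {lo c1 c2 : ℕ}
    (h1 : pgChkGraphFunR nb f lo c1 = true) (h2 : pgChkGraphFunR nb f (lo + c1) c2 = true) :
    pgChkGraphFunR nb f lo (c1 + c2) = true := by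
  unfold pgChkGraphFunR at h1 h2 ⊢
  rw [pgAll_add, Bool.and_eq_true]
  refine ⟨h1, ?_⟩
  rw [pgAll_iff] at h2 ⊢
  intro k hk
  have := h2 k hk
  simp only [Nat.add_eq] at this ⊢
  rwa [Nat.add_assoc] at this

/-- the lookup function maps edges to edges -/
def pgChkGraphFun (n : ℕ) (nb : ℕ → List ℕ) (f : ℕ → ℕ) : Bool := pgChkGraphFunR nb f 0 n

theorem pgChkGraphFun_spec {n : ℕ} {nb : ℕ → List ℕ} {f : ℕ → ℕ}
    (h : pgChkGraphFun n nb f = true) (x : ℕ) (hx : x < n) (y : ℕ) (hy : y ∈ nb x) :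
    f y ∈ nb (f x) := by
  have := (pgAll_iff _ _).1 h x hx
  rw [pgForce_eq, pgForce_eq] at this
  have e : Nat.add 0 x = x := by simp
  rw [e] at this
  exact (pgMask_bit _ _).1 ((pgAllL_iff _ _).1 this y hy)

theorem pgGraph_mem {n : ℕ} {nb : ℕ → List ℕ} {P : PFun} (hP : P.ok n = true)
    (h1 : pgChkGraphFun n nb P.f = true) (h2 : pgChkGraphFun n nb P.g = true) :
    P.perm n ∈ pgGraphGrp n nb := by
  intro x y
  constructor
  · intro h
    have := pgChkGraphFun_spec h2 _ ((P.perm n) x).2 _ h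
    have e : ∀ i : Fin n, P.g ((P.perm n) i).1 = i.1 := by
      intro i
      rw [← PFun.perm_inv_apply hP]
      simp
    rwa [e, e] at this
  · intro h
    have := pgChkGraphFun_spec h1 _ x.2 _ h
    rwa [← PFun.perm_apply hP, ← PFun.perm_apply hP] at this

/-- kernel friendly filter -/
def pgFilter (l : List ℕ) (p : ℕ → Bool) : List ℕ :=
  @List.rec ℕ (fun _ => List ℕ) [] (fun a _ ih => cond (p a) (a :: ih) ih) l

theorem pgFilter_mem (l : List ℕ) (p : ℕ → Bool) (y : ℕ) :
    y ∈ pgFilter l p ↔ y ∈ l ∧ p y = true := by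
  induction l with
  | nil => simp [pgFilter]
  | cons a l ih =>
    have e : pgFilter (a :: l) p = cond (p a) (a :: pgFilter l p) (pgFilter l p) := rfl
    rw [e]
    cases hp : p a with
    | true =>
      simp only [cond_true, List.mem_cons, ih]
      constructor
      · rintro (h | h)
        · exact ⟨Or.inl h, by rw [h]; exact hp⟩
        · exact ⟨Or.inr h.1, h.2⟩
      · rintro ⟨h | h, h'⟩
        · exact Or.inl h
        · exact Or.inr ⟨h, h'⟩
    | false =>
      simp only [cond_false, List.mem_cons, ih]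
      constructor
      · rintro ⟨h, h'⟩
        exact ⟨Or.inr h, h'⟩
      · rintro ⟨h | h, h'⟩
        · rw [h, hp] at h'
          exact absurd h' (by simp)
        · exact ⟨h, h'⟩

/-- equality of truth values -/
def pgEqB (a b : Bool) : Bool := cond a b (cond b false true)

theorem pgEqB_iff (a b : Bool) : pgEqB a b = true ↔ a = b := by
  cases a <;> cases b <;> simp [pgEqB]

/-- the conditions `c = 2 * r + b` of a step: the point `r` is fixed, the new point `z` has
adjacency `b` to `r`; the candidates are filtered by the same condition, in the end none is left -/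
def pgStepRun (nb : ℕ → List ℕ) (mask z : ℕ) (cs : List ℕ) : List ℕ → Bool :=
  @List.rec ℕ (fun _ => List ℕ → Bool)
    (fun cand => @List.rec ℕ (fun _ => Bool) true (fun _ _ _ => false) cand)
    (fun c _ ih cand => pgForce (pgMask (nb (Nat.shiftRight c 1))) (fun m =>
      (pgBit mask (Nat.shiftRight c 1) && pgEqB (pgBit m z) (pgBit c 0)) &&
        ih (pgFilter cand (fun y => pgEqB (pgBit m y) (pgBit c 0)))))
    cs

theorem pgStepRun_nil (nb : ℕ → List ℕ) (mask z : ℕ) (cand : List ℕ) :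
    pgStepRun nb mask z [] cand = true ↔ cand = [] := by
  cases cand with
  | nil => exact ⟨fun _ => rfl, fun _ => rfl⟩
  | cons a l =>
    constructor
    · intro h
      exact absurd h (by simp [pgStepRun])
    · intro h
      exact absurd h (by simp)

theorem pgStepRun_cons (nb : ℕ → List ℕ) (mask z c : ℕ) (cs cand : List ℕ) :
    pgStepRun nb mask z (c :: cs) cand =
      ((pgBit mask (Nat.shiftRight c 1) &&
        pgEqB (pgBit (pgMask (nb (Nat.shiftRight c 1))) z) (pgBit c 0)) &&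
        pgStepRun nb mask z cs (pgFilter cand
          (fun y => pgEqB (pgBit (pgMask (nb (Nat.shiftRight c 1))) y) (pgBit c 0)))) := by
  have e : pgStepRun nb mask z (c :: cs) cand =
      pgForce (pgMask (nb (Nat.shiftRight c 1))) (fun m =>
      (pgBit mask (Nat.shiftRight c 1) && pgEqB (pgBit m z) (pgBit c 0)) &&
        pgStepRun nb mask z cs (pgFilter cand (fun y => pgEqB (pgBit m y) (pgBit c 0)))) := rfl
  rw [e, pgForce_eq]

theorem pgStepRun_spec (nb : ℕ → List ℕ) (mask z : ℕ) : ∀ (cs cand : List ℕ),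
    pgStepRun nb mask z cs cand = true →
    (∀ c ∈ cs, pgBit mask (Nat.shiftRight c 1) = true ∧
      pgBit (pgMask (nb (Nat.shiftRight c 1))) z = pgBit c 0) ∧
    (∀ y ∈ cand, ∃ c ∈ cs, pgBit (pgMask (nb (Nat.shiftRight c 1))) y ≠ pgBit c 0) := by
  intro cs
  induction cs with
  | nil =>
    intro cand h
    rw [pgStepRun_nil] at h
    rw [h]
    exact ⟨fun c hc => absurd hc List.not_mem_nil, fun y hy => absurd hy List.not_mem_nil⟩
  | cons c cs ih =>
    intro cand h
    rw [pgStepRun_cons, Bool.and_eq_true, Bool.and_eq_true, pgEqB_iff] at h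
    obtain ⟨⟨h1, h2⟩, h3⟩ := h
    obtain ⟨i1, i2⟩ := ih _ h3
    refine ⟨?_, ?_⟩
    · intro c' hc'
      rcases List.mem_cons.1 hc' with rfl | hc'
      · exact ⟨h1, h2⟩
      · exact i1 c' hc'
    · intro y hy
      by_cases hyc : pgBit (pgMask (nb (Nat.shiftRight c 1))) y = pgBit c 0
      · have : y ∈ pgFilter cand
            (fun y => pgEqB (pgBit (pgMask (nb (Nat.shiftRight c 1))) y) (pgBit c 0)) := by
          rw [pgFilter_mem]
          exact ⟨hy, (pgEqB_iff _ _).2 hyc⟩
        obtain ⟨c', hc', hne⟩ := i2 y this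
        exact ⟨c', List.mem_cons_of_mem c hc', hne⟩
      · exact ⟨c, List.mem_cons_self, hyc⟩

/-- the check of a step: the new point `z` is a neighbour of the fixed point `q` -/
def pgStepChk (n : ℕ) (nb : ℕ → List ℕ) (mask z q : ℕ) (cs : List ℕ) : Bool :=
  (Nat.blt z n && (pgBit mask q && pgBit (pgMask (nb q)) z)) &&
    pgStepRun nb mask z cs
      (pgFilter (nb q) (fun y => cond (pgBit mask y) false (cond (Nat.beq y z) false true)))

/-- a step fixes its point -/
theorem pgStepChk_sound {n : ℕ} {nb : ℕ → List ℕ} {g : Equiv.Perm (Fin n)}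
    (hg : g ∈ pgGraphGrp n nb) {mask z q : ℕ} {cs : List ℕ}
    (hm : ∀ x, pgBit mask x = true → ∃ h : x < n, g ⟨x, h⟩ = ⟨x, h⟩)
    (h : pgStepChk n nb mask z q cs = true) : ∃ hz : z < n, g ⟨z, hz⟩ = ⟨z, hz⟩ := by
  unfold pgStepChk at h
  simp only [Bool.and_eq_true, Nat.blt_eq] at h
  obtain ⟨⟨hz, hq, hzq⟩, hrun⟩ := h
  refine ⟨hz, ?_⟩
  obtain ⟨c1, c2⟩ := pgStepRun_spec nb mask z cs _ hrun
  obtain ⟨hqn, hgq⟩ := hm q hq
  have hzq' : z ∈ nb q := (pgMask_bit _ _).1 hzq
  -- the image of `z` is a neighbour of `q`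
  have hy : (g ⟨z, hz⟩).1 ∈ nb q := by
    have := (hg ⟨q, hqn⟩ ⟨z, hz⟩).2 hzq'
    rwa [hgq] at this
  by_contra hne
  have hne' : (g ⟨z, hz⟩).1 ≠ z := fun e => hne (Fin.ext e)
  -- the image of `z` is not fixed
  have hnf : pgBit mask (g ⟨z, hz⟩).1 = false := by
    cases hb : pgBit mask (g ⟨z, hz⟩).1 with
    | false => rfl
    | true =>
      obtain ⟨_, hfix⟩ := hm _ hb
      have : g (g ⟨z, hz⟩) = g ⟨z, hz⟩ := hfix
      exact absurd (g.injective this) hne
  have hcand : (g ⟨z, hz⟩).1 ∈ pgFilter (nb q)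
      (fun y => cond (pgBit mask y) false (cond (Nat.beq y z) false true)) := by
    rw [pgFilter_mem]
    refine ⟨hy, ?_⟩
    rw [hnf]
    have : Nat.beq (g ⟨z, hz⟩).1 z = false := by
      rw [← Bool.not_eq_true, Nat.beq_eq]
      exact hne'
    rw [this]
    rfl
  obtain ⟨c, hc, hcne⟩ := c2 _ hcand
  obtain ⟨hr, hrz⟩ := c1 c hc
  obtain ⟨hrn, hgr⟩ := hm _ hr
  apply hcne
  rw [← hrz, Bool.eq_iff_iff, pgMask_bit, pgMask_bit]
  have := hg ⟨Nat.shiftRight c 1, hrn⟩ ⟨z, hz⟩
  rw [hgr] at this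
  exact this

/-- a step given as a list: the new point, the fixed neighbour, the conditions -/
def pgStepOf (n : ℕ) (nb : ℕ → List ℕ) (mask : ℕ) (st : List ℕ) (k : ℕ → Bool) : Bool :=
  @List.rec ℕ (fun _ => Bool) false (fun z t _ =>
    @List.rec ℕ (fun _ => Bool) false (fun q cs _ =>
      pgStepChk n nb mask z q cs && pgForce (Nat.lor mask (Nat.shiftLeft 1 z)) k) t) st

theorem pgStepOf_spec {n : ℕ} {nb : ℕ → List ℕ} {mask : ℕ} {st : List ℕ} {k : ℕ → Bool}
    (h : pgStepOf n nb mask st k = true) :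
    ∃ z q cs, pgStepChk n nb mask z q cs = true ∧ k (mask ||| 1 <<< z) = true := by
  cases st with
  | nil => exact absurd h (by simp [pgStepOf])
  | cons z t =>
    cases t with
    | nil => exact absurd h (by simp [pgStepOf])
    | cons q cs =>
      have e : pgStepOf n nb mask (z :: q :: cs) k =
          (pgStepChk n nb mask z q cs && pgForce (Nat.lor mask (Nat.shiftLeft 1 z)) k) := rfl
      rw [e, pgForce_eq, Bool.and_eq_true] at h
      exact ⟨z, q, cs, h.1, h.2⟩

/-- the permutation fixes the points of the mask -/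
def PgFixes {n : ℕ} (g : Equiv.Perm (Fin n)) (mask : ℕ) : Prop :=
  ∀ x, pgBit mask x = true → ∃ h : x < n, g ⟨x, h⟩ = ⟨x, h⟩

/-- all steps, then the test `fin` of the final mask -/
def pgRigRun (n : ℕ) (nb : ℕ → List ℕ) (dec : ℕ → List ℕ) (steps : List ℕ) (fin : ℕ → Bool) :
    ℕ → Bool :=
  @List.rec ℕ (fun _ => ℕ → Bool) fin
    (fun s _ ih mask => pgStepOf n nb mask (dec s) ih)
    steps

/-- a checked run from `mask` to `mask'`: what fixes the first fixes the second -/
theorem pgRigRun_sound {n : ℕ} {nb : ℕ → List ℕ} {dec : ℕ → List ℕ} {g : Equiv.Perm (Fin n)}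
    (hg : g ∈ pgGraphGrp n nb) {mask' : ℕ} : ∀ (steps : List ℕ) (mask : ℕ),
    pgRigRun n nb dec steps (fun m => Nat.beq m mask') mask = true →
    PgFixes g mask → PgFixes g mask' := by
  intro steps
  induction steps with
  | nil =>
    intro mask h hm
    have h' : Nat.beq mask mask' = true := h
    rw [Nat.beq_eq] at h'
    rw [← h']
    exact hm
  | cons s steps ih =>
    intro mask h hm
    have h' : pgStepOf n nb mask (dec s)
        (pgRigRun n nb dec steps (fun m => Nat.beq m mask')) = true := h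
    obtain ⟨z, q, cs, h1, h2⟩ := pgStepOf_spec h'
    obtain ⟨hz, hgz⟩ := pgStepChk_sound hg hm h1
    apply ih _ h2
    intro x hx
    rcases (pgBit_or_shift _ _ _).1 hx with hx | rfl
    · exact hm x hx
    · exact ⟨hz, hgz⟩

theorem pgFixes_base {n : ℕ} {g : Equiv.Perm (Fin n)} {base : List ℕ}
    (hb : pgAllL base (fun β => Nat.blt β n) = true)
    (hfix : ∀ β ∈ base, ∀ h : β < n, g ⟨β, h⟩ = ⟨β, h⟩) : PgFixes g (pgMask base) := by
  intro x hx
  have hxb : x ∈ base := (pgMask_bit _ _).1 hx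
  have hxn : x < n := by
    have := (pgAllL_iff _ _).1 hb x hxb
    simpa using this
  exact ⟨hxn, hfix x hxb hxn⟩

theorem pgFixes_all {n : ℕ} {g : Equiv.Perm (Fin n)} {mask : ℕ} (hm : PgFixes g mask)
    (h : pgAll n (fun x => pgBit mask x) = true) : g = 1 := by
  ext x
  obtain ⟨_, hx⟩ := hm x.1 ((pgAll_iff _ _).1 h x.1 x.2)
  exact congrArg Fin.val hx

/-- the rigid ambient group of a graph with a rigid base -/
def pgGraphRigid (n : ℕ) (nb : ℕ → List ℕ) (base : List ℕ)
    (h : ∀ g ∈ pgGraphGrp n nb, (∀ β ∈ base, ∀ h : β < n, g ⟨β, h⟩ = ⟨β, h⟩) → g = 1) :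
    PgRigid n where
  A := pgGraphGrp n nb
  base := base
  rigid := h

theorem pgGraphRigid_A (n : ℕ) (nb : ℕ → List ℕ) (base : List ℕ)
    (h : ∀ g ∈ pgGraphGrp n nb, (∀ β ∈ base, ∀ h : β < n, g ⟨β, h⟩ = ⟨β, h⟩) → g = 1) :
    (pgGraphRigid n nb base h).A = pgGraphGrp n nb := rfl

theorem pgGraphRigid_base (n : ℕ) (nb : ℕ → List ℕ) (base : List ℕ)
    (h : ∀ g ∈ pgGraphGrp n nb, (∀ β ∈ base, ∀ h : β < n, g ⟨β, h⟩ = ⟨β, h⟩) → g = 1) :
    (pgGraphRigid n nb base h).base = base := rfl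

end Cfsg.Agent.Lib.helper23
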