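import Cfsg.Agent.Lib.Lead.F4c
import Cfsg.Agent.Lib.helper23.PgM
import Cfsg.Agent.Lib.helper23.PgK

set_option autoImplicit false

/-!
# Packed vectors over the field with four elements

A vector of `F4c ^ m` is packed into a number, two bits per coordinate (`0, 1, ω, ω + 1` are
`0, 1, 2, 3`), addition is `xor`; the product of a matrix and a vector is computed from a table of
the multiples of the columns.
-/

namespace Cfsg.Agent.Lib.helper23

open Matrix Cfsg.Agent.Lib.Lead.F4 Cfsg.Agent.Lib.Lead.F4.F4c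

/-- the element of the field with four elements with the number `d` -/
def pgF4 : ℕ → F4c
  | 0 => z
  | 1 => o
  | 2 => w
  | _ => v

/-- the digit `i` of a packed vector -/
def pgDig (u i : ℕ) : ℕ := Nat.land (Nat.shiftRight u (Nat.mul 2 i)) 3

theorem pgDig_lt (u i : ℕ) : pgDig u i < 4 := by
  unfold pgDig
  exact Nat.lt_succ_of_le Nat.and_le_right

/-- the vector of a packed vector -/
def pgDec (m : ℕ) (u : ℕ) : Fin m → F4c := fun i => pgF4 (pgDig u i.1)

theorem pgF4_xor : ∀ a b : Fin 4, pgF4 (a.1 ^^^ b.1) = pgF4 a.1 + pgF4 b.1 := by decide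

theorem pgDig_xor (a b i : ℕ) : pgDig (a ^^^ b) i = pgDig a i ^^^ pgDig b i := by
  unfold pgDig
  change ((a ^^^ b) >>> (2 * i)) &&& 3 = ((a >>> (2 * i)) &&& 3) ^^^ ((b >>> (2 * i)) &&& 3)
  rw [Nat.shiftRight_xor_distrib, Nat.and_xor_distrib_right]

theorem pgDec_xor (m : ℕ) (a b : ℕ) : pgDec m (a ^^^ b) = pgDec m a + pgDec m b := by
  funext i
  unfold pgDec
  rw [Pi.add_apply, pgDig_xor]
  exact pgF4_xor ⟨pgDig a i.1, pgDig_lt _ _⟩ ⟨pgDig b i.1, pgDig_lt _ _⟩

theorem pgDec_zero (m : ℕ) : pgDec m 0 = 0 := by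
  funext i
  unfold pgDec pgDig
  have : Nat.land (Nat.shiftRight 0 (Nat.mul 2 i.1)) 3 = 0 := by
    change (0 >>> (2 * i.1)) &&& 3 = 0
    simp
  rw [this]
  rfl

/-- the product of a matrix, given by the table `T z d` of the multiples of its columns, and a
packed vector: the first `k` columns -/
def pgMvAux (T : ℕ → ℕ → ℕ) (u : ℕ) (k : ℕ) : ℕ :=
  @Nat.rec (fun _ => ℕ) 0 (fun z ih => Nat.xor ih (T z (pgDig u z))) k

/-- the product of a matrix, given by the table `T z d` of the multiples of its columns, and a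
packed vector -/
def pgMv (m : ℕ) (T : ℕ → ℕ → ℕ) (u : ℕ) : ℕ := pgMvAux T u m

theorem pgMvAux_succ (T : ℕ → ℕ → ℕ) (u k : ℕ) :
    pgMvAux T u (k + 1) = pgMvAux T u k ^^^ T k (pgDig u k) := rfl

theorem pgDec_mvAux (m : ℕ) (T : ℕ → ℕ → ℕ) (u : ℕ) (k : ℕ) :
    pgDec m (pgMvAux T u k) = ∑ z ∈ Finset.range k, pgDec m (T z (pgDig u z)) := by
  induction k with
  | zero =>
    rw [Finset.range_zero, Finset.sum_empty]
    exact pgDec_zero m
  | succ k ih =>
    rw [pgMvAux_succ, pgDec_xor, ih, Finset.sum_range_succ]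

/-- the table is the table of the matrix -/
def PgTab (m : ℕ) (T : ℕ → ℕ → ℕ) (M : Matrix (Fin m) (Fin m) F4c) : Prop :=
  ∀ z : Fin m, ∀ d : Fin 4, ∀ i : Fin m, pgDec m (T z.1 d.1) i = pgF4 d.1 * M i z

theorem pgMv_spec {m : ℕ} {T : ℕ → ℕ → ℕ} {M : Matrix (Fin m) (Fin m) F4c} (hT : PgTab m T M)
    (u : ℕ) : pgDec m (pgMv m T u) = M *ᵥ pgDec m u := by
  unfold pgMv
  rw [pgDec_mvAux]
  funext i
  rw [Finset.sum_apply, Finset.sum_range (fun z => pgDec m (T z (pgDig u z)) i)]
  change _ = ∑ z, M i z * pgDec m u z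
  apply Finset.sum_congr rfl
  intro z _
  rw [hT z ⟨pgDig u z.1, pgDig_lt _ _⟩ i, mul_comm]
  rfl

/-- existence test for the numbers below `n` -/
def pgAnyN (n : ℕ) (p : ℕ → Bool) : Bool :=
  @Nat.rec (fun _ => Bool) false (fun k ih => cond (p k) true ih) n

theorem pgAnyN_iff (n : ℕ) (p : ℕ → Bool) : pgAnyN n p = true ↔ ∃ k < n, p k = true := by
  induction n with
  | zero => exact ⟨fun h => absurd h (by simp [pgAnyN]), fun ⟨k, hk, _⟩ => absurd hk (Nat.not_lt_zero k)⟩
  | succ n ih =>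
    have e : pgAnyN (n + 1) p = cond (p n) true (pgAnyN n p) := rfl
    rw [e]
    cases hp : p n with
    | true =>
      simp only [cond_true, true_iff]
      exact ⟨n, Nat.lt_succ_self n, hp⟩
    | false =>
      simp only [cond_false]
      rw [ih]
      constructor
      · rintro ⟨k, hk, hpk⟩
        exact ⟨k, Nat.lt_succ_of_lt hk, hpk⟩
      · rintro ⟨k, hk, hpk⟩
        rcases Nat.lt_succ_iff_lt_or_eq.1 hk with h1 | h1
        · exact ⟨k, h1, hpk⟩
        · rw [h1, hp] at hpk
          exact absurd hpk (by simp)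

/-- the first nonzero coordinate is `1` -/
def pgNormOk (m : ℕ) (u : ℕ) : Bool :=
  pgAnyN m (fun i => Nat.beq (pgDig u i) 1 && pgAll i (fun j => Nat.beq (pgDig u j) 0))

theorem pgNormOk_spec {m u : ℕ} (h : pgNormOk m u = true) :
    ∃ i : Fin m, pgDec m u i = 1 ∧ ∀ j : Fin m, j < i → pgDec m u j = 0 := by
  obtain ⟨i, hi, h1⟩ := (pgAnyN_iff _ _).1 h
  rw [Bool.and_eq_true, Nat.beq_eq, pgAll_iff] at h1
  refine ⟨⟨i, hi⟩, ?_, ?_⟩
  · unfold pgDec
    rw [h1.1]
    rfl
  · intro j hj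
    have := h1.2 j.1 hj
    rw [Nat.beq_eq] at this
    unfold pgDec
    rw [this]
    rfl

theorem pgF4_inj : ∀ a b : Fin 4, pgF4 a.1 = pgF4 b.1 → a = b := by decide

theorem pgDig_succ (u i : ℕ) : pgDig u (i + 1) = pgDig (u / 4) i := by
  unfold pgDig
  change (u >>> (2 * (i + 1))) &&& 3 = ((u / 4) >>> (2 * i)) &&& 3
  have : 2 * (i + 1) = 2 + 2 * i := by ring
  rw [this, Nat.shiftRight_add]
  have e : u >>> 2 = u / 4 := by
    rw [Nat.shiftRight_eq_div_pow]
  rw [e]

theorem pgDig_zero (u : ℕ) : pgDig u 0 = u % 4 := by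
  unfold pgDig
  change (u >>> (2 * 0)) &&& 3 = u % 4
  simp only [Nat.mul_zero, Nat.shiftRight_zero]
  exact Nat.and_two_pow_sub_one_eq_mod u 2

/-- a packed vector is determined by its digits -/
theorem pg_eq_of_dig : ∀ (m u u' : ℕ), u < 4 ^ m → u' < 4 ^ m →
    (∀ i < m, pgDig u i = pgDig u' i) → u = u' := by
  intro m
  induction m with
  | zero =>
    intro u u' h h' _
    have h1 : u = 0 := by simpa using h
    have h2 : u' = 0 := by simpa using h'
    rw [h1, h2]
  | succ m ih =>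
    intro u u' h h' hd
    have e1 : u / 4 = u' / 4 := by
      apply ih
      · exact Nat.div_lt_of_lt_mul (by rw [← pow_succ']; exact h)
      · exact Nat.div_lt_of_lt_mul (by rw [← pow_succ']; exact h')
      · intro i hi
        rw [← pgDig_succ, ← pgDig_succ]
        exact hd (i + 1) (by omega)
    have e2 : u % 4 = u' % 4 := by
      rw [← pgDig_zero, ← pgDig_zero]
      exact hd 0 (by omega)
    rw [← Nat.div_add_mod u 4, ← Nat.div_add_mod u' 4, e1, e2]

theorem pgDec_inj {m u u' : ℕ} (h : u < 4 ^ m) (h' : u' < 4 ^ m)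
    (he : pgDec m u = pgDec m u') : u = u' := by
  apply pg_eq_of_dig m u u' h h'
  intro i hi
  have := congrFun he ⟨i, hi⟩
  unfold pgDec at this
  have := pgF4_inj ⟨pgDig u i, pgDig_lt _ _⟩ ⟨pgDig u' i, pgDig_lt _ _⟩ this
  exact congrArg Fin.val this

/-- the check of the table of the vectors: in range, strictly increasing, normalised -/
def pgChkVecs (N m : ℕ) (V : ℕ → ℕ) : Bool :=
  (pgAll N (fun x => Nat.blt (V x) (Nat.pow 4 m)) &&
    pgAll (Nat.pred N) (fun x => Nat.blt (V x) (V (Nat.succ x)))) &&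
  pgAll N (fun x => pgNormOk m (V x))

theorem pgLines_of_chk {N m : ℕ} {V : ℕ → ℕ} (h : pgChkVecs N m V = true) :
    PgLines (fun p : Fin N => pgDec m (V p.1)) := by
  unfold pgChkVecs at h
  simp only [Bool.and_eq_true] at h
  obtain ⟨⟨h1, h2⟩, h3⟩ := h
  have hmono := pg_strictMono_of_succ (n := N) (v := V) (by
    intro x hx
    have := (pgAll_iff _ _).1 h2 x (by simpa using hx)
    simpa using this)
  have hlt : ∀ p : Fin N, V p.1 < 4 ^ m := by
    intro p
    have := (pgAll_iff _ _).1 h1 p.1 p.2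
    simpa using this
  have hnorm : ∀ p : Fin N, ∃ i : Fin m, pgDec m (V p.1) i = 1 ∧
      ∀ j : Fin m, j < i → pgDec m (V p.1) j = 0 :=
    fun p => pgNormOk_spec ((pgAll_iff _ _).1 h3 p.1 p.2)
  have hinj : ∀ p p' : Fin N, pgDec m (V p.1) = pgDec m (V p'.1) → p = p' := by
    intro p p' he
    have hV := pgDec_inj (hlt p) (hlt p') he
    by_contra hne
    have hne' : p.1 ≠ p'.1 := fun e => hne (Fin.ext e)
    rcases Nat.lt_or_gt_of_ne hne' with h4 | h4
    · exact absurd hV (ne_of_lt (hmono _ _ h4 p'.2))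
    · exact absurd hV (ne_of_gt (hmono _ _ h4 p.2))
  refine ⟨?_, ?_⟩
  · intro p h0
    obtain ⟨i, hi, -⟩ := hnorm p
    have h0' : pgDec m (V p.1) = 0 := h0
    rw [h0'] at hi
    exact zero_ne_one hi
  · intro p p' c he
    have he' : pgDec m (V p.1) = c • pgDec m (V p'.1) := he
    obtain ⟨i, hi, hi0⟩ := hnorm p
    obtain ⟨i', hi', hi0'⟩ := hnorm p'
    have hc : c ≠ 0 := by
      rintro rfl
      rw [zero_smul] at he'
      rw [he'] at hi
      exact zero_ne_one hi
    have hii : i = i' := by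
      rcases lt_trichotomy i i' with hlt' | heq | hgt
      · have := congrFun he' i
        rw [hi, Pi.smul_apply, hi0' i hlt', smul_zero] at this
        exact absurd this one_ne_zero
      · exact heq
      · have := congrFun he' i'
        rw [hi0 i' hgt, Pi.smul_apply, hi', smul_eq_mul, mul_one] at this
        exact absurd this.symm hc
    have hc1 : c = 1 := by
      have := congrFun he' i
      rw [hi, Pi.smul_apply, hii, hi', smul_eq_mul, mul_one] at this
      exact this.symm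
    rw [hc1, one_smul] at he'
    exact hinj p p' he'

end Cfsg.Agent.Lib.helper23
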