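import Mathlib
import Cfsg.Prelude.Def_KGroupFacts
import Cfsg.Agent.Lib.helper23.SchurCoverE

set_option autoImplicit false

namespace Cfsg.Agent.Lib.helper23

open scoped commutatorElement

universe u v

/-- the Schur cover `F/S₁` attached to an arbitrary finite free presentation, with kernel isomorphic
to the multiplier -/
theorem spg_std_cover {Q : Type u} [Group Q] [Finite Q] {A : Type v} [CommGroup A]
    (hA : Cfsg.HasSchurMultiplier Q A) {ι : Type u} [Finite ι] (φ : FreeGroup ι →* Q)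
    (hφ : Function.Surjective φ) :
    ∃ (S₁ : Subgroup (FreeGroup ι)) (_ : S₁.Normal) (hS₁R : S₁ ≤ φ.ker),
      Cfsg.IsStemExtension (QuotientGroup.lift S₁ φ hS₁R) ∧
      Nonempty ((QuotientGroup.lift S₁ φ hS₁R).ker ≃* A) := by
  have hfi : φ.ker.FiniteIndex := Subgroup.finiteIndex_ker φ
  have hN : ⁅(⊤ : Subgroup (FreeGroup ι)), φ.ker⁆ ≤ φ.ker := Subgroup.commutator_le_right _ _
  have hstem : ∀ r ∈ φ.ker, ∃ m ∈ φ.ker ⊓ commutator (FreeGroup ι), ∃ r₁ ∈ φ.ker, r = m * r₁ :=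
    fun r hr => ⟨1, Subgroup.one_mem _, r, hr, (one_mul r).symm⟩
  obtain ⟨S₁, hS₁n, hNS₁, hS₁R, hS₁F, hdec⟩ := scv_exists φ φ.ker hN le_rfl hstem
  obtain ⟨hstemσ, hfin⟩ := scv_quot_stem φ hφ S₁ hNS₁ hS₁R hdec
  set σ : FreeGroup ι ⧸ S₁ →* Q := QuotientGroup.lift S₁ φ hS₁R with hσ
  have hσmk : σ.comp (QuotientGroup.mk' S₁) = φ := by
    apply MonoidHom.ext
    intro f
    exact QuotientGroup.lift_mk S₁ hS₁R f
  have hmks : Function.Surjective (QuotientGroup.mk' S₁) := QuotientGroup.mk'_surjective S₁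
  have hS : (QuotientGroup.mk' S₁).ker ⊓ commutator (FreeGroup ι) ≤
      ⁅(⊤ : Subgroup (FreeGroup ι)), (σ.comp (QuotientGroup.mk' S₁)).ker⁆ := by
    rw [hσmk, QuotientGroup.ker_mk']
    exact hS₁F
  obtain ⟨⟨Γ₀, instG₀, instF₀, σ₀, hσ₀, ⟨e₀⟩⟩, hA2⟩ := hA
  obtain ⟨π₂, hπ₂⟩ := scv_cover (QuotientGroup.mk' S₁) hmks σ hstemσ hS σ₀ hσ₀
  obtain ⟨π₁, hπ₁⟩ := hA2 (FreeGroup ι ⧸ S₁) σ hstemσ
  have hfinA : Finite A := Finite.of_equiv _ e₀.toEquiv
  have hcard : Nat.card A ≤ Nat.card σ.ker := by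
    have h1 : Nat.card A = Nat.card σ₀.ker := (Nat.card_congr e₀.toEquiv).symm
    rw [h1]
    exact Nat.card_le_card_of_surjective π₂ hπ₂
  have hbij : Function.Bijective π₁ := hπ₁.bijective_of_nat_card_le hcard
  exact ⟨S₁, hS₁n, hS₁R, hstemσ, ⟨(MulEquiv.ofBijective π₁ hbij).symm⟩⟩

/-- lattice count: generators of the image of the kernel -/
theorem spg_lattice {ι : Type*} [Fintype ι] (n : ℕ) {A : Type*} [CommGroup A] [Group.FG A]
    (Θ : (ι → ℤ) →ₗ[ℤ] (Fin n → ℤ)) (Ψ : (ι → ℤ) →ₗ[ℤ] Additive A)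
    (m : ℤ) (hm : m ≠ 0) (h1 : ∀ z : Fin n → ℤ, m • z ∈ LinearMap.range Θ)
    (h2 : ∀ a : A, ∃ c ∈ LinearMap.ker Θ, Ψ c = Additive.ofMul a) :
    Group.rank A ≤ Fintype.card ι - n := by
  classical
  have htors : Module.IsTorsion ℤ ((Fin n → ℤ) ⧸ LinearMap.range Θ) := by
    intro x
    obtain ⟨z, rfl⟩ := Submodule.Quotient.mk_surjective _ x
    refine ⟨⟨m, mem_nonZeroDivisors_of_ne_zero hm⟩, ?_⟩
    show m • (Submodule.Quotient.mk z : (Fin n → ℤ) ⧸ LinearMap.range Θ) = 0
    rw [← Submodule.Quotient.mk_smul, Submodule.Quotient.mk_eq_zero]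
    exact h1 z
  have hq0 : Module.finrank ℤ ((Fin n → ℤ) ⧸ LinearMap.range Θ) = 0 :=
    Module.finrank_eq_zero_iff_isTorsion.mpr htors
  have hrange : Module.finrank ℤ (LinearMap.range Θ) = n := by
    have := Submodule.finrank_quotient_add_finrank (LinearMap.range Θ)
    rw [hq0, zero_add, Module.finrank_fintype_fun_eq_card, Fintype.card_fin] at this
    exact this
  have hker : Module.finrank ℤ (LinearMap.ker Θ) = Fintype.card ι - n := by
    have h3 := Submodule.finrank_quotient_add_finrank (LinearMap.ker Θ)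
    rw [Θ.quotKerEquivRange.finrank_eq, hrange, Module.finrank_fintype_fun_eq_card] at h3
    omega
  let b := Module.finBasis ℤ (LinearMap.ker Θ)
  let S : Finset A := Finset.univ.image (fun j => Additive.toMul (Ψ (b j : ι → ℤ)))
  have hS : Subgroup.closure (S : Set A) = ⊤ := by
    rw [eq_top_iff]
    intro a _
    obtain ⟨c, hc, hca⟩ := h2 a
    have h4 : (⟨c, hc⟩ : LinearMap.ker Θ) = ∑ j, (b.repr ⟨c, hc⟩ j) • b j := (b.sum_repr _).symm
    have h5 : c = ∑ j, (b.repr ⟨c, hc⟩ j) • (b j : ι → ℤ) := by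
      have h5' : c = ((∑ j, (b.repr ⟨c, hc⟩ j) • b j : LinearMap.ker Θ) : ι → ℤ) :=
        congrArg Subtype.val h4
      refine h5'.trans ?_
      rw [Submodule.coe_sum]
      apply Finset.sum_congr rfl
      intro j _
      rw [Submodule.coe_smul]
    have h6 : Additive.ofMul a = ∑ j, (b.repr ⟨c, hc⟩ j) • Ψ (b j : ι → ℤ) := by
      rw [← hca]
      conv_lhs => rw [h5]
      rw [map_sum]
      simp only [map_smul]
    have h7 : a = ∏ j, (Additive.toMul (Ψ (b j : ι → ℤ))) ^ (b.repr ⟨c, hc⟩ j) := by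
      have := congrArg Additive.toMul h6
      rw [toMul_ofMul, toMul_sum] at this
      rw [this]
      apply Finset.prod_congr rfl
      intro j _
      rw [toMul_zsmul]
    rw [h7]
    apply Subgroup.prod_mem
    intro j _
    apply Subgroup.zpow_mem
    apply Subgroup.subset_closure
    exact Finset.mem_coe.mpr (Finset.mem_image_of_mem _ (Finset.mem_univ j))
  calc Group.rank A ≤ S.card := Group.rank_le hS
    _ ≤ (Finset.univ : Finset (Fin (Module.finrank ℤ (LinearMap.ker Θ)))).card :=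
        Finset.card_image_le
    _ = Fintype.card ι - n := by rw [Finset.card_univ, Fintype.card_fin, hker]

/-- the multiplier of a finite group with `n` generators and `r` relators needs at most `r - n`
generators -/
theorem spg_main (n : ℕ) (rels : Finset (FreeGroup (Fin n)))
    [Finite (PresentedGroup (rels : Set (FreeGroup (Fin n))))] {A : Type*} [CommGroup A] [Finite A]
    (hA : Cfsg.HasSchurMultiplier (PresentedGroup (rels : Set (FreeGroup (Fin n)))) A) :
    Group.rank A ≤ rels.card - n := by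
  classical
  set φ : FreeGroup (Fin n) →* PresentedGroup (rels : Set (FreeGroup (Fin n))) :=
    PresentedGroup.mk (rels : Set (FreeGroup (Fin n))) with hφdef
  have hφ : Function.Surjective φ := PresentedGroup.mk_surjective _
  have hφker : ∀ x, x ∈ φ.ker ↔ x ∈ Subgroup.normalClosure (rels : Set (FreeGroup (Fin n))) :=
    fun x => PresentedGroup.mk_eq_one_iff
  obtain ⟨S₁, hS₁n, hS₁R, hstem, ⟨e⟩⟩ := spg_std_cover hA φ hφ
  set σ : FreeGroup (Fin n) ⧸ S₁ →* PresentedGroup (rels : Set (FreeGroup (Fin n))) :=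
    QuotientGroup.lift S₁ φ hS₁R with hσ
  set mk : FreeGroup (Fin n) →* FreeGroup (Fin n) ⧸ S₁ := QuotientGroup.mk' S₁ with hmk
  have hσmk : ∀ f, σ (mk f) = φ f := fun f => QuotientGroup.lift_mk S₁ hS₁R f
  have hmks : Function.Surjective mk := QuotientGroup.mk'_surjective S₁
  -- the map from the relation module to the multiplier
  let κ : φ.ker →* A := e.toMonoidHom.comp ((mk.comp φ.ker.subtype).codRestrict σ.ker (by
    intro x
    rw [MonoidHom.mem_ker, MonoidHom.comp_apply, hσmk]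
    exact x.2))
  have hκ : ∀ x : φ.ker, κ x = e ⟨mk (x : FreeGroup (Fin n)), by
      rw [MonoidHom.mem_ker, hσmk]; exact x.2⟩ := fun x => rfl
  have hκconj : ∀ (x : FreeGroup (Fin n)) (hx : x ∈ φ.ker) (f : FreeGroup (Fin n))
      (hfx : f * x * f⁻¹ ∈ φ.ker), κ ⟨f * x * f⁻¹, hfx⟩ = κ ⟨x, hx⟩ := by
    intro x hx f hfx
    rw [hκ, hκ]
    congr 1
    apply Subtype.ext
    show mk (f * x * f⁻¹) = mk x
    have hc : mk x ∈ Subgroup.center (FreeGroup (Fin n) ⧸ S₁) := by
      apply hstem.2.1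
      rw [MonoidHom.mem_ker, hσmk]; exact hx
    rw [map_mul, map_mul, map_inv, Subgroup.mem_center_iff.mp hc (mk f), mul_assoc,
      mul_inv_cancel, mul_one]
  -- the abelianisation map into `ℤ^n`
  let abz : FreeGroup (Fin n) →* Multiplicative (Fin n → ℤ) :=
    FreeGroup.lift (fun i => Multiplicative.ofAdd (Pi.single i (1 : ℤ)))
  have habz_of : ∀ i, abz (FreeGroup.of i) = Multiplicative.ofAdd (Pi.single i (1 : ℤ)) :=
    fun i => FreeGroup.lift_apply_of
  have habz_comm : ∀ x ∈ commutator (FreeGroup (Fin n)), abz x = 1 := fun x hx =>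
    Abelianization.commutator_subset_ker abz hx
  have habz_conj : ∀ f x : FreeGroup (Fin n), abz (f * x * f⁻¹) = abz x := by
    intro f x
    rw [map_mul, map_mul, map_inv, mul_comm, ← mul_assoc, inv_mul_cancel, one_mul]
  have hrelker : ∀ i : rels, (i : FreeGroup (Fin n)) ∈ φ.ker := by
    intro i
    rw [hφker]
    exact Subgroup.subset_normalClosure (Finset.mem_coe.mpr i.2)
  let v : rels → Additive A := fun i => Additive.ofMul (κ ⟨i, hrelker i⟩)
  let w : rels → (Fin n → ℤ) := fun i => Multiplicative.toAdd (abz i)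
  set Ψ : (rels → ℤ) →ₗ[ℤ] Additive A := Fintype.linearCombination ℤ v with hΨ
  set Θ : (rels → ℤ) →ₗ[ℤ] (Fin n → ℤ) := Fintype.linearCombination ℤ w with hΘ
  -- every element of the relation module is represented
  have hrep : ∀ x ∈ Subgroup.normalClosure (rels : Set (FreeGroup (Fin n))),
      ∀ hx : x ∈ φ.ker, ∃ c : rels → ℤ, Ψ c = Additive.ofMul (κ ⟨x, hx⟩) ∧
        Θ c = Multiplicative.toAdd (abz x) := by
    intro x hxn
    rw [Subgroup.normalClosure] at hxn
    induction hxn using Subgroup.closure_induction with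
    | mem y hy =>
      intro hx
      obtain ⟨ρ, hρ, hconj⟩ := Group.mem_conjugatesOfSet_iff.mp hy
      obtain ⟨f, hf⟩ := isConj_iff.mp hconj
      subst hf
      have hρk : ρ ∈ φ.ker := hrelker ⟨ρ, Finset.mem_coe.mp hρ⟩
      refine ⟨Pi.single ⟨ρ, Finset.mem_coe.mp hρ⟩ 1, ?_, ?_⟩
      · rw [hΨ, Fintype.linearCombination_apply_single, one_smul, hκconj ρ hρk f hx]
      · rw [hΘ, Fintype.linearCombination_apply_single, one_smul, habz_conj]
    | one =>
      intro hx
      refine ⟨0, ?_, ?_⟩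
      · rw [map_zero]
        have : (⟨1, hx⟩ : φ.ker) = 1 := rfl
        rw [this, map_one]; rfl
      · rw [map_zero, map_one]; rfl
    | mul y z hy hz ihy ihz =>
      intro hx
      have hyk : y ∈ φ.ker := (hφker y).mpr (by rw [Subgroup.normalClosure]; exact hy)
      have hzk : z ∈ φ.ker := (hφker z).mpr (by rw [Subgroup.normalClosure]; exact hz)
      obtain ⟨c₁, h1, h1'⟩ := ihy hyk
      obtain ⟨c₂, h2, h2'⟩ := ihz hzk
      refine ⟨c₁ + c₂, ?_, ?_⟩
      · rw [map_add, h1, h2]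
        have : (⟨y * z, hx⟩ : φ.ker) = ⟨y, hyk⟩ * ⟨z, hzk⟩ := rfl
        rw [this, map_mul]; rfl
      · rw [map_add, h1', h2', map_mul]; rfl
    | inv y hy ihy =>
      intro hx
      have hyk : y ∈ φ.ker := (hφker y).mpr (by rw [Subgroup.normalClosure]; exact hy)
      obtain ⟨c₁, h1, h1'⟩ := ihy hyk
      refine ⟨-c₁, ?_, ?_⟩
      · rw [map_neg, h1]
        have : (⟨y⁻¹, hx⟩ : φ.ker) = (⟨y, hyk⟩)⁻¹ := rfl
        rw [this, map_inv]; rfl
      · rw [map_neg, h1', map_inv]; rfl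
  have hrep' : ∀ (x : FreeGroup (Fin n)) (hx : x ∈ φ.ker), ∃ c : rels → ℤ,
      Ψ c = Additive.ofMul (κ ⟨x, hx⟩) ∧ Θ c = Multiplicative.toAdd (abz x) :=
    fun x hx => hrep x ((hφker x).mp hx) hx
  -- torsion cokernel
  have hcardpos : (Nat.card (PresentedGroup (rels : Set (FreeGroup (Fin n)))) : ℤ) ≠ 0 := by
    have := Nat.card_pos (α := PresentedGroup (rels : Set (FreeGroup (Fin n))))
    exact_mod_cast this.ne'
  have h1 : ∀ z : Fin n → ℤ,
      (Nat.card (PresentedGroup (rels : Set (FreeGroup (Fin n)))) : ℤ) • z ∈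
        LinearMap.range Θ := by
    intro z
    have hz : z = ∑ i, z i • (Pi.single i (1 : ℤ) : Fin n → ℤ) := by
      funext j
      simp [Finset.sum_apply, Pi.single_apply]
    rw [hz, Finset.smul_sum]
    apply Submodule.sum_mem
    intro i _
    rw [smul_comm]
    apply Submodule.smul_mem
    have hpow : (FreeGroup.of i) ^ Nat.card (PresentedGroup (rels : Set (FreeGroup (Fin n)))) ∈
        φ.ker := by
      rw [MonoidHom.mem_ker, map_pow]
      exact pow_card_eq_one'
    obtain ⟨c, _, hc⟩ := hrep' _ hpow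
    refine ⟨c, ?_⟩
    rw [hc, map_pow, habz_of]
    rfl
  -- surjectivity from the kernel of `Θ`
  have hcommΓ : commutator (FreeGroup (Fin n) ⧸ S₁) = (commutator (FreeGroup (Fin n))).map mk := by
    rw [commutator_def, commutator_def, Subgroup.map_commutator,
      Subgroup.map_top_of_surjective mk hmks]
  have h2 : ∀ a : A, ∃ c ∈ LinearMap.ker Θ, Ψ c = Additive.ofMul a := by
    intro a
    have ha : ((e.symm a : σ.ker) : FreeGroup (Fin n) ⧸ S₁) ∈
        commutator (FreeGroup (Fin n) ⧸ S₁) := hstem.2.2 (e.symm a).2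
    rw [hcommΓ] at ha
    obtain ⟨x, hx, hxa⟩ := ha
    have hxk : x ∈ φ.ker := by
      rw [MonoidHom.mem_ker, ← hσmk]
      show σ (mk x) = 1
      rw [hxa]
      exact (e.symm a).2
    obtain ⟨c, hc1, hc2⟩ := hrep' x hxk
    refine ⟨c, ?_, ?_⟩
    · rw [LinearMap.mem_ker, hc2, habz_comm x hx]; rfl
    · rw [hc1, hκ]
      congr 1
      have : (⟨mk x, by rw [MonoidHom.mem_ker, hσmk]; exact hxk⟩ : σ.ker) = e.symm a :=
        Subtype.ext hxa
      rw [this, MulEquiv.apply_symm_apply]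
  have := spg_lattice n Θ Ψ _ hcardpos h1 h2
  rwa [Fintype.card_coe] at this

end Cfsg.Agent.Lib.helper23
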