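import Mathlib
import Cfsg.Agent.Lib.helper23.CentMax2
import Cfsg.Agent.Lib.helper23.ConjCover
set_option autoImplicit false

namespace Cfsg.Agent.Lib.helper23
open Subgroup

section
variable {G : Type*} [Group G]

theorem isCoatom_of_index_prime {M : Subgroup G} (hp : M.index.Prime) : IsCoatom M := by
  constructor
  · intro h
    rw [h, index_top] at hp
    exact Nat.not_prime_one hp
  · intro L hL
    have h1 := relIndex_mul_index hL.le
    have h2 : L.index ∣ M.index := Dvd.intro_left _ h1
    rcases (Nat.dvd_prime hp).mp h2 with h3 | h3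
    · exact index_eq_one.mp h3
    · exfalso
      rw [h3] at h1
      have hpos : 0 < M.index := hp.pos
      have h4 : M.relIndex L = 1 := by
        have : M.relIndex L * M.index = 1 * M.index := by rw [h1, one_mul]
        exact Nat.eq_of_mul_eq_mul_right hpos this
      have h5 := relIndex_eq_one.mp h4
      exact (not_le_of_gt hL) h5

/-- hypothesis: all class sizes are 1 or prime -/
def PrimeClasses (G : Type*) [Group G] : Prop :=
  ∀ x : G, (centralizer ({x} : Set G)).index = 1 ∨ ((centralizer ({x} : Set G)).index).Prime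

theorem PrimeClasses.prime (h : PrimeClasses G) {x : G} (hx : x ∉ center G) :
    ((centralizer ({x} : Set G)).index).Prime := by
  rcases h x with h1 | h1
  · exfalso
    exact cent_ne_top_of_not_mem_center hx (index_eq_one.mp h1)
  · exact h1

theorem PrimeClasses.centMax (h : PrimeClasses G) : CentMax G := fun _ hx =>
  isCoatom_of_index_prime (h.prime hx)

/-- Case A: all centralizers of noncentral elements normal ⇒ class ≤ 2 -/
theorem ucs_two_eq_top (h : PrimeClasses G)
    (hn : ∀ x : G, x ∉ center G → (centralizer ({x} : Set G)).Normal) :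
    Subgroup.upperCentralSeries G 2 = ⊤ := by
  rw [eq_top_iff]
  intro a _
  rw [show (2 : ℕ) = 1 + 1 from rfl, Subgroup.mem_upperCentralSeries_succ_iff]
  intro b
  rw [Subgroup.upperCentralSeries_one, mem_center_iff, commutatorElement_def]
  intro z
  -- the commutator of a,b lies in C(z)
  by_cases hz : z ∈ center G
  · exact (mem_center_iff.mp hz _).symm
  · haveI := hn z hz
    have hp := h.prime hz
    set M := centralizer ({z} : Set G) with hM
    have hcard : Nat.card (G ⧸ M) = M.index := rfl
    haveI : IsCyclic (G ⧸ M) := isCyclic_of_prime_card (p := M.index) (hp := ⟨hp⟩) hcard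
    have hcomm : ∀ u v : G ⧸ M, u * v = v * u := fun u v => by
      obtain ⟨g, hg⟩ := IsCyclic.exists_generator (α := G ⧸ M)
      obtain ⟨i, rfl⟩ := mem_zpowers_iff.mp (hg u)
      obtain ⟨j, rfl⟩ := mem_zpowers_iff.mp (hg v)
      rw [← zpow_add, ← zpow_add, add_comm]
    have hmem : a * b * a⁻¹ * b⁻¹ ∈ M := by
      rw [← QuotientGroup.eq_one_iff]
      simp only [QuotientGroup.mk_mul, QuotientGroup.mk_inv]
      rw [hcomm (QuotientGroup.mk a) (QuotientGroup.mk b)]
      group
    have := mem_cent_singleton.mp hmem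
    exact this


/-- membership in the image of a subgroup containing the center under the quotient by the center -/
theorem mem_map_mk_center_iff {M : Subgroup G} (hZM : center G ≤ M) (g : G) :
    (QuotientGroup.mk' (center G)) g ∈ M.map (QuotientGroup.mk' (center G)) ↔ g ∈ M := by
  constructor
  · rintro ⟨m, hm, hmg⟩
    have h1 : m⁻¹ * g ∈ center G := QuotientGroup.eq.mp hmg
    have : g = m * (m⁻¹ * g) := by group
    rw [this]
    exact M.mul_mem hm (hZM h1)
  · intro hg
    exact ⟨g, hg, rfl⟩

theorem center_le_cent (x : G) : center G ≤ centralizer ({x} : Set G) := by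
  intro c hc
  rw [mem_cent_singleton]
  exact (mem_center_iff.mp hc x)

/-- B1: a non-normal centralizer (of prime index) is of type (A). -/
theorem TA_of_not_normal [Finite G] (h : PrimeClasses G) {x : G} (hx : x ∉ center G)
    (hnn : ¬ (centralizer ({x} : Set G)).Normal) : TA x := by
  classical
  by_contra hT
  have hCM := h.centMax
  rcases dichotomy hCM hx with hT' | ⟨r, hr, hpow⟩
  · exact hT hT'
  haveI := Fact.mk hr
  set M := centralizer ({x} : Set G) with hM
  set p := M.index with hp
  have hpp : p.Prime := h.prime hx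
  haveI := Fact.mk hpp
  set π := QuotientGroup.mk' (center G) with hπ
  have hπs : Function.Surjective π := QuotientGroup.mk'_surjective _
  have hZM : center G ≤ M := center_le_cent x
  set Mb := M.map π with hMb
  have hMbi : Mb.index = p := index_map_eq _ hπs (by rw [QuotientGroup.ker_mk']; exact hZM)
  have hMbp : IsPGroup r Mb := by
    rintro ⟨_, m, hm, rfl⟩
    refine ⟨1, ?_⟩
    apply Subtype.ext
    rw [pow_one]
    push_cast
    rw [← map_pow]
    exact (QuotientGroup.eq_one_iff _).mpr (hpow m hm)
  obtain ⟨k, hk⟩ := IsPGroup.iff_card.mp hMbp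
  have hcard : Nat.card (G ⧸ center G) = r ^ k * p := by
    rw [← hk, ← hMbi]; exact (Subgroup.card_mul_index Mb).symm
  -- Step (i): r ≠ p
  have hrp : r ≠ p := by
    intro hrp
    have hPG : IsPGroup p (G ⧸ center G) := IsPGroup.of_card (n := k + 1) (by rw [hcard, hrp]; ring)
    haveI := hPG.isNilpotent
    haveI : Group.IsNilpotent G := Group.of_quotient_center_nilpotent inferInstance
    exact hnn (NormalizerCondition.normal_of_coatom M Group.normalizerCondition_of_isNilpotent (hCM x hx))
  -- Step (ii): an element of order p in the quotient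
  obtain ⟨wb, hwb⟩ := exists_prime_orderOf_dvd_card' (G := G ⧸ center G) p (by rw [hcard]; exact dvd_mul_left _ _)
  obtain ⟨w, rfl⟩ := hπs wb
  have hwZ : w ∉ center G := by
    intro hc
    have : π w = 1 := (QuotientGroup.eq_one_iff w).mpr hc
    rw [this, orderOf_one] at hwb
    exact hpp.one_lt.ne hwb
  set Cw := centralizer ({w} : Set G) with hCw
  have hqw : (Cw.index).Prime := h.prime hwZ
  set Cwb := Cw.map π with hCwb
  have hCwbi : Cwb.index = Cw.index :=
    index_map_eq _ hπs (by rw [QuotientGroup.ker_mk']; exact center_le_cent w)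
  have hwCwb : π w ∈ Cwb := ⟨w, self_mem_cent w, rfl⟩
  have hcard2 : Nat.card Cwb * Cw.index = r ^ k * p := by
    rw [← hCwbi, ← hcard]; exact Subgroup.card_mul_index Cwb
  have hpCwb : p ∣ Nat.card Cwb := by
    have : orderOf (⟨π w, hwCwb⟩ : Cwb) = p := by
      rw [← hwb]; exact Subgroup.orderOf_mk (π w) hwCwb
    rw [← this]; exact orderOf_dvd_natCard _
  have hk1 : k ≤ 1 := by
    have hdv : Cw.index ∣ r ^ k * p := Dvd.intro_left _ hcard2
    have hidx : Cw.index = r := by
      rcases (Nat.Prime.dvd_mul hqw).mp hdv with h1 | h1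
      · exact (Nat.prime_dvd_prime_iff_eq hqw hr).mp (hqw.dvd_of_dvd_pow h1)
      · exfalso
        have h2 : Cw.index = p := (Nat.prime_dvd_prime_iff_eq hqw hpp).mp h1
        rw [h2] at hcard2
        have h3 : Nat.card Cwb = r ^ k := Nat.eq_of_mul_eq_mul_right hpp.pos hcard2
        rw [h3] at hpCwb
        exact hrp ((Nat.prime_dvd_prime_iff_eq hpp hr).mp (hpp.dvd_of_dvd_pow hpCwb)).symm
    rw [hidx] at hcard2
    by_contra hk2
    push Not at hk2
    -- r divides card Cwb
    have hrC : r ∣ Nat.card Cwb := by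
      obtain ⟨k', rfl⟩ : ∃ k', k = k' + 2 := ⟨k - 2, by omega⟩
      have h3 : Nat.card Cwb * r = (r ^ (k' + 1) * p) * r := by rw [hcard2]; ring
      have h4 : Nat.card Cwb = r ^ (k' + 1) * p := Nat.eq_of_mul_eq_mul_right hr.pos h3
      rw [h4]
      exact Dvd.intro (r ^ k' * p) (by ring)
    rcases dichotomy hCM hwZ with hTw | ⟨s, hs, hpow_w⟩
    · -- TA(w)
      obtain ⟨vb, hvb⟩ := exists_prime_orderOf_dvd_card' (G := Cwb) r hrC
      obtain ⟨v, hvCw, hv⟩ := vb.2
      have hvord : orderOf (π v) = r := by
        rw [hv, Subgroup.orderOf_coe]; exact hvb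
      have hvZ : v ∉ center G := by
        intro hc
        have : π v = 1 := (QuotientGroup.eq_one_iff v).mpr hc
        rw [this, orderOf_one] at hvord
        exact hr.one_lt.ne hvord
      have hCv : centralizer ({v} : Set G) = Cw := hTw v hvCw hvZ
      let MbS : Sylow r (G ⧸ center G) := hMbp.toSylow (by
        rw [hMbi]; intro hd; exact hrp ((Nat.prime_dvd_prime_iff_eq hr hpp).mp hd))
      obtain ⟨Q, hQ⟩ := exists_sylow_mem_of_orderOf (p := r) (x := π v) (k := 1) (by rw [hvord, pow_one])
      obtain ⟨gb, hgb⟩ := MulAction.exists_smul_eq (G ⧸ center G) MbS Q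
      obtain ⟨g0, rfl⟩ := hπs gb
      rw [← hgb] at hQ
      have hQ2 := (mem_smul_sylow_iff (π g0) MbS (π v)).mp hQ
      have hQ' : π (g0⁻¹ * v * g0) ∈ Mb := by
        rw [map_mul, map_mul, map_inv]; exact hQ2
      rw [hMb, mem_map_mk_center_iff hZM] at hQ'
      -- v commutes with x' = g0 x g0⁻¹
      have h5 : g0 * (g0⁻¹ * v * g0) * g0⁻¹ ∈ centralizer ({g0 * x * g0⁻¹} : Set G) :=
        (conj_mem_cent_conj_iff g0 x _).mpr hQ'
      have h6 : g0 * (g0⁻¹ * v * g0) * g0⁻¹ = v := by group
      rw [h6, mem_cent_singleton] at h5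
      have hx'Cw : g0 * x * g0⁻¹ ∈ Cw := by
        rw [← hCv, mem_cent_singleton]; exact h5.symm
      have h7 : w * (g0 * x * g0⁻¹) = (g0 * x * g0⁻¹) * w := hTw.comm (self_mem_cent w) hx'Cw
      have h8 : g0 * (g0⁻¹ * w * g0) * g0⁻¹ ∈ centralizer ({g0 * x * g0⁻¹} : Set G) := by
        have : g0 * (g0⁻¹ * w * g0) * g0⁻¹ = w := by group
        rw [this, mem_cent_singleton]; exact h7.symm
      have h9 : g0⁻¹ * w * g0 ∈ M := (conj_mem_cent_conj_iff g0 x _).mp h8
      have h10 : π (g0⁻¹ * w * g0) ∈ Mb := ⟨_, h9, rfl⟩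
      obtain ⟨j, hj⟩ := hMbp ⟨_, h10⟩
      have hj' : (π (g0⁻¹ * w * g0)) ^ (r ^ j) = 1 := by
        have := congrArg Subtype.val hj
        simpa using this
      have hord : orderOf (π (g0⁻¹ * w * g0)) = p := by
        rw [map_mul, map_mul, map_inv, ← hwb]
        have := orderOf_conj_eq (π g0)⁻¹ (π w)
        rw [inv_inv] at this
        exact this
      have hd : p ∣ r ^ j := hord ▸ orderOf_dvd_of_pow_eq_one hj'
      exact hrp ((Nat.prime_dvd_prime_iff_eq hpp hr).mp (hpp.dvd_of_dvd_pow hd)).symm
    · -- (B) for w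
      have hws : (π w) ^ s = 1 := by
        rw [← map_pow]; exact (QuotientGroup.eq_one_iff _).mpr (hpow_w w (self_mem_cent w))
      have hps : p = s := by
        have hd : p ∣ s := hwb ▸ orderOf_dvd_of_pow_eq_one hws
        exact (Nat.prime_dvd_prime_iff_eq hpp hs).mp hd
      have hCwbp : IsPGroup p Cwb := by
        rintro ⟨_, m, hm, rfl⟩
        refine ⟨1, ?_⟩
        apply Subtype.ext
        rw [pow_one]
        push_cast
        rw [← map_pow, hps]
        exact (QuotientGroup.eq_one_iff _).mpr (hpow_w m hm)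
      obtain ⟨j, hj⟩ := IsPGroup.iff_card.mp hCwbp
      rw [hj] at hrC
      exact hrp ((Nat.prime_dvd_prime_iff_eq hr hpp).mp (hr.dvd_of_dvd_pow hrC))
  -- Step (iii): M is abelian
  have hMbcyc : IsCyclic Mb := by
    apply isCyclic_of_card_dvd_prime (p := r)
    rw [hk]
    calc r ^ k ∣ r ^ 1 := pow_dvd_pow r hk1
      _ = r := pow_one r
  have hMcomm : ∀ a ∈ M, ∀ b ∈ M, a * b = b * a := by
    intro a ha b hb
    have hker : (π.subgroupMap M).ker ≤ center M := by
      intro m hm
      rw [MonoidHom.mem_ker] at hm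
      have h1 : π (m : G) = 1 := congrArg Subtype.val hm
      have h2 : (m : G) ∈ center G := (QuotientGroup.eq_one_iff _).mp h1
      rw [mem_center_iff]
      intro m'
      apply Subtype.ext
      push_cast
      exact mem_center_iff.mp h2 _
    have := commutative_of_cyclic_center_quotient (π.subgroupMap M) hker ⟨a, ha⟩ ⟨b, hb⟩
    exact congrArg Subtype.val this
  apply hT
  intro y hy hyZ
  symm
  apply cent_eq_of_le hCM hx hyZ
  intro m hm
  rw [mem_cent_singleton]
  exact hMcomm y hy m hm


theorem dvd_card_of_stabilizer_index {H X : Type*} [Group H] [Finite H] [MulAction H X] [Finite X] (b : ℕ)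
    (hst : ∀ x : X, (MulAction.stabilizer H x).index = b) : b ∣ Nat.card X := by
  classical
  have e := MulAction.selfEquivSigmaOrbitsQuotientStabilizer H X
  haveI : Fintype (Quotient (MulAction.orbitRel H X)) := Fintype.ofFinite _
  rw [Nat.card_congr e, Nat.card_sigma]
  apply Finset.dvd_sum
  intro ω _
  have : Nat.card (H ⧸ MulAction.stabilizer H ω.out) = b := hst _
  rw [this]

/-- Case B: a non-normal centralizer exists. -/
theorem caseB [Finite G] (h : PrimeClasses G) {x : G} (hx : x ∉ center G)
    (hnn : ¬ (centralizer ({x} : Set G)).Normal) :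
    ∃ p q : ℕ, p.Prime ∧ q.Prime ∧ p ≠ q ∧ Nat.card (G ⧸ center G) = p * q ∧
      ¬ IsMulCommutative (G ⧸ center G) := by
  classical
  have hCM := h.centMax
  have hTA := TA_of_not_normal h hx hnn
  set M := centralizer ({x} : Set G) with hM
  have hpp : (M.index).Prime := h.prime hx
  have hZM : center G ≤ M := center_le_cent x
  have hMtop : M ≠ ⊤ := cent_ne_top_of_not_mem_center hx
  obtain ⟨y, hy⟩ := exists_forall_conj_notMem M hMtop
  have hyZ : y ∉ center G := by
    intro hc
    apply hy 1
    rw [inv_one, one_mul, mul_one]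
    exact hZM hc
  set My := centralizer ({y} : Set G) with hMy
  have hqp : (My.index).Prime := h.prime hyZ
  have hZMy : center G ≤ My := center_le_cent y
  -- B3
  have hB3 : ∀ (g d : G), d ∈ My → g⁻¹ * d * g ∈ M → d ∈ center G := by
    intro g d hd hdg
    by_contra hdZ
    -- C(d) contains C(g x g⁻¹)
    have hxg : g * x * g⁻¹ ∉ center G := by
      intro hc
      apply hx
      have : x = g⁻¹ * (g * x * g⁻¹) * g := by group
      rw [this]
      exact (inferInstance : (center G).Normal).conj_mem' _ hc g
    have hle : centralizer ({g * x * g⁻¹} : Set G) ≤ centralizer ({d} : Set G) := by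
      intro m hm
      -- m = g m' g⁻¹ with m' ∈ M ; d = g d' g⁻¹ with d' ∈ M; M abelian
      have hm' : g⁻¹ * m * g ∈ M := by
        have h1 : g * (g⁻¹ * m * g) * g⁻¹ = m := by group
        rw [← h1] at hm
        exact (conj_mem_cent_conj_iff g x _).mp hm
      have hc := hTA.comm hdg hm'
      rw [mem_cent_singleton]
      have e1 : d * m = g * ((g⁻¹ * d * g) * (g⁻¹ * m * g)) * g⁻¹ := by group
      have e2 : m * d = g * ((g⁻¹ * m * g) * (g⁻¹ * d * g)) * g⁻¹ := by group
      rw [e1, e2, hc]
    have heq := cent_eq_of_le hCM hxg hdZ hle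
    -- y ∈ C(d) = C(g x g⁻¹), so g⁻¹ y g ∈ M
    have hyd : y ∈ centralizer ({d} : Set G) := by
      rw [mem_cent_singleton]
      exact (mem_cent_singleton.mp hd).symm
    rw [← heq] at hyd
    have h1 : g * (g⁻¹ * y * g) * g⁻¹ = y := by group
    rw [← h1] at hyd
    exact hy g ((conj_mem_cent_conj_iff g x _).mp hyd)
  -- B4: relindex of the center in My is M.index
  have hstab : ∀ c : G ⧸ M, (MulAction.stabilizer My c).index = (center G).relIndex My := by
    intro c
    obtain ⟨g, rfl⟩ := QuotientGroup.mk_surjective c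
    have : MulAction.stabilizer My (QuotientGroup.mk g : G ⧸ M) = (center G).subgroupOf My := by
      ext d
      rw [MulAction.mem_stabilizer_iff, mem_subgroupOf]
      change ((QuotientGroup.mk ((d : G) * g) : G ⧸ M) = QuotientGroup.mk g) ↔ _
      rw [QuotientGroup.eq]
      have h2 : ((d : G) * g)⁻¹ * g = (g⁻¹ * (d : G) * g)⁻¹ := by group
      rw [h2, inv_mem_iff]
      constructor
      · intro hd
        exact hB3 g d d.2 hd
      · intro hd
        have : g⁻¹ * (d : G) * g = (d : G) := by
          rw [mul_assoc, ← mem_center_iff.mp hd g, ← mul_assoc, inv_mul_cancel, one_mul]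
        rw [this]
        exact hZM hd
    rw [this]
    rfl
  have hdvd : (center G).relIndex My ∣ M.index := by
    have := dvd_card_of_stabilizer_index (H := My) (X := G ⧸ M) _ hstab
    exact this
  have hne1 : (center G).relIndex My ≠ 1 := by
    intro h1
    have := relIndex_eq_one.mp h1
    exact hyZ (this (self_mem_cent y))
  have hb : (center G).relIndex My = M.index := by
    rcases (Nat.dvd_prime hpp).mp hdvd with h1 | h1
    · exact absurd h1 hne1
    · exact h1
  have hcard : Nat.card (G ⧸ center G) = M.index * My.index := by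
    have := relIndex_mul_index hZMy
    rw [hb] at this
    rw [this]
    rfl
  have hnc : ¬ IsMulCommutative (G ⧸ center G) := by
    intro hcomm
    apply hnn
    have hMn : (M.map (QuotientGroup.mk' (center G))).Normal := by
      constructor
      intro n hn g
      have : g * n * g⁻¹ = n := by
        rw [hcomm.is_comm.comm g n, mul_inv_cancel_right]
      rw [this]; exact hn
    have hcm : (M.map (QuotientGroup.mk' (center G))).comap (QuotientGroup.mk' (center G)) = M := by
      rw [comap_map_eq, QuotientGroup.ker_mk', sup_eq_left.mpr hZM]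
    rw [← hcm]
    exact hMn.comap _
  refine ⟨M.index, My.index, hpp, hqp, ?_, hcard, hnc⟩
  intro hpq
  apply hnc
  haveI := Fact.mk hpp
  have hsq : Nat.card (G ⧸ center G) = M.index ^ 2 := by rw [hcard, ← hpq, pow_two]
  exact ⟨⟨fun a b => IsPGroup.commutative_of_card_eq_prime_sq hsq a b⟩⟩

end
end Cfsg.Agent.Lib.helper23
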