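import Mathlib
import Cfsg.Prelude.Def_KGroupFacts
import Cfsg.Agent.Lib.helper23.SchurCoverE

set_option autoImplicit false

namespace Cfsg.Agent.Lib.helper23

open scoped commutatorElement
open scoped IsMulCommutative

/-- a divisible subgroup of an abelian group is a retract -/
theorem spr_retract {B D : Type*} [CommGroup B] [CommGroup D]
    (hdiv : ∀ n : ℕ, n ≠ 0 → ∀ d : D, ∃ e : D, e ^ n = d) (ι : D →* B)
    (hι : Function.Injective ι) : ∃ r : B →* D, ∀ d, r (ι d) = d := by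
  have hsurj : ∀ {n : ℤ}, n ≠ 0 → Function.Surjective (fun a : Additive D => n • a) := by
    intro n hn a
    obtain ⟨e, he⟩ := hdiv n.natAbs (Int.natAbs_ne_zero.mpr hn) (Additive.toMul a)
    rcases Int.natAbs_eq n with h | h
    · refine ⟨Additive.ofMul e, ?_⟩
      show n • Additive.ofMul e = a
      rw [h, natCast_zsmul, ← ofMul_pow, he]
      rfl
    · refine ⟨Additive.ofMul e⁻¹, ?_⟩
      show n • Additive.ofMul e⁻¹ = a
      rw [h, neg_smul, natCast_zsmul, ← ofMul_pow, inv_pow, he, ofMul_inv, neg_neg]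
      rfl
  let _inst : DivisibleBy (Additive D) ℤ := divisibleByOfSMulRightSurj (Additive D) ℤ hsurj
  obtain ⟨h, hh⟩ := (Module.Baer.of_divisible (Additive D)).extension_property_addMonoidHom
    (MonoidHom.toAdditive ι) hι (AddMonoidHom.id _)
  refine ⟨MonoidHom.toAdditive.symm h, fun d => ?_⟩
  have := DFunLike.congr_fun hh (Additive.ofMul d)
  exact this

/-- the centre of `GL n ℂ` is divisible -/
theorem spr_center_div (n : ℕ) (m : ℕ) (hm : m ≠ 0) (d : Subgroup.center (GL (Fin n) ℂ)) :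
    ∃ e : Subgroup.center (GL (Fin n) ℂ), e ^ m = d := by
  obtain ⟨d₀, hd⟩ := d
  have hd' := hd
  rw [Matrix.GeneralLinearGroup.center_eq_range_scalar] at hd'
  obtain ⟨c, hc⟩ := hd'
  obtain ⟨w, hw⟩ := IsAlgClosed.exists_pow_nat_eq (c : ℂ) (Nat.pos_of_ne_zero hm)
  have hw0 : w ≠ 0 := by
    intro h0
    rw [h0, zero_pow hm] at hw
    exact c.ne_zero hw.symm
  have hmem : Matrix.GeneralLinearGroup.scalar (Fin n) (Units.mk0 w hw0) ∈
      Subgroup.center (GL (Fin n) ℂ) := by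
    rw [Matrix.GeneralLinearGroup.center_eq_range_scalar]
    exact ⟨_, rfl⟩
  refine ⟨⟨_, hmem⟩, ?_⟩
  apply Subtype.ext
  show (Matrix.GeneralLinearGroup.scalar (Fin n) (Units.mk0 w hw0)) ^ m = d₀
  rw [← map_pow, ← hc]
  congr 1
  apply Units.ext
  simpa using hw

/-- projective representations lift to Schur covers -/
theorem spr_main {Q : Type*} [Group Q] [Finite Q] {A : Type*} [CommGroup A]
    (hA : Cfsg.HasSchurMultiplier Q A) {Γ : Type*} [Group Γ] [Finite Γ] (σ : Γ →* Q)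
    (hσ : Cfsg.IsStemExtension σ) (hk : Nonempty (σ.ker ≃* A)) (n : ℕ)
    (γ : Q →* (GL (Fin n) ℂ ⧸ Subgroup.center (GL (Fin n) ℂ))) :
    ∃ ρ : Γ →* GL (Fin n) ℂ,
      (QuotientGroup.mk' (Subgroup.center (GL (Fin n) ℂ))).comp ρ = γ.comp σ := by
  classical
  obtain ⟨e⟩ := hk
  set Z : Subgroup (GL (Fin n) ℂ) := Subgroup.center (GL (Fin n) ℂ) with hZ
  set q : GL (Fin n) ℂ →* GL (Fin n) ℂ ⧸ Z := QuotientGroup.mk' Z with hq
  have hqZ : ∀ M : GL (Fin n) ℂ, q M = 1 ↔ M ∈ Z := fun M => QuotientGroup.eq_one_iff M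
  -- the pullback
  let P : Subgroup (Γ × GL (Fin n) ℂ) :=
    MonoidHom.eqLocus ((γ.comp σ).comp (MonoidHom.fst Γ (GL (Fin n) ℂ)))
      (q.comp (MonoidHom.snd Γ (GL (Fin n) ℂ)))
  have hPmem : ∀ x : Γ × GL (Fin n) ℂ, x ∈ P ↔ γ (σ x.1) = q x.2 := fun x => Iff.rfl
  let pr₁ : P →* Γ := (MonoidHom.fst Γ (GL (Fin n) ℂ)).comp P.subtype
  let pr₂ : P →* GL (Fin n) ℂ := (MonoidHom.snd Γ (GL (Fin n) ℂ)).comp P.subtype
  have hpr₁a : ∀ x : P, pr₁ x = (x : Γ × GL (Fin n) ℂ).1 := fun x => rfl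
  have hpr₂a : ∀ x : P, pr₂ x = (x : Γ × GL (Fin n) ℂ).2 := fun x => rfl
  have hPx : ∀ x : P, γ (σ (pr₁ x)) = q (pr₂ x) := fun x => x.2
  have hpr₁ : Function.Surjective pr₁ := by
    intro g
    obtain ⟨M, hM⟩ := QuotientGroup.mk'_surjective Z (γ (σ g))
    exact ⟨⟨(g, M), hM.symm⟩, rfl⟩
  let τ : P →* Q := σ.comp pr₁
  have hτ : Function.Surjective τ := hσ.1.comp hpr₁
  have hkerτ : ∀ x : P, x ∈ τ.ker → pr₁ x ∈ σ.ker ∧ pr₂ x ∈ Z := by
    intro x hx
    have h1 : σ (pr₁ x) = 1 := hx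
    refine ⟨h1, ?_⟩
    have h2 := hPx x
    rw [h1, map_one] at h2
    exact (hqZ _).mp h2.symm
  have hker : τ.ker ≤ Subgroup.center P := by
    intro x hx
    obtain ⟨h1, h2⟩ := hkerτ x hx
    rw [Subgroup.mem_center_iff]
    intro y
    apply Subtype.ext
    apply Prod.ext
    · exact Subgroup.mem_center_iff.mp (hσ.2.1 h1) _
    · exact Subgroup.mem_center_iff.mp h2 _
  obtain ⟨π, hπ⟩ := scv_mult_to_central hA τ hτ hker
  have hfinA : Finite A := Finite.of_equiv _ e.toEquiv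
  -- the comparison map `A → ker σ`
  let f : A →* σ.ker := ((pr₁.comp τ.ker.subtype).comp π).codRestrict σ.ker (fun a => by
    have : σ (pr₁ ((π a : τ.ker) : P)) = 1 := (π a).2
    exact this)
  have hfa : ∀ a : A, ((f a : σ.ker) : Γ) = pr₁ ((π a : τ.ker) : P) := fun a => rfl
  have hcomm : commutator Γ = (commutator P).map pr₁ := by
    rw [commutator_def, commutator_def, Subgroup.map_commutator,
      Subgroup.map_top_of_surjective pr₁ hpr₁]
  have hfsurj : Function.Surjective f := by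
    intro g
    have hg : (g : Γ) ∈ commutator Γ := hσ.2.2 g.2
    rw [hcomm] at hg
    obtain ⟨x, hx, hxg⟩ := hg
    have hxker : x ∈ τ.ker := by
      show σ (pr₁ x) = 1
      rw [hxg]; exact g.2
    obtain ⟨a, ha⟩ := (hπ ⟨x, hxker⟩).mpr hx
    refine ⟨a, Subtype.ext ?_⟩
    rw [hfa, ha]
    exact hxg
  have hcard : Nat.card σ.ker ≤ Nat.card A := le_of_eq (Nat.card_congr e.toEquiv)
  have hfinj : Function.Injective f := by
    have hfinσ : Finite σ.ker := inferInstance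
    have hcard' : Nat.card A ≤ Nat.card σ.ker := le_of_eq (Nat.card_congr e.toEquiv).symm
    exact (hfsurj.bijective_of_nat_card_le hcard').1
  -- the embedding of `Z` in `P`
  have hjmem : ∀ z : Z, ((1 : Γ), (z : GL (Fin n) ℂ)) ∈ P := by
    intro z
    rw [hPmem]
    show γ (σ 1) = q (z : GL (Fin n) ℂ)
    rw [map_one, map_one, (hqZ _).mpr z.2]
  let jZ : Z →* P := ((MonoidHom.inr Γ (GL (Fin n) ℂ)).comp Z.subtype).codRestrict P hjmem
  have hjZ₁ : ∀ z : Z, pr₁ (jZ z) = 1 := fun z => rfl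
  have hjZ₂ : ∀ z : Z, pr₂ (jZ z) = (z : GL (Fin n) ℂ) := fun z => rfl
  have htriv : ∀ z : Z, jZ z ∈ commutator P → z = 1 := by
    intro z hz
    have hzker : jZ z ∈ τ.ker := by
      show σ (pr₁ (jZ z)) = 1
      rw [hjZ₁, map_one]
    obtain ⟨a, ha⟩ := (hπ ⟨jZ z, hzker⟩).mpr hz
    have h1 : f a = 1 := by
      apply Subtype.ext
      rw [hfa, ha]
      exact hjZ₁ z
    have h2 : a = 1 := hfinj (h1.trans (map_one f).symm)
    rw [h2, map_one] at ha
    have h3 : jZ z = 1 := by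
      have := congrArg Subtype.val ha
      exact this.symm
    have h4 := hjZ₂ z
    rw [h3, map_one] at h4
    exact Subtype.ext h4.symm
  let ι : Z →* Abelianization P := (Abelianization.of).comp jZ
  have hι : Function.Injective ι := by
    rw [injective_iff_map_eq_one]
    intro z hz
    apply htriv z
    rw [← Abelianization.ker_of, MonoidHom.mem_ker]
    exact hz
  obtain ⟨r, hr⟩ := spr_retract (spr_center_div n) ι hι
  let r' : P →* GL (Fin n) ℂ := Z.subtype.comp (r.comp Abelianization.of)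
  have hr'Z : ∀ x : P, r' x ∈ Z := fun x => (r (Abelianization.of x)).2
  have hr'j : ∀ z : Z, r' (jZ z) = (z : GL (Fin n) ℂ) := by
    intro z
    show ((r (ι z) : Z) : GL (Fin n) ℂ) = z
    rw [hr]
  let ρ' : P →* GL (Fin n) ℂ :=
    { toFun := fun x => pr₂ x * (r' x)⁻¹
      map_one' := by simp
      map_mul' := by
        intro x y
        have hc : (r' x)⁻¹ ∈ Z := Subgroup.inv_mem _ (hr'Z x)
        have hc' := Subgroup.mem_center_iff.mp hc (pr₂ y)
        rw [map_mul, map_mul, mul_inv_rev]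
        calc pr₂ x * pr₂ y * ((r' y)⁻¹ * (r' x)⁻¹)
            = pr₂ x * (pr₂ y * (r' x)⁻¹) * (r' y)⁻¹ := by
              have hc'' := Subgroup.mem_center_iff.mp hc (r' y)⁻¹
              rw [mul_assoc, mul_assoc, mul_assoc, hc'']
          _ = pr₂ x * (r' x)⁻¹ * (pr₂ y * (r' y)⁻¹) := by
              rw [hc']; group }
  have hρ'a : ∀ x : P, ρ' x = pr₂ x * (r' x)⁻¹ := fun x => rfl
  have hρ'ker : pr₁.ker ≤ ρ'.ker := by
    intro x hx
    rw [MonoidHom.mem_ker] at hx ⊢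
    have h1 := hPx x
    rw [hx, map_one, map_one] at h1
    have h2 : pr₂ x ∈ Z := (hqZ _).mp h1.symm
    have h3 : x = jZ ⟨pr₂ x, h2⟩ := by
      apply Subtype.ext
      apply Prod.ext
      · exact hx
      · rfl
    rw [hρ'a, h3, hr'j, hjZ₂]
    exact mul_inv_cancel _
  let ρ : Γ →* GL (Fin n) ℂ := pr₁.liftOfSurjective hpr₁ ⟨ρ', hρ'ker⟩
  have hρ : ∀ x : P, ρ (pr₁ x) = ρ' x := fun x =>
    MonoidHom.liftOfRightInverse_comp_apply pr₁ _ (Function.rightInverse_surjInv hpr₁)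
      ⟨ρ', hρ'ker⟩ x
  refine ⟨ρ, ?_⟩
  apply MonoidHom.ext
  intro g
  obtain ⟨x, rfl⟩ := hpr₁ g
  show q (ρ (pr₁ x)) = γ (σ (pr₁ x))
  rw [hρ, hρ'a, map_mul, map_inv, (hqZ _).mpr (hr'Z x), inv_one, mul_one, hPx]

end Cfsg.Agent.Lib.helper23
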