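import Mathlib
import Cfsg.Prelude.Def_KGroupFacts
import Cfsg.Agent.Lib.helper23.ProjLift

set_option autoImplicit false

namespace Cfsg.Agent.Lib.helper23

open scoped commutatorElement
open scoped IsMulCommutative

/-- a representation of a finite group in which a central subgroup acts through a given linear
character (the induced representation, realised on a space of functions) -/
theorem spr_exists_rep {Γ : Type*} [Group Γ] [Finite Γ] (A : Subgroup Γ)
    (hA : A ≤ Subgroup.center Γ) (χ : A →* ℂˣ) :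
    ∃ (n : ℕ) (ρ : Γ →* GL (Fin n) ℂ),
      (∀ a : A, ρ (a : Γ) ∈ Subgroup.center (GL (Fin n) ℂ)) ∧
      (∀ a : A, ρ (a : Γ) = 1 → χ a = 1) := by
  classical
  -- translation action on functions
  let T : Γ →* Module.End ℂ (Γ → ℂ) :=
    { toFun := fun g =>
        { toFun := fun f x => f (x * g)
          map_add' := fun _ _ => rfl
          map_smul' := fun _ _ => rfl }
      map_one' := by
        apply LinearMap.ext
        intro f
        funext x
        show f (x * 1) = f x
        rw [mul_one]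
      map_mul' := fun g h => by
        apply LinearMap.ext
        intro f
        funext x
        show f (x * (g * h)) = f (x * g * h)
        rw [mul_assoc] }
  have hT : ∀ g f x, T g f x = f (x * g) := fun g f x => rfl
  let V : Submodule ℂ (Γ → ℂ) :=
    { carrier := {f | ∀ (a : A) (x : Γ), f ((a : Γ) * x) = (χ a : ℂ) * f x}
      add_mem' := by
        intro f₁ f₂ h₁ h₂ a x
        show f₁ (a * x) + f₂ (a * x) = (χ a : ℂ) * (f₁ x + f₂ x)
        rw [h₁ a x, h₂ a x, mul_add]
      zero_mem' := by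
        intro a x
        show (0 : ℂ) = (χ a : ℂ) * 0
        rw [mul_zero]
      smul_mem' := by
        intro c f h a x
        show c * f (a * x) = (χ a : ℂ) * (c * f x)
        rw [h a x]; ring }
  have hVmem : ∀ f : Γ → ℂ, f ∈ V ↔ ∀ (a : A) (x : Γ), f ((a : Γ) * x) = (χ a : ℂ) * f x :=
    fun f => Iff.rfl
  have hinv : ∀ g : Γ, ∀ f ∈ V, T g f ∈ V := by
    intro g f hf a x
    rw [hT, hT, mul_assoc]
    exact hf a (x * g)
  let ρV : Γ →* Module.End ℂ V :=
    { toFun := fun g => (T g).restrict (hinv g)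
      map_one' := by
        apply LinearMap.ext
        intro f
        apply Subtype.ext
        show T 1 (f : Γ → ℂ) = f
        rw [map_one]; rfl
      map_mul' := fun g h => by
        apply LinearMap.ext
        intro f
        apply Subtype.ext
        show T (g * h) (f : Γ → ℂ) = T g (T h (f : Γ → ℂ))
        rw [map_mul]; rfl }
  have hρV : ∀ g (f : V) x, ((ρV g f : V) : Γ → ℂ) x = (f : Γ → ℂ) (x * g) := fun g f x => rfl
  have hscal : ∀ a : A, ρV (a : Γ) = (χ a : ℂ) • (1 : Module.End ℂ V) := by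
    intro a
    apply LinearMap.ext
    intro f
    apply Subtype.ext
    funext x
    show ((ρV (a : Γ) f : V) : Γ → ℂ) x = (χ a : ℂ) * (f : Γ → ℂ) x
    rw [hρV]
    have hc : x * (a : Γ) = (a : Γ) * x := (Subgroup.mem_center_iff.mp (hA a.2) x)
    rw [hc]
    exact f.2 a x
  -- a function in `V` not vanishing at `1`
  let f₀ : Γ → ℂ := fun x => if h : x ∈ A then (χ ⟨x, h⟩ : ℂ) else 0
  have hf₀ : f₀ ∈ V := by
    intro a x
    by_cases hx : x ∈ A
    · have hax : (a : Γ) * x ∈ A := A.mul_mem a.2 hx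
      show (if h : (a : Γ) * x ∈ A then (χ ⟨(a : Γ) * x, h⟩ : ℂ) else 0) =
        (χ a : ℂ) * (if h : x ∈ A then (χ ⟨x, h⟩ : ℂ) else 0)
      rw [dif_pos hax, dif_pos hx]
      have : (⟨(a : Γ) * x, hax⟩ : A) = a * ⟨x, hx⟩ := rfl
      rw [this, map_mul, Units.val_mul]
    · have hax : ¬ (a : Γ) * x ∈ A := by
        intro h
        apply hx
        have := A.mul_mem (A.inv_mem a.2) h
        rwa [inv_mul_cancel_left] at this
      show (if h : (a : Γ) * x ∈ A then (χ ⟨(a : Γ) * x, h⟩ : ℂ) else 0) =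
        (χ a : ℂ) * (if h : x ∈ A then (χ ⟨x, h⟩ : ℂ) else 0)
      rw [dif_neg hax, dif_neg hx, mul_zero]
  have hf₀1 : f₀ 1 = 1 := by
    show (if h : (1 : Γ) ∈ A then (χ ⟨1, h⟩ : ℂ) else 0) = 1
    rw [dif_pos A.one_mem]
    have : (⟨1, A.one_mem⟩ : A) = 1 := rfl
    rw [this, map_one, Units.val_one]
  -- matrices
  let b := Module.finBasis ℂ V
  let E : Module.End ℂ V ≃ₐ[ℂ] Matrix (Fin (Module.finrank ℂ V)) (Fin (Module.finrank ℂ V)) ℂ :=
    LinearMap.toMatrixAlgEquiv b
  let ρ : Γ →* GL (Fin (Module.finrank ℂ V)) ℂ :=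
    (Units.map (E : Module.End ℂ V →* _)).comp ρV.toHomUnits
  have hρ : ∀ g, ((ρ g : GL (Fin (Module.finrank ℂ V)) ℂ) :
      Matrix (Fin (Module.finrank ℂ V)) (Fin (Module.finrank ℂ V)) ℂ) = E (ρV g) := fun g => rfl
  refine ⟨Module.finrank ℂ V, ρ, ?_, ?_⟩
  · intro a
    rw [Subgroup.mem_center_iff]
    intro h
    apply Units.ext
    rw [Units.val_mul, Units.val_mul, hρ, hscal, map_smul, map_one, mul_smul_comm, smul_mul_assoc,
      mul_one, one_mul]
  · intro a ha
    have h1 : E (ρV (a : Γ)) = 1 := by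
      rw [← hρ, ha]; rfl
    have h2 : ρV (a : Γ) = 1 := by
      apply E.injective
      rw [h1, map_one]
    have h3 := hρV (a : Γ) ⟨f₀, hf₀⟩ 1
    rw [h2] at h3
    have h4 : ((1 : Module.End ℂ V) ⟨f₀, hf₀⟩ : V) = ⟨f₀, hf₀⟩ := rfl
    rw [h4] at h3
    have h5 : f₀ (1 * (a : Γ)) = (χ a : ℂ) * f₀ 1 := by
      rw [one_mul]
      have := hf₀ a 1
      rwa [mul_one] at this
    have h6 : f₀ 1 = (χ a : ℂ) * f₀ 1 := h3.trans h5
    rw [hf₀1, mul_one] at h6
    apply Units.ext
    rw [← h6]; rfl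

end Cfsg.Agent.Lib.helper23
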