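import Mathlib
import Cfsg.Prelude.Def_KGroupFacts
import Cfsg.Agent.Lib.helper23.ProjRep

set_option autoImplicit false

namespace Cfsg.Agent.Lib.helper23

open scoped commutatorElement
open scoped IsMulCommutative

universe u v

/-- every finite group has a Schur multiplier -/
theorem scv_has_mult (Q : Type u) [Group Q] [Finite Q] :
    ∃ (A : Type u) (_ : CommGroup A), Cfsg.HasSchurMultiplier Q A := by
  set φ : FreeGroup Q →* Q := FreeGroup.lift (id : Q → Q) with hφdef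
  have hφ : Function.Surjective φ := by
    intro q
    exact ⟨FreeGroup.of q, by rw [hφdef, FreeGroup.lift_apply_of]; rfl⟩
  have hfi : φ.ker.FiniteIndex := Subgroup.finiteIndex_ker φ
  have hN : ⁅(⊤ : Subgroup (FreeGroup Q)), φ.ker⁆ ≤ φ.ker := Subgroup.commutator_le_right _ _
  have hstem : ∀ r ∈ φ.ker, ∃ m ∈ φ.ker ⊓ commutator (FreeGroup Q), ∃ r₁ ∈ φ.ker, r = m * r₁ :=
    fun r hr => ⟨1, Subgroup.one_mem _, r, hr, (one_mul r).symm⟩
  obtain ⟨S₁, hS₁n, hNS₁, hS₁R, hS₁F, hdec⟩ := scv_exists φ φ.ker hN le_rfl hstem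
  obtain ⟨hstemσ, hfin⟩ := scv_quot_stem φ hφ S₁ hNS₁ hS₁R hdec
  set σ : FreeGroup Q ⧸ S₁ →* Q := QuotientGroup.lift S₁ φ hS₁R with hσ
  have hσmk : σ.comp (QuotientGroup.mk' S₁) = φ := by
    apply MonoidHom.ext
    intro f
    exact QuotientGroup.lift_mk S₁ hS₁R f
  have hmks : Function.Surjective (QuotientGroup.mk' S₁) := QuotientGroup.mk'_surjective S₁
  have hS : (QuotientGroup.mk' S₁).ker ⊓ commutator (FreeGroup Q) ≤
      ⁅(⊤ : Subgroup (FreeGroup Q)), (σ.comp (QuotientGroup.mk' S₁)).ker⁆ := by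
    rw [hσmk, QuotientGroup.ker_mk']
    exact hS₁F
  let instC : CommGroup σ.ker :=
    { (inferInstance : Group σ.ker) with
      mul_comm := fun a b => Subtype.ext (Subgroup.mem_center_iff.mp (hstemσ.2.1 b.2) a) }
  refine ⟨σ.ker, instC, ⟨FreeGroup Q ⧸ S₁, inferInstance, hfin, σ, hstemσ, ⟨MulEquiv.refl _⟩⟩, ?_⟩
  intro Γ _ _ τ hτ
  exact scv_cover (QuotientGroup.mk' S₁) hmks σ hstemσ hS τ hτ

/-- quotient of two homomorphisms agreeing modulo the centre -/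
theorem spc_quot_hom {P G : Type*} [Group P] [Group G] (α β : P →* G)
    (h : ∀ x, α x * (β x)⁻¹ ∈ Subgroup.center G) :
    ∃ l : P →* Subgroup.center G, ∀ x, (l x : G) = α x * (β x)⁻¹ := by
  refine ⟨{ toFun := fun x => ⟨α x * (β x)⁻¹, h x⟩, map_one' := ?_, map_mul' := ?_ }, fun x => rfl⟩
  · apply Subtype.ext
    simp
  · intro x y
    apply Subtype.ext
    show α (x * y) * (β (x * y))⁻¹ = α x * (β x)⁻¹ * (α y * (β y)⁻¹)
    have hc := Subgroup.mem_center_iff.mp (h y)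
    rw [map_mul, map_mul, mul_inv_rev]
    calc α x * α y * ((β y)⁻¹ * (β x)⁻¹) = α x * (α y * (β y)⁻¹) * (β x)⁻¹ := by group
      _ = (α y * (β y)⁻¹) * α x * (β x)⁻¹ := by rw [hc (α x)]
      _ = α x * (β x)⁻¹ * (α y * (β y)⁻¹) := by rw [mul_assoc, ← hc]

/-- a stem extension along which all projective representations lift is a Schur cover -/
theorem spc_main {Q : Type u} [Group Q] [Finite Q] {Γ : Type v} [Group Γ] [Finite Γ] (σ : Γ →* Q)
    (hσ : Cfsg.IsStemExtension σ)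
    (hlift : ∀ (n : ℕ) (γ : Q →* (GL (Fin n) ℂ ⧸ Subgroup.center (GL (Fin n) ℂ))),
      ∃ ρ : Γ →* GL (Fin n) ℂ,
        (QuotientGroup.mk' (Subgroup.center (GL (Fin n) ℂ))).comp ρ = γ.comp σ)
    (Δ : Type u) [Group Δ] [Finite Δ] (τ : Δ →* Q) (hτ : Cfsg.IsStemExtension τ) :
    ∃ π : σ.ker →* τ.ker, Function.Surjective π := by
  classical
  obtain ⟨A, instA, hA⟩ := scv_has_mult Q
  obtain ⟨Γ₀, instΓ₀, finΓ₀, σ₀, hσ₀, ⟨e₀⟩⟩ := hA.1
  obtain ⟨πτ, hπτ⟩ := hA.2 Δ τ hτ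
  obtain ⟨πσ, hπσ⟩ := scv_mult_to_central hA σ hσ.1 hσ.2.1
  have hπσs : Function.Surjective πσ := fun y => (hπσ y).mpr (hσ.2.2 y.2)
  have hfinA : Finite A := Finite.of_equiv _ e₀.toEquiv
  -- the pullback of the two extensions
  let P : Subgroup (Γ × Γ₀) :=
    MonoidHom.eqLocus (σ.comp (MonoidHom.fst Γ Γ₀)) (σ₀.comp (MonoidHom.snd Γ Γ₀))
  let pr₁ : P →* Γ := (MonoidHom.fst Γ Γ₀).comp P.subtype
  let pr₂ : P →* Γ₀ := (MonoidHom.snd Γ Γ₀).comp P.subtype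
  have hPx : ∀ x : P, σ (pr₁ x) = σ₀ (pr₂ x) := fun x => x.2
  have hpr₁ : Function.Surjective pr₁ := by
    intro g
    obtain ⟨g₀, hg₀⟩ := hσ₀.1 (σ g)
    exact ⟨⟨(g, g₀), hg₀.symm⟩, rfl⟩
  have hpr₂ : Function.Surjective pr₂ := by
    intro g₀
    obtain ⟨g, hg⟩ := hσ.1 (σ₀ g₀)
    exact ⟨⟨(g, g₀), hg⟩, rfl⟩
  let τP : P →* Q := σ.comp pr₁
  have hτP : Function.Surjective τP := hσ.1.comp hpr₁
  have hkerτ : ∀ x : P, x ∈ τP.ker → pr₁ x ∈ σ.ker ∧ pr₂ x ∈ σ₀.ker := by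
    intro x hx
    have h1 : σ (pr₁ x) = 1 := hx
    refine ⟨h1, ?_⟩
    rw [MonoidHom.mem_ker, ← hPx, h1]
  have hker : τP.ker ≤ Subgroup.center P := by
    intro x hx
    obtain ⟨h1, h2⟩ := hkerτ x hx
    rw [Subgroup.mem_center_iff]
    intro y
    apply Subtype.ext
    apply Prod.ext
    · exact Subgroup.mem_center_iff.mp (hσ.2.1 h1) _
    · exact Subgroup.mem_center_iff.mp (hσ₀.2.1 h2) _
  obtain ⟨π, hπ⟩ := scv_mult_to_central hA τP hτP hker
  let f₁ : A →* σ.ker := ((pr₁.comp τP.ker.subtype).comp π).codRestrict σ.ker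
    (fun a => (hkerτ _ (π a).2).1)
  let f₂ : A →* σ₀.ker := ((pr₂.comp τP.ker.subtype).comp π).codRestrict σ₀.ker
    (fun a => (hkerτ _ (π a).2).2)
  have hf₁a : ∀ a : A, ((f₁ a : σ.ker) : Γ) = pr₁ ((π a : τP.ker) : P) := fun a => rfl
  have hf₂a : ∀ a : A, ((f₂ a : σ₀.ker) : Γ₀) = pr₂ ((π a : τP.ker) : P) := fun a => rfl
  have hcomm₁ : commutator Γ = (commutator P).map pr₁ := by
    rw [commutator_def, commutator_def, Subgroup.map_commutator,
      Subgroup.map_top_of_surjective pr₁ hpr₁]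
  have hcomm₂ : commutator Γ₀ = (commutator P).map pr₂ := by
    rw [commutator_def, commutator_def, Subgroup.map_commutator,
      Subgroup.map_top_of_surjective pr₂ hpr₂]
  have hf₁surj : Function.Surjective f₁ := by
    intro g
    have hg : (g : Γ) ∈ commutator Γ := hσ.2.2 g.2
    rw [hcomm₁] at hg
    obtain ⟨x, hx, hxg⟩ := hg
    have hxker : x ∈ τP.ker := by
      show σ (pr₁ x) = 1
      rw [hxg]; exact g.2
    obtain ⟨a, ha⟩ := (hπ ⟨x, hxker⟩).mpr hx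
    refine ⟨a, Subtype.ext ?_⟩
    rw [hf₁a, ha]
    exact hxg
  have hf₂surj : Function.Surjective f₂ := by
    intro g
    have hg : (g : Γ₀) ∈ commutator Γ₀ := hσ₀.2.2 g.2
    rw [hcomm₂] at hg
    obtain ⟨x, hx, hxg⟩ := hg
    have hxker : x ∈ τP.ker := by
      show σ (pr₁ x) = 1
      rw [hPx, hxg]; exact g.2
    obtain ⟨a, ha⟩ := (hπ ⟨x, hxker⟩).mpr hx
    refine ⟨a, Subtype.ext ?_⟩
    rw [hf₂a, ha]
    exact hxg
  have hf₂inj : Function.Injective f₂ := by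
    have hcard' : Nat.card A ≤ Nat.card σ₀.ker := le_of_eq (Nat.card_congr e₀.toEquiv).symm
    exact (hf₂surj.bijective_of_nat_card_le hcard').1
  have hf₁inj : Function.Injective f₁ := by
    rw [injective_iff_map_eq_one]
    intro a ha
    by_contra hne
    have hk₀ : f₂ a ≠ 1 := fun h => hne (hf₂inj (h.trans (map_one f₂).symm))
    have hk₀' : e₀ (f₂ a) ≠ 1 := fun h => hk₀ (e₀.injective (h.trans (map_one e₀).symm))
    have : NeZero (Monoid.exponent A) := ⟨Monoid.exponent_ne_zero_of_finite⟩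
    obtain ⟨χ', hχ'⟩ := CommGroup.exists_apply_ne_one_of_hasEnoughRootsOfUnity A ℂ hk₀'
    let χ : σ₀.ker →* ℂˣ := χ'.comp e₀.toMonoidHom
    obtain ⟨n, ρ₀, hcen, hnt⟩ := spr_exists_rep σ₀.ker hσ₀.2.1 χ
    set q : GL (Fin n) ℂ →* GL (Fin n) ℂ ⧸ Subgroup.center (GL (Fin n) ℂ) :=
      QuotientGroup.mk' (Subgroup.center (GL (Fin n) ℂ)) with hq
    have hqZ : ∀ M : GL (Fin n) ℂ, q M = 1 ↔ M ∈ Subgroup.center (GL (Fin n) ℂ) :=
      fun M => QuotientGroup.eq_one_iff M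
    have hle : σ₀.ker ≤ (q.comp ρ₀).ker := by
      intro k hk
      rw [MonoidHom.mem_ker, MonoidHom.comp_apply, hqZ]
      exact hcen ⟨k, hk⟩
    let γ : Q →* GL (Fin n) ℂ ⧸ Subgroup.center (GL (Fin n) ℂ) :=
      σ₀.liftOfSurjective hσ₀.1 ⟨q.comp ρ₀, hle⟩
    have hγ : ∀ g₀ : Γ₀, γ (σ₀ g₀) = q (ρ₀ g₀) := fun g₀ =>
      MonoidHom.liftOfRightInverse_comp_apply σ₀ _ (Function.rightInverse_surjInv hσ₀.1)
        ⟨q.comp ρ₀, hle⟩ g₀
    obtain ⟨ρ, hρ⟩ := hlift n γ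
    have hρ' : ∀ g : Γ, q (ρ g) = γ (σ g) := fun g => DFunLike.congr_fun hρ g
    have hcenP : ∀ x : P, (ρ.comp pr₁) x * ((ρ₀.comp pr₂) x)⁻¹ ∈
        Subgroup.center (GL (Fin n) ℂ) := by
      intro x
      rw [← hqZ, map_mul, map_inv]
      show q (ρ (pr₁ x)) * (q (ρ₀ (pr₂ x)))⁻¹ = 1
      rw [hρ', ← hγ, hPx, mul_inv_cancel]
    obtain ⟨l, hl⟩ := spc_quot_hom (ρ.comp pr₁) (ρ₀.comp pr₂) hcenP
    have hmemc : ((π a : τP.ker) : P) ∈ commutator P := (hπ (π a)).mp ⟨a, rfl⟩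
    have hl1 : l ((π a : τP.ker) : P) = 1 := Abelianization.commutator_subset_ker l hmemc
    have hl2 := hl ((π a : τP.ker) : P)
    rw [hl1] at hl2
    have h1 : pr₁ ((π a : τP.ker) : P) = 1 := by
      rw [← hf₁a, ha]; rfl
    have hl3 : ((1 : Subgroup.center (GL (Fin n) ℂ)) : GL (Fin n) ℂ) =
        ρ (pr₁ ((π a : τP.ker) : P)) * (ρ₀ (pr₂ ((π a : τP.ker) : P)))⁻¹ := hl2
    rw [h1, map_one, one_mul, ← hf₂a] at hl3
    have h2 : ρ₀ ((f₂ a : σ₀.ker) : Γ₀) = 1 := by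
      have h3 : ((1 : Subgroup.center (GL (Fin n) ℂ)) : GL (Fin n) ℂ) = 1 := rfl
      rw [h3] at hl3
      exact (inv_eq_one.mp hl3.symm)
    exact hχ' (hnt (f₂ a) h2)
  have hcard : Nat.card A ≤ Nat.card σ.ker := Nat.card_le_card_of_injective f₁ hf₁inj
  have hbij : Function.Bijective πσ := hπσs.bijective_of_nat_card_le hcard
  refine ⟨πτ.comp (MulEquiv.ofBijective πσ hbij).symm.toMonoidHom, ?_⟩
  exact hπτ.comp (MulEquiv.ofBijective πσ hbij).symm.surjective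

/-- the identity is a stem extension -/
theorem spc_id_stem (Q : Type*) [Group Q] : Cfsg.IsStemExtension (MonoidHom.id Q) := by
  refine ⟨Function.surjective_id, ?_, ?_⟩
  · intro x hx
    rw [MonoidHom.mem_ker, MonoidHom.id_apply] at hx
    rw [hx]; exact Subgroup.one_mem _
  · intro x hx
    rw [MonoidHom.mem_ker, MonoidHom.id_apply] at hx
    rw [hx]; exact Subgroup.one_mem _

/-- trivial multiplier iff all projective representations lift -/
theorem spc_trivial_iff {Q : Type u} [Group Q] [Finite Q] :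
    Cfsg.HasCyclicSchurMultiplier Q 1 ↔
      ∀ (n : ℕ) (γ : Q →* (GL (Fin n) ℂ ⧸ Subgroup.center (GL (Fin n) ℂ))),
        ∃ ρ : Q →* GL (Fin n) ℂ,
          (QuotientGroup.mk' (Subgroup.center (GL (Fin n) ℂ))).comp ρ = γ := by
  constructor
  · intro h n γ
    have hk : Nonempty ((MonoidHom.id Q).ker ≃* Multiplicative (ZMod 1)) := by
      refine ⟨{ toFun := fun _ => 1, invFun := fun _ => 1, left_inv := ?_, right_inv := ?_,
                map_mul' := ?_ }⟩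
      · intro x
        have hx := x.2
        rw [MonoidHom.mem_ker, MonoidHom.id_apply] at hx
        exact (Subtype.ext hx).symm
      · intro x
        exact Subsingleton.elim _ _
      · intro x y
        exact Subsingleton.elim _ _
    obtain ⟨ρ, hρ⟩ := spr_main h (MonoidHom.id Q) (spc_id_stem Q) hk n γ
    exact ⟨ρ, by rw [hρ, MonoidHom.comp_id]⟩
  · intro h
    rw [pcv_trivial_mult_iff]
    intro Γ _ _ σ hσ x hx
    have hlift : ∀ (n : ℕ) (γ : Q →* (GL (Fin n) ℂ ⧸ Subgroup.center (GL (Fin n) ℂ))),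
        ∃ ρ : Q →* GL (Fin n) ℂ,
          (QuotientGroup.mk' (Subgroup.center (GL (Fin n) ℂ))).comp ρ =
            γ.comp (MonoidHom.id Q) := by
      intro n γ
      obtain ⟨ρ, hρ⟩ := h n γ
      exact ⟨ρ, by rw [hρ, MonoidHom.comp_id]⟩
    obtain ⟨π, hπ⟩ := spc_main (MonoidHom.id Q) (spc_id_stem Q) hlift Γ σ hσ
    obtain ⟨t, ht⟩ := hπ ⟨x, hx⟩
    have ht1 : t = 1 := by
      have := t.2
      rw [MonoidHom.mem_ker, MonoidHom.id_apply] at this
      exact Subtype.ext this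
    rw [ht1, map_one] at ht
    exact (congrArg Subtype.val ht).symm

end Cfsg.Agent.Lib.helper23
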