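import Mathlib
import Cfsg.Prelude.Def_Solvable
import Cfsg.Agent.Lib.Helper19.Frobenius
import Cfsg.Agent.Lib.helper14.Quat
import Cfsg.Agent.Lib.helper23.FrobSemi

set_option autoImplicit false

namespace Cfsg.Agent.Lib.helper23

/-- there is an abelian group of order `n` carrying a quaternion pair of endomorphisms -/
def QuatGood (n : ℕ) : Prop :=
  ∃ (K : Type) (_ : AddCommGroup K) (_ : Finite K) (i j : K →+ K), Nat.card K = n ∧
    (∀ x, i (i x) = -x) ∧ (∀ x, j (j x) = -x) ∧ (∀ x, j (i x) = -(i (j x)))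

theorem quatGood_one : QuatGood 1 :=
  ⟨PUnit, inferInstance, inferInstance, 0, 0, Nat.card_unique, fun _ => rfl, fun _ => rfl,
    fun _ => rfl⟩

theorem quatGood_mul {m n : ℕ} (hm : QuatGood m) (hn : QuatGood n) : QuatGood (m * n) := by
  obtain ⟨K₁, _, _, i₁, j₁, hc₁, hi₁, hj₁, hji₁⟩ := hm
  obtain ⟨K₂, _, _, i₂, j₂, hc₂, hi₂, hj₂, hji₂⟩ := hn
  refine ⟨K₁ × K₂, inferInstance, inferInstance, i₁.prodMap i₂, j₁.prodMap j₂, ?_, ?_, ?_, ?_⟩
  · rw [Nat.card_prod, hc₁, hc₂]
  · rintro ⟨x, y⟩
    simp [AddMonoidHom.coe_prodMap, hi₁, hi₂]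
  · rintro ⟨x, y⟩
    simp [AddMonoidHom.coe_prodMap, hj₁, hj₂]
  · rintro ⟨x, y⟩
    simp [AddMonoidHom.coe_prodMap, hji₁, hji₂]

theorem quatGood_prime_sq (p : ℕ) (hp : p.Prime) : QuatGood (p * p) := by
  have : Fact p.Prime := ⟨hp⟩
  obtain ⟨a, b, hab⟩ := ZMod.sq_add_sq p (-1)
  let i : ZMod p × ZMod p →+ ZMod p × ZMod p :=
    { toFun := fun v => (a * v.1 + b * v.2, b * v.1 - a * v.2)
      map_zero' := by simp
      map_add' := by
        intro v w
        ext
        · simp only [Prod.fst_add, Prod.snd_add]; ring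
        · simp only [Prod.fst_add, Prod.snd_add]; ring }
  let j : ZMod p × ZMod p →+ ZMod p × ZMod p :=
    { toFun := fun v => (-v.2, v.1)
      map_zero' := by simp
      map_add' := by
        intro v w
        ext
        · simp only [Prod.fst_add, Prod.snd_add]; ring
        · simp only [Prod.fst_add, Prod.snd_add] }
  refine ⟨ZMod p × ZMod p, inferInstance, inferInstance, i, j, ?_, ?_, ?_, ?_⟩
  · rw [Nat.card_prod, Nat.card_zmod]
  · rintro ⟨x, y⟩
    show ((a * (a * x + b * y) + b * (b * x - a * y), b * (a * x + b * y) - a * (b * x - a * y))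
      : ZMod p × ZMod p) = (-x, -y)
    ext
    · show a * (a * x + b * y) + b * (b * x - a * y) = -x
      linear_combination x * hab
    · show b * (a * x + b * y) - a * (b * x - a * y) = -y
      linear_combination y * hab
  · rintro ⟨x, y⟩
    show ((-x, -y) : ZMod p × ZMod p) = (-x, -y)
    rfl
  · rintro ⟨x, y⟩
    show ((-(b * x - a * y), a * x + b * y) : ZMod p × ZMod p)
      = -((a * (-y) + b * x, b * (-y) - a * x) : ZMod p × ZMod p)
    ext
    · show -(b * x - a * y) = -(a * (-y) + b * x)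
      ring
    · show a * x + b * y = -(b * (-y) - a * x)
      ring

theorem quatGood_sq (r : ℕ) (hr : r ≠ 0) : QuatGood (r * r) := by
  induction r using Nat.recOnMul with
  | zero => exact absurd rfl hr
  | one => exact quatGood_one
  | prime p hp => exact quatGood_prime_sq p hp
  | mul a b ha hb =>
    have ha0 : a ≠ 0 := fun h => hr (by rw [h, zero_mul])
    have hb0 : b ≠ 0 := fun h => hr (by rw [h, mul_zero])
    have := quatGood_mul (ha ha0) (hb hb0)
    rwa [show a * b * (a * b) = a * a * (b * b) by ring]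

theorem quat_two_cases : ∀ g : QuaternionGroup 2, g ≠ 1 →
    g = QuaternionGroup.a 1 * QuaternionGroup.a 1 ∨ g * g = QuaternionGroup.a 1 * QuaternionGroup.a 1 := by
  decide

theorem exists_frobenius_quat (m : ℕ) (hodd : Odd m) (h1 : 1 < m) (hg : QuatGood m) :
    ∃ (L : Type) (_ : Group L) (_ : Finite L) (H : Subgroup L), Cfsg.IsFrobeniusComplement H ∧
      Nonempty (H ≃* QuaternionGroup 2) ∧ Nat.card (Cfsg.frobeniusKernel H) = m := by
  obtain ⟨K, _, _, i, j, hc, hi, hj, hji⟩ := hg
  let N := Multiplicative K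
  have hcN : Nat.card N = m := hc
  have hNfin : Finite N := inferInstanceAs (Finite (Multiplicative K))
  have hNnt : Nontrivial N := by
    rw [← Finite.one_lt_card_iff_nontrivial, hcN]
    exact h1
  let I : MulAut N :=
    { toFun := fun x => Multiplicative.ofAdd (i x.toAdd)
      invFun := fun x => Multiplicative.ofAdd (-(i x.toAdd))
      left_inv := by
        intro x
        show Multiplicative.ofAdd (-(i (i x.toAdd))) = x
        rw [hi, neg_neg]
        rfl
      right_inv := by
        intro x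
        show Multiplicative.ofAdd (i (-(i x.toAdd))) = x
        rw [map_neg, hi, neg_neg]
        rfl
      map_mul' := by
        intro x y
        show Multiplicative.ofAdd (i (x.toAdd + y.toAdd)) = _
        rw [map_add]
        rfl }
  let J : MulAut N :=
    { toFun := fun x => Multiplicative.ofAdd (j x.toAdd)
      invFun := fun x => Multiplicative.ofAdd (-(j x.toAdd))
      left_inv := by
        intro x
        show Multiplicative.ofAdd (-(j (j x.toAdd))) = x
        rw [hj, neg_neg]
        rfl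
      right_inv := by
        intro x
        show Multiplicative.ofAdd (j (-(j x.toAdd))) = x
        rw [map_neg, hj, neg_neg]
        rfl
      map_mul' := by
        intro x y
        show Multiplicative.ofAdd (j (x.toAdd + y.toAdd)) = _
        rw [map_add]
        rfl }
  have hII : ∀ x : N, I (I x) = x⁻¹ := by
    intro x
    show Multiplicative.ofAdd (i (i x.toAdd)) = x⁻¹
    rw [hi]
    rfl
  have hJJ : ∀ x : N, J (J x) = x⁻¹ := by
    intro x
    show Multiplicative.ofAdd (j (j x.toAdd)) = x⁻¹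
    rw [hj]
    rfl
  have hJI : ∀ x : N, J (I x) = (I (J x))⁻¹ := by
    intro x
    show Multiplicative.ofAdd (j (i x.toAdd)) = (Multiplicative.ofAdd (i (j x.toAdd)))⁻¹
    rw [hji]
    rfl
  -- elements of odd order
  have hinv_ne : ∀ x : N, x⁻¹ = x → x = 1 := by
    intro x hx
    have h2 : x ^ 2 = 1 := by
      rw [pow_two]
      nth_rewrite 1 [← hx]
      exact inv_mul_cancel x
    have h3 : orderOf x ∣ 2 := orderOf_dvd_of_pow_eq_one h2
    have h4 : orderOf x ∣ m := hcN ▸ orderOf_dvd_natCard x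
    have h5 : orderOf x ∣ Nat.gcd 2 m := Nat.dvd_gcd h3 h4
    have h6 : Nat.gcd 2 m = 1 := Nat.coprime_two_left.mpr hodd
    rw [h6, Nat.dvd_one, orderOf_eq_one_iff] at h5
    exact h5
  have hI2 : ∀ x : N, (I ^ 2) x = x⁻¹ := by
    intro x
    rw [pow_two, MulAut.mul_apply, hII]
  have hI2ne : ¬ I ^ 2 ^ 1 = 1 := by
    intro h
    obtain ⟨x, hx⟩ := exists_ne (1 : N)
    apply hx
    apply hinv_ne
    have h' : I ^ 2 = 1 := by rw [← pow_one 2]; exact h
    rw [← hI2, h']
    rfl
  have hI4 : I ^ 2 ^ (1 + 1) = 1 := by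
    ext x
    show (I ^ 4) x = x
    rw [show (4 : ℕ) = 2 * 2 by norm_num, pow_mul, pow_two (I ^ 2), MulAut.mul_apply, hI2, hI2, inv_inv]
  have hord : orderOf I = 2 * 2 := by
    have := orderOf_eq_prime_pow hI2ne hI4
    rw [this]
    norm_num
  have hw : J * J = I ^ 2 := by
    ext x
    rw [MulAut.mul_apply, hJJ, hI2]
  have hwt : J * I * J⁻¹ = I⁻¹ := by
    rw [mul_inv_eq_iff_eq_mul, eq_inv_mul_iff_mul_eq]
    ext x
    rw [MulAut.mul_apply, MulAut.mul_apply, hJI, map_inv, hII, inv_inv]
  obtain ⟨ψ, hψinj, hψa, hψx⟩ := Cfsg.Agent.Lib.helper14.exists_quatHom 2 (by norm_num) I J hord hw hwt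
  have hfree : ∀ h : QuaternionGroup 2, h ≠ 1 → ∀ n : N, ψ h n = n → n = 1 := by
    intro h hh n hn
    apply hinv_ne
    have hz : ψ (QuaternionGroup.a 1 * QuaternionGroup.a 1) n = n⁻¹ := by
      rw [map_mul, hψa, MulAut.mul_apply, hII]
    rw [← hz]
    rcases quat_two_cases h hh with h2 | h2
    · rw [← h2, hn]
    · rw [← h2, map_mul, MulAut.mul_apply, hn, hn]
  have hQnt : Nontrivial (QuaternionGroup 2) := by
    refine ⟨⟨QuaternionGroup.a 1, 1, ?_⟩⟩
    decide
  have hF := isFrobeniusComplement_range_inr ψ hfree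
  have hfin : Finite (N ⋊[ψ] QuaternionGroup 2) :=
    Finite.of_equiv _ SemidirectProduct.equivProd.symm
  refine ⟨N ⋊[ψ] QuaternionGroup 2, inferInstance, hfin, _, hF,
    ⟨(MonoidHom.ofInjective SemidirectProduct.inr_injective).symm⟩, ?_⟩
  rw [Cfsg.Agent.Lib.Helper19.card_frobeniusKernel _ hF]
  have hidx := Subgroup.card_mul_index (SemidirectProduct.inr : QuaternionGroup 2 →* N ⋊[ψ] QuaternionGroup 2).range
  rw [SemidirectProduct.card, hcN,
    Nat.card_congr (MonoidHom.ofInjective SemidirectProduct.inr_injective).symm.toEquiv] at hidx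
  have h8 : Nat.card (QuaternionGroup 2) ≠ 0 := Nat.card_pos.ne'
  have : Nat.card (QuaternionGroup 2) * (SemidirectProduct.inr : QuaternionGroup 2 →* N ⋊[ψ] QuaternionGroup 2).range.index = Nat.card (QuaternionGroup 2) * m := by
    rw [hidx, mul_comm]
  exact Nat.eq_of_mul_eq_mul_left (Nat.pos_of_ne_zero h8) this

end Cfsg.Agent.Lib.helper23
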