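import Mathlib
import Cfsg.Agent.Lib.helper8.RSM.Defs
import Cfsg.Agent.Lib.helper23.RSME2

/-! RSM row E4 (`proj_mul`), second copy as a core on the statement of D4, helper23. -/

set_option autoImplicit false

namespace Cfsg.Agent.Lib.helper8.RSM

universe u v w

variable {G : Type u} [Group G] {K : Type v} [Field K] [Fintype K] {m : ℕ}
variable {Γ : Type w} [Group Γ] {σ : Γ →* G}

/-- the average of an element over `U₂` lies over `U₂` -/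
theorem rsme4_h23_avg_mem (RU : ReeU G K m) (H0 : Γ) (hH0 : σ H0 = RU.h0) (n : ℕ) (w : Γ)
    (hw : RU.InU2 (σ w)) : RU.InU2 (σ (avg H0 n w)) := by
  obtain ⟨u, v, huv⟩ := hw
  exact ⟨_, _, avg_map RU H0 hH0 n w u v huv⟩

/-- the conjugates by powers of `H0` of an element over `U₂` lie over `U₂` -/
theorem rsme4_h23_conj_mem (RU : ReeU G K m) (H0 : Γ) (hH0 : σ H0 = RU.h0) (n : ℕ) (w : Γ)
    (hw : RU.InU2 (σ w)) : RU.InU2 (σ (H0 ^ n * w * (H0 ^ n)⁻¹)) := by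
  obtain ⟨u, v, huv⟩ := hw
  refine ⟨nrm m RU.a0 ^ n * u, (RU.a0 * nrm m RU.a0) ^ n * v, ?_⟩
  rw [map_mul, map_mul, map_inv, map_pow, hH0, huv, rsme2_h0_pow_conj, mul_zero]

/-- products of elements over `U₂` lie over `U₂` -/
theorem rsme4_h23_mul_mem (RU : ReeU G K m) (w w' : Γ)
    (hw : RU.InU2 (σ w)) (hw' : RU.InU2 (σ w')) : RU.InU2 (σ (w * w')) := by
  obtain ⟨u, v, huv⟩ := hw
  obtain ⟨u', v', huv'⟩ := hw'
  exact ⟨u + u', v + v', by rw [map_mul, huv, huv', rsmc1_right]⟩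

/-- the average is multiplicative on the (abelian) preimage of `U₂` -/
theorem rsme4_h23_avg_mul (RU : ReeU G K m) (H0 : Γ) (hH0 : σ H0 = RU.h0)
    (hD4 : ∀ g g' : Γ, RU.InU2 (σ g) → RU.InU2 (σ g') → g * g' = g' * g) (n : ℕ) (w w' : Γ)
    (hw : RU.InU2 (σ w)) (hw' : RU.InU2 (σ w')) :
    avg H0 n (w * w') = avg H0 n w * avg H0 n w' := by
  have hsucc : ∀ (n : ℕ) (z : Γ), avg H0 (n + 1) z = avg H0 n z * (H0 ^ n * z * (H0 ^ n)⁻¹) := by
    intro n z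
    unfold avg
    rw [List.range_succ, List.map_append, List.prod_append]
    simp
  induction n with
  | zero => simp [avg]
  | succ n ih =>
    rw [hsucc, hsucc, hsucc, ih]
    have hc : H0 ^ n * (w * w') * (H0 ^ n)⁻¹ =
        (H0 ^ n * w * (H0 ^ n)⁻¹) * (H0 ^ n * w' * (H0 ^ n)⁻¹) := by group
    have hcomm : avg H0 n w' * (H0 ^ n * w * (H0 ^ n)⁻¹) =
        (H0 ^ n * w * (H0 ^ n)⁻¹) * avg H0 n w' :=
      hD4 _ _ (rsme4_h23_avg_mem RU H0 hH0 n w' hw') (rsme4_h23_conj_mem RU H0 hH0 n w hw)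
    rw [hc]
    calc avg H0 n w * avg H0 n w' * (H0 ^ n * w * (H0 ^ n)⁻¹ * (H0 ^ n * w' * (H0 ^ n)⁻¹))
        = avg H0 n w * (avg H0 n w' * (H0 ^ n * w * (H0 ^ n)⁻¹)) * (H0 ^ n * w' * (H0 ^ n)⁻¹) := by
          simp only [mul_assoc]
      _ = avg H0 n w * ((H0 ^ n * w * (H0 ^ n)⁻¹) * avg H0 n w') * (H0 ^ n * w' * (H0 ^ n)⁻¹) := by
          rw [hcomm]
      _ = avg H0 n w * (H0 ^ n * w * (H0 ^ n)⁻¹) * (avg H0 n w' * (H0 ^ n * w' * (H0 ^ n)⁻¹)) := by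
          simp only [mul_assoc]

/-- E4 as a core: `hD4` is the statement of D4 `U2_abelian` (for this `σ`). -/
theorem rsme4_h23_core (RU : ReeU G K m) (H0 : Γ) (hH0 : σ H0 = RU.h0)
    (hD4 : ∀ g g' : Γ, RU.InU2 (σ g) → RU.InU2 (σ g') → g * g' = g' * g) (w w' : Γ)
    (hw : RU.InU2 (σ w)) (hw' : RU.InU2 (σ w')) :
    proj H0 m (w * w') = proj H0 m w * proj H0 m w' := by
  unfold proj
  rw [rsme4_h23_avg_mul RU H0 hH0 hD4 _ w w' hw hw', mul_inv_rev]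
  have hcomm := hD4 _ _ (rsme4_h23_avg_mem RU H0 hH0 (3 ^ (2 * m + 1) - 1) w hw)
    (rsme4_h23_avg_mem RU H0 hH0 (3 ^ (2 * m + 1) - 1) w' hw')
  rw [← mul_inv_rev, ← mul_inv_rev, hcomm]

end Cfsg.Agent.Lib.helper8.RSM
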