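import Cfsg.Agent.Lib.helper23.RULCensus

set_option autoImplicit false

/-!
# The mask theorem from its kernel-checked certificates
-/

namespace Cfsg.Agent.Lib.helper23

/-- a certificate record for an odd set of weight 16: the set, the range `lo ≤ i < lo + cnt` of
the minimal vectors with this support, and the tests (lists of indices to be combined) -/
abbrev RulRec : Type := ℕ × ℕ × ℕ × List (List ℕ)

/-- the seven slot words -/
def rulSlots : List ℕ := [255, 65280, 16711680, 4278190080, 1095216660480, 280375465082880,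
  71776119061217280]

/-- the predicate of the census: zero, a slot word, or the set of a record -/
def rulCensusP (recs : List (List RulRec)) (c : ℕ) : Bool :=
  cond (Nat.beq c 0) true
    (cond (rulAnyL rulSlots (fun s => Nat.beq s c)) true
      (rulAnyL recs (fun ch => rulAnyL ch (fun r => Nat.beq r.1 c))))

/-- check of a record -/
def rulChkRec (r : RulRec) : Bool :=
  Nat.beq (rulWtF r.1) 16 && (Nat.ble (Nat.add r.2.1 r.2.2.1) 16128 && (rulIdxOk r.2.2.2 &&
    rulDfs r.1 0 0
      (fun n => rulAnyR r.2.1 r.2.2.1 (fun i => Nat.beq (rulS i) r.1 && Nat.beq (rulN i) n))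
      (rulMkBk (rulEqsOf r.1 r.1 r.2.2.2)) 0 0 0))

/-- check of the case of an empty odd set (four entries `±2`): a range of prefixes -/
def rulChk0 (tests : List (List ℕ)) (k0 lo cnt : ℕ) : Bool :=
  rulDfsPre 72057594037927935 72057594037927935 4 (fun z => cond (Nat.beq (rulWtF z) 4) false true)
    (rulEqsOf 72057594037927935 0 tests) k0 lo cnt

/-- check of the case of a slot word (eight entries `±1`, two entries `±2`): a range of prefixes -/
def rulChk8 (c : ℕ) (tests : List (List ℕ)) (k0 lo cnt : ℕ) : Bool :=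
  rulDfsPre 72057594037927935 (Nat.xor 72057594037927935 c) 2
    (fun u => cond (Nat.beq (rulWtF (Nat.land u (Nat.xor 72057594037927935 c))) 2) false true)
    (rulEqsOf 72057594037927935 c tests) k0 lo cnt

theorem rul_or_lt {a b : ℕ} (ha : a < 2 ^ 56) (hb : b < 2 ^ 56) : a ||| b < 2 ^ 56 :=
  Nat.or_lt_two_pow ha hb

/-- case of the empty odd set -/
theorem rul_case0 {n z : ℕ} (hz : z < 2 ^ 56) (hwz : rulWt z = 4) (hsat : rulSat 0 n z)
    (tests : List (List ℕ)) (hidx : rulIdxOk tests = true) (k0 : ℕ) (hk0 : k0 ≤ 56)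
    (hchk : rulChk0 tests k0 0 (2 ^ k0) = true) : False := by
  have hcz : (0 : ℕ) &&& z = 0 := Nat.zero_and z
  have hu : (n &&& 0) ||| z = z := by rw [Nat.and_zero, Nat.zero_or]
  have heq := rulEqsOf_holds (R := 72057594037927935) hcz hsat
    (by rw [hu]; exact rul_and_full hz) tests hidx
  rw [hu] at heq
  have hP := rulSolvePre_sound hk0 hchk hz (fun j hj => rul_testBit_full hz hj)
    (by rw [rul_and_full hz, hwz]) heq
  rw [rulWtF_eq hz, hwz] at hP
  exact absurd hP (by decide)

/-- case of a slot word -/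
theorem rul_case8 {c n z : ℕ} (hc : c < 2 ^ 56) (hz : z < 2 ^ 56) (hcz : c &&& z = 0)
    (hwz : rulWt z = 2) (hsat : rulSat c n z)
    (tests : List (List ℕ)) (hidx : rulIdxOk tests = true) (k0 : ℕ) (hk0 : k0 ≤ 56)
    (hchk : rulChk8 c tests k0 0 (2 ^ k0) = true) : False := by
  have hu : (n &&& c) ||| z < 2 ^ 56 := rul_or_lt (rul_and_lt_right _ hc) hz
  have heq := rulEqsOf_holds (R := 72057594037927935) hcz hsat (rul_and_full hu) tests hidx
  have hW : ((n &&& c) ||| z) &&& (72057594037927935 ^^^ c) = z := by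
    apply Nat.eq_of_testBit_eq
    intro j
    have hj : (c &&& z).testBit j = false := by rw [hcz]; exact Nat.zero_testBit j
    rw [Nat.testBit_and] at hj
    simp only [Nat.testBit_and, Nat.testBit_or, Nat.testBit_xor]
    cases hcj : c.testBit j with
    | true =>
      rw [hcj] at hj
      simp only [Bool.true_and] at hj
      rw [hj, rul_testBit_full hc hcj]
      cases n.testBit j <;> rfl
    | false =>
      cases hzj : z.testBit j with
      | false => cases n.testBit j <;> cases (72057594037927935 : ℕ).testBit j <;> rfl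
      | true =>
        rw [rul_testBit_full hz hzj]
        cases n.testBit j <;> rfl
  have hP := rulSolvePre_sound hk0 hchk hu (fun j hj => rul_testBit_full hu hj)
    (by
      show rulWt (((n &&& c) ||| z) &&& (72057594037927935 ^^^ c)) ≤ 2
      rw [hW, hwz]) heq
  have hW' : Nat.land ((n &&& c) ||| z) (Nat.xor 72057594037927935 c) = z := hW
  simp only [hW', rulWtF_eq hz, hwz] at hP
  exact absurd hP (by decide)

/-- case of a record -/
theorem rul_case16 {n : ℕ} (r : RulRec) (hc : r.1 < 2 ^ 56) (hn : n &&& r.1 = n)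
    (hsat : rulSat r.1 n 0) (hchk : rulChkRec r = true) :
    ∃ i < 16128, rulS i = r.1 ∧ rulN i = n := by
  unfold rulChkRec at hchk
  simp only [Bool.and_eq_true] at hchk
  obtain ⟨_, hle, hidx, hdfs⟩ := hchk
  have hcz : r.1 &&& 0 = 0 := Nat.and_zero _
  have hu : (n &&& r.1) ||| 0 = n := by rw [Nat.or_zero, hn]
  have hnlt : n < 2 ^ 56 := by rw [← hn]; exact rul_and_lt_right _ hc
  have heq := rulEqsOf_holds (R := r.1) hcz hsat (by rw [hu]; exact hn) r.2.2.2 hidx
  rw [hu] at heq
  have hP := rulSolve_sound hdfs hnlt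
    (fun j hj => by
      rw [← hn, Nat.testBit_and] at hj
      simp only [Bool.and_eq_true] at hj
      exact hj.2)
    (by rw [Nat.and_zero, rulWt_zero]) heq
  rw [rulAnyR_iff] at hP
  obtain ⟨k, hk, hk2⟩ := hP
  simp only [Bool.and_eq_true] at hk2
  have hle' : r.2.1 + r.2.2.1 ≤ 16128 := Nat.ble_eq.mp hle
  exact ⟨r.2.1 + k, by omega, Nat.eq_of_beq_eq_true hk2.1, Nat.eq_of_beq_eq_true hk2.2⟩

theorem rulSlots_wt : ∀ s ∈ rulSlots, rulWtF s = 8 ∧ s < 2 ^ 56 := by decide

/-- the mask theorem from its certificates -/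
theorem rul_masks_of {c n z : ℕ} (hc : c < 2 ^ 56) (hz : z < 2 ^ 56)
    (hcz : c &&& z = 0) (hn : n &&& (c ||| z) = n) (hw : rulWt c + 4 * rulWt z = 16)
    (hsat : rulSat c n z)
    (tors : List (List (ℕ × ℕ))) (htor : pgAllL tors rulTorOk = true)
    (recs : List (List RulRec)) (kc : ℕ) (hkc : kc ≤ 56)
    (hcen : rulDfsPre 72057594037927935 72057594037927935 16 (rulCensusP recs) (rulTorEqs tors)
      kc 0 (2 ^ kc) = true)
    (hrecs : ∀ ch ∈ recs, pgAllL ch rulChkRec = true)
    (t0 : List (List ℕ)) (ht0 : rulIdxOk t0 = true) (k0 : ℕ) (hk0 : k0 ≤ 56)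
    (h0 : rulChk0 t0 k0 0 (2 ^ k0) = true)
    (t8 : ℕ → List (List ℕ)) (k8 : ℕ) (hk8 : k8 ≤ 56)
    (h8 : ∀ s ∈ rulSlots, rulIdxOk (t8 s) = true ∧ rulChk8 s (t8 s) k8 0 (2 ^ k8) = true) :
    z = 0 ∧ ∃ i < 16128, rulS i = c ∧ rulN i = n := by
  have hP := rul_census hc hcz (by omega) hsat tors htor (rulCensusP recs) kc hkc hcen
  unfold rulCensusP at hP
  cases hc0 : Nat.beq c 0 with
  | true =>
    exfalso
    have hc0' : c = 0 := Nat.eq_of_beq_eq_true hc0
    subst hc0'
    rw [rulWt_zero] at hw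
    exact rul_case0 hz (by omega) hsat t0 ht0 k0 hk0 h0
  | false =>
    rw [hc0] at hP
    simp only [cond_false] at hP
    cases hsl : rulAnyL rulSlots (fun s => Nat.beq s c) with
    | true =>
      exfalso
      rw [rulAnyL_iff] at hsl
      obtain ⟨s, hs, hsc⟩ := hsl
      have hsc' : s = c := Nat.eq_of_beq_eq_true hsc
      subst hsc'
      have hw8 := (rulSlots_wt s hs).1
      rw [rulWtF_eq hc] at hw8
      obtain ⟨hi8, hc8⟩ := h8 s hs
      exact rul_case8 hc hz hcz (by omega) hsat (t8 s) hi8 k8 hk8 hc8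
    | false =>
      rw [hsl] at hP
      simp only [cond_false] at hP
      rw [rulAnyL_iff] at hP
      obtain ⟨ch, hch, hP2⟩ := hP
      rw [rulAnyL_iff] at hP2
      obtain ⟨r, hr, hrc⟩ := hP2
      have hrc' : r.1 = c := Nat.eq_of_beq_eq_true hrc
      have hchk : rulChkRec r = true := (pgAllL_iff _ _).1 (hrecs ch hch) r hr
      have hw16 : rulWt c = 16 := by
        have h1 := hchk
        unfold rulChkRec at h1
        simp only [Bool.and_eq_true] at h1
        have h2 := Nat.eq_of_beq_eq_true h1.1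
        rw [hrc', rulWtF_eq hc] at h2
        exact h2
      have hz0 : z = 0 := rulWt_eq_zero hz (by omega)
      subst hz0
      rw [Nat.or_zero] at hn
      subst hrc'
      exact ⟨rfl, rul_case16 r hc hn hsat hchk⟩

end Cfsg.Agent.Lib.helper23
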