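import Cfsg.Agent.Lib.helper23.RULEqs

set_option autoImplicit false

/-!
# Combined parity equations and the case theorems of the census of minimal vectors
-/

namespace Cfsg.Agent.Lib.helper23

/-- kernel friendly existential quantifier over a list -/
def rulAnyL {α : Type} (l : List α) (p : α → Bool) : Bool :=
  @List.rec α (fun _ => Bool) false (fun a _ ih => cond (p a) true ih) l

theorem rulAnyL_iff {α : Type} (l : List α) (p : α → Bool) :
    rulAnyL l p = true ↔ ∃ a ∈ l, p a = true := by
  induction l with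
  | nil => simp [rulAnyL]
  | cons a l ih =>
    have e : rulAnyL (a :: l) p = cond (p a) true (rulAnyL l p) := rfl
    rw [e]
    cases hp : p a with
    | true => simp [hp]
    | false => simp [hp, ih]

/-- kernel friendly existential quantifier over a range `lo ≤ i < lo + cnt` -/
def rulAnyR (lo cnt : ℕ) (p : ℕ → Bool) : Bool :=
  @Nat.rec (fun _ => Bool) false (fun k ih => cond (p (Nat.add lo k)) true ih) cnt

theorem rulAnyR_iff (lo cnt : ℕ) (p : ℕ → Bool) :
    rulAnyR lo cnt p = true ↔ ∃ k < cnt, p (lo + k) = true := by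
  induction cnt with
  | zero => simp [rulAnyR]
  | succ m ih =>
    have e : rulAnyR lo (m + 1) p = cond (p (lo + m)) true (rulAnyR lo m p) := rfl
    rw [e]
    cases hp : p (lo + m) with
    | true =>
      simp only [cond_true, true_iff]
      exact ⟨m, Nat.lt_succ_self m, hp⟩
    | false =>
      simp only [cond_false, ih]
      constructor
      · rintro ⟨k, hk, h⟩
        exact ⟨k, Nat.lt_succ_of_lt hk, h⟩
      · rintro ⟨k, hk, h⟩
        rcases Nat.lt_succ_iff_lt_or_eq.mp hk with h1 | h1
        · exact ⟨k, h1, h⟩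
        · rw [h1, hp] at h
          exact absurd h (by simp)

/-- the combined equation of a list of minimal vectors: xor of the supports, xor of the right
hand sides -/
def rulEqOf (c : ℕ) (idxs : List ℕ) : ℕ × Bool :=
  @List.rec ℕ (fun _ => ℕ × Bool) (0, false)
    (fun i _ ih => (Nat.xor (rulS i) ih.1, rulXor (rulGam c i) ih.2)) idxs

theorem rulEqOf_cons (c i : ℕ) (l : List ℕ) :
    rulEqOf c (i :: l) = (rulS i ^^^ (rulEqOf c l).1, rulXor (rulGam c i) (rulEqOf c l).2) := rfl

theorem rulEqOf_lt (c : ℕ) (idxs : List ℕ) : (rulEqOf c idxs).1 < 2 ^ 56 := by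
  induction idxs with
  | nil => show 0 < 2 ^ 56; norm_num
  | cons i l ih =>
    rw [rulEqOf_cons]
    exact Nat.xor_lt_two_pow (rulS_lt i) ih

theorem rul_and_xor_distrib (a b u : ℕ) : (a ^^^ b) &&& u = (a &&& u) ^^^ (b &&& u) := by
  apply Nat.eq_of_testBit_eq
  intro j
  simp only [Nat.testBit_and, Nat.testBit_xor]
  cases a.testBit j <;> cases b.testBit j <;> cases u.testBit j <;> rfl

theorem rulPar_zero : rulPar 0 = false := by decide

/-- the combined equation holds for the unknown `(n &&& c) ||| z` -/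
theorem rulEqOf_holds {c n z : ℕ} (hcz : c &&& z = 0) (hsat : rulSat c n z) (idxs : List ℕ)
    (hi : ∀ i ∈ idxs, i < 16128) :
    rulPar ((rulEqOf c idxs).1 &&& ((n &&& c) ||| z)) = (rulEqOf c idxs).2 := by
  induction idxs with
  | nil =>
    show rulPar (0 &&& _) = false
    rw [Nat.zero_and]
    exact rulPar_zero
  | cons i l ih =>
    rw [rulEqOf_cons]
    simp only
    rw [rul_and_xor_distrib, rulPar_xor (rul_and_lt_left _ (rulS_lt i))
      (rul_and_lt_left _ (rulEqOf_lt c l)), rulXor_eq,
      (rul_basic hcz (hi i (List.mem_cons_self ..)) hsat).2,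
      ih (fun j hj => hi j (List.mem_cons_of_mem _ hj))]

/-- the equations of a list of index lists, masks restricted to `R` -/
def rulEqsOf (R c : ℕ) (tests : List (List ℕ)) : List (ℕ × Bool) :=
  @List.rec (List ℕ) (fun _ => List (ℕ × Bool)) []
    (fun t _ ih => pgForce (Nat.land (rulEqOf c t).1 R) (fun M => (M, (rulEqOf c t).2) :: ih)) tests

theorem rulEqsOf_cons (R c : ℕ) (t : List ℕ) (ts : List (List ℕ)) :
    rulEqsOf R c (t :: ts) = ((rulEqOf c t).1 &&& R, (rulEqOf c t).2) :: rulEqsOf R c ts := by
  show pgForce (Nat.land (rulEqOf c t).1 R) (fun M => (M, (rulEqOf c t).2) :: rulEqsOf R c ts) = _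
  rw [pgForce_eq]
  rfl

/-- all indices of all tests are in range -/
def rulIdxOk (tests : List (List ℕ)) : Bool :=
  pgAllL tests (fun t => pgAllL t (fun i => Nat.blt i 16128))

theorem rulIdxOk_iff (tests : List (List ℕ)) :
    rulIdxOk tests = true ↔ ∀ t ∈ tests, ∀ i ∈ t, i < 16128 := by
  unfold rulIdxOk
  rw [pgAllL_iff]
  constructor
  · intro h t ht i hi
    have := (pgAllL_iff _ _).1 (h t ht) i hi
    exact Nat.blt_eq.mp this
  · intro h t ht
    rw [pgAllL_iff]
    intro i hi
    exact Nat.blt_eq.mpr (h t ht i hi)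

theorem rulEqsOf_holds {R c n z : ℕ} (hcz : c &&& z = 0) (hsat : rulSat c n z)
    (hR : ((n &&& c) ||| z) &&& R = (n &&& c) ||| z) (tests : List (List ℕ))
    (hok : rulIdxOk tests = true) :
    ∀ e ∈ rulEqsOf R c tests, rulPar (e.1 &&& ((n &&& c) ||| z)) = e.2 := by
  rw [rulIdxOk_iff] at hok
  induction tests with
  | nil => intro e he; exact absurd he (by simp [rulEqsOf])
  | cons t ts ih =>
    intro e he
    rw [rulEqsOf_cons, List.mem_cons] at he
    rcases he with rfl | he
    · simp only
      rw [Nat.and_assoc, Nat.and_comm R, hR]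
      exact rulEqOf_holds hcz hsat t (hok t (List.mem_cons_self ..))
    · exact ih (fun t' ht' => hok t' (List.mem_cons_of_mem _ ht')) e he

end Cfsg.Agent.Lib.helper23
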