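import Cfsg.Agent.Lib.helper23.RULAsm

set_option autoImplicit false

/-!
# Certificates: torsion pairs, tests for the empty odd set and for the slot words
-/

namespace Cfsg.Agent.Lib.helper23

/-- the torsion equations: lists of pairs of minimal vectors with equal supports -/
def rulTors : List (List (ℕ × ℕ)) := [
  [(0, 2), (32, 34)],
  [(64, 66), (256, 264), (288, 289), (288, 296)],
  [(0, 2), (0, 4), (64, 68), (256, 257), (256, 260), (288, 292)],
  [(0, 4), (0, 8), (64, 66), (64, 68), (64, 72), (288, 289)],
  [(0, 2), (0, 4), (0, 8), (64, 68), (64, 72), (256, 257)],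
  [(0, 4), (0, 8), (32, 36), (32, 40)],
  [(0, 4), (32, 36)],
  [(0, 1)],
  [(32, 33)],
  [(0, 2), (0, 8), (64, 72), (1280, 1281)],
  [(768, 769), (2816, 2817)],
  [(0, 4), (64, 68)],
  [(0, 2), (0, 8), (64, 72), (768, 769)],
  [(0, 8), (64, 72)],
  [(0, 2)],
  [(64, 66)],
  [(0, 4), (0, 8), (0, 16), (768, 770)],
  [(0, 4)],
  [(128, 132)],
  [(0, 8)],
  [(128, 136)],
  [(0, 16)],
  [(128, 144)],
  [(256, 260), (384, 388)],
  [(256, 260)],
  [(512, 516)],
  [(256, 264)],
  [(384, 392)],
  [(256, 272)],
  [(512, 528)],
  [(768, 776), (1280, 1288)],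
  [(768, 776)],
  [(1792, 1800)],
  [(2816, 2824)],
  [(4864, 4872)],
  [(6912, 6920)],
  [(11520, 11528)]]

/-- tests for the empty odd set -/
def rulT0 : List (List ℕ) := [[32, 64, 768, 784, 800, 816], [0, 64, 256, 288], [0, 32], [0, 64], [768, 784], [768, 800], [0], [128], [256, 384, 768, 896], [256, 384], [256], [512], [768, 1280], [768], [1792], [2816], [4864], [6912], [11520]]

/-- tests for the slot word 0 -/
def rulT8x0 : List (List ℕ) := [[32, 64, 768, 784, 800, 816], [0, 64, 256, 288], [0, 32], [0, 64], [768, 784], [768, 800], [0], [128], [256, 384, 768, 896], [256, 384], [256], [512], [768, 1280], [768], [1792], [2816], [4864], [6912], [11520]]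

/-- tests for the slot word 1 -/
def rulT8x1 : List (List ℕ) := [[32, 64, 768, 784, 800, 816], [0, 64, 256, 288], [0, 32], [0, 64], [768, 784], [768, 800], [0], [128], [256, 384, 768, 896], [256, 384], [256], [512], [768, 1280], [768], [1792], [2816], [4864], [6912], [11520]]

/-- tests for the slot word 2 -/
def rulT8x2 : List (List ℕ) := [[32, 64, 768, 784, 800, 816], [0, 64, 256, 288], [0, 32], [0, 64], [768, 784], [768, 800], [0], [128], [256, 384, 768, 896], [256, 384], [256], [512], [768, 1280], [768], [1792], [2816], [4864], [6912], [11520]]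

/-- tests for the slot word 3 -/
def rulT8x3 : List (List ℕ) := [[32, 64, 768, 784, 800, 816], [0, 64, 256, 288], [0, 32], [0, 64], [768, 784], [768, 800], [0], [128], [256, 384, 768, 896], [256, 384], [256], [512], [768, 1280], [768], [1792], [2816], [4864], [6912], [11520]]

/-- tests for the slot word 4 -/
def rulT8x4 : List (List ℕ) := [[32, 64, 768, 784, 800, 816], [0, 64, 256, 288], [0, 32], [0, 64], [768, 784], [768, 800], [0], [128], [256, 384, 768, 896], [256, 384], [256], [512], [768, 1280], [768], [1792], [2816], [4864], [6912], [11520]]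

/-- tests for the slot word 5 -/
def rulT8x5 : List (List ℕ) := [[32, 64, 768, 784, 800, 816], [0, 64, 256, 288], [0, 32], [0, 64], [768, 784], [768, 800], [0], [128], [256, 384, 768, 896], [256, 384], [256], [512], [768, 1280], [768], [1792], [2816], [4864], [6912], [11520]]

/-- tests for the slot word 6 -/
def rulT8x6 : List (List ℕ) := [[32, 64, 768, 784, 800, 816], [0, 64, 256, 288], [0, 32], [0, 64], [768, 784], [768, 800], [0], [128], [256, 384, 768, 896], [256, 384], [256], [512], [768, 1280], [768], [1792], [2816], [4864], [6912], [11520]]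

/-- tests for a slot word -/
def rulT8 : ℕ → List (List ℕ) := fun s =>
  cond (Nat.beq s 255) rulT8x0 (
  cond (Nat.beq s 65280) rulT8x1 (
  cond (Nat.beq s 16711680) rulT8x2 (
  cond (Nat.beq s 4278190080) rulT8x3 (
  cond (Nat.beq s 1095216660480) rulT8x4 (
  cond (Nat.beq s 280375465082880) rulT8x5 (
  rulT8x6))))))

set_option maxRecDepth 100000 in
theorem rulTors_ok : pgAllL rulTors rulTorOk = true := by decide +kernel

set_option maxRecDepth 100000 in
theorem rulT0_ok : rulIdxOk rulT0 = true := by decide +kernel

set_option maxRecDepth 100000 in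
theorem rulT8_ok : ∀ s ∈ rulSlots, rulIdxOk (rulT8 s) = true := by decide +kernel

end Cfsg.Agent.Lib.helper23
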