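import Cfsg.Agent.Lib.helper23.RULDfs

set_option autoImplicit false

/-!
# Buckets of parity equations by their highest bit, and the search from the empty mask
-/

namespace Cfsg.Agent.Lib.helper23

/-- the equations whose mask has highest bit `k` -/
def rulBkOf (eqs : List (ℕ × Bool)) (k : ℕ) : List (ℕ × Bool) :=
  @List.rec (ℕ × Bool) (fun _ => List (ℕ × Bool)) []
    (fun e _ ih => cond (Nat.beq (Nat.log2 e.1) k) (e :: ih) ih) eqs

theorem rulBkOf_mem {eqs : List (ℕ × Bool)} {k : ℕ} {e : ℕ × Bool} (h : e ∈ rulBkOf eqs k) :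
    e ∈ eqs ∧ Nat.log2 e.1 = k := by
  induction eqs with
  | nil => exact absurd h (by simp [rulBkOf])
  | cons a l ih =>
    have e1 : rulBkOf (a :: l) k = cond (Nat.beq (Nat.log2 a.1) k) (a :: rulBkOf l k) (rulBkOf l k) :=
      rfl
    rw [e1] at h
    cases hb : Nat.beq (Nat.log2 a.1) k with
    | true =>
      rw [hb] at h
      simp only [cond_true, List.mem_cons] at h
      rcases h with rfl | h
      · exact ⟨List.mem_cons_self .., Nat.eq_of_beq_eq_true hb⟩
      · exact ⟨List.mem_cons_of_mem _ (ih h).1, (ih h).2⟩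
    | false =>
      rw [hb] at h
      simp only [cond_false] at h
      exact ⟨List.mem_cons_of_mem _ (ih h).1, (ih h).2⟩

/-- the buckets for the positions `k, k + 1, …, k + fuel - 1` -/
def rulMkBkAux (eqs : List (ℕ × Bool)) (fuel : ℕ) : ℕ → List (List (ℕ × Bool)) :=
  @Nat.rec (fun _ => ℕ → List (List (ℕ × Bool))) (fun _ => [])
    (fun _ ih k => rulBkOf eqs k :: ih (Nat.succ k)) fuel

theorem rulMkBkAux_length (eqs : List (ℕ × Bool)) (fuel k : ℕ) :
    (rulMkBkAux eqs fuel k).length = fuel := by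
  induction fuel generalizing k with
  | zero => rfl
  | succ f ih =>
    have e1 : rulMkBkAux eqs (f + 1) k = rulBkOf eqs k :: rulMkBkAux eqs f (k + 1) := rfl
    rw [e1, List.length_cons, ih]

theorem rulMkBkAux_get (eqs : List (ℕ × Bool)) (fuel k j : ℕ)
    (hj : j < (rulMkBkAux eqs fuel k).length) :
    (rulMkBkAux eqs fuel k)[j] = rulBkOf eqs (k + j) := by
  induction fuel generalizing k j with
  | zero => exact absurd hj (by simp [rulMkBkAux_length])
  | succ f ih =>
    have e1 : rulMkBkAux eqs (f + 1) k = rulBkOf eqs k :: rulMkBkAux eqs f (k + 1) := rfl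
    cases j with
    | zero => simp [e1]
    | succ j =>
      simp only [e1, List.getElem_cons_succ]
      rw [ih]
      congr 1
      omega

/-- the buckets for the positions `0, …, 55` -/
def rulMkBk (eqs : List (ℕ × Bool)) : List (List (ℕ × Bool)) := rulMkBkAux eqs 56 0

/-- search from the empty mask: every `u < 2 ^ 56` inside `A`, with at most `B` bits inside `W`,
satisfying all the parity equations, satisfies `P` -/
theorem rulSolve_sound {A W B : ℕ} {P : ℕ → Bool} {eqs : List (ℕ × Bool)}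
    (hok : rulDfs A W B P (rulMkBk eqs) 0 0 0 = true) {u : ℕ} (hu : u < 2 ^ 56)
    (hA : ∀ j, u.testBit j = true → A.testBit j = true) (hB : rulWt (u &&& W) ≤ B)
    (heq : ∀ e ∈ eqs, rulPar (e.1 &&& u) = e.2) : P u = true := by
  have hlen : (rulMkBk eqs).length = 56 := rulMkBkAux_length eqs 56 0
  refine rulDfs_sound (rulMkBk eqs) 0 0 u ?_ (Nat.zero_le _) ?_ ?_ hA hB ?_ ?_
  · have h1 : u % 2 ^ 0 = 0 := by simp [Nat.mod_one]
    rw [h1]; exact hok
  · rw [hlen]; exact hu
  · rw [hlen]
  · intro j hj e he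
    have h1 : (rulMkBk eqs)[j] = rulBkOf eqs (0 + j) := rulMkBkAux_get eqs 56 0 j hj
    rw [h1] at he
    have h2 := (rulBkOf_mem he).2
    have h3 : e.1 < 2 ^ (Nat.log2 e.1 + 1) := Nat.lt_log2_self
    rw [h2] at h3
    exact h3
  · intro b hb e he
    obtain ⟨j, hj, rfl⟩ := List.getElem_of_mem hb
    have h1 : (rulMkBk eqs)[j] = rulBkOf eqs (0 + j) := rulMkBkAux_get eqs 56 0 j hj
    rw [h1] at he
    exact heq e (rulBkOf_mem he).1

end Cfsg.Agent.Lib.helper23
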