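import Cfsg.Agent.Lib.helper23.RuData

set_option autoImplicit false
set_option maxRecDepth 1000000

namespace Cfsg.Agent.Lib.helper23

theorem rucl1x0c0 : pgChkGenW 4060 rubase ruL1 [ruL2, ruL3, ruL4, ruL5]
    (rugen ruT1x0 ruI1x0) 0 100 = true := by decide +kernel

theorem rucl1x0c100 : pgChkGenW 4060 rubase ruL1 [ruL2, ruL3, ruL4, ruL5]
    (rugen ruT1x0 ruI1x0) 100 100 = true := by decide +kernel

theorem rucl1x0c200 : pgChkGenW 4060 rubase ruL1 [ruL2, ruL3, ruL4, ruL5]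
    (rugen ruT1x0 ruI1x0) 200 100 = true := by decide +kernel

theorem rucl1x0c300 : pgChkGenW 4060 rubase ruL1 [ruL2, ruL3, ruL4, ruL5]
    (rugen ruT1x0 ruI1x0) 300 100 = true := by decide +kernel

theorem rucl1x0c400 : pgChkGenW 4060 rubase ruL1 [ruL2, ruL3, ruL4, ruL5]
    (rugen ruT1x0 ruI1x0) 400 100 = true := by decide +kernel

theorem rucl1x0c500 : pgChkGenW 4060 rubase ruL1 [ruL2, ruL3, ruL4, ruL5]
    (rugen ruT1x0 ruI1x0) 500 100 = true := by decide +kernel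

theorem rucl1x0c600 : pgChkGenW 4060 rubase ruL1 [ruL2, ruL3, ruL4, ruL5]
    (rugen ruT1x0 ruI1x0) 600 100 = true := by decide +kernel

theorem rucl1x0c700 : pgChkGenW 4060 rubase ruL1 [ruL2, ruL3, ruL4, ruL5]
    (rugen ruT1x0 ruI1x0) 700 100 = true := by decide +kernel

theorem rucl1x0c800 : pgChkGenW 4060 rubase ruL1 [ruL2, ruL3, ruL4, ruL5]
    (rugen ruT1x0 ruI1x0) 800 100 = true := by decide +kernel

theorem rucl1x0c900 : pgChkGenW 4060 rubase ruL1 [ruL2, ruL3, ruL4, ruL5]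
    (rugen ruT1x0 ruI1x0) 900 100 = true := by decide +kernel

theorem rucl1x0c1000 : pgChkGenW 4060 rubase ruL1 [ruL2, ruL3, ruL4, ruL5]
    (rugen ruT1x0 ruI1x0) 1000 100 = true := by decide +kernel


end Cfsg.Agent.Lib.helper23
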