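import Cfsg.Agent.Lib.helper23.RuData

set_option autoImplicit false
set_option maxRecDepth 1000000

namespace Cfsg.Agent.Lib.helper23

theorem rucl2x0c0 : pgChkGenW 4060 rubase ruL2 [ruL3, ruL4, ruL5]
    (rugen ruT2x0 ruI2x0) 0 175 = true := by decide +kernel

theorem rucl2x0c175 : pgChkGenW 4060 rubase ruL2 [ruL3, ruL4, ruL5]
    (rugen ruT2x0 ruI2x0) 175 175 = true := by decide +kernel

theorem rucl2x0c350 : pgChkGenW 4060 rubase ruL2 [ruL3, ruL4, ruL5]
    (rugen ruT2x0 ruI2x0) 350 175 = true := by decide +kernel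

theorem rucl2x0c525 : pgChkGenW 4060 rubase ruL2 [ruL3, ruL4, ruL5]
    (rugen ruT2x0 ruI2x0) 525 175 = true := by decide +kernel

theorem rucl2x0c700 : pgChkGenW 4060 rubase ruL2 [ruL3, ruL4, ruL5]
    (rugen ruT2x0 ruI2x0) 700 175 = true := by decide +kernel

theorem rucl2x0c875 : pgChkGenW 4060 rubase ruL2 [ruL3, ruL4, ruL5]
    (rugen ruT2x0 ruI2x0) 875 175 = true := by decide +kernel

theorem rucl2x0c1050 : pgChkGenW 4060 rubase ruL2 [ruL3, ruL4, ruL5]
    (rugen ruT2x0 ruI2x0) 1050 175 = true := by decide +kernel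

theorem rucl2x0c1225 : pgChkGenW 4060 rubase ruL2 [ruL3, ruL4, ruL5]
    (rugen ruT2x0 ruI2x0) 1225 175 = true := by decide +kernel


end Cfsg.Agent.Lib.helper23
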