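import Cfsg.Agent.Lib.helper23.RuData

set_option autoImplicit false
set_option maxRecDepth 1000000

namespace Cfsg.Agent.Lib.helper23

theorem rucl3x0c0 : pgChkGenW 4060 rubase ruL3 [ruL4, ruL5]
    (rugen ruT3x0 ruI3x0) 0 600 = true := by decide +kernel

theorem rucl3x0c600 : pgChkGenW 4060 rubase ruL3 [ruL4, ruL5]
    (rugen ruT3x0 ruI3x0) 600 600 = true := by decide +kernel

theorem rucl3x0c1200 : pgChkGenW 4060 rubase ruL3 [ruL4, ruL5]
    (rugen ruT3x0 ruI3x0) 1200 600 = true := by decide +kernel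

theorem rucl3x0c1800 : pgChkGenW 4060 rubase ruL3 [ruL4, ruL5]
    (rugen ruT3x0 ruI3x0) 1800 600 = true := by decide +kernel

theorem rucl3x0c2400 : pgChkGenW 4060 rubase ruL3 [ruL4, ruL5]
    (rugen ruT3x0 ruI3x0) 2400 600 = true := by decide +kernel

theorem rucl3x0c3000 : pgChkGenW 4060 rubase ruL3 [ruL4, ruL5]
    (rugen ruT3x0 ruI3x0) 3000 600 = true := by decide +kernel

theorem rucl3x0c3600 : pgChkGenW 4060 rubase ruL3 [ruL4, ruL5]
    (rugen ruT3x0 ruI3x0) 3600 460 = true := by decide +kernel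


end Cfsg.Agent.Lib.helper23
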