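import Mathlib
import Cfsg.Agent.Lib.helper3.S5953.Defs
import Cfsg.Agent.Lib.helper23.S5953U2

set_option autoImplicit false
set_option linter.unusedVariables false

/-!
# Project S5953 (designer helper3), row NS4 (`ns_val`) (helper23).
-/

namespace Cfsg.Agent.Lib.helper3.S5953

open Polynomial Module

/-- a generator of the norm-one group (of order `q + 1`). -/
theorem s5953ns4_gen {F : Type*} [Field F] [Fintype F] {q : ℕ} (hF : Fintype.card F = q ^ 2) :
    ∃ g : F, orderOf g = q + 1 := by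
  classical
  have hq2 := s5953u2_two_le_q hF
  obtain ⟨γ, hγ⟩ := IsCyclic.exists_generator (α := Fˣ)
  have hord : orderOf γ = q ^ 2 - 1 := by
    rw [orderOf_eq_card_of_forall_mem_zpowers hγ, Nat.card_eq_fintype_card, Fintype.card_units, hF]
  refine ⟨((γ ^ (q - 1) : Fˣ) : F), ?_⟩
  rw [orderOf_units, orderOf_pow' _ (by omega), hord]
  have h1 : q ^ 2 - 1 = (q + 1) * (q - 1) := by
    obtain ⟨s, rfl⟩ : ∃ s, q = s + 1 := ⟨q - 1, by omega⟩
    simp only [Nat.add_sub_cancel]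
    have : (s + 1) ^ 2 = (s + 1 + 1) * s + 1 := by ring
    rw [this, Nat.add_sub_cancel]
  rw [h1, Nat.gcd_eq_right (dvd_mul_left _ _), Nat.mul_div_cancel _ (by omega)]

/-- every norm-one element is a power of a generator. -/
theorem s5953ns4_mem {F : Type*} [Field F] {q : ℕ} {g : F} (hg : orderOf g = q + 1) (z : F)
    (hz : z ^ (q + 1) = 1) : ∃ k : ℕ, g ^ k = z := by
  have hprim : IsPrimitiveRoot g (q + 1) := by
    rw [← hg]
    exact IsPrimitiveRoot.orderOf g
  have : NeZero (q + 1) := ⟨by omega⟩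
  obtain ⟨k, -, hk⟩ := hprim.eq_pow_of_pow_eq_one hz
  exact ⟨k, hk⟩

/-- NS4 [M] NSVAL: a norm-one `z` with `z ^ (n / r) = 1` and `v_r(n) ≤ v_r(q + 1)` is an `r`-th
power of a norm-one element. -/
theorem ns_val {F : Type*} [Field F] [Fintype F] {q : ℕ} (hF : Fintype.card F = q ^ 2)
    (r n : ℕ) [Fact r.Prime] (hrq : r ∣ q + 1) (hrn : r ∣ n) (hn : 0 < n)
    (hval : padicValNat r n ≤ padicValNat r (q + 1)) (z : F) (hz : z ^ (q + 1) = 1)
    (hzn : z ^ (n / r) = 1) : ∃ w : F, w ^ (q + 1) = 1 ∧ w ^ r = z := by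
  have hrp : r.Prime := Fact.out
  obtain ⟨g, hg⟩ := s5953ns4_gen hF
  obtain ⟨k, rfl⟩ := s5953ns4_mem hg z hz
  have h1 : q + 1 ∣ k * (n / r) := by
    rw [← hg]
    apply orderOf_dvd_of_pow_eq_one
    rw [pow_mul]
    exact hzn
  have hrk : r ∣ k := by
    by_contra hnd
    have hcop : Nat.Coprime (r ^ padicValNat r (q + 1)) k :=
      Nat.Coprime.pow_left _ ((Nat.Prime.coprime_iff_not_dvd hrp).mpr hnd)
    have h2 : r ^ padicValNat r (q + 1) ∣ (n / r) * k := by
      rw [mul_comm]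
      exact (pow_padicValNat_dvd).trans h1
    have h3 : r ^ padicValNat r (q + 1) ∣ n / r := hcop.dvd_of_dvd_mul_right h2
    have h4 : r ^ (padicValNat r (q + 1) + 1) ∣ n := by
      rw [pow_succ, mul_comm, ← Nat.mul_div_cancel' hrn]
      exact Nat.mul_dvd_mul_left r h3
    have h5 := (padicValNat_dvd_iff_le (Nat.pos_iff_ne_zero.mp hn)).mp h4
    omega
  obtain ⟨t, rfl⟩ := hrk
  refine ⟨g ^ t, ?_, ?_⟩
  · rw [← pow_mul, mul_comm, pow_mul, ← hg, pow_orderOf_eq_one, one_pow]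
  · rw [← pow_mul, mul_comm]

end Cfsg.Agent.Lib.helper3.S5953
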