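import Mathlib
import Cfsg.Agent.Lib.Helper22.S6002.Defs
import Cfsg.Agent.Lib.Helper27.C6PEROOT

set_option autoImplicit false
set_option linter.unusedVariables false
set_option linter.unusedSectionVars false
open scoped MatrixGroups

/-!
# Project S6002 (designer helper22), row A2 (`cyc5_irr`, helper23) = helper27's C6P row E5IRR `irr_five`.
-/

namespace Cfsg.Agent.Lib.Helper22.S6002

variable {ι : Type} [Fintype ι] [DecidableEq ι] {F : Type*} [Field F]

/-- A2 [S-M]. -/
theorem cyc5_irr [Fintype F] {p : ℕ} [Fact p.Prime] [CharP F p] (hF : Fintype.card F = p)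
    (h : orderOf (p : ZMod 5) = 4) : Irreducible (Polynomial.cyclotomic 5 F) :=
  Cfsg.Agent.Lib.Helper10.C6P.irr_five hF h

end Cfsg.Agent.Lib.Helper22.S6002
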