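import Mathlib
import Cfsg.Agent.Lib.helper7.SAP.Defs
import Cfsg.Agent.Lib.helper23.SAPBASE5core
import Cfsg.Agent.Lib.Helper21.SAPBASE3
import Cfsg.Agent.Lib.Helper21.SAPBASE4
import Cfsg.Agent.Lib.helper4.SAPCAR3

/-!
# Project SAP (designer helper7), row BASE5 (`base_closure`, `base_card`), verbatim.
-/

set_option autoImplicit false

namespace Cfsg.Agent.Lib.helper7.SAP

open Equiv

universe u

section base
variable {p : ℕ} {G : Type u} [Group G]

/-- BASE5 [S-M] (BASE3, BASE4, CAR3) -/
theorem base_closure [Fact p.Prime] (hp : 3 ≤ p) (D : BaseHyp p G) :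
    Subgroup.closure ({D.a, D.z} : Set G) = Subgroup.closure (Set.range (zo D.a D.z : ZMod p → G)) := by
  have : NeZero p := ⟨(Fact.out : p.Prime).ne_zero⟩
  exact sapbase5_closure_core D.a D.z (base_a_mem hp D)

theorem base_card [Fact p.Prime] (D : BaseHyp p G) :
    Finite (Subgroup.closure (Set.range (zo D.a D.z : ZMod p → G))) ∧
    2 * Nat.card (Subgroup.closure (Set.range (zo D.a D.z : ZMod p → G))) ≤ (p + 2).factorial := by
  have : NeZero p := ⟨(Fact.out : p.Prime).ne_zero⟩
  exact sapbase5_card_core D.a D.z (base_carRel D) (fun h => car_card_le _ h)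

end base

end Cfsg.Agent.Lib.helper7.SAP
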