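import Mathlib
import Cfsg.Agent.Lib.Helper1.SLN.Defs
import Cfsg.Agent.Lib.Helper1.SLN.Defs2
import Cfsg.Agent.Lib.helper23.SL7A1core
import Cfsg.Agent.Lib.helper2.SL7Z3
import Cfsg.Agent.Lib.Helper5.SL7H5
import Cfsg.Agent.Lib.Helper16.SL7H6
import Cfsg.Agent.Lib.helper6.SL7Q1
import Cfsg.Agent.Lib.Helper1.SL7Q2
import Cfsg.Agent.Lib.Helper24.SL7TS4
import Cfsg.Agent.Lib.helper23.SL7MZ1

/-!
# Project SL7 (designer Helper1; S2283 / S2286), row A1 (`exists_glueset5`), verbatim from `Skel2.lean.txt` (helper23)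

The verbatim wrapper of `sl7a1_core` (`SL7A1core.lean`) with the landed rows Z3 `glue3_of_rels`, H5 `glue_of_two`, H6 `two_of_one`,
Q1 `exists_flip_gens`, Q2 `exists_yM`, TS4 `exists_nu`, MZ1 `alphaM_nu`.
-/

set_option autoImplicit false

namespace Cfsg.Agent.Lib.Helper1.SLN

open Matrix Equiv
open Cfsg.Agent.Lib.helper17.SLP

universe u v w

section A

variable {F : Type u} [Field F]

/-- A1 [M]  deps Z3 H5 H6 Q1 Q2 TS4 MZ1 MG6.  `ν x` (TS4), `y` (Q2), `a₁ a₂` (Q1); `S := {s₁, s₂, s₃, s₄}`. -/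
theorem exists_glueset5 [Fintype F] (M : ℕ) :
    ∃ S : Finset (Monoid.Coprod (alternatingGroup (Fin (M + 1 + 4))) (Matrix.SpecialLinearGroup (Fin 3) F)),
      S.card ≤ 4 ∧
      (∀ (G : Type) [Group G] (α : alternatingGroup (Fin (M + 1 + 4)) →* G)
        (β : Matrix.SpecialLinearGroup (Fin 3) F →* G), α (c3 (M + 1)) = β cM →
        (∀ s ∈ S, Monoid.Coprod.lift α β s = 1) → Glue (M + 1) α β) ∧
      ∀ s ∈ S, Monoid.Coprod.lift (alphaM (F := F) (n := M + 1 + 4)) (betaM (M + 1)) s = 1 :=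
  sl7a1_core M (exists_nu (M + 1) (by omega)) exists_yM exists_flip_gens
    (fun G _ α β h2c ν x hN y hy a₁ a₂ ha₁ ha₂ hcl r1 r2 r3 =>
      glue3_of_rels (M + 1) α β h2c ν x hN y hy a₁ a₂ ha₁ ha₂ hcl r1 r2 r3)
    (fun G _ α β H h5a => two_of_one M α β H h5a)
    (fun G _ α β H h5a h5b => glue_of_two (M + 1) α β H h5a h5b)
    (fun ν h0 h1 h2 A => alphaM_nu (M + 1) ν h0 h1 h2 A)

end A

end Cfsg.Agent.Lib.Helper1.SLN
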