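import Mathlib
import Cfsg.Agent.Lib.Helper1.SLN.Defs
import Cfsg.Agent.Lib.helper23.SL7F2core
import Cfsg.Agent.Lib.Helper11.SLNMG6

/-!
# Project SLN / SL7 (designer helper1), row F2 (`glueList_model`), VERBATIM (helper23).

The core `slnf2_core` at the model pair `alphaM`, `betaM M`, glued by MG6 `glueM` (helper11).
-/

set_option autoImplicit false

namespace Cfsg.Agent.Lib.Helper1.SLN

open Matrix Equiv
open Cfsg.Agent.Lib.helper17.SLP

universe u v

section FF

variable {F : Type u} [Field F]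

/-- F2 [S-M]  dep MG6: the relators of `glueList` hold in `SL_(M+4)(F)`. -/
theorem glueList_model (M : ℕ) (ζ : Fˣ) (Z : List (alternatingGroup (Fin (M + 4))))
    (hZ : ∀ τ ∈ Z, τ ∈ stab01 M) :
    ∀ x ∈ glueList (F := F) M ζ Z,
      Monoid.Coprod.lift (alphaM (F := F) (n := M + 4)) (betaM M) x = 1 :=
  slnf2_core M ζ Z hZ (alphaM (F := F) (n := M + 4)) (betaM M) (glueM M)

end FF

end Cfsg.Agent.Lib.Helper1.SLN
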