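import Mathlib
import Cfsg.Prelude.Def_Classical
import Cfsg.Prelude.Def_KGroupFacts
import Cfsg.Agent.Lib.helper3.SPB.Defs
import Cfsg.Agent.Lib.Helper11.SPBT5
import Cfsg.Agent.Lib.helper23.SPBM1core

/-!
# Project SPB (designer helper3), row M1 `CovB.mult_trivial`, VERBATIM (helper23): `CovB.spbm1_core` on helper11's T8 `CovB.finite`.
-/

set_option autoImplicit false

namespace Cfsg.Agent.Lib.helper3.SPB

open Cfsg.Agent.Lib.helper15.St2 Cfsg.Agent.Lib.helper3.STC Cfsg.Agent.Lib.Lead.STD Cfsg.Agent.Lib.Lead.STB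
  Cfsg.Agent.Lib.Lead.SPN Cfsg.Agent.Lib.Helper16 Cfsg.Agent.Lib.Helper12.OMB

universe u v w

section M

/-- M1 [S-M]  the spin group has trivial multiplier: helper7's `Ce.trivial_mult_of_ker` + `Ce.ker_eq_bot_of_section` (`helper7.CeG`), T8, `hceb` at `C.S`, `C.rep`, `C.gen`, `a = inl i0`
(the spin element there is `C.zel` by `rfl`).  (Model: SPN M1, `helper4/SPNM1core.lean`, `SPNM1.lean`.) -/
theorem CovB.mult_trivial {l : ℕ} {F : Type u} [Field F] [Fintype F] {G : Type v} [Group G] (C : CovB l F G) (hz : C.zel ≠ 1)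
    (hstb : ∀ (H : Type v) [Group H], StbInjAt l F H) (hceb : CebSplitAt l F G) : Cfsg.HasCyclicSchurMultiplier G 1 :=
  CovB.spbm1_core C hz hceb (C.finite hstb)

end M

end Cfsg.Agent.Lib.helper3.SPB
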