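import Mathlib
import Cfsg.Prelude.Def_Classical
import Cfsg.Prelude.Def_KGroupFacts
import Cfsg.Agent.Lib.Lead.SPM2.Defs

/-!
# Project SPM2 (designer lead; S2099), row C1, VERBATIM (helper23):
`YYm_mul`, `YM_mul`, `ik_comm_gg`, `YM_mul_same`, `YM_opp`, `ppM_add` (the products of the nilpotents `Y_a`, `YM a u`).
-/

set_option autoImplicit false

namespace Cfsg.Agent.Lib.Lead.SPM2

open Cfsg.Agent.Lib.helper15.St2 Cfsg.Agent.Lib.helper3.STC Cfsg.Agent.Lib.Lead.STD Cfsg.Agent.Lib.helper17.STM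
  Cfsg.Agent.Lib.Lead.SPN Cfsg.Agent.Lib.Helper16
open Cfsg.Agent.Lib.Helper12.OMN (omatM oglM omatM_mul omatM_one omatM_injective oglM_coe oglM_injective)

universe u v w

section C

variable {m : ℕ} {F : Type u} [Field F] {A B : F}

/-- C1 [S]  model SPB C1 `YY_mul`: `Y_a Y_b = g0 γ_a g0 γ_b = -g0 g0 γ_a γ_b = -γ_a γ_b` (`gamM_g0`, `g0_sq`; no condition on `a, b`). -/
theorem YYm_mul (a b : Fin m ⊕ Fin m) : YYm (A := A) (B := B) a * YYm b = -(gamM a * gamM b) := by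
  unfold YYm
  calc g0 (A := A) (B := B) * gamM a * (g0 * gamM b) = g0 * (gamM a * g0) * gamM b := by noncomm_ring
    _ = -(g0 * g0 * (gamM a * gamM b)) := by rw [gamM_g0]; noncomm_ring
    _ = -(gamM a * gamM b) := by rw [g0_sq, one_mul]

/-- C1 [S]  `YM a t * YM b u = ik t Y_a ik u Y_b = ik t ik (star u) Y_a Y_b = -(ik (t * star u) * (γ_a γ_b))` (`YM_eq`, `YYm_ik`, `map_mul`, `YYm_mul`; no condition on `a, b`). -/
theorem YM_mul (a b : Fin m ⊕ Fin m) (t u : Kq F A B) : YM (m := m) a t * YM b u = -(ik (t * star u) * (gamM a * gamM b)) := by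
  rw [YM_eq, YM_eq]
  calc ik (m := m) t * YYm a * (ik u * YYm b) = ik t * (YYm a * ik u) * YYm b := by noncomm_ring
    _ = ik t * ik (star u) * (YYm a * YYm b) := by rw [YYm_ik]; noncomm_ring
    _ = -(ik (t * star u) * (gamM a * gamM b)) := by rw [YYm_mul, map_mul, mul_neg]

/-- C1 [S]  `ik u` commutes with `γ_a γ_b` (`gamM_ik` twice). -/
theorem ik_comm_gg (a b : Fin m ⊕ Fin m) (u : Kq F A B) : ik (m := m) u * (gamM a * gamM b) = gamM a * gamM b * ik u := by
  rw [mul_assoc (gamM a), gamM_ik, ← mul_assoc (gamM a), gamM_ik, mul_assoc]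

/-- C1 [S]  `YM a t * YM a u = 0` (`YM_mul`, `gamM_sq`). -/
theorem YM_mul_same (a : Fin m ⊕ Fin m) (t u : Kq F A B) : YM (m := m) a t * YM a u = 0 := by
  rw [YM_mul, gamM_sq, mul_zero, neg_zero]

/-- C1 [S]  the two products at opposite indices: `YM a t * YM (ng a) u = -(ik (t * star u) * p_a)` and `YM (ng a) u * YM a t = -(ik (u * star t) * p_{-a})`
(`YM_mul`; `ng (ng a) = a`: `cases a <;> rfl`). -/
theorem YM_opp (a : Fin m ⊕ Fin m) (t u : Kq F A B) :
    YM (m := m) a t * YM (ng a) u = -(ik (t * star u) * ppM a) ∧ YM (m := m) (ng a) u * YM a t = -(ik (u * star t) * ppM (ng a)) := by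
  have hng : ng (ng a) = a := by cases a <;> rfl
  constructor
  · rw [YM_mul]
    rfl
  · rw [YM_mul]
    unfold ppM
    rw [hng]

/-- C1 [S]  `p_a + p_{-a} = 1` (`gamM_car a (ng a)`, `ng (ng a) = a`). -/
theorem ppM_add (a : Fin m ⊕ Fin m) : ppM (A := A) (B := B) a + ppM (ng a) = 1 := by
  have hng : ng (ng a) = a := by cases a <;> rfl
  have h := gamM_car (A := A) (B := B) a (ng a)
  rw [hng, if_pos rfl] at h
  unfold ppM
  rw [hng]
  exact h

end C

end Cfsg.Agent.Lib.Lead.SPM2
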