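import Mathlib
import Cfsg.Agent.Lib.helper3.SPM.Defs
import Cfsg.Agent.Lib.helper3.SPM.Defs2
import Cfsg.Agent.Lib.helper23.SPMI3core
import Cfsg.Agent.Lib.Helper9.SPME7

/-!
# Project SPM (designer helper3; S2292 / S2296), row I3 (`xr_sym`), verbatim from `Skel1.lean.txt` (helper23)

The verbatim wrapper of `spmi3_core` with E7 `xr_pair` (Helper9).
-/

set_option autoImplicit false

namespace Cfsg.Agent.Lib.helper3.SPM

open Cfsg.Agent.Lib.helper3.STC Cfsg.Agent.Lib.helper3.STC.Mat Cfsg.Agent.Lib.helper17.SLP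

universe u v w v'

section main
variable {F : Type u} [Field F] {ι : Type w} [Fintype ι] [DecidableEq ι] {G : Type v} [Group G]
  (p : Pts ι) (ν : Equiv.Perm ι →* G) (lam : Sp4 F →* G)

/-- I3 [S-M]  `tm_sym`. -/
theorem xr_sym (H : Glue p ν lam) (hS : SpFacts F) {a b : ι ⊕ ι} (hab : a ≠ b) (t : F) :
    xr p ν lam a b t = xr p ν lam (ng b) (ng a) (-(sg a * sg b * t)) :=
  spmi3_core p ν lam (fun hij _ _ hab' t => xr_pair p ν lam H hS hij hab' t) hab t

end main
end Cfsg.Agent.Lib.helper3.SPM
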