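import Mathlib
import Cfsg.Prelude.Def_Classical
import Cfsg.Prelude.Def_KGroupFacts
import Cfsg.Agent.Lib.Lead.SPN.Defs
import Cfsg.Agent.Lib.Lead.SPN.Defs2
import Cfsg.Agent.Lib.helper23.SPNK1core
import Cfsg.Agent.Lib.Helper18.SPNT12

/-!
# Project SPN (designer lead; S2096 + S2097), rows T4 (`Cov.pi_zel`), K0 (`Cov.zel_mem_ker_sig`), K1 (`Cov.exists_neg_even`), VERBATIM (helper23)

Wrappers of the cores of `helper23.SPNK1core` on row T12 `Cov.omat_h`.
-/

set_option autoImplicit false
set_option linter.unusedSectionVars false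

namespace Cfsg.Agent.Lib.Lead.SPN

open Cfsg.Agent.Lib.helper15.St2 Cfsg.Agent.Lib.helper3.STC Cfsg.Agent.Lib.Lead.STD Cfsg.Agent.Lib.Helper16
  Cfsg.Agent.Lib.Helper1.OMP

universe u v w

namespace Cov

variable {l : ℕ} {F : Type u} [Field F] [Fintype F] {G : Type v} [Group G] (C : Cov l F G)

/-- T4 [S]  T12 twice: the product of the two diagonal matrices is `1`; `omat_mul`, `omat_injective` (`Helper1.OMPK4`). -/
theorem pi_zel : C.π C.zel = 1 :=
  C.spnt4_core (fun hab hab' u hu => C.omat_h hab hab' u hu)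

/-- K0 [S]  `zel ∈ ker sig` (T4). -/
theorem zel_mem_ker_sig : C.zel ∈ C.sig.ker :=
  C.spnk0_core C.pi_zel

/-- K1 [M]  `l` even: `g = ∏_{k < l/2} h_{2k,2k+1}(-1)` (a product in the commutative subgroup generated by the torus elements: `Subgroup.closureCommGroupOfComm` with `h_comm`, or a `List.prod`);
its matrix is `∏ diagonal (dhs (2k) (2k+1) (-1)) = -1` (T12; every index lies in exactly one block), `g * g = 1` (`h_mul`, `h_one`, `h_comm`). -/
theorem exists_neg_even (he : Even l) : ∃ g : G, omat (C.π g) = -1 ∧ g * g = 1 :=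
  C.spnk1_core (fun hab hab' u hu => C.omat_h hab hab' u hu) he

end Cov

end Cfsg.Agent.Lib.Lead.SPN
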