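import Mathlib

set_option autoImplicit false

/-!
# SS-S2: the finitely many cases `k < 18`, `n ≤ 54` of Sylvester–Schur
-/

namespace Cfsg.Agent.Lib.Helper20.SS

/-- the primes below 54 -/
def h23sp54 : List ℕ := [2, 3, 5, 7, 11, 13, 17, 19, 23, 29, 31, 37, 41, 43, 47, 53]

theorem h23sp54_prime {p : ℕ} (hp : p ∈ h23sp54) : p.Prime := by
  simp only [h23sp54, List.mem_cons, List.not_mem_nil, or_false] at hp
  rcases hp with rfl | rfl | rfl | rfl | rfl | rfl | rfl | rfl | rfl | rfl | rfl | rfl | rfl | rfl |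
    rfl | rfl <;> norm_num

theorem h23small_chk : (List.range 18).all (fun k => (List.range 55).all (fun n =>
    decide (k = 0) || decide (n < 2 * k) ||
      h23sp54.any (fun p => decide (k < p) && decide (n.choose k % p = 0)))) = true := by
  decide +kernel

/-- SS-S2: the finitely many cases `k < 18`, `n ≤ 54`. -/
theorem check_small {n k : ℕ} (hk : 0 < k) (hk' : k < 18) (hkn : 2 * k ≤ n) (hn : n ≤ 54) :
    ∃ p : ℕ, p.Prime ∧ k < p ∧ p ∣ n.choose k := by
  have h1 := List.all_eq_true.1 h23small_chk k (List.mem_range.2 hk')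
  have h2 := List.all_eq_true.1 h1 n (List.mem_range.2 (by omega))
  rw [Bool.or_eq_true, Bool.or_eq_true, decide_eq_true_eq, decide_eq_true_eq,
    List.any_eq_true] at h2
  rcases h2 with (h2 | h2) | ⟨p, hp, h3⟩
  · omega
  · omega
  · rw [Bool.and_eq_true, decide_eq_true_eq, decide_eq_true_eq] at h3
    exact ⟨p, h23sp54_prime hp, h3.1, Nat.dvd_of_mod_eq_zero h3.2⟩

end Cfsg.Agent.Lib.Helper20.SS
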