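import Mathlib
import Cfsg.Agent.Lib.helper15.St2
import Cfsg.Agent.Lib.helper7.StA
import Cfsg.Agent.Lib.helper7.StC
import Cfsg.Agent.Lib.helper7.StE
import Cfsg.Agent.Lib.helper3.STC.Defs
import Cfsg.Agent.Lib.helper3.STC.Defs2
import Cfsg.Agent.Lib.helper3.STC.Defs3
import Cfsg.Agent.Lib.helper3.STC.Sub
import Cfsg.Agent.Lib.Helper21.STCM.Vec
import Cfsg.Agent.Lib.Helper24.STCI1
import Cfsg.Agent.Lib.Helper24.STCB1

/-!
# STC (designer helper3), row J3 (helper23), VERBATIM: rank one, an element of `Yg o` fixing `e_o` is trivial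
-/

set_option autoImplicit false

namespace Cfsg.Agent.Lib.helper3.STC

open Cfsg.Agent.Lib.helper15.St2 Cfsg.Agent.Lib.helper7.St Matrix

universe v w

/-- in rank one two distinct signed indices are opposite -/
theorem stcj3_eq_ng {ι : Type*} [Subsingleton ι] {a b : ι ⊕ ι} (hab : a ≠ b) : a = ng b := by
  rcases a with i | i <;> rcases b with j | j
  · exact absurd (congrArg Sum.inl (Subsingleton.elim i j)) hab
  · exact congrArg Sum.inl (Subsingleton.elim i j)
  · exact congrArg Sum.inr (Subsingleton.elim i j)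
  · exact absurd (congrArg Sum.inr (Subsingleton.elim i j)) hab

theorem stcj3_Em_ng {ι l : Type*} (e : ι ↪ l) (a : ι ⊕ ι) : Em e (ng a) = ng (Em e a) := by
  cases a <;> rfl

namespace SysC

namespace Rep

variable {K : Type*} [Field K] {ι : Type*} {G : Type*} [Group G] {S : SysC K ι G}
  {l : Type*} [Fintype l] [DecidableEq l] (R : S.Rep l)

variable (o : ι ⊕ ι)

/-- rank one: every element of `Yg o` is a long root element `x (ng o) o c` -/
theorem stcj3_Yg_form [Subsingleton ι] : ∀ y ∈ S.Yg o, ∃ c : K, y = S.x (ng o) o c := by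
  intro y hy
  induction hy using Subgroup.closure_induction with
  | mem x hx =>
    obtain ⟨a, b, t, hab, rfl, rfl⟩ := hx
    exact ⟨t, by rw [← stcj3_eq_ng hab]⟩
  | one => exact ⟨0, (S.x_zero _ _).symm⟩
  | mul x y _ _ hx hy =>
    obtain ⟨c, rfl⟩ := hx
    obtain ⟨c', rfl⟩ := hy
    exact ⟨c + c', S.add _ _ (ng_ne o) c c'⟩
  | inv x _ hx =>
    obtain ⟨c, rfl⟩ := hx
    exact ⟨-c, (S.x_neg _ _ c).symm⟩

/-- J3 [S-M]  rank one: an element of `Yg o` fixing `e_o` is trivial. -/
theorem Y_fix_eq_one_of_subsingleton [Subsingleton ι] {y : G} (hy : y ∈ S.Yg o)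
    (h : R.M y *ᵥ ev (Em R.e o) = ev (Em R.e o)) : y = 1 := by
  obtain ⟨c, rfl⟩ := stcj3_Yg_form o y hy
  have hM : R.M (S.x (ng o) o c) = Tm (Em R.e (ng o)) (Em R.e o) c := R.hφ _ _ (ng_ne o) c
  rw [hM, stcj3_Em_ng] at h
  have hlong := Mat.Tm_long_mulVec_single (F := K) (ng (Em R.e o)) c
  rw [ng_ng] at hlong
  unfold ev at h
  rw [hlong] at h
  have h0 : (Pi.single (ng (Em R.e o)) c : l ⊕ l → K) = 0 := by
    have := congrArg (fun v => v - (Pi.single (Em R.e o) 1 : l ⊕ l → K)) h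
    simpa using this
  have hc : c = 0 := by
    have := congrFun h0 (ng (Em R.e o))
    simpa using this
  rw [hc, S.x_zero]

end Rep

end SysC

end Cfsg.Agent.Lib.helper3.STC
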