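import Mathlib
import Cfsg.Agent.Lib.Helper24.SU3M.Defs
import Cfsg.Agent.Lib.helper7.CeA
import Cfsg.Agent.Lib.Helper24.SU3MP3
import Cfsg.Agent.Lib.helper23.SU3MP6core

/-!
# Project SU3M (designer helper24; S2089, `n = 3`), row P6 `comm_le_Vg`, VERBATIM (helper23): `comm_le_Vg_core` on helper24's P3 `NA_central`, P4 `NU_comm`.
-/

set_option autoImplicit false

namespace Cfsg.Agent.Lib.Helper24.SU3M

open Cfsg.Agent.Lib.Helper19.U3P Cfsg.Agent.Lib.Helper25.SU3P Cfsg.Agent.Lib.helper14.SU3J Cfsg.Agent.Lib.helper7.Ce Matrix Polynomial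

universe u

section P

variable {F : Type u} [Field F] [Fintype F] {K : Type u} [Field K] [Fintype K] {q : ℕ} {Γ : Type*} [Group Γ] {π : Γ →* ↥(Cfsg.SU 3 F q)}

/-- P6 [M-L]  the commutator subgroup of the lifted Borel subgroup lies in `Vg`. -/
theorem comm_le_Vg (D : Par F K q) (hF : Fintype.card F = q ^ 2) (hq : 3 ≤ q) (h : IsCE π) {hz : ↥(Cfsg.SU 3 F q)} (hhz : D.c.cj hz = dd D.σ (D.ζ : F))
    {t : Γ} (ht : π t = hz) : ⁅(Bg D hz).comap π, (Bg D hz).comap π⁆ ≤ Vg D π t :=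
  comm_le_Vg_core D hF hq h hhz ht (NA_central D hF hq h hhz) (NU_comm D hF hq h hhz ht)

end P

end Cfsg.Agent.Lib.Helper24.SU3M
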