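import Mathlib
import Cfsg.Prelude.Def_KGroupFacts
import Cfsg.Agent.Lib.helper23.SchurCoverE

set_option autoImplicit false

namespace Cfsg.Agent.Lib.helper23

open scoped commutatorElement

universe u v

/-- a group with a homomorphism to a finite group with finite kernel is finite -/
theorem scu_finite_of_ker {G H : Type*} [Group G] [Group H] [Finite H] (f : G →* H)
    (hk : Finite f.ker) : Finite G := by
  have h1 : Finite (G ⧸ f.ker) :=
    Finite.of_equiv _ (QuotientGroup.quotientKerEquivRange f).symm.toEquiv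
  exact Finite.of_equiv _ (Subgroup.groupEquivQuotientProdSubgroup (s := f.ker)).symm

/-- a homomorphism over `Q` into a stem extension is surjective -/
theorem scu_hom_over_surj {Q Γ₁ Γ₂ : Type*} [Group Q] [Group Γ₁] [Group Γ₂] (σ₁ : Γ₁ →* Q)
    (hσ₁ : Function.Surjective σ₁) (σ₂ : Γ₂ →* Q) (hσ₂ : Cfsg.IsStemExtension σ₂)
    (η : Γ₁ →* Γ₂) (hη : σ₂.comp η = σ₁) : Function.Surjective η := by
  have hθ' : ∀ f, σ₂ (η f) = σ₁ f := fun f => DFunLike.congr_fun hη f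
  have hdec : ∀ d : Γ₂, ∃ f : Γ₁, (η f)⁻¹ * d ∈ σ₂.ker := by
    intro d
    obtain ⟨f, hf⟩ := hσ₁ (σ₂ d)
    refine ⟨f, ?_⟩
    rw [MonoidHom.mem_ker, map_mul, map_inv, hθ', hf, inv_mul_cancel]
  have hcomm : commutator Γ₂ ≤ η.range := by
    rw [commutator_eq_closure, Subgroup.closure_le]
    rintro _ ⟨a, b, rfl⟩
    obtain ⟨fa, hfa⟩ := hdec a
    obtain ⟨fb, hfb⟩ := hdec b
    have h3 := uce_comm_central (η fa) (η fb) _ _ (hσ₂.2.1 hfa) (hσ₂.2.1 hfb)
    simp only [mul_inv_cancel_left] at h3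
    rw [SetLike.mem_coe, h3, ← map_commutatorElement]
    exact ⟨_, rfl⟩
  intro d
  obtain ⟨f, hf⟩ := hdec d
  obtain ⟨f', hf'⟩ := hcomm (hσ₂.2.2 hf)
  refine ⟨f * f', ?_⟩
  rw [map_mul, hf']
  group

/-- extension of a homomorphism from a subgroup of coprime "index" of an abelian group -/
theorem scu_extend_hom {Y B : Type*} [CommGroup Y] [CommGroup B] [Finite B] (K : Subgroup Y)
    (m : ℕ) (hm : ∀ y : Y, y ^ m ∈ K) (hcop : Nat.Coprime m (Nat.card B)) (h : K →* B) :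
    ∃ h' : Y →* B, ∀ k : K, h' (k : Y) = h k := by
  set a : ℤ := Int.gcdA m (Nat.card B) with ha
  set b : ℤ := Int.gcdB m (Nat.card B) with hb
  have hbez : (m : ℤ) * a + (Nat.card B : ℤ) * b = 1 := by
    have := Int.gcd_eq_gcd_ab m (Nat.card B)
    rw [Int.gcd_natCast_natCast, hcop] at this
    rw [ha, hb]
    exact_mod_cast this.symm
  refine ⟨(zpowGroupHom a).comp (h.comp ((powMonoidHom m).codRestrict K hm)), ?_⟩
  intro k
  show (h ⟨(k : Y) ^ m, hm k⟩) ^ a = h k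
  have h1 : (⟨(k : Y) ^ m, hm k⟩ : K) = k ^ m := Subtype.ext (by simp)
  rw [h1, map_pow, ← zpow_natCast, ← zpow_mul]
  have h2 : (m : ℤ) * a = 1 - (Nat.card B : ℤ) * b := by linarith
  rw [h2, zpow_sub, zpow_one, zpow_mul, zpow_natCast, pow_card_eq_one', one_zpow, inv_one,
    mul_one]

/-- extension of a homomorphism from a subgroup meeting the commutator subgroup trivially -/
theorem scu_extend_central {X B : Type*} [Group X] [CommGroup B] [Finite B] (K : Subgroup X)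
    (hKX : K ⊓ commutator X = ⊥) (m : ℕ)
    (hm : ∀ x : X, ∃ k ∈ K, ∃ c ∈ commutator X, x ^ m = k * c)
    (hcop : Nat.Coprime m (Nat.card B)) (h : K →* B) :
    ∃ h' : X →* B, ∀ k : K, h' (k : X) = h k := by
  set Kb : Subgroup (Abelianization X) := K.map Abelianization.of with hKb
  set κ : K →* Kb := (Abelianization.of.comp K.subtype).codRestrict Kb
    (fun k => ⟨k, k.2, rfl⟩) with hκ
  have hκinj : Function.Injective κ := by
    rw [injective_iff_map_eq_one]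
    intro k hk
    have h1 : Abelianization.of (k : X) = 1 := congrArg Subtype.val hk
    have h2 : (k : X) ∈ commutator X := by
      rw [← Abelianization.ker_of]; exact h1
    have h3 : (k : X) ∈ K ⊓ commutator X := ⟨k.2, h2⟩
    rw [hKX, Subgroup.mem_bot] at h3
    exact Subtype.ext h3
  have hκsurj : Function.Surjective κ := by
    rintro ⟨_, k, hk, rfl⟩
    exact ⟨⟨k, hk⟩, rfl⟩
  set κe : K ≃* Kb := MulEquiv.ofBijective κ ⟨hκinj, hκsurj⟩ with hκe
  have hm' : ∀ y : Abelianization X, y ^ m ∈ Kb := by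
    intro y
    obtain ⟨x, rfl⟩ := QuotientGroup.mk_surjective (s := commutator X) y
    obtain ⟨k, hk, c, hc, hx⟩ := hm x
    have h1 : (Abelianization.of x) ^ m = Abelianization.of k := by
      rw [← map_pow, hx, map_mul]
      have : Abelianization.of c = 1 := by
        have : c ∈ (Abelianization.of (G := X)).ker := by
          rw [Abelianization.ker_of]; exact hc
        exact this
      rw [this, mul_one]
    exact ⟨k, hk, h1.symm⟩
  obtain ⟨h'', hh''⟩ := scu_extend_hom Kb m hm' hcop (h.comp κe.symm.toMonoidHom)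
  refine ⟨h''.comp Abelianization.of, ?_⟩
  intro k
  have h1 := hh'' (κe k)
  rw [MonoidHom.comp_apply] at h1 ⊢
  have h2 : ((κe k : Kb) : Abelianization X) = Abelianization.of (k : X) := rfl
  rw [h2] at h1
  rw [h1]
  show h (κe.symm (κe k)) = h k
  rw [MulEquiv.symm_apply_apply]

theorem scu_card_cover {Q Γ A : Type*} [Group Q] [Group Γ] [Finite Γ] [CommGroup A]
    (σ : Γ →* Q) (hσ : Function.Surjective σ) (e : σ.ker ≃* A) :
    Nat.card Γ = Nat.card Q * Nat.card A := by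
  rw [Subgroup.card_eq_card_quotient_mul_card_subgroup σ.ker,
    Nat.card_congr (QuotientGroup.quotientKerEquivOfSurjective σ hσ).toEquiv,
    Nat.card_congr e.toEquiv]

/-- **Uniqueness of the covering group when the orders are coprime.** -/
theorem scu_unique_of_coprime {Q : Type u} [Group Q] [Finite Q] {A : Type v} [CommGroup A]
    (hA : Cfsg.HasSchurMultiplier Q A)
    (hcop : Nat.Coprime (Nat.card (Abelianization Q)) (Nat.card A))
    {Γ₁ Γ₂ : Type*} [Group Γ₁] [Finite Γ₁] [Group Γ₂] [Finite Γ₂] (σ₁ : Γ₁ →* Q) (σ₂ : Γ₂ →* Q)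
    (h₁ : Cfsg.IsStemExtension σ₁) (h₂ : Cfsg.IsStemExtension σ₂) (e₁ : σ₁.ker ≃* A)
    (e₂ : σ₂.ker ≃* A) : ∃ e : Γ₁ ≃* Γ₂, σ₂.comp e.toMonoidHom = σ₁ := by
  have hfinA : Finite A := Finite.of_equiv _ e₁.toEquiv
  -- the fibre product
  set X : Subgroup (Γ₁ × Γ₂) := MonoidHom.eqLocus (σ₁.comp (MonoidHom.fst Γ₁ Γ₂))
    (σ₂.comp (MonoidHom.snd Γ₁ Γ₂)) with hX
  have hXmem : ∀ x : Γ₁ × Γ₂, x ∈ X ↔ σ₁ x.1 = σ₂ x.2 := fun x => Iff.rfl
  set p₁ : X →* Γ₁ := (MonoidHom.fst Γ₁ Γ₂).comp X.subtype with hp₁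
  set p₂ : X →* Γ₂ := (MonoidHom.snd Γ₁ Γ₂).comp X.subtype with hp₂
  have hp₁a : ∀ x : X, p₁ x = (x : Γ₁ × Γ₂).1 := fun x => rfl
  have hp₂a : ∀ x : X, p₂ x = (x : Γ₁ × Γ₂).2 := fun x => rfl
  have hp₁s : Function.Surjective p₁ := by
    intro g₁
    obtain ⟨g₂, hg₂⟩ := h₂.1 (σ₁ g₁)
    exact ⟨⟨(g₁, g₂), (hXmem _).mpr hg₂.symm⟩, rfl⟩
  set ρ : X →* Q := σ₁.comp p₁ with hρ
  have hρa : ∀ x : X, ρ x = σ₁ (x : Γ₁ × Γ₂).1 := fun x => rfl
  have hρa' : ∀ x : X, ρ x = σ₂ (x : Γ₁ × Γ₂).2 := fun x => (hρa x).trans ((hXmem _).mp x.2)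
  have hρs : Function.Surjective ρ := h₁.1.comp hp₁s
  have hρk : ρ.ker ≤ Subgroup.center X := by
    intro x hx
    have hx1 : (x : Γ₁ × Γ₂).1 ∈ σ₁.ker := by rw [MonoidHom.mem_ker, ← hρa]; exact hx
    have hx2 : (x : Γ₁ × Γ₂).2 ∈ σ₂.ker := by rw [MonoidHom.mem_ker, ← hρa']; exact hx
    rw [Subgroup.mem_center_iff]
    intro y
    apply Subtype.ext
    apply Prod.ext
    · exact Subgroup.mem_center_iff.mp (h₁.2.1 hx1) _
    · exact Subgroup.mem_center_iff.mp (h₂.2.1 hx2) _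
  obtain ⟨π, hπ⟩ := scv_mult_to_central hA ρ hρs hρk
  -- the commutator subgroups
  have hcomΓ₁ : commutator Γ₁ = (commutator X).map p₁ := by
    rw [commutator_def, commutator_def, Subgroup.map_commutator, ← MonoidHom.range_eq_map,
      MonoidHom.range_eq_top_of_surjective p₁ hp₁s]
  have hcomQ : commutator Q = (commutator X).map ρ := by
    rw [commutator_def, commutator_def, Subgroup.map_commutator, ← MonoidHom.range_eq_map,
      MonoidHom.range_eq_top_of_surjective ρ hρs]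
  -- the map from `π.range` onto `σ₁.ker`
  have hlift : ∀ k₁ ∈ σ₁.ker, ∃ y : ρ.ker, y ∈ π.range ∧ p₁ (y : X) = k₁ := by
    intro k₁ hk₁
    have h1 : k₁ ∈ commutator Γ₁ := h₁.2.2 hk₁
    rw [hcomΓ₁] at h1
    obtain ⟨x, hx, hxk⟩ := h1
    have hxρ : x ∈ ρ.ker := by
      rw [MonoidHom.mem_ker, hρ, MonoidHom.comp_apply, hxk]; exact hk₁
    exact ⟨⟨x, hxρ⟩, (hπ ⟨x, hxρ⟩).mpr hx, hxk⟩
  set r : π.range →* σ₁.ker := (p₁.comp (ρ.ker.subtype.comp π.range.subtype)).codRestrict σ₁.ker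
    (fun y => by
      rw [MonoidHom.mem_ker]
      exact (y : ρ.ker).2) with hr
  have hrs : Function.Surjective r := by
    rintro ⟨k₁, hk₁⟩
    obtain ⟨y, hy, hyk⟩ := hlift k₁ hk₁
    exact ⟨⟨y, hy⟩, Subtype.ext hyk⟩
  have hrcard : Nat.card π.range ≤ Nat.card σ₁.ker := by
    rw [Nat.card_congr e₁.toEquiv]
    exact Nat.card_le_card_of_surjective π.rangeRestrict π.rangeRestrict_surjective
  have hrinj : Function.Injective r := (hrs.bijective_of_nat_card_le hrcard).1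
  set K : Subgroup X := p₁.ker with hK
  have hKX : K ⊓ commutator X = ⊥ := by
    rw [eq_bot_iff]
    rintro x ⟨hxK, hxc⟩
    have hxK' : p₁ x = 1 := hxK
    have hxρ : x ∈ ρ.ker := by
      rw [MonoidHom.mem_ker, hρ, MonoidHom.comp_apply, hxK', map_one]
    have hxπ : (⟨x, hxρ⟩ : ρ.ker) ∈ π.range := (hπ ⟨x, hxρ⟩).mpr hxc
    have h1 : r ⟨⟨x, hxρ⟩, hxπ⟩ = r 1 := by
      apply Subtype.ext
      rw [map_one]
      exact hxK'
    have h2 := hrinj h1
    have h3 := congrArg (fun y : π.range => ((y : ρ.ker) : X)) h2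
    simpa using h3
  -- powers
  set m := Nat.card (Abelianization Q) with hm
  have hpow : ∀ x : X, ∃ k ∈ K, ∃ c ∈ commutator X, x ^ m = k * c := by
    intro x
    have h1 : ρ (x ^ m) ∈ commutator Q := by
      rw [← Abelianization.ker_of, MonoidHom.mem_ker, map_pow, map_pow, hm]
      exact pow_card_eq_one'
    rw [hcomQ] at h1
    obtain ⟨c, hc, hcx⟩ := h1
    have hy : x ^ m * c⁻¹ ∈ ρ.ker := by
      rw [MonoidHom.mem_ker, map_mul, map_inv, hcx, mul_inv_cancel]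
    have hy1 : p₁ (x ^ m * c⁻¹) ∈ σ₁.ker := by
      rw [MonoidHom.mem_ker]; exact hy
    obtain ⟨c', hc', hc'k⟩ := hlift _ hy1
    have hc'c : (c' : X) ∈ commutator X := (hπ c').mp hc'
    refine ⟨x ^ m * c⁻¹ * (c' : X)⁻¹, ?_, (c' : X) * c, Subgroup.mul_mem _ hc'c hc, by group⟩
    rw [hK, MonoidHom.mem_ker, map_mul, map_inv, hc'k, mul_inv_cancel]
  -- the homomorphism on `K`
  have hKmem : ∀ x : K, p₂ (x : X) ∈ σ₂.ker := by
    intro x
    rw [MonoidHom.mem_ker, hp₂a, ← hρa', hρ, MonoidHom.comp_apply]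
    have : p₁ (x : X) = 1 := x.2
    rw [this, map_one]
  set h₀ : K →* A := e₂.toMonoidHom.comp ((p₂.comp K.subtype).codRestrict σ₂.ker hKmem) with hh₀
  obtain ⟨z, hz⟩ := scu_extend_central K hKX m hpow hcop h₀⁻¹
  -- the central correction
  set z' : X →* Γ₂ := σ₂.ker.subtype.comp (e₂.symm.toMonoidHom.comp z) with hz'
  have hz'c : ∀ x : X, z' x ∈ Subgroup.center Γ₂ := fun x => h₂.2.1 (e₂.symm (z x)).2
  have hz'k : ∀ x : X, σ₂ (z' x) = 1 := fun x => (e₂.symm (z x)).2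
  set ηt : X →* Γ₂ := MonoidHom.mk' (fun x => p₂ x * z' x) (by
    intro x y
    rw [map_mul, map_mul]
    have := Subgroup.mem_center_iff.mp (hz'c x) (p₂ y)
    calc p₂ x * p₂ y * (z' x * z' y) = p₂ x * (p₂ y * z' x) * z' y := by group
      _ = p₂ x * (z' x * p₂ y) * z' y := by rw [this]
      _ = p₂ x * z' x * (p₂ y * z' y) := by group) with hηt
  have hηta : ∀ x : X, ηt x = p₂ x * z' x := fun x => rfl
  have hηtK : K ≤ ηt.ker := by
    intro x hx
    rw [MonoidHom.mem_ker, hηta]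
    have h1 := hz ⟨x, hx⟩
    have h2 : z' x = (p₂ x)⁻¹ := by
      show ((e₂.symm (z x) : σ₂.ker) : Γ₂) = (p₂ x)⁻¹
      have h3 : z x = (h₀ ⟨x, hx⟩)⁻¹ := h1
      rw [h3, map_inv]
      have h4 : e₂.symm (h₀ ⟨x, hx⟩) = ⟨p₂ x, hKmem ⟨x, hx⟩⟩ := by
        rw [hh₀]
        exact e₂.symm_apply_apply _
      rw [h4]
      rfl
    rw [h2, mul_inv_cancel]
  set η : Γ₁ →* Γ₂ := p₁.liftOfSurjective hp₁s ⟨ηt, hηtK⟩ with hη
  have hηa : ∀ x : X, η (p₁ x) = ηt x := fun x =>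
    MonoidHom.liftOfRightInverse_comp_apply _ _ _ ⟨ηt, hηtK⟩ x
  have hση : σ₂.comp η = σ₁ := by
    ext g₁
    obtain ⟨x, rfl⟩ := hp₁s g₁
    rw [MonoidHom.comp_apply, hηa, hηta, map_mul, hz'k, mul_one, hp₂a, ← hρa']
    rfl
  have hηs : Function.Surjective η := scu_hom_over_surj σ₁ h₁.1 σ₂ h₂ η hση
  have hcard : Nat.card Γ₁ ≤ Nat.card Γ₂ := by
    rw [scu_card_cover σ₁ h₁.1 e₁, scu_card_cover σ₂ h₂.1 e₂]
  have hηb : Function.Bijective η := hηs.bijective_of_nat_card_le hcard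
  refine ⟨MulEquiv.ofBijective η hηb, ?_⟩
  ext g
  exact DFunLike.congr_fun hση g


theorem scu_zmod_factor {Ab : Type*} [CommGroup Ab] [Finite Ab] (p : ℕ) (hp : p.Prime)
    (hdvd : p ∣ Nat.card Ab) :
    ∃ n : ℕ, n ≠ 0 ∧ p ∣ n ∧ ∃ ψ : Ab →* Multiplicative (ZMod n), ∃ a₁ : Ab, a₁ ^ n = 1 ∧
      ψ a₁ = Multiplicative.ofAdd 1 := by
  classical
  obtain ⟨ι, hι, n, hn, ⟨e⟩⟩ := CommGroup.equiv_prod_multiplicative_zmod_of_finite Ab
  have hne : ∀ i, NeZero (n i) := fun i => ⟨by have := hn i; omega⟩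
  have hcard : Nat.card Ab = ∏ i, n i := by
    rw [Nat.card_congr e.toEquiv, Nat.card_pi]
    apply Finset.prod_congr rfl
    intro i _
    rw [Nat.card_congr Multiplicative.toAdd, Nat.card_zmod]
  rw [hcard] at hdvd
  obtain ⟨i₀, -, hi₀⟩ := (Prime.dvd_finsetProd_iff hp.prime _).mp hdvd
  refine ⟨n i₀, (hne i₀).out, hi₀, (Pi.evalMonoidHom _ i₀).comp e.toMonoidHom,
    e.symm (Pi.mulSingle i₀ (Multiplicative.ofAdd 1)), ?_, ?_⟩
  · rw [← map_pow, ← Pi.mulSingle_pow, ← ofAdd_nsmul]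
    simp
  · simp

theorem scu_not_pth_power {A : Type*} [CommGroup A] [Finite A] (p : ℕ) (hp : p.Prime)
    (hdvd : p ∣ Nat.card A) : ∃ a₀ : A, ∀ a : A, a ^ p ≠ a₀ := by
  by_contra hcon
  have hsurj : Function.Surjective (powMonoidHom p : A →* A) := by
    intro a₀
    by_contra h
    exact hcon ⟨a₀, fun a ha => h ⟨a, ha⟩⟩
  have hinj := (Finite.injective_iff_surjective).mpr hsurj
  have := Fact.mk hp
  obtain ⟨g, hg⟩ := exists_prime_orderOf_dvd_card' p hdvd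
  have h0 : g ^ p = 1 := by rw [← hg]; exact pow_orderOf_eq_one g
  have h1 : g = 1 := hinj (by simp [h0])
  rw [h1, orderOf_one] at hg
  exact hp.one_lt.ne hg


abbrev scuGen {A : Type*} [CommGroup A] (a₀ : A) (n : ℕ) : Subgroup (A × Multiplicative ℤ) :=
  Subgroup.zpowers ((a₀⁻¹, Multiplicative.ofAdd (n : ℤ)) : A × Multiplicative ℤ)

abbrev scuE {A : Type*} [CommGroup A] (a₀ : A) (n : ℕ) : Type _ :=
  (A × Multiplicative ℤ) ⧸ scuGen a₀ n

theorem scu_mem_gen {A : Type*} [CommGroup A] (a₀ : A) (n : ℕ) (x : A × Multiplicative ℤ) :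
    x ∈ scuGen a₀ n ↔ ∃ k : ℤ, x.1 = a₀⁻¹ ^ k ∧ Multiplicative.toAdd x.2 = k * n := by
  rw [Subgroup.mem_zpowers_iff]
  constructor
  · rintro ⟨k, rfl⟩
    refine ⟨k, ?_, ?_⟩
    · simp
    · simp
  · rintro ⟨k, h1, h2⟩
    refine ⟨k, ?_⟩
    apply Prod.ext
    · simp [h1]
    · apply Multiplicative.toAdd.injective
      rw [h2]
      simp

def scuIota {A : Type*} [CommGroup A] (a₀ : A) (n : ℕ) : A →* scuE a₀ n :=
  (QuotientGroup.mk' (scuGen a₀ n)).comp (MonoidHom.inl A (Multiplicative ℤ))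

def scuPi {A : Type*} [CommGroup A] (a₀ : A) (n : ℕ) : scuE a₀ n →* Multiplicative (ZMod n) :=
  QuotientGroup.lift (scuGen a₀ n)
    (((Int.castAddHom (ZMod n)).toMultiplicative).comp (MonoidHom.snd A (Multiplicative ℤ)))
    (by
      rw [Subgroup.zpowers_le, MonoidHom.mem_ker]
      simp)

theorem scuPi_mk {A : Type*} [CommGroup A] (a₀ : A) (n : ℕ) (x : A × Multiplicative ℤ) :
    scuPi a₀ n (QuotientGroup.mk' (scuGen a₀ n) x) =
      Multiplicative.ofAdd ((Multiplicative.toAdd x.2 : ℤ) : ZMod n) := rfl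

theorem scu_iota_inj {A : Type*} [CommGroup A] (a₀ : A) (n : ℕ) (hn : n ≠ 0) :
    Function.Injective (scuIota a₀ n) := by
  rw [injective_iff_map_eq_one]
  intro a ha
  have h1 : ((a, 1) : A × Multiplicative ℤ) ∈ scuGen a₀ n := by
    rw [← QuotientGroup.eq_one_iff]
    exact ha
  rw [scu_mem_gen] at h1
  obtain ⟨k, h2, h3⟩ := h1
  simp only [toAdd_one] at h3
  have hk : k = 0 := by
    have : (n : ℤ) ≠ 0 := by exact_mod_cast hn
    rcases mul_eq_zero.mp h3.symm with h | h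
    · exact h
    · exact absurd h this
  rw [hk, zpow_zero] at h2
  exact h2

theorem scu_pi_iota {A : Type*} [CommGroup A] (a₀ : A) (n : ℕ) (a : A) :
    scuPi a₀ n (scuIota a₀ n a) = 1 := by
  show scuPi a₀ n (QuotientGroup.mk' (scuGen a₀ n) (a, 1)) = 1
  rw [scuPi_mk]
  simp

theorem scu_pi_ker {A : Type*} [CommGroup A] (a₀ : A) (n : ℕ) (x : scuE a₀ n)
    (hx : scuPi a₀ n x = 1) : ∃ a, scuIota a₀ n a = x := by
  obtain ⟨⟨a, j⟩, rfl⟩ := QuotientGroup.mk'_surjective (scuGen a₀ n) x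
  rw [scuPi_mk] at hx
  have h1 : ((Multiplicative.toAdd j : ℤ) : ZMod n) = 0 := by
    simpa using hx
  rw [ZMod.intCast_zmod_eq_zero_iff_dvd] at h1
  obtain ⟨i, hi⟩ := h1
  refine ⟨a * a₀ ^ i, ?_⟩
  show QuotientGroup.mk' (scuGen a₀ n) (a * a₀ ^ i, 1) = QuotientGroup.mk' (scuGen a₀ n) (a, j)
  apply (QuotientGroup.eq).mpr
  rw [scu_mem_gen]
  refine ⟨i, ?_, ?_⟩
  · simp
  · simp [hi, mul_comm]

theorem scu_pi_surj {A : Type*} [CommGroup A] (a₀ : A) (n : ℕ) :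
    Function.Surjective (scuPi a₀ n) := by
  intro c
  obtain ⟨j, hj⟩ := ZMod.intCast_surjective (Multiplicative.toAdd c)
  refine ⟨QuotientGroup.mk' (scuGen a₀ n) (1, Multiplicative.ofAdd j), ?_⟩
  rw [scuPi_mk]
  simp [hj]

theorem scu_nonsplit {A : Type*} [CommGroup A] (a₀ : A) (n : ℕ) (hn : n ≠ 0) (p : ℕ)
    (hpn : p ∣ n) (ha₀ : ∀ a : A, a ^ p ≠ a₀) (x : scuE a₀ n)
    (hx : scuPi a₀ n x = Multiplicative.ofAdd 1) : x ^ n ≠ 1 := by
  intro hxn
  obtain ⟨⟨a, j'⟩, rfl⟩ := QuotientGroup.mk'_surjective (scuGen a₀ n) x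
  set j : ℤ := Multiplicative.toAdd j' with hj
  rw [scuPi_mk] at hx
  have h1 : ((j : ℤ) : ZMod n) = 1 := by
    have := congrArg Multiplicative.toAdd hx
    simpa using this
  have h2 : (n : ℤ) ∣ j - 1 := by
    rw [← ZMod.intCast_zmod_eq_zero_iff_dvd]
    push_cast
    rw [h1, sub_self]
  obtain ⟨t, ht⟩ := h2
  rw [← map_pow] at hxn
  have h3 : ((a, j') : A × Multiplicative ℤ) ^ n ∈ scuGen a₀ n := by
    rw [← QuotientGroup.eq_one_iff]
    exact hxn
  rw [scu_mem_gen] at h3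
  obtain ⟨k, h4, h5⟩ := h3
  simp only [Prod.pow_fst, Prod.pow_snd, toAdd_pow, nsmul_eq_mul] at h4 h5
  have hn' : (n : ℤ) ≠ 0 := by exact_mod_cast hn
  have hk : k = j := by
    have : (n : ℤ) * j = k * n := h5
    have h6 : (n : ℤ) * j = n * k := by rw [this, mul_comm]
    exact (mul_left_cancel₀ hn' h6).symm
  obtain ⟨n', rfl⟩ := hpn
  apply ha₀ ((a⁻¹ * a₀ ^ (-t)) ^ n')
  rw [← pow_mul, mul_comm n' p, mul_pow]
  have h7 : a₀ ^ j = (a ^ (p * n'))⁻¹ := by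
    rw [h4, hk, inv_zpow, inv_inv]
  have h8 : j = 1 + (↑(p * n') : ℤ) * t := by linarith
  have h9 : a₀ = a₀ ^ j * (a₀ ^ ((↑(p * n') : ℤ) * t))⁻¹ := by
    rw [h8, zpow_add, zpow_one]
    group
  rw [inv_pow, ← h7]
  conv_rhs => rw [h9]
  congr 1
  rw [← zpow_natCast (a₀ ^ (-t)), ← zpow_mul, ← zpow_neg]
  congr 1
  ring


theorem scu_map_comm_le {G H : Type*} [Group G] [Group H] (f : G →* H) :
    (commutator G).map f ≤ commutator H := by
  rw [commutator_def, commutator_def, Subgroup.map_commutator]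
  exact Subgroup.commutator_mono le_top le_top

/-- twisting a stem extension by an abelian extension of an abelian quotient -/
theorem scu_twist {Q : Type*} {Γ : Type u} {E : Type u} [Group Q] [Group Γ]
    {A C : Type*} [CommGroup A] [CommGroup E] [CommGroup C]
    (σ : Γ →* Q) (hσ : Cfsg.IsStemExtension σ) (e : σ.ker ≃* A) (ξ : Γ →* C)
    (hξ : σ.ker ≤ ξ.ker) (ι₀ : A →* E) (π₀ : E →* C) (hι : Function.Injective ι₀)
    (hπι : ∀ a, π₀ (ι₀ a) = 1) (hker : ∀ x, π₀ x = 1 → ∃ a, ι₀ a = x)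
    (hπs : Function.Surjective π₀) :
    ∃ (Γ₂ : Type u) (_ : Group Γ₂) (σ₂ : Γ₂ →* Q), Cfsg.IsStemExtension σ₂ ∧
      Nonempty (σ₂.ker ≃* A) ∧
      (∀ η : Γ →* Γ₂, σ₂.comp η = σ → ∃ y : Γ →* E, ∀ g, π₀ (y g) = ξ g) := by
  set X : Subgroup (Γ × E) := MonoidHom.eqLocus (ξ.comp (MonoidHom.fst Γ E))
    (π₀.comp (MonoidHom.snd Γ E)) with hX
  have hXmem : ∀ x : Γ × E, x ∈ X ↔ ξ x.1 = π₀ x.2 := fun x => Iff.rfl
  -- the antidiagonal
  set d : σ.ker →* X :=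
    { toFun := fun k => ⟨((k : Γ), (ι₀ (e k))⁻¹), by
        rw [hXmem]
        show ξ (k : Γ) = π₀ (ι₀ (e k))⁻¹
        rw [map_inv, hπι, inv_one]
        exact hξ k.2⟩
      map_one' := by
        apply Subtype.ext
        simp
      map_mul' := by
        intro k k'
        apply Subtype.ext
        apply Prod.ext
        · simp
        · simp [mul_comm] } with hd
  have hda : ∀ k : σ.ker, ((d k : X) : Γ × E) = ((k : Γ), (ι₀ (e k))⁻¹) := fun k => rfl
  set D : Subgroup X := d.range with hD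
  have hDn : D.Normal := by
    constructor
    rintro _ ⟨k, rfl⟩ g
    have : g * d k * g⁻¹ = d k := by
      apply Subtype.ext
      apply Prod.ext
      · show (g : Γ × E).1 * (k : Γ) * ((g : Γ × E).1)⁻¹ = (k : Γ)
        have := Subgroup.mem_center_iff.mp (hσ.2.1 k.2) (g : Γ × E).1
        rw [this, mul_inv_cancel_right]
      · show (g : Γ × E).2 * (ι₀ (e k))⁻¹ * ((g : Γ × E).2)⁻¹ = (ι₀ (e k))⁻¹
        rw [mul_comm, ← mul_assoc, inv_mul_cancel, one_mul]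
    rw [this]
    exact ⟨k, rfl⟩
  set q : X →* X ⧸ D := QuotientGroup.mk' D with hq
  set σ₂ : X ⧸ D →* Q := QuotientGroup.lift D (σ.comp ((MonoidHom.fst Γ E).comp X.subtype)) (by
    rintro _ ⟨k, rfl⟩
    rw [MonoidHom.mem_ker]
    show σ (k : Γ) = 1
    exact k.2) with hσ₂
  have hσ₂a : ∀ x : X, σ₂ (q x) = σ (x : Γ × E).1 := fun x => rfl
  -- the embedding of `A`
  set j : A →* X ⧸ D := q.comp
    { toFun := fun a => (⟨(1, ι₀ a), by rw [hXmem]; simp [hπι]⟩ : X)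
      map_one' := by apply Subtype.ext; simp
      map_mul' := by intro a b; apply Subtype.ext; simp } with hj
  have hja : ∀ a, j a = q ⟨(1, ι₀ a), by rw [hXmem]; simp [hπι]⟩ := fun a => rfl
  have hjinj : Function.Injective j := by
    rw [injective_iff_map_eq_one]
    intro a ha
    rw [hja, hq, QuotientGroup.mk'_apply, QuotientGroup.eq_one_iff] at ha
    obtain ⟨k, hk⟩ := ha
    have h1 := congrArg (fun x : X => (x : Γ × E)) hk
    simp only [hda] at h1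
    have h2 : (k : Γ) = 1 := congrArg Prod.fst h1
    have h3 : (ι₀ (e k))⁻¹ = ι₀ a := congrArg Prod.snd h1
    have h4 : k = 1 := Subtype.ext h2
    rw [h4, map_one, map_one, inv_one] at h3
    exact hι (h3.symm.trans (map_one ι₀).symm)
  have hjker : ∀ a, j a ∈ σ₂.ker := by
    intro a
    rw [MonoidHom.mem_ker, hja, hσ₂a]
    exact map_one σ
  -- every element of the kernel comes from `A`
  have hkey : ∀ (x : X), (x : Γ × E).1 ∈ σ.ker → ∃ a, j a = q x := by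
    intro x hx
    have h1 : π₀ (x : Γ × E).2 = 1 := by
      rw [← (hXmem _).mp x.2]
      exact hξ hx
    obtain ⟨a', ha'⟩ := hker _ h1
    refine ⟨e ⟨_, hx⟩ * a', ?_⟩
    rw [hja, hq, QuotientGroup.mk'_apply, QuotientGroup.mk'_apply]
    apply (QuotientGroup.eq).mpr
    refine ⟨⟨_, hx⟩, ?_⟩
    apply Subtype.ext
    apply Prod.ext
    · simp [hda]
    · simp only [hda]
      show (ι₀ (e ⟨_, hx⟩))⁻¹ = ((1 : Γ), ι₀ (e ⟨_, hx⟩ * a'))⁻¹.2 * (x : Γ × E).2
      rw [map_mul, ha']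
      simp
  have hjsurj : ∀ y ∈ σ₂.ker, ∃ a, j a = y := by
    intro y hy
    obtain ⟨x, rfl⟩ := QuotientGroup.mk'_surjective D y
    rw [MonoidHom.mem_ker] at hy
    have : σ (x : Γ × E).1 = 1 := hy
    exact hkey x this
  refine ⟨X ⧸ D, inferInstance, σ₂, ⟨?_, ?_, ?_⟩, ?_, ?_⟩
  · -- surjective
    intro qq
    obtain ⟨g, rfl⟩ := hσ.1 qq
    obtain ⟨x, hx⟩ := hπs (ξ g)
    exact ⟨q ⟨(g, x), (hXmem _).mpr hx.symm⟩, rfl⟩
  · -- central
    intro y hy
    obtain ⟨a, rfl⟩ := hjsurj y hy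
    rw [Subgroup.mem_center_iff]
    intro z
    obtain ⟨w, rfl⟩ := QuotientGroup.mk'_surjective D z
    rw [hja]
    show q w * q _ = q _ * q w
    rw [← map_mul, ← map_mul]
    congr 1
    apply Subtype.ext
    apply Prod.ext
    · simp
    · simp [mul_comm]
  · -- in the commutator subgroup
    intro y hy
    obtain ⟨a, rfl⟩ := hjsurj y hy
    obtain ⟨k, rfl⟩ := e.surjective a
    -- `(k, 1)` lies in the commutator subgroup of `X`
    set P : Subgroup Γ := ((commutator X) ⊓ ((MonoidHom.snd Γ E).comp X.subtype).ker).map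
      ((MonoidHom.fst Γ E).comp X.subtype) with hP
    have hPle : commutator Γ ≤ P := by
      rw [commutator_eq_closure, Subgroup.closure_le]
      rintro _ ⟨g, h, rfl⟩
      obtain ⟨x, hx⟩ := hπs (ξ g)
      obtain ⟨y, hy⟩ := hπs (ξ h)
      refine ⟨⁅(⟨(g, x), (hXmem _).mpr hx.symm⟩ : X), ⟨(h, y), (hXmem _).mpr hy.symm⟩⁆, ⟨?_, ?_⟩, ?_⟩
      · exact Subgroup.commutator_mem_commutator (Subgroup.mem_top _) (Subgroup.mem_top _)
      · show (⁅((g, x) : Γ × E), (h, y)⁆).2 = 1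
        simp [commutatorElement_def, mul_comm]
      · show (⁅((g, x) : Γ × E), (h, y)⁆).1 = ⁅g, h⁆
        simp [commutatorElement_def]
    obtain ⟨w, ⟨hw1, hw2⟩, hwk⟩ := hPle (hσ.2.2 k.2)
    have hw2' : (w : Γ × E).2 = 1 := hw2
    have hwk' : (w : Γ × E).1 = (k : Γ) := hwk
    have hjw : j (e k) = q w := by
      rw [hja, hq, QuotientGroup.mk'_apply, QuotientGroup.mk'_apply]
      apply (QuotientGroup.eq).mpr
      refine ⟨k, ?_⟩
      apply Subtype.ext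
      apply Prod.ext
      · simp [hda, hwk']
      · simp [hda, hw2']
    rw [hjw]
    exact scu_map_comm_le q ⟨w, hw1, rfl⟩
  · -- the kernel
    refine ⟨(MulEquiv.ofBijective (j.codRestrict σ₂.ker hjker) ⟨?_, ?_⟩).symm⟩
    · intro a b hab
      exact hjinj (congrArg Subtype.val hab)
    · rintro ⟨y, hy⟩
      obtain ⟨a, ha⟩ := hjsurj y hy
      exact ⟨a, Subtype.ext ha⟩
  · -- homomorphisms over `Q` give lifts
    intro η hη
    have hη' : ∀ g, σ₂ (η g) = σ g := fun g => DFunLike.congr_fun hη g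
    have hex : ∀ g : Γ, ∃ x : E, ∃ h : ((g, x) : Γ × E) ∈ X, q ⟨(g, x), h⟩ = η g := by
      intro g
      obtain ⟨w, hw⟩ := QuotientGroup.mk'_surjective D (η g)
      have h1 : σ (w : Γ × E).1 = σ g := by rw [← hσ₂a, ← hη' g]; exact congrArg σ₂ hw
      have hk : g⁻¹ * (w : Γ × E).1 ∈ σ.ker := by
        rw [MonoidHom.mem_ker, map_mul, map_inv, h1, inv_mul_cancel]
      have hmem : ((g, ι₀ (e ⟨_, hk⟩) * (w : Γ × E).2) : Γ × E) ∈ X := by
        rw [hXmem]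
        show ξ g = π₀ (ι₀ (e ⟨_, hk⟩) * (w : Γ × E).2)
        rw [map_mul, hπι, one_mul, ← (hXmem _).mp w.2]
        have := hξ hk
        rw [MonoidHom.mem_ker, map_mul, map_inv] at this
        exact (inv_mul_eq_one.mp this)
      refine ⟨_, hmem, ?_⟩
      rw [← hw, hq, QuotientGroup.mk'_apply, QuotientGroup.mk'_apply]
      apply (QuotientGroup.eq).mpr
      refine ⟨⟨_, hk⟩, ?_⟩
      apply Subtype.ext
      apply Prod.ext
      · simp [hda]
      · simp [hda]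
    have huniq : ∀ (g : Γ) (x x' : E) (h : ((g, x) : Γ × E) ∈ X) (h' : ((g, x') : Γ × E) ∈ X),
        q ⟨(g, x), h⟩ = q ⟨(g, x'), h'⟩ → x = x' := by
      intro g x x' h h' hqq
      rw [hq, QuotientGroup.mk'_apply, QuotientGroup.mk'_apply] at hqq
      obtain ⟨k, hk⟩ := (QuotientGroup.eq).mp hqq
      have h1 := congrArg (fun z : X => (z : Γ × E)) hk
      simp only [hda] at h1
      have h2 : (k : Γ) = g⁻¹ * g := congrArg Prod.fst h1
      have h3 : (ι₀ (e k))⁻¹ = x⁻¹ * x' := congrArg Prod.snd h1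
      have h4 : k = 1 := Subtype.ext (by rw [h2, inv_mul_cancel]; rfl)
      rw [h4, map_one, map_one, inv_one] at h3
      exact (inv_mul_eq_one.mp h3.symm)
    choose y hyX hy using hex
    refine ⟨MonoidHom.mk' y ?_, ?_⟩
    · intro g h
      have hmem : ((g * h, y g * y h) : Γ × E) ∈ X := by
        have := X.mul_mem (hyX g) (hyX h)
        exact this
      apply huniq (g * h) _ _ (hyX (g * h)) hmem
      rw [hy, map_mul, ← hy g, ← hy h, ← map_mul]
      rfl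
    · intro g
      exact ((hXmem _).mp (hyX g)).symm

open scoped IsMulCommutative in
/-- if all covering groups are isomorphic over `Q`, the orders are coprime -/
theorem scu_coprime_of_unique {Q : Type u} [Group Q] [Finite Q] {A : Type v} [CommGroup A]
    (hA : Cfsg.HasSchurMultiplier Q A)
    (huniq : ∀ (Γ₁ Γ₂ : Type u) [Group Γ₁] [Finite Γ₁] [Group Γ₂] [Finite Γ₂] (σ₁ : Γ₁ →* Q)
      (σ₂ : Γ₂ →* Q), Cfsg.IsStemExtension σ₁ → Cfsg.IsStemExtension σ₂ →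
      Nonempty (σ₁.ker ≃* A) → Nonempty (σ₂.ker ≃* A) →
      ∃ e : Γ₁ ≃* Γ₂, σ₂.comp e.toMonoidHom = σ₁) :
    Nat.Coprime (Nat.card (Abelianization Q)) (Nat.card A) := by
  obtain ⟨Γ, iΓ, fΓ, σ, hσ, ⟨eA⟩⟩ := hA.1
  have hfinA : Finite A := Finite.of_equiv _ eA.toEquiv
  by_contra hnc
  obtain ⟨p, hp, hpQ, hpA⟩ := Nat.Prime.not_coprime_iff_dvd.mp hnc
  have hcommK : IsMulCommutative σ.ker :=
    ⟨⟨fun a b => Subtype.ext (Subgroup.mem_center_iff.mp (hσ.2.1 b.2) a)⟩⟩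
  have hpK : p ∣ Nat.card σ.ker := by rw [Nat.card_congr eA.toEquiv]; exact hpA
  obtain ⟨n, hn0, hpn, ψ, a₁, ha₁n, hψa₁⟩ := scu_zmod_factor p hp hpQ
  obtain ⟨a₀, ha₀⟩ := scu_not_pth_power (A := σ.ker) p hp hpK
  set ξ : Γ →* Multiplicative (ZMod n) := ψ.comp (Abelianization.of.comp σ) with hξd
  have hξ : σ.ker ≤ ξ.ker := by
    intro k hk
    rw [MonoidHom.mem_ker, hξd, MonoidHom.comp_apply, MonoidHom.comp_apply,
      MonoidHom.mem_ker.mp hk, map_one, map_one]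
  obtain ⟨Γ₂, iΓ₂, σ₂, hσ₂, ⟨e₂⟩, hlift⟩ := scu_twist σ hσ (MulEquiv.refl σ.ker) ξ hξ
    (scuIota a₀ n) (scuPi a₀ n) (scu_iota_inj a₀ n hn0) (scu_pi_iota a₀ n) (scu_pi_ker a₀ n)
    (scu_pi_surj a₀ n)
  have fΓ₂ : Finite Γ₂ := scu_finite_of_ker σ₂ (Finite.of_equiv _ e₂.symm.toEquiv)
  obtain ⟨ε, hε⟩ := huniq Γ Γ₂ σ σ₂ hσ hσ₂ ⟨eA⟩ ⟨e₂.trans eA⟩
  obtain ⟨y, hy⟩ := hlift ε.toMonoidHom hε
  obtain ⟨q₁, hq₁⟩ : ∃ q₁ : Q, Abelianization.of q₁ = a₁ :=
    QuotientGroup.mk_surjective (s := commutator Q) a₁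
  obtain ⟨g₁, hg₁⟩ := hσ.1 q₁
  have h1 : ξ g₁ = Multiplicative.ofAdd 1 := by
    rw [hξd, MonoidHom.comp_apply, MonoidHom.comp_apply, hg₁, hq₁, hψa₁]
  have h2 : g₁ ^ n ∈ commutator Γ := by
    have h3 : σ (g₁ ^ n) ∈ commutator Q := by
      rw [← Abelianization.ker_of, MonoidHom.mem_ker, map_pow, map_pow, hg₁, hq₁, ha₁n]
    have h4 : commutator Q = (commutator Γ).map σ := by
      rw [commutator_def, commutator_def, Subgroup.map_commutator, ← MonoidHom.range_eq_map,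
        MonoidHom.range_eq_top_of_surjective σ hσ.1]
    rw [h4] at h3
    obtain ⟨c, hc, hcg⟩ := h3
    have h5 : c⁻¹ * g₁ ^ n ∈ σ.ker := by
      rw [MonoidHom.mem_ker, map_mul, map_inv, hcg, inv_mul_cancel]
    have h6 : g₁ ^ n = c * (c⁻¹ * g₁ ^ n) := by group
    rw [h6]
    exact Subgroup.mul_mem _ hc (hσ.2.2 h5)
  have h3 : y g₁ ^ n = 1 := by
    rw [← map_pow]
    exact Abelianization.commutator_subset_ker y h2
  exact scu_nonsplit a₀ n hn0 p hpn ha₀ (y g₁) ((hy g₁).trans h1) h3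

/-- **Uniqueness of Schur covering groups up to isomorphism over `Q`.** -/
theorem scu_main {Q : Type u} [Group Q] [Finite Q] {A : Type v} [CommGroup A]
    (hA : Cfsg.HasSchurMultiplier Q A) :
    (∀ (Γ₁ Γ₂ : Type u) [Group Γ₁] [Finite Γ₁] [Group Γ₂] [Finite Γ₂] (σ₁ : Γ₁ →* Q)
      (σ₂ : Γ₂ →* Q), Cfsg.IsStemExtension σ₁ → Cfsg.IsStemExtension σ₂ →
      Nonempty (σ₁.ker ≃* A) → Nonempty (σ₂.ker ≃* A) →
      ∃ e : Γ₁ ≃* Γ₂, σ₂.comp e.toMonoidHom = σ₁) ↔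
    Nat.Coprime (Nat.card (Abelianization Q)) (Nat.card A) := by
  constructor
  · intro h
    exact scu_coprime_of_unique hA h
  · intro hcop Γ₁ Γ₂ _ _ _ _ σ₁ σ₂ h₁ h₂ ⟨e₁⟩ ⟨e₂⟩
    exact scu_unique_of_coprime hA hcop σ₁ σ₂ h₁ h₂ e₁ e₂

end Cfsg.Agent.Lib.helper23
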