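import Mathlib
import Cfsg.Prelude.Def_KGroupFacts
import Cfsg.Agent.Lib.helper23.SchurCoverE

set_option autoImplicit false

namespace Cfsg.Agent.Lib.helper23

open scoped commutatorElement

universe u v w

theorem scp_comm_mul {Δ : Type*} [Group Δ] (d x y : Δ) (hy : ⁅y, d⁆ ∈ Subgroup.center Δ) :
    ⁅x * y, d⁆ = ⁅x, d⁆ * ⁅y, d⁆ := by
  have h1 : ∀ g : Δ, g * ⁅y, d⁆ = ⁅y, d⁆ * g := Subgroup.mem_center_iff.mp hy
  calc ⁅x * y, d⁆ = x * ⁅y, d⁆ * (d * x⁻¹ * d⁻¹) := by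
        rw [commutatorElement_def, commutatorElement_def]; group
    _ = ⁅y, d⁆ * x * (d * x⁻¹ * d⁻¹) := by rw [h1 x]
    _ = ⁅y, d⁆ * ⁅x, d⁆ := by rw [commutatorElement_def x d]; group
    _ = ⁅x, d⁆ * ⁅y, d⁆ := (h1 _).symm

/-- `x ↦ [x, d]` as a homomorphism into the centre -/
def scpCommHom {Δ : Type*} [Group Δ] (H : Subgroup Δ) (d : Δ)
    (h : ∀ x ∈ H, ⁅x, d⁆ ∈ Subgroup.center Δ) : H →* Subgroup.center Δ where
  toFun x := ⟨⁅(x : Δ), d⁆, h x x.2⟩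
  map_one' := Subtype.ext (by simp)
  map_mul' x y := Subtype.ext (scp_comm_mul d x y (h y y.2))

/-- commutators with `d` have order dividing the order of the abelianization of the quotient -/
theorem scp_pow_eq_one {Δ P : Type*} [Group Δ] [Group P] [Finite P] (H : Subgroup Δ) (d : Δ)
    (h : ∀ x ∈ H, ⁅x, d⁆ ∈ Subgroup.center Δ) (κ : H →* P) (hκ : Function.Surjective κ)
    (hk : ∀ x : H, x ∈ κ.ker → ⁅(x : Δ), d⁆ = 1) (x : H) :
    ⁅(x : Δ), d⁆ ^ Nat.card (Abelianization P) = 1 := by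
  set n := Nat.card (Abelianization P) with hn
  set g := scpCommHom H d h with hg
  have hgx : ∀ y : H, ((g y : Subgroup.center Δ) : Δ) = ⁅(y : Δ), d⁆ := fun y => rfl
  have h1 : κ x ^ n ∈ commutator P := by
    rw [← Abelianization.ker_of, MonoidHom.mem_ker, map_pow, hn]
    exact pow_card_eq_one'
  have h2 : commutator P = (commutator H).map κ := by
    rw [commutator_def, commutator_def, Subgroup.map_commutator, ← MonoidHom.range_eq_map,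
      MonoidHom.range_eq_top_of_surjective κ hκ]
  rw [h2] at h1
  obtain ⟨y, hy, hyx⟩ := h1
  have hgy : g y = 1 := by
    have hle : commutator H ≤ g.ker := by
      rw [commutator_eq_closure, Subgroup.closure_le]
      rintro _ ⟨a, b, rfl⟩
      rw [SetLike.mem_coe, MonoidHom.mem_ker, map_commutatorElement,
        commutatorElement_eq_one_iff_mul_comm]
      exact Subtype.ext (Subgroup.mem_center_iff.mp (g b).2 (g a))
    exact hle hy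
  have hk' : y⁻¹ * x ^ n ∈ κ.ker := by
    rw [MonoidHom.mem_ker, map_mul, map_inv, map_pow, hyx, inv_mul_cancel]
  have hgk : g (y⁻¹ * x ^ n) = 1 := Subtype.ext (by rw [hgx]; exact hk _ hk')
  have h3 : g x ^ n = 1 := by
    have h4 : x ^ n = y * (y⁻¹ * x ^ n) := by group
    rw [← map_pow, h4, map_mul, hgy, hgk, one_mul]
  have h5 := congrArg (fun z : Subgroup.center Δ => (z : Δ)) h3
  simpa [hgx] using h5

/-- the product of two stem extensions is a stem extension of the product -/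
theorem scp_prod_cover {Q₁ Q₂ Γ₁ Γ₂ A B : Type*} [Group Q₁] [Group Q₂] [Group Γ₁] [Group Γ₂]
    [CommGroup A] [CommGroup B] (σ₁ : Γ₁ →* Q₁) (σ₂ : Γ₂ →* Q₂)
    (h₁ : Cfsg.IsStemExtension σ₁) (h₂ : Cfsg.IsStemExtension σ₂)
    (e₁ : σ₁.ker ≃* A) (e₂ : σ₂.ker ≃* B) :
    Cfsg.IsStemExtension (σ₁.prodMap σ₂) ∧ Nonempty ((σ₁.prodMap σ₂).ker ≃* A × B) := by
  have hker : (σ₁.prodMap σ₂).ker = σ₁.ker.prod σ₂.ker := MonoidHom.ker_prodMap σ₁ σ₂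
  refine ⟨⟨?_, ?_, ?_⟩, ?_⟩
  · rw [MonoidHom.coe_prodMap]
    exact h₁.1.prodMap h₂.1
  · rw [hker, Subgroup.center_prod]
    intro x hx
    rw [Subgroup.mem_prod] at hx ⊢
    exact ⟨h₁.2.1 hx.1, h₂.2.1 hx.2⟩
  · rw [hker]
    have hc : commutator (Γ₁ × Γ₂) = (commutator Γ₁).prod (commutator Γ₂) := by
      rw [commutator_def, ← Subgroup.top_prod_top, Subgroup.commutator_prod_prod,
        ← commutator_def, ← commutator_def]
    rw [hc]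
    intro x hx
    rw [Subgroup.mem_prod] at hx ⊢
    exact ⟨h₁.2.2 hx.1, h₂.2.2 hx.2⟩
  · exact ⟨((MulEquiv.subgroupCongr hker).trans (Subgroup.prodEquiv σ₁.ker σ₂.ker)).trans
      (MulEquiv.prodCongr e₁ e₂)⟩

/-- every stem extension of a product with coprime abelianizations has kernel an image of the
product of the multipliers -/
theorem scp_prod_image {Q₁ : Type u} {Q₂ : Type v} [Group Q₁] [Group Q₂] [Finite Q₁] [Finite Q₂]
    {A B : Type w} [CommGroup A] [CommGroup B] (hA : Cfsg.HasSchurMultiplier Q₁ A)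
    (hB : Cfsg.HasSchurMultiplier Q₂ B)
    (hcop : Nat.Coprime (Nat.card (Abelianization Q₁)) (Nat.card (Abelianization Q₂)))
    {Δ : Type*} [Group Δ] (τ : Δ →* Q₁ × Q₂) (hτ : Cfsg.IsStemExtension τ) :
    ∃ π : A × B →* τ.ker, Function.Surjective π := by
  set Δ₁ : Subgroup Δ := (Subgroup.prod (⊤ : Subgroup Q₁) (⊥ : Subgroup Q₂)).comap τ with hΔ₁
  set Δ₂ : Subgroup Δ := (Subgroup.prod (⊥ : Subgroup Q₁) (⊤ : Subgroup Q₂)).comap τ with hΔ₂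
  have hmem₁ : ∀ d, d ∈ Δ₁ ↔ (τ d).2 = 1 := by
    intro d
    rw [hΔ₁, Subgroup.mem_comap, Subgroup.mem_prod]
    simp [Subgroup.mem_bot]
  have hmem₂ : ∀ d, d ∈ Δ₂ ↔ (τ d).1 = 1 := by
    intro d
    rw [hΔ₂, Subgroup.mem_comap, Subgroup.mem_prod]
    simp [Subgroup.mem_bot]
  set τ₁ : Δ₁ →* Q₁ := (MonoidHom.fst Q₁ Q₂).comp (τ.comp Δ₁.subtype) with hτ₁
  set τ₂ : Δ₂ →* Q₂ := (MonoidHom.snd Q₁ Q₂).comp (τ.comp Δ₂.subtype) with hτ₂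
  have hτ₁a : ∀ x : Δ₁, τ₁ x = (τ (x : Δ)).1 := fun x => rfl
  have hτ₂a : ∀ x : Δ₂, τ₂ x = (τ (x : Δ)).2 := fun x => rfl
  have hτ₁s : Function.Surjective τ₁ := by
    intro q
    obtain ⟨d, hd⟩ := hτ.1 (q, 1)
    exact ⟨⟨d, (hmem₁ d).mpr (by rw [hd])⟩, by rw [hτ₁a]; show (τ d).1 = q; rw [hd]⟩
  have hτ₂s : Function.Surjective τ₂ := by
    intro q
    obtain ⟨d, hd⟩ := hτ.1 (1, q)
    exact ⟨⟨d, (hmem₂ d).mpr (by rw [hd])⟩, by rw [hτ₂a]; show (τ d).2 = q; rw [hd]⟩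
  have hK₁ : ∀ x : Δ₁, x ∈ τ₁.ker → (x : Δ) ∈ τ.ker := by
    intro x hx
    rw [MonoidHom.mem_ker] at hx ⊢
    exact Prod.ext (by rw [← hτ₁a, hx]; rfl) ((hmem₁ x).mp x.2)
  have hK₂ : ∀ x : Δ₂, x ∈ τ₂.ker → (x : Δ) ∈ τ.ker := by
    intro x hx
    rw [MonoidHom.mem_ker] at hx ⊢
    exact Prod.ext ((hmem₂ x).mp x.2) (by rw [← hτ₂a, hx]; rfl)
  have hcomm12 : ∀ d₁ ∈ Δ₁, ∀ d₂ ∈ Δ₂, ⁅d₁, d₂⁆ ∈ τ.ker := by
    intro d₁ hd₁ d₂ hd₂
    rw [MonoidHom.mem_ker, map_commutatorElement]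
    have h1 := (hmem₁ d₁).mp hd₁
    have h2 := (hmem₂ d₂).mp hd₂
    apply Prod.ext
    · simp [commutatorElement_def, h2]
    · simp [commutatorElement_def, h1]
  have hcenter_comm : ∀ k ∈ τ.ker, ∀ d : Δ, ⁅k, d⁆ = 1 := by
    intro k hk d
    rw [commutatorElement_eq_one_iff_mul_comm]
    exact (Subgroup.mem_center_iff.mp (hτ.2.1 hk) d).symm
  have hcommute : ∀ d₁ ∈ Δ₁, ∀ d₂ ∈ Δ₂, d₁ * d₂ = d₂ * d₁ := by
    intro d₁ hd₁ d₂ hd₂
    rw [← commutatorElement_eq_one_iff_mul_comm]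
    have e1 := scp_pow_eq_one Δ₁ d₂ (fun x hx => hτ.2.1 (hcomm12 x hx d₂ hd₂)) τ₁ hτ₁s
      (fun x hx => hcenter_comm _ (hK₁ x hx) d₂) ⟨d₁, hd₁⟩
    have e2 := scp_pow_eq_one Δ₂ d₁ (fun y hy => by
        rw [← commutatorElement_inv]
        exact Subgroup.inv_mem _ (hτ.2.1 (hcomm12 d₁ hd₁ y hy))) τ₂ hτ₂s
      (fun x hx => hcenter_comm _ (hK₂ x hx) d₁) ⟨d₂, hd₂⟩
    have e2' : ⁅d₁, d₂⁆ ^ Nat.card (Abelianization Q₂) = 1 := by
      rw [← commutatorElement_inv d₂ d₁, inv_pow]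
      simp only at e2
      rw [e2, inv_one]
    have h3 := pow_gcd_eq_one.mpr ⟨e1, e2'⟩
    rw [Nat.Coprime] at hcop
    rw [hcop, pow_one] at h3
    exact h3
  set μ : Δ₁ × Δ₂ →* Δ := MonoidHom.noncommCoprod Δ₁.subtype Δ₂.subtype
    (fun a b => hcommute a a.2 b b.2) with hμ
  have hμa : ∀ p : Δ₁ × Δ₂, μ p = (p.1 : Δ) * (p.2 : Δ) := fun p =>
    MonoidHom.noncommCoprod_apply _ _ _ p
  have hμs : Function.Surjective μ := by
    intro d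
    obtain ⟨d₁, hd₁⟩ := hτ.1 ((τ d).1, 1)
    have h1 : d₁ ∈ Δ₁ := (hmem₁ d₁).mpr (by rw [hd₁])
    have h2 : d₁⁻¹ * d ∈ Δ₂ := by
      rw [hmem₂, map_mul, map_inv, hd₁]
      simp
    refine ⟨(⟨d₁, h1⟩, ⟨d₁⁻¹ * d, h2⟩), ?_⟩
    rw [hμa]
    simp
  have hcomΔ : commutator Δ = ((commutator Δ₁).prod (commutator Δ₂)).map μ := by
    have hc : commutator (Δ₁ × Δ₂) = (commutator Δ₁).prod (commutator Δ₂) := by
      rw [commutator_def, ← Subgroup.top_prod_top, Subgroup.commutator_prod_prod,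
        ← commutator_def, ← commutator_def]
    rw [← hc, commutator_def, commutator_def, Subgroup.map_commutator, ← MonoidHom.range_eq_map,
      MonoidHom.range_eq_top_of_surjective μ hμs]
  -- decomposition of kernel elements
  have hdecomp : ∀ k ∈ τ.ker, ∃ y₁ : Δ₁, ∃ y₂ : Δ₂, y₁ ∈ commutator Δ₁ ∧ y₂ ∈ commutator Δ₂ ∧
      y₁ ∈ τ₁.ker ∧ y₂ ∈ τ₂.ker ∧ k = (y₁ : Δ) * (y₂ : Δ) := by
    intro k hk
    have h1 : k ∈ commutator Δ := hτ.2.2 hk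
    rw [hcomΔ] at h1
    obtain ⟨⟨y₁, y₂⟩, hy, hyk⟩ := h1
    rw [SetLike.mem_coe, Subgroup.mem_prod] at hy
    rw [hμa] at hyk
    simp only at hyk hy
    have h2 : τ (y₁ : Δ) * τ (y₂ : Δ) = 1 := by
      rw [← map_mul, hyk]; exact hk
    have h3 := congrArg Prod.fst h2
    have h4 := congrArg Prod.snd h2
    simp only [Prod.fst_mul, Prod.snd_mul, Prod.fst_one, Prod.snd_one] at h3 h4
    rw [(hmem₂ y₂).mp y₂.2, mul_one] at h3
    rw [(hmem₁ y₁).mp y₁.2, one_mul] at h4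
    exact ⟨y₁, y₂, hy.1, hy.2, h3, h4, hyk.symm⟩
  -- the two maps
  have hker₁ : τ₁.ker ≤ Subgroup.center Δ₁ := by
    intro x hx
    rw [Subgroup.mem_center_iff]
    intro g
    exact Subtype.ext (Subgroup.mem_center_iff.mp (hτ.2.1 (hK₁ x hx)) (g : Δ))
  have hker₂ : τ₂.ker ≤ Subgroup.center Δ₂ := by
    intro x hx
    rw [Subgroup.mem_center_iff]
    intro g
    exact Subtype.ext (Subgroup.mem_center_iff.mp (hτ.2.1 (hK₂ x hx)) (g : Δ))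
  obtain ⟨πA, hπA⟩ := scv_mult_to_central hA τ₁ hτ₁s hker₁
  obtain ⟨πB, hπB⟩ := scv_mult_to_central hB τ₂ hτ₂s hker₂
  let ι₁ : τ₁.ker →* τ.ker := (Δ₁.subtype.comp τ₁.ker.subtype).codRestrict τ.ker
    (fun x => hK₁ x.1 x.2)
  let ι₂ : τ₂.ker →* τ.ker := (Δ₂.subtype.comp τ₂.ker.subtype).codRestrict τ.ker
    (fun x => hK₂ x.1 x.2)
  set pA : A →* τ.ker := ι₁.comp πA with hpA
  set pB : B →* τ.ker := ι₂.comp πB with hpB
  have hcommAB : ∀ (a : A) (b : B), Commute (pA a) (pB b) := by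
    intro a b
    exact Subtype.ext (Subgroup.mem_center_iff.mp (hτ.2.1 (pB b).2) (pA a : Δ))
  refine ⟨MonoidHom.noncommCoprod pA pB hcommAB, ?_⟩
  rintro ⟨k, hk⟩
  obtain ⟨y₁, y₂, hy₁c, hy₂c, hy₁k, hy₂k, hky⟩ := hdecomp k hk
  obtain ⟨a, ha⟩ := (hπA ⟨y₁, hy₁k⟩).mpr hy₁c
  obtain ⟨b, hb⟩ := (hπB ⟨y₂, hy₂k⟩).mpr hy₂c
  refine ⟨(a, b), ?_⟩
  rw [MonoidHom.noncommCoprod_apply]
  apply Subtype.ext
  show ((pA a : τ.ker) : Δ) * ((pB b : τ.ker) : Δ) = k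
  have h1 : ((pA a : τ.ker) : Δ) = (y₁ : Δ) := by
    show (((πA a : τ₁.ker) : Δ₁) : Δ) = (y₁ : Δ)
    rw [ha]
  have h2 : ((pB b : τ.ker) : Δ) = (y₂ : Δ) := by
    show (((πB b : τ₂.ker) : Δ₂) : Δ) = (y₂ : Δ)
    rw [hb]
  rw [h1, h2, hky]

/-- **Schur multiplier of a direct product with coprime abelianizations.** -/
theorem scp_main {Q₁ : Type u} {Q₂ : Type v} [Group Q₁] [Group Q₂] [Finite Q₁] [Finite Q₂]
    {A B : Type w} [CommGroup A] [CommGroup B] (hA : Cfsg.HasSchurMultiplier Q₁ A)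
    (hB : Cfsg.HasSchurMultiplier Q₂ B)
    (hcop : Nat.Coprime (Nat.card (Abelianization Q₁)) (Nat.card (Abelianization Q₂))) :
    Cfsg.HasSchurMultiplier (Q₁ × Q₂) (A × B) := by
  refine ⟨?_, ?_⟩
  · obtain ⟨Γ₁, i₁, f₁, σ₁, h₁, ⟨e₁⟩⟩ := hA.1
    obtain ⟨Γ₂, i₂, f₂, σ₂, h₂, ⟨e₂⟩⟩ := hB.1
    obtain ⟨hstem, hiso⟩ := scp_prod_cover σ₁ σ₂ h₁ h₂ e₁ e₂
    exact ⟨Γ₁ × Γ₂, inferInstance, inferInstance, σ₁.prodMap σ₂, hstem, hiso⟩
  · intro Δ _ _ τ hτ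
    exact scp_prod_image hA hB hcop τ hτ

end Cfsg.Agent.Lib.helper23
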