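import Mathlib
import Cfsg.Prelude.Def_KGroupFacts
import Cfsg.Agent.Lib.helper23.SchurProd

set_option autoImplicit false

namespace Cfsg.Agent.Lib.helper23

open scoped commutatorElement TensorProduct

universe u v w

/-- the tensor product of two finite abelian groups is finite -/
theorem sdp_tensor_finite (M N : Type*) [AddCommGroup M] [AddCommGroup N] [Finite M] [Finite N] :
    Finite (M ⊗[ℤ] N) := by
  have h1 : Module.Finite ℤ M := Module.Finite.of_finite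
  have h2 : Module.Finite ℤ N := Module.Finite.of_finite
  have h3 : Module.Finite ℤ (M ⊗[ℤ] N) := Module.Finite.tensorProduct ℤ M N
  apply Module.finite_of_fg_torsion
  intro x
  have hpos : (Nat.card M : ℤ) ≠ 0 := by
    exact_mod_cast Nat.card_pos.ne'
  refine ⟨⟨(Nat.card M : ℤ), mem_nonZeroDivisors_of_ne_zero hpos⟩, ?_⟩
  show (Nat.card M : ℤ) • x = 0
  induction x using TensorProduct.induction_on with
  | zero => simp
  | tmul m n =>
    rw [TensorProduct.smul_tmul', Nat.cast_smul_eq_nsmul, card_nsmul_eq_zero',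
      TensorProduct.zero_tmul]
  | add x y hx hy => rw [smul_add, hx, hy, add_zero]

/-- shear automorphisms of `N × T` attached to a pairing -/
def sdpShear {G N T : Type*} [Group G] [Group N] [CommGroup T] (β : G →* (N →* T)) :
    G →* MulAut (N × T) where
  toFun g :=
    { toFun := fun x => (x.1, x.2 * β g x.1)
      invFun := fun x => (x.1, x.2 * (β g x.1)⁻¹)
      left_inv := fun x => by ext <;> simp
      right_inv := fun x => by ext <;> simp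
      map_mul' := fun x y => by
        ext
        · simp
        · simp only [Prod.snd_mul, Prod.fst_mul, map_mul]
          exact mul_mul_mul_comm _ _ _ _ }
  map_one' := by
    ext x <;> simp
  map_mul' a b := by
    ext x
    · simp
    · show x.2 * β (a * b) x.1 = x.2 * β b x.1 * β a x.1
      rw [map_mul, MonoidHom.mul_apply, mul_assoc, mul_comm (β a x.1)]

theorem sdpShear_apply {G N T : Type*} [Group G] [Group N] [CommGroup T] (β : G →* (N →* T))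
    (g : G) (x : N × T) : sdpShear β g x = (x.1, x.2 * β g x.1) := rfl

/-- the tensor pairing -/
def sdpTensorHom {G₁ G₂ M₁ M₂ : Type*} [Group G₁] [Group G₂] [CommGroup M₁] [CommGroup M₂]
    (ψ₁ : G₁ →* M₁) (ψ₂ : G₂ →* M₂) :
    G₁ →* (G₂ →* Multiplicative (Additive M₁ ⊗[ℤ] Additive M₂)) :=
  MonoidHom.mk' (fun g₁ => MonoidHom.mk' (fun g₂ =>
      Multiplicative.ofAdd (Additive.ofMul (ψ₁ g₁) ⊗ₜ[ℤ] Additive.ofMul (ψ₂ g₂)))
    (by intro a b; rw [map_mul, ofMul_mul, TensorProduct.tmul_add, ofAdd_add]))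
    (by
      intro a b
      ext g₂
      show Multiplicative.ofAdd (Additive.ofMul (ψ₁ (a * b)) ⊗ₜ[ℤ] Additive.ofMul (ψ₂ g₂)) =
        Multiplicative.ofAdd (Additive.ofMul (ψ₁ a) ⊗ₜ[ℤ] Additive.ofMul (ψ₂ g₂)) *
        Multiplicative.ofAdd (Additive.ofMul (ψ₁ b) ⊗ₜ[ℤ] Additive.ofMul (ψ₂ g₂))
      rw [map_mul, ofMul_mul, TensorProduct.add_tmul, ofAdd_add])

theorem sdpTensorHom_apply {G₁ G₂ M₁ M₂ : Type*} [Group G₁] [Group G₂] [CommGroup M₁]
    [CommGroup M₂] (ψ₁ : G₁ →* M₁) (ψ₂ : G₂ →* M₂) (g₁ : G₁) (g₂ : G₂) :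
    sdpTensorHom ψ₁ ψ₂ g₁ g₂ =
      Multiplicative.ofAdd (Additive.ofMul (ψ₁ g₁) ⊗ₜ[ℤ] Additive.ofMul (ψ₂ g₂)) := rfl

theorem sdp_map_comm_le {G H : Type*} [Group G] [Group H] (f : G →* H) :
    (commutator G).map f ≤ commutator H := by
  rw [commutator_def, commutator_def, Subgroup.map_commutator]
  exact Subgroup.commutator_mono le_top le_top

/-- existence of a stem extension of the product with kernel `A × B × T` -/
theorem sdp_exists_cover {Q₁ : Type u} {Q₂ : Type v} [Group Q₁] [Group Q₂] [Finite Q₁] [Finite Q₂]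
    {Γ₁ : Type u} {Γ₂ : Type v} [Group Γ₁] [Group Γ₂] [Finite Γ₁] [Finite Γ₂]
    {A B : Type w} [CommGroup A] [CommGroup B]
    (σ₁ : Γ₁ →* Q₁) (σ₂ : Γ₂ →* Q₂) (h₁ : Cfsg.IsStemExtension σ₁) (h₂ : Cfsg.IsStemExtension σ₂)
    (e₁ : σ₁.ker ≃* A) (e₂ : σ₂.ker ≃* B) :
    ∃ (Γ : Type (max u v)) (_ : Group Γ) (_ : Finite Γ) (τ : Γ →* Q₁ × Q₂),
      Cfsg.IsStemExtension τ ∧ Nonempty (τ.ker ≃* A × B × Multiplicative
        (Additive (Abelianization Q₁) ⊗[ℤ] Additive (Abelianization Q₂))) := by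
  set T := Multiplicative (Additive (Abelianization Q₁) ⊗[ℤ] Additive (Abelianization Q₂)) with hT
  set ψ₁ : Γ₁ →* Abelianization Q₁ := Abelianization.of.comp σ₁ with hψ₁
  set ψ₂ : Γ₂ →* Abelianization Q₂ := Abelianization.of.comp σ₂ with hψ₂
  set β : Γ₁ →* (Γ₂ →* T) := sdpTensorHom ψ₁ ψ₂ with hβ
  set φ : Γ₁ →* MulAut (Γ₂ × T) := sdpShear β with hφ
  have hfinT : Finite T := by
    have := sdp_tensor_finite (Additive (Abelianization Q₁)) (Additive (Abelianization Q₂))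
    exact Finite.of_equiv _ Multiplicative.ofAdd
  have hfin : Finite ((Γ₂ × T) ⋊[φ] Γ₁) :=
    Finite.of_equiv _ SemidirectProduct.equivProd.symm
  -- the pairing vanishes on the kernels
  have hβ1 : ∀ k ∈ σ₁.ker, β k = 1 := by
    intro k hk
    ext g₂
    rw [hβ, sdpTensorHom_apply]
    have : ψ₁ k = 1 := by rw [hψ₁, MonoidHom.comp_apply, MonoidHom.mem_ker.mp hk, map_one]
    rw [this, ofMul_one, TensorProduct.zero_tmul]
    rfl
  have hβ2 : ∀ g₁, ∀ k ∈ σ₂.ker, β g₁ k = 1 := by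
    intro g₁ k hk
    rw [hβ, sdpTensorHom_apply]
    have : ψ₂ k = 1 := by rw [hψ₂, MonoidHom.comp_apply, MonoidHom.mem_ker.mp hk, map_one]
    rw [this, ofMul_one, TensorProduct.tmul_zero]
    rfl
  set τ₂ : (Γ₂ × T) ⋊[φ] Γ₁ →* Q₂ := SemidirectProduct.lift (σ₂.comp (MonoidHom.fst Γ₂ T)) 1
    (by
      intro g
      ext x
      simp [hφ, sdpShear_apply]) with hτ₂
  set τ : (Γ₂ × T) ⋊[φ] Γ₁ →* Q₁ × Q₂ :=
    (σ₁.comp SemidirectProduct.rightHom).prod τ₂ with hτ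
  have hτa : ∀ x : (Γ₂ × T) ⋊[φ] Γ₁, τ x = (σ₁ x.right, σ₂ x.left.1) := by
    intro x
    rw [hτ, MonoidHom.prod_apply]
    apply Prod.ext
    · rfl
    · show τ₂ x = σ₂ x.left.1
      rw [hτ₂]
      simp [SemidirectProduct.lift]
  have hmem : ∀ x : (Γ₂ × T) ⋊[φ] Γ₁, x ∈ τ.ker ↔ x.right ∈ σ₁.ker ∧ x.left.1 ∈ σ₂.ker := by
    intro x
    rw [MonoidHom.mem_ker, hτa, Prod.mk_eq_one, MonoidHom.mem_ker, MonoidHom.mem_ker]
  have hφa : ∀ (g : Γ₁) (n : Γ₂ × T), φ g n = (n.1, n.2 * β g n.1) := fun g n => rfl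
  refine ⟨(Γ₂ × T) ⋊[φ] Γ₁, inferInstance, hfin, τ, ⟨?_, ?_, ?_⟩, ?_⟩
  · -- surjective
    rintro ⟨q₁, q₂⟩
    obtain ⟨g₁, hg₁⟩ := h₁.1 q₁
    obtain ⟨g₂, hg₂⟩ := h₂.1 q₂
    refine ⟨⟨(g₂, 1), g₁⟩, ?_⟩
    rw [hτa]
    simp [hg₁, hg₂]
  · -- central
    intro x hx
    rw [hmem] at hx
    rw [Subgroup.mem_center_iff]
    intro y
    have c1 := Subgroup.mem_center_iff.mp (h₁.2.1 hx.1) y.right
    have c2 := Subgroup.mem_center_iff.mp (h₂.2.1 hx.2) y.left.1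
    apply SemidirectProduct.ext
    · rw [SemidirectProduct.mul_left, SemidirectProduct.mul_left, hφa, hφa, hβ1 _ hx.1,
        hβ2 _ _ hx.2]
      apply Prod.ext
      · simpa using c2
      · simp [mul_comm]
    · rw [SemidirectProduct.mul_right, SemidirectProduct.mul_right]
      exact c1
  · -- inside the commutator subgroup
    intro x hx
    rw [hmem] at hx
    have hdec : x = SemidirectProduct.inl ((x.left.1, 1) : Γ₂ × T) *
        SemidirectProduct.inl ((1, x.left.2) : Γ₂ × T) * SemidirectProduct.inr x.right := by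
      rw [← map_mul, ← SemidirectProduct.mk_eq_inl_mul_inr]
      simp
    rw [hdec]
    refine Subgroup.mul_mem _ (Subgroup.mul_mem _ ?_ ?_) ?_
    · have := sdp_map_comm_le ((SemidirectProduct.inl : Γ₂ × T →* (Γ₂ × T) ⋊[φ] Γ₁).comp
        (MonoidHom.inl Γ₂ T))
      exact this ⟨x.left.1, h₂.2.2 hx.2, rfl⟩
    · -- the tensor part
      have key : ∀ t : T, (SemidirectProduct.inl ((1, t) : Γ₂ × T) : (Γ₂ × T) ⋊[φ] Γ₁) ∈
          commutator ((Γ₂ × T) ⋊[φ] Γ₁) := by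
        intro t
        have hpure : ∀ (g₁ : Γ₁) (g₂ : Γ₂),
            (SemidirectProduct.inl ((1, β g₁ g₂) : Γ₂ × T) : (Γ₂ × T) ⋊[φ] Γ₁) ∈
              commutator ((Γ₂ × T) ⋊[φ] Γ₁) := by
          intro g₁ g₂
          have e : (SemidirectProduct.inl ((1, β g₁ g₂) : Γ₂ × T) : (Γ₂ × T) ⋊[φ] Γ₁) =
              ⁅(SemidirectProduct.inr g₁ : (Γ₂ × T) ⋊[φ] Γ₁),
                SemidirectProduct.inl ((g₂, 1) : Γ₂ × T)⁆ := by
            rw [commutatorElement_def, ← map_inv SemidirectProduct.inr, ← SemidirectProduct.inl_aut,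
              ← map_inv, ← map_mul, hφa]
            congr 1
            apply Prod.ext
            · simp
            · simp
          rw [e]
          exact Subgroup.commutator_mem_commutator (Subgroup.mem_top _) (Subgroup.mem_top _)
        have hmul : ∀ t s : T, (SemidirectProduct.inl ((1, t * s) : Γ₂ × T) :
            (Γ₂ × T) ⋊[φ] Γ₁) = SemidirectProduct.inl ((1, t) : Γ₂ × T) *
              SemidirectProduct.inl ((1, s) : Γ₂ × T) := by
          intro t s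
          rw [← map_mul]
          congr 1
          apply Prod.ext <;> simp
        have hall : ∀ z : Additive (Abelianization Q₁) ⊗[ℤ] Additive (Abelianization Q₂),
            (SemidirectProduct.inl ((1, Multiplicative.ofAdd z) : Γ₂ × T) :
              (Γ₂ × T) ⋊[φ] Γ₁) ∈ commutator ((Γ₂ × T) ⋊[φ] Γ₁) := by
          intro z
          induction z using TensorProduct.induction_on with
          | zero =>
            have : ((1, Multiplicative.ofAdd (0 : Additive (Abelianization Q₁) ⊗[ℤ]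
                Additive (Abelianization Q₂))) : Γ₂ × T) = 1 := rfl
            rw [this, map_one]
            exact Subgroup.one_mem _
          | tmul m n =>
            obtain ⟨q₁, hq₁⟩ : ∃ q₁ : Q₁, Abelianization.of q₁ = Additive.toMul m :=
              QuotientGroup.mk_surjective (s := commutator Q₁) (Additive.toMul m)
            obtain ⟨q₂, hq₂⟩ : ∃ q₂ : Q₂, Abelianization.of q₂ = Additive.toMul n :=
              QuotientGroup.mk_surjective (s := commutator Q₂) (Additive.toMul n)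
            obtain ⟨g₁, hg₁⟩ := h₁.1 q₁
            obtain ⟨g₂, hg₂⟩ := h₂.1 q₂
            have : Multiplicative.ofAdd (m ⊗ₜ[ℤ] n) = β g₁ g₂ := by
              rw [hβ, sdpTensorHom_apply, hψ₁, hψ₂, MonoidHom.comp_apply, MonoidHom.comp_apply,
                hg₁, hg₂, hq₁, hq₂]
              rfl
            rw [this]
            exact hpure g₁ g₂
          | add x y hx hy =>
            rw [ofAdd_add, hmul]
            exact Subgroup.mul_mem _ hx hy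
        exact hall (Multiplicative.toAdd t)
      exact key _
    · exact sdp_map_comm_le (SemidirectProduct.inr : Γ₁ →* (Γ₂ × T) ⋊[φ] Γ₁)
        ⟨x.right, h₁.2.2 hx.1, rfl⟩
  · -- the kernel
    refine ⟨{ toFun := fun x => (e₁ ⟨x.1.right, ((hmem x.1).mp x.2).1⟩,
                e₂ ⟨x.1.left.1, ((hmem x.1).mp x.2).2⟩, x.1.left.2)
              invFun := fun p => ⟨⟨(((e₂.symm p.2.1 : σ₂.ker) : Γ₂), p.2.2),
                ((e₁.symm p.1 : σ₁.ker) : Γ₁)⟩, (hmem _).mpr ⟨(e₁.symm p.1).2, (e₂.symm p.2.1).2⟩⟩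
              left_inv := ?_
              right_inv := ?_
              map_mul' := ?_ }⟩
    · intro x
      apply Subtype.ext
      apply SemidirectProduct.ext
      · apply Prod.ext
        · simp
        · simp
      · simp
    · rintro ⟨a, b, t⟩
      simp
    · intro x y
      have hx := (hmem x.1).mp x.2
      apply Prod.ext
      · show e₁ ⟨(x.1 * y.1).right, _⟩ = e₁ ⟨x.1.right, _⟩ * e₁ ⟨y.1.right, _⟩
        rw [← map_mul]
        congr 1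
      · apply Prod.ext
        · show e₂ ⟨(x.1 * y.1).left.1, _⟩ = e₂ ⟨x.1.left.1, _⟩ * e₂ ⟨y.1.left.1, _⟩
          rw [← map_mul]
          congr 1
        · show (x.1 * y.1).left.2 = x.1.left.2 * y.1.left.2
          rw [SemidirectProduct.mul_left, hφa, hβ1 _ hx.1]
          simp


theorem sdp_bilift {D₁ D₂ M₁ M₂ K : Type*} [Group D₁] [Group D₂] [CommGroup M₁] [CommGroup M₂]
    [CommGroup K] (c : D₁ →* (D₂ →* K)) (ψ₁ : D₁ →* M₁) (ψ₂ : D₂ →* M₂)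
    (hψ₁ : Function.Surjective ψ₁) (hψ₂ : Function.Surjective ψ₂)
    (hc₁ : ∀ x ∈ ψ₁.ker, c x = 1) (hc₂ : ∀ x, ∀ y ∈ ψ₂.ker, c x y = 1) :
    ∃ F : Multiplicative (Additive M₁ ⊗[ℤ] Additive M₂) →* K, ∀ x y,
      F (Multiplicative.ofAdd (Additive.ofMul (ψ₁ x) ⊗ₜ[ℤ] Additive.ofMul (ψ₂ y))) = c x y := by
  set c₁ : M₁ →* (D₂ →* K) := ψ₁.liftOfSurjective hψ₁ ⟨c, fun x hx => hc₁ x hx⟩ with hc₁d
  have hc₁a : ∀ x, c₁ (ψ₁ x) = c x := fun x =>
    MonoidHom.liftOfRightInverse_comp_apply _ _ _ ⟨c, fun x hx => hc₁ x hx⟩ x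
  set c₂ : D₂ →* (M₁ →* K) := c₁.flip with hc₂d
  have hc₂k : ψ₂.ker ≤ c₂.ker := by
    intro y hy
    rw [MonoidHom.mem_ker]
    ext m
    obtain ⟨x, rfl⟩ := hψ₁ m
    rw [hc₂d, MonoidHom.flip_apply, hc₁a]
    exact hc₂ x y hy
  set c₃ : M₂ →* (M₁ →* K) := ψ₂.liftOfSurjective hψ₂ ⟨c₂, hc₂k⟩ with hc₃d
  have hc₃a : ∀ y, c₃ (ψ₂ y) = c₂ y := fun y =>
    MonoidHom.liftOfRightInverse_comp_apply _ _ _ ⟨c₂, hc₂k⟩ y
  let f : Additive M₁ →+ Additive M₂ →+ Additive K :=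
    AddMonoidHom.mk' (fun m => AddMonoidHom.mk' (fun n => Additive.ofMul (c₃ n.toMul m.toMul))
      (by
        intro a b
        rw [toMul_add, map_mul, MonoidHom.mul_apply, ofMul_mul]))
      (by
        intro a b
        refine AddMonoidHom.ext fun n => ?_
        show Additive.ofMul (c₃ n.toMul (a + b).toMul) =
          Additive.ofMul (c₃ n.toMul a.toMul) + Additive.ofMul (c₃ n.toMul b.toMul)
        rw [toMul_add, map_mul, ofMul_mul])
  have hf : ∀ (r : ℤ) (m : Additive M₁) (n : Additive M₂), f (r • m) n = f m (r • n) := by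
    intro r m n
    rw [map_zsmul, AddMonoidHom.smul_apply, map_zsmul]
  refine ⟨AddMonoidHom.toMultiplicativeLeft (TensorProduct.liftAddHom f hf), ?_⟩
  intro x y
  show (TensorProduct.liftAddHom f hf (Additive.ofMul (ψ₁ x) ⊗ₜ[ℤ] Additive.ofMul (ψ₂ y))).toMul
    = c x y
  rw [TensorProduct.liftAddHom_tmul]
  show c₃ (ψ₂ y) (ψ₁ x) = c x y
  rw [hc₃a, hc₂d, MonoidHom.flip_apply, hc₁a]

theorem sdp_ker_ab {H P K : Type*} [Group H] [Group P] [CommGroup K] (κ : H →* P)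
    (hκ : Function.Surjective κ) (g : H →* K) (hg : κ.ker ≤ g.ker) :
    (Abelianization.of.comp κ).ker ≤ g.ker := by
  intro x hx
  rw [MonoidHom.mem_ker, MonoidHom.comp_apply] at hx
  have h1 : κ x ∈ commutator P := by
    rw [← Abelianization.ker_of]; exact hx
  have h2 : commutator P = (commutator H).map κ := by
    rw [commutator_def, commutator_def, Subgroup.map_commutator, ← MonoidHom.range_eq_map,
      MonoidHom.range_eq_top_of_surjective κ hκ]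
  rw [h2] at h1
  obtain ⟨y, hy, hyx⟩ := h1
  have hgy : g y = 1 := Abelianization.commutator_subset_ker g hy
  have hk : y⁻¹ * x ∈ κ.ker := by
    rw [MonoidHom.mem_ker, map_mul, map_inv, hyx, inv_mul_cancel]
  have := hg hk
  rw [MonoidHom.mem_ker, map_mul, map_inv, hgy, inv_one, one_mul] at this
  exact this

theorem sdp_comm_mul_right {Δ : Type*} [Group Δ] (d x y : Δ) (hy : ⁅y, d⁆ ∈ Subgroup.center Δ) :
    ⁅d, x * y⁆ = ⁅d, x⁆ * ⁅d, y⁆ := by
  rw [← commutatorElement_inv (x * y) d, scp_comm_mul d x y hy, mul_inv_rev,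
    commutatorElement_inv, commutatorElement_inv]
  have : ⁅d, y⁆ ∈ Subgroup.center Δ := by
    rw [← commutatorElement_inv]; exact inv_mem hy
  exact (Subgroup.mem_center_iff.mp this _).symm

open scoped IsMulCommutative in
/-- every stem extension of a product has kernel an image of `A × B × T` -/
theorem sdp_prod_image {Q₁ : Type u} {Q₂ : Type v} [Group Q₁] [Group Q₂] [Finite Q₁] [Finite Q₂]
    {A B : Type w} [CommGroup A] [CommGroup B] (hA : Cfsg.HasSchurMultiplier Q₁ A)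
    (hB : Cfsg.HasSchurMultiplier Q₂ B)
    {Δ : Type*} [Group Δ] (τ : Δ →* Q₁ × Q₂) (hτ : Cfsg.IsStemExtension τ) :
    ∃ π : A × B × Multiplicative (Additive (Abelianization Q₁) ⊗[ℤ]
      Additive (Abelianization Q₂)) →* τ.ker, Function.Surjective π := by
  set Δ₁ : Subgroup Δ := (Subgroup.prod (⊤ : Subgroup Q₁) (⊥ : Subgroup Q₂)).comap τ with hΔ₁
  set Δ₂ : Subgroup Δ := (Subgroup.prod (⊥ : Subgroup Q₁) (⊤ : Subgroup Q₂)).comap τ with hΔ₂
  have hmem₁ : ∀ d, d ∈ Δ₁ ↔ (τ d).2 = 1 := by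
    intro d
    rw [hΔ₁, Subgroup.mem_comap, Subgroup.mem_prod]
    simp [Subgroup.mem_bot]
  have hmem₂ : ∀ d, d ∈ Δ₂ ↔ (τ d).1 = 1 := by
    intro d
    rw [hΔ₂, Subgroup.mem_comap, Subgroup.mem_prod]
    simp [Subgroup.mem_bot]
  set τ₁ : Δ₁ →* Q₁ := (MonoidHom.fst Q₁ Q₂).comp (τ.comp Δ₁.subtype) with hτ₁
  set τ₂ : Δ₂ →* Q₂ := (MonoidHom.snd Q₁ Q₂).comp (τ.comp Δ₂.subtype) with hτ₂
  have hτ₁a : ∀ x : Δ₁, τ₁ x = (τ (x : Δ)).1 := fun x => rfl
  have hτ₂a : ∀ x : Δ₂, τ₂ x = (τ (x : Δ)).2 := fun x => rfl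
  have hτ₁s : Function.Surjective τ₁ := by
    intro q
    obtain ⟨d, hd⟩ := hτ.1 (q, 1)
    exact ⟨⟨d, (hmem₁ d).mpr (by rw [hd])⟩, by rw [hτ₁a]; show (τ d).1 = q; rw [hd]⟩
  have hτ₂s : Function.Surjective τ₂ := by
    intro q
    obtain ⟨d, hd⟩ := hτ.1 (1, q)
    exact ⟨⟨d, (hmem₂ d).mpr (by rw [hd])⟩, by rw [hτ₂a]; show (τ d).2 = q; rw [hd]⟩
  have hK₁ : ∀ x : Δ₁, x ∈ τ₁.ker → (x : Δ) ∈ τ.ker := by
    intro x hx
    rw [MonoidHom.mem_ker] at hx ⊢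
    exact Prod.ext (by rw [← hτ₁a, hx]; rfl) ((hmem₁ x).mp x.2)
  have hK₂ : ∀ x : Δ₂, x ∈ τ₂.ker → (x : Δ) ∈ τ.ker := by
    intro x hx
    rw [MonoidHom.mem_ker] at hx ⊢
    exact Prod.ext ((hmem₂ x).mp x.2) (by rw [← hτ₂a, hx]; rfl)
  have hcomm12 : ∀ d₁ ∈ Δ₁, ∀ d₂ ∈ Δ₂, ⁅d₁, d₂⁆ ∈ τ.ker := by
    intro d₁ hd₁ d₂ hd₂
    rw [MonoidHom.mem_ker, map_commutatorElement]
    have h1 := (hmem₁ d₁).mp hd₁
    have h2 := (hmem₂ d₂).mp hd₂
    apply Prod.ext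
    · simp [commutatorElement_def, h2]
    · simp [commutatorElement_def, h1]
  have hcenter_comm : ∀ k ∈ τ.ker, ∀ d : Δ, ⁅k, d⁆ = 1 := by
    intro k hk d
    rw [commutatorElement_eq_one_iff_mul_comm]
    exact (Subgroup.mem_center_iff.mp (hτ.2.1 hk) d).symm
  have hcenter_comm' : ∀ k ∈ τ.ker, ∀ d : Δ, ⁅d, k⁆ = 1 := by
    intro k hk d
    rw [← commutatorElement_inv, hcenter_comm k hk d, inv_one]
  have hcommK : IsMulCommutative τ.ker :=
    ⟨⟨fun a b => Subtype.ext (Subgroup.mem_center_iff.mp (hτ.2.1 b.2) a)⟩⟩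
  -- the commutator pairing
  let c : Δ₁ →* (Δ₂ →* τ.ker) := MonoidHom.mk' (fun d₁ => MonoidHom.mk' (fun d₂ =>
      (⟨⁅(d₁ : Δ), (d₂ : Δ)⁆, hcomm12 d₁ d₁.2 d₂ d₂.2⟩ : τ.ker))
    (by
      intro a b
      apply Subtype.ext
      show ⁅(d₁ : Δ), (a : Δ) * (b : Δ)⁆ = ⁅(d₁ : Δ), (a : Δ)⁆ * ⁅(d₁ : Δ), (b : Δ)⁆
      apply sdp_comm_mul_right
      rw [← commutatorElement_inv]
      exact inv_mem (hτ.2.1 (hcomm12 d₁ d₁.2 b b.2))))
    (by
      intro a b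
      refine MonoidHom.ext fun d₂ => ?_
      apply Subtype.ext
      show ⁅(a : Δ) * (b : Δ), (d₂ : Δ)⁆ = ⁅(a : Δ), (d₂ : Δ)⁆ * ⁅(b : Δ), (d₂ : Δ)⁆
      exact scp_comm_mul _ _ _ (hτ.2.1 (hcomm12 b b.2 d₂ d₂.2)))
  have hca : ∀ (d₁ : Δ₁) (d₂ : Δ₂), ((c d₁ d₂ : τ.ker) : Δ) = ⁅(d₁ : Δ), (d₂ : Δ)⁆ :=
    fun d₁ d₂ => rfl
  set ψ₁ : Δ₁ →* Abelianization Q₁ := Abelianization.of.comp τ₁ with hψ₁
  set ψ₂ : Δ₂ →* Abelianization Q₂ := Abelianization.of.comp τ₂ with hψ₂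
  have hψ₁s : Function.Surjective ψ₁ :=
    (QuotientGroup.mk_surjective (s := commutator Q₁)).comp hτ₁s
  have hψ₂s : Function.Surjective ψ₂ :=
    (QuotientGroup.mk_surjective (s := commutator Q₂)).comp hτ₂s
  have hc₁ : ∀ x ∈ ψ₁.ker, c x = 1 := by
    intro x hx
    have := sdp_ker_ab τ₁ hτ₁s c (by
      intro k hk
      rw [MonoidHom.mem_ker]
      refine MonoidHom.ext fun d₂ => ?_
      apply Subtype.ext
      rw [hca]
      exact hcenter_comm _ (hK₁ k hk) _) hx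
    exact this
  have hc₂ : ∀ x, ∀ y ∈ ψ₂.ker, c x y = 1 := by
    intro x y hy
    have := sdp_ker_ab τ₂ hτ₂s (c x) (by
      intro k hk
      rw [MonoidHom.mem_ker]
      apply Subtype.ext
      rw [hca]
      exact hcenter_comm' _ (hK₂ k hk) _) hy
    exact this
  obtain ⟨F, hF⟩ := sdp_bilift c ψ₁ ψ₂ hψ₁s hψ₂s hc₁ hc₂
  -- the central subgroup C
  set C : Subgroup Δ := F.range.map τ.ker.subtype with hC
  have hCker : C ≤ τ.ker := by
    rintro _ ⟨z, -, rfl⟩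
    exact z.2
  have hCmem : ∀ d₁ ∈ Δ₁, ∀ d₂ ∈ Δ₂, ⁅d₁, d₂⁆ ∈ C := by
    intro d₁ hd₁ d₂ hd₂
    refine ⟨c ⟨d₁, hd₁⟩ ⟨d₂, hd₂⟩, ⟨_, hF ⟨d₁, hd₁⟩ ⟨d₂, hd₂⟩⟩, rfl⟩
  have hCn : C.Normal := by
    constructor
    intro n hn g
    have : g * n * g⁻¹ = n := by
      have := Subgroup.mem_center_iff.mp (hτ.2.1 (hCker hn)) g
      rw [this, mul_inv_cancel_right]
    rw [this]
    exact hn
  -- the product map into the quotient
  set q : Δ →* Δ ⧸ C := QuotientGroup.mk' C with hq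
  have hcommute : ∀ (a : Δ₁) (b : Δ₂), Commute (q (a : Δ)) (q (b : Δ)) := by
    intro a b
    show q (a : Δ) * q (b : Δ) = q (b : Δ) * q (a : Δ)
    rw [← map_mul, ← map_mul, eq_comm]
    apply (QuotientGroup.eq).mpr
    have : ((b : Δ) * (a : Δ))⁻¹ * ((a : Δ) * (b : Δ)) = ⁅(a : Δ)⁻¹, (b : Δ)⁻¹⁆ := by
      rw [commutatorElement_def]; group
    rw [this]
    exact hCmem _ (inv_mem a.2) _ (inv_mem b.2)
  set μ : Δ₁ × Δ₂ →* Δ ⧸ C := MonoidHom.noncommCoprod (q.comp Δ₁.subtype) (q.comp Δ₂.subtype)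
    (fun a b => hcommute a b) with hμ
  have hμa : ∀ p : Δ₁ × Δ₂, μ p = q ((p.1 : Δ) * (p.2 : Δ)) := fun p =>
    (MonoidHom.noncommCoprod_apply _ _ _ p).trans (map_mul q _ _).symm
  have hμs : Function.Surjective μ := by
    intro x
    obtain ⟨d, rfl⟩ := QuotientGroup.mk'_surjective C x
    obtain ⟨d₁, hd₁⟩ := hτ.1 ((τ d).1, 1)
    have h1 : d₁ ∈ Δ₁ := (hmem₁ d₁).mpr (by rw [hd₁])
    have h2 : d₁⁻¹ * d ∈ Δ₂ := by
      rw [hmem₂, map_mul, map_inv, hd₁]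
      simp
    refine ⟨(⟨d₁, h1⟩, ⟨d₁⁻¹ * d, h2⟩), ?_⟩
    rw [hμa]
    simp only [mul_inv_cancel_left]
    rfl
  have hcomΔ : commutator (Δ ⧸ C) = ((commutator Δ₁).prod (commutator Δ₂)).map μ := by
    have hc : commutator (Δ₁ × Δ₂) = (commutator Δ₁).prod (commutator Δ₂) := by
      rw [commutator_def, ← Subgroup.top_prod_top, Subgroup.commutator_prod_prod,
        ← commutator_def, ← commutator_def]
    rw [← hc, commutator_def, commutator_def, Subgroup.map_commutator, ← MonoidHom.range_eq_map,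
      MonoidHom.range_eq_top_of_surjective μ hμs]
  -- decomposition of kernel elements
  have hdecomp : ∀ k ∈ τ.ker, ∃ y₁ : Δ₁, ∃ y₂ : Δ₂, ∃ t, y₁ ∈ commutator Δ₁ ∧
      y₂ ∈ commutator Δ₂ ∧ y₁ ∈ τ₁.ker ∧ y₂ ∈ τ₂.ker ∧
      k = (y₁ : Δ) * (y₂ : Δ) * ((F t : τ.ker) : Δ) := by
    intro k hk
    have h1 : q k ∈ commutator (Δ ⧸ C) := sdp_map_comm_le q ⟨k, hτ.2.2 hk, rfl⟩
    rw [hcomΔ] at h1
    obtain ⟨⟨y₁, y₂⟩, hy, hyk⟩ := h1
    rw [SetLike.mem_coe, Subgroup.mem_prod] at hy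
    rw [hμa] at hyk
    simp only at hyk hy
    have hz : ((y₁ : Δ) * (y₂ : Δ))⁻¹ * k ∈ C := (QuotientGroup.eq).mp hyk
    obtain ⟨z, ⟨t, ht⟩, hzk⟩ := hz
    have hk' : k = (y₁ : Δ) * (y₂ : Δ) * ((F t : τ.ker) : Δ) := by
      rw [ht]
      have : ((z : τ.ker) : Δ) = ((y₁ : Δ) * (y₂ : Δ))⁻¹ * k := hzk
      rw [this]; group
    have h2 : τ (y₁ : Δ) * τ (y₂ : Δ) = 1 := by
      have h3 : τ k = 1 := hk
      rw [hk', map_mul, map_mul] at h3
      have h4 : τ ((F t : τ.ker) : Δ) = 1 := (F t).2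
      rw [h4, mul_one] at h3
      exact h3
    have h3 := congrArg Prod.fst h2
    have h4 := congrArg Prod.snd h2
    simp only [Prod.fst_mul, Prod.snd_mul, Prod.fst_one, Prod.snd_one] at h3 h4
    rw [(hmem₂ y₂).mp y₂.2, mul_one] at h3
    rw [(hmem₁ y₁).mp y₁.2, one_mul] at h4
    exact ⟨y₁, y₂, t, hy.1, hy.2, h3, h4, hk'⟩
  -- the maps from the multipliers
  have hker₁ : τ₁.ker ≤ Subgroup.center Δ₁ := by
    intro x hx
    rw [Subgroup.mem_center_iff]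
    intro g
    exact Subtype.ext (Subgroup.mem_center_iff.mp (hτ.2.1 (hK₁ x hx)) (g : Δ))
  have hker₂ : τ₂.ker ≤ Subgroup.center Δ₂ := by
    intro x hx
    rw [Subgroup.mem_center_iff]
    intro g
    exact Subtype.ext (Subgroup.mem_center_iff.mp (hτ.2.1 (hK₂ x hx)) (g : Δ))
  obtain ⟨πA, hπA⟩ := scv_mult_to_central hA τ₁ hτ₁s hker₁
  obtain ⟨πB, hπB⟩ := scv_mult_to_central hB τ₂ hτ₂s hker₂
  let ι₁ : τ₁.ker →* τ.ker := (Δ₁.subtype.comp τ₁.ker.subtype).codRestrict τ.ker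
    (fun x => hK₁ x.1 x.2)
  let ι₂ : τ₂.ker →* τ.ker := (Δ₂.subtype.comp τ₂.ker.subtype).codRestrict τ.ker
    (fun x => hK₂ x.1 x.2)
  set pA : A →* τ.ker := ι₁.comp πA with hpA
  set pB : B →* τ.ker := ι₂.comp πB with hpB
  refine ⟨MonoidHom.coprod pA (MonoidHom.coprod pB F), ?_⟩
  rintro ⟨k, hk⟩
  obtain ⟨y₁, y₂, t, hy₁c, hy₂c, hy₁k, hy₂k, hky⟩ := hdecomp k hk
  obtain ⟨a, ha⟩ := (hπA ⟨y₁, hy₁k⟩).mpr hy₁c
  obtain ⟨b, hb⟩ := (hπB ⟨y₂, hy₂k⟩).mpr hy₂c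
  refine ⟨(a, b, t), ?_⟩
  rw [MonoidHom.coprod_apply, MonoidHom.coprod_apply]
  apply Subtype.ext
  show ((pA a : τ.ker) : Δ) * (((pB b : τ.ker) : Δ) * ((F t : τ.ker) : Δ)) = k
  have h1 : ((pA a : τ.ker) : Δ) = (y₁ : Δ) := by
    show (((πA a : τ₁.ker) : Δ₁) : Δ) = (y₁ : Δ)
    rw [ha]
  have h2 : ((pB b : τ.ker) : Δ) = (y₂ : Δ) := by
    show (((πB b : τ₂.ker) : Δ₂) : Δ) = (y₂ : Δ)
    rw [hb]
  rw [h1, h2, hky, mul_assoc]

/-- **Schur multiplier of a direct product.** -/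
theorem sdp_main {Q₁ : Type u} {Q₂ : Type v} [Group Q₁] [Group Q₂] [Finite Q₁] [Finite Q₂]
    {A B : Type w} [CommGroup A] [CommGroup B] (hA : Cfsg.HasSchurMultiplier Q₁ A)
    (hB : Cfsg.HasSchurMultiplier Q₂ B) :
    Cfsg.HasSchurMultiplier (Q₁ × Q₂) (A × B × Multiplicative
      (TensorProduct ℤ (Additive (Abelianization Q₁)) (Additive (Abelianization Q₂)))) := by
  refine ⟨?_, ?_⟩
  · obtain ⟨Γ₁, i₁, f₁, σ₁, h₁, ⟨e₁⟩⟩ := hA.1
    obtain ⟨Γ₂, i₂, f₂, σ₂, h₂, ⟨e₂⟩⟩ := hB.1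
    exact sdp_exists_cover σ₁ σ₂ h₁ h₂ e₁ e₂
  · intro Δ _ _ τ hτ
    exact sdp_prod_image hA hB τ hτ

end Cfsg.Agent.Lib.helper23
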