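import Mathlib

namespace Cfsg.Agent.Lib.helper23

open Subgroup

section selfNorm

variable {G : Type*} [Group G]

/-- a perfect finite group has no nontrivial Sylow subgroup centralized by its normalizer -/
theorem sn_burnside_perfect [Finite G] (hperf : commutator G = ⊤) {p : ℕ} [Fact p.Prime]
    (P : Sylow p G) (hne : (P : Subgroup G) ≠ ⊥)
    (hN : normalizer ((P : Subgroup G) : Set G) ≤ centralizer ((P : Subgroup G) : Set G)) :
    False := by
  have hc := MonoidHom.ker_transferSylow_isComplement' P hN
  have hcomm : ∀ u v : (P : Subgroup G), u * v = v * u := fun u v =>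
    Subtype.ext ((hN (le_normalizer u.2) v v.2).symm)
  have hker : (MonoidHom.transferSylow P hN).ker = ⊤ := by
    rw [eq_top_iff, ← hperf, commutator_eq_closure, closure_le]
    rintro _ ⟨a, b, rfl⟩
    rw [SetLike.mem_coe, MonoidHom.mem_ker, commutatorElement_def, map_mul, map_mul, map_mul,
      map_inv, map_inv]
    rw [hcomm (MonoidHom.transferSylow P hN a) (MonoidHom.transferSylow P hN b)]
    group
  rw [hker, isComplement'_top_left] at hc
  exact hne hc

/-- a nontrivial perfect finite group has a nontrivial subgroup which is not self-normalizing -/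
theorem sn_all_selfNormalizing_false [Finite G] [Nontrivial G] (hperf : commutator G = ⊤)
    (hsn : ∀ K : Subgroup G, K ≠ ⊥ → normalizer (K : Set G) = K) : False := by
  have hcard : Nat.card G ≠ 1 := (Finite.one_lt_card (α := G)).ne'
  obtain ⟨p, hp, hpd⟩ := Nat.exists_prime_and_dvd hcard
  have hpf : Fact p.Prime := ⟨hp⟩
  let P : Sylow p G := default
  have hne : (P : Subgroup G) ≠ ⊥ := P.ne_bot_of_dvd_card hpd
  have hnt : Nontrivial (P : Subgroup G) := (Subgroup.nontrivial_iff_ne_bot _).mpr hne
  have hcn : Nontrivial (center (P : Subgroup G)) := IsPGroup.center_nontrivial P.isPGroup'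
  obtain ⟨⟨g, hg⟩, hg1⟩ := exists_ne (1 : center (P : Subgroup G))
  have hg1' : (g : G) ≠ 1 := by
    intro h
    apply hg1
    ext
    exact h
  have hz : zpowers (g : G) ≠ ⊥ := by
    rw [Ne, zpowers_eq_bot]
    exact hg1'
  have hnz := hsn _ hz
  have hPz : (P : Subgroup G) ≤ zpowers (g : G) := by
    intro x hx
    rw [← hnz, mem_normalizer_iff]
    have hxg : x * (g : G) = (g : G) * x := by
      have := mem_center_iff.mp hg ⟨x, hx⟩
      have h2 := congrArg Subtype.val this
      simpa using h2
    intro h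
    have key : ∀ h ∈ zpowers (g : G), x * h * x⁻¹ = h := by
      intro h hh
      obtain ⟨k, rfl⟩ := mem_zpowers_iff.mp hh
      have : Commute x ((g : G) ^ k) := (Commute.zpow_right hxg k)
      rw [this.eq, mul_inv_cancel_right]
    constructor
    · intro hh
      rw [key h hh]
      exact hh
    · intro hh
      have h2 := key _ hh
      have h3 : x⁻¹ * (x * h * x⁻¹) * x = h := by group
      have h4 : x⁻¹ * (x * h * x⁻¹) * x = x * h * x⁻¹ := by
        have hxi : Commute x⁻¹ (x * h * x⁻¹) := by
          have : Commute x (x * h * x⁻¹) := by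
            rw [Commute, SemiconjBy]
            calc x * (x * h * x⁻¹) = (x * (x * h * x⁻¹) * x⁻¹) * x := by group
              _ = (x * h * x⁻¹) * x := by rw [h2]
          exact this.inv_left
        rw [hxi.eq]
        group
      rw [← h3, h4]
      exact hh
  have hcommP : ∀ u ∈ (P : Subgroup G), ∀ v ∈ (P : Subgroup G), u * v = v * u := by
    intro u hu v hv
    obtain ⟨i, rfl⟩ := mem_zpowers_iff.mp (hPz hu)
    obtain ⟨j, rfl⟩ := mem_zpowers_iff.mp (hPz hv)
    rw [← zpow_add, ← zpow_add, add_comm]
  have hNP := hsn _ hne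
  apply sn_burnside_perfect hperf P hne
  rw [hNP]
  intro u hu
  rw [mem_centralizer_iff]
  intro v hv
  exact hcommP v hv u hu

end selfNorm

section mna

variable {P : Type*} [Group P]

theorem sn_comm_pow_left {g y c : P} (hc : c ∈ center P) (h : g * y = c * (y * g)) (k : ℕ) :
    g ^ k * y = c ^ k * (y * g ^ k) := by
  induction k with
  | zero => simp
  | succ k ih =>
    have hck : ∀ z : P, z * c = c * z := fun z => mem_center_iff.mp hc z
    calc g ^ (k + 1) * y = g ^ k * (g * y) := by rw [pow_succ, mul_assoc]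
      _ = g ^ k * (c * (y * g)) := by rw [h]
      _ = c * (g ^ k * y) * g := by rw [← mul_assoc (g ^ k) c, hck (g ^ k)]; group
      _ = c * (c ^ k * (y * g ^ k)) * g := by rw [ih]
      _ = c ^ (k + 1) * (y * g ^ (k + 1)) := by rw [pow_succ' c, pow_succ g]; group

/-- a normal maximal subgroup has prime index -/
theorem sn_prime_index_of_normal_coatom [Finite P] (C : Subgroup P) [hCn : C.Normal]
    (hC : IsCoatom C) : C.index.Prime := by
  have hsub : ∀ L : Subgroup (P ⧸ C), L = ⊥ ∨ L = ⊤ := by
    intro L
    have hle : C ≤ L.comap (QuotientGroup.mk' C) := by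
      have := Subgroup.ker_le_comap (QuotientGroup.mk' C) L
      rwa [QuotientGroup.ker_mk'] at this
    rcases hC.le_iff.mp hle with h1 | h1
    · right
      apply comap_injective (QuotientGroup.mk'_surjective C)
      rw [h1, comap_top]
    · left
      apply comap_injective (QuotientGroup.mk'_surjective C)
      rw [h1, MonoidHom.comap_bot, QuotientGroup.ker_mk']
  have hne1 : Nat.card (P ⧸ C) ≠ 1 := by
    rw [← Subgroup.index_eq_card]
    intro h1
    exact hC.1 (Subgroup.index_eq_one.mp h1)
  obtain ⟨r, hr, hrd⟩ := Nat.exists_prime_and_dvd hne1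
  have hrf : Fact r.Prime := ⟨hr⟩
  obtain ⟨x, hx⟩ := exists_prime_orderOf_dvd_card' r hrd
  have hz : zpowers x = ⊤ := by
    rcases hsub (zpowers x) with h1 | h1
    · exfalso
      rw [zpowers_eq_bot] at h1
      rw [h1, orderOf_one] at hx
      exact hr.one_lt.ne hx
    · exact h1
  rw [Subgroup.index_eq_card, ← Subgroup.card_top (G := P ⧸ C), ← hz, Nat.card_zpowers, hx]
  exact hr

/-- a nonabelian finite `p`-group all of whose proper subgroups are abelian has a commutator
subgroup of order `p`, generated by a central element. -/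
theorem sn_minNonAb [Finite P] {p : ℕ} [hp : Fact p.Prime] (hP : IsPGroup p P)
    (hprop : ∀ Q : Subgroup P, Q ≠ ⊤ → ∀ a ∈ Q, ∀ b ∈ Q, a * b = b * a)
    {x y : P} (hxy : x * y ≠ y * x) :
    ∃ c : P, c ∈ center P ∧ c ^ p = 1 ∧ c ≠ 1 ∧ commutator P ≤ zpowers c := by
  have hcl : closure ({x, y} : Set P) = ⊤ := by
    by_contra hne
    exact hxy (hprop _ hne x (subset_closure (by simp)) y (subset_closure (by simp)))
  have hnil : Group.IsNilpotent P := hP.isNilpotent
  obtain ⟨n, hn⟩ := hP.exists_card_eq
  have hcoatom : ∀ g : P, ∃ M : Subgroup P, M ≠ ⊤ ∧ g ∈ M ∧ M.Normal ∧ M.index = p := by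
    intro g
    have hz : zpowers g ≠ ⊤ := by
      intro hz
      apply hxy
      have hx : x ∈ zpowers g := hz ▸ mem_top x
      have hy : y ∈ zpowers g := hz ▸ mem_top y
      obtain ⟨i, rfl⟩ := mem_zpowers_iff.mp hx
      obtain ⟨j, rfl⟩ := mem_zpowers_iff.mp hy
      rw [← zpow_add, ← zpow_add, add_comm]
    rcases eq_top_or_exists_le_coatom (zpowers g) with h1 | ⟨M, hM, hle⟩
    · exact absurd h1 hz
    · have hMn : M.Normal :=
        (Group.normalizerCondition_of_isNilpotent (G := P)).normal_of_coatom M hM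
      have hq := sn_prime_index_of_normal_coatom M hM
      refine ⟨M, hM.1, hle (mem_zpowers g), hMn, ?_⟩
      have hd : M.index ∣ p ^ n := hn ▸ M.index_dvd_card
      exact (Nat.prime_dvd_prime_iff_eq hq hp.out).mp (hq.dvd_of_dvd_pow hd)
  obtain ⟨Mx, hMx, hxMx, hMxn, -⟩ := hcoatom x
  obtain ⟨My, hMy, hyMy, hMyn, hMyi⟩ := hcoatom y
  set c := x * y * x⁻¹ * y⁻¹ with hc
  have hcx : c * x = x * c := by
    apply hprop Mx hMx
    · have h1 : y * x⁻¹ * y⁻¹ ∈ Mx := hMxn.conj_mem x⁻¹ (inv_mem hxMx) y
      have h2 : c = x * (y * x⁻¹ * y⁻¹) := by rw [hc]; group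
      rw [h2]
      exact mul_mem hxMx h1
    · exact hxMx
  have hcy : c * y = y * c := by
    apply hprop My hMy
    · have h1 : x * y * x⁻¹ ∈ My := hMyn.conj_mem y hyMy x
      exact mul_mem h1 (inv_mem hyMy)
    · exact hyMy
  have hcc : c ∈ center P := by
    rw [mem_center_iff]
    intro g
    have hle : closure ({x, y} : Set P) ≤ centralizer ({c} : Set P) := by
      rw [closure_le]
      intro z hz
      rw [SetLike.mem_coe, mem_centralizer_iff]
      intro w hw
      rw [Set.mem_singleton_iff.mp hw]
      rcases hz with rfl | hz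
      · exact hcx
      · rw [Set.mem_singleton_iff.mp hz]
        exact hcy
    have hg : g ∈ centralizer ({c} : Set P) := hle (hcl ▸ mem_top g)
    rw [mem_centralizer_iff] at hg
    exact (hg c rfl).symm
  have hc1 : c ≠ 1 := by
    intro h1
    apply hxy
    have h2 : x * y = c * (y * x) := by rw [hc]; group
    rw [h2, h1, one_mul]
  have hrel : x * y = c * (y * x) := by rw [hc]; group
  have hcp : c ^ p = 1 := by
    have h1 : x ^ p ∈ My := by
      have := Subgroup.pow_index_mem My x
      rwa [hMyi] at this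
    have h2 : x ^ p * y = y * x ^ p := hprop My hMy _ h1 _ hyMy
    have h3 := sn_comm_pow_left hcc hrel p
    rw [h2] at h3
    have h4 : 1 * (y * x ^ p) = c ^ p * (y * x ^ p) := by rw [one_mul]; exact h3
    exact (mul_right_cancel h4).symm
  refine ⟨c, hcc, hcp, hc1, ?_⟩
  -- the quotient by ⟨c⟩ is commutative
  have hKn : (zpowers c).Normal := by
    refine ⟨fun m hm g => ?_⟩
    have hmc : m ∈ center P := (zpowers_le (H := center P)).mpr hcc hm
    have : g * m * g⁻¹ = m := by
      rw [mem_center_iff.mp hmc g, mul_inv_cancel_right]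
    rw [this]
    exact hm
  set π := QuotientGroup.mk' (zpowers c) with hπ
  have hπs : Function.Surjective π := QuotientGroup.mk'_surjective _
  have hπc : π c = 1 := by
    rw [hπ, QuotientGroup.mk'_apply, QuotientGroup.eq_one_iff]
    exact mem_zpowers c
  have hbar : π x * π y = π y * π x := by
    rw [← map_mul, hrel, map_mul, hπc, one_mul, map_mul]
  have hclbar : closure ({π x, π y} : Set (P ⧸ zpowers c)) = ⊤ := by
    have h1 := MonoidHom.map_closure π ({x, y} : Set P)
    rw [hcl, Set.image_pair] at h1
    rw [← h1, ← MonoidHom.range_eq_map, MonoidHom.range_eq_top]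
    exact hπs
  have hcomm : ∀ a b : P ⧸ zpowers c, a * b = b * a := by
    have hcen : ∀ z ∈ ({π x, π y} : Set (P ⧸ zpowers c)), z ∈ center (P ⧸ zpowers c) := by
      intro z hz
      rw [mem_center_iff]
      intro g
      have hle : closure ({π x, π y} : Set (P ⧸ zpowers c)) ≤ centralizer ({z} : Set _) := by
        rw [closure_le]
        intro w hw
        rw [SetLike.mem_coe, mem_centralizer_iff]
        intro u hu
        rw [Set.mem_singleton_iff.mp hu]
        rcases hz with rfl | hz <;> rcases hw with rfl | hw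
        · rfl
        · rw [Set.mem_singleton_iff.mp hw]; exact hbar
        · rw [Set.mem_singleton_iff.mp hz]; exact hbar.symm
        · rw [Set.mem_singleton_iff.mp hz, Set.mem_singleton_iff.mp hw]
      have hg : g ∈ centralizer ({z} : Set (P ⧸ zpowers c)) := hle (hclbar ▸ mem_top g)
      rw [mem_centralizer_iff] at hg
      exact (hg z rfl).symm
    have hct : center (P ⧸ zpowers c) = ⊤ := by
      rw [eq_top_iff, ← hclbar, closure_le]
      exact hcen
    intro a b
    have ha : b ∈ center (P ⧸ zpowers c) := hct ▸ mem_top b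
    exact mem_center_iff.mp ha a
  rw [commutator_eq_closure, closure_le]
  rintro _ ⟨a, b, rfl⟩
  rw [SetLike.mem_coe, ← QuotientGroup.eq_one_iff, commutatorElement_def]
  have h1 : ((a * b * a⁻¹ * b⁻¹ : P) : P ⧸ zpowers c) = π a * π b * (π a)⁻¹ * (π b)⁻¹ := by
    simp [hπ]
  rw [h1, hcomm (π a) (π b)]
  group

end mna

section snMain

variable {G : Type*} [Group G]

theorem sn_normal_zpowers_of_mem_center {z : G} (hz : z ∈ center G) : (zpowers z).Normal := by
  refine ⟨fun m hm g => ?_⟩
  have hmc : m ∈ center G := (zpowers_le (H := center G)).mpr hz hm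
  have : g * m * g⁻¹ = m := by
    rw [mem_center_iff.mp hmc g, mul_inv_cancel_right]
  rw [this]
  exact hm

/-- Case of a central normal subgroup. -/
theorem sn_caseA [Finite G]
    (hS : ∀ H : Subgroup G, ¬ IsMulCommutative H → normalizer (H : Set G) = H)
    (hperf : commutator G = ⊤) {p : ℕ} [hpf : Fact p.Prime] {z : G} (hzc : z ∈ center G)
    (hzo : orderOf z = p) : False := by
  have hp := hpf.out
  have hz1 : z ≠ 1 := by
    intro h
    rw [h, orderOf_one] at hzo
    exact hp.one_lt.ne hzo
  have hzp : IsPGroup p (zpowers z) := by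
    apply IsPGroup.of_card (n := 1)
    rw [Nat.card_zpowers, hzo, pow_one]
  obtain ⟨P, hzP⟩ := hzp.exists_le_sylow
  have hzP' : z ∈ (P : Subgroup G) := hzP (mem_zpowers z)
  -- transfer
  let ϕ : (P : Subgroup G) →* Abelianization (P : Subgroup G) := Abelianization.of
  have hT := MonoidHom.transfer_eq_pow ϕ z (fun k g₀ _ => by
    have hk : z ^ k ∈ center G := pow_mem hzc k
    rw [mul_assoc, ← mem_center_iff.mp hk g₀, ← mul_assoc, inv_mul_cancel, one_mul])
  have hT1 : ϕ.transfer z = 1 := by
    have h1 := Abelianization.commutator_subset_ker (ϕ.transfer)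
    rw [hperf] at h1
    exact h1 (mem_top z)
  rw [hT1] at hT
  set z' : (P : Subgroup G) := ⟨z, hzP'⟩ with hz'
  have hz'o : orderOf z' = p := by rw [hz', Subgroup.orderOf_mk, hzo]
  have hz'1 : z' ≠ 1 := by
    intro h
    exact hz1 (congrArg Subtype.val h)
  have hpow : z' ^ (P : Subgroup G).index ∈ commutator (P : Subgroup G) := by
    rw [← Abelianization.ker_of, MonoidHom.mem_ker]
    exact hT.symm
  have hz'c : z' ∈ commutator (P : Subgroup G) := by
    have hcop : ((P : Subgroup G).index).Coprime (orderOf z') := by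
      rw [hz'o]
      exact ((Nat.Prime.coprime_iff_not_dvd hp).mpr P.not_dvd_index).symm
    obtain ⟨m, hm⟩ := exists_pow_eq_self_of_coprime hcop
    rw [← hm]
    exact pow_mem hpow m
  -- P is nonabelian
  have hPna : ¬ IsMulCommutative (P : Subgroup G) := by
    intro hcomm
    have h0 : commutator (P : Subgroup G) = ⊥ := by
      rw [commutator_eq_closure, closure_eq_bot_iff]
      rintro _ ⟨a, b, rfl⟩
      rw [Set.mem_singleton_iff, commutatorElement_def, hcomm.is_comm.comm a b]
      group
    rw [h0, mem_bot] at hz'c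
    exact hz'1 hz'c
  have hNP := hS P hPna
  -- proper subgroups of P are abelian
  have hprop : ∀ Q : Subgroup (P : Subgroup G), Q ≠ ⊤ → ∀ a ∈ Q, ∀ b ∈ Q, a * b = b * a := by
    intro Q hQ
    by_contra hna
    have hQ'na : ¬ IsMulCommutative (Q.map (P : Subgroup G).subtype) := by
      intro hcomm
      apply hna
      intro a ha b hb
      have h1 := hcomm.is_comm.comm ⟨(a : G), mem_map_of_mem _ ha⟩ ⟨(b : G), mem_map_of_mem _ hb⟩
      have h2 := congrArg Subtype.val h1
      exact Subtype.ext h2
    have hNQ := hS _ hQ'na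
    have hnc : NormalizerCondition (P : Subgroup G) := by
      have hnil : Group.IsNilpotent (P : Subgroup G) := P.isPGroup'.isNilpotent
      exact Group.normalizerCondition_of_isNilpotent
    apply hQ
    apply (normalizerCondition_iff_only_full_group_self_normalizing.mp hnc) Q
    apply le_antisymm _ le_normalizer
    intro g hg
    have h1 : ((P : Subgroup G).subtype g) ∈ normalizer ((Q.map (P : Subgroup G).subtype : Subgroup G) : Set G) :=
      le_normalizer_map _ (mem_map_of_mem _ hg)
    rw [hNQ] at h1
    obtain ⟨g', hg', hgg'⟩ := mem_map.mp h1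
    have : g' = g := Subtype.ext hgg'
    rw [← this]
    exact hg'
  obtain ⟨x, y, hxy⟩ : ∃ x y : (P : Subgroup G), x * y ≠ y * x := by
    by_contra hno
    push Not at hno
    exact hPna ⟨⟨hno⟩⟩
  obtain ⟨c, hcc, hcp, hc1, hcle⟩ := sn_minNonAb P.isPGroup' hprop hxy
  have hco : orderOf c = p := orderOf_eq_prime hcp hc1
  have hzc' : zpowers z' = zpowers c := by
    apply Subgroup.eq_of_le_of_card_ge ((zpowers_le).mpr (hcle hz'c))
    rw [Nat.card_zpowers, Nat.card_zpowers, hz'o, hco]
  have hcomle : ∀ a ∈ (P : Subgroup G), ∀ b ∈ (P : Subgroup G), a * b * a⁻¹ * b⁻¹ ∈ zpowers z := by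
    intro a ha b hb
    have h1 : (⟨a, ha⟩ : (P : Subgroup G)) * ⟨b, hb⟩ * (⟨a, ha⟩ : (P : Subgroup G))⁻¹ *
        (⟨b, hb⟩ : (P : Subgroup G))⁻¹ ∈ commutator (P : Subgroup G) := by
      rw [commutator_eq_closure]
      exact subset_closure ⟨⟨a, ha⟩, ⟨b, hb⟩, commutatorElement_def _ _⟩
    have h2 := hcle h1
    rw [← hzc'] at h2
    obtain ⟨k, hk⟩ := mem_zpowers_iff.mp h2
    rw [mem_zpowers_iff]
    refine ⟨k, ?_⟩
    have h3 := congrArg Subtype.val hk
    simpa using h3
  -- the quotient by ⟨z⟩
  have hZn : (zpowers z).Normal := sn_normal_zpowers_of_mem_center hzc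
  set π := QuotientGroup.mk' (zpowers z) with hπ
  have hπs : Function.Surjective π := QuotientGroup.mk'_surjective _
  have hker : π.ker = zpowers z := QuotientGroup.ker_mk' _
  have hperf' : commutator (G ⧸ zpowers z) = ⊤ := by
    have h1 := Subgroup.map_commutator (⊤ : Subgroup G) ⊤ π
    rw [← MonoidHom.range_eq_map, MonoidHom.range_eq_top.mpr hπs] at h1
    rw [_root_.commutator_def, ← h1, ← _root_.commutator_def, hperf, ← MonoidHom.range_eq_map,
      MonoidHom.range_eq_top.mpr hπs]
  have hPt : ((P.mapSurjective hπs : Sylow p (G ⧸ zpowers z)) : Subgroup (G ⧸ zpowers z)) =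
      (P : Subgroup G).map π := Sylow.coe_mapSurjective hπs P
  apply sn_burnside_perfect hperf' (P.mapSurjective hπs)
  · rw [hPt, Ne, Subgroup.map_eq_bot_iff, hker]
    intro hle
    apply hPna
    refine ⟨⟨fun a b => ?_⟩⟩
    obtain ⟨i, hi⟩ := mem_zpowers_iff.mp (hle a.2)
    obtain ⟨j, hj⟩ := mem_zpowers_iff.mp (hle b.2)
    apply Subtype.ext
    rw [Subgroup.coe_mul, Subgroup.coe_mul, ← hi, ← hj, ← zpow_add, ← zpow_add, add_comm]
  · rw [hPt]
    have hnorm : normalizer (((P : Subgroup G).map π : Subgroup (G ⧸ zpowers z)) : Set (G ⧸ zpowers z)) =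
        (P : Subgroup G).map π := by
      apply comap_injective hπs
      rw [Subgroup.comap_normalizer_eq_of_surjective _ hπs, comap_map_eq, hker,
        sup_eq_left.mpr hzP, hNP]
    rw [hnorm]
    rintro _ ⟨a, ha, rfl⟩
    rw [mem_centralizer_iff]
    rintro _ ⟨b, hb, rfl⟩
    have h1 := hcomle b hb a ha
    rw [← hker, MonoidHom.mem_ker] at h1
    rw [← map_mul, ← map_mul]
    have h2 : b * a = (b * a * b⁻¹ * a⁻¹) * (a * b) := by group
    rw [h2, map_mul, h1, one_mul]

/-- A finite group in which every nonabelian subgroup is self-normalizing is solvable or simple. -/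
theorem sn_main [Finite G]
    (hS : ∀ H : Subgroup G, ¬ IsMulCommutative H → normalizer (H : Set G) = H) :
    Group.IsSolvable G ∨ IsSimpleGroup G := by
  by_contra hcon
  push Not at hcon
  obtain ⟨hns, hnsimp⟩ := hcon
  have hnt : Nontrivial G := by
    by_contra h
    rw [not_nontrivial_iff_subsingleton] at h
    exact hns inferInstance
  have h1 : ∀ M : Subgroup G, M.Normal → M ≠ ⊤ → IsMulCommutative M := by
    intro M hM hMt
    by_contra hc
    have h2 := hS M hc
    rw [normalizer_eq_top] at h2
    exact hMt h2.symm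
  have hperf : commutator G = ⊤ := by
    by_contra hc
    have hcomm := h1 (commutator G) inferInstance hc
    apply hns
    have hsol1 : Group.IsSolvable (commutator G) :=
      Group.isSolvable_of_comm (fun a b => hcomm.is_comm.comm a b)
    exact Group.isSolvable_of_ker_le_range (commutator G).subtype (Abelianization.of)
      (by rw [Abelianization.ker_of, Subgroup.range_subtype])
  obtain ⟨N, hNn, hNb, hNt⟩ : ∃ N : Subgroup G, N.Normal ∧ N ≠ ⊥ ∧ N ≠ ⊤ := by
    by_contra hno
    push Not at hno
    apply hnsimp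
    refine ⟨fun H hH => ?_⟩
    by_cases hb : H = ⊥
    · left; exact hb
    · right; exact hno H hH hb
  have hNc : IsMulCommutative N := h1 N hNn hNt
  set C := centralizer (N : Set G) with hC
  have hCn : C.Normal := Subgroup.normal_centralizer
  have hNC : N ≤ C := le_centralizer_iff_isMulCommutative.mpr hNc
  by_cases hCt : C = ⊤
  · -- central case
    have hNZ : N ≤ center G := by
      intro n hn
      rw [mem_center_iff]
      intro g
      have hg : g ∈ C := hCt ▸ mem_top g
      rw [hC, mem_centralizer_iff] at hg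
      exact (hg n hn).symm
    have hNcard : Nat.card N ≠ 1 := fun h => hNb (Subgroup.card_eq_one.mp h)
    obtain ⟨p, hp, hpd⟩ := Nat.exists_prime_and_dvd hNcard
    have hpf : Fact p.Prime := ⟨hp⟩
    obtain ⟨⟨z, hzN⟩, hzo⟩ := exists_prime_orderOf_dvd_card' (G := N) p hpd
    rw [Subgroup.orderOf_mk] at hzo
    exact sn_caseA hS hperf (hNZ hzN) hzo
  · -- self-centralizing case
    have hB1 : ∀ H : Subgroup G, C ≤ H → H ≠ C → ¬ IsMulCommutative H := by
      intro H hle hne hcomm
      apply hne
      apply le_antisymm _ hle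
      intro h hh
      rw [hC, mem_centralizer_iff]
      intro n hn
      have hnH : n ∈ H := hle (hNC hn)
      have h2 := hcomm.is_comm.comm ⟨n, hnH⟩ ⟨h, hh⟩
      exact congrArg Subtype.val h2
    have hntQ : Nontrivial (G ⧸ C) := QuotientGroup.nontrivial_iff.mpr hCt
    set π := QuotientGroup.mk' C with hπ
    have hπs : Function.Surjective π := QuotientGroup.mk'_surjective _
    have hker : π.ker = C := QuotientGroup.ker_mk' _
    apply sn_all_selfNormalizing_false (G := G ⧸ C)
    · have h2 := Subgroup.map_commutator (⊤ : Subgroup G) ⊤ π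
      rw [← MonoidHom.range_eq_map, MonoidHom.range_eq_top.mpr hπs] at h2
      rw [_root_.commutator_def, ← h2, ← _root_.commutator_def, hperf, ← MonoidHom.range_eq_map,
        MonoidHom.range_eq_top.mpr hπs]
    · intro K hK
      have hle : C ≤ K.comap π :=
        le_trans (le_of_eq hker.symm) (Subgroup.ker_le_comap π K)
      have hne : K.comap π ≠ C := by
        intro h
        apply hK
        rw [← Subgroup.map_comap_eq_self_of_surjective hπs K, h, Subgroup.map_eq_bot_iff, hker]
      have hn := hS _ (hB1 _ hle hne)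
      apply comap_injective hπs
      rw [Subgroup.comap_normalizer_eq_of_surjective _ hπs]
      exact hn

end snMain

end Cfsg.Agent.Lib.helper23
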