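import Mathlib

set_option autoImplicit false

namespace Cfsg.Agent.Lib.helper23

open Matrix

section Idem

variable {V : Type*} [Fintype V] [DecidableEq V]

/-- the trace of an idempotent real matrix is a natural number -/
theorem srg_idem_trace_nat (E : Matrix V V ℝ) (hE : E * E = E) : ∃ n : ℕ, E.trace = n := by
  have h1 : IsIdempotentElem (Matrix.toLin' E) := by
    unfold IsIdempotentElem
    rw [Module.End.mul_eq_comp, ← Matrix.toLin'_mul, hE]
  have h2 := (LinearMap.IsIdempotentElem.isProj_range _ h1).trace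
  rw [Matrix.trace_toLin'_eq] at h2
  exact ⟨_, h2⟩

/-- the square of a combination of `A`, `1`, `J` in the Bose–Mesner algebra -/
theorem srg_comb_sq (A J : Matrix V V ℝ) (v k α β γ : ℝ)
    (hA2 : A * A = α • (1 : Matrix V V ℝ) + β • A + γ • J)
    (hAJ : A * J = k • J) (hJA : J * A = k • J) (hJJ : J * J = v • J) (a b c : ℝ) :
    (a • A + b • (1 : Matrix V V ℝ) + c • J) * (a • A + b • (1 : Matrix V V ℝ) + c • J) =
      (a * a * β + 2 * a * b) • A + (a * a * α + b * b) • (1 : Matrix V V ℝ) +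
      (a * a * γ + v * c * c + 2 * k * a * c + 2 * b * c) • J := by
  simp only [add_mul, mul_add, smul_mul_assoc, mul_smul_comm, mul_one, one_mul, hA2, hAJ, hJA,
    hJJ, smul_add, smul_smul]
  module

theorem srg_idem_of (A J : Matrix V V ℝ) (v k α β γ : ℝ)
    (hA2 : A * A = α • (1 : Matrix V V ℝ) + β • A + γ • J)
    (hAJ : A * J = k • J) (hJA : J * A = k • J) (hJJ : J * J = v • J) (a b c : ℝ)
    (h1 : a * a * β + 2 * a * b = a) (h2 : a * a * α + b * b = b)
    (h3 : a * a * γ + v * c * c + 2 * k * a * c + 2 * b * c = c) :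
    (a • A + b • (1 : Matrix V V ℝ) + c • J) * (a • A + b • (1 : Matrix V V ℝ) + c • J) =
      a • A + b • (1 : Matrix V V ℝ) + c • J := by
  rw [srg_comb_sq A J v k α β γ hA2 hAJ hJA hJJ, h1, h2, h3]

theorem srg_trace_comb (hV : Fintype.card V = 22) (A J : Matrix V V ℝ) (htr : A.trace = 0)
    (hJtr : J.trace = 22) (a b c : ℝ) :
    (a • A + b • (1 : Matrix V V ℝ) + c • J).trace = 22 * b + 22 * c := by
  rw [Matrix.trace_add, Matrix.trace_add, Matrix.trace_smul, Matrix.trace_smul,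
    Matrix.trace_smul, htr, hJtr, Matrix.trace_one, hV]
  simp only [smul_eq_mul, mul_zero, zero_add]
  push_cast
  ring

/-- there is no strongly regular graph on `22` points of valency `12` -/
theorem srg22_no (hV : Fintype.card V = 22) (A J : Matrix V V ℝ) (htr : A.trace = 0)
    (hJtr : J.trace = 22) (hJ0 : J ≠ 0) (hJJ : J * J = (22 : ℝ) • J)
    (hAJ : A * J = (12 : ℝ) • J) (hJA : J * A = (12 : ℝ) • J) (l m : ℕ)
    (hA2 : A * A = (12 : ℝ) • (1 : Matrix V V ℝ) + (l : ℝ) • A + (m : ℝ) • (J - 1 - A)) :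
    False := by
  -- the parameter relation
  have hrel : 12 * l + 9 * m = 132 := by
    have e1 : (A * A) * J = (144 : ℝ) • J := by
      rw [Matrix.mul_assoc, hAJ, Matrix.mul_smul, hAJ, smul_smul]
      norm_num
    have e2 : (A * A) * J = ((12 : ℝ) + 12 * l + 9 * m) • J := by
      rw [hA2]
      simp only [add_mul, sub_mul, smul_mul_assoc, one_mul, hAJ, hJJ, smul_smul, smul_sub]
      module
    rw [e1] at e2
    have e3 : ((144 : ℝ) - ((12 : ℝ) + 12 * l + 9 * m)) • J = 0 := by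
      rw [sub_smul, ← e2, sub_self]
    rcases smul_eq_zero.mp e3 with h | h
    · have h2 : (12 : ℝ) * l + 9 * m = 132 := by linarith
      exact_mod_cast h2
    · exact absurd h hJ0
  have hA2' : A * A = ((12 : ℝ) - m) • (1 : Matrix V V ℝ) + ((l : ℝ) - m) • A + (m : ℝ) • J := by
    rw [hA2]
    module
  have hl : l ≤ 11 := by omega
  interval_cases l
  all_goals try omega
  · -- (2, 12)
    have hm : m = 12 := by omega
    subst hm
    have hE := srg_idem_of A J 22 12 _ _ _ hA2' hAJ hJA hJJ (-1 / 10) 0 (3 / 55)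
      (by push_cast; norm_num) (by push_cast; norm_num) (by push_cast; norm_num)
    obtain ⟨n, hn⟩ := srg_idem_trace_nat _ hE
    rw [srg_trace_comb hV A J htr hJtr] at hn
    have h2 : (6 : ℝ) = 5 * n := by linarith
    have h3 : 6 = 5 * n := by exact_mod_cast h2
    omega
  · -- (5, 8)
    have hm : m = 8 := by omega
    subst hm
    have hE := srg_idem_of A J 22 12 _ _ _ hA2' hAJ hJA hJJ (1 / 5) (4 / 5) (-8 / 55)
      (by push_cast; norm_num) (by push_cast; norm_num) (by push_cast; norm_num)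
    obtain ⟨n, hn⟩ := srg_idem_trace_nat _ hE
    rw [srg_trace_comb hV A J htr hJtr] at hn
    have h2 : (72 : ℝ) = 5 * n := by linarith
    have h3 : 72 = 5 * n := by exact_mod_cast h2
    omega
  · -- (8, 4)
    have hm : m = 4 := by omega
    subst hm
    have hs : Real.sqrt 3 * Real.sqrt 3 = 3 := Real.mul_self_sqrt (by norm_num)
    have hE := srg_idem_of A J 22 12 _ _ _ hA2' hAJ hJA hJJ (Real.sqrt 3 / 12)
      (1 / 2 - Real.sqrt 3 / 6) (-(5 * Real.sqrt 3 + 3) / 132)
      (by push_cast; linear_combination (0 : ℝ) * hs)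
      (by push_cast; linear_combination (1 / 12 : ℝ) * hs)
      (by push_cast; linear_combination (-1 / 264 : ℝ) * hs)
    obtain ⟨n, hn⟩ := srg_idem_trace_nat _ hE
    rw [srg_trace_comb hV A J htr hJtr] at hn
    have h2 : Real.sqrt 3 = ((21 - 2 * (n : ℚ)) / 9 : ℚ) := by
      push_cast
      linarith
    have h3 : Irrational (Real.sqrt (3 : ℕ)) := Nat.Prime.irrational_sqrt Nat.prime_three
    apply h3
    refine ⟨(21 - 2 * (n : ℚ)) / 9, ?_⟩
    rw [← h2]
    norm_num
  · -- (11, 0)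
    have hm : m = 0 := by omega
    subst hm
    have hE := srg_idem_of A J 22 12 _ _ _ hA2' hAJ hJA hJJ (1 / 13) (1 / 13) 0
      (by push_cast; norm_num) (by push_cast; norm_num) (by push_cast; norm_num)
    obtain ⟨n, hn⟩ := srg_idem_trace_nat _ hE
    rw [srg_trace_comb hV A J htr hJtr] at hn
    have h2 : (22 : ℝ) = 13 * n := by linarith
    have h3 : 22 = 13 * n := by exact_mod_cast h2
    omega

end Idem

section Graph

variable {V : Type*} [Fintype V] [DecidableEq V]

/-- no strongly regular graph has parameters `(22, 12, l, m)` -/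
theorem srg22_no_graph (Γ : SimpleGraph V) [DecidableRel Γ.Adj] (l m : ℕ)
    (h : Γ.IsSRGWith 22 12 l m) : False := by
  have hV : Fintype.card V = 22 := h.card
  haveI : Nonempty V := Fintype.card_pos_iff.mp (by rw [hV]; norm_num)
  have hdeg : ∀ v, Γ.degree v = 12 := h.regular
  have hJtr : (Matrix.of (1 : V → V → ℝ)).trace = 22 := by
    simp [Matrix.trace, hV]
  have hJ0 : (Matrix.of (1 : V → V → ℝ)) ≠ 0 := by
    intro h0
    obtain ⟨v⟩ := ‹Nonempty V›
    have := congrFun (congrFun h0 v) v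
    simp at this
  have hJJ : (Matrix.of (1 : V → V → ℝ)) * (Matrix.of (1 : V → V → ℝ)) =
      (22 : ℝ) • (Matrix.of (1 : V → V → ℝ)) := by
    ext i j
    simp [Matrix.mul_apply, hV]
  have hAJ : Γ.adjMatrix ℝ * (Matrix.of (1 : V → V → ℝ)) =
      (12 : ℝ) • (Matrix.of (1 : V → V → ℝ)) := by
    ext i j
    rw [SimpleGraph.adjMatrix_mul_apply]
    simp [hdeg i]
  have hJA : (Matrix.of (1 : V → V → ℝ)) * Γ.adjMatrix ℝ =
      (12 : ℝ) • (Matrix.of (1 : V → V → ℝ)) := by
    ext i j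
    rw [SimpleGraph.mul_adjMatrix_apply]
    simp [hdeg j]
  have hc : Γᶜ.adjMatrix ℝ = Matrix.of (1 : V → V → ℝ) - 1 - Γ.adjMatrix ℝ := by
    have h1 := SimpleGraph.one_add_adjMatrix_add_compl_adjMatrix_eq_of_one (G := Γ) (α := ℝ)
    rw [SimpleGraph.compl_adjMatrix_eq_adjMatrix_compl] at h1
    rw [← h1]
    abel
  have hA2 : Γ.adjMatrix ℝ * Γ.adjMatrix ℝ = (12 : ℝ) • (1 : Matrix V V ℝ) +
      (l : ℝ) • Γ.adjMatrix ℝ + (m : ℝ) • (Matrix.of (1 : V → V → ℝ) - 1 - Γ.adjMatrix ℝ) := by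
    have h1 := h.matrix_eq (α := ℝ)
    rw [pow_two, hc] at h1
    rw [h1, ← Nat.cast_smul_eq_nsmul ℝ 12, ← Nat.cast_smul_eq_nsmul ℝ l,
      ← Nat.cast_smul_eq_nsmul ℝ m, Nat.cast_ofNat]
  exact srg22_no hV _ _ (SimpleGraph.trace_adjMatrix ℝ Γ) hJtr hJ0 hJJ hAJ hJA l m hA2

end Graph

end Cfsg.Agent.Lib.helper23
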