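import Mathlib

set_option autoImplicit false

namespace Cfsg.Agent.Lib.helper23

open Equiv

/-- A group generated by `m` transpositions has all its orbits of size at most `m + 1`. -/
theorem card_orbit_closure_swaps_le {α : Type*} [Finite α] [DecidableEq α] {m : ℕ}
    (t : Fin m → Perm α) (ht : ∀ i, (t i).IsSwap) (x : α) :
    Nat.card (MulAction.orbit (Subgroup.closure (Set.range t)) x) ≤ m + 1 := by
  have : Fintype α := Fintype.ofFinite α
  set K := Subgroup.closure (Set.range t) with hK
  set O := MulAction.orbit K x with hO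
  have : Fintype O := Fintype.ofFinite O
  have ht' : ∀ i, ∃ x y, x ≠ y ∧ t i = swap x y := ht
  choose a b hab using ht'
  let Φ : (α → ℚ) →ₗ[ℚ] (Fin m → ℚ) :=
    LinearMap.pi (fun i => (LinearMap.proj (a i) : (α → ℚ) →ₗ[ℚ] ℚ) - (LinearMap.proj (b i) : (α → ℚ) →ₗ[ℚ] ℚ))
  let E : (O → ℚ) →ₗ[ℚ] (α → ℚ) := Function.ExtendByZero.linearMap ℚ (Subtype.val : O → α)
  let Ψ : (O → ℚ) →ₗ[ℚ] (Fin m → ℚ) := Φ.comp E
  have hker : LinearMap.ker Ψ ≤ Submodule.span ℚ {fun _ => (1:ℚ)} := by
    intro f hf
    rw [LinearMap.mem_ker] at hf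
    set f' : α → ℚ := Function.extend Subtype.val f 0 with hf'
    have h1 : ∀ i, f' (a i) = f' (b i) := by
      intro i
      have := congrFun hf i
      simp only [Ψ, Φ, E, LinearMap.comp_apply, LinearMap.pi_apply, LinearMap.sub_apply,
        LinearMap.proj_apply, Function.ExtendByZero.linearMap_apply, Pi.zero_apply] at this
      exact sub_eq_zero.mp this
    have h2 : ∀ i y, f' (t i y) = f' y := by
      intro i y
      rw [(hab i).2, swap_apply_def]
      split_ifs with h3 h4
      · rw [h3, h1 i]
      · rw [h4, h1 i]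
      · rfl
    have h3 : ∀ k ∈ K, ∀ y, f' (k y) = f' y := by
      intro k hk
      induction hk using Subgroup.closure_induction with
      | mem k hk =>
        obtain ⟨i, rfl⟩ := hk
        exact h2 i
      | one => intro y; rfl
      | mul k1 k2 _ _ ih1 ih2 =>
        intro y
        rw [Perm.mul_apply, ih1, ih2]
      | inv k _ ih =>
        intro y
        have := ih (k⁻¹ y)
        have h5 : k (k⁻¹ y) = y := by
          rw [← Perm.mul_apply, mul_inv_cancel, Perm.one_apply]
        rw [h5] at this
        exact this.symm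
    have h4 : f = (f' x) • (fun _ => (1:ℚ)) := by
      ext y
      obtain ⟨k, hk⟩ := y.2
      have : f y = f' y.1 := by
        rw [hf']
        exact (Subtype.val_injective.extend_apply f 0 y).symm
      rw [this, ← hk]
      have := h3 k.1 k.2 x
      simp only [Pi.smul_apply, smul_eq_mul, mul_one]
      exact this
    rw [h4]
    exact Submodule.smul_mem _ _ (Submodule.mem_span_singleton_self _)
  have h1 : Module.finrank ℚ (LinearMap.ker Ψ) ≤ 1 := by
    refine (Submodule.finrank_mono hker).trans ?_
    exact (finrank_span_le_card _).trans (by simp)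
  have h2 : Module.finrank ℚ (LinearMap.range Ψ) ≤ m := by
    refine (Submodule.finrank_le _).trans ?_
    simp
  have h3 := LinearMap.finrank_range_add_finrank_ker Ψ
  rw [Module.finrank_fintype_fun_eq_card] at h3
  rw [Nat.card_eq_fintype_card]
  omega

end Cfsg.Agent.Lib.helper23
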