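import Mathlib
import Cfsg.Agent.Lib.helper23.Syl21c
import Cfsg.Agent.S0985

set_option autoImplicit false

namespace Cfsg.Agent.Lib.helper23

open Cfsg.Agent.Lib.helper8

open Pointwise

section Count

/-- double counting with constant fibres -/
theorem s22_double_count {α β : Type*} [Finite α] [Finite β] (R : α → β → Prop) (a b : ℕ)
    (ha : ∀ x, Nat.card {y // R x y} = a) (hb : ∀ y, Nat.card {x // R x y} = b) :
    Nat.card α * a = Nat.card β * b := by
  classical
  letI : Fintype α := Fintype.ofFinite α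
  letI : Fintype β := Fintype.ofFinite β
  have h1 : Nat.card {xy : α × β // R xy.1 xy.2} = Nat.card α * a := by
    rw [Nat.card_congr (Equiv.subtypeProdEquivSigmaSubtype R), Nat.card_sigma]
    simp only [ha, Finset.sum_const, Finset.card_univ, smul_eq_mul, Nat.card_eq_fintype_card]
  have h2 : Nat.card {xy : α × β // R xy.1 xy.2} = Nat.card β * b := by
    have e : {xy : α × β // R xy.1 xy.2} ≃ {yx : β × α // R yx.2 yx.1} :=
      { toFun := fun z => ⟨(z.1.2, z.1.1), z.2⟩
        invFun := fun z => ⟨(z.1.2, z.1.1), z.2⟩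
        left_inv := fun z => rfl
        right_inv := fun z => rfl }
    rw [Nat.card_congr e,
      Nat.card_congr (Equiv.subtypeProdEquivSigmaSubtype (fun (y : β) (x : α) => R x y)),
      Nat.card_sigma]
    simp only [hb, Finset.sum_const, Finset.card_univ, smul_eq_mul, Nat.card_eq_fintype_card]
  rw [← h1, h2]

end Count

section Lines

variable {G : Type*} [Group G] [Finite G] {p : ℕ} [hp : Fact p.Prime]

theorem s22_conj_mul (g h : G) (D : Subgroup G) :
    MulAut.conj (g * h) • D = MulAut.conj g • (MulAut.conj h • D) := by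
  rw [map_mul, mul_smul]

theorem s22_conj_inv_smul (g : G) (D : Subgroup G) :
    MulAut.conj g⁻¹ • (MulAut.conj g • D) = D := by
  rw [← s22_conj_mul, inv_mul_cancel, map_one, one_smul]

theorem s22_conj_smul_inv (g : G) (D : Subgroup G) :
    MulAut.conj g • (MulAut.conj g⁻¹ • D) = D := by
  rw [← s22_conj_mul, mul_inv_cancel, map_one, one_smul]

theorem s22_card_conj (g : G) (D : Subgroup G) :
    Nat.card (MulAut.conj g • D : Subgroup G) = Nat.card D :=
  (Nat.card_congr (Subgroup.equivSMul (MulAut.conj g) D).toEquiv).symm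

theorem s22_conj_le_iff (g : G) (D E : Subgroup G) :
    MulAut.conj g • D ≤ E ↔ D ≤ MulAut.conj g⁻¹ • E := by
  rw [Subgroup.pointwise_smul_subset_iff, map_inv]

theorem s22_conj_eq_of_mem_normalizer (g : G) (D : Subgroup G)
    (h : g ∈ Subgroup.normalizer (D : Set G)) : MulAut.conj g • D = D := by
  rw [Subgroup.mem_normalizer_iff_map_conj_eq] at h
  exact h

theorem s22_mem_normalizer_of_conj_eq (g : G) (D : Subgroup G)
    (h : MulAut.conj g • D = D) : g ∈ Subgroup.normalizer (D : Set G) := by
  rw [Subgroup.mem_normalizer_iff_map_conj_eq]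
  exact h

/-- number of Sylow subgroups containing a conjugate of `D` -/
theorem s22_card_containing_conj (D : Subgroup G) (g : G) :
    Nat.card {Q : Sylow p G // MulAut.conj g • D ≤ (Q : Subgroup G)} =
      Nat.card {Q : Sylow p G // D ≤ (Q : Subgroup G)} := by
  apply Nat.card_congr
  refine ⟨fun Q => ⟨g⁻¹ • Q.1, ?_⟩, fun Q => ⟨g • Q.1, ?_⟩, ?_, ?_⟩
  · have h := Q.2
    rw [s22_conj_le_iff] at h
    exact h
  · have h := Q.2
    show MulAut.conj g • D ≤ MulAut.conj g • (Q.1 : Subgroup G)
    exact Subgroup.pointwise_smul_le_pointwise_smul_iff.mpr h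
  · intro Q
    apply Subtype.ext
    show g • g⁻¹ • Q.1 = Q.1
    rw [smul_inv_smul]
  · intro Q
    apply Subtype.ext
    show g⁻¹ • g • Q.1 = Q.1
    rw [inv_smul_smul]

/-- the number of elements conjugating `D` into a Sylow subgroup does not depend on it -/
theorem s22_card_into (D : Subgroup G) (P Q : Sylow p G) :
    Nat.card {g : G // MulAut.conj g • D ≤ (Q : Subgroup G)} =
      Nat.card {g : G // MulAut.conj g • D ≤ (P : Subgroup G)} := by
  obtain ⟨x, hx⟩ := MulAction.exists_smul_eq G P Q
  subst hx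
  apply Nat.card_congr
  refine ⟨fun g => ⟨x⁻¹ * g.1, ?_⟩, fun g => ⟨x * g.1, ?_⟩, ?_, ?_⟩
  · have h := g.2
    rw [s22_conj_mul, s22_conj_le_iff, inv_inv]
    exact h
  · have h := g.2
    rw [s22_conj_mul]
    show MulAut.conj x • (MulAut.conj g.1 • D) ≤ MulAut.conj x • (P : Subgroup G)
    exact Subgroup.pointwise_smul_le_pointwise_smul_iff.mpr h
  · intro g
    apply Subtype.ext
    show x * (x⁻¹ * g.1) = g.1
    group
  · intro g
    apply Subtype.ext
    show x⁻¹ * (x * g.1) = g.1
    group

/-- incidence count between conjugates of `D` and Sylow subgroups -/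
theorem s22_inc_count (D : Subgroup G) (P : Sylow p G) :
    Nat.card G * Nat.card {Q : Sylow p G // D ≤ (Q : Subgroup G)} =
      Nat.card (Sylow p G) * Nat.card {g : G // MulAut.conj g • D ≤ (P : Subgroup G)} :=
  s22_double_count (fun (g : G) (Q : Sylow p G) => MulAut.conj g • D ≤ (Q : Subgroup G)) _ _
    (fun g => s22_card_containing_conj D g) (fun Q => s22_card_into D P Q)

/-- the elements conjugating `D` into `P` form a union of cosets of the normalizer -/
theorem s22_card_into_eq (D : Subgroup G) (P : Sylow p G) :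
    Nat.card {g : G // MulAut.conj g • D ≤ (P : Subgroup G)} =
      Nat.card {y : G ⧸ Subgroup.normalizer (D : Set G) //
        ∃ g : G, (g : G ⧸ Subgroup.normalizer (D : Set G)) = y ∧
          MulAut.conj g • D ≤ (P : Subgroup G)} *
      Nat.card (Subgroup.normalizer (D : Set G)) := by
  apply Cfsg.Agent.S1019.card_subtype_of_fiber
    (fun g : G => (g : G ⧸ Subgroup.normalizer (D : Set G)))
  · intro g
    constructor
    · intro h
      exact ⟨g, rfl, h⟩
    · rintro ⟨g', hg', h⟩
      have h1 : g'⁻¹ * g ∈ Subgroup.normalizer (D : Set G) := QuotientGroup.eq.mp hg'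
      have h2 : g = g' * (g'⁻¹ * g) := by group
      rw [h2, s22_conj_mul, s22_conj_eq_of_mem_normalizer _ _ h1]
      exact h
  · intro y _
    exact Cfsg.Agent.S1019.fiber_mk _ y

theorem s22_card_erase {α : Type*} [Finite α] (q : α → Prop) (a : α) (ha : q a) :
    Nat.card {x // q x ∧ x ≠ a} + 1 = Nat.card {x // q x} := by
  classical
  letI : Fintype α := Fintype.ofFinite α
  rw [Nat.card_eq_fintype_card, Nat.card_eq_fintype_card, Fintype.card_subtype,
    Fintype.card_subtype]
  have h1 : (Finset.univ.filter (fun x => q x ∧ x ≠ a)) = (Finset.univ.filter q).erase a := by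
    ext x
    simp only [Finset.mem_filter, Finset.mem_univ, true_and, Finset.mem_erase]
    tauto
  rw [h1]
  exact Finset.card_erase_add_one (by simp [ha])

/-- a subgroup of index `p` in `P` lying in another Sylow subgroup is the intersection -/
theorem s22_eq_inf (P Q : Sylow p G) (hne : Q ≠ P) (E : Subgroup G) (hEP : E ≤ (P : Subgroup G))
    (hEQ : E ≤ (Q : Subgroup G)) (hcard : p * Nat.card E = Nat.card (P : Subgroup G)) :
    E = (P : Subgroup G) ⊓ (Q : Subgroup G) := by
  have hle : E ≤ (P : Subgroup G) ⊓ (Q : Subgroup G) := le_inf hEP hEQ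
  apply Subgroup.eq_of_le_of_card_ge hle
  obtain ⟨j, hj⟩ := Subgroup.card_dvd_of_le hle
  obtain ⟨i, hi⟩ := Subgroup.card_dvd_of_le
    (inf_le_left : (P : Subgroup G) ⊓ (Q : Subgroup G) ≤ (P : Subgroup G))
  have hE0 : 0 < Nat.card E := Nat.card_pos
  have hji : j * i = p := by
    have h1 : Nat.card E * p = Nat.card E * (j * i) := by
      rw [mul_comm, hcard, hi, hj, mul_assoc]
    exact (Nat.eq_of_mul_eq_mul_left hE0 h1).symm
  have hj1 : j = 1 ∨ j = p := (Nat.dvd_prime hp.out).mp ⟨i, hji.symm⟩
  rcases hj1 with h | h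
  · rw [hj, h, mul_one]
  · exfalso
    have hi1 : i = 1 := by
      rw [h] at hji
      have : p * i = p * 1 := by rw [hji, mul_one]
      exact Nat.eq_of_mul_eq_mul_left hp.out.pos this
    rw [hi1, mul_one] at hi
    have h2 : (P : Subgroup G) ⊓ (Q : Subgroup G) = (P : Subgroup G) :=
      Subgroup.eq_of_le_of_card_ge inf_le_left (le_of_eq hi)
    have h3 : (P : Subgroup G) ≤ (Q : Subgroup G) := by
      rw [← h2]; exact inf_le_right
    exact hne (h8_sylow_eq_of_le p P Q h3).symm

/-- the points on the lines through `P` in the class of `D` -/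
theorem s22_card_points (D : Subgroup G) (P : Sylow p G) (hDP : D ≤ (P : Subgroup G))
    (hcard : p * Nat.card D = Nat.card (P : Subgroup G)) :
    Nat.card {g : G // MulAut.conj g • D ≤ (P : Subgroup G)} *
        (Nat.card {Q : Sylow p G // D ≤ (Q : Subgroup G)} - 1) =
      Nat.card {R : Sylow p G // R ≠ P ∧
        ∃ g : G, MulAut.conj g • D = (P : Subgroup G) ⊓ (R : Subgroup G)} *
      Nat.card (Subgroup.normalizer (D : Set G)) := by
  apply s22_double_count
    (fun (g : {g : G // MulAut.conj g • D ≤ (P : Subgroup G)})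
      (R : {R : Sylow p G // R ≠ P ∧
        ∃ g : G, MulAut.conj g • D = (P : Subgroup G) ⊓ (R : Subgroup G)}) =>
      MulAut.conj g.1 • D ≤ (R.1 : Subgroup G))
  · intro g
    have h1 := s22_card_erase (fun Q : Sylow p G => MulAut.conj g.1 • D ≤ (Q : Subgroup G)) P g.2
    rw [s22_card_containing_conj] at h1
    have h2 : Nat.card {R : {R : Sylow p G // R ≠ P ∧
        ∃ g : G, MulAut.conj g • D = (P : Subgroup G) ⊓ (R : Subgroup G)} //
        MulAut.conj g.1 • D ≤ (R.1 : Subgroup G)} =
        Nat.card {Q : Sylow p G // MulAut.conj g.1 • D ≤ (Q : Subgroup G) ∧ Q ≠ P} := by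
      apply Nat.card_congr
      refine ⟨fun R => ⟨R.1.1, R.2, R.1.2.1⟩, fun Q => ⟨⟨Q.1, Q.2.2, g.1, ?_⟩, Q.2.1⟩, ?_, ?_⟩
      · apply s22_eq_inf P Q.1 Q.2.2 _ g.2 Q.2.1
        rw [s22_card_conj]
        exact hcard
      · intro R
        rfl
      · intro Q
        rfl
    rw [h2]
    omega
  · intro R
    obtain ⟨hRP, g0, hg0⟩ := R.2
    have h1 : Nat.card {g : {g : G // MulAut.conj g • D ≤ (P : Subgroup G)} //
        MulAut.conj g.1 • D ≤ (R.1 : Subgroup G)} =
        Nat.card (Subgroup.normalizer (D : Set G)) := by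
      apply Nat.card_congr
      refine ⟨fun g => ⟨g0⁻¹ * g.1.1, ?_⟩, fun h => ⟨⟨g0 * h.1, ?_⟩, ?_⟩, ?_, ?_⟩
      · apply s22_mem_normalizer_of_conj_eq
        have h2 : MulAut.conj g.1.1 • D = (P : Subgroup G) ⊓ (R.1 : Subgroup G) := by
          apply s22_eq_inf P R.1 hRP _ g.1.2 g.2
          rw [s22_card_conj]
          exact hcard
        rw [s22_conj_mul, h2, ← hg0, s22_conj_inv_smul]
      · rw [s22_conj_mul, s22_conj_eq_of_mem_normalizer _ _ h.2, hg0]
        exact inf_le_left
      · show MulAut.conj (g0 * h.1) • D ≤ (R.1 : Subgroup G)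
        rw [s22_conj_mul, s22_conj_eq_of_mem_normalizer _ _ h.2, hg0]
        exact inf_le_right
      · intro g
        apply Subtype.ext
        apply Subtype.ext
        show g0 * (g0⁻¹ * g.1.1) = g.1.1
        group
      · intro h
        apply Subtype.ext
        show g0⁻¹ * (g0 * h.1) = h.1
        group
    exact h1

end Lines

end Cfsg.Agent.Lib.helper23
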