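import Mathlib
import Cfsg.Agent.Lib.helper23.Syl22a
import Cfsg.Agent.S0675

set_option autoImplicit false

namespace Cfsg.Agent.Lib.helper23

open Cfsg.Agent.Lib.helper8

open Pointwise

/-- the arithmetic of lines through a point, for `22` points and `p = 3` -/
theorem s22_arith (k o idx : ℕ) (hk3 : k ≡ 1 [MOD 3]) (hk2 : 2 ≤ k) (ho : 1 ≤ o)
    (h1 : idx * k = 22 * o) (h2 : o * (k - 1) ≤ 21) :
    (k = 22 ∧ idx = 1) ∨
      (k = 4 ∧ ((o = 2 ∧ idx = 11) ∨ (o = 4 ∧ idx = 22) ∨ (o = 6 ∧ idx = 33))) := by
  have hk22 : k ≤ 22 := by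
    by_contra hcon
    have : 22 ≤ k - 1 := by omega
    have h3 : 1 * 22 ≤ o * (k - 1) := Nat.mul_le_mul ho this
    omega
  have ho21 : o ≤ 21 := by
    have : 1 ≤ k - 1 := by omega
    have h3 : o * 1 ≤ o * (k - 1) := Nat.mul_le_mul le_rfl this
    omega
  unfold Nat.ModEq at hk3
  interval_cases k <;> simp at hk3 <;> interval_cases o <;> omega

section Lines

variable {G : Type*} [Group G] [Finite G] {p : ℕ} [hp : Fact p.Prime]

/-- summary of the counting on the lines in the class of `D` through the point `P` -/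
theorem s22_line_data (D : Subgroup G) (P : Sylow p G) (hDP : D ≤ (P : Subgroup G))
    (hcard : p * Nat.card D = Nat.card (P : Subgroup G)) :
    (Subgroup.normalizer (D : Set G)).index *
        Nat.card {Q : Sylow p G // D ≤ (Q : Subgroup G)} =
      Nat.card (Sylow p G) *
        Nat.card {y : G ⧸ Subgroup.normalizer (D : Set G) //
          ∃ g : G, (g : G ⧸ Subgroup.normalizer (D : Set G)) = y ∧
            MulAut.conj g • D ≤ (P : Subgroup G)} ∧
    Nat.card {y : G ⧸ Subgroup.normalizer (D : Set G) //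
          ∃ g : G, (g : G ⧸ Subgroup.normalizer (D : Set G)) = y ∧
            MulAut.conj g • D ≤ (P : Subgroup G)} *
        (Nat.card {Q : Sylow p G // D ≤ (Q : Subgroup G)} - 1) =
      Nat.card {R : Sylow p G // R ≠ P ∧
        ∃ g : G, MulAut.conj g • D = (P : Subgroup G) ⊓ (R : Subgroup G)} := by
  have h1 := s22_inc_count D P
  have h2 := s22_card_into_eq D P
  have h3 := s22_card_points D P hDP hcard
  have h4 := Subgroup.index_mul_card (Subgroup.normalizer (D : Set G))
  have hH : 0 < Nat.card (Subgroup.normalizer (D : Set G)) := Nat.card_pos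
  generalize Nat.card {g : G // MulAut.conj g • D ≤ (P : Subgroup G)} = s at h1 h2 h3
  generalize Nat.card {y : G ⧸ Subgroup.normalizer (D : Set G) //
          ∃ g : G, (g : G ⧸ Subgroup.normalizer (D : Set G)) = y ∧
            MulAut.conj g • D ≤ (P : Subgroup G)} = o at h2 ⊢
  generalize Nat.card {Q : Sylow p G // D ≤ (Q : Subgroup G)} = k at h1 h3 ⊢
  generalize Nat.card {R : Sylow p G // R ≠ P ∧
        ∃ g : G, MulAut.conj g • D = (P : Subgroup G) ⊓ (R : Subgroup G)} = u at h3 ⊢
  generalize Nat.card (Sylow p G) = n at h1 ⊢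
  generalize Nat.card (Subgroup.normalizer (D : Set G)) = h at h2 h3 h4 hH
  generalize (Subgroup.normalizer (D : Set G)).index = i at h4 ⊢
  generalize Nat.card G = g at h1 h4
  subst h2 h4
  constructor
  · apply Nat.eq_of_mul_eq_mul_right hH
    calc i * k * h = i * h * k := by ring
      _ = n * (o * h) := h1
      _ = n * o * h := by ring
  · apply Nat.eq_of_mul_eq_mul_right hH
    calc o * (k - 1) * h = o * h * (k - 1) := by ring
      _ = u * h := h3

end Lines

section Kill

/-- the normalizer of a nontrivial `p`-subgroup of a simple group does not have prime index `q`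
unless `q` is `1` modulo `p` -/
theorem s22_prime_index_kill {G : Type*} [Group G] [Finite G] [IsSimpleGroup G]
    (hnc : ¬ IsMulCommutative G) (p q : ℕ) [hp : Fact p.Prime] (hq : q.Prime)
    (hpq : ¬ q ≡ 1 [MOD p]) (D : Subgroup G) (hD : IsPGroup p D) (hD1 : D ≠ ⊥)
    (hidx : (Subgroup.normalizer (D : Set G)).index = q) : False := by
  classical
  set H := Subgroup.normalizer (D : Set G) with hH
  letI : Fintype (G ⧸ H) := Fintype.ofFinite _
  have hcardY : Fintype.card (G ⧸ H) = q := by
    rw [← Nat.card_eq_fintype_card, ← Subgroup.index_eq_card]; exact hidx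
  have hHtop : H ≠ ⊤ := by
    intro h
    rw [h, Subgroup.index_top] at hidx
    exact hq.one_lt.ne' hidx.symm
  -- the kernel of the action is trivial
  have hfaith : ∀ c : G, (∀ x : G ⧸ H, c • x = x) → c = 1 :=
    fun c hc => og2_eq_one_of_fixes_all H hHtop c hc
  set φ := MulAction.toPermHom G (G ⧸ H) with hφ
  haveI : MulAction.IsPretransitive φ.range (G ⧸ H) := by
    constructor
    intro x y
    obtain ⟨g, hg⟩ := MulAction.exists_smul_eq G x y
    exact ⟨⟨φ g, g, rfl⟩, hg⟩
  rcases Cfsg.Agent.S0675.result (by rw [hcardY]; exact hq) φ.range with hs | h2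
  · -- solvable case
    have hinj : Function.Injective φ.rangeRestrict := by
      rw [← MonoidHom.ker_eq_bot_iff, MonoidHom.ker_rangeRestrict, MonoidHom.ker_eq_bot_iff]
      intro a b hab
      have h1 : a⁻¹ * b = 1 := by
        apply hfaith
        intro x
        have h2 : φ a x = φ b x := by rw [hab]
        have h3 : a • x = b • x := h2
        rw [mul_smul, ← h3, inv_smul_smul]
      exact (inv_mul_eq_one.mp h1)
    have hsG : Group.IsSolvable G := Group.isSolvable_of_isSolvable_injective hinj
    apply hnc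
    have hcomm := (IsSimpleGroup.comm_iff_isSolvable (G := G)).mpr hsG
    exact ⟨⟨hcomm⟩⟩
  · -- doubly transitive case
    rw [MulAction.is_two_pretransitive_iff] at h2
    have hmod := hD.card_modEq_card_fixedPoints (G ⧸ H)
    have hy0 : ((1 : G) : G ⧸ H) ∈ MulAction.fixedPoints D (G ⧸ H) := by
      intro d
      exact og2_base_fixed H (d : G) (Subgroup.le_normalizer d.2)
    have hex : ∃ y1 ∈ MulAction.fixedPoints D (G ⧸ H), y1 ≠ ((1 : G) : G ⧸ H) := by
      by_contra hcon
      push Not at hcon
      have h1 : Nat.card (MulAction.fixedPoints D (G ⧸ H)) = 1 := by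
        rw [Nat.card_eq_one_iff_unique]
        refine ⟨⟨fun a b => ?_⟩, ⟨⟨_, hy0⟩⟩⟩
        apply Subtype.ext
        rw [hcon a.1 a.2, hcon b.1 b.2]
      rw [h1, Nat.card_eq_fintype_card, hcardY] at hmod
      exact hpq hmod
    obtain ⟨y1, hy1, hy10⟩ := hex
    have hall : ∀ y : G ⧸ H, ∀ d ∈ D, d • y = y := by
      intro y d hd
      by_cases hy : y = ((1 : G) : G ⧸ H)
      · rw [hy]; exact og2_base_fixed H d (Subgroup.le_normalizer hd)
      · obtain ⟨σ, hσ0, hσ1⟩ := h2 (a := ((1 : G) : G ⧸ H)) (b := y1)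
          (c := ((1 : G) : G ⧸ H)) (d := y) hy10.symm (fun h => hy h.symm)
        obtain ⟨h, hh⟩ := σ.2
        have hh0 : h • ((1 : G) : G ⧸ H) = ((1 : G) : G ⧸ H) := by
          have : (σ : Equiv.Perm (G ⧸ H)) ((1 : G) : G ⧸ H) = ((1 : G) : G ⧸ H) := hσ0
          rw [← hh] at this
          exact this
        have hh1 : h • y1 = y := by
          have : (σ : Equiv.Perm (G ⧸ H)) y1 = y := hσ1
          rw [← hh] at this
          exact this
        have hhH : h ∈ H := by
          rw [MulAction.Quotient.smul_mk, QuotientGroup.eq, smul_eq_mul] at hh0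
          have : (h * 1)⁻¹ * 1 ∈ H := hh0
          simpa using this
        have hdc : h⁻¹ * d * h ∈ D := by
          have h3 := (Subgroup.mem_normalizer_iff.mp (H.inv_mem hhH) d).mp hd
          simpa using h3
        rw [← hh1]
        have h4 : (h⁻¹ * d * h) • y1 = y1 := hy1 ⟨_, hdc⟩
        calc d • h • y1 = h • (h⁻¹ * d * h) • y1 := by
              simp only [← mul_smul]; congr 1; group
          _ = h • y1 := by rw [h4]
    apply hD1
    rw [eq_bot_iff]
    intro d hd
    rw [Subgroup.mem_bot]
    exact hfaith d (fun x => hall x d hd)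

end Kill

end Cfsg.Agent.Lib.helper23
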