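import Mathlib
import Cfsg.Agent.Lib.helper23.Srg22

set_option autoImplicit false

namespace Cfsg.Agent.Lib.helper23

section Rank3

variable {G X : Type*} [Group G] [MulAction G X] [Fintype X]
  (Γ : SimpleGraph X) [DecidableRel Γ.Adj]

theorem s22_card_common_smul
    (hinv : ∀ (g : G) (x y : X), Γ.Adj (g • x) (g • y) ↔ Γ.Adj x y) (g : G) (v w : X) :
    Fintype.card (Γ.commonNeighbors (g • v) (g • w)) =
      Fintype.card (Γ.commonNeighbors v w) := by
  apply Fintype.card_congr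
  refine ⟨fun a => ⟨g⁻¹ • a.1, ?_⟩, fun a => ⟨g • a.1, ?_⟩, ?_, ?_⟩
  · have ha := a.2
    rw [SimpleGraph.mem_commonNeighbors] at ha ⊢
    constructor
    · have := (hinv g v (g⁻¹ • a.1))
      rw [smul_inv_smul] at this
      exact this.mp ha.1
    · have := (hinv g w (g⁻¹ • a.1))
      rw [smul_inv_smul] at this
      exact this.mp ha.2
  · have ha := a.2
    rw [SimpleGraph.mem_commonNeighbors] at ha ⊢
    exact ⟨(hinv g v a.1).mpr ha.1, (hinv g w a.1).mpr ha.2⟩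
  · intro a
    apply Subtype.ext
    show g • g⁻¹ • a.1 = a.1
    rw [smul_inv_smul]
  · intro a
    apply Subtype.ext
    show g⁻¹ • g • a.1 = a.1
    rw [inv_smul_smul]

theorem s22_degree_smul
    (hinv : ∀ (g : G) (x y : X), Γ.Adj (g • x) (g • y) ↔ Γ.Adj x y) (g : G) (v : X) :
    Γ.degree (g • v) = Γ.degree v := by
  rw [← SimpleGraph.card_neighborSet_eq_degree, ← SimpleGraph.card_neighborSet_eq_degree]
  apply Fintype.card_congr
  refine ⟨fun a => ⟨g⁻¹ • a.1, ?_⟩, fun a => ⟨g • a.1, ?_⟩, ?_, ?_⟩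
  · have ha := a.2
    rw [SimpleGraph.mem_neighborSet] at ha ⊢
    have := (hinv g v (g⁻¹ • a.1))
    rw [smul_inv_smul] at this
    exact this.mp ha
  · have ha := a.2
    rw [SimpleGraph.mem_neighborSet] at ha ⊢
    exact (hinv g v a.1).mpr ha
  · intro a
    apply Subtype.ext
    show g • g⁻¹ • a.1 = a.1
    rw [smul_inv_smul]
  · intro a
    apply Subtype.ext
    show g⁻¹ • g • a.1 = a.1
    rw [inv_smul_smul]

/-- a graph with a vertex transitive group whose point stabilizer is transitive on the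
neighbours and on the non-neighbours of the point is strongly regular -/
theorem s22_rank3_srg
    (hinv : ∀ (g : G) (x y : X), Γ.Adj (g • x) (g • y) ↔ Γ.Adj x y)
    (x0 : X) (htrans : ∀ x : X, ∃ g : G, g • x0 = x)
    (hA : ∀ a b : X, Γ.Adj x0 a → Γ.Adj x0 b → ∃ g : G, g • x0 = x0 ∧ g • a = b)
    (hW : ∀ a b : X, a ≠ x0 → b ≠ x0 → ¬ Γ.Adj x0 a → ¬ Γ.Adj x0 b →
      ∃ g : G, g • x0 = x0 ∧ g • a = b)
    (n k : ℕ) (hn : Fintype.card X = n) (hk : Γ.degree x0 = k) :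
    ∃ l m, Γ.IsSRGWith n k l m := by
  have hback : ∀ (g : G) (w : X), Γ.Adj (g • x0) w ↔ Γ.Adj x0 (g⁻¹ • w) := by
    intro g w
    have := hinv g x0 (g⁻¹ • w)
    rw [smul_inv_smul] at this
    exact this
  have hl : ∃ l, ∀ v w, Γ.Adj v w → Fintype.card (Γ.commonNeighbors v w) = l := by
    by_cases h : ∃ a, Γ.Adj x0 a
    · obtain ⟨a0, ha0⟩ := h
      refine ⟨Fintype.card (Γ.commonNeighbors x0 a0), ?_⟩
      intro v w hvw
      obtain ⟨g, rfl⟩ := htrans v
      have h1 : Γ.Adj x0 (g⁻¹ • w) := (hback g w).mp hvw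
      obtain ⟨h, hh0, hh1⟩ := hA a0 (g⁻¹ • w) ha0 h1
      have e1 : g • x0 = (g * h) • x0 := by rw [mul_smul, hh0]
      have e2 : w = (g * h) • a0 := by rw [mul_smul, hh1, smul_inv_smul]
      rw [e1, e2]
      exact s22_card_common_smul Γ hinv (g * h) x0 a0
    · refine ⟨0, ?_⟩
      intro v w hvw
      exfalso
      obtain ⟨g, rfl⟩ := htrans v
      exact h ⟨_, (hback g w).mp hvw⟩
  have hm : ∃ m, ∀ v w, v ≠ w → ¬ Γ.Adj v w → Fintype.card (Γ.commonNeighbors v w) = m := by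
    by_cases h : ∃ a, a ≠ x0 ∧ ¬ Γ.Adj x0 a
    · obtain ⟨a0, ha0, ha0'⟩ := h
      refine ⟨Fintype.card (Γ.commonNeighbors x0 a0), ?_⟩
      intro v w hne hvw
      obtain ⟨g, rfl⟩ := htrans v
      have h1 : ¬ Γ.Adj x0 (g⁻¹ • w) := fun hh => hvw ((hback g w).mpr hh)
      have h2 : g⁻¹ • w ≠ x0 := by
        intro hh
        apply hne
        rw [← hh, smul_inv_smul]
      obtain ⟨h, hh0, hh1⟩ := hW a0 (g⁻¹ • w) ha0 h2 ha0' h1
      have e1 : g • x0 = (g * h) • x0 := by rw [mul_smul, hh0]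
      have e2 : w = (g * h) • a0 := by rw [mul_smul, hh1, smul_inv_smul]
      rw [e1, e2]
      exact s22_card_common_smul Γ hinv (g * h) x0 a0
    · refine ⟨0, ?_⟩
      intro v w hne hvw
      exfalso
      obtain ⟨g, rfl⟩ := htrans v
      apply h
      refine ⟨g⁻¹ • w, ?_, fun hh => hvw ((hback g w).mpr hh)⟩
      intro hh
      apply hne
      rw [← hh, smul_inv_smul]
  obtain ⟨l, hl⟩ := hl
  obtain ⟨m, hm⟩ := hm
  refine ⟨l, m, ⟨hn, ?_, hl, ?_⟩⟩
  · intro v
    obtain ⟨g, rfl⟩ := htrans v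
    rw [s22_degree_smul Γ hinv, hk]
  · intro v w hne hvw
    exact hm v w hne hvw

end Rank3

end Cfsg.Agent.Lib.helper23
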