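import Mathlib
import Cfsg.Agent.Lib.helper23.Syl22b
import Cfsg.Agent.Lib.helper23.Syl22c

set_option autoImplicit false

namespace Cfsg.Agent.Lib.helper23

open Cfsg.Agent.Lib.helper8

open Pointwise

section General

variable {G : Type*} [Group G] [Finite G] {p : ℕ} [hp : Fact p.Prime]

theorem s22_orbit_card (P R : Sylow p G) :
    Nat.card (MulAction.orbit (↥(P : Subgroup G)) R) *
      Nat.card ↥((P : Subgroup G) ⊓ (R : Subgroup G)) = Nat.card ↥(P : Subgroup G) := by
  have hos := s21_orbit_stabilizer (H := ↥(P : Subgroup G)) R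
  rw [Cfsg.Agent.S0985.stabilizer_eq, ← Subgroup.inf_subgroupOf_left,
    h8_card_subgroupOf inf_le_left] at hos
  exact hos

theorem s22_coe_smul_inf (g : G) (Q R : Sylow p G) :
    ((g • Q : Sylow p G) : Subgroup G) ⊓ ((g • R : Sylow p G) : Subgroup G) =
      MulAut.conj g • ((Q : Subgroup G) ⊓ (R : Subgroup G)) := by
  rw [Sylow.coe_subgroup_smul, Sylow.coe_subgroup_smul, Subgroup.smul_inf]

/-- a subgroup of index `p` of a `p`-group is normal -/
theorem s22_le_normalizer (P D : Subgroup G) (hP : IsPGroup p P) (hDP : D ≤ P)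
    (hcard : p * Nat.card D = Nat.card P) : P ≤ Subgroup.normalizer (D : Set G) := by
  rw [← Subgroup.normal_subgroupOf_iff_le_normalizer hDP]
  apply Subgroup.normal_of_index_eq_minFac_card
  have h1 := h8_card_mul_relIndex hDP
  have hD0 : 0 < Nat.card D := Nat.card_pos
  have h2 : D.relIndex P = p := by
    apply Nat.eq_of_mul_eq_mul_left hD0
    rw [h1, ← hcard, mul_comm]
  obtain ⟨n, hn⟩ := IsPGroup.iff_card.mp hP
  have hn0 : n ≠ 0 := by
    intro h0
    rw [h0, pow_zero] at hn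
    rw [hn] at hcard
    have : p ∣ 1 := ⟨_, hcard.symm⟩
    exact hp.out.one_lt.ne' (Nat.dvd_one.mp this)
  rw [hn, Nat.Prime.pow_minFac hp.out hn0]
  exact h2

/-- adjacency of Sylow subgroups: the intersection has index `p` -/
def s22Adj (Q R : Sylow p G) : Prop :=
  Q ≠ R ∧ p * Nat.card ↥((Q : Subgroup G) ⊓ (R : Subgroup G)) = Nat.card ↥(Q : Subgroup G)

theorem s22Adj_symm (Q R : Sylow p G) (h : s22Adj Q R) : s22Adj R Q := by
  refine ⟨h.1.symm, ?_⟩
  rw [inf_comm, h.2]
  exact h8_sylow_card_eq p Q R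

theorem s22Adj_smul (g : G) (Q R : Sylow p G) : s22Adj (g • Q) (g • R) ↔ s22Adj Q R := by
  unfold s22Adj
  rw [s22_coe_smul_inf, s22_card_conj, Sylow.coe_subgroup_smul, s22_card_conj]
  constructor
  · rintro ⟨h1, h2⟩
    exact ⟨fun h => h1 (by rw [h]), h2⟩
  · rintro ⟨h1, h2⟩
    refine ⟨fun h => h1 ?_, h2⟩
    have := congrArg (fun S => g⁻¹ • S) h
    simpa using this

end General

section Ctx

variable {G : Type*} [Group G] [Finite G] [IsSimpleGroup G] [Fact (Nat.Prime 3)]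

/-- the situation: `22` Sylow `3`-subgroups of order bigger than `3` in a simple group -/
structure S22Ctx (P : Sylow 3 G) : Prop where
  hnc : ¬ IsMulCommutative G
  hn : Nat.card (Sylow 3 G) = 22
  hP : Nat.card (P : Subgroup G) ≠ 3

variable {P : Sylow 3 G}

theorem s22_card_ne (P : Sylow 3 G) (hn : Nat.card (Sylow 3 G) = 22) :
    Nat.card {Q : Sylow 3 G // Q ≠ P} = 21 := by
  classical
  haveI : Fintype (Sylow 3 G) := Fintype.ofFinite _
  rw [Nat.card_eq_fintype_card, Fintype.card_subtype_compl, Fintype.card_subtype_eq,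
    ← Nat.card_eq_fintype_card, hn]

theorem s22_nbr_data (h : S22Ctx P) (R : Sylow 3 G) (hadj : s22Adj P R) :
    Nat.card {Q : Sylow 3 G // (P : Subgroup G) ⊓ (R : Subgroup G) ≤ (Q : Subgroup G)} = 4 ∧
    (Nat.card {R' : Sylow 3 G // R' ≠ P ∧ ∃ g : G,
        MulAut.conj g • ((P : Subgroup G) ⊓ (R : Subgroup G)) =
          (P : Subgroup G) ⊓ (R' : Subgroup G)} = 12 ∨
     Nat.card {R' : Sylow 3 G // R' ≠ P ∧ ∃ g : G,
        MulAut.conj g • ((P : Subgroup G) ⊓ (R : Subgroup G)) =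
          (P : Subgroup G) ⊓ (R' : Subgroup G)} = 18) := by
  set D := (P : Subgroup G) ⊓ (R : Subgroup G) with hDdef
  have hDP : D ≤ (P : Subgroup G) := inf_le_left
  have hDR : D ≤ (R : Subgroup G) := inf_le_right
  have hcard : 3 * Nat.card D = Nat.card (P : Subgroup G) := hadj.2
  have hD : IsPGroup 3 D := P.2.to_le hDP
  have hD1 : D ≠ ⊥ := by
    intro h0
    rw [h0, Subgroup.card_bot, mul_one] at hcard
    exact h.hP hcard.symm
  obtain ⟨e1, e2⟩ := s22_line_data D P hDP hcard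
  rw [h.hn] at e1
  have hk3 := s21_card_containing D hD
  have hk2 : 2 ≤ Nat.card {Q : Sylow 3 G // D ≤ (Q : Subgroup G)} := by
    haveI : Nontrivial {Q : Sylow 3 G // D ≤ (Q : Subgroup G)} :=
      ⟨⟨⟨P, hDP⟩, ⟨R, hDR⟩, fun hh => hadj.1 (congrArg Subtype.val hh)⟩⟩
    exact Finite.one_lt_card
  have ho : 1 ≤ Nat.card {y : G ⧸ Subgroup.normalizer (D : Set G) //
          ∃ g : G, (g : G ⧸ Subgroup.normalizer (D : Set G)) = y ∧
            MulAut.conj g • D ≤ (P : Subgroup G)} := by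
    apply Nat.card_pos_iff.mpr
    refine ⟨⟨⟨((1 : G) : G ⧸ Subgroup.normalizer (D : Set G)), 1, rfl, ?_⟩⟩, inferInstance⟩
    rw [map_one, one_smul]
    exact hDP
  have hu : Nat.card {R' : Sylow 3 G // R' ≠ P ∧
        ∃ g : G, MulAut.conj g • D = (P : Subgroup G) ⊓ (R' : Subgroup G)} ≤ 21 := by
    rw [← s22_card_ne P h.hn]
    apply Nat.card_le_card_of_injective
      (fun a : {R' : Sylow 3 G // R' ≠ P ∧
        ∃ g : G, MulAut.conj g • D = (P : Subgroup G) ⊓ (R' : Subgroup G)} =>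
        (⟨a.1, a.2.1⟩ : {Q : Sylow 3 G // Q ≠ P}))
    intro a b hab
    apply Subtype.ext
    exact congrArg (fun z => z.1) hab
  rw [← e2] at hu
  rcases s22_arith _ _ _ hk3 hk2 ho e1 hu with ⟨hk, -⟩ | ⟨hk, hcases⟩
  · -- all Sylow subgroups contain `D`
    exfalso
    apply hD1
    apply s21_core_simple (p := 3) (by rw [h.hn]; norm_num) D
    have hinj : Function.Injective
        (fun a : {Q : Sylow 3 G // D ≤ (Q : Subgroup G)} => (a : Sylow 3 G)) :=
      Subtype.val_injective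
    have hbij := hinj.bijective_of_nat_card_le (by rw [hk, h.hn])
    intro Q
    obtain ⟨a, ha⟩ := hbij.2 Q
    rw [← ha]
    exact a.2
  · refine ⟨hk, ?_⟩
    rw [← e2, hk]
    rcases hcases with ⟨-, hidx⟩ | ⟨ho4, -⟩ | ⟨ho6, -⟩
    · exfalso
      exact s22_prime_index_kill h.hnc 3 11 (by norm_num) (by decide) D hD hD1 hidx
    · left; rw [ho4]
    · right; rw [ho6]

/-- all the intersections of index `3` in `P` are conjugate -/
theorem s22_single_class (h : S22Ctx P) (R R' : Sylow 3 G) (hR : s22Adj P R)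
    (hR' : s22Adj P R') :
    ∃ g : G, MulAut.conj g • ((P : Subgroup G) ⊓ (R : Subgroup G)) =
      (P : Subgroup G) ⊓ (R' : Subgroup G) := by
  by_contra hcon
  have h1 := (s22_nbr_data h R hR).2
  have h2 := (s22_nbr_data h R' hR').2
  have h3 := s22_card_ne P h.hn
  have hle : Nat.card ({R'' : Sylow 3 G // R'' ≠ P ∧ ∃ g : G,
        MulAut.conj g • ((P : Subgroup G) ⊓ (R : Subgroup G)) =
          (P : Subgroup G) ⊓ (R'' : Subgroup G)} ⊕
      {R'' : Sylow 3 G // R'' ≠ P ∧ ∃ g : G,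
        MulAut.conj g • ((P : Subgroup G) ⊓ (R' : Subgroup G)) =
          (P : Subgroup G) ⊓ (R'' : Subgroup G)}) ≤ Nat.card {Q : Sylow 3 G // Q ≠ P} := by
    apply Nat.card_le_card_of_injective
      (Sum.elim (fun a => (⟨a.1, a.2.1⟩ : {Q : Sylow 3 G // Q ≠ P}))
        (fun a => (⟨a.1, a.2.1⟩ : {Q : Sylow 3 G // Q ≠ P})))
    rintro (a | a) (b | b) hab
    · congr 1
      apply Subtype.ext
      exact congrArg (fun z => z.1) hab
    · exfalso
      have hab' : a.1 = b.1 := congrArg (fun z => z.1) hab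
      obtain ⟨-, g, hg⟩ := a.2
      obtain ⟨-, g', hg'⟩ := b.2
      apply hcon
      refine ⟨g'⁻¹ * g, ?_⟩
      rw [s22_conj_mul, hg, hab', ← hg', s22_conj_inv_smul]
    · exfalso
      have hab' : a.1 = b.1 := congrArg (fun z => z.1) hab
      obtain ⟨-, g, hg⟩ := a.2
      obtain ⟨-, g', hg'⟩ := b.2
      apply hcon
      refine ⟨g⁻¹ * g', ?_⟩
      rw [s22_conj_mul, hg', ← hab', ← hg, s22_conj_inv_smul]
    · congr 1
      apply Subtype.ext
      exact congrArg (fun z => z.1) hab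
  rw [Nat.card_sum, h3] at hle
  omega

/-- the neighbours of `P` are the points on the lines through `P` -/
theorem s22_card_nbrs (h : S22Ctx P) (R : Sylow 3 G) (hR : s22Adj P R) :
    Nat.card {R' : Sylow 3 G // s22Adj P R'} =
      Nat.card {R' : Sylow 3 G // R' ≠ P ∧ ∃ g : G,
        MulAut.conj g • ((P : Subgroup G) ⊓ (R : Subgroup G)) =
          (P : Subgroup G) ⊓ (R' : Subgroup G)} := by
  apply Nat.card_congr
  apply Equiv.subtypeEquivRight
  intro R'
  constructor
  · intro hR'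
    exact ⟨hR'.1.symm, s22_single_class h R R' hR hR'⟩
  · rintro ⟨hne, g, hg⟩
    refine ⟨hne.symm, ?_⟩
    rw [← hg, s22_card_conj]
    exact hR.2

theorem s22_card_split {α : Type*} [Finite α] (q r : α → Prop) :
    Nat.card {x // q x ∧ r x} + Nat.card {x // q x ∧ ¬ r x} = Nat.card {x // q x} := by
  classical
  letI : Fintype α := Fintype.ofFinite α
  rw [Nat.card_eq_fintype_card, Nat.card_eq_fintype_card, Nat.card_eq_fintype_card,
    Fintype.card_subtype, Fintype.card_subtype, Fintype.card_subtype]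
  have h1 : (Finset.univ.filter (fun x => q x ∧ r x)) = (Finset.univ.filter q).filter r := by
    ext x; simp
  have h2 : (Finset.univ.filter (fun x => q x ∧ ¬ r x)) =
      (Finset.univ.filter q).filter (fun x => ¬ r x) := by
    ext x; simp
  rw [h1, h2]
  exact Finset.card_filter_add_card_filter_not r

theorem s22_orbit_ge (P R' : Sylow 3 G) (hne : R' ≠ P) (hna : ¬ s22Adj P R') :
    9 ≤ Nat.card (MulAction.orbit (↥(P : Subgroup G)) R') := by
  have h1 := s22_orbit_card P R'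
  obtain ⟨j, hj⟩ := P.2.card_orbit R'
  rw [hj] at h1 ⊢
  rcases Nat.lt_or_ge j 2 with hj2 | hj2
  · exfalso
    interval_cases j
    · rw [pow_zero, one_mul] at h1
      have h2 : (P : Subgroup G) ⊓ (R' : Subgroup G) = (P : Subgroup G) :=
        Subgroup.eq_of_le_of_card_ge inf_le_left (le_of_eq h1.symm)
      have h3 : (P : Subgroup G) ≤ (R' : Subgroup G) := by
        rw [← h2]; exact inf_le_right
      exact hne (h8_sylow_eq_of_le 3 P R' h3).symm
    · rw [pow_one] at h1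
      exact hna ⟨hne.symm, h1⟩
  · calc 9 = 3 ^ 2 := by norm_num
      _ ≤ 3 ^ j := Nat.pow_le_pow_right (by norm_num) hj2

theorem s22_smul_self (P : Sylow 3 G) (u : G) (hu : u ∈ (P : Subgroup G)) : u • P = P :=
  Sylow.smul_eq_iff_mem_normalizer.mpr (Subgroup.le_normalizer hu)

theorem s22_orbit_sub (P R' : Sylow 3 G) (hne : R' ≠ P) (hna : ¬ s22Adj P R') (Q : Sylow 3 G)
    (hQ : Q ∈ MulAction.orbit (↥(P : Subgroup G)) R') : Q ≠ P ∧ ¬ s22Adj P Q := by
  obtain ⟨⟨g, hg⟩, rfl⟩ := hQ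
  have hu : g • P = P := s22_smul_self P g hg
  show g • R' ≠ P ∧ ¬ s22Adj P (g • R')
  constructor
  · intro hh
    have h2 : g • R' = g • P := hh.trans hu.symm
    exact hne (smul_left_cancel _ h2)
  · intro hh
    have h2 : s22Adj (g • P) (g • R') := by rw [hu]; exact hh
    rw [s22Adj_smul] at h2
    exact hna h2

/-- there are `12` neighbours, and `P` is transitive on the non-neighbours -/
theorem s22_nonnbrs (h : S22Ctx P) (R : Sylow 3 G) (hR : s22Adj P R) :
    Nat.card {R' : Sylow 3 G // s22Adj P R'} = 12 ∧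
    ∀ R' R'' : Sylow 3 G, R' ≠ P → R'' ≠ P → ¬ s22Adj P R' → ¬ s22Adj P R'' →
      ∃ u : G, u ∈ (P : Subgroup G) ∧ u • R' = R'' := by
  have hd := (s22_nbr_data h R hR).2
  rw [← s22_card_nbrs h R hR] at hd
  have hsplit := s22_card_split (fun Q : Sylow 3 G => Q ≠ P) (fun Q => s22Adj P Q)
  rw [s22_card_ne P h.hn] at hsplit
  have hadjeq : Nat.card {Q : Sylow 3 G // Q ≠ P ∧ s22Adj P Q} =
      Nat.card {Q : Sylow 3 G // s22Adj P Q} := by
    apply Nat.card_congr
    apply Equiv.subtypeEquivRight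
    intro Q
    exact ⟨fun hh => hh.2, fun hh => ⟨hh.1.symm, hh⟩⟩
  rw [hadjeq] at hsplit
  have hWle : ∀ R' : Sylow 3 G, R' ≠ P → ¬ s22Adj P R' →
      Nat.card (MulAction.orbit (↥(P : Subgroup G)) R') ≤
        Nat.card {Q : Sylow 3 G // Q ≠ P ∧ ¬ s22Adj P Q} := by
    intro R' hne hna
    apply Nat.card_le_card_of_injective
      (fun a : MulAction.orbit (↥(P : Subgroup G)) R' =>
        (⟨a.1, s22_orbit_sub P R' hne hna a.1 a.2⟩ : {Q : Sylow 3 G // Q ≠ P ∧ ¬ s22Adj P Q}))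
    intro a b hab
    apply Subtype.ext
    exact congrArg (fun z => z.1) hab
  have hd12 : Nat.card {R' : Sylow 3 G // s22Adj P R'} = 12 := by
    rcases hd with hd | hd
    · exact hd
    · exfalso
      rw [hd] at hsplit
      have hW3 : Nat.card {Q : Sylow 3 G // Q ≠ P ∧ ¬ s22Adj P Q} = 3 := by omega
      have hpos : 0 < Nat.card {Q : Sylow 3 G // Q ≠ P ∧ ¬ s22Adj P Q} := by omega
      obtain ⟨⟨R', hne, hna⟩⟩ := (Nat.card_pos_iff.mp hpos).1
      have h1 := s22_orbit_ge P R' hne hna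
      have h2 := hWle R' hne hna
      omega
  refine ⟨hd12, ?_⟩
  intro R' R'' hne hne' hna hna'
  rw [hd12] at hsplit
  have hW9 : Nat.card {Q : Sylow 3 G // Q ≠ P ∧ ¬ s22Adj P Q} = 9 := by omega
  have hsub : MulAction.orbit (↥(P : Subgroup G)) R' ⊆ {Q : Sylow 3 G | Q ≠ P ∧ ¬ s22Adj P Q} :=
    fun Q hQ => s22_orbit_sub P R' hne hna Q hQ
  have hfin : ({Q : Sylow 3 G | Q ≠ P ∧ ¬ s22Adj P Q} : Set (Sylow 3 G)).Finite :=
    Set.toFinite _
  have hcardW : ({Q : Sylow 3 G | Q ≠ P ∧ ¬ s22Adj P Q} : Set (Sylow 3 G)).ncard = 9 := by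
    rw [← Nat.card_coe_set_eq]
    exact hW9
  have hcardO : 9 ≤ (MulAction.orbit (↥(P : Subgroup G)) R').ncard := by
    rw [← Nat.card_coe_set_eq]
    exact s22_orbit_ge P R' hne hna
  have heq := Set.eq_of_subset_of_ncard_le hsub (by rw [hcardW]; exact hcardO) hfin
  have hmem : R'' ∈ MulAction.orbit (↥(P : Subgroup G)) R' := by
    rw [heq]
    exact ⟨hne', hna'⟩
  obtain ⟨u, hu⟩ := hmem
  exact ⟨u, u.2, hu⟩

/-- the normalizer of `P` is transitive on the neighbours of `P` -/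
theorem s22_nbrs_trans (h : S22Ctx P) (R R' : Sylow 3 G) (hR : s22Adj P R)
    (hR' : s22Adj P R') : ∃ m : G, m • P = P ∧ m • R = R' := by
  obtain ⟨g, hg⟩ := s22_single_class h R R' hR hR'
  have hPN : (P : Subgroup G) ≤
      Subgroup.normalizer (((P : Subgroup G) ⊓ (R' : Subgroup G) : Subgroup G) : Set G) :=
    s22_le_normalizer _ _ P.2 inf_le_left hR'.2
  have hgPN : ((g • P : Sylow 3 G) : Subgroup G) ≤
      Subgroup.normalizer (((P : Subgroup G) ⊓ (R' : Subgroup G) : Subgroup G) : Set G) := by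
    apply s22_le_normalizer _ _ (g • P).2
    · rw [← hg, Sylow.coe_subgroup_smul]
      exact Subgroup.pointwise_smul_le_pointwise_smul_iff.mpr inf_le_left
    · rw [h8_sylow_card_eq 3 (g • P) P]
      exact hR'.2
  obtain ⟨n, hn, hn'⟩ := h8_sylow_conj_in_subgroup 3 _ P hPN _ (g • P).2 hgPN
  have hngP : n • (g • P) = P := by
    apply h8_sylow_eq_of_le 3
    intro x hx
    rw [h8_mem_smul_sylow] at hx
    have h2 := hn' _ hx
    have h3 : n * (n⁻¹ * x * n) * n⁻¹ = x := by group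
    rw [h3] at h2
    exact h2
  have hmP : (n * g) • P = P := by rw [mul_smul]; exact hngP
  have hmD : MulAut.conj (n * g) • ((P : Subgroup G) ⊓ (R : Subgroup G)) =
      (P : Subgroup G) ⊓ (R' : Subgroup G) := by
    rw [s22_conj_mul, hg, s22_conj_eq_of_mem_normalizer _ _ hn]
  have hinf : (P : Subgroup G) ⊓ (((n * g) • R : Sylow 3 G) : Subgroup G) =
      (P : Subgroup G) ⊓ (R' : Subgroup G) := by
    have h2 := s22_coe_smul_inf (n * g) P R
    rw [hmP] at h2
    rw [h2, hmD]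
  have hne : (n * g) • R ≠ P := by
    intro hh
    have h2 : (n * g) • R = (n * g) • P := hh.trans hmP.symm
    exact hR.1 (smul_left_cancel _ h2).symm
  have hk := (s22_nbr_data h R' hR').1
  have hL := s22_card_erase (fun Q : Sylow 3 G =>
    (P : Subgroup G) ⊓ (R' : Subgroup G) ≤ (Q : Subgroup G)) P inf_le_left
  rw [hk] at hL
  have horb := s22_orbit_card P ((n * g) • R)
  rw [hinf] at horb
  have horb3 : Nat.card (MulAction.orbit (↥(P : Subgroup G)) ((n * g) • R)) = 3 := by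
    have h2 := hR'.2
    have h0 : 0 < Nat.card ↥((P : Subgroup G) ⊓ (R' : Subgroup G)) := Nat.card_pos
    apply Nat.eq_of_mul_eq_mul_right h0
    rw [horb, ← h2]
  have hsub : MulAction.orbit (↥(P : Subgroup G)) ((n * g) • R) ⊆
      {Q : Sylow 3 G | (P : Subgroup G) ⊓ (R' : Subgroup G) ≤ (Q : Subgroup G) ∧ Q ≠ P} := by
    rintro Q ⟨⟨u, hu⟩, rfl⟩
    have huP : u • P = P := s22_smul_self P u hu
    show (P : Subgroup G) ⊓ (R' : Subgroup G) ≤ ((u • ((n * g) • R) : Sylow 3 G) : Subgroup G) ∧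
      u • ((n * g) • R) ≠ P
    constructor
    · rw [Sylow.coe_subgroup_smul, ← s22_conj_eq_of_mem_normalizer u _ (hPN hu)]
      apply Subgroup.pointwise_smul_le_pointwise_smul_iff.mpr
      rw [← hinf]
      exact inf_le_right
    · intro hh
      have h2 : u • ((n * g) • R) = u • P := hh.trans huP.symm
      exact hne (smul_left_cancel _ h2)
  have hfin : ({Q : Sylow 3 G | (P : Subgroup G) ⊓ (R' : Subgroup G) ≤ (Q : Subgroup G) ∧
      Q ≠ P} : Set (Sylow 3 G)).Finite := Set.toFinite _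
  have hcardL : ({Q : Sylow 3 G | (P : Subgroup G) ⊓ (R' : Subgroup G) ≤ (Q : Subgroup G) ∧
      Q ≠ P} : Set (Sylow 3 G)).ncard = 3 := by
    rw [← Nat.card_coe_set_eq]
    have : Nat.card {Q : Sylow 3 G // (P : Subgroup G) ⊓ (R' : Subgroup G) ≤ (Q : Subgroup G) ∧
      Q ≠ P} = 3 := by omega
    exact this
  have hcardO : 3 ≤ (MulAction.orbit (↥(P : Subgroup G)) ((n * g) • R)).ncard := by
    rw [← Nat.card_coe_set_eq, horb3]
  have heq := Set.eq_of_subset_of_ncard_le hsub (by rw [hcardL]; exact hcardO) hfin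
  have hmem : R' ∈ MulAction.orbit (↥(P : Subgroup G)) ((n * g) • R) := by
    rw [heq]
    exact ⟨inf_le_right, hR'.1.symm⟩
  obtain ⟨⟨u, hu⟩, huR⟩ := hmem
  have huR' : u • ((n * g) • R) = R' := huR
  refine ⟨u * (n * g), ?_, ?_⟩
  · rw [mul_smul, hmP]
    exact s22_smul_self P u hu
  · rw [mul_smul]
    exact huR'

/-- the Sylow `3`-subgroups of order bigger than `3` do not meet in index `3` -/
theorem s22_big_false (h : S22Ctx P) (R : Sylow 3 G) (hR : s22Adj P R) : False := by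
  classical
  letI : Fintype (Sylow 3 G) := Fintype.ofFinite _
  let Γ : SimpleGraph (Sylow 3 G) :=
    { Adj := fun Q R => s22Adj Q R
      symm := ⟨fun Q R hh => s22Adj_symm Q R hh⟩
      loopless := ⟨fun Q hh => hh.1 rfl⟩ }
  obtain ⟨hd12, hW⟩ := s22_nonnbrs h R hR
  have hdeg : Γ.degree P = 12 := by
    rw [← SimpleGraph.card_neighborSet_eq_degree, ← Nat.card_eq_fintype_card]
    exact hd12
  obtain ⟨l, m, hsrg⟩ := s22_rank3_srg (G := G) Γ (fun g x y => s22Adj_smul g x y) P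
    (fun Q => MulAction.exists_smul_eq G P Q)
    (fun a b ha hb => s22_nbrs_trans h a b ha hb)
    (fun a b ha hb hna hnb => by
      obtain ⟨u, hu, hua⟩ := hW a b ha hb hna hnb
      exact ⟨u, s22_smul_self P u hu, hua⟩)
    22 12 (by rw [← Nat.card_eq_fintype_card]; exact h.hn) hdeg
  exact srg22_no_graph Γ l m hsrg

end Ctx

end Cfsg.Agent.Lib.helper23
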