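import Mathlib
import Cfsg.Agent.Lib.helper23.Syl22e

set_option autoImplicit false

namespace Cfsg.Agent.Lib.helper23

open Cfsg.Agent.Lib.helper8

section CaseI

variable {G : Type*} [Group G] [Finite G] [IsSimpleGroup G] [Fact (Nat.Prime 3)]

/-- the situation: `22` Sylow `3`-subgroups of order `3` in a simple group -/
structure S22I (P : Sylow 3 G) : Prop where
  hnc : ¬ IsMulCommutative G
  hn : Nat.card (Sylow 3 G) = 22
  hP : Nat.card (P : Subgroup G) = 3

variable {P : Sylow 3 G}

theorem s22i_card_X (h : S22I P) :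
    Nat.card (G ⧸ Subgroup.normalizer ((P : Subgroup G) : Set G)) = 22 := by
  rw [← h.hn]; exact P.card_eq_card_quotient_normalizer.symm

theorem s22i_fix_lt (h : S22I P) (c : G) (hc1 : c ≠ 1) :
    Nat.card (MulAction.fixedBy (G ⧸ Subgroup.normalizer ((P : Subgroup G) : Set G)) c) < 22 := by
  have hle : Nat.card (MulAction.fixedBy
      (G ⧸ Subgroup.normalizer ((P : Subgroup G) : Set G)) c) ≤
      Nat.card (G ⧸ Subgroup.normalizer ((P : Subgroup G) : Set G)) :=
    Finite.card_subtype_le _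
  rcases lt_or_eq_of_le hle with h2 | h2
  · rwa [s22i_card_X h] at h2
  · exact absurd (og2_eq_one_of_card_fixedBy _ (s22_N_ne_top P h.hn) c h2) hc1

/-- the basic numerical data -/
theorem s22i_data (h : S22I P) :
    Nat.card G = 44 * Nat.card (Subgroup.centralizer ((P : Subgroup G) : Set G)) ∧
    Nat.card (Subgroup.normalizer ((P : Subgroup G) : Set G)) =
      2 * Nat.card (Subgroup.centralizer ((P : Subgroup G) : Set G)) := by
  have h3 := s22_fact3 P h.hP
  have hGm : 3 ^ (Nat.card G).factorization 3 * (Nat.card G / 3 ^ (Nat.card G).factorization 3) =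
      Nat.card G := Nat.ordProj_mul_ordCompl_eq_self _ 3
  have hnd : ¬ 3 ∣ Nat.card G / 3 ^ (Nat.card G).factorization 3 :=
    Nat.not_dvd_ordCompl (by norm_num) Nat.card_pos.ne'
  rw [h3] at hGm hnd
  generalize Nat.card G / 3 ^ 1 = m at hGm hnd
  have hNn := h8_card_normalizer_sylow 3 P
  rw [h.hn] at hNn
  have hm1 : 1 < m := by
    by_contra hcon
    have hm01 : m = 0 ∨ m = 1 := by omega
    rcases hm01 with rfl | rfl
    · simp at hGm
      exact Nat.card_pos.ne' hGm.symm
    · have hN0 : 0 < Nat.card (Subgroup.normalizer ((P : Subgroup G) : Set G)) := Nat.card_pos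
      omega
  obtain ⟨-, hN, -, r, hr, hr1, hC⟩ := og3_sylow_data 3 m hGm.symm hnd hm1 P
  have hr2 : r = 2 := by
    have hr' : r ∣ 2 := hr
    rcases (Nat.dvd_prime Nat.prime_two).mp hr' with h1 | h1
    · exact absurd h1 hr1
    · exact h1
  rw [hr2] at hC
  rw [h.hn] at hN
  constructor
  · omega
  · omega

theorem s22i_C (h : S22I P) :
    Nat.card (Subgroup.centralizer ((P : Subgroup G) : Set G)) ∣ 15120 ∧
    3 ∣ Nat.card (Subgroup.centralizer ((P : Subgroup G) : Set G)) ∧
    ¬ 9 ∣ Nat.card (Subgroup.centralizer ((P : Subgroup G) : Set G)) := by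
  refine ⟨s22_card_cent_dvd P h.hP h.hn, ?_, ?_⟩
  · have hPC : (P : Subgroup G) ≤ Subgroup.centralizer ((P : Subgroup G) : Set G) := by
      haveI : IsCyclic (P : Subgroup G) := isCyclic_of_prime_card h.hP
      exact Subgroup.le_centralizer_iff_isMulCommutative.mpr inferInstance
    have := Subgroup.card_dvd_of_le hPC
    rwa [h.hP] at this
  · intro h9
    have h1 : 3 ^ 2 ∣ Nat.card G :=
      dvd_trans (by simpa using h9) (Subgroup.card_subgroup_dvd_card _)
    have h2 := (Nat.Prime.pow_dvd_iff_le_factorization Nat.prime_three Nat.card_pos.ne').mp h1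
    rw [s22_fact3 P h.hP] at h2
    omega

theorem s22i_prime (h : S22I P) (r : ℕ) (hr : r.Prime) (hd : r ∣ Nat.card G) :
    r = 2 ∨ r = 3 ∨ r = 5 ∨ r = 7 ∨ r = 11 := by
  have h1 : Nat.card G ∣ 44 * 15120 := by
    rw [(s22i_data h).1]
    exact Nat.mul_dvd_mul_left 44 (s22i_C h).1
  have h2 : r ∣ 2 * (2 * (11 * (2 * (2 * (2 * (2 * (3 * (3 * (3 * (5 * 7)))))))))) :=
    dvd_trans hd (by simpa using h1)
  have hcase : ∀ a : ℕ, a.Prime → r ∣ a → r = a :=
    fun a ha hra => (Nat.prime_dvd_prime_iff_eq hr ha).mp hra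
  rcases (Nat.Prime.dvd_mul hr).mp h2 with h3 | h3
  · exact Or.inl (hcase 2 Nat.prime_two h3)
  rcases (Nat.Prime.dvd_mul hr).mp h3 with h3 | h3
  · exact Or.inl (hcase 2 Nat.prime_two h3)
  rcases (Nat.Prime.dvd_mul hr).mp h3 with h3 | h3
  · exact Or.inr (Or.inr (Or.inr (Or.inr (hcase 11 (by norm_num) h3))))
  rcases (Nat.Prime.dvd_mul hr).mp h3 with h3 | h3
  · exact Or.inl (hcase 2 Nat.prime_two h3)
  rcases (Nat.Prime.dvd_mul hr).mp h3 with h3 | h3
  · exact Or.inl (hcase 2 Nat.prime_two h3)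
  rcases (Nat.Prime.dvd_mul hr).mp h3 with h3 | h3
  · exact Or.inl (hcase 2 Nat.prime_two h3)
  rcases (Nat.Prime.dvd_mul hr).mp h3 with h3 | h3
  · exact Or.inl (hcase 2 Nat.prime_two h3)
  rcases (Nat.Prime.dvd_mul hr).mp h3 with h3 | h3
  · exact Or.inr (Or.inl (hcase 3 Nat.prime_three h3))
  rcases (Nat.Prime.dvd_mul hr).mp h3 with h3 | h3
  · exact Or.inr (Or.inl (hcase 3 Nat.prime_three h3))
  rcases (Nat.Prime.dvd_mul hr).mp h3 with h3 | h3
  · exact Or.inr (Or.inl (hcase 3 Nat.prime_three h3))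
  rcases (Nat.Prime.dvd_mul hr).mp h3 with h3 | h3
  · exact Or.inr (Or.inr (Or.inl (hcase 5 (by norm_num) h3)))
  · exact Or.inr (Or.inr (Or.inr (Or.inl (hcase 7 (by norm_num) h3))))

theorem s22i_index_C (h : S22I P) :
    (Subgroup.centralizer ((P : Subgroup G) : Set G)).index = 44 := by
  have h1 := Subgroup.index_mul_card (Subgroup.centralizer ((P : Subgroup G) : Set G))
  rw [(s22i_data h).1] at h1
  have h0 : 0 < Nat.card (Subgroup.centralizer ((P : Subgroup G) : Set G)) := Nat.card_pos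
  exact Nat.eq_of_mul_eq_mul_right h0 h1

/-- elements of order `3`, `5`, `7` fix `1` modulo `3` points -/
theorem s22i_fix_mod3 (h : S22I P) (z : G) (r : ℕ) (hr : r = 3 ∨ r = 5 ∨ r = 7)
    (hz : orderOf z = r) :
    Nat.card (MulAction.fixedBy (G ⧸ Subgroup.normalizer ((P : Subgroup G) : Set G)) z)
      ≡ 1 [MOD 3] := by
  have hrp : r.Prime := by rcases hr with rfl | rfl | rfl <;> norm_num
  haveI : Fact r.Prime := ⟨hrp⟩
  have hnd : ¬ r ∣ (Subgroup.centralizer ((P : Subgroup G) : Set G)).index := by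
    rw [s22i_index_C h]
    rcases hr with rfl | rfl | rfl <;> norm_num
  obtain ⟨g, hg⟩ := s22_conj_mem_of_coprime_index _ z r hz hnd
  have h1 := og2_card_fixedBy_modEq_one 3 P h.hP _ hg
  have h2 := og_card_fixedBy_conj (X := G ⧸ Subgroup.normalizer ((P : Subgroup G) : Set G)) g⁻¹ z
  rw [inv_inv] at h2
  rw [h2] at h1
  exact h1

theorem s22i_not_dvd_N (h : S22I P) (r : ℕ) (hr : r.Prime) (h2 : r ≠ 2)
    (hC : ¬ r ∣ Nat.card (Subgroup.centralizer ((P : Subgroup G) : Set G))) :
    ¬ r ∣ Nat.card (Subgroup.normalizer ((P : Subgroup G) : Set G)) := by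
  rw [(s22i_data h).2]
  intro hd
  rcases (Nat.Prime.dvd_mul hr).mp hd with h3 | h3
  · exact h2 ((Nat.prime_dvd_prime_iff_eq hr Nat.prime_two).mp h3)
  · exact hC h3

theorem s22i_not_11_C (h : S22I P) :
    ¬ 11 ∣ Nat.card (Subgroup.centralizer ((P : Subgroup G) : Set G)) := by
  intro hd
  have := dvd_trans hd (s22i_C h).1
  norm_num at this

/-- elements of order `11` are fixed point free -/
theorem s22i_eleven_free (h : S22I P) (y : G) (hy : orderOf y = 11)
    (x : G ⧸ Subgroup.normalizer ((P : Subgroup G) : Set G)) : y • x ≠ x := by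
  intro hx
  obtain ⟨g, rfl⟩ := QuotientGroup.mk_surjective x
  rw [MulAction.Quotient.smul_mk, QuotientGroup.eq, ← Subgroup.inv_mem_iff] at hx
  have hx' : g⁻¹ * y * g ∈ Subgroup.normalizer ((P : Subgroup G) : Set G) := by
    simpa [mul_assoc] using hx
  have h1 : orderOf (g⁻¹ * y * g) = 11 := by rw [h8_orderOf_conj, hy]
  have h2 := Subgroup.orderOf_dvd_natCard _ hx'
  rw [h1] at h2
  exact s22i_not_dvd_N h 11 (by norm_num) (by norm_num) (s22i_not_11_C h) h2

theorem s22_ne_one_of_orderOf {H : Type*} [Group H] (z : H) (r : ℕ) (hr : r.Prime)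
    (hz : orderOf z = r) : z ≠ 1 := by
  intro h1
  rw [h1, orderOf_one] at hz
  exact hr.one_lt.ne hz

/-- the Sylow `11`-normalizer has order `22` -/
theorem s22i_eleven (h : S22I P) :
    ∃ n11 : ℕ, n11 ≡ 1 [MOD 11] ∧ 22 * n11 = Nat.card G := by
  haveI : Fact (Nat.Prime 11) := ⟨by norm_num⟩
  haveI : Fact (Nat.Prime 5) := ⟨by norm_num⟩
  obtain ⟨hG44, hN2⟩ := s22i_data h
  have h11C := s22i_not_11_C h
  have hG : Nat.card G =
      11 ^ 1 * (4 * Nat.card (Subgroup.centralizer ((P : Subgroup G) : Set G))) := by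
    rw [hG44]; ring
  have hnd : ¬ 11 ∣ 4 * Nat.card (Subgroup.centralizer ((P : Subgroup G) : Set G)) := by
    intro hd
    rcases (Nat.Prime.dvd_mul (by norm_num : Nat.Prime 11)).mp hd with h1 | h1
    · norm_num at h1
    · exact h11C h1
  have hm1 : 1 < 4 * Nat.card (Subgroup.centralizer ((P : Subgroup G) : Set G)) := by
    have : 0 < Nat.card (Subgroup.centralizer ((P : Subgroup G) : Set G)) := Nat.card_pos
    omega
  have hfact11 : (Nat.card G).factorization 11 = 1 :=
    h8_factorization_of_eq 11 1 _ _ (by norm_num) hG hnd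
  obtain ⟨Q⟩ : Nonempty (Sylow 11 G) := inferInstance
  obtain ⟨hQ, hNQ, -, r', hr', hr1, hCQ⟩ := og3_sylow_data 11 _ hG hnd hm1 Q
  obtain ⟨y', hy'⟩ := exists_prime_orderOf_dvd_card' (G := ↥(Q : Subgroup G)) 11
    (by rw [hQ])
  have hy : orderOf (y' : G) = 11 := by rw [Subgroup.orderOf_coe]; exact hy'
  have hy1 : (y' : G) ≠ 1 := s22_ne_one_of_orderOf _ 11 (by norm_num) hy
  have hQz : Subgroup.zpowers (y' : G) = (Q : Subgroup G) :=
    h8_zpowers_eq_of_prime_card 11 (by norm_num) (Q : Subgroup G) hQ (y' : G) y'.2 hy1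
  have hfree := s22i_eleven_free h (y' : G) hy
  have hyp : IsPGroup 11 (Subgroup.zpowers (y' : G)) := by
    apply IsPGroup.of_card (n := 1)
    rw [Nat.card_zpowers, hy, pow_one]
  -- the centralizer of `Q` is an `11`-group
  have hprimeCQ : ∀ r : ℕ, r.Prime →
      r ∣ Nat.card (Subgroup.centralizer ((Q : Subgroup G) : Set G)) → r = 11 := by
    intro r hr hrd
    by_contra hr11
    haveI : Fact r.Prime := ⟨hr⟩
    obtain ⟨z', hz'⟩ := exists_prime_orderOf_dvd_card' r hrd
    have hz : orderOf (z' : G) = r := by rw [Subgroup.orderOf_coe]; exact hz'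
    have hz1 : (z' : G) ≠ 1 := s22_ne_one_of_orderOf _ r hr hz
    have hcomm : Commute (z' : G) (y' : G) :=
      (Subgroup.mem_centralizer_iff.mp z'.2 y' y'.2).symm
    have hmod := og2_card_fixedBy_modEq_of_commute
      (X := G ⧸ Subgroup.normalizer ((P : Subgroup G) : Set G)) (z' : G) (y' : G) hcomm hyp
    have h0 : Nat.card {x : G ⧸ Subgroup.normalizer ((P : Subgroup G) : Set G) //
        (z' : G) • x = x ∧ (y' : G) • x = x} = 0 := by
      rw [Nat.card_eq_zero]
      left
      constructor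
      rintro ⟨x, -, hx⟩
      exact hfree x hx
    rw [h0] at hmod
    have hlt := s22i_fix_lt h (z' : G) hz1
    have hrG : r ∣ Nat.card G := dvd_trans hrd (Subgroup.card_subgroup_dvd_card _)
    unfold Nat.ModEq at hmod
    rcases s22i_prime h r hr hrG with rfl | rfl | rfl | rfl | rfl
    · have hz2 : (z' : G) ^ 2 = 1 := by
        have h1 := pow_orderOf_eq_one (z' : G)
        rwa [hz] at h1
      have hpar := h8_simple_involution_fixed
        (X := G ⧸ Subgroup.normalizer ((P : Subgroup G) : Set G)) h.hnc (z' : G) hz2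
      rw [s22i_card_X h] at hpar
      omega
    · have h3 := s22i_fix_mod3 h (z' : G) 3 (Or.inl rfl) hz
      unfold Nat.ModEq at h3
      omega
    · have h3 := s22i_fix_mod3 h (z' : G) 5 (Or.inr (Or.inl rfl)) hz
      unfold Nat.ModEq at h3
      omega
    · have h3 := s22i_fix_mod3 h (z' : G) 7 (Or.inr (Or.inr rfl)) hz
      unfold Nat.ModEq at h3
      omega
    · exact hr11 rfl
  have hcardCQ : Nat.card (Subgroup.centralizer ((Q : Subgroup G) : Set G)) = 11 := by
    have hpos : Nat.card (Subgroup.centralizer ((Q : Subgroup G) : Set G)) ≠ 0 :=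
      Nat.card_pos.ne'
    have hpow := Nat.eq_prime_pow_of_unique_prime_dvd hpos
      (fun {d} hd hdd => hprimeCQ d hd hdd)
    generalize (Nat.card (Subgroup.centralizer ((Q : Subgroup G) : Set G))).primeFactorsList.length
      = t at hpow
    have hQC : (Q : Subgroup G) ≤ Subgroup.centralizer ((Q : Subgroup G) : Set G) := by
      haveI : IsCyclic (Q : Subgroup G) := isCyclic_of_prime_card hQ
      exact Subgroup.le_centralizer_iff_isMulCommutative.mpr inferInstance
    have h11d := Subgroup.card_dvd_of_le hQC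
    rw [hQ] at h11d
    have h1 : 11 ^ t ∣ Nat.card G := by
      rw [← hpow]; exact Subgroup.card_subgroup_dvd_card _
    have h2 := (Nat.Prime.pow_dvd_iff_le_factorization (by norm_num : Nat.Prime 11)
      Nat.card_pos.ne').mp h1
    rw [hfact11] at h2
    have ht : t = 0 ∨ t = 1 := by omega
    rcases ht with rfl | rfl
    · rw [hpow] at h11d
      norm_num at h11d
    · rw [hpow]; norm_num
  -- no element of order `5` normalizes `Q`
  have h5 : ¬ 5 ∣ r' := by
    intro h5
    have h5N : 5 ∣ Nat.card (Subgroup.normalizer ((Q : Subgroup G) : Set G)) := by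
      rw [← hCQ]; exact dvd_mul_of_dvd_right h5 _
    obtain ⟨k', hk'⟩ := exists_prime_orderOf_dvd_card' 5 h5N
    have hk : orderOf (k' : G) = 5 := by rw [Subgroup.orderOf_coe]; exact hk'
    have hconj : (k' : G) * (y' : G) * (k' : G)⁻¹ ∈ Subgroup.zpowers (y' : G) := by
      rw [hQz]
      exact (Subgroup.mem_normalizer_iff.mp k'.2 (y' : G)).mp y'.2
    have hnc : (k' : G) * (y' : G) * (k' : G)⁻¹ ≠ (y' : G) := by
      intro heq
      have hc : Commute (k' : G) (y' : G) := by
        show (k' : G) * (y' : G) = (y' : G) * (k' : G)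
        calc (k' : G) * (y' : G) = ((k' : G) * (y' : G) * (k' : G)⁻¹) * (k' : G) := by group
          _ = (y' : G) * (k' : G) := by rw [heq]
      have hkC : (k' : G) ∈ Subgroup.centralizer ((Q : Subgroup G) : Set G) := by
        rw [Subgroup.mem_centralizer_iff]
        intro u hu
        have hu' : u ∈ Subgroup.zpowers (y' : G) := by rw [hQz]; exact hu
        obtain ⟨j, rfl⟩ := Subgroup.mem_zpowers_iff.mp hu'
        exact (hc.zpow_right j).eq.symm
      have h1 := Subgroup.orderOf_dvd_natCard _ hkC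
      rw [hk, hcardCQ] at h1
      norm_num at h1
    have hsr := s22_semireg_fix (X := G ⧸ Subgroup.normalizer ((P : Subgroup G) : Set G)) 11
      (by norm_num) (y' : G) (k' : G) hy hfree hconj hnc
    rw [s22i_card_X h] at hsr
    have hm3 := s22i_fix_mod3 h (k' : G) 5 (Or.inr (Or.inl rfl)) hk
    have hk5 : IsPGroup 5 (Subgroup.zpowers (k' : G)) := by
      apply IsPGroup.of_card (n := 1)
      rw [Nat.card_zpowers, hk, pow_one]
    have hm5 := s35_card_fixedBy_modEq
      (α := G ⧸ Subgroup.normalizer ((P : Subgroup G) : Set G)) (k' : G) hk5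
    rw [s22i_card_X h] at hm5
    unfold Nat.ModEq at hm3 hm5
    omega
  have hr2 : r' = 2 := by
    have hr10 : r' ∣ 10 := hr'
    have hle : r' ≤ 10 := Nat.le_of_dvd (by norm_num) hr10
    interval_cases r' <;> omega
  rw [hr2, hcardCQ] at hCQ
  refine ⟨Nat.card (Sylow 11 G), card_sylow_modEq_one 11 G, ?_⟩
  rw [← hNQ, ← hCQ]

/-- if `7` divides the order of the centralizer, the Sylow `7`-normalizer has order `42` -/
theorem s22i_seven (h : S22I P)
    (h7 : 7 ∣ Nat.card (Subgroup.centralizer ((P : Subgroup G) : Set G))) :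
    ∃ n7 : ℕ, n7 ≡ 1 [MOD 7] ∧ 42 * n7 = Nat.card G := by
  haveI : Fact (Nat.Prime 7) := ⟨by norm_num⟩
  haveI : Fact (Nat.Prime 5) := ⟨by norm_num⟩
  obtain ⟨hG44, hN2⟩ := s22i_data h
  obtain ⟨hC1, hC3, hC9⟩ := s22i_C h
  obtain ⟨w', hw'⟩ := exists_prime_orderOf_dvd_card' 7 h7
  have hw : orderOf (w' : G) = 7 := by rw [Subgroup.orderOf_coe]; exact hw'
  have hw1 : (w' : G) ≠ 1 := s22_ne_one_of_orderOf _ 7 (by norm_num) hw
  have hwC : (w' : G) ∈ Subgroup.centralizer ((P : Subgroup G) : Set G) := w'.2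
  have hw7 : IsPGroup 7 (Subgroup.zpowers (w' : G)) := by
    apply IsPGroup.of_card (n := 1)
    rw [Nat.card_zpowers, hw, pow_one]
  have hfw : Nat.card (MulAction.fixedBy
      (G ⧸ Subgroup.normalizer ((P : Subgroup G) : Set G)) (w' : G)) = 1 := by
    have hf3 := og2_card_fixedBy_modEq_one 3 P h.hP (w' : G) hwC
    have hf7 := s35_card_fixedBy_modEq
      (α := G ⧸ Subgroup.normalizer ((P : Subgroup G) : Set G)) (w' : G) hw7
    rw [s22i_card_X h] at hf7
    have hlt := s22i_fix_lt h (w' : G) hw1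
    unfold Nat.ModEq at hf3 hf7
    omega
  obtain ⟨c', hc'⟩ := h7
  have hnd : ¬ 7 ∣ 44 * c' := by
    intro hd
    rcases (Nat.Prime.dvd_mul (by norm_num : Nat.Prime 7)).mp hd with h1 | h1
    · norm_num at h1
    · obtain ⟨c'', rfl⟩ := h1
      have h49 : 49 ∣ Nat.card (Subgroup.centralizer ((P : Subgroup G) : Set G)) :=
        ⟨c'', by rw [hc']; ring⟩
      have := dvd_trans h49 hC1
      norm_num at this
  have hG : Nat.card G = 7 ^ 1 * (44 * c') := by rw [hG44, hc']; ring
  have hm1 : 1 < 44 * c' := by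
    have : 0 < Nat.card (Subgroup.centralizer ((P : Subgroup G) : Set G)) := Nat.card_pos
    rw [hc'] at this
    omega
  have hfact7 : (Nat.card G).factorization 7 = 1 :=
    h8_factorization_of_eq 7 1 _ _ (by norm_num) hG hnd
  let W : Sylow 7 G := Sylow.ofCard (Subgroup.zpowers (w' : G)) (by
    rw [Nat.card_zpowers, hw, hfact7, pow_one])
  have hW : (W : Subgroup G) = Subgroup.zpowers (w' : G) := Sylow.coe_ofCard _ _
  obtain ⟨hWc, hNW, -, r7, hr7, hr71, hCW⟩ := og3_sylow_data 7 _ hG hnd hm1 W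
  have hb0 : (w' : G) • ((1 : G) : G ⧸ Subgroup.normalizer ((P : Subgroup G) : Set G)) =
      ((1 : G) : G ⧸ Subgroup.normalizer ((P : Subgroup G) : Set G)) :=
    og2_base_fixed _ (w' : G) (Subgroup.centralizer_le_normalizer _ hwC)
  obtain ⟨hs, -⟩ := Nat.card_eq_one_iff_unique.mp hfw
  -- the primes dividing the order of the centralizer of `W`
  have hprime : ∀ r : ℕ, r.Prime →
      r ∣ Nat.card (Subgroup.centralizer ((W : Subgroup G) : Set G)) → r = 3 ∨ r = 7 := by
    intro r hr hrd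
    haveI : Fact r.Prime := ⟨hr⟩
    obtain ⟨z', hz'⟩ := exists_prime_orderOf_dvd_card' r hrd
    have hz : orderOf (z' : G) = r := by rw [Subgroup.orderOf_coe]; exact hz'
    have hz1 : (z' : G) ≠ 1 := s22_ne_one_of_orderOf _ r hr hz
    have hcomm : Commute (z' : G) (w' : G) :=
      (Subgroup.mem_centralizer_iff.mp z'.2 (w' : G)
        (by rw [hW]; exact Subgroup.mem_zpowers _)).symm
    have hmod := og2_card_fixedBy_modEq_of_commute
      (X := G ⧸ Subgroup.normalizer ((P : Subgroup G) : Set G)) (z' : G) (w' : G) hcomm hw7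
    have h1 : Nat.card {x : G ⧸ Subgroup.normalizer ((P : Subgroup G) : Set G) //
        (z' : G) • x = x ∧ (w' : G) • x = x} = 1 := by
      rw [Nat.card_eq_one_iff_unique]
      have hzb : (z' : G) • ((1 : G) : G ⧸ Subgroup.normalizer ((P : Subgroup G) : Set G)) =
          ((1 : G) : G ⧸ Subgroup.normalizer ((P : Subgroup G) : Set G)) := by
        have h2 : (w' : G) • ((z' : G) •
            ((1 : G) : G ⧸ Subgroup.normalizer ((P : Subgroup G) : Set G))) =
            (z' : G) • ((1 : G) : G ⧸ Subgroup.normalizer ((P : Subgroup G) : Set G)) := by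
          rw [← mul_smul, ← hcomm.eq, mul_smul, hb0]
        have := hs.elim (⟨_, h2⟩ : MulAction.fixedBy
          (G ⧸ Subgroup.normalizer ((P : Subgroup G) : Set G)) (w' : G)) ⟨_, hb0⟩
        have h3 := congrArg Subtype.val this
        exact h3
      refine ⟨⟨fun a b => ?_⟩, ⟨⟨_, hzb, hb0⟩⟩⟩
      apply Subtype.ext
      have := hs.elim (⟨a.1, a.2.2⟩ : MulAction.fixedBy
          (G ⧸ Subgroup.normalizer ((P : Subgroup G) : Set G)) (w' : G)) ⟨b.1, b.2.2⟩
      have h2 := congrArg Subtype.val this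
      exact h2
    rw [h1] at hmod
    have hlt := s22i_fix_lt h (z' : G) hz1
    have hrG : r ∣ Nat.card G := dvd_trans hrd (Subgroup.card_subgroup_dvd_card _)
    unfold Nat.ModEq at hmod
    rcases s22i_prime h r hr hrG with rfl | rfl | rfl | rfl | rfl
    · exfalso
      have hz2 : (z' : G) ^ 2 = 1 := by
        have h1 := pow_orderOf_eq_one (z' : G)
        rwa [hz] at h1
      have hpar := h8_simple_involution_fixed
        (X := G ⧸ Subgroup.normalizer ((P : Subgroup G) : Set G)) h.hnc (z' : G) hz2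
      rw [s22i_card_X h] at hpar
      omega
    · left; rfl
    · exfalso
      have h3 := s22i_fix_mod3 h (z' : G) 5 (Or.inr (Or.inl rfl)) hz
      have hz5 : IsPGroup 5 (Subgroup.zpowers (z' : G)) := by
        apply IsPGroup.of_card (n := 1)
        rw [Nat.card_zpowers, hz, pow_one]
      have hm5 := s35_card_fixedBy_modEq
        (α := G ⧸ Subgroup.normalizer ((P : Subgroup G) : Set G)) (z' : G) hz5
      rw [s22i_card_X h] at hm5
      unfold Nat.ModEq at h3 hm5
      omega
    · right; rfl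
    · exfalso
      have hfree := s22i_eleven_free h (z' : G) hz
      have h0 : Nat.card (MulAction.fixedBy
          (G ⧸ Subgroup.normalizer ((P : Subgroup G) : Set G)) (z' : G)) = 0 := by
        rw [Nat.card_eq_zero]
        left
        constructor
        rintro ⟨x, hx⟩
        exact hfree x hx
      rw [h0] at hmod
      omega
  have hdvd21 : Nat.card (Subgroup.centralizer ((W : Subgroup G) : Set G)) ∣ 21 := by
    rw [Nat.dvd_iff_prime_pow_dvd_dvd]
    intro q k hq hqk
    by_cases hk0 : k = 0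
    · rw [hk0, pow_zero]; exact one_dvd _
    have hqd : q ∣ Nat.card (Subgroup.centralizer ((W : Subgroup G) : Set G)) :=
      dvd_trans (dvd_pow_self q hk0) hqk
    have hqG : q ^ k ∣ Nat.card G := dvd_trans hqk (Subgroup.card_subgroup_dvd_card _)
    have hle := (Nat.Prime.pow_dvd_iff_le_factorization hq Nat.card_pos.ne').mp hqG
    rcases hprime q hq hqd with rfl | rfl
    · rw [s22_fact3 P h.hP] at hle
      have h3 : 3 ^ k ∣ 3 ^ 1 := pow_dvd_pow 3 hle
      exact dvd_trans h3 (by norm_num)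
    · rw [hfact7] at hle
      have h3 : 7 ^ k ∣ 7 ^ 1 := pow_dvd_pow 7 hle
      exact dvd_trans h3 (by norm_num)
  have h3d : 3 ∣ Nat.card (Subgroup.centralizer ((W : Subgroup G) : Set G)) := by
    have hPW : (P : Subgroup G) ≤ Subgroup.centralizer ((W : Subgroup G) : Set G) := by
      intro u hu
      rw [Subgroup.mem_centralizer_iff]
      intro v hv
      rw [hW] at hv
      obtain ⟨j, rfl⟩ := Subgroup.mem_zpowers_iff.mp hv
      have hc : Commute (w' : G) u := Subgroup.mem_centralizer_iff.mp hwC u hu |>.symm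
      exact (hc.zpow_left j).eq
    have := Subgroup.card_dvd_of_le hPW
    rwa [h.hP] at this
  have h7d : 7 ∣ Nat.card (Subgroup.centralizer ((W : Subgroup G) : Set G)) := by
    have hWW : (W : Subgroup G) ≤ Subgroup.centralizer ((W : Subgroup G) : Set G) := by
      haveI : IsCyclic (W : Subgroup G) := isCyclic_of_prime_card hWc
      exact Subgroup.le_centralizer_iff_isMulCommutative.mpr inferInstance
    have := Subgroup.card_dvd_of_le hWW
    rwa [hWc] at this
  have hcardCW : Nat.card (Subgroup.centralizer ((W : Subgroup G) : Set G)) = 21 := by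
    have hle : Nat.card (Subgroup.centralizer ((W : Subgroup G) : Set G)) ≤ 21 :=
      Nat.le_of_dvd (by norm_num) hdvd21
    generalize Nat.card (Subgroup.centralizer ((W : Subgroup G) : Set G)) = d at *
    interval_cases d <;> omega
  have hr2 : r7 = 2 := by
    have hr6 : r7 ∣ 6 := hr7
    have hn3 : ¬ 3 ∣ r7 := by
      intro h3
      obtain ⟨e, rfl⟩ := h3
      have h9 : 3 ^ 2 ∣ Nat.card G := by
        rw [← hNW, ← hCW, hcardCW]
        exact ⟨7 * e * Nat.card (Sylow 7 G), by ring⟩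
      have h2 := (Nat.Prime.pow_dvd_iff_le_factorization Nat.prime_three Nat.card_pos.ne').mp h9
      rw [s22_fact3 P h.hP] at h2
      omega
    have hle : r7 ≤ 6 := Nat.le_of_dvd (by norm_num) hr6
    interval_cases r7 <;> omega
  rw [hr2, hcardCW] at hCW
  refine ⟨Nat.card (Sylow 7 G), card_sylow_modEq_one 7 G, ?_⟩
  rw [← hNW, ← hCW]

/-- if the centralizer has even order then it is not small -/
theorem s22i_invol (h : S22I P)
    (h2 : 2 ∣ Nat.card (Subgroup.centralizer ((P : Subgroup G) : Set G))) :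
    18 ≤ Nat.card (Subgroup.centralizer ((P : Subgroup G) : Set G)) := by
  obtain ⟨c, hcC, hc2, f, hf, hf3, hf4, hflt, hrest⟩ :=
    og3_invol_package h.hnc 3 ⟨1, by norm_num⟩ P h.hP h2 (by rw [h.hn]; norm_num)
  have horb := h8_card_orbits_sylow_prime 3 P h.hP
  rw [h.hn] at hf4 hflt horb
  have hf10 : f = 10 := by
    unfold Nat.ModEq at hf3
    obtain ⟨k, hk⟩ := hf4
    omega
  have horb8 : Nat.card (MulAction.orbitRel.Quotient ↥(P : Subgroup G)
      (G ⧸ Subgroup.normalizer ((P : Subgroup G) : Set G))) < f := by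
    rw [hf10]
    omega
  obtain ⟨m', hm1, hm2, hm3⟩ := hrest horb8
  rw [h.hn, hf10] at hm3
  omega

theorem s22i_arith (c g n11 : ℕ) (hc : c ∣ 15120) (h3 : 3 ∣ c) (h9 : ¬ 9 ∣ c)
    (hg : g = 44 * c) (h11 : n11 ≡ 1 [MOD 11]) (h11' : 22 * n11 = g)
    (h7 : 7 ∣ c → ∃ n7 : ℕ, n7 ≡ 1 [MOD 7] ∧ 42 * n7 = g) (h2 : 2 ∣ c → 18 ≤ c) : False := by
  have hmem : c ∈ Nat.divisors 15120 := Nat.mem_divisors.mpr ⟨hc, by norm_num⟩
  have hc6 : c % 11 = 6 := by
    unfold Nat.ModEq at h11
    omega
  have key : ∀ d ∈ Nat.divisors 15120, 3 ∣ d → ¬ 9 ∣ d → d % 11 = 6 →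
      d = 6 ∨ d = 105 ∨ d = 336 := by decide +kernel
  rcases key c hmem h3 h9 hc6 with rfl | rfl | rfl
  · have := h2 (by norm_num)
    omega
  · obtain ⟨n7, hn7, hn7'⟩ := h7 (by norm_num)
    unfold Nat.ModEq at hn7
    omega
  · obtain ⟨n7, hn7, hn7'⟩ := h7 (by norm_num)
    unfold Nat.ModEq at hn7
    omega

/-- the case of Sylow `3`-subgroups of order `3` is impossible -/
theorem s22i_false (h : S22I P) : False := by
  obtain ⟨hG44, -⟩ := s22i_data h
  obtain ⟨hC1, hC3, hC9⟩ := s22i_C h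
  obtain ⟨n11, hn11, hn11'⟩ := s22i_eleven h
  exact s22i_arith _ _ n11 hC1 hC3 hC9 hG44 hn11 hn11' (fun h7 => s22i_seven h h7)
    (fun h2 => s22i_invol h h2)

end CaseI

end Cfsg.Agent.Lib.helper23
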