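import Mathlib
import Cfsg.Agent.Lib.helper23.Syl22d
import Cfsg.Agent.Lib.helper23.Syl22f

set_option autoImplicit false

namespace Cfsg.Agent.Lib.helper23

open Cfsg.Agent.Lib.helper8

/-- a simple group does not have exactly `22` Sylow `3`-subgroups -/
theorem s22_simple_false {G : Type*} [Group G] [Finite G] [IsSimpleGroup G]
    (hnc : ¬ IsMulCommutative G) (hn : Nat.card (Sylow 3 G) = 22) : False := by
  haveI : Fact (Nat.Prime 3) := ⟨Nat.prime_three⟩
  have hmod : ¬ Nat.card (Sylow 3 G) ≡ 1 [MOD 3 ^ 2] := by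
    rw [hn]; decide
  obtain ⟨P, R, hne, hidx⟩ := Cfsg.Agent.S0985.result 3 2 hmod
  by_cases hP3 : Nat.card (P : Subgroup G) = 3
  · exact s22i_false ⟨hnc, hn, hP3⟩
  · have hadj : s22Adj P R := by
      refine ⟨hne, ?_⟩
      rw [← Cfsg.Agent.S0985.stabilizer_eq, MulAction.index_stabilizer,
        ← Nat.card_coe_set_eq] at hidx
      have h1 := s22_orbit_card P R
      obtain ⟨j, hj⟩ := P.2.card_orbit R
      rw [hj] at h1 hidx
      have hj1 : j ≤ 1 := by
        by_contra hcon
        have h2 : 2 ≤ j := by omega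
        have h3 : 3 ^ 2 ≤ 3 ^ j := Nat.pow_le_pow_right (by norm_num) h2
        norm_num at hidx h3
        omega
      interval_cases j
      · exfalso
        rw [pow_zero, one_mul] at h1
        have h2 : (P : Subgroup G) ⊓ (R : Subgroup G) = (P : Subgroup G) :=
          Subgroup.eq_of_le_of_card_ge inf_le_left (le_of_eq h1.symm)
        have h3 : (P : Subgroup G) ≤ (R : Subgroup G) := by
          rw [← h2]; exact inf_le_right
        exact hne (h8_sylow_eq_of_le 3 P R h3)
      · rw [pow_one] at h1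
        exact h1
    exact s22_big_false ⟨hnc, hn, hP3⟩ R hadj

theorem s22_final {G : Type*} [Group G] [Finite G] : Nat.card (Sylow 3 G) ≠ 22 := by
  haveI : Fact (Nat.Prime 3) := ⟨Nat.prime_three⟩
  intro h22
  obtain ⟨l, hl, hlm⟩ := Cfsg.Agent.S4303.result (G := G) 3
  rw [h22] at hl
  have hex : ∃ m ∈ l, m = 22 := by
    by_contra hcon
    push Not at hcon
    have hall : ∀ m ∈ l, m = 1 := by
      intro m hm
      have hd : m ∣ 22 := hl ▸ List.dvd_prod hm
      have hmod : m % 3 = 1 := by
        rcases hlm m hm with ⟨-, h⟩ | ⟨S, _, _, _, rfl⟩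
        · exact h
        · exact h8_nsylow_mod 3
      have hne := hcon m hm
      have hle : m ≤ 22 := Nat.le_of_dvd (by norm_num) hd
      interval_cases m <;> omega
    have := List.prod_eq_one hall
    omega
  obtain ⟨m, hm, rfl⟩ := hex
  rcases hlm 22 hm with ⟨hpp, -⟩ | ⟨S, _, _, hS, hn⟩
  · rw [isPrimePow_iff_unique_prime_dvd] at hpp
    obtain ⟨q, -, hq⟩ := hpp
    have h2 := hq 2 ⟨Nat.prime_two, by norm_num⟩
    have h11 := hq 11 ⟨by norm_num, by norm_num⟩
    omega
  · haveI := hS
    have hn' : Nat.card (Sylow 3 S) = 22 := hn.symm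
    obtain ⟨Q⟩ : Nonempty (Sylow 3 S) := inferInstance
    have hnc : ¬ IsMulCommutative S := by
      apply h8_not_comm_of_card
      intro hprime
      have h1 := h8_card_normalizer_sylow 3 Q
      rw [hn'] at h1
      have h2 : 22 ∣ Nat.card S := Dvd.intro_left _ h1
      rcases (Nat.dvd_prime hprime).mp h2 with h3 | h3
      · omega
      · rw [← h3] at hprime
        exact absurd hprime (by norm_num)
    exact s22_simple_false hnc hn'

end Cfsg.Agent.Lib.helper23
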