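import Mathlib
import Cfsg.Agent.Lib.helper23.Syl35a

set_option autoImplicit false

namespace Cfsg.Agent.Lib.helper23

open MulAction

section K2

variable {S : Type*} [Group S] [Finite S]

theorem s35_mem_smul {p : ℕ} (g : S) (P : Sylow p S) (x : S) (hx : x ∈ (P : Subgroup S)) :
    g * x * g⁻¹ ∈ ((g • P : Sylow p S) : Subgroup S) := by
  rw [Sylow.coe_subgroup_smul]
  have := Subgroup.smul_mem_pointwise_smul x (MulAut.conj g) (P : Subgroup S) hx
  simpa [MulAut.smul_def] using this

theorem s35_normalizer_le_of_le {p : ℕ} [Fact p.Prime] (P Q : Sylow p S)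
    (h : ∀ x ∈ (Q : Subgroup S), x • P = P) : Q = P := by
  have h1 : (Q : Subgroup S) ⊓ Subgroup.normalizer (P : Set S) = (Q : Subgroup S) ⊓ (P : Subgroup S) :=
    Q.2.inf_normalizer_sylow P
  have hQP : (Q : Subgroup S) ≤ P := by
    intro x hx
    have hx' : x ∈ (Q : Subgroup S) ⊓ Subgroup.normalizer (P : Set S) :=
      ⟨hx, Sylow.smul_eq_iff_mem_normalizer.mp (h x hx)⟩
    rw [h1] at hx'
    exact hx'.2
  exact (Sylow.ext (Q.3 P.2 hQP)).symm

theorem s35_three_dvd [IsSimpleGroup S] (hn : Nat.card (Sylow 17 S) = 35)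
    (hk : ∀ P : Sylow 17 S, Nat.card (P : Subgroup S) = 289) : 3 ∣ Nat.card S := by
  have : Fact (Nat.Prime 17) := ⟨by norm_num⟩
  have hn1 : Nat.card (Sylow 17 S) ≠ 1 := by omega
  have hcomm : ∀ P : Sylow 17 S, ∀ a ∈ (P : Subgroup S), ∀ b ∈ (P : Subgroup S),
      a * b = b * a := by
    intro P a ha b hb
    have := IsPGroup.commutative_of_card_eq_prime_sq (p := 17) (G := (P : Subgroup S))
      (by rw [hk P]; norm_num) ⟨a, ha⟩ ⟨b, hb⟩
    exact congrArg Subtype.val this
  obtain ⟨P, Q, hPQ⟩ : ∃ P Q : Sylow 17 S, P ≠ Q := by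
    have : Nontrivial (Sylow 17 S) := (Finite.one_lt_card_iff_nontrivial).mp (by omega)
    exact exists_pair_ne _
  set D : Subgroup S := (P : Subgroup S) ⊓ Q with hD
  have hDcard := s35_inter_card hn hk P Q hPQ
  set M : Subgroup S := Subgroup.centralizer (D : Set S) with hM
  have hPM : (P : Subgroup S) ≤ M := fun x hx =>
    Subgroup.mem_centralizer_iff.mpr (fun d hd => hcomm P d hd.1 x hx)
  have hQM : (Q : Subgroup S) ≤ M := fun x hx =>
    Subgroup.mem_centralizer_iff.mpr (fun d hd => hcomm Q d hd.2 x hx)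
  have hPO : P ∈ orbit M P := mem_orbit_self P
  have hOinv : ∀ x ∈ (P : Subgroup S), ∀ R ∈ orbit M P, x • R ∈ orbit M P := by
    rintro x hx R ⟨m, rfl⟩
    refine ⟨⟨x, hPM hx⟩ * m, ?_⟩
    show ((⟨x, hPM hx⟩ * m : M) : S) • P = x • ((m : S) • P)
    rw [Subgroup.coe_mul, mul_smul]
  rcases s35_cases hn P (orbit M P) hPO hOinv with h | h | h
  · exfalso
    have hsub : ∀ R ∈ orbit M P, R = P := by
      intro R hR
      have hs := (Nat.card_eq_one_iff_unique.mp h).1
      have := hs.elim ⟨R, hR⟩ ⟨P, hPO⟩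
      exact congrArg Subtype.val this
    have h1 : ∀ x ∈ (Q : Subgroup S), x • P = P := fun x hx => hsub _ ⟨⟨x, hQM hx⟩, rfl⟩
    exact hPQ (s35_normalizer_le_of_le P Q h1).symm
  · have h1 := MulAction.index_stabilizer M P
    have h2 : (orbit M P).ncard = 18 := by rw [← Nat.card_coe_set_eq]; exact h
    have h3 : (stabilizer M P).index ∣ Nat.card M := Subgroup.index_dvd_card _
    have h4 : Nat.card M ∣ Nat.card S := Subgroup.card_subgroup_dvd_card M
    rw [h1, h2] at h3
    exact dvd_trans (by norm_num) (dvd_trans h3 h4)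
  · exfalso
    have hDR : ∀ R : Sylow 17 S, D ≤ R := by
      intro R
      obtain ⟨m, rfl⟩ := s35_eq_univ hn _ h R
      intro d hd
      have hdm : (m : S) * d * (m : S)⁻¹ = d := by
        have := Subgroup.mem_centralizer_iff.mp m.2 d hd
        rw [← this, mul_assoc, mul_inv_cancel, mul_one]
      have := s35_mem_smul (m : S) P d hd.1
      rw [hdm] at this
      exact this
    have h1 : ∀ d ∈ D, d = 1 := fun d hd => s35_faithful hn1 d
      (fun R => Sylow.smul_eq_iff_mem_normalizer.mpr (Subgroup.le_normalizer (hDR R hd)))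
    have h2 : Nat.card D = 1 := by
      rw [Subgroup.card_eq_one, Subgroup.eq_bot_iff_forall]
      exact h1
    rw [h2] at hDcard
    omega

theorem s35_k2 [IsSimpleGroup S] (hn : Nat.card (Sylow 17 S) = 35)
    (hk : ∀ P : Sylow 17 S, Nat.card (P : Subgroup S) = 289) : False := by
  have : Fact (Nat.Prime 17) := ⟨by norm_num⟩
  have : Fact (Nat.Prime 3) := ⟨by norm_num⟩
  have hn1 : Nat.card (Sylow 17 S) ≠ 1 := by omega
  have h3 := s35_three_dvd hn hk
  obtain ⟨h, hh⟩ := exists_prime_orderOf_dvd_card' 3 h3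
  have hpg : IsPGroup 3 (Subgroup.zpowers h) :=
    IsPGroup.of_card (n := 1) (by rw [Nat.card_zpowers, hh, pow_one])
  have hfix := s35_card_fixedBy_modEq (α := Sylow 17 S) h hpg
  rw [hn] at hfix
  obtain ⟨⟨P, hP⟩, ⟨Q, hQ⟩, hPQ⟩ : ∃ a b : fixedBy (Sylow 17 S) h, a ≠ b := by
    have : Nontrivial (fixedBy (Sylow 17 S) h) := Finite.one_lt_card_iff_nontrivial.mp (by
      unfold Nat.ModEq at hfix
      omega)
    exact exists_pair_ne _
  have hPQ' : P ≠ Q := fun e => hPQ (Subtype.ext e)
  set D : Subgroup S := (P : Subgroup S) ⊓ Q with hD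
  have hDcard := s35_inter_card hn hk P Q hPQ'
  have hhP : h ∈ Subgroup.normalizer (P : Set S) := Sylow.smul_eq_iff_mem_normalizer.mp hP
  have hhQ : h ∈ Subgroup.normalizer (Q : Set S) := Sylow.smul_eq_iff_mem_normalizer.mp hQ
  have hzP : Subgroup.zpowers h ≤ Subgroup.normalizer ((P : Subgroup S) : Set S) :=
    (Subgroup.zpowers_le).mpr hhP
  have hzD : Subgroup.zpowers h ≤ Subgroup.normalizer (D : Set S) := by
    rw [Subgroup.zpowers_le, Subgroup.mem_normalizer_iff]
    intro x
    have e1 := Subgroup.mem_normalizer_iff.mp hhP x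
    have e2 := Subgroup.mem_normalizer_iff.mp hhQ x
    constructor
    · intro hx
      exact ⟨e1.mp hx.1, e2.mp hx.2⟩
    · intro hx
      exact ⟨e1.mpr hx.1, e2.mpr hx.2⟩
  set C : Subgroup S := Subgroup.centralizer ((Subgroup.zpowers h : Subgroup S) : Set S) with hC
  have hB1 := card_modEq_card_inf_centralizer (Subgroup.zpowers h) D hpg hzD
  have hB2 := card_modEq_card_inf_centralizer (Subgroup.zpowers h) (P : Subgroup S) hpg hzP
  have hDC : D ≤ C := by
    have hd : Nat.card (D ⊓ C : Subgroup S) ∣ 17 := hDcard ▸ Subgroup.card_dvd_of_le inf_le_left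
    have h17 : Nat.card (D ⊓ C : Subgroup S) = 17 := by
      rcases (Nat.dvd_prime (by norm_num : Nat.Prime 17)).mp hd with h1 | h1
      · rw [h1, hDcard] at hB1
        exact absurd hB1 (by decide)
      · exact h1
    have h2 : D ⊓ C = D := Subgroup.eq_of_le_of_card_ge inf_le_left (by rw [h17, hDcard])
    exact inf_eq_left.mp h2
  have hPC : (P : Subgroup S) ≤ C := by
    have hd : Nat.card ((P : Subgroup S) ⊓ C : Subgroup S) ∣ 289 := by
      rw [← hk P]
      exact Subgroup.card_dvd_of_le inf_le_left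
    have hge : 17 ≤ Nat.card ((P : Subgroup S) ⊓ C : Subgroup S) :=
      le_trans (le_of_eq hDcard.symm) (Subgroup.card_le_of_le (le_inf inf_le_left hDC))
    rw [hk P] at hB2
    rcases s35_divisors_289 hd with h1 | h1 | h1
    · omega
    · rw [h1] at hB2
      exact absurd hB2 (by decide)
    · have h2 : (P : Subgroup S) ⊓ C = P :=
        Subgroup.eq_of_le_of_card_ge inf_le_left (by rw [h1, hk P])
      exact inf_eq_left.mp h2
  have hcent : h ∈ Subgroup.centralizer ((P : Subgroup S) : Set S) := by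
    rw [Subgroup.mem_centralizer_iff]
    intro x hx
    exact (Subgroup.mem_centralizer_iff.mp (hPC hx) h (Subgroup.mem_zpowers h)).symm
  have hinv := s35_fixedBy_invariant P h hcent
  rcases s35_cases hn P _ hP hinv with h1 | h1 | h1
  · rw [h1] at hfix
    exact absurd hfix (by decide)
  · rw [h1] at hfix
    exact absurd hfix (by decide)
  · have h2 : ∀ R : Sylow 17 S, h • R = R := fun R => s35_eq_univ hn _ h1 R
    have h4 := s35_faithful hn1 h h2
    rw [h4, orderOf_one] at hh
    omega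

end K2

end Cfsg.Agent.Lib.helper23
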