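import Mathlib

set_option autoImplicit false

namespace Cfsg.Agent.Lib.helper23

section Abstract

theorem s35_three_le {X : Type*} [Finite X] (a b c : X) (hab : a ≠ b) (hac : a ≠ c)
    (hbc : b ≠ c) : 3 ≤ Nat.card X := by
  classical
  cases nonempty_fintype X
  rw [Nat.card_eq_fintype_card, ← Finset.card_univ]
  exact Finset.two_lt_card_iff.mpr ⟨a, b, c, by simp, by simp, by simp, hab, hac, hbc⟩

/-- if `x ^ a` and `x ^ c` lie in `H` with `a, c` coprime then `x ∈ H` -/
theorem s35_mem_of_pow_coprime {G : Type*} [Group G] (H : Subgroup G) (x : G) {a c : ℕ}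
    (ha : x ^ a ∈ H) (hc : x ^ c ∈ H) (hac : Nat.Coprime a c) : x ∈ H := by
  have h1 := Nat.gcd_eq_gcd_ab a c
  rw [hac] at h1
  have h2 : x = (x ^ a) ^ (Nat.gcdA a c) * (x ^ c) ^ (Nat.gcdB a c) := by
    rw [← zpow_natCast x a, ← zpow_natCast x c, ← zpow_mul, ← zpow_mul, ← zpow_add, ← h1]
    simp
  rw [h2]
  exact H.mul_mem (H.zpow_mem ha _) (H.zpow_mem hc _)

variable {T : Type*} [Group T] [Finite T]

/-- a group with a cyclic quotient by a subgroup of order at most `2` is abelian with
at most `4` solutions of `t ^ 2 = 1` -/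
theorem s35_lemC {A : Type*} [Group A] [Finite A] [IsCyclic A] (g : T →* A)
    (hker : Nat.card g.ker ≤ 2) :
    (∀ a b : T, a * b = b * a) ∧ Nat.card {t : T // t ^ 2 = 1} ≤ 4 := by
  have hcen : g.ker ≤ Subgroup.center T := by
    intro z hz
    rw [Subgroup.mem_center_iff]
    intro t
    by_contra hne
    have hw : t * z * t⁻¹ ∈ g.ker := (inferInstance : g.ker.Normal).conj_mem z hz t
    have h1 : (1 : g.ker) ≠ ⟨z, hz⟩ := by
      intro h
      have hz1 : z = 1 := (congrArg Subtype.val h).symm
      apply hne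
      rw [hz1, mul_one, one_mul]
    have h2 : (1 : g.ker) ≠ ⟨t * z * t⁻¹, hw⟩ := by
      intro h
      have hz1 : t * z * t⁻¹ = 1 := (congrArg Subtype.val h).symm
      have hz2 : z = 1 := by
        have : z = t⁻¹ * (t * z * t⁻¹) * t := by group
        rw [this, hz1]
        group
      apply hne
      rw [hz2, mul_one, one_mul]
    have h3 : (⟨z, hz⟩ : g.ker) ≠ ⟨t * z * t⁻¹, hw⟩ := by
      intro h
      have hz1 : z = t * z * t⁻¹ := congrArg Subtype.val h
      apply hne
      calc t * z = (t * z * t⁻¹) * t := by group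
        _ = z * t := by rw [← hz1]
    have := s35_three_le _ _ _ h1 h2 h3
    omega
  have hcomm : ∀ a b : T, a * b = b * a :=
    (g.isMulCommutative_of_isCyclic_of_ker_le_center hcen).is_comm.comm
  refine ⟨hcomm, ?_⟩
  let _ : CommGroup T := { (inferInstance : Group T) with mul_comm := hcomm }
  let Ω : Subgroup T := (powMonoidHom 2 : T →* T).ker
  have hΩ : ∀ t : T, t ∈ Ω ↔ t ^ 2 = 1 := fun t => by
    show (powMonoidHom 2 : T →* T) t = 1 ↔ _
    rfl
  let g' : Ω →* A := g.comp Ω.subtype
  have h1 : Nat.card g'.ker * g'.ker.index = Nat.card Ω := Subgroup.card_mul_index _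
  have h2 : g'.ker.index = Nat.card g'.range := Subgroup.index_ker g'
  have h3 : Nat.card g'.ker ≤ Nat.card g.ker := by
    apply Nat.card_le_card_of_injective (fun x : g'.ker => (⟨x.1.1, x.2⟩ : g.ker))
    intro x y hxy
    apply Subtype.ext
    apply Subtype.ext
    have := congrArg Subtype.val hxy
    exact this
  have h4 : Nat.card g'.range ≤ 2 := by
    classical
    cases nonempty_fintype A
    have h5 : Nat.card {a : A // a ^ 2 = 1} ≤ 2 := by
      rw [Nat.card_eq_fintype_card, Fintype.card_subtype]
      exact IsCyclic.card_pow_eq_one_le (by norm_num)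
    refine le_trans ?_ h5
    apply Nat.card_le_card_of_injective (fun x : g'.range => (⟨x.1, by
      obtain ⟨y, hy⟩ := x.2
      rw [← hy, ← map_pow]
      have : y ^ 2 = 1 := Subtype.ext ((hΩ y.1).mp y.2)
      rw [this, map_one]⟩ : {a : A // a ^ 2 = 1}))
    intro x y hxy
    apply Subtype.ext
    have := congrArg Subtype.val hxy
    exact this
  have h6 : Nat.card {t : T // t ^ 2 = 1} = Nat.card Ω := by
    apply Nat.card_congr
    exact Equiv.subtypeEquivRight (fun t => (hΩ t).symm)
  rw [h6, ← h1, h2]
  calc Nat.card g'.ker * Nat.card g'.range ≤ 2 * 2 :=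
        Nat.mul_le_mul (le_trans h3 hker) h4
    _ = 4 := by norm_num

/-- an automorphism of order prime to `6` of an abelian `2`-group with at most `4`
solutions of `t ^ 2 = 1` is trivial -/
theorem s35_lemH (hcomm : ∀ a b : T, a * b = b * a) (h2 : IsPGroup 2 T)
    (hΩ : Nat.card {t : T // t ^ 2 = 1} ≤ 4) (φ : MulAut T) (m : ℕ) (hm : Nat.Coprime m 6)
    (hφ : φ ^ m = 1) : φ = 1 := by
  have step1 : ∀ t : T, t ^ 2 = 1 → φ t = t := by
    intro t ht
    by_cases ht1 : t = 1
    · rw [ht1, map_one]
    have hmem : ∀ j : ℕ, ((φ ^ j) t) ^ 2 = 1 ∧ (φ ^ j) t ≠ 1 := fun j =>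
      ⟨by rw [← map_pow, ht, map_one], fun h => ht1 (by
        have := (φ ^ j).injective (h.trans (map_one (φ ^ j)).symm)
        exact this)⟩
    have hcard : Nat.card {s : T // s ^ 2 = 1 ∧ s ≠ 1} ≤ 3 := by
      have hinj : Function.Injective
          (fun o : Option {s : T // s ^ 2 = 1 ∧ s ≠ 1} =>
            (match o with
              | none => ⟨1, one_pow 2⟩
              | some s => ⟨s.1, s.2.1⟩ : {t : T // t ^ 2 = 1})) := by
        intro a b hab
        cases a with
        | none =>
          cases b with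
          | none => rfl
          | some b =>
            exfalso
            exact b.2.2 (congrArg Subtype.val hab).symm
        | some a =>
          cases b with
          | none =>
            exfalso
            exact a.2.2 (congrArg Subtype.val hab)
          | some b =>
            congr 1
            have h' := congrArg Subtype.val hab
            exact Subtype.ext h'
      have := Nat.card_le_card_of_injective _ hinj
      rw [Finite.card_option] at this
      omega
    have key : ∀ i j : ℕ, i < j → j < 4 → (φ ^ i) t = (φ ^ j) t → φ t = t := by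
      intro i j hij hj heq
      have hd : (φ ^ (j - i)) t = t := by
        have hpow : φ ^ j = φ ^ i * φ ^ (j - i) := by
          rw [← pow_add]
          congr 1
          omega
        rw [hpow, MulAut.mul_apply] at heq
        exact ((φ ^ i).injective heq).symm
      have h1 : φ ^ (j - i) ∈ MulAction.stabilizer (MulAut T) t := hd
      have h2' : φ ^ m ∈ MulAction.stabilizer (MulAut T) t := by
        rw [hφ]
        exact Subgroup.one_mem _
      have hcop : Nat.Coprime (j - i) m := by
        have hc : j - i = 1 ∨ j - i = 2 ∨ j - i = 3 := by omega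
        rcases hc with h | h | h <;> rw [h]
        · exact Nat.coprime_one_left m
        · exact (Nat.Coprime.coprime_dvd_right (by norm_num : 2 ∣ 6) hm).symm
        · exact (Nat.Coprime.coprime_dvd_right (by norm_num : 3 ∣ 6) hm).symm
      exact s35_mem_of_pow_coprime _ φ h1 h2' hcop
    obtain ⟨i, j, hij, heq⟩ : ∃ i j : Fin 4, i ≠ j ∧ (φ ^ (i : ℕ)) t = (φ ^ (j : ℕ)) t := by
      classical
      cases nonempty_fintype {s : T // s ^ 2 = 1 ∧ s ≠ 1}
      have := Fintype.exists_ne_map_eq_of_card_lt
        (fun i : Fin 4 => (⟨(φ ^ (i : ℕ)) t, hmem i⟩ : {s : T // s ^ 2 = 1 ∧ s ≠ 1}))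
        (by
          rw [← Nat.card_eq_fintype_card, Fintype.card_fin]
          omega)
      obtain ⟨i, j, hij, h⟩ := this
      exact ⟨i, j, hij, congrArg Subtype.val h⟩
    rcases lt_or_gt_of_ne (fun h => hij (Fin.ext h) : (i : ℕ) ≠ j) with h | h
    · exact key i j h j.2 heq
    · exact key j i h i.2 heq.symm
  have step2 : ∀ e : ℕ, ∀ t : T, t ^ (2 ^ e) = 1 → φ t = t := by
    intro e
    induction e with
    | zero =>
      intro t ht
      rw [pow_zero, pow_one] at ht
      rw [ht, map_one]
    | succ e ih =>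
      intro t ht
      have ht2 : (t ^ 2) ^ (2 ^ e) = 1 := by
        rw [← pow_mul, ← pow_succ']
        exact ht
      have h1 : φ (t ^ 2) = t ^ 2 := ih _ ht2
      have hs2 : (φ t * t⁻¹) ^ 2 = 1 := by
        have h3 : (φ t * t⁻¹) ^ 2 = (φ t) ^ 2 * (t⁻¹) ^ 2 := by
          rw [pow_two, pow_two, pow_two]
          calc φ t * t⁻¹ * (φ t * t⁻¹) = φ t * (t⁻¹ * φ t) * t⁻¹ := by group
            _ = φ t * (φ t * t⁻¹) * t⁻¹ := by rw [hcomm t⁻¹ (φ t)]
            _ = φ t * φ t * (t⁻¹ * t⁻¹) := by group
        rw [h3, ← map_pow, h1, inv_pow, mul_inv_cancel]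
      have hφs : φ (φ t * t⁻¹) = φ t * t⁻¹ := step1 _ hs2
      have hφt : φ t = (φ t * t⁻¹) * t := by group
      have hj : ∀ j : ℕ, (φ ^ j) t = (φ t * t⁻¹) ^ j * t := by
        intro j
        induction j with
        | zero => simp
        | succ j ihj =>
          rw [pow_succ', MulAut.mul_apply, ihj, map_mul, map_pow, hφs, pow_succ]
          group
      have hm1 : (φ t * t⁻¹) ^ m = 1 := by
        have h4 := hj m
        rw [hφ, MulAut.one_apply] at h4
        exact mul_eq_right.mp h4.symm
      have hs1 : φ t * t⁻¹ = 1 := by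
        have h5 := s35_mem_of_pow_coprime (⊥ : Subgroup T) (φ t * t⁻¹) (a := 2) (c := m)
          (by rw [hs2]; exact Subgroup.one_mem _) (by rw [hm1]; exact Subgroup.one_mem _)
          (Nat.Coprime.coprime_dvd_right (by norm_num : 2 ∣ 6) hm).symm
        exact Subgroup.mem_bot.mp h5
      rw [hφt, hs1, one_mul]
  ext t
  obtain ⟨e, he⟩ := h2 t
  exact step2 e t he

end Abstract

section Transfer

variable {S : Type*} [Group S] [Finite S]

/-- Burnside's transfer theorem contradicts simplicity -/
theorem s35_lemE {p : ℕ} [Fact p.Prime] [IsSimpleGroup S] (T : Sylow p S)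
    (h : Subgroup.normalizer (T : Set S) ≤ Subgroup.centralizer (T : Set S))
    (hbot : (T : Subgroup S) ≠ ⊥) (htop : (T : Subgroup S) ≠ ⊤) : False := by
  have hc := MonoidHom.ker_transferSylow_isComplement' T h
  rcases (inferInstance : (MonoidHom.transferSylow T h).ker.Normal).eq_bot_or_eq_top with hK | hK
  · rw [hK] at hc
    exact htop (Subgroup.isComplement'_bot_left.mp hc)
  · rw [hK] at hc
    exact hbot (Subgroup.isComplement'_top_left.mp hc)

theorem s35_norm_le_cent (T : Sylow 2 S)
    (hcomm : ∀ a b : (T : Subgroup S), a * b = b * a)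
    (hΩ : Nat.card {t : (T : Subgroup S) // t ^ 2 = 1} ≤ 4) (h3 : ¬ 3 ∣ Nat.card S) :
    Subgroup.normalizer (T : Set S) ≤ Subgroup.centralizer (T : Set S) := by
  have : Fact (Nat.Prime 2) := ⟨Nat.prime_two⟩
  have hker := Subgroup.normalizerMonoidHom_ker (T : Subgroup S)
  have key : ∀ n : Subgroup.normalizer ((T : Subgroup S) : Set S),
      (T : Subgroup S).normalizerMonoidHom n = 1 := by
    intro n
    have ho : orderOf n ≠ 0 := (orderOf_pos n).ne'
    obtain ⟨b, m', hodd, hom⟩ := Nat.exists_eq_two_pow_mul_odd ho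
    -- the `2`-part of `n` lies in `T`
    have hz : ((n ^ m' : Subgroup.normalizer ((T : Subgroup S) : Set S)) : S) ^ (2 ^ b) = 1 := by
      rw [← Subgroup.coe_pow, ← pow_mul, mul_comm, ← hom, pow_orderOf_eq_one, Subgroup.coe_one]
    have hzT : ((n ^ m' : Subgroup.normalizer ((T : Subgroup S) : Set S)) : S) ∈ (T : Subgroup S) := by
      set z : S := ((n ^ m' : Subgroup.normalizer ((T : Subgroup S) : Set S)) : S) with hzdef
      have hzN : z ∈ Subgroup.normalizer (T : Set S) := (n ^ m').2
      have hpg : IsPGroup 2 (Subgroup.zpowers z) := by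
        obtain ⟨c, _, hc⟩ := (Nat.dvd_prime_pow Nat.prime_two).mp (orderOf_dvd_of_pow_eq_one hz)
        exact IsPGroup.of_card (n := c) (by rw [Nat.card_zpowers, hc])
      have h1 := hpg.inf_normalizer_sylow T
      have h2 : z ∈ Subgroup.zpowers z ⊓ Subgroup.normalizer (T : Set S) :=
        ⟨Subgroup.mem_zpowers z, hzN⟩
      rw [h1] at h2
      exact h2.2
    have hfz : (T : Subgroup S).normalizerMonoidHom (n ^ m') = 1 := by
      rw [← MonoidHom.mem_ker, hker, Subgroup.mem_subgroupOf, Subgroup.mem_centralizer_iff]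
      intro t ht
      have := hcomm ⟨t, ht⟩ ⟨_, hzT⟩
      exact congrArg Subtype.val this
    have hpow : ((T : Subgroup S).normalizerMonoidHom n) ^ m' = 1 := by
      rw [← map_pow, hfz]
    have hcop : Nat.Coprime m' 6 := by
      have h2 : Nat.Coprime m' 2 := Nat.coprime_two_right.mpr hodd
      have h3' : Nat.Coprime m' 3 := by
        rw [Nat.coprime_comm, Nat.Prime.coprime_iff_not_dvd Nat.prime_three]
        intro hd
        apply h3
        have h4 : m' ∣ orderOf n := ⟨2 ^ b, by rw [hom, mul_comm]⟩
        have h5 : orderOf n ∣ Nat.card (Subgroup.normalizer ((T : Subgroup S) : Set S)) :=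
          orderOf_dvd_natCard n
        exact hd.trans (h4.trans (h5.trans (Subgroup.card_subgroup_dvd_card _)))
      exact Nat.Coprime.mul_right h2 h3'
    exact s35_lemH hcomm T.2 hΩ _ m' hcop hpow
  have htop : ((T : Subgroup S).normalizerMonoidHom).ker = ⊤ := by
    rw [eq_top_iff]
    intro n _
    exact key n
  rw [hker, Subgroup.subgroupOf_eq_top] at htop
  exact htop

end Transfer

end Cfsg.Agent.Lib.helper23
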