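import Mathlib
import Cfsg.Agent.Lib.helper23.Syl35a
import Cfsg.Agent.Lib.helper23.Syl35c

set_option autoImplicit false

namespace Cfsg.Agent.Lib.helper23

open MulAction

section K1

variable {S : Type*} [Group S] [Finite S]

theorem s35_exists_sylow_le {p : ℕ} [Fact p.Prime] (H : Subgroup S) (hH : ¬ p ∣ H.index) :
    ∃ T : Sylow p S, (T : Subgroup S) ≤ H := by
  let Q₀ : Sylow p H := default
  have hpQ : IsPGroup p (Q₀.1.map H.subtype) := Q₀.2.map H.subtype
  have hQ : ¬ p ∣ (Q₀.1.map H.subtype).index := by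
    rw [Subgroup.index_map_subtype Q₀.1]
    exact Nat.Prime.not_dvd_mul Fact.out Q₀.not_dvd_index hH
  exact ⟨hpQ.toSylow hQ, Subgroup.map_subtype_le Q₀.1⟩

/-- elements of prime order centralizing `P` fix only `P` -/
theorem s35_fix_prime [IsSimpleGroup S] (hn : Nat.card (Sylow 17 S) = 35) (P : Sylow 17 S)
    (hk : Nat.card (P : Subgroup S) = 17) (c : S)
    (hc : c ∈ Subgroup.centralizer ((P : Subgroup S) : Set S)) (q : ℕ) (hq : q.Prime)
    (hcq : orderOf c = q) (R : Sylow 17 S) (hR : c • R = R) : R = P := by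
  have : Fact (Nat.Prime 17) := ⟨by norm_num⟩
  have : Fact q.Prime := ⟨hq⟩
  have hn1 : Nat.card (Sylow 17 S) ≠ 1 := by omega
  have hcN : c ∈ Subgroup.normalizer (P : Set S) := Subgroup.centralizer_le_normalizer _ hc
  have hPF : P ∈ fixedBy (Sylow 17 S) c := Sylow.smul_eq_iff_mem_normalizer.mpr hcN
  have hinv := s35_fixedBy_invariant P c hc
  rcases s35_cases hn P _ hPF hinv with h | h | h
  · have hs := (Nat.card_eq_one_iff_unique.mp h).1
    have := hs.elim ⟨R, hR⟩ ⟨P, hPF⟩
    exact congrArg Subtype.val this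
  · have hpg : IsPGroup q (Subgroup.zpowers c) :=
      IsPGroup.of_card (n := 1) (by rw [Nat.card_zpowers, hcq, pow_one])
    have hfix := s35_card_fixedBy_modEq (α := Sylow 17 S) c hpg
    rw [hn, h] at hfix
    have hq17 : q ∣ 17 := (Nat.modEq_iff_dvd' (by norm_num)).mp hfix.symm
    have hq17' : q = 17 := by
      rcases (Nat.dvd_prime (by norm_num : Nat.Prime 17)).mp hq17 with h1 | h1
      · exact absurd h1 hq.one_lt.ne'
      · exact h1
    subst hq17'
    have h1 := hpg.inf_normalizer_sylow P
    have h2 : c ∈ Subgroup.zpowers c ⊓ Subgroup.normalizer (P : Set S) :=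
      ⟨Subgroup.mem_zpowers c, hcN⟩
    rw [h1] at h2
    have hle : Subgroup.zpowers c ≤ (P : Subgroup S) := Subgroup.zpowers_le.mpr h2.2
    have heq : Subgroup.zpowers c = (P : Subgroup S) :=
      Subgroup.eq_of_le_of_card_ge hle (by rw [Nat.card_zpowers, hcq, hk])
    have hRfix : R ∈ fixedPoints (P : Subgroup S) (Sylow 17 S) := by
      intro x
      obtain ⟨x, hx⟩ := x
      rw [← heq] at hx
      obtain ⟨j, rfl⟩ := Subgroup.mem_zpowers_iff.mp hx
      exact MulAction.mem_fixedBy_zpow hR j
    rw [P.2.sylow_mem_fixedPoints_iff] at hRfix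
    exact (Sylow.ext (P.3 R.2 hRfix))
  · exfalso
    have h2 : ∀ R : Sylow 17 S, c • R = R := fun R => s35_eq_univ hn _ h R
    have h4 := s35_faithful hn1 c h2
    rw [h4, orderOf_one] at hcq
    exact hq.one_lt.ne hcq

/-- nontrivial elements centralizing `P` fix only `P` -/
theorem s35_fix_cent [IsSimpleGroup S] (hn : Nat.card (Sylow 17 S) = 35) (P : Sylow 17 S)
    (hk : Nat.card (P : Subgroup S) = 17) (c : S)
    (hc : c ∈ Subgroup.centralizer ((P : Subgroup S) : Set S)) (hc1 : c ≠ 1)
    (R : Sylow 17 S) (hR : c • R = R) : R = P := by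
  have ho1 : orderOf c ≠ 1 := fun h => hc1 (orderOf_eq_one_iff.mp h)
  have ho0 : orderOf c ≠ 0 := (orderOf_pos c).ne'
  have hq : (orderOf c).minFac.Prime := Nat.minFac_prime ho1
  have hqd : (orderOf c).minFac ∣ orderOf c := Nat.minFac_dvd _
  have ho := orderOf_pow_orderOf_div ho0 hqd
  refine s35_fix_prime hn P hk (c ^ (orderOf c / (orderOf c).minFac))
    (Subgroup.pow_mem _ hc _) _ hq ho R ?_
  have := MulAction.mem_fixedBy_zpow hR (orderOf c / (orderOf c).minFac : ℕ)
  rw [zpow_natCast] at this
  exact this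

/-- the order of the centralizer of `P` -/
theorem s35_card_cent [IsSimpleGroup S] (hn : Nat.card (Sylow 17 S) = 35) (P : Sylow 17 S)
    (hk : Nat.card (P : Subgroup S) = 17) :
    (P : Subgroup S) ≤ Subgroup.centralizer ((P : Subgroup S) : Set S) ∧
    (Nat.card (Subgroup.centralizer ((P : Subgroup S) : Set S)) = 17 ∨
      Nat.card (Subgroup.centralizer ((P : Subgroup S) : Set S)) = 34) := by
  have : Fact (Nat.Prime 17) := ⟨by norm_num⟩
  set C : Subgroup S := Subgroup.centralizer ((P : Subgroup S) : Set S) with hC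
  have hcyc : IsCyclic (P : Subgroup S) := isCyclic_of_prime_card hk
  have hPC : (P : Subgroup S) ≤ C := by
    intro x hx
    rw [hC, Subgroup.mem_centralizer_iff]
    intro y hy
    have := (IsCyclic.isMulCommutative (α := (P : Subgroup S))).is_comm.comm ⟨y, hy⟩ ⟨x, hx⟩
    exact congrArg Subtype.val this
  refine ⟨hPC, ?_⟩
  obtain ⟨Q, hQP⟩ : ∃ Q : Sylow 17 S, Q ≠ P := by
    have : Nontrivial (Sylow 17 S) := (Finite.one_lt_card_iff_nontrivial).mp (by omega)
    exact exists_ne P
  have hstab : stabilizer C Q = ⊥ := by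
    rw [Subgroup.eq_bot_iff_forall]
    intro x hx
    by_contra hx1
    have hx' : (x : S) • Q = Q := hx
    have hx1' : (x : S) ≠ 1 := fun h => hx1 (Subtype.ext h)
    exact hQP (s35_fix_cent hn P hk (x : S) x.2 hx1' Q hx')
  have h1 := MulAction.index_stabilizer C Q
  rw [hstab, Subgroup.index_bot] at h1
  have h2 : (orbit C Q).ncard ≤ 35 := hn ▸ Set.ncard_le_card _
  have h3 : 17 ∣ Nat.card C := by
    rw [← hk]
    exact Subgroup.card_dvd_of_le hPC
  have h4 : 0 < Nat.card C := Nat.card_pos
  obtain ⟨k, hk'⟩ := h3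
  have : k = 1 ∨ k = 2 := by
    rcases k with _ | _ | _ | k
    · omega
    · left; rfl
    · right; rfl
    · omega
  rcases this with h | h
  · left; omega
  · right; omega

theorem s35_isCyclic_mulAut (P : Subgroup S) (hk : Nat.card P = 17) :
    IsCyclic (MulAut P) ∧ Nat.card (MulAut P) = 16 := by
  have : Fact (Nat.Prime 17) := ⟨by norm_num⟩
  have hcyc : IsCyclic P := isCyclic_of_prime_card hk
  have hp : Fact (Nat.Prime (Nat.card P)) := ⟨by rw [hk]; norm_num⟩
  constructor
  · exact (MulEquiv.isCyclic (IsCyclic.mulAutMulEquiv P)).mpr inferInstance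
  · rw [IsCyclic.card_mulAut, hk, Nat.totient_prime (by norm_num)]

theorem s35_k1 [IsSimpleGroup S] (hn : Nat.card (Sylow 17 S) = 35) (P : Sylow 17 S)
    (hk : Nat.card (P : Subgroup S) = 17) : False := by
  have : Fact (Nat.Prime 17) := ⟨by norm_num⟩
  have : Fact (Nat.Prime 2) := ⟨Nat.prime_two⟩
  obtain ⟨hPC, hCcard⟩ := s35_card_cent hn P hk
  obtain ⟨hAcyc, hAcard⟩ := s35_isCyclic_mulAut (P : Subgroup S) hk
  set C : Subgroup S := Subgroup.centralizer ((P : Subgroup S) : Set S) with hC
  set N : Subgroup S := Subgroup.normalizer ((P : Subgroup S) : Set S) with hN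
  have hCN : C ≤ N := Subgroup.centralizer_le_normalizer _
  let f := (P : Subgroup S).normalizerMonoidHom
  have hker : f.ker = C.subgroupOf N := Subgroup.normalizerMonoidHom_ker _
  have hkercard : Nat.card f.ker = Nat.card C := by
    rw [hker]
    exact Nat.card_congr (Subgroup.subgroupOfEquivOfLe hCN).toEquiv
  have hrange : Nat.card f.range ∣ 16 := by
    rw [← hAcard]
    exact Subgroup.card_subgroup_dvd_card _
  have hNcard : Nat.card C * Nat.card f.range = Nat.card N := by
    rw [← hkercard, ← Subgroup.index_ker]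
    exact Subgroup.card_mul_index _
  have hidx : N.index = 35 := by
    rw [← hn]
    exact (Sylow.card_eq_index_normalizer P).symm
  have hScard : Nat.card N * 35 = Nat.card S := by
    rw [← hidx]
    exact Subgroup.card_mul_index N
  have hS_dvd : Nat.card S ∣ 19040 := by
    rw [← hScard, ← hNcard]
    have h1 : Nat.card C ∣ 34 := by
      rcases hCcard with h | h <;> rw [h] <;> norm_num
    exact Nat.mul_dvd_mul (Nat.mul_dvd_mul h1 hrange) (dvd_refl 35)
  have h3 : ¬ 3 ∣ Nat.card S := fun h => absurd (h.trans hS_dvd) (by norm_num)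
  by_cases h2 : 2 ∣ Nat.card S
  · have hodd : ¬ 2 ∣ N.index := by
      rw [hidx]
      norm_num
    obtain ⟨T, hTN⟩ := s35_exists_sylow_le N hodd
    let g : (T : Subgroup S) →* MulAut (P : Subgroup S) := f.comp (Subgroup.inclusion hTN)
    have hgker : Nat.card g.ker ≤ 2 := by
      have h1 : Nat.card g.ker ≤ Nat.card ((T : Subgroup S) ⊓ C : Subgroup S) := by
        apply Nat.card_le_card_of_injective (fun x : g.ker => (⟨(x.1 : S), ⟨x.1.2, by
          have hx : Subgroup.inclusion hTN x.1 ∈ f.ker := x.2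
          rw [hker, Subgroup.mem_subgroupOf] at hx
          exact hx⟩⟩ : ((T : Subgroup S) ⊓ C : Subgroup S)))
        intro x y hxy
        apply Subtype.ext
        apply Subtype.ext
        have := congrArg Subtype.val hxy
        exact this
      have h4 : Nat.card ((T : Subgroup S) ⊓ C : Subgroup S) ∣ 34 := by
        have h5 : Nat.card ((T : Subgroup S) ⊓ C : Subgroup S) ∣ Nat.card C :=
          Subgroup.card_dvd_of_le inf_le_right
        rcases hCcard with h | h
        · rw [h] at h5
          exact h5.trans (by norm_num)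
        · rw [h] at h5
          exact h5
      obtain ⟨j, hj⟩ := (T.2.to_le inf_le_left :
        IsPGroup 2 ((T : Subgroup S) ⊓ C : Subgroup S)).exists_card_eq
      rw [hj] at h4 h1
      have hj1 : j ≤ 1 := by
        by_contra hj2
        push Not at hj2
        have h6 : 2 ^ 2 ∣ 34 := (pow_dvd_pow 2 hj2).trans h4
        omega
      have h7 : 2 ^ j ≤ 2 := by
        calc 2 ^ j ≤ 2 ^ 1 := Nat.pow_le_pow_right (by norm_num) hj1
          _ = 2 := by norm_num
      omega
    obtain ⟨hcomm, hΩ⟩ := s35_lemC g hgker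
    have hNC := s35_norm_le_cent T hcomm hΩ h3
    have hbot : (T : Subgroup S) ≠ ⊥ := T.ne_bot_of_dvd_card h2
    have htop : (T : Subgroup S) ≠ ⊤ := by
      intro h
      obtain ⟨j, hj⟩ := T.2.exists_card_eq
      have h5 : Nat.card (T : Subgroup S) = Nat.card S := by
        rw [h]
        exact Subgroup.card_top
      have h6 : 5 ∣ 2 ^ j := by
        rw [← hj, h5, ← hScard]
        exact Dvd.intro_left _ (by ring : Nat.card N * 7 * 5 = Nat.card N * 35)
      have := Nat.Prime.dvd_of_dvd_pow (by norm_num : Nat.Prime 5) h6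
      omega
    exact s35_lemE T hNC hbot htop
  · have hr : Nat.card f.range = 1 := by
      have hodd : ¬ 2 ∣ Nat.card f.range := fun h =>
        h2 (h.trans ((Dvd.intro_left _ hNcard).trans (Dvd.intro _ hScard)))
      have hrange' : Nat.card f.range ∣ 2 ^ 4 := hrange
      obtain ⟨i, _, hi⟩ := (Nat.dvd_prime_pow Nat.prime_two).mp hrange'
      rcases i with _ | i
      · rw [hi, pow_zero]
      · exfalso
        apply hodd
        rw [hi, pow_succ]
        exact Dvd.intro_left _ rfl
    have hNC : N ≤ C := by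
      have h1 : Nat.card N = Nat.card C := by rw [← hNcard, hr, mul_one]
      have h4 := Subgroup.eq_of_le_of_card_ge hCN (le_of_eq h1)
      rw [h4]
    have hbot : (P : Subgroup S) ≠ ⊥ := by
      intro h
      rw [h, Subgroup.card_bot] at hk
      omega
    have htop : (P : Subgroup S) ≠ ⊤ := by
      intro h
      have h1 : N = ⊤ := by
        rw [eq_top_iff, ← h]
        exact Subgroup.le_normalizer
      rw [h1, Subgroup.index_top] at hidx
      omega
    exact s35_lemE P hNC hbot htop

end K1

end Cfsg.Agent.Lib.helper23
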