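import Mathlib
import Cfsg.Agent.Lib.helper23.Syl35b
import Cfsg.Agent.Lib.helper23.Syl35d

set_option autoImplicit false

namespace Cfsg.Agent.Lib.helper23

open MulAction

section Top

variable {S : Type*} [Group S] [Finite S]

theorem s35_not_dvd_fact : ¬ 17 ^ 3 ∣ (35).factorial := by
  decide

/-- no simple group has exactly `35` Sylow `17`-subgroups -/
theorem s35_simple [IsSimpleGroup S] (hn : Nat.card (Sylow 17 S) = 35) : False := by
  have : Fact (Nat.Prime 17) := ⟨by norm_num⟩
  have hn1 : Nat.card (Sylow 17 S) ≠ 1 := by omega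
  have hinj : Function.Injective (MulAction.toPermHom S (Sylow 17 S)) := by
    rw [injective_iff_map_eq_one]
    intro g hg
    apply s35_faithful hn1 g
    intro Q
    have := congrArg (fun σ : Equiv.Perm (Sylow 17 S) => σ Q) hg
    simpa using this
  have hdvd : Nat.card S ∣ (35).factorial := by
    have := Subgroup.card_dvd_of_injective _ hinj
    rwa [Nat.card_perm, hn] at this
  have hall : ∀ Q : Sylow 17 S,
      Nat.card (Q : Subgroup S) = 17 ^ (Nat.card S).factorization 17 :=
    fun Q => Q.card_eq_multiplicity
  have hk2 : (Nat.card S).factorization 17 ≤ 2 := by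
    by_contra h
    push Not at h
    have h1 : 17 ^ 3 ∣ Nat.card S := by
      refine (pow_dvd_pow 17 h).trans ?_
      rw [← hall default]
      exact Subgroup.card_subgroup_dvd_card _
    exact s35_not_dvd_fact (h1.trans hdvd)
  obtain h | h | h : (Nat.card S).factorization 17 = 0 ∨ (Nat.card S).factorization 17 = 1 ∨
      (Nat.card S).factorization 17 = 2 := by omega
  · rw [h, pow_zero] at hall
    apply hn1
    have hsub : Subsingleton (Sylow 17 S) := ⟨fun P Q => by
      apply Sylow.ext
      rw [Subgroup.card_eq_one.mp (hall P), Subgroup.card_eq_one.mp (hall Q)]⟩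
    have : Nonempty (Sylow 17 S) := ⟨default⟩
    exact Nat.card_eq_one_iff_unique.mpr ⟨hsub, this⟩
  · rw [h, pow_one] at hall
    exact s35_k1 hn default (hall default)
  · rw [h] at hall
    exact s35_k2 hn (fun Q => by rw [hall Q]; norm_num)

end Top

end Cfsg.Agent.Lib.helper23
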