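import Mathlib
import Cfsg.Agent.Lib.helper3.T2E.Defs
import Cfsg.Agent.Lib.helper8.ChevTw7
import Cfsg.Agent.Lib.helper8.ChevBN2
import Cfsg.Agent.Lib.helper8.ChevInvG2i
import Cfsg.Agent.Lib.Helper16.TEMF1
import Cfsg.Agent.Lib.helper15.TEMG3

/-!
# T2E row D11 (helper23): `NT q r t ∈ N1 K q` — `NT_mem` VERBATIM from `helper3/T2E/SkelD.lean.txt`.
`NT q r t = n_r(t)` (`r` fixed) resp. `n_r(t) n_{σ r}(η t^q)` (extras `t2ed11h23_NT_eq_fix`, `t2ed11h23_NT_eq_nf`), monomial by `h8nU_mem_N'`;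
in `G¹` by an own copy of D1 (`t2ed11h23_XT_mem`, from TEM G3).
-/

set_option autoImplicit false

namespace Cfsg.Agent.Lib.helper3.T2E

open Cfsg.Lie Cfsg.Lie.ChevalleyDatum Matrix
open Cfsg.Agent.Lib.helper8 Cfsg.Agent.Lib.Helper10.TEM Cfsg.Agent.Lib.helper7.Ce
  Cfsg.Agent.Lib.helper15.St2

universe u

variable {K : Type u} [Field K] {q : ℕ} {f : K ≃+* K}

set_option synthInstance.maxSize 1024 in
/-- certificate: for `σ r ≠ r` the roots `±r` and `±σ r` are orthogonal with trivial commutator formulas; `η_{-r} = η_r` -/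
theorem t2ed11h23_cert : ∀ r < 72, h8sE6 r ≠ r →
    h8eE6 (71 - r) = h8eE6 r ∧
    chevE6.commTerms (71 - r) (h8sE6 r) = [] ∧ chevE6.commTerms r (71 - h8sE6 r) = [] ∧
    h8sE6 r ≠ 71 - r := by
  decide +kernel

/-- own copy of D1 -/
theorem t2ed11h23_XT_mem (hF : Frob q f) (r : ℕ) (hr : r < 72) (t : K) (ht : Adm q r t) :
    XT q r t ∈ twistedE6 K q := by
  unfold XT
  by_cases hσ : h8sE6 r = r
  · rw [if_pos hσ]
    exact X_mem_G1 hF r hr hσ t (ht hσ)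
  · rw [if_neg hσ]
    exact XS_mem_G1 hF r hr hσ t

theorem t2ed11h23_neg_inv_pow (hF : Frob q f) (t : K) : (-t⁻¹) ^ q = -(t ^ q)⁻¹ := by
  rw [neg_pow, hF.neg, inv_pow, neg_one_mul]

/-- the parameter `-t⁻¹` is admissible for `-r` -/
theorem t2ed11h23_adm_neg (hF : Frob q f) (r : ℕ) (hr : r < 72) (t : K) (ht' : Adm q r t) :
    Adm q (71 - r) (-t⁻¹) := by
  intro hσ
  have h1 := (root_data r hr).2.2.2.2.1
  have h2 := (root_data r hr).2.2.1
  have hσr : h8sE6 r = r := by omega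
  rw [t2ed11h23_neg_inv_pow hF, ht' hσr]

/-- `NT q r t = n_r(t)` for a fixed root -/
theorem t2ed11h23_NT_eq_fix (r : ℕ) (hr : r < 72) (hσ : h8sE6 r = r) (t : K) :
    NT q r t = h8nU chevE6 hB r t := by
  have h1 := (root_data r hr).2.2.2.2.1
  have hneg : chevE6.negIdx.getD r 0 = 71 - r := (root_data r hr).2.1
  have hσ' : h8sE6 (71 - r) = 71 - r := by rw [h1, hσ]
  unfold NT XT
  rw [if_pos hσ, if_pos hσ', h8nU_eq, hneg]
  rfl

/-- `NT q r t = n_r(t) n_{σ r}(η t^q)` for a root that is not fixed -/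
theorem t2ed11h23_NT_eq_nf (hF : Frob q f) (r : ℕ) (hr : r < 72) (hσ : h8sE6 r ≠ r) (t : K) :
    NT q r t = h8nU chevE6 hB r t * h8nU chevE6 hB (h8sE6 r) (((h8eE6 r : ℤ) : K) * t ^ q) := by
  have hn : chevE6.nroots = 72 := by decide
  obtain ⟨hrn, hneg, hr', hσσ, hσneg, hησ, hη, -, -, -⟩ := root_data r hr
  obtain ⟨-, hneg', -, -, -, -, -, -, -, -⟩ := root_data (h8sE6 r) hr'
  obtain ⟨hηneg, hc1, hc2, hne⟩ := t2ed11h23_cert r hr hσ
  have hr71 : 71 - r < 72 := by omega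
  have hσ' : h8sE6 (71 - r) ≠ 71 - r := by
    rw [hσneg]; omega
  obtain ⟨hrn71, hneg71, -, -, -, -, -, -, -, -⟩ := root_data (71 - r) hr71
  have e71 : 71 - (71 - r) = r := by omega
  -- the four root elements
  set s : K := ((h8eE6 r : ℤ) : K) * t ^ q with hs
  have hηK : (((h8eE6 r : ℤ) : K))⁻¹ = ((h8eE6 r : ℤ) : K) := by
    rcases hη with h | h <;> rw [h] <;> simp
  have hs' : ((h8eE6 r : ℤ) : K) * (-t⁻¹) ^ q = -s⁻¹ := by
    rw [t2ed11h23_neg_inv_pow hF, hs, mul_inv, hηK, mul_neg]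
  -- commutations
  have cab : ∀ x y : K, X r x * X (h8sE6 r) y = X (h8sE6 r) y * X r x := temf1_comm r hr hσ
  have ccb : ∀ x y : K, X (71 - r) x * X (h8sE6 r) y = X (h8sE6 r) y * X (71 - r) x := by
    intro x y
    exact h8xU_commute (K := K) chevE6 hB hC (71 - r) (h8sE6 r) hrn71 (by rw [hn]; exact hr')
      (by omega) (by rw [hneg71, e71]; exact hσ) hc1 x y
  have cad : ∀ x y : K, X r x * X (71 - h8sE6 r) y = X (71 - h8sE6 r) y * X r x := by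
    intro x y
    exact h8xU_commute (K := K) chevE6 hB hC r (71 - h8sE6 r) hrn (by rw [hn]; omega)
      (by omega) (by rw [hneg]; omega) hc2 x y
  unfold NT XT
  rw [if_neg hσ, if_neg hσ', h8nU_eq, h8nU_eq, hneg, hneg']
  unfold XS
  rw [hσneg, hηneg, hs']
  show X r t * X (h8sE6 r) s * (X (71 - r) (-t⁻¹) * X (71 - h8sE6 r) (-s⁻¹)) * (X r t * X (h8sE6 r) s) =
    X r t * X (71 - r) (-t⁻¹) * X r t * (X (h8sE6 r) s * X (71 - h8sE6 r) (-s⁻¹) * X (h8sE6 r) s)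
  calc X r t * X (h8sE6 r) s * (X (71 - r) (-t⁻¹) * X (71 - h8sE6 r) (-s⁻¹)) * (X r t * X (h8sE6 r) s)
      = X r t * (X (h8sE6 r) s * X (71 - r) (-t⁻¹)) * X (71 - h8sE6 r) (-s⁻¹) * X r t * X (h8sE6 r) s := by
        simp only [mul_assoc]
    _ = X r t * (X (71 - r) (-t⁻¹) * X (h8sE6 r) s) * X (71 - h8sE6 r) (-s⁻¹) * X r t * X (h8sE6 r) s := by
        rw [ccb]
    _ = X r t * X (71 - r) (-t⁻¹) * X (h8sE6 r) s * (X (71 - h8sE6 r) (-s⁻¹) * X r t) * X (h8sE6 r) s := by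
        simp only [mul_assoc]
    _ = X r t * X (71 - r) (-t⁻¹) * X (h8sE6 r) s * (X r t * X (71 - h8sE6 r) (-s⁻¹)) * X (h8sE6 r) s := by
        rw [cad]
    _ = X r t * X (71 - r) (-t⁻¹) * (X (h8sE6 r) s * X r t) * X (71 - h8sE6 r) (-s⁻¹) * X (h8sE6 r) s := by
        simp only [mul_assoc]
    _ = X r t * X (71 - r) (-t⁻¹) * (X r t * X (h8sE6 r) s) * X (71 - h8sE6 r) (-s⁻¹) * X (h8sE6 r) s := by
        rw [cab]
    _ = X r t * X (71 - r) (-t⁻¹) * X r t * (X (h8sE6 r) s * X (71 - h8sE6 r) (-s⁻¹) * X (h8sE6 r) s) := by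
        simp only [mul_assoc]

-- ROW D11 [M]  `NT q r t = n_r(t)` resp. `n_r(t) n_{σ r}(η t^q)` (monomial: `h8nU_mem_N`), in `G¹` by D1.
theorem NT_mem (hF : Frob q f) (r : ℕ) (hr : r < 72) (t : K) (ht : t ≠ 0) (ht' : Adm q r t) :
    NT q r t ∈ N1 K q := by
  have hn : chevE6.nroots = 72 := by decide
  obtain ⟨hrn, -, hr', -, -, -, hη, -, -, -⟩ := root_data r hr
  refine ⟨?_, ?_⟩
  · by_cases hσ : h8sE6 r = r
    · rw [t2ed11h23_NT_eq_fix r hr hσ t]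
      exact h8nU_mem_N' chevE6 hB r hrn t ht
    · rw [t2ed11h23_NT_eq_nf hF r hr hσ t]
      have hs : ((h8eE6 r : ℤ) : K) * t ^ q ≠ 0 := by
        apply mul_ne_zero
        · rcases hη with h | h <;> rw [h] <;> simp
        · exact pow_ne_zero _ ht
      exact Subgroup.mul_mem _ (h8nU_mem_N' chevE6 hB r hrn t ht)
        (h8nU_mem_N' chevE6 hB (h8sE6 r) (by rw [hn]; exact hr') _ hs)
  · unfold NT
    have h1 := t2ed11h23_XT_mem hF r hr t ht'
    have h2 := t2ed11h23_XT_mem hF (71 - r) (by omega) (-t⁻¹) (t2ed11h23_adm_neg hF r hr t ht')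
    exact Subgroup.mul_mem _ (Subgroup.mul_mem _ h1 h2) h1

end Cfsg.Agent.Lib.helper3.T2E
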