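import Mathlib
import Cfsg.Agent.Lib.helper3.T2E.Defs3
import Cfsg.Agent.Lib.helper8.ChevTwE6H16
import Cfsg.Agent.Lib.helper8.ChevW0
import Cfsg.Agent.Lib.Helper12.TEMG1
import Cfsg.Agent.Lib.Helper16.TEMC6

/-!
# T2E row L6, core (helper23): `long_lift` with the statements of L4 (existence of a root lift at `44`), L5 (`long_trans`) and
U2 (`rootlift_conj`) as hypotheses.  Uses the landed TEM rows G1 (`nO_mem_G1`) and C6 (`nW_X`).
-/

set_option autoImplicit false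

namespace Cfsg.Agent.Lib.helper3.T2E

open Cfsg.Lie Cfsg.Lie.ChevalleyDatum Matrix
open Cfsg.Agent.Lib.helper8 Cfsg.Agent.Lib.Helper10.TEM Cfsg.Agent.Lib.helper7.Ce
  Cfsg.Agent.Lib.helper15.St2

universe u

variable {K : Type u} [Field K] {q : ℕ} {f : K ≃+* K} {Γ : Type u} [Group Γ]
  {π : Γ →* ↥(twistedE6 K q)}

/-- the entries of the word of a list of orbit indices are simple indices -/
theorem t2el6h23_flatO_lt (l : List ℕ) : ∀ i ∈ flatO l, i < 6 := by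
  intro i hi
  unfold flatO at hi
  rw [List.mem_flatMap] at hi
  obtain ⟨k, -, hk⟩ := hi
  have : ∀ k : ℕ, ∀ i ∈ orbW k, i < 6 := by
    intro k i hi
    match k, hi with
    | 0, hi => simp [orbW] at hi; omega
    | 1, hi => simp [orbW] at hi; omega
    | 2, hi => simp [orbW] at hi; omega
    | (n + 3), hi => simp [orbW] at hi; omega
  exact this k i hk

/-- `nO l ∈ N¹` -/
theorem t2el6h23_nO_mem_N1 (hF : Frob q f) (l : List ℕ) : (nO l : GG K) ∈ N1 K q := by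
  refine ⟨?_, nO_mem_G1 hF l⟩
  unfold nO nW
  apply h8nWU_mem_N chevE6 hB hA
  intro i hi
  rw [temc6_rank]
  exact t2el6h23_flatO_lt l i hi

/-- [L6] core -/
theorem t2el6h23_long_lift_core (hF : Frob q f) (hπ : IsCE π)
    (h44 : ∃ L44 : K → Γ, IsRootLift q π 44 L44)
    (hL5 : ∀ r < 72, h8sE6 r = r → ∃ l : List ℕ, (∀ k ∈ l, k < 4) ∧ wl l 44 = r)
    (hU2 : ∀ (r r' : ℕ), r < 72 → r' < 72 → ∀ (Lr : K → Γ), IsRootLift q π r Lr → ∀ (γ : Γ),
      pm π γ ∈ N1 K q → ∀ (κ : K), κ ≠ 0 → (∀ t, pm π γ * X r t * (pm π γ)⁻¹ = X r' (κ * t)) →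
      IsRootLift q π r' (fun t => γ * Lr (κ⁻¹ * t) * γ⁻¹))
    (r : ℕ) (hr : r < 72) (hσ : h8sE6 r = r) :
    ∃ L : K → Γ, IsRootLift q π r L := by
  obtain ⟨L44, hL44⟩ := h44
  obtain ⟨l, -, hl⟩ := hL5 r hr hσ
  obtain ⟨γ, hγ⟩ := hπ.surj ⟨nO l, nO_mem_G1 hF l⟩
  have hpm : pm π γ = nO l := by
    show ((π γ : ↥(twistedE6 K q)) : GG K) = nO l
    rw [hγ]
  obtain ⟨ε, hε, hact, -⟩ := nW_X (K := K) (flatO l) (t2el6h23_flatO_lt l) 44 (by norm_num)
  have hε0 : ε ≠ 0 := by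
    rcases hε with h | h <;> rw [h] <;> simp
  have hwl : h8sW chevE6 (flatO l) 44 = r := hl
  refine ⟨fun t => γ * L44 (ε⁻¹ * t) * γ⁻¹, hU2 44 r (by norm_num) hr L44 hL44 γ ?_ ε hε0 ?_⟩
  · rw [hpm]
    exact t2el6h23_nO_mem_N1 hF l
  · intro t
    rw [hpm]
    have := hact t
    rw [hwl] at this
    exact this

end Cfsg.Agent.Lib.helper3.T2E
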