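import Mathlib
import Cfsg.Agent.Lib.helper17.T3.DefsC

/-!
# T3C row H2 (helper23): the torus element `hs j u` on the long root groups
`SysT.hs_xl` verbatim from `helper17/T3/SkelC.lean.txt`.
-/

set_option autoImplicit false

namespace Cfsg.Agent.Lib.helper17.T3

open Cfsg.Agent.Lib.helper15.St2 Cfsg.Agent.Lib.helper7.Ce Matrix

variable {F K : Type*} [Field F] [Field K] [Algebra F K]

variable {C : Cub F K} {G Γ : Type*} [Group G] [Group Γ]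

/-- the norm of `1` -/
theorem t3ch2h23_nm_one (C : Cub F K) : C.nm 1 = 1 := by
  apply (algebraMap F K).injective
  rw [C.hnm, map_one, map_one, map_one]
  ring

theorem t3ch2h23_z6 (i : ZMod 6) : i = 0 ∨ i = 1 ∨ i = 2 ∨ i = 3 ∨ i = 4 ∨ i = 5 := by
  revert i; decide

namespace SysT

variable (S : SysT C G)

theorem t3ch2h23_hs_eq (j : ZMod 6) (u : K) :
    S.hs j u = (S.xs j u * S.xs (j + 3) u⁻¹ * S.xs j u) * (S.xs j 1 * S.xs (j + 3) 1⁻¹ * S.xs j 1)⁻¹ := rfl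

/-- the action of `hs j u` as a composition -/
theorem t3ch2h23_cj_hs (j : ZMod 6) (u : K) (x : G) :
    cj (S.hs j u) x = cj (S.xs j u * S.xs (j + 3) u⁻¹ * S.xs j u) (cj (S.xs j 1 * S.xs (j + 3) 1⁻¹ * S.xs j 1)⁻¹ x) := by
  rw [cj_cj]; rfl

/-- [H2] [M] the torus element `hs j u` on the long root groups (`ws_l0 … ws_l5`). -/
theorem hs_xl (j i : ZMod 6) (u : K) (c : F) (hu : u ≠ 0) : cj (S.hs j u) (S.xl (j + i) c) = S.xl (j + i) (C.chl i u * c) := by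
  have h1 : (1 : K) ≠ 0 := one_ne_zero
  have hn1 : C.nm 1 = 1 := t3ch2h23_nm_one C
  rw [t3ch2h23_cj_hs]
  rcases t3ch2h23_z6 i with rfl | rfl | rfl | rfl | rfl | rfl
  · -- i = 0
    have e0 : j + 0 = j := add_zero j
    have hc : C.chl 0 u = C.nm u := rfl
    rw [e0, hc]
    have hb : cj (S.xs j 1 * S.xs (j + 3) 1⁻¹ * S.xs j 1)⁻¹ (S.xl j c) = S.xl (j + 2) c := by
      apply cj_inv_of
      rw [S.ws_l2 j 1 c h1, hn1, one_mul]
    rw [hb, S.ws_l2 j u c hu]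
  · -- i = 1
    have hc : C.chl 1 u = 1 := rfl
    rw [hc, one_mul]
    have hb : cj (S.xs j 1 * S.xs (j + 3) 1⁻¹ * S.xs j 1)⁻¹ (S.xl (j + 1) c) = S.xl (j + 1) c := by
      apply cj_inv_of
      rw [S.ws_l1 j 1 c h1]
    rw [hb, S.ws_l1 j u c hu]
  · -- i = 2
    have hc : C.chl 2 u = (C.nm u)⁻¹ := rfl
    rw [hc]
    have hb : cj (S.xs j 1 * S.xs (j + 3) 1⁻¹ * S.xs j 1)⁻¹ (S.xl (j + 2) c) = S.xl j (-c) := by
      apply cj_inv_of
      rw [S.ws_l0 j 1 (-c) h1, hn1, inv_one, one_mul, neg_neg]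
    rw [hb, S.ws_l0 j u (-c) hu, mul_neg, neg_neg]
  · -- i = 3
    have hc : C.chl 3 u = (C.nm u)⁻¹ := rfl
    rw [hc]
    have hb : cj (S.xs j 1 * S.xs (j + 3) 1⁻¹ * S.xs j 1)⁻¹ (S.xl (j + 3) c) = S.xl (j + 5) c := by
      apply cj_inv_of
      rw [S.ws_l5 j 1 c h1, hn1, inv_one, one_mul]
    rw [hb, S.ws_l5 j u c hu]
  · -- i = 4
    have hc : C.chl 4 u = 1 := rfl
    rw [hc, one_mul]
    have hb : cj (S.xs j 1 * S.xs (j + 3) 1⁻¹ * S.xs j 1)⁻¹ (S.xl (j + 4) c) = S.xl (j + 4) c := by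
      apply cj_inv_of
      rw [S.ws_l4 j 1 c h1]
    rw [hb, S.ws_l4 j u c hu]
  · -- i = 5
    have hc : C.chl 5 u = C.nm u := rfl
    rw [hc]
    have hb : cj (S.xs j 1 * S.xs (j + 3) 1⁻¹ * S.xs j 1)⁻¹ (S.xl (j + 5) c) = S.xl (j + 3) (-c) := by
      apply cj_inv_of
      rw [S.ws_l3 j 1 (-c) h1, hn1, one_mul, neg_neg]
    rw [hb, S.ws_l3 j u (-c) hu, mul_neg, neg_neg]

end SysT

end Cfsg.Agent.Lib.helper17.T3
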