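import Mathlib
import Cfsg.Agent.Lib.helper8.T3M.Rel
import Cfsg.Agent.Lib.helper8.TDMU1
import Cfsg.Agent.Lib.Helper19.T3A.Defs
import Cfsg.Agent.Lib.helper8.ChevBorel
import Cfsg.Agent.Lib.helper8.ChevBr3
import Cfsg.Agent.Lib.helper8.ChevNegAll
import Cfsg.Agent.Lib.helper8.ChevBN3

/-!
# T3M row B1 (helper23): `XS D 3 1 ∉ borelSubgroup` — `t3m_bn_a` VERBATIM from `helper8/T3M/Skel.lean.txt`.
-/

set_option autoImplicit false

namespace Cfsg.Agent.Lib.helper8.T3M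

open Cfsg.Lie Cfsg.Lie.ChevalleyDatum Matrix
open Cfsg.Agent.Lib.helper8
open Cfsg.Agent.Lib.helper23.TD4V
open Cfsg.Agent.Lib.helper17.T3
open Cfsg.Agent.Lib.helper15.St2 Cfsg.Agent.Lib.helper7.Ce

universe u

variable {K : Type u} [Field K] {q : ℕ}

theorem t3mb1h23_X_zero (r : ℕ) : X r (0 : K) = 1 := h8xU_zero chevD4 hB r

/-- `XS D 0 t = 1` forces `t = 0` -/
theorem t3mb1h23_XS0_inj (D : Dat K q) (t : K) (h : XS D 0 t = 1) : t = 0 := by
  have e1 : XS D 0 t = XA t (D.f t) (D.f (D.f t)) *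
      (X 14 0 * (XAB 0 0 0 * (X2AB 0 0 0 * (X 22 0 * X 23 (0 : K))))) := by
    rw [XS_def, val6_0, XS3_0]
    unfold XA XAB X2AB
    simp only [t3mb1h23_X_zero, mul_one]
  have e2 : (1 : GG K) = XA 0 0 0 *
      (X 14 0 * (XAB 0 0 0 * (X2AB 0 0 0 * (X 22 0 * X 23 (0 : K))))) := by
    unfold XA XAB X2AB
    simp only [t3mb1h23_X_zero, mul_one]
  rw [e1] at h
  have h' := h.trans e2
  exact (Cfsg.Agent.Lib.helper8.TDM.tdmu1_inj12 _ _ _ _ _ _ _ _ _ _ _ _ _ _ _ _ _ _ _ _ _ _ _ _ h').1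

/-- the short root element of `-a` lies in `V` -/
theorem t3mb1h23_XS3_mem_V (D : Dat K q) (t : K) : XS D 3 t ∈ chevD4.negUnipotent K := by
  rw [XS_def, val6_3, XS3_3]
  have h5 : chevD4.IsNegRoot 5 := by decide
  have h10 : chevD4.IsNegRoot 10 := by decide
  have h11 : chevD4.IsNegRoot 11 := by decide
  exact Subgroup.mul_mem _ (Subgroup.mul_mem _ (h8xU_mem_V chevD4 hB 5 h5 _) (h8xU_mem_V chevD4 hB 10 h10 _))
    (h8xU_mem_V chevD4 hB 11 h11 _)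

/-- **B1** [M]. -/
theorem t3m_bn_a (D : Dat K q) : XS D 3 1 ∉ chevD4.borelSubgroup K := by
  intro hmem
  have hD : chevD4 ∈ [chevG2, chevB2, chevD4, chevF4, chevE6, chevE7, chevE8] := by simp
  have h1 : XS D 3 1 = 1 := by
    have hm : XS D 3 1 ∈ chevD4.borelSubgroup K ⊓ chevD4.negUnipotent K :=
      ⟨hmem, t3mb1h23_XS3_mem_V D 1⟩
    rw [h8_B_inf_V chevD4 hB (h8NegOK_all chevD4 hD)] at hm
    exact Subgroup.mem_bot.1 hm
  have h2 := t3m_ws_s3 D 0 1 1 one_ne_zero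
  have e : (0 : ZMod 6) + 3 = 3 := by decide
  rw [e, h1, cj_one] at h2
  have h3 := t3mb1h23_XS0_inj D _ h2.symm
  rw [one_pow, one_mul] at h3
  exact one_ne_zero h3

end Cfsg.Agent.Lib.helper8.T3M
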