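import Mathlib
import Cfsg.Agent.Lib.helper23.TD4V.Defs
import Cfsg.Agent.Lib.Helper25.TD4A1
import Cfsg.Agent.Lib.helper23.TD4A2
import Cfsg.Agent.Lib.helper23.TD4A3

/-!
# Project TD4V (S2462, designer helper23), row F0: `exists_par'` (helper23).
-/

set_option autoImplicit false

namespace Cfsg.Agent.Lib.helper23.TD4V

open Cfsg.Lie Cfsg.Lie.ChevalleyDatum Matrix
open Cfsg.Agent.Lib.helper8 Cfsg.Agent.Lib.helper8.TD4
open Cfsg.Agent.Lib.helper23.P4V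

universe u v

section FF

variable {K : Type u} {E : Type v} [Field K] [Field E] [Fintype K] [Fintype E]
  (ι : K →+* E) (q : ℕ)

/-- **F0**. -/
theorem exists_par' (hq : 2 ≤ q) (hK : Fintype.card K = q ^ 3) (hE : Fintype.card E = q ^ 6) :
    ∃ (t τ : K) (m : E), Par q ι t τ m ∧ τ ≠ 0 := by
  classical
  obtain ⟨u, hu⟩ := IsCyclic.exists_generator (α := Eˣ)
  have hou : orderOf u = q ^ 6 - 1 := by
    rw [orderOf_eq_card_of_forall_mem_zpowers hu, Nat.card_units, Nat.card_eq_fintype_card, hE]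
  obtain ⟨g, hgdef⟩ : ∃ g : E, g = (u : E) := ⟨_, rfl⟩
  have hg : orderOf g = q ^ 6 - 1 := by rw [hgdef, orderOf_units, hou]
  have hg0 : g ≠ 0 := by rw [hgdef]; exact u.ne_zero
  have h1 : 1 ≤ q ^ 6 := Nat.one_le_pow _ _ (by omega)
  have hgN : g ^ (q ^ 6 - 1) = 1 := by rw [← hg]; exact pow_orderOf_eq_one g
  -- `t`
  have ht' : (g ^ (q ^ 3 + 1)) ^ (q ^ 3) = g ^ (q ^ 3 + 1) := by
    rw [← pow_mul]
    have h2 : (q ^ 3 + 1) * q ^ 3 = (q ^ 6 - 1) + (q ^ 3 + 1) := by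
      have : (q ^ 3 + 1) * q ^ 3 = q ^ 6 + q ^ 3 := by ring
      omega
    rw [h2, pow_add, hgN, one_mul]
  obtain ⟨t, ht⟩ := exists_preimage ι q hq hK _ ht'
  -- `w = m⁻¹`
  obtain ⟨w, hw⟩ : ∃ w : E, w = g ^ (q ^ 4 + q ^ 2 + 1) := ⟨_, rfl⟩
  have hw0 : w ≠ 0 := by rw [hw]; exact pow_ne_zero _ hg0
  have hw2 : w ^ (q ^ 2) = w := by
    rw [hw, ← pow_mul]
    have h2 : (q ^ 4 + q ^ 2 + 1) * q ^ 2 = (q ^ 6 - 1) + (q ^ 4 + q ^ 2 + 1) := by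
      have : (q ^ 4 + q ^ 2 + 1) * q ^ 2 = q ^ 6 + q ^ 4 + q ^ 2 := by ring
      omega
    rw [h2, pow_add, hgN, one_mul]
  obtain ⟨r, hr⟩ : ∃ r, q = r + 2 := ⟨q - 2, by omega⟩
  have hN : q ^ 6 - 1 = (q ^ 4 + q ^ 2 + 1) * (r + 1) * (r + 3) := by
    apply Nat.sub_eq_of_eq_add
    rw [hr]; ring
  have hwq : w ≠ w ^ q := by
    intro h
    have h3 : w ^ (r + 1) = 1 := by
      have h4 : w ^ q = w * w ^ (r + 1) := by rw [← pow_succ', hr]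
      rw [h4] at h
      have h5 : w * 1 = w * w ^ (r + 1) := by rw [mul_one]; exact h
      exact (mul_left_cancel₀ hw0 h5).symm
    rw [hw, ← pow_mul] at h3
    have hdvd := orderOf_dvd_of_pow_eq_one h3
    rw [hg, hN] at hdvd
    have hpos : 0 < (q ^ 4 + q ^ 2 + 1) * (r + 1) := by positivity
    have hle := Nat.le_of_dvd hpos hdvd
    nlinarith
  have hwneg : w ^ q ≠ -w := by
    intro h
    -- `w ^ (2 (q - 1)) = 1`
    have h4 : w ^ q = w * w ^ (r + 1) := by rw [← pow_succ', hr]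
    have h5 : w * w ^ (r + 1) = w * (-1) := by rw [← h4, h]; ring
    have h6 : w ^ (r + 1) = -1 := mul_left_cancel₀ hw0 h5
    have h7 : w ^ ((r + 1) * 2) = 1 := by rw [pow_mul, h6]; ring
    rw [hw, ← pow_mul] at h7
    have hdvd := orderOf_dvd_of_pow_eq_one h7
    rw [hg, hN] at hdvd
    have hpos : 0 < (q ^ 4 + q ^ 2 + 1) * ((r + 1) * 2) := by positivity
    have hle := Nat.le_of_dvd hpos hdvd
    have e : (q ^ 4 + q ^ 2 + 1) * (r + 1) * (r + 3) =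
        (q ^ 4 + q ^ 2 + 1) * ((r + 1) * 2) + (q ^ 4 + q ^ 2 + 1) * (r + 1) * (r + 1) := by ring
    have hpos2 : 0 < (q ^ 4 + q ^ 2 + 1) * (r + 1) * (r + 1) := by positivity
    omega
  have hmq : w⁻¹ ≠ w⁻¹ ^ q := by
    intro h
    apply hwq
    rw [inv_pow] at h
    exact inv_injective h
  have hm2 : w⁻¹ ^ (q ^ 2) = w⁻¹ := by rw [inv_pow, hw2]
  -- `τ`
  have hτq : (w⁻¹ + w⁻¹ ^ q) ^ q = w⁻¹ + w⁻¹ ^ q := by
    rw [td4a3_frob q hq hE, ← pow_mul, ← pow_two, hm2, add_comm]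
  have hτ3 : (w⁻¹ + w⁻¹ ^ q) ^ (q ^ 3) = w⁻¹ + w⁻¹ ^ q := by
    have : q ^ 3 = q * q * q := by ring
    rw [this, pow_mul, pow_mul, hτq, hτq, hτq]
  obtain ⟨τ, hτ⟩ := exists_preimage ι q hq hK _ hτ3
  have hτne : τ ≠ 0 := by
    rintro rfl
    rw [map_zero] at hτ
    -- `w⁻¹ + (w⁻¹)^q = 0`
    apply hwneg
    have hwq0 : w ^ q ≠ 0 := pow_ne_zero _ hw0
    have h8 : w⁻¹ + (w ^ q)⁻¹ = 0 := by rw [← inv_pow]; exact hτ.symm
    have h9 : w ^ q + w = 0 := by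
      have : (w⁻¹ + (w ^ q)⁻¹) * (w * w ^ q) = w ^ q + w := by
        field_simp
      rw [← this, h8, zero_mul]
    exact eq_neg_of_add_eq_zero_left h9
  refine ⟨t, τ, w⁻¹, ⟨?_, ?_, hm2, hmq, hτ, ?_, ?_⟩, hτne⟩
  · rintro rfl
    rw [map_zero] at ht
    exact pow_ne_zero _ hg0 ht.symm
  · apply ι.injective
    rw [map_pow, hτ, hτq]
  · rw [ht, hw, inv_pow, ← pow_mul, ← pow_mul, ← pow_mul, ← pow_add, ← pow_add]
    have h2 : (q ^ 3 + 1) + (q ^ 3 + 1) * q + (q ^ 3 + 1) * q ^ 2 = (q ^ 4 + q ^ 2 + 1) * (q + 1) := by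
      ring
    rw [h2]
    exact mul_inv_cancel₀ (pow_ne_zero _ hg0)
  · rw [ht, hw]
    exact order_v0 q hq g hg

end FF

end Cfsg.Agent.Lib.helper23.TD4V
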