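import Mathlib
import Cfsg.Agent.Lib.helper23.TD4V.Defs
import Cfsg.Agent.Lib.helper8.ChevTwD4O
import Cfsg.Agent.Lib.Helper10.TD4VE4b
import Cfsg.Agent.Lib.Helper10.TD4VE4c
import Cfsg.Agent.Lib.Helper10.TD4VF3
import Cfsg.Agent.Lib.Helper10.TD4VF5
import Cfsg.Agent.Lib.Helper10.TD4VF6
import Cfsg.Agent.Lib.Helper10.TD4VG9
import Cfsg.Agent.Lib.Helper10.TD4VU9
import Cfsg.Agent.Lib.Helper10.TD4VU9b
import Cfsg.Agent.Lib.Helper11.TD4VL0
import Cfsg.Agent.Lib.Helper12.TD4VJA2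
import Cfsg.Agent.Lib.Helper12.TD4VJD
import Cfsg.Agent.Lib.Helper16.TD4VE3
import Cfsg.Agent.Lib.Helper16.TD4VE6
import Cfsg.Agent.Lib.Helper16.TD4VE7
import Cfsg.Agent.Lib.Helper16.TD4VI3
import Cfsg.Agent.Lib.Helper16.TD4VM3
import Cfsg.Agent.Lib.Helper18.TD4VF1
import Cfsg.Agent.Lib.Helper18.TD4VF2
import Cfsg.Agent.Lib.Helper18.TD4VL1
import Cfsg.Agent.Lib.Helper18.TD4VL2
import Cfsg.Agent.Lib.Helper18.TD4VL3
import Cfsg.Agent.Lib.Helper20.TD4VE2c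
import Cfsg.Agent.Lib.Helper20.TD4VE4a
import Cfsg.Agent.Lib.Helper20.TD4VU3
import Cfsg.Agent.Lib.Helper21.TD4VE2
import Cfsg.Agent.Lib.Helper25.TD4VE5
import Cfsg.Agent.Lib.Helper25.TD4VU2
import Cfsg.Agent.Lib.Helper26.TD4VJ0
import Cfsg.Agent.Lib.Helper26.TD4VJB
import Cfsg.Agent.Lib.Helper26.TD4VN1
import Cfsg.Agent.Lib.Helper26.TD4VU7a
import Cfsg.Agent.Lib.Helper27.TD4VU5
import Cfsg.Agent.Lib.Helper27.TD4VU6
import Cfsg.Agent.Lib.Helper5.TD4VI1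
import Cfsg.Agent.Lib.Helper5.TD4VI2
import Cfsg.Agent.Lib.Helper5.TD4VI5
import Cfsg.Agent.Lib.Helper5.TD4VN2
import Cfsg.Agent.Lib.Helper5.TD4VN3
import Cfsg.Agent.Lib.Helper5.TD4VN5
import Cfsg.Agent.Lib.Helper5.TD4VN6
import Cfsg.Agent.Lib.Helper5.TD4VQ3
import Cfsg.Agent.Lib.Helper5.TD4VQ4
import Cfsg.Agent.Lib.Helper9.TD4VI4
import Cfsg.Agent.Lib.Helper9.TD4VM2
import Cfsg.Agent.Lib.Helper9.TD4VM2a
import Cfsg.Agent.Lib.Helper9.TD4VQ1
import Cfsg.Agent.Lib.helper15.TD4VJA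
import Cfsg.Agent.Lib.helper15.TD4VM1
import Cfsg.Agent.Lib.helper2.TD4VJC
import Cfsg.Agent.Lib.helper23.TD4VF0
import Cfsg.Agent.Lib.helper23.TD4VJE
import Cfsg.Agent.Lib.helper23.TD4VJH
import Cfsg.Agent.Lib.helper23.TD4VQ2
import Cfsg.Agent.Lib.helper23.TD4VT
import Cfsg.Agent.Lib.helper4.TD4VG
import Cfsg.Agent.Lib.helper4.TD4VG8
import Cfsg.Agent.Lib.helper4.TD4VJ1
import Cfsg.Agent.Lib.helper4.TD4VJ2
import Cfsg.Agent.Lib.helper4.TD4VJG
import Cfsg.Agent.Lib.helper4.TD4VU1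
import Cfsg.Agent.Lib.helper8.TD4VE1
import Cfsg.Agent.Lib.helper8.TD4VE2a
import Cfsg.Agent.Lib.helper8.TD4VU7
import Cfsg.Agent.Lib.helper8.TD4VU7b
import Cfsg.Agent.Lib.helper8.TD4VU8
import Cfsg.Agent.Lib.Helper22.TD4VC0core
import Cfsg.Agent.Lib.helper23.TD4VXC1
import Cfsg.Agent.Lib.helper23.TD4VXC2
import Cfsg.Agent.Lib.helper23.TD4VXC3
import Cfsg.Agent.Lib.helper23.TD4VXCB

/-!
# Project TD4V (S2462): express assembly.  Own-name exact-statement spares `td4vx_step`, `td4vx_cov_big`, `td4vx_reduce`,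
`td4vx_cov_d1`, `td4vx_cov_d2`, `td4vx_cov_d3` (rows C0 CB E8 C1 C2 C3) on the landed cores of helper22, helper1, helper11
(copies `TD4VXC1`, `TD4VXC2`, `TD4VXC3`, `TD4VXCB` with the `s ≠ 0` binder of the patched `iota_mul`), so that C4 and MAIN wait for nothing.
-/

set_option autoImplicit false
set_option linter.unusedSectionVars false
set_option linter.unusedVariables false

namespace Cfsg.Agent.Lib.helper23.TD4V

open Cfsg.Lie Cfsg.Lie.ChevalleyDatum Matrix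
open Cfsg.Agent.Lib.helper8 Cfsg.Agent.Lib.helper8.TD4
open Cfsg.Agent.Lib.helper23.P4V

universe u v

section C

variable {F K : Type u} {E : Type v} [Field F] [Field K] [Field E] [Fintype F] [Fintype K] [Fintype E]
  (j : F →+* K) (ι : K →+* E) (q : ℕ) (t τ : K) (m : E) (c θ : F)

/-- exact statement of row C0 `step` -/
theorem td4vx_step (hq : IsPrimePow q) (hF : Fintype.card F = q) (hK : Fintype.card K = q ^ 3)
    (x y v v' l' u0 : GG K) (hy : y ∈ Q K q) (hu0 : u0 ∈ Q K q) (hid : y * v = v' * l' * u0)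
    (A : GL (Fin 2) F) (t' : K) (ht' : t' ≠ 0) (u : GG K) (hu : u ∈ Q K q)
    (H : ∀ u'' ∈ Q K q, CovG q x (v' * (l' * iota j q A t') * u'')) :
    CovG q x (v * iota j q A t' * u) :=
  td4vc0_core j q (fun A t ht u hu => iota_norm_Q' j q hq hF hK A t ht u hu)
    x y v v' l' u0 hy hu0 hid A t' ht' u hu H

/-- exact statement of row E8 `reduce` -/
theorem td4vx_reduce (hq : IsPrimePow q) (hF : Fintype.card F = q) (hK : Fintype.card K = q ^ 3)
    (g : GG K) (hg : g ∈ twistedD4 K q) (h1 : g ≠ 1) :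
    ∃ y ∈ twistedD4 K q, ∃ (A : GL (Fin 2) F) (t' : K), t' ≠ 0 ∧ j (A : M2 F).det = Nm q t' ∧
      ∃ u ∈ Q K q,
        (∃ r : K, r ≠ 0 ∧ y * g * y⁻¹ = Xma q r * iota j q A t' * u) ∨
        (∃ r : F, r ≠ 0 ∧ y * g * y⁻¹ = X 1 (j r) * iota j q A t' * u) ∨
        (∃ r1 : K, r1 ≠ 0 ∧ ∃ r2 : F, r2 ≠ 0 ∧
          y * g * y⁻¹ = Xma q r1 * X 0 (j r2) * iota j q A t' * u) :=
  td4vxe8_core j q
    (fun g hg h1 => exists_conj_not_mem_Pp j q hq hF hK g hg h1)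
    (fun g hg => dc_form j q hq hF hK g hg)
    (fun g hg => Pp_dec j q hq hF hK g hg)
    (Pp_le_G j q hq hF hK) g hg h1

/-- exact statement of row CB `cov_big` -/
theorem td4vx_cov_big (hX : Ctx j ι q t τ m c θ) (v' : GG K) (hv : v' ∈ Qm K q) (u' : GG K)
    (hu : u' ∈ Q K q) (M : GL (Fin 2) F) (hM : InSig c (M : M2 F)) :
    CovG q (x0 hB q t τ) (v' * iota j q M (t * t) * u') :=
  td4vxcb_core j q t τ c θ (Ctx.t_ne j ι q t τ m c θ hX) (Ctx.c_ne j ι q t τ m c θ hX)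
    (Ctx.tr_ne j ι q t τ m c θ hX) hX.hc
    (fun A B t s ht hs h => iota_mul j q A B t s ht hs h)
    (fun A1 htr hdet u hu => absorb j ι q t τ m c θ hX A1 htr hdet u hu)
    (fun A1 htr hdet v hv => absorb_m j ι q t τ m c θ hX A1 htr hdet v hv)
    v' hv u' hu M hM

/-- exact statement of row C1 `cov_d1` -/
theorem td4vx_cov_d1 (hX : Ctx j ι q t τ m c θ) (r : K) (hr : r ≠ 0) (A : GL (Fin 2) F) (t' : K)
    (ht' : t' ≠ 0) (hA : j (A : M2 F).det = Nm q t') (u : GG K) (hu : u ∈ Q K q) :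
    CovG q (x0 hB q t τ) (Xma q r * iota j q A t' * u) :=
  td4vxc1_core j ι q t τ m c θ hX (Ctx.t_ne j ι q t τ m c θ hX) (Ctx.c_ne j ι q t τ m c θ hX)
    (fun A t ht u hu => iota_norm_Q' j q hX.hq hX.hF hX.hK A t ht u hu)
    (fun s r hd => move_A q hX.hq hX.hK s r hd)
    (fun s r => move_B q s r)
    (fun t => Xa_mem q hX.hq hX.hK t) (fun t => Xma_mem q hX.hq hX.hK t)
    (fun t => Xab_mem q hX.hq hX.hK t)
    (fun r hr c => Tr3_surj j q hX.hq hX.hF hX.hK r hr c)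
    (fun A B t s ht hs h => iota_mul j q A B t s ht hs h)
    (fun A c t hA => iota_dg j q A c t hA)
    (fun A c hA => iota_upper j q A c hA)
    (fun ν hν A hA => cover1 ν hν A hA)
    (fun v' hv u' hu M hM => td4vx_cov_big j ι q t τ m c θ hX v' hv u' hu M hM)
    r hr A t' ht' hA u hu

/-- exact statement of row C2 `cov_d2` -/
theorem td4vx_cov_d2 (hX : Ctx j ι q t τ m c θ) (r : F) (hr : r ≠ 0) (A : GL (Fin 2) F) (t' : K)
    (ht' : t' ≠ 0) (hA : j (A : M2 F).det = Nm q t') (u : GG K) (hu : u ∈ Q K q) :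
    CovG q (x0 hB q t τ) (X 1 (j r) * iota j q A t' * u) :=
  td4vxc2_core j ι q t τ m c θ hX (Ctx.t_ne j ι q t τ m c θ hX) (Ctx.c_ne j ι q t τ m c θ hX)
    (fun A t ht u hu => iota_norm_Q' j q hX.hq hX.hF hX.hK A t ht u hu)
    (fun s B s0 r hr hd => move_d2 q hX.hq hX.hK s B s0 r hr hd)
    (fun v l u hv hl hlG hu hg => cell_mem q hX.hq hX.hK v l u hv hl hlG hu hg)
    (fun ν hν A hA => cover2 ν hν A hA)
    (fun c hc => Nm_surj j q hX.hq hX.hF hX.hK c hc)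
    (fun t => Xa_mem q hX.hq hX.hK t) (fun t => X2ab_mem q hX.hq hX.hK t)
    (fun c hc => Xlong_mem_Q q hX.hq hX.hK 23 (by simp) c hc)
    (fun c hc => Xlong_mem_Qm q hX.hq hX.hK 1 (by simp) c hc)
    (fun A B t s ht hs h => iota_mul j q A B t s ht hs h)
    (fun A c t hA => iota_dg j q A c t hA)
    (fun A c hA => iota_upper j q A c hA)
    (fun A c hA => iota_lower j q A c hA)
    (fun A t ht => iota_mem j q hX.hq hX.hF hX.hK A t ht)
    (fun v' hv u' hu M hM => td4vx_cov_big j ι q t τ m c θ hX v' hv u' hu M hM)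
    r hr A t' ht' hA u hu

/-- exact statement of row C3 `cov_d3` -/
theorem td4vx_cov_d3 (hX : Ctx j ι q t τ m c θ) (r1 : K) (hr1 : r1 ≠ 0) (r2 : F) (hr2 : r2 ≠ 0)
    (A : GL (Fin 2) F) (t' : K) (ht' : t' ≠ 0) (hA : j (A : M2 F).det = Nm q t') (u : GG K)
    (hu : u ∈ Q K q) :
    CovG q (x0 hB q t τ) (Xma q r1 * X 0 (j r2) * iota j q A t' * u) :=
  td4vxc3_core j q t c (x0 hB q t τ) (Ctx.t_ne j ι q t τ m c θ hX) (Ctx.c_ne j ι q t τ m c θ hX) hX.hc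
    (fun a => j_pow j q hX.hF a)
    (fun z hz => exists_pre j q hX.hq hX.hF z hz)
    (fun z => Nm_pow q hX.hK z)
    (fun r => Tr3_ker q hX.hq hX.hF hX.hK r)
    (fun ν hν A hA e a0 b0 he ha0 hb0 => cover3 ν hν A hA e a0 b0 he ha0 hb0)
    (fun s => Xa_mem q hX.hq hX.hK s) (fun s => Xma_mem q hX.hq hX.hK s)
    (fun s => Xab_mem q hX.hq hX.hK s)
    (fun r hr z hz => Xlevi_mem q hX.hq hX.hK r hr z hz)
    (fun r hr z hz => Xlong_mem_Q q hX.hq hX.hK r hr z hz)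
    (fun r hr z hz => Xlong_mem_Qm q hX.hq hX.hK r hr z hz)
    (fun A B t s ht hs h => iota_mul j q A B t s ht hs h)
    (fun A c hA => iota_upper j q A c hA)
    (fun A c hA => iota_lower j q A c hA)
    (fun A c t hA => iota_dg j q A c t hA)
    (fun s r c hd => move_A0 q hX.hq hX.hK s r c hd)
    (fun s r c => move_G q s r c)
    (fun s r c => move_H q s r c)
    (fun v l u hv hl hlG hu hg => cell_mem q hX.hq hX.hK v l u hv hl hlG hu hg)
    (fun y v v' l' u0 hy hu0 hid A t' ht' u hu H =>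
      td4vx_step j q hX.hq hX.hF hX.hK (x0 hB q t τ) y v v' l' u0 hy hu0 hid A t' ht' u hu H)
    (fun v' hv u' hu M hM => td4vx_cov_big j ι q t τ m c θ hX v' hv u' hu M hM)
    r1 hr1 r2 hr2 A t' ht' hA u hu

/-- **C4** (`cov_all`, verbatim). -/
theorem cov_all (hX : Ctx j ι q t τ m c θ) (g : GG K) (hg : g ∈ twistedD4 K q) (h1 : g ≠ 1) :
    CovG q (x0 hB q t τ) g := by
  obtain ⟨y, hy, A, t', ht', hA, u, hu, h⟩ := td4vx_reduce j q hX.hq hX.hF hX.hK g hg h1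
  apply CovG.of_conj q y hy
  rcases h with ⟨r, hr, e⟩ | ⟨r, hr, e⟩ | ⟨r1, hr1, r2, hr2, e⟩
  · rw [e]
    exact td4vx_cov_d1 j ι q t τ m c θ hX r hr A t' ht' hA u hu
  · rw [e]
    exact td4vx_cov_d2 j ι q t τ m c θ hX r hr A t' ht' hA u hu
  · rw [e]
    exact td4vx_cov_d3 j ι q t τ m c θ hX r1 hr1 r2 hr2 A t' ht' hA u hu

end C

end Cfsg.Agent.Lib.helper23.TD4V
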