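import Mathlib
import Cfsg.Agent.Lib.helper23.TD4V.Defs
import Cfsg.Agent.Lib.helper23.TD4VX
import Cfsg.Agent.Lib.Helper16.TD4C1
import Cfsg.Agent.Lib.helper8.ChevTwU6
import Cfsg.Agent.Lib.helper8.ChevTw8

/-!
# Project TD4V (S2462), row MAIN (`main`), verbatim.
-/

set_option autoImplicit false

namespace Cfsg.Agent.Lib.helper23.TD4V

open Cfsg.Lie Cfsg.Lie.ChevalleyDatum Matrix
open Cfsg.Agent.Lib.helper8 Cfsg.Agent.Lib.helper8.TD4
open Cfsg.Agent.Lib.helper23.P4V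

universe u v

/-- **MAIN**. -/
theorem main {K : Type u} [Field K] [Fintype K] (p : ℕ) [Fact p.Prime] [CharP K p] (q : ℕ)
    (hq : IsPrimePow q) (hK : Fintype.card K = q ^ 3) :
    ∃ x : twistedD4 K q, ¬ p ∣ orderOf x ∧ ∀ g : twistedD4 K q, g ≠ 1 →
      ∃ u v : twistedD4 K q, g = (u * x * u⁻¹) * (v * x * v⁻¹) := by
  classical
  have hq2 : 2 ≤ q := hq.two_le
  obtain ⟨f, hf, hfff3, hneg⟩ := h8frob_exists hq 3 (by norm_num) hK
  -- the fixed field
  let F : Subfield K := RingHom.eqLocusField (f : K →+* K) (RingHom.id K)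
  let _ : Fintype F := Fintype.ofFinite F
  have hmemF : ∀ x : K, x ∈ F ↔ x ^ q = x := by
    intro x
    show (f : K →+* K) x = RingHom.id K x ↔ _
    simp [hf]
  have hF : Fintype.card F = q := by
    have h1 := h8frob_fix_card hq.one_lt (by norm_num : 0 < 3) hK f hf hfff3
    rw [← h1, ← Nat.card_eq_fintype_card]
    apply Nat.card_congr
    exact
      { toFun := fun x => ⟨x.1, by have := (hmemF x.1).mp x.2; rw [hf]; exact this⟩
        invFun := fun x => ⟨x.1, (hmemF x.1).mpr (by rw [← hf]; exact x.2)⟩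
        left_inv := fun x => rfl
        right_inv := fun x => rfl }
  let j : F →+* K := F.subtype
  -- the big field
  let E := FiniteField.Extension K p 2
  let _ : Fintype E := Fintype.ofFinite E
  have hE : Fintype.card E = q ^ 6 := by
    rw [Fintype.card_eq_nat_card, FiniteField.natCard_extension, Nat.card_eq_fintype_card, hK,
      ← pow_mul]
  obtain ⟨t, τ, m, hP, hτ⟩ := exists_par' (algebraMap K E) q hq2 hK hE
  have hNq : Nm q t ^ q = Nm q t := Nm_pow q hK t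
  let c : F := ⟨Nm q t, (hmemF _).mpr hNq⟩
  let θ : F := ⟨τ, (hmemF _).mpr hP.hτ⟩
  have hX : Ctx j (algebraMap K E) q t τ m c θ := ⟨hq, hF, hK, hE, hP, hτ, rfl, rfl⟩
  have hmem : x0 hB q t τ ∈ twistedD4 K q := x0_mem hB q hq hK t τ hP.ht hP.hτ
  refine ⟨⟨x0 hB q t τ, hmem⟩, ?_, ?_⟩
  · rw [Subgroup.orderOf_mk]
    exact order_x0' j (algebraMap K E) q t τ m c θ hX p
  · intro g hg1
    have hg1' : (g : GG K) ≠ 1 := fun h => hg1 (Subtype.ext h)
    obtain ⟨a, ha, b, hb, e⟩ := cov_all j (algebraMap K E) q t τ m c θ hX g.1 g.2 hg1'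
    exact ⟨⟨a, ha⟩, ⟨b, hb⟩, Subtype.ext e⟩

end Cfsg.Agent.Lib.helper23.TD4V
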