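import Cfsg.Agent.Lib.Helper18.TIFamily
import Cfsg.Agent.Lib.Helper1.Frat
import Cfsg.Agent.Lib.helper23.PCore
import Cfsg.Agent.S1265

set_option autoImplicit false

namespace Cfsg.Agent.Lib.helper23

open Cfsg.Agent.Lib.Helper18.TIF

section tisq

variable {X : Type*} [Group X]

theorem tisq_cj_subgroupOf (P : Subgroup X) (R : Subgroup X) (h : ↥P) :
    cj h (R.subgroupOf P) = (cj (h : X) R).subgroupOf P := by
  ext x
  rw [mem_cj, Subgroup.mem_subgroupOf, Subgroup.mem_subgroupOf, mem_cj]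
  rfl

/-- relative version of the commuting theorem for invariant families of TI subgroups -/
theorem tisq_rel [Finite X] (P : Subgroup X) (hP : IsPGroup 2 ↥P)
    (Δ : Set (Subgroup X)) (hle : ∀ R ∈ Δ, R ≤ P)
    (hinv : ∀ s ∈ P, ∀ R ∈ Δ, cj s R ∈ Δ)
    (hsq : ∀ R ∈ Δ, ∃ r ∈ R, r ^ 2 ≠ 1)
    (hord : ∀ R ∈ Δ, ∀ T ∈ Δ, Nat.card ↥R = Nat.card ↥T)
    (hti : ∀ R ∈ Δ, ∀ T ∈ Δ, R = T ∨ R ⊓ T = ⊥) :
    ∀ R ∈ Δ, ∀ T ∈ Δ, R ≠ T → Comm R T := by
  intro R hR T hT hne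
  let Δ' : Set (Subgroup ↥P) := {R' | ∃ R ∈ Δ, R' = R.subgroupOf P}
  have hF : Fam (⊤ : Subgroup ↥P) Δ' := by
    refine ⟨fun _ _ => le_top, ?_, ?_, ?_, ?_⟩
    · rintro h - R' ⟨R, hR, rfl⟩
      exact ⟨cj (h : X) R, hinv _ h.2 R hR, tisq_cj_subgroupOf P R h⟩
    · rintro R' ⟨R, hR, rfl⟩ hbot
      obtain ⟨r, hr, hr2⟩ := hsq R hR
      have hrP : r ∈ P := hle R hR hr
      let r' : ↥(R.subgroupOf P) := ⟨⟨r, hrP⟩, by rw [Subgroup.mem_subgroupOf]; exact hr⟩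
      have hp : IsPGroup 2 ↥(R.subgroupOf P) := hP.to_subgroup _
      have : Fact (Nat.Prime 2) := ⟨Nat.prime_two⟩
      have hmem := Cfsg.Agent.Lib.Helper1.pgroup_pow_mem_frattini hp r'
      rw [hbot, Subgroup.mem_bot] at hmem
      apply hr2
      have h1 : ((r' ^ 2 : ↥(R.subgroupOf P)) : ↥P) = 1 := by rw [hmem]; rfl
      have h2 : (((r' ^ 2 : ↥(R.subgroupOf P)) : ↥P) : X) = 1 := by rw [h1]; rfl
      exact h2
    · rintro R' ⟨R, hR, rfl⟩ T' ⟨T, hT, rfl⟩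
      rw [Nat.card_congr (Subgroup.subgroupOfEquivOfLe (hle R hR)).toEquiv,
        Nat.card_congr (Subgroup.subgroupOfEquivOfLe (hle T hT)).toEquiv]
      exact hord R hR T hT
    · rintro R' ⟨R, hR, rfl⟩ T' ⟨T, hT, rfl⟩
      rcases hti R hR T hT with h | h
      · left; rw [h]
      · right
        rw [eq_bot_iff]
        intro x hx
        rw [Subgroup.mem_inf, Subgroup.mem_subgroupOf, Subgroup.mem_subgroupOf] at hx
        have : (x : X) ∈ R ⊓ T := hx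
        rw [h, Subgroup.mem_bot] at this
        rw [Subgroup.mem_bot]
        exact Subtype.ext this
  have hne' : R.subgroupOf P ≠ T.subgroupOf P := by
    intro h
    apply hne
    ext x
    constructor
    · intro hx
      have : (⟨x, hle R hR hx⟩ : ↥P) ∈ R.subgroupOf P := by
        rw [Subgroup.mem_subgroupOf]; exact hx
      rw [h, Subgroup.mem_subgroupOf] at this
      exact this
    · intro hx
      have : (⟨x, hle T hT hx⟩ : ↥P) ∈ T.subgroupOf P := by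
        rw [Subgroup.mem_subgroupOf]; exact hx
      rw [← h, Subgroup.mem_subgroupOf] at this
      exact this
  have hc := main hP _ (⊤ : Subgroup ↥P) rfl Δ' hF (R.subgroupOf P) ⟨R, hR, rfl⟩
    (T.subgroupOf P) ⟨T, hT, rfl⟩ hne'
  intro x hx y hy
  have := hc ⟨x, hle R hR hx⟩ (by rw [Subgroup.mem_subgroupOf]; exact hx)
    ⟨y, hle T hT hy⟩ (by rw [Subgroup.mem_subgroupOf]; exact hy)
  exact congrArg Subtype.val this

end tisq

end Cfsg.Agent.Lib.helper23
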