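import Cfsg.Agent.Lib.helper23.TISqA

set_option autoImplicit false

namespace Cfsg.Agent.Lib.helper23

open Cfsg.Agent.Lib.Helper18.TIF

section tisqb

variable {X : Type*} [Group X]

/-- abelian TI `2`-subgroup -/
structure TIab (A : Subgroup X) : Prop where
  pg : IsPGroup 2 ↥A
  comm : ∀ x ∈ A, ∀ y ∈ A, x * y = y * x
  ti : ∀ h : X, cj h A = A ∨ cj h A ⊓ A = ⊥

theorem tisq_cj_inf (g : X) (U V : Subgroup X) : cj g (U ⊓ V) = cj g U ⊓ cj g V :=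
  Subgroup.map_inf U V _ (MulAut.conj g).injective

theorem tisq_cj_bot (g : X) : cj g (⊥ : Subgroup X) = ⊥ := Subgroup.map_bot _

theorem tisq_cj_inv_cj (g : X) (U : Subgroup X) : cj g⁻¹ (cj g U) = U := by
  rw [← cj_mul, inv_mul_cancel, cj_one]

theorem TIab.ti_conj {A : Subgroup X} (hA : TIab A) (g h : X) :
    cj g A = cj h A ∨ cj g A ⊓ cj h A = ⊥ := by
  rcases hA.ti (h⁻¹ * g) with h1 | h1
  · left
    have : cj h (cj (h⁻¹ * g) A) = cj h A := by rw [h1]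
    rw [← cj_mul, mul_inv_cancel_left] at this
    exact this
  · right
    have : cj h (cj (h⁻¹ * g) A ⊓ A) = cj h ⊥ := by rw [h1]
    rw [tisq_cj_inf, ← cj_mul, mul_inv_cancel_left, tisq_cj_bot] at this
    exact this

theorem TIab.conj {A : Subgroup X} (hA : TIab A) (g : X) : TIab (cj g A) := by
  refine ⟨hA.pg.map _, ?_, ?_⟩
  · intro x hx y hy
    rw [mem_cj] at hx hy
    have := hA.comm _ hx _ hy
    have e1 : x * y = g * ((g⁻¹ * x * g) * (g⁻¹ * y * g)) * g⁻¹ := by group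
    have e2 : y * x = g * ((g⁻¹ * y * g) * (g⁻¹ * x * g)) * g⁻¹ := by group
    rw [e1, e2, this]
  · intro h
    have := hA.ti_conj (h * g) g
    rw [cj_mul] at this
    exact this

theorem tisq_card_cj [Finite X] (g : X) (U : Subgroup X) : Nat.card ↥(cj g U) = Nat.card ↥U :=
  Subgroup.card_map_of_injective (MulAut.conj g).injective

/-- conjugates of `A` under a normal `2`-subgroup commute with `A` -/
theorem TIab.comm_conj [Finite X] {A : Subgroup X} (hA : TIab A) (a0 : X) (ha0 : a0 ∈ A)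
    (hsq : a0 ^ 2 ≠ 1) (Q : Subgroup X) [Q.Normal] (hQ : IsPGroup 2 ↥Q) (y : X) (hy : y ∈ Q) :
    Comm A (cj y A) := by
  by_cases hAy : cj y A = A
  · rw [hAy]
    exact hA.comm
  have hP : IsPGroup 2 ↥(A ⊔ Q) := IsPGroup.to_sup_of_normal_right hA.pg hQ
  let Δ : Set (Subgroup X) := {R | ∃ s ∈ A ⊔ Q, R = cj s A}
  have hle : ∀ R ∈ Δ, R ≤ A ⊔ Q := by
    rintro R ⟨s, hs, rfl⟩ x hx
    rw [mem_cj] at hx
    have h1 : s⁻¹ * x * s ∈ A ⊔ Q := (le_sup_left : A ≤ A ⊔ Q) hx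
    have h2 : s * (s⁻¹ * x * s) * s⁻¹ ∈ A ⊔ Q :=
      Subgroup.mul_mem _ (Subgroup.mul_mem _ hs h1) (Subgroup.inv_mem _ hs)
    have e : s * (s⁻¹ * x * s) * s⁻¹ = x := by group
    rw [e] at h2
    exact h2
  have hinv : ∀ s ∈ A ⊔ Q, ∀ R ∈ Δ, cj s R ∈ Δ := by
    rintro s hs R ⟨t, ht, rfl⟩
    exact ⟨s * t, Subgroup.mul_mem _ hs ht, (cj_mul s t A).symm⟩
  have hsq' : ∀ R ∈ Δ, ∃ r ∈ R, r ^ 2 ≠ 1 := by
    rintro R ⟨s, hs, rfl⟩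
    refine ⟨s * a0 * s⁻¹, conj_mem_cj ha0, ?_⟩
    intro h
    apply hsq
    have e : (s * a0 * s⁻¹) ^ 2 = s * a0 ^ 2 * s⁻¹ := by
      rw [pow_two, pow_two]; group
    rw [e] at h
    have : a0 ^ 2 = s⁻¹ * (s * a0 ^ 2 * s⁻¹) * s := by group
    rw [this, h]; group
  have hord : ∀ R ∈ Δ, ∀ T ∈ Δ, Nat.card ↥R = Nat.card ↥T := by
    rintro R ⟨s, hs, rfl⟩ T ⟨t, ht, rfl⟩
    rw [tisq_card_cj, tisq_card_cj]
  have hti : ∀ R ∈ Δ, ∀ T ∈ Δ, R = T ∨ R ⊓ T = ⊥ := by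
    rintro R ⟨s, hs, rfl⟩ T ⟨t, ht, rfl⟩
    exact hA.ti_conj s t
  have hAΔ : A ∈ Δ := ⟨1, Subgroup.one_mem _, (cj_one A).symm⟩
  have hyΔ : cj y A ∈ Δ := ⟨y, (le_sup_right : Q ≤ A ⊔ Q) hy, rfl⟩
  exact tisq_rel (A ⊔ Q) hP Δ hle hinv hsq' hord hti A hAΔ (cj y A) hyΔ (fun h => hAy h.symm)

/-- quadratic action -/
theorem TIab.quad [Finite X] {A : Subgroup X} (hA : TIab A) (a0 : X) (ha0 : a0 ∈ A)
    (hsq : a0 ^ 2 ≠ 1) (Q : Subgroup X) [Q.Normal] (hQ : IsPGroup 2 ↥Q) (a : X) (ha : a ∈ A)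
    (z : X) (hz : z ∈ Q) :
    a ^ 2 * z * (a ^ 2)⁻¹ = z * (z⁻¹ * (a * z * a⁻¹)) ^ 2 := by
  have hc := hA.comm_conj a0 ha0 hsq Q hQ z⁻¹ (Subgroup.inv_mem _ hz) a ha (z⁻¹ * a * z⁻¹⁻¹)
    (conj_mem_cj ha)
  rw [inv_inv] at hc
  -- hc : a * (z⁻¹ * a * z) = z⁻¹ * a * z * a
  have hca : a * (z⁻¹ * (a * z * a⁻¹)) * a⁻¹ = z⁻¹ * (a * z * a⁻¹) := by
    have e1 : a * (z⁻¹ * (a * z * a⁻¹)) * a⁻¹ = (a * (z⁻¹ * a * z)) * a⁻¹ * a⁻¹ := by group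
    rw [e1, hc]; group
  have e2 : a ^ 2 * z * (a ^ 2)⁻¹ = (a * z * a⁻¹) * (a * (z⁻¹ * (a * z * a⁻¹)) * a⁻¹) := by
    rw [pow_two]; group
  rw [e2, hca, pow_two]; group

end tisqb

end Cfsg.Agent.Lib.helper23
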