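import Cfsg.Agent.Lib.helper23.TISqB

set_option autoImplicit false

namespace Cfsg.Agent.Lib.helper23

open Cfsg.Agent.Lib.Helper18.TIF

section tisqc

variable {X : Type*} [Group X]

/-- Frattini subgroup of a subgroup, as a subgroup of the ambient group -/
def tisqPhi (N : Subgroup X) : Subgroup X := (frattini ↥N).map N.subtype

theorem tisqPhi_le (N : Subgroup X) : tisqPhi N ≤ N := Subgroup.map_subtype_le _

instance tisqPhi_normal (N : Subgroup X) [N.Normal] : (tisqPhi N).Normal :=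
  ConjAct.normal_of_characteristic_of_normal (H := N) (K := frattini ↥N)

theorem tisqPhi_sq_mem [Finite X] (N : Subgroup X) (hN : IsPGroup 2 ↥N) (c : X) (hc : c ∈ N) :
    c ^ 2 ∈ tisqPhi N := by
  have : Fact (Nat.Prime 2) := ⟨Nat.prime_two⟩
  have hmem := Cfsg.Agent.Lib.Helper1.pgroup_pow_mem_frattini hN (⟨c, hc⟩ : ↥N)
  exact ⟨_, hmem, rfl⟩

theorem tisqPhi_card_lt [Finite X] (N : Subgroup X) (hN : N ≠ ⊥) :
    Nat.card ↥(tisqPhi N) < Nat.card ↥N := by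
  unfold tisqPhi
  rw [Subgroup.card_map_of_injective N.subtype_injective]
  have hnt : Nontrivial ↥N := (Subgroup.nontrivial_iff_ne_bot N).mpr hN
  have hne : frattini ↥N ≠ ⊤ := by
    rcases eq_top_or_exists_le_coatom (⊥ : Subgroup ↥N) with h | ⟨M, hM, -⟩
    · exact absurd h bot_ne_top
    · intro h
      have := frattini_le_coatom hM
      rw [h, top_le_iff] at this
      exact hM.1 this
  refine lt_of_le_of_ne (Subgroup.card_le_card_group _) ?_
  intro h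
  exact hne (Subgroup.card_eq_iff_eq_top _ |>.mp h)

/-- elements acting trivially on all Frattini quotients of normal subgroups inside `Q` -/
def tisqT (Q : Subgroup X) : Subgroup X where
  carrier := {g | ∀ N : Subgroup X, N.Normal → N ≤ Q → ∀ z ∈ N, g * z * g⁻¹ * z⁻¹ ∈ tisqPhi N}
  one_mem' := by
    intro N _ _ z _
    have : (1 : X) * z * 1⁻¹ * z⁻¹ = 1 := by group
    rw [this]
    exact Subgroup.one_mem _
  mul_mem' := by
    intro g h hg hh N hN hNQ z hz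
    have h1 := hh N hN hNQ z hz
    have h2 := hg N hN hNQ z hz
    have : (tisqPhi N).Normal := tisqPhi_normal N
    have h3 : g * (h * z * h⁻¹ * z⁻¹) * g⁻¹ ∈ tisqPhi N := this.conj_mem _ h1 g
    have e : g * h * z * (g * h)⁻¹ * z⁻¹ = (g * (h * z * h⁻¹ * z⁻¹) * g⁻¹) * (g * z * g⁻¹ * z⁻¹) := by
      group
    rw [e]
    exact Subgroup.mul_mem _ h3 h2
  inv_mem' := by
    intro g hg N hN hNQ z hz
    have hz' : g⁻¹ * z * g⁻¹⁻¹ ∈ N := hN.conj_mem z hz g⁻¹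
    have h1 := hg N hN hNQ _ hz'
    have h2 := Subgroup.inv_mem _ h1
    have e : (g * (g⁻¹ * z * g⁻¹⁻¹) * g⁻¹ * (g⁻¹ * z * g⁻¹⁻¹)⁻¹)⁻¹ = g⁻¹ * z * g⁻¹⁻¹ * z⁻¹ := by
      group
    rw [e] at h2
    exact h2

theorem mem_tisqT {Q : Subgroup X} {g : X} : g ∈ tisqT Q ↔
    ∀ N : Subgroup X, N.Normal → N ≤ Q → ∀ z ∈ N, g * z * g⁻¹ * z⁻¹ ∈ tisqPhi N := Iff.rfl

instance tisqT_normal (Q : Subgroup X) : (tisqT Q).Normal := by
  constructor
  intro g hg x
  rw [mem_tisqT] at hg ⊢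
  intro N hN hNQ z hz
  have hz' : x⁻¹ * z * x⁻¹⁻¹ ∈ N := hN.conj_mem z hz x⁻¹
  have h1 := hg N hN hNQ _ hz'
  have : (tisqPhi N).Normal := tisqPhi_normal N
  have h2 := this.conj_mem _ h1 x
  have e : x * (g * (x⁻¹ * z * x⁻¹⁻¹) * g⁻¹ * (x⁻¹ * z * x⁻¹⁻¹)⁻¹) * x⁻¹
      = x * g * x⁻¹ * z * (x * g * x⁻¹)⁻¹ * z⁻¹ := by group
  rw [e] at h2
  exact h2

/-- squares of elements of a non-elementary abelian TI subgroup act trivially on Frattini factors -/
theorem TIab.sq_mem_tisqT [Finite X] {A : Subgroup X} (hA : TIab A) (a0 : X) (ha0 : a0 ∈ A)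
    (hsq : a0 ^ 2 ≠ 1) (Q : Subgroup X) [Q.Normal] (hQ : IsPGroup 2 ↥Q) (a : X) (ha : a ∈ A) :
    a ^ 2 ∈ tisqT Q := by
  rw [mem_tisqT]
  intro N hN hNQ z hz
  have hquad := hA.quad a0 ha0 hsq Q hQ a ha z (hNQ hz)
  rw [hquad]
  have hc : z⁻¹ * (a * z * a⁻¹) ∈ N :=
    Subgroup.mul_mem _ (Subgroup.inv_mem _ hz) (hN.conj_mem z hz a)
  have hN2 : IsPGroup 2 ↥N := hQ.to_le hNQ
  have h1 := tisqPhi_sq_mem N hN2 _ hc
  have : (tisqPhi N).Normal := tisqPhi_normal N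
  exact this.conj_mem _ h1 z

theorem tisq_pow_conj (g n z : X) (h1 : g * z * g⁻¹ = n * z) (h2 : g * n * g⁻¹ = n) (k : ℕ) :
    g ^ k * z * (g ^ k)⁻¹ = n ^ k * z := by
  induction k with
  | zero => simp
  | succ k ih =>
    have e : g ^ (k + 1) * z * (g ^ (k + 1))⁻¹ = g * (g ^ k * z * (g ^ k)⁻¹) * g⁻¹ := by
      rw [pow_succ']; group
    rw [e, ih]
    have e2 : g * (n ^ k * z) * g⁻¹ = (g * n * g⁻¹) ^ k * (g * z * g⁻¹) := by
      rw [conj_pow]; group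
    rw [e2, h1, h2, pow_succ, mul_assoc]

/-- odd order elements of `tisqT Q` centralize `Q` -/
theorem tisqT_odd_centralizes [Finite X] (Q : Subgroup X) (hQ : IsPGroup 2 ↥Q) (g : X)
    (hg : g ∈ tisqT Q) (hodd : (orderOf g).Coprime 2) :
    ∀ m : ℕ, ∀ N : Subgroup X, N.Normal → N ≤ Q → Nat.card ↥N = m →
      ∀ z ∈ N, g * z * g⁻¹ = z := by
  intro m
  induction m using Nat.strong_induction_on with
  | _ m ih =>
  intro N hN hNQ hm z hz
  by_cases hbot : N = ⊥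
  · rw [hbot, Subgroup.mem_bot] at hz
    rw [hz]; group
  have hlt := tisqPhi_card_lt N hbot
  rw [hm] at hlt
  have hΦn : (tisqPhi N).Normal := tisqPhi_normal N
  have hΦ := ih _ hlt (tisqPhi N) hΦn (le_trans (tisqPhi_le N) hNQ) rfl
  have hn := (mem_tisqT.mp hg) N hN hNQ z hz
  set n := g * z * g⁻¹ * z⁻¹ with hndef
  have h1 : g * z * g⁻¹ = n * z := by rw [hndef]; group
  have h2 : g * n * g⁻¹ = n := hΦ n hn
  have h3 := tisq_pow_conj g n z h1 h2 (orderOf g)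
  rw [pow_orderOf_eq_one, one_mul, inv_one, mul_one] at h3
  have h4 : n ^ orderOf g = 1 := by
    have : n ^ orderOf g * z = 1 * z := by rw [← h3, one_mul]
    exact mul_right_cancel this
  have hnQ : n ∈ Q := hNQ (tisqPhi_le N hn)
  obtain ⟨j, hj⟩ := (IsPGroup.iff_orderOf.mp hQ) ⟨n, hnQ⟩
  have hj' : orderOf n = 2 ^ j := by
    rw [← hj]; exact (Subgroup.orderOf_mk n hnQ).symm
  have h5 : orderOf n ∣ orderOf g := orderOf_dvd_of_pow_eq_one h4
  have h6 : orderOf n = 1 := by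
    rw [hj'] at h5 ⊢
    have hcop : (2 ^ j).Coprime (orderOf g) := (Nat.Coprime.pow_left j hodd.symm)
    exact Nat.Coprime.eq_one_of_dvd hcop h5
  rw [orderOf_eq_one_iff] at h6
  rw [h1, h6, one_mul]

end tisqc

end Cfsg.Agent.Lib.helper23
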