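import Cfsg.Agent.Lib.helper23.TISqC

set_option autoImplicit false

namespace Cfsg.Agent.Lib.helper23

open Cfsg.Agent.Lib.Helper18.TIF

section tisqd

variable {X : Type*} [Group X]

/-- a normal subgroup inside `tisqT Q` is a `2`-group when `Q` is self-centralizing -/
theorem tisqT_isPGroup [Finite X] (Q : Subgroup X) [hQn : Q.Normal] (hQ : IsPGroup 2 ↥Q)
    (hC : Subgroup.centralizer (Q : Set X) ≤ Q) (K : Subgroup X) (hK : K ≤ tisqT Q) :
    IsPGroup 2 ↥K := by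
  have hpos : Nat.card ↥K ≠ 0 := Nat.card_pos.ne'
  have hcard := Nat.eq_prime_pow_of_unique_prime_dvd (n := Nat.card ↥K) (p := 2) hpos (by
    intro r hr hdvd
    by_contra hr2
    have : Fact r.Prime := ⟨hr⟩
    obtain ⟨g, hg⟩ := exists_prime_orderOf_dvd_card' (G := ↥K) r hdvd
    have hgo : orderOf (g : X) = r := by rw [Subgroup.orderOf_coe]; exact hg
    have hodd : (orderOf (g : X)).Coprime 2 := by
      rw [hgo]
      exact (Nat.coprime_primes hr Nat.prime_two).mpr hr2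
    have hcent := tisqT_odd_centralizes Q hQ (g : X) (hK g.2) hodd _ Q hQn le_rfl rfl
    have hgC : (g : X) ∈ Subgroup.centralizer (Q : Set X) := by
      rw [Subgroup.mem_centralizer_iff]
      intro z hz
      have := hcent z hz
      have e : z * (g : X) = ((g : X) * z * (g : X)⁻¹)⁻¹⁻¹ * (g : X) := by rw [this]; group
      rw [e]; group
    have hgQ : (g : X) ∈ Q := hC hgC
    obtain ⟨j, hj⟩ := (IsPGroup.iff_orderOf.mp hQ) ⟨(g : X), hgQ⟩
    rw [Subgroup.orderOf_mk, hgo] at hj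
    have : r ∣ 2 ^ j := by rw [← hj]
    have := (Nat.prime_dvd_prime_iff_eq hr Nat.prime_two).mp (hr.dvd_of_dvd_pow this)
    exact hr2 this)
  have : Fact (Nat.Prime 2) := ⟨Nat.prime_two⟩
  exact IsPGroup.of_card hcard

/-- the subgroup generated by the squares -/
def tisqB (A : Subgroup X) : Subgroup X := Subgroup.closure ((fun a : X => a ^ 2) '' (A : Set X))

theorem tisqB_le (A : Subgroup X) : tisqB A ≤ A := by
  unfold tisqB
  rw [Subgroup.closure_le]
  rintro x ⟨a, ha, rfl⟩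
  exact Subgroup.pow_mem _ ha 2

theorem tisqB_cj (g : X) (A : Subgroup X) : cj g (tisqB A) = tisqB (cj g A) := by
  unfold tisqB cj
  rw [MonoidHom.map_closure]
  congr 1
  ext x
  constructor
  · rintro ⟨y, ⟨a, ha, rfl⟩, rfl⟩
    refine ⟨(MulAut.conj g).toMonoidHom a, Subgroup.mem_map_of_mem _ ha, ?_⟩
    exact (map_pow (MulAut.conj g).toMonoidHom a 2).symm
  · rintro ⟨y, ⟨a, ha, rfl⟩, rfl⟩
    exact ⟨a ^ 2, ⟨a, ha, rfl⟩, map_pow (MulAut.conj g).toMonoidHom a 2⟩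

/-- first part: the squares lie in `O_2` -/
theorem TIab.sq_le_pCore [Finite X] (hX : Cfsg.generalizedFittingSubgroup X = Cfsg.pCore 2 X)
    {A : Subgroup X} (hA : TIab A) :
    Subgroup.normalClosure ((fun a : X => a ^ 2) '' (A : Set X)) ≤ Cfsg.pCore 2 X := by
  have : Fact (Nat.Prime 2) := ⟨Nat.prime_two⟩
  have hQn : (Cfsg.pCore 2 X).Normal := pCore_normal 2 X
  have hQ : IsPGroup 2 ↥(Cfsg.pCore 2 X) := pCore_isPGroup 2 X
  by_cases h : ∃ a0 ∈ A, a0 ^ 2 ≠ 1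
  · obtain ⟨a0, ha0, hsq⟩ := h
    have hC : Subgroup.centralizer ((Cfsg.pCore 2 X : Subgroup X) : Set X) ≤ Cfsg.pCore 2 X := by
      have := Cfsg.Agent.S1265.result (G := X)
      rw [hX] at this
      exact this
    have hK : Subgroup.normalClosure ((fun a : X => a ^ 2) '' (A : Set X))
        ≤ tisqT (Cfsg.pCore 2 X) := by
      apply Subgroup.normalClosure_le_normal
      rintro x ⟨a, ha, rfl⟩
      exact hA.sq_mem_tisqT a0 ha0 hsq _ hQ a ha
    have hp := tisqT_isPGroup (Cfsg.pCore 2 X) hQ hC _ hK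
    exact le_pCore _ hp
  · push Not at h
    apply Subgroup.normalClosure_le_normal
    rintro x ⟨a, ha, rfl⟩
    show a ^ 2 ∈ Cfsg.pCore 2 X
    rw [h a ha]
    exact Subgroup.one_mem _

theorem tisq_closure_comm (s : Set X) (h : ∀ x ∈ s, ∀ y ∈ s, x * y = y * x) :
    ∀ x ∈ Subgroup.closure s, ∀ y ∈ Subgroup.closure s, x * y = y * x := by
  have h1 : ∀ x ∈ s, ∀ y ∈ Subgroup.closure s, x * y = y * x := by
    intro x hx
    have : Subgroup.closure s ≤ Subgroup.centralizer {x} := by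
      rw [Subgroup.closure_le]
      intro y hy
      rw [SetLike.mem_coe, Subgroup.mem_centralizer_iff]
      intro z hz
      rw [Set.mem_singleton_iff] at hz
      rw [hz]
      exact h x hx y hy
    intro y hy
    have := this hy
    rw [Subgroup.mem_centralizer_iff] at this
    exact this x rfl
  intro x hx
  have : Subgroup.closure s ≤ Subgroup.centralizer {x} := by
    rw [Subgroup.closure_le]
    intro y hy
    rw [SetLike.mem_coe, Subgroup.mem_centralizer_iff]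
    intro z hz
    rw [Set.mem_singleton_iff] at hz
    rw [hz]
    exact (h1 y hy x hx).symm
  intro y hy
  have := this hy
  rw [Subgroup.mem_centralizer_iff] at this
  exact this x rfl

/-- second part -/
theorem TIab.normalClosure_comm [Finite X]
    (hX : Cfsg.generalizedFittingSubgroup X = Cfsg.pCore 2 X)
    {A : Subgroup X} (hA : TIab A) (b0 : X) (hb0 : b0 ∈ tisqB A) (hb0sq : b0 ^ 2 ≠ 1) :
    ∀ x ∈ Subgroup.normalClosure ((fun a : X => a ^ 2) '' (A : Set X)),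
      ∀ y ∈ Subgroup.normalClosure ((fun a : X => a ^ 2) '' (A : Set X)), x * y = y * x := by
  have : Fact (Nat.Prime 2) := ⟨Nat.prime_two⟩
  have hQn : (Cfsg.pCore 2 X).Normal := pCore_normal 2 X
  have hQ : IsPGroup 2 ↥(Cfsg.pCore 2 X) := pCore_isPGroup 2 X
  have hBQ : tisqB A ≤ Cfsg.pCore 2 X :=
    le_trans Subgroup.closure_le_normalClosure (hA.sq_le_pCore hX)
  let Δ : Set (Subgroup X) := {R | ∃ x : X, R = cj x (tisqB A)}
  have hle : ∀ R ∈ Δ, R ≤ Cfsg.pCore 2 X := by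
    rintro R ⟨x, rfl⟩ y hy
    rw [mem_cj] at hy
    have h1 := hQn.conj_mem _ (hBQ hy) x
    have e : x * (x⁻¹ * y * x) * x⁻¹ = y := by group
    rw [e] at h1
    exact h1
  have hinv : ∀ s ∈ Cfsg.pCore 2 X, ∀ R ∈ Δ, cj s R ∈ Δ := by
    rintro s - R ⟨x, rfl⟩
    exact ⟨s * x, (cj_mul s x _).symm⟩
  have hsq' : ∀ R ∈ Δ, ∃ r ∈ R, r ^ 2 ≠ 1 := by
    rintro R ⟨s, rfl⟩
    refine ⟨s * b0 * s⁻¹, conj_mem_cj hb0, ?_⟩
    intro h
    apply hb0sq
    have e : (s * b0 * s⁻¹) ^ 2 = s * b0 ^ 2 * s⁻¹ := by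
      rw [pow_two, pow_two]; group
    rw [e] at h
    have : b0 ^ 2 = s⁻¹ * (s * b0 ^ 2 * s⁻¹) * s := by group
    rw [this, h]; group
  have hord : ∀ R ∈ Δ, ∀ T ∈ Δ, Nat.card ↥R = Nat.card ↥T := by
    rintro R ⟨s, rfl⟩ T ⟨t, rfl⟩
    rw [tisq_card_cj, tisq_card_cj]
  have hti : ∀ R ∈ Δ, ∀ T ∈ Δ, R = T ∨ R ⊓ T = ⊥ := by
    rintro R ⟨s, rfl⟩ T ⟨t, rfl⟩
    rcases hA.ti_conj s t with h | h
    · left
      rw [tisqB_cj, tisqB_cj, h]
    · right
      rw [eq_bot_iff, ← h]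
      refine inf_le_inf ?_ ?_
      · rw [tisqB_cj]; exact tisqB_le _
      · rw [tisqB_cj]; exact tisqB_le _
  have hcomm := tisq_rel (Cfsg.pCore 2 X) hQ Δ hle hinv hsq' hord hti
  rw [Subgroup.normalClosure]
  apply tisq_closure_comm
  intro x hx y hy
  rw [Group.mem_conjugatesOfSet_iff] at hx hy
  obtain ⟨u, ⟨a, ha, rfl⟩, hux⟩ := hx
  obtain ⟨v, ⟨a', ha', rfl⟩, hvy⟩ := hy
  rw [isConj_iff] at hux hvy
  obtain ⟨c, rfl⟩ := hux
  obtain ⟨d, rfl⟩ := hvy
  have hxm : c * a ^ 2 * c⁻¹ ∈ cj c (tisqB A) :=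
    conj_mem_cj (Subgroup.subset_closure ⟨a, ha, rfl⟩)
  have hym : d * a' ^ 2 * d⁻¹ ∈ cj d (tisqB A) :=
    conj_mem_cj (Subgroup.subset_closure ⟨a', ha', rfl⟩)
  by_cases heq : cj c (tisqB A) = cj d (tisqB A)
  · rw [← heq] at hym
    have hAc := hA.conj c
    have hle' : cj c (tisqB A) ≤ cj c A := by rw [tisqB_cj]; exact tisqB_le _
    exact hAc.comm _ (hle' hxm) _ (hle' hym)
  · exact hcomm _ ⟨c, rfl⟩ _ ⟨d, rfl⟩ heq _ hxm _ hym

end tisqd

end Cfsg.Agent.Lib.helper23
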