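import Cfsg.Agent.Lib.Helper25.TOOTR1
import Cfsg.Agent.Lib.Helper28.OMaxQ

/-!
# Project TOO, row WG8 (`w1_om_le_of_sieg`, helper23): `Ω = Om J` is generated by the long root elements
(transport of `Cfsg.Agent.S0795.result` along `ι ≃ Fin (card ι)`, then TR2).
-/

set_option autoImplicit false
set_option linter.unusedVariables false
set_option linter.unusedSectionVars false

namespace Cfsg.Agent.Lib.Helper28.TOO

open Matrix
open scoped Kronecker
open Cfsg.Agent.Lib.helper7.TP Cfsg.Agent.Lib.Helper21.TS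

section bridge

variable {ι : Type} [Fintype ι] [DecidableEq ι] {F : Type*} [Field F] {J : Matrix ι ι F}

/-- the quadratic form `x ↦ f(x ∘ e, x ∘ e) / 2` on `F^n`, bundled. -/
noncomputable def toowg8_Q {n : ℕ} (J : Matrix ι ι F) (hJ : Jᵀ = J) (h2 : (2 : F) ≠ 0) (e : ι ≃ Fin n) :
    QuadraticForm F (Fin n → F) where
  toFun := fun x => bf J (x ∘ e) (x ∘ e) / 2
  toFun_smul := fun c x => by
    show bf J (c • (x ∘ e)) (c • (x ∘ e)) / 2 = (c * c) • (bf J (x ∘ e) (x ∘ e) / 2)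
    rw [bf_smul_left, bf_smul_right, smul_eq_mul]
    ring
  exists_companion' :=
    ⟨LinearMap.mk₂ F (fun x y : Fin n → F => bf J (x ∘ e) (y ∘ e))
      (fun x y z => by show bf J (x ∘ e + y ∘ e) (z ∘ e) = _; rw [bf_add_left])
      (fun c x y => by show bf J (c • (x ∘ e)) (y ∘ e) = _; rw [bf_smul_left, smul_eq_mul])
      (fun x y z => by show bf J (x ∘ e) (y ∘ e + z ∘ e) = _; rw [bf_add_right])
      (fun c x y => by show bf J (x ∘ e) (c • (y ∘ e)) = _; rw [bf_smul_right, smul_eq_mul]),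
    fun x y => by
      show bf J (x ∘ e + y ∘ e) (x ∘ e + y ∘ e) / 2 =
        bf J (x ∘ e) (x ∘ e) / 2 + bf J (y ∘ e) (y ∘ e) / 2 + bf J (x ∘ e) (y ∘ e)
      rw [tootr1_polar hJ]
      field_simp
      ring⟩

theorem toowg8_Q_coe {n : ℕ} (hJ : Jᵀ = J) (h2 : (2 : F) ≠ 0) (e : ι ≃ Fin n) :
    ⇑(toowg8_Q J hJ h2 e) = fun x : Fin n → F => (fun y : ι → F => bf J y y / 2) (x ∘ e) := rfl

theorem toowg8_Q_apply {n : ℕ} (hJ : Jᵀ = J) (h2 : (2 : F) ≠ 0) (e : ι ≃ Fin n) (x : Fin n → F) :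
    toowg8_Q J hJ h2 e x = bf J (x ∘ e) (x ∘ e) / 2 := rfl

theorem toowg8_polar {n : ℕ} (hJ : Jᵀ = J) (h2 : (2 : F) ≠ 0) (e : ι ≃ Fin n) (x y : Fin n → F) :
    QuadraticMap.polar (⇑(toowg8_Q J hJ h2 e)) x y = bf J (x ∘ e) (y ∘ e) := by
  unfold QuadraticMap.polar
  rw [toowg8_Q_apply, toowg8_Q_apply, toowg8_Q_apply]
  have : (x + y) ∘ e = x ∘ e + y ∘ e := rfl
  rw [this, tootr1_polar hJ]
  field_simp
  ring

theorem toowg8_nondeg {n : ℕ} (hJ : Jᵀ = J) (h2 : (2 : F) ≠ 0) (hdet : J.det ≠ 0) (e : ι ≃ Fin n) :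
    (QuadraticMap.polarBilin (toowg8_Q J hJ h2 e)).Nondegenerate := by
  have hsurj : ∀ y' : ι → F, ∃ y : Fin n → F, y ∘ e = y' := fun y' =>
    ⟨y' ∘ e.symm, by funext i; simp⟩
  have key : ∀ x : Fin n → F, (∀ y : ι → F, bf J (x ∘ e) y = 0) → x = 0 := by
    intro x hx
    have h0 : x ∘ e = 0 := by
      by_contra hne
      obtain ⟨y, hy⟩ := bf_nondeg hdet hne
      exact hy (hx y)
    funext k
    have := congrFun h0 (e.symm k)
    simpa using this
  constructor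
  · intro x hx
    apply key
    intro y'
    obtain ⟨y, rfl⟩ := hsurj y'
    have := hx y
    rw [QuadraticMap.polarBilin_apply_apply, toowg8_polar] at this
    exact this
  · intro x hx
    apply key
    intro y'
    obtain ⟨y, rfl⟩ := hsurj y'
    have := hx y
    rw [QuadraticMap.polarBilin_apply_apply, toowg8_polar, bf_symm hJ] at this
    exact this

/-- WG8 OMGEN [M-L]. `Ω` is generated by the long root elements. -/
theorem w1_om_le_of_sieg [Fintype F] (h2 : (2 : F) ≠ 0) (hJ : Jᵀ = J) (hdet : J.det ≠ 0)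
    (hn : 5 ≤ Fintype.card ι) (M : Subgroup (Matrix.GeneralLinearGroup ι F))
    (h : ∀ s v : ι → F, bf J s s = 0 → bf J v v = 0 → bf J s v = 0 → InM M (sieg J s v)) :
    Om J ≤ M := by
  classical
  obtain ⟨e⟩ : Nonempty (ι ≃ Fin (Fintype.card ι)) := ⟨Fintype.equivFin ι⟩
  have hQ' := toowg8_nondeg hJ h2 hdet e
  have h1 : Cfsg.Geo.omegaGL (⇑(toowg8_Q J hJ h2 e)) ≤
      M.map (Cfsg.Agent.Lib.Lead.RI.glReindex (F := F) e).toMonoidHom := by
    unfold Cfsg.Geo.omegaGL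
    rw [Cfsg.Agent.S0795.result h2 hn (toowg8_Q J hJ h2 e) hQ', MonoidHom.map_closure,
      Subgroup.closure_le]
    rintro _ ⟨g, ⟨u, v, c, hu, hv, huv, hg⟩, rfl⟩
    obtain ⟨t, ht⟩ := (Cfsg.Agent.Lib.Lead.RI.glReindex (F := F) e).surjective
      (g : Matrix.GeneralLinearGroup (Fin (Fintype.card ι)) F)
    refine ⟨t, ?_, ht⟩
    -- the data in `ι`-coordinates
    have hu' : bf J (u ∘ e) (u ∘ e) = 0 := by
      rw [toowg8_Q_apply] at hu
      have := div_eq_zero_iff.mp hu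
      exact this.resolve_right h2
    have hv' : bf J (v ∘ e) (v ∘ e) = 0 := by
      rw [toowg8_Q_apply] at hv
      have := div_eq_zero_iff.mp hv
      exact this.resolve_right h2
    have huv' : bf J (u ∘ e) (v ∘ e) = 0 := by
      rw [toowg8_polar] at huv
      exact huv
    have hvu' : bf J (v ∘ e) (u ∘ e) = 0 := by rw [bf_symm hJ]; exact huv'
    have hcu : bf J (c • (u ∘ e)) (c • (u ∘ e)) = 0 := by
      rw [bf_smul_left, bf_smul_right, hu', mul_zero, mul_zero]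
    have hvcu : bf J (v ∘ e) (c • (u ∘ e)) = 0 := by rw [bf_smul_right, hvu', mul_zero]
    obtain ⟨t0, ht0M, ht0⟩ := h (v ∘ e) (c • (u ∘ e)) hv' hcu hvcu
    have htt : t0 = t := by
      apply Units.ext
      rw [ht0, Matrix.ext_iff_mulVec]
      intro y
      have hm : Matrix.reindex e e (t : Matrix ι ι F) =
          Cfsg.siegelMatrix (⇑(toowg8_Q J hJ h2 e)) u v c := by
        rw [← Cfsg.Agent.Lib.Lead.RI.glReindex_coe, ← hg]
        exact congrArg (fun z : Matrix.GeneralLinearGroup (Fin (Fintype.card ι)) F =>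
          (z : Matrix (Fin (Fintype.card ι)) (Fin (Fintype.card ι)) F)) ht
      have h3 : (Matrix.reindex e e (t : Matrix ι ι F) *ᵥ (y ∘ e.symm)) ∘ e =
          (Cfsg.siegelMatrix (⇑(toowg8_Q J hJ h2 e)) u v c *ᵥ (y ∘ e.symm)) ∘ e := by rw [hm]
      rw [Cfsg.Agent.Lib.Lead.RI.reindex_mulVec, Cfsg.Agent.Lib.helper6.siegelMatrix_mulVec,
        toowg8_polar, toowg8_polar] at h3
      have e1 : (y ∘ e.symm) ∘ e = y := by funext i; simp
      have e2 : (((t : Matrix ι ι F) *ᵥ y) ∘ e.symm) ∘ e = (t : Matrix ι ι F) *ᵥ y := by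
        funext i; simp
      rw [e1, e2] at h3
      rw [h3, sieg_mulVec, hcu, zero_div, zero_mul, zero_smul, sub_zero, bf_smul_left]
      funext i
      simp only [Function.comp_apply, Pi.add_apply, Pi.sub_apply, Pi.smul_apply, smul_eq_mul,
        Equiv.symm_apply_apply]
      ring
    rw [← htt]
    exact ht0M
  have h4 := Cfsg.Agent.Lib.Helper28.OTrans.map_omegaGL (F := F) e (fun y : ι → F => bf J y y / 2)
  rw [← tr_omegaGL_eq_Om h2 hJ]
  intro g hg
  have h5 : (Cfsg.Agent.Lib.Lead.RI.glReindex (F := F) e) g ∈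
      Cfsg.Geo.omegaGL (⇑(toowg8_Q J hJ h2 e)) := by
    rw [toowg8_Q_coe, ← h4]
    exact Subgroup.mem_map_of_mem _ hg
  obtain ⟨g0, hg0, h6⟩ := h1 h5
  have : g0 = g := (Cfsg.Agent.Lib.Lead.RI.glReindex (F := F) e).injective h6
  rw [← this]
  exact hg0

end bridge

end Cfsg.Agent.Lib.Helper28.TOO
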