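import Cfsg.Agent.Lib.Helper9.TRI.Defs
import Cfsg.Agent.Lib.Helper27.SWA2

/-!
Project TRI, piece 1-EQ4 (helper23).
-/

set_option autoImplicit false

namespace Cfsg.Agent.Lib.Helper9.TRI

open Cfsg.Agent.Lib.Helper19.SW
open scoped commutatorElement

variable {G : Type*} [Group G] {V : Type*} [MulAction G V] {Adj : V → V → Prop} {ty : V → Bool}

/-- TRI-EQ4 : equality of subgroups is transported by `g` (the form in which conjugacy is used). -/
theorem rs_eq_Cs_smul (h : LS3 G Adj) (g : G) {l m : V} (e : rs G Adj l m = Cs G Adj m) :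
    rs G Adj (g • l) (g • m) = Cs G Adj (g • m) := by
  ext x
  have hx : x = g * (g⁻¹ * x * g) * g⁻¹ := by group
  rw [hx, conj_mem_rs h, conj_mem_Cs h, e]

end Cfsg.Agent.Lib.Helper9.TRI
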