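import Mathlib
import Cfsg.Prelude.Def_ChevStructure
import Cfsg.Prelude.Def_LieTwisted
import Cfsg.Agent.Lib.helper14.TWI.D4Defs
import Cfsg.Agent.Lib.Helper12.INVSTDCG

/-! TWI-STDC (helper23): `∏ n_r(1)` is conjugate to `∏ x_r(1)` by `∏ x_{-r}(1)` (explicit conjugator) -/

set_option autoImplicit false
set_option linter.unusedVariables false

namespace Cfsg.Agent.Lib.helper14.TWI

open Cfsg.Lie Cfsg.Lie.ChevalleyDatum Cfsg.Agent.Lib.helper8 Cfsg.Agent.Lib.helper14
  Cfsg.Agent.Lib.helper14.INV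

universe u

variable {K : Type u} [Field K]

/-- generic STDC with the conjugating element made explicit -/
theorem twistdc_gen [CharP K 2] (D : ChevalleyDatum)
    (hD : D ∈ [chevG2, chevB2, chevD4, chevF4, chevE6, chevE7, chevE8]) (hB : H8Base.{u} D)
    (R : List ℕ) (h : stdcChk D R = true) :
    (w1 D hB (R.map D.neg) : GL D.Idx K) * n1 D hB R * (w1 D hB (R.map D.neg) : GL D.Idx K)⁻¹ =
      w1 D hB R := by
  have hC : H8CommAll.{u} D := h8commAll.{u} D hD
  unfold stdcChk at h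
  simp only [Bool.and_eq_true, decide_eq_true_eq, List.all_eq_true, Bool.or_eq_true,
    beq_iff_eq] at h
  obtain ⟨⟨hnd, hlt⟩, hpw⟩ := h
  set y : ℕ → GL D.Idx K := fun r => h8xU D hB (D.negIdx.getD r 0) (1 : K) with hy
  have e0 : (w1 D hB (R.map D.neg) : GL D.Idx K) = (R.map y).prod := by
    unfold w1 h8wordU
    rw [List.map_map, List.map_map]
    rfl
  have e1 : (n1 D hB R : GL D.Idx K) = (R.map fun r => h8nU D hB r (1 : K)).prod := rfl
  have e2 : (w1 D hB R : GL D.Idx K) = (R.map fun r => h8xU D hB r (1 : K)).prod := by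
    unfold w1 h8wordU
    rw [List.map_map]
    rfl
  rw [e0, e1, e2]
  have hcomm : ∀ r ∈ R, ∀ s ∈ R, r ≠ s → ∀ a b : K,
      Commute (h8xU D hB (D.negIdx.getD r 0) a) (h8xU D hB s b) ∧
      Commute (h8xU D hB (D.negIdx.getD r 0) a) (h8xU D hB (D.negIdx.getD s 0) b) := by
    intro r hr s hs hne a b
    rcases hpw r hr s hs with h1 | ⟨h1, h2⟩
    · exact absurd h1 hne
    · exact ⟨invstdn_comm1 D hB hC _ _ h1 a b, invstdn_comm1 D hB hC _ _ h2 a b⟩
  apply invstdc_prod y (fun r => h8nU D hB r (1 : K)) (fun r => h8xU D hB r (1 : K)) R hnd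
  · intro r hr
    exact invstdc_rk1 D hB r (stdc_sl D hD hB r (hlt r hr))
  · intro r hr s hs hne
    show y r * h8nU D hB s (1 : K) = h8nU D hB s (1 : K) * y r
    rw [invstdc_nU' D hB s]
    have k1 : Commute (y r) (h8xU D hB s (1 : K)) := (hcomm r hr s hs hne 1 1).1
    have k2 : Commute (y r) (h8xU D hB (D.negIdx.getD s 0) (-(1 : K)⁻¹)) :=
      (hcomm r hr s hs hne 1 _).2
    exact (k1.mul_right (k2.mul_right k1)).eq
  · intro r hr s hs hne
    exact ((hcomm r hr s hs hne 1 1).1).eq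

set_option maxRecDepth 100000 in
/-- the Boolean check of STDC for the three standard sets of `D₄` -/
theorem twistdc_chk : ∀ k < 3, stdcChk chevD4 (d4Std.getD k []) = true := by
  decide +kernel

/-- STDC : `∏ n_r(1)` is conjugate to `∏ x_r(1)` by `∏ x_{-r}(1)` -/
theorem d4_std_cj [CharP K 2] (hB : H8Base.{u} chevD4) (k : ℕ) (hk : k < 3) :
    (w1 chevD4 hB ((d4Std.getD k []).map chevD4.neg) : GL chevD4.Idx K) *
      n1 chevD4 hB (d4Std.getD k []) *
      (w1 chevD4 hB ((d4Std.getD k []).map chevD4.neg) : GL chevD4.Idx K)⁻¹ =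
      w1 chevD4 hB (d4Std.getD k []) :=
  twistdc_gen chevD4 (by simp) hB _ (twistdc_chk k hk)

end Cfsg.Agent.Lib.helper14.TWI
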