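import Mathlib
set_option autoImplicit false

namespace Cfsg.Agent.Lib.helper23
open Equiv

theorem exists_three_subset (c : Perm (Fin 8)) :
    ∃ T : Finset (Fin 8), T.card = 3 ∧ (T.image c = T ∨ Disjoint (T.image c) T) := by
  classical
  set F : Finset (Fin 8) := Finset.univ.filter (fun x => c x = x) with hF
  set N : Finset (Fin 8) := Finset.univ.filter (fun x => c x ≠ x) with hN
  have hFN : F.card + N.card = 8 := by
    have := Finset.card_filter_add_card_filter_not (s := (Finset.univ : Finset (Fin 8))) (fun x => c x = x)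
    simpa [hF, hN] using this
  have hmemN : ∀ x, x ∈ N ↔ c x ≠ x := fun x => by simp [hN]
  by_cases hF3 : 3 ≤ F.card
  · obtain ⟨T, hTF, hT3⟩ := Finset.exists_subset_card_eq hF3
    refine ⟨T, hT3, Or.inl ?_⟩
    ext y
    simp only [Finset.mem_image]
    constructor
    · rintro ⟨x, hx, rfl⟩
      have : c x = x := by simpa [hF] using hTF hx
      rw [this]; exact hx
    · intro hy
      have : c y = y := by simpa [hF] using hTF hy
      exact ⟨y, hy, this⟩
  have hN6 : 6 ≤ N.card := by omega
  have hinj : ∀ {a b : Fin 8}, c a = c b → a = b := fun h => c.injective h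
  by_cases hb : ∃ x, c x ≠ x ∧ c (c (c x)) = x
  · obtain ⟨x, hx1, hx3⟩ := hb
    have h2 : c (c x) ≠ x := by
      intro h; apply hx1
      have : c (c (c x)) = c x := by rw [h]
      rw [hx3] at this; exact this.symm
    have h12 : c x ≠ c (c x) := fun h => hx1 (hinj h).symm
    refine ⟨{x, c x, c (c x)}, ?_, Or.inl ?_⟩
    · rw [Finset.card_insert_of_notMem, Finset.card_insert_of_notMem, Finset.card_singleton]
      · simpa using h12
      · simp only [Finset.mem_insert, Finset.mem_singleton, not_or]
        exact ⟨fun h => hx1 h.symm, fun h => h2 h.symm⟩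
    · ext y
      simp only [Finset.image_insert, Finset.image_singleton, hx3, Finset.mem_insert, Finset.mem_singleton]
      tauto
  push Not at hb
  by_cases hc : ∃ x, c (c x) ≠ x
  · obtain ⟨x, hx2⟩ := hc
    have hx1 : c x ≠ x := by
      intro h; apply hx2; rw [h, h]
    have hx3 : c (c (c x)) ≠ x := hb x hx1
    set Fb : Finset (Fin 8) := {x, c x, c (c x), c (c (c x)), c⁻¹ x} with hFb
    have hFb5 : Fb.card ≤ 5 := by
      rw [hFb]
      exact (Finset.card_le_card (by intro a ha; exact ha)).trans (Finset.card_le_five)
    obtain ⟨z, hzN, hzFb⟩ := Finset.exists_mem_notMem_of_card_lt_card (lt_of_le_of_lt hFb5 (by omega : 5 < N.card))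
    simp only [hFb, Finset.mem_insert, Finset.mem_singleton, not_or] at hzFb
    obtain ⟨hz0, hz1, hz2, hz3, hz4⟩ := hzFb
    have hzN' : c z ≠ z := (hmemN z).mp hzN
    refine ⟨{x, c (c x), z}, ?_, Or.inr ?_⟩
    · rw [Finset.card_insert_of_notMem, Finset.card_insert_of_notMem, Finset.card_singleton]
      · simpa using fun h => hz2 h.symm
      · simp only [Finset.mem_insert, Finset.mem_singleton, not_or]
        exact ⟨fun h => hx2 h.symm, fun h => hz0 h.symm⟩
    · rw [Finset.disjoint_left]
      intro y hy hy'
      simp only [Finset.image_insert, Finset.image_singleton, Finset.mem_insert, Finset.mem_singleton] at hy hy'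
      have hz4' : c z ≠ x := by
        intro h; apply hz4
        rw [← h]; simp
      rcases hy with rfl | rfl | rfl
      · rcases hy' with h | h | h
        · exact hx1 h
        · exact hx1 (hinj h).symm
        · exact hz1 h.symm
      · rcases hy' with h | h | h
        · exact hx3 h
        · exact hx1 (hinj (hinj h))
        · exact hz3 h.symm
      · rcases hy' with h | h | h
        · exact hz4' h
        · exact hz1 (hinj h)
        · exact hzN' h
  push Not at hc
  -- involution case
  have hNne : N.Nonempty := Finset.card_pos.mp (by omega)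
  obtain ⟨x1, hx1N⟩ := hNne
  have hx1 : c x1 ≠ x1 := (hmemN x1).mp hx1N
  obtain ⟨x2, hx2N, hx2P⟩ := Finset.exists_mem_notMem_of_card_lt_card
    (s := ({x1, c x1} : Finset (Fin 8))) (t := N)
    (lt_of_le_of_lt Finset.card_le_two (by omega))
  have hx2 : c x2 ≠ x2 := (hmemN x2).mp hx2N
  obtain ⟨x3, hx3N, hx3P⟩ := Finset.exists_mem_notMem_of_card_lt_card
    (s := ({x1, c x1, x2, c x2} : Finset (Fin 8))) (t := N)
    (lt_of_le_of_lt Finset.card_le_four (by omega))
  have hx3 : c x3 ≠ x3 := (hmemN x3).mp hx3N
  simp only [Finset.mem_insert, Finset.mem_singleton, not_or] at hx2P hx3P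
  obtain ⟨h21, h21'⟩ := hx2P
  obtain ⟨h31, h31', h32, h32'⟩ := hx3P
  refine ⟨{x1, x2, x3}, ?_, Or.inr ?_⟩
  · rw [Finset.card_insert_of_notMem, Finset.card_insert_of_notMem, Finset.card_singleton]
    · simpa using fun h => h32 h.symm
    · simp only [Finset.mem_insert, Finset.mem_singleton, not_or]
      exact ⟨fun h => h21 h.symm, fun h => h31 h.symm⟩
  · rw [Finset.disjoint_left]
    intro y hy hy'
    simp only [Finset.image_insert, Finset.image_singleton, Finset.mem_insert, Finset.mem_singleton] at hy hy'
    rcases hy with rfl | rfl | rfl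
    · rcases hy' with h | h | h
      · exact hx1 h
      · exact h21' h.symm
      · exact h31' h.symm
    · rcases hy' with h | h | h
      · apply h21'
        have := congrArg c h
        rw [hc] at this; exact this
      · exact hx2 h
      · exact h32' h.symm
    · rcases hy' with h | h | h
      · apply h31'
        have := congrArg c h
        rw [hc] at this; exact this
      · apply h32'
        have := congrArg c h
        rw [hc] at this; exact this
      · exact hx3 h


theorem threeCycle_mem_zpowers_of_support_eq {α : Type*} [Fintype α] [DecidableEq α]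
    {σ σ' : Perm α} (h : σ.IsThreeCycle) (h' : σ'.IsThreeCycle) (hs : σ'.support = σ.support) :
    σ' ∈ Subgroup.zpowers σ := by
  obtain ⟨a, ha⟩ : ∃ a, a ∈ σ.support := by
    have : σ.support.Nonempty := by
      rw [← Finset.card_pos, h.card_support]; norm_num
    exact this
  have ha' : a ∈ σ'.support := hs ▸ ha
  have e1 := h.support_eq_iff_mem_support.mpr ha
  have e2 := h'.support_eq_iff_mem_support.mpr ha'
  have n1 := h.nodup_iff_mem_support.mpr ha
  have n2 := h'.nodup_iff_mem_support.mpr ha'
  have f1 := h.eq_swap_mul_swap_iff_mem_support.mpr ha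
  have f2 := h'.eq_swap_mul_swap_iff_mem_support.mpr ha'
  simp only [List.nodup_cons, List.mem_cons, List.not_mem_nil, or_false, not_or, List.nodup_nil,
    and_true] at n1 n2
  -- σ' a ∈ {a, σ a, σ σ a}
  have m1 : σ' a ∈ σ.support := by rw [← hs, Perm.apply_mem_support]; exact ha'
  have m2 : σ' (σ' a) ∈ σ.support := by rw [← hs, Perm.apply_mem_support, Perm.apply_mem_support]; exact ha'
  rw [e1] at m1 m2
  simp only [Finset.mem_insert, Finset.mem_singleton] at m1 m2
  rcases m1 with m1 | m1 | m1
  · exact absurd m1.symm n2.1.1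
  · -- σ' a = σ a
    rcases m2 with m2 | m2 | m2
    · exact absurd m2.symm n2.1.2
    · exfalso; rw [← m1] at m2; exact n2.2.1 m2.symm
    · have : σ' = σ := by
        calc σ' = swap a (σ' a) * swap (σ' a) (σ' (σ' a)) := f2
          _ = swap a (σ a) * swap (σ a) (σ (σ a)) := by rw [m2, m1]
          _ = σ := f1.symm
      rw [this]; exact Subgroup.mem_zpowers σ
  · -- σ' a = σ σ a
    rcases m2 with m2 | m2 | m2
    · exact absurd m2.symm n2.1.2
    · have hsq : (σ * σ).IsThreeCycle := h.isThreeCycle_sq
      have hasq : a ∈ (σ * σ).support := by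
        rw [Perm.mem_support, Perm.mul_apply]; exact fun hh => n1.1.2 hh.symm
      have f3 := hsq.eq_swap_mul_swap_iff_mem_support.mpr hasq
      have h3 : σ (σ (σ a)) = a := by
        have : (σ ^ 3) a = a := by rw [← h.orderOf, pow_orderOf_eq_one]; rfl
        simpa [pow_succ] using this
      have : σ' = σ * σ := by
        calc σ' = swap a (σ' a) * swap (σ' a) (σ' (σ' a)) := f2
          _ = swap a (σ (σ a)) * swap (σ (σ a)) (σ a) := by rw [m2, m1]
          _ = swap a ((σ * σ) a) * swap ((σ * σ) a) ((σ * σ) ((σ * σ) a)) := by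
              simp only [Perm.mul_apply, h3]
          _ = σ * σ := f3.symm
      rw [this, ← pow_two]
      exact Subgroup.pow_mem _ (Subgroup.mem_zpowers σ) 2
    · exfalso; rw [← m1] at m2; exact n2.2.1 m2.symm

end Cfsg.Agent.Lib.helper23
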