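import Cfsg.Agent.Lib.helper23.TitsData

set_option autoImplicit false
set_option maxRecDepth 1000000

namespace Cfsg.Agent.Lib.helper23

theorem ticl1x1c2070 : pgChkGenW 4060 rubase tiL1 [tiL2, tiL3]
    (rugen tiT1x1 tiI1x1) 2070 230 = true := by decide +kernel

theorem ticl1x1c2300 : pgChkGenW 4060 rubase tiL1 [tiL2, tiL3]
    (rugen tiT1x1 tiI1x1) 2300 230 = true := by decide +kernel

theorem ticl1x1c2530 : pgChkGenW 4060 rubase tiL1 [tiL2, tiL3]
    (rugen tiT1x1 tiI1x1) 2530 230 = true := by decide +kernel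

theorem ticl1x1c2760 : pgChkGenW 4060 rubase tiL1 [tiL2, tiL3]
    (rugen tiT1x1 tiI1x1) 2760 230 = true := by decide +kernel

theorem ticl1x1c2990 : pgChkGenW 4060 rubase tiL1 [tiL2, tiL3]
    (rugen tiT1x1 tiI1x1) 2990 230 = true := by decide +kernel

theorem ticl1x1c3220 : pgChkGenW 4060 rubase tiL1 [tiL2, tiL3]
    (rugen tiT1x1 tiI1x1) 3220 230 = true := by decide +kernel

theorem ticl1x1c3450 : pgChkGenW 4060 rubase tiL1 [tiL2, tiL3]
    (rugen tiT1x1 tiI1x1) 3450 230 = true := by decide +kernel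

theorem ticl1x1c3680 : pgChkGenW 4060 rubase tiL1 [tiL2, tiL3]
    (rugen tiT1x1 tiI1x1) 3680 230 = true := by decide +kernel

theorem ticl1x1c3910 : pgChkGenW 4060 rubase tiL1 [tiL2, tiL3]
    (rugen tiT1x1 tiI1x1) 3910 150 = true := by decide +kernel


end Cfsg.Agent.Lib.helper23
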