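import Cfsg.Agent.Lib.helper23.TiChk1x1p0
import Cfsg.Agent.Lib.helper23.TiChk1x1p1

set_option autoImplicit false
set_option maxRecDepth 1000000

namespace Cfsg.Agent.Lib.helper23

theorem ticl1x1 : pgChkGenW 4060 rubase tiL1 [tiL2, tiL3]
    (rugen tiT1x1 tiI1x1) 0 4060 = true :=
  pgChkGenW_append (lo := 0) (c1 := 3910) (c2 := 150) (pgChkGenW_append (lo := 0) (c1 := 3680) (c2 := 230) (pgChkGenW_append (lo := 0) (c1 := 3450) (c2 := 230) (pgChkGenW_append (lo := 0) (c1 := 3220) (c2 := 230) (pgChkGenW_append (lo := 0) (c1 := 2990) (c2 := 230) (pgChkGenW_append (lo := 0) (c1 := 2760) (c2 := 230) (pgChkGenW_append (lo := 0) (c1 := 2530) (c2 := 230) (pgChkGenW_append (lo := 0) (c1 := 2300) (c2 := 230) (pgChkGenW_append (lo := 0) (c1 := 2070) (c2 := 230) (pgChkGenW_append (lo := 0) (c1 := 1840) (c2 := 230) (pgChkGenW_append (lo := 0) (c1 := 1610) (c2 := 230) (pgChkGenW_append (lo := 0) (c1 := 1380) (c2 := 230) (pgChkGenW_append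 (lo := 0) (c1 := 1150) (c2 := 230) (pgChkGenW_append (lo := 0) (c1 := 920) (c2 := 230) (pgChkGenW_append (lo := 0) (c1 := 690) (c2 := 230) (pgChkGenW_append (lo := 0) (c1 := 460) (c2 := 230) (pgChkGenW_append (lo := 0) (c1 := 230) (c2 := 230) (ticl1x1c0) ticl1x1c230) ticl1x1c460) ticl1x1c690) ticl1x1c920) ticl1x1c1150) ticl1x1c1380) ticl1x1c1610) ticl1x1c1840) ticl1x1c2070) ticl1x1c2300) ticl1x1c2530) ticl1x1c2760) ticl1x1c2990) ticl1x1c3220) ticl1x1c3450) ticl1x1c3680) ticl1x1c3910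

end Cfsg.Agent.Lib.helper23
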