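import Cfsg.Agent.Lib.helper23.TitsData

set_option autoImplicit false
set_option maxRecDepth 1000000

namespace Cfsg.Agent.Lib.helper23

theorem ticl1x1c0 : pgChkGenW 4060 rubase tiL1 [tiL2, tiL3]
    (rugen tiT1x1 tiI1x1) 0 230 = true := by decide +kernel

theorem ticl1x1c230 : pgChkGenW 4060 rubase tiL1 [tiL2, tiL3]
    (rugen tiT1x1 tiI1x1) 230 230 = true := by decide +kernel

theorem ticl1x1c460 : pgChkGenW 4060 rubase tiL1 [tiL2, tiL3]
    (rugen tiT1x1 tiI1x1) 460 230 = true := by decide +kernel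

theorem ticl1x1c690 : pgChkGenW 4060 rubase tiL1 [tiL2, tiL3]
    (rugen tiT1x1 tiI1x1) 690 230 = true := by decide +kernel

theorem ticl1x1c920 : pgChkGenW 4060 rubase tiL1 [tiL2, tiL3]
    (rugen tiT1x1 tiI1x1) 920 230 = true := by decide +kernel

theorem ticl1x1c1150 : pgChkGenW 4060 rubase tiL1 [tiL2, tiL3]
    (rugen tiT1x1 tiI1x1) 1150 230 = true := by decide +kernel

theorem ticl1x1c1380 : pgChkGenW 4060 rubase tiL1 [tiL2, tiL3]
    (rugen tiT1x1 tiI1x1) 1380 230 = true := by decide +kernel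

theorem ticl1x1c1610 : pgChkGenW 4060 rubase tiL1 [tiL2, tiL3]
    (rugen tiT1x1 tiI1x1) 1610 230 = true := by decide +kernel

theorem ticl1x1c1840 : pgChkGenW 4060 rubase tiL1 [tiL2, tiL3]
    (rugen tiT1x1 tiI1x1) 1840 230 = true := by decide +kernel


end Cfsg.Agent.Lib.helper23
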