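import Cfsg.Agent.Lib.helper23.TiChk2x0p0

set_option autoImplicit false
set_option maxRecDepth 1000000

namespace Cfsg.Agent.Lib.helper23

theorem ticl2x0 : pgChkGenW 4060 rubase tiL2 [tiL3]
    (rugen tiT2x0 tiI2x0) 0 4060 = true :=
  pgChkGenW_append (lo := 0) (c1 := 4000) (c2 := 60) (pgChkGenW_append (lo := 0) (c1 := 3600) (c2 := 400) (pgChkGenW_append (lo := 0) (c1 := 3200) (c2 := 400) (pgChkGenW_append (lo := 0) (c1 := 2800) (c2 := 400) (pgChkGenW_append (lo := 0) (c1 := 2400) (c2 := 400) (pgChkGenW_append (lo := 0) (c1 := 2000) (c2 := 400) (pgChkGenW_append (lo := 0) (c1 := 1600) (c2 := 400) (pgChkGenW_append (lo := 0) (c1 := 1200) (c2 := 400) (pgChkGenW_append (lo := 0) (c1 := 800) (c2 := 400) (pgChkGenW_append (lo := 0) (c1 := 400) (c2 := 400) (ticl2x0c0) ticl2x0c400) ticl2x0c800) ticl2x0c1200) ticl2x0c1600) ticl2x0c2000) ticl2x0c2400) ticl2x0c2800) ticl2x0c3200) ticl2x0c3600) ticl2x0c4000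

end Cfsg.Agent.Lib.helper23
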