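import Cfsg.Agent.Lib.helper23.TitsData

set_option autoImplicit false
set_option maxRecDepth 1000000

namespace Cfsg.Agent.Lib.helper23

theorem ticl2x0c0 : pgChkGenW 4060 rubase tiL2 [tiL3]
    (rugen tiT2x0 tiI2x0) 0 400 = true := by decide +kernel

theorem ticl2x0c400 : pgChkGenW 4060 rubase tiL2 [tiL3]
    (rugen tiT2x0 tiI2x0) 400 400 = true := by decide +kernel

theorem ticl2x0c800 : pgChkGenW 4060 rubase tiL2 [tiL3]
    (rugen tiT2x0 tiI2x0) 800 400 = true := by decide +kernel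

theorem ticl2x0c1200 : pgChkGenW 4060 rubase tiL2 [tiL3]
    (rugen tiT2x0 tiI2x0) 1200 400 = true := by decide +kernel

theorem ticl2x0c1600 : pgChkGenW 4060 rubase tiL2 [tiL3]
    (rugen tiT2x0 tiI2x0) 1600 400 = true := by decide +kernel

theorem ticl2x0c2000 : pgChkGenW 4060 rubase tiL2 [tiL3]
    (rugen tiT2x0 tiI2x0) 2000 400 = true := by decide +kernel

theorem ticl2x0c2400 : pgChkGenW 4060 rubase tiL2 [tiL3]
    (rugen tiT2x0 tiI2x0) 2400 400 = true := by decide +kernel

theorem ticl2x0c2800 : pgChkGenW 4060 rubase tiL2 [tiL3]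
    (rugen tiT2x0 tiI2x0) 2800 400 = true := by decide +kernel

theorem ticl2x0c3200 : pgChkGenW 4060 rubase tiL2 [tiL3]
    (rugen tiT2x0 tiI2x0) 3200 400 = true := by decide +kernel

theorem ticl2x0c3600 : pgChkGenW 4060 rubase tiL2 [tiL3]
    (rugen tiT2x0 tiI2x0) 3600 400 = true := by decide +kernel

theorem ticl2x0c4000 : pgChkGenW 4060 rubase tiL2 [tiL3]
    (rugen tiT2x0 tiI2x0) 4000 60 = true := by decide +kernel


end Cfsg.Agent.Lib.helper23
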