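import Cfsg.Agent.Lib.helper23.TitsData

set_option autoImplicit false
set_option maxRecDepth 1000000

namespace Cfsg.Agent.Lib.helper23

theorem tichk0x1 : pgChkLvlW0 4060 tiL1 [tiL2, tiL3] = true := by decide +kernel

theorem tichk0x2 : pgChkLvlW0 4060 tiL2 [tiL3] = true := by decide +kernel

theorem tichk0x3 : pgChkLvlW0 4060 tiL3 [] = true := by decide +kernel


end Cfsg.Agent.Lib.helper23
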