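import Cfsg.Agent.Lib.helper23.RuMain
import Cfsg.Agent.Lib.helper23.TiChkB
import Cfsg.Agent.Lib.helper23.TiChk1x0
import Cfsg.Agent.Lib.helper23.TiChk1x1
import Cfsg.Agent.Lib.helper23.TiChk2x0
import Cfsg.Agent.Lib.helper23.TiChk2x1

set_option autoImplicit false
set_option maxRecDepth 1000000

/-!
# The Tits group inside the point stabiliser of the Rudvalis group
-/

namespace Cfsg.Agent.Lib.helper23

open Subgroup MulAction

/-- the stabiliser chain of the Tits group -/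
def tiC : List PgLvlW := [tiL1, tiL2, tiL3]

theorem tichkL3 : pgChkLvlW 4060 rubase tiL3 [] = true :=
  pgChkLvlW_of2 rfl tichk0x3 ticl3x0 ticl3x1

theorem tichkL2 : pgChkLvlW 4060 rubase tiL2 [tiL3] = true :=
  pgChkLvlW_of2 rfl tichk0x2 ticl2x0 ticl2x1

theorem tichkL1 : pgChkLvlW 4060 rubase tiL1 [tiL2, tiL3] = true :=
  pgChkLvlW_of2 rfl tichk0x1 ticl1x0 ticl1x1

theorem tichkC : pgChkW 4060 ruR.base tiC = true := by
  change pgChkW 4060 rubase [tiL1, tiL2, tiL3] = true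
  rw [pgChkW_cons, pgChkW_cons, pgChkW_cons, tichkL1, tichkL2, tichkL3]
  rfl

theorem tiok : ∀ P ∈ pgOwnW tiC, P.ok 4060 = true := pgChkW_own_ok 4060 ruR.base tiC tichkC

theorem ruchkC2 : pgChkW 4060 ruR.base ruC2 = true := pgChkW_tail ruchkC

theorem ruok2 : ∀ P ∈ ruL2.own, P.ok 4060 = true := pgChkW_own_ok 4060 ruR.base ruC2 ruchkC2

theorem tiSub : pgAll (pgOwnW tiC).length (fun j => pgAll 4060 (fun p =>
    Nat.beq (((pgOwnW tiC).getD j PFun.one).f p) (pgEvalW ruL2.own (tiW.getD j []) p))) = true := by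
  decide +kernel

theorem tiLe2 : pgGrpW 4060 tiC ≤ pgGrpW 4060 ruC2 :=
  pgGrpW_le_of_words tiok ruok2 tiSub

theorem ruMono2 : pgGrpW 4060 ruC2 ≤ pgGrpW 4060 ruC := by
  obtain ⟨_, -, -, -, hmono⟩ := pgLvlW_main ruR ruchkC ruA
  exact hmono

theorem tiLe : pgGrpW 4060 tiC ≤ pgGrpW 4060 ruC := le_trans tiLe2 ruMono2

theorem tiA : pgGrpW 4060 tiC ≤ ruR.A := le_trans tiLe ruA

theorem tifix : ∀ g ∈ pgGrpW 4060 tiC, g (0 : Fin 4060) = 0 := by
  intro g hg
  have h1 : g ∈ pgGrpW 4060 [ruL2, ruL3, ruL4, ruL5] := tiLe2 hg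
  rw [← pgStabW ruR (L := ruL1) (C := [ruL2, ruL3, ruL4, ruL5]) ruchkC ruA rub1] at h1
  obtain ⟨g', hg', rfl⟩ := h1
  exact mem_stabilizer_iff.1 hg'

theorem tiord : pgOrdW 4060 tiC = 17971200 := by decide +kernel

theorem tiord2 : pgOrdW 4060 [tiL2, tiL3] = 10240 := by decide +kernel

theorem ticard : Nat.card (pgGrpW 4060 tiC) = 17971200 := by
  rw [pgCardW ruR tiC tichkC tiA, tiord]

theorem tib1 : tiL1.b < 4060 := by decide

theorem ticlsChk : pgChkCls 4060 tiL1.b tiL1.inO tiL2.own tiK = true := by decide +kernel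

theorem ticnt1 : pgCount 4060 tiL1.inO = 1755 := by decide +kernel

theorem tiarith : ∀ I : Finset (Fin 5), (⟨0, by decide⟩ : Fin 5) ∈ I →
    (∀ i ∈ I, ([1, 10, 80, 640, 1024] : List ℕ).getD i.1 0 ≠ 0) →
    (∑ i ∈ I, ([1, 10, 80, 640, 1024] : List ℕ).getD i.1 0) ∣ 1755 →
    I = {(⟨0, by decide⟩ : Fin 5)} ∨
      ∀ i : Fin 5, ([1, 10, 80, 640, 1024] : List ℕ).getD i.1 0 ≠ 0 → i ∈ I := by
  decide

theorem ticoatom : IsCoatom (stabilizer (pgGrpW 4060 tiC) (⟨tiL1.b, tib1⟩ : Fin 4060)) := by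
  refine pgCoatomW ruR (L := tiL1) (L2 := tiL2) (D := [tiL3]) tichkC tiA tib1 tiK
    (by decide) ticlsChk ⟨⟨tiL2.b, by decide⟩, by decide +kernel, by decide⟩ ?_
  change ∀ I : Finset (Fin 5), _ → _ → _ ∣ pgCount 4060 tiL1.inO → _
  rw [ticnt1]
  exact tiarith

theorem tipow : pgAll tiL1.own.length (fun j => pgAll 4060
    (fun p => Nat.beq (pgEvalW tiL1.own (pgPowW [j] 13) p) p)) = true := by decide +kernel

theorem tisimple : IsSimpleGroup (pgGrpW 4060 tiC) := by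
  refine pgSimpleW ruR (L := tiL1) (C := [tiL2, tiL3]) tichkC tiA tib1 ticoatom ?_ 13 ?_ tipow ?_
  · intro L' hL'
    change L' ∈ [tiL1, tiL2, tiL3] at hL'
    simp only [List.mem_cons, List.not_mem_nil, or_false] at hL'
    rcases hL' with rfl | rfl | rfl <;> decide +kernel
  · rw [tiord2]
    decide
  · exact ⟨rugen tiT1x0 tiI1x0, List.mem_cons_self, 5, by decide, by decide +kernel⟩

/-- the Tits group inside the point stabiliser -/
theorem ti_in_stab : ∃ T : Subgroup (stabilizer (pgGrpW 4060 ruC) (0 : Fin 4060)),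
    IsSimpleGroup T ∧ Nat.card T = 17971200 :=
  pg_transfer (pgGrpW 4060 ruC) (pgGrpW 4060 tiC) (0 : Fin 4060) tiLe tifix 17971200 tisimple ticard

end Cfsg.Agent.Lib.helper23
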