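import Mathlib

set_option autoImplicit false

namespace Cfsg.Agent.Lib.helper23

open MulAction

section twistA

variable {G : Type*} [Group G] {Ω : Type*} [MulAction G Ω]

/-- a copy of `Ω × Ω` remembering a twisting automorphism -/
structure TwP (β : MulAut G) (Ω : Type*) where
  fst : Ω
  snd : Ω

theorem TwP.ext' {β : MulAut G} {p q : TwP β Ω} (h1 : p.fst = q.fst) (h2 : p.snd = q.snd) : p = q := by
  cases p; cases q; simp_all

instance twpMulAction (β : MulAut G) : MulAction G (TwP β Ω) where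
  smul g p := ⟨β g • p.fst, g • p.snd⟩
  one_smul p := by
    apply TwP.ext'
    · show β 1 • p.fst = p.fst
      rw [map_one, one_smul]
    · show (1 : G) • p.snd = p.snd
      rw [one_smul]
  mul_smul g h p := by
    apply TwP.ext'
    · show β (g * h) • p.fst = β g • (β h • p.fst)
      rw [map_mul, mul_smul]
    · show (g * h) • p.snd = g • (h • p.snd)
      rw [mul_smul]

theorem twp_smul_fst (β : MulAut G) (g : G) (p : TwP β Ω) : (g • p).fst = β g • p.fst := rfl

theorem twp_smul_snd (β : MulAut G) (g : G) (p : TwP β Ω) : (g • p).snd = g • p.snd := rfl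

/-- equivalence of `TwP β Ω` with the product -/
def twpEquiv (β : MulAut G) (Ω : Type*) : TwP β Ω ≃ Ω × Ω where
  toFun p := (p.fst, p.snd)
  invFun q := ⟨q.1, q.2⟩
  left_inv p := by cases p; rfl
  right_inv q := by cases q; rfl

noncomputable instance twpFintype (β : MulAut G) [Fintype Ω] : Fintype (TwP β Ω) :=
  Fintype.ofEquiv _ (twpEquiv β Ω).symm

/-- the number of fixed points of `g` -/
noncomputable def fixCount [Fintype Ω] [DecidableEq Ω] (g : G) : ℕ :=
  (Finset.univ.filter (fun x : Ω => g • x = x)).card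

theorem card_fixedBy_twp [Fintype Ω] [DecidableEq Ω] (β : MulAut G) (g : G)
    [Fintype (fixedBy (TwP β Ω) g)] :
    Fintype.card (fixedBy (TwP β Ω) g) = fixCount (Ω := Ω) (β g) * fixCount (Ω := Ω) g := by
  classical
  unfold fixCount
  rw [← Finset.card_product, ← Fintype.card_coe]
  refine Fintype.card_congr
    { toFun := fun p => ⟨(p.1.fst, p.1.snd), ?_⟩
      invFun := fun q => ⟨⟨q.1.1, q.1.2⟩, ?_⟩
      left_inv := ?_
      right_inv := ?_ }
  · have hp := p.2
    rw [mem_fixedBy] at hp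
    have h1 : β g • p.1.fst = p.1.fst := by
      have := congrArg TwP.fst hp
      rwa [twp_smul_fst] at this
    have h2 : g • p.1.snd = p.1.snd := by
      have := congrArg TwP.snd hp
      rwa [twp_smul_snd] at this
    simp only [Finset.mem_product, Finset.mem_filter, Finset.mem_univ, true_and]
    exact ⟨h1, h2⟩
  · have hq := q.2
    simp only [Finset.mem_product, Finset.mem_filter, Finset.mem_univ, true_and] at hq
    rw [mem_fixedBy]
    apply TwP.ext'
    · rw [twp_smul_fst]; exact hq.1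
    · rw [twp_smul_snd]; exact hq.2
  · intro p
    apply Subtype.ext
    rfl
  · intro q
    apply Subtype.ext
    rfl

/-- Burnside count for the twisted action -/
theorem twp_burnside [Fintype Ω] [DecidableEq Ω] [Fintype G] (β : MulAut G)
    [Fintype (orbitRel.Quotient G (TwP β Ω))] :
    ∑ g : G, fixCount (Ω := Ω) (β g) * fixCount (Ω := Ω) g
      = Fintype.card (orbitRel.Quotient G (TwP β Ω)) * Fintype.card G := by
  classical
  rw [← sum_card_fixedBy_eq_card_orbits_mul_card_group G (TwP β Ω)]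
  refine Finset.sum_congr rfl (fun g _ => ?_)
  rw [card_fixedBy_twp]

/-- two-transitivity in elementary form -/
def TwoTrans (G Ω : Type*) [Group G] [MulAction G Ω] : Prop :=
  ∀ x y x' y' : Ω, x ≠ y → x' ≠ y' → ∃ g : G, g • x = x' ∧ g • y = y'

theorem TwoTrans.exists_ne (hn : ∃ a b : Ω, a ≠ b) (x : Ω) : ∃ x' : Ω, x ≠ x' := by
  obtain ⟨a, b, hab⟩ := hn
  by_cases hxa : x = a
  · exact ⟨b, by rw [hxa]; exact hab⟩
  · exact ⟨a, hxa⟩

theorem TwoTrans.trans (h : TwoTrans G Ω) (hn : ∃ a b : Ω, a ≠ b) (x y : Ω) :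
    ∃ g : G, g • x = y := by
  obtain ⟨x', hx'⟩ := TwoTrans.exists_ne hn x
  obtain ⟨y', hy'⟩ := TwoTrans.exists_ne hn y
  obtain ⟨g, hg, -⟩ := h x x' y y' hx' hy'
  exact ⟨g, hg⟩

theorem twp_orbits_one_le_two [Fintype Ω] [DecidableEq Ω] (h : TwoTrans G Ω)
    (hn : ∃ a b : Ω, a ≠ b) [Fintype (orbitRel.Quotient G (TwP (1 : MulAut G) Ω))] :
    Fintype.card (orbitRel.Quotient G (TwP (1 : MulAut G) Ω)) ≤ 2 := by
  classical
  obtain ⟨o, o', hoo'⟩ := hn
  let f : Bool → orbitRel.Quotient G (TwP (1 : MulAut G) Ω) :=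
    fun b => Quotient.mk'' (if b then (⟨o, o⟩ : TwP (1 : MulAut G) Ω) else ⟨o, o'⟩)
  have hf : Function.Surjective f := by
    intro q
    induction q using Quotient.inductionOn' with
    | h p =>
      by_cases hp : p.fst = p.snd
      · refine ⟨true, ?_⟩
        obtain ⟨g, hg⟩ := h.trans ⟨o, o', hoo'⟩ o p.fst
        show Quotient.mk'' (⟨o, o⟩ : TwP (1 : MulAut G) Ω) = Quotient.mk'' p
        symm
        rw [Quotient.eq'', orbitRel_apply]
        refine ⟨g, ?_⟩
        apply TwP.ext'
        · show (1 : MulAut G) g • o = p.fst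
          rw [MulAut.one_apply, hg]
        · show g • o = p.snd
          rw [hg, hp]
      · refine ⟨false, ?_⟩
        obtain ⟨g, hg1, hg2⟩ := h o o' p.fst p.snd hoo' hp
        show Quotient.mk'' (⟨o, o'⟩ : TwP (1 : MulAut G) Ω) = Quotient.mk'' p
        symm
        rw [Quotient.eq'', orbitRel_apply]
        refine ⟨g, ?_⟩
        apply TwP.ext'
        · show (1 : MulAut G) g • o = p.fst
          rw [MulAut.one_apply, hg1]
        · show g • o' = p.snd
          rw [hg2]
  have := Fintype.card_le_of_surjective f hf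
  simpa using this

theorem twp_orbits_le_two [Fintype Ω] [DecidableEq Ω] [Fintype G] (h : TwoTrans G Ω)
    (hn : ∃ a b : Ω, a ≠ b) (β : MulAut G) [Fintype (orbitRel.Quotient G (TwP β Ω))] :
    Fintype.card (orbitRel.Quotient G (TwP β Ω)) ≤ 2 := by
  classical
  haveI : Fintype (orbitRel.Quotient G (TwP (1 : MulAut G) Ω)) := Fintype.ofFinite _
  have h1 := twp_burnside (Ω := Ω) (1 : MulAut G)
  have h2 := twp_burnside (Ω := Ω) β
  have h3 := twp_orbits_one_le_two h hn
  simp only [MulAut.one_apply] at h1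
  have h4 : ∑ g : G, fixCount (Ω := Ω) (β g) * fixCount (Ω := Ω) (β g)
      = ∑ g : G, fixCount (Ω := Ω) g * fixCount (Ω := Ω) g :=
    Equiv.sum_comp β.toEquiv (fun g => fixCount (Ω := Ω) g * fixCount (Ω := Ω) g)
  have h5 : 2 * ∑ g : G, fixCount (Ω := Ω) (β g) * fixCount (Ω := Ω) g
      ≤ 2 * ∑ g : G, fixCount (Ω := Ω) g * fixCount (Ω := Ω) g := by
    have : 2 * ∑ g : G, fixCount (Ω := Ω) (β g) * fixCount (Ω := Ω) g
        ≤ ∑ g : G, fixCount (Ω := Ω) (β g) * fixCount (Ω := Ω) (β g)
          + ∑ g : G, fixCount (Ω := Ω) g * fixCount (Ω := Ω) g := by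
      rw [Finset.mul_sum, ← Finset.sum_add_distrib]
      refine Finset.sum_le_sum (fun g _ => ?_)
      have := two_mul_le_add_sq (fixCount (Ω := Ω) (β g)) (fixCount (Ω := Ω) g)
      nlinarith
    rw [h4] at this
    linarith
  have h6 : ∑ g : G, fixCount (Ω := Ω) (β g) * fixCount (Ω := Ω) g
      ≤ ∑ g : G, fixCount (Ω := Ω) g * fixCount (Ω := Ω) g := by linarith
  rw [h1, h2] at h6
  have hG : 0 < Fintype.card G := Fintype.card_pos
  have h7 := Nat.le_of_mul_le_mul_right h6 hG
  exact h7.trans h3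

end twistA

end Cfsg.Agent.Lib.helper23
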