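import Mathlib

set_option autoImplicit false

namespace Cfsg.Agent.Lib.helper23

theorem tw_pos_of_mul_pos {a b : ℤ} (h : 0 < a * b) (hb : 0 < b) : 0 < a := by
  by_contra hcon
  have : a ≤ 0 := not_lt.mp hcon
  nlinarith

theorem tw_sq_le_self {a : ℤ} (h : a * a ≤ a) (h1 : 1 ≤ a) : a = 1 := by
  by_contra hne
  have h2 : 2 ≤ a := by omega
  nlinarith

/-- the arithmetic at the heart of the symmetric design argument -/
theorem tw_design_arith (n k K c d lam L : ℤ) (hn : 2 ≤ n) (hk1 : 1 ≤ k) (hk2 : k ≤ n - 1)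
    (hK1 : 1 ≤ K) (hK2 : K ≤ n - 1) (hKcop : IsCoprime K n)
    (hlam : k * k = k + (n - 1) * lam) (hL : K * K = K + (n - 1) * L)
    (ha : c * k + d * (n - k) = K * K)
    (hb : c ^ 2 * k + d ^ 2 * (n - k) = K * K + L * (K * K - K)) : k = 1 ∨ k = n - 1 := by
  have hn1 : n - 1 ≠ 0 := by omega
  have hn1pos : 0 < n - 1 := by omega
  have hv1 : (k - lam) * (n - 1) = k * (n - k) := by linear_combination hlam
  have hu1 : (K - L) * (n - 1) = K * (n - K) := by linear_combination hL
  have hd : (n - 1) * (k * (n - k)) * (c - d) ^ 2 = K ^ 2 * (n - K) ^ 2 := by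
    linear_combination (n - 1) * n * hb - (n - 1) * (c * k + d * (n - k) + K * K) * ha
      - n * (K * K - K) * hL
  have h2 : K * K = (c - d) * k + d * n := by linear_combination (-1 : ℤ) * ha
  obtain ⟨δ, hδ⟩ : ∃ δ : ℤ, δ = c - d := ⟨_, rfl⟩
  obtain ⟨v, hv⟩ : ∃ v : ℤ, v = k - lam := ⟨_, rfl⟩
  obtain ⟨u, hu⟩ : ∃ u : ℤ, u = K - L := ⟨_, rfl⟩
  rw [← hδ] at hd h2
  rw [← hv] at hv1
  rw [← hu] at hu1
  have hvu : v * δ ^ 2 = u ^ 2 := by
    have h1 : (n - 1) ^ 2 * (v * δ ^ 2) = (n - 1) ^ 2 * u ^ 2 := by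
      have h2 : (n - 1) ^ 2 * u ^ 2 = (u * (n - 1)) ^ 2 := by ring
      rw [h2, hu1]
      have h3 : (n - 1) ^ 2 * (v * δ ^ 2) = (n - 1) * (v * (n - 1)) * δ ^ 2 := by ring
      rw [h3, hv1, hd]
      ring
    exact mul_left_cancel₀ (pow_ne_zero 2 hn1) h1
  have hupos : 0 < u := by
    have h1 : 0 < K * (n - K) := by
      apply mul_pos <;> omega
    rw [← hu1] at h1
    exact tw_pos_of_mul_pos h1 hn1pos
  have hδ0 : δ ≠ 0 := by
    intro h0
    rw [h0] at hvu
    have h3 : u ^ 2 = 0 := by rw [← hvu]; ring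
    have h4 := pow_eq_zero_iff (two_ne_zero) |>.mp h3
    omega
  have hdvd : δ ∣ u := by
    have h1 : δ ^ 2 ∣ u ^ 2 := ⟨v, by rw [← hvu]; ring⟩
    exact (Int.pow_dvd_pow_iff two_ne_zero).mp h1
  obtain ⟨t, ht⟩ := hdvd
  have hvt : v = t ^ 2 := by
    have h1 : δ ^ 2 * v = δ ^ 2 * t ^ 2 := by
      have h3 : δ ^ 2 * t ^ 2 = (δ * t) ^ 2 := by ring
      rw [h3, ← ht, ← hvu]
      ring
    exact mul_left_cancel₀ (pow_ne_zero 2 hδ0) h1
  -- congruences
  have h1 : n ∣ u - K * K := ⟨u - K, by linear_combination (-1 : ℤ) * hu1⟩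
  have hcopδ : IsCoprime δ n := by
    have h3 : IsCoprime (K * K) n := hKcop.mul_left hKcop
    rw [h2] at h3
    have h4 : IsCoprime (δ * k) n := (IsCoprime.add_mul_right_left_iff).mp h3
    exact h4.of_mul_left_left
  have h5 : n ∣ δ * (t - k) := by
    have h6 : δ * (t - k) = (u - K * K) + d * n := by rw [ht, h2]; ring
    rw [h6]
    exact dvd_add h1 (dvd_mul_left n d)
  have h6 : n ∣ t - k := (hcopδ.symm).dvd_of_dvd_mul_left h5
  -- bounds
  have hvpos : 1 ≤ v := by
    have h7 : 0 < k * (n - k) := by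
      apply mul_pos <;> omega
    rw [← hv1] at h7
    have h8 := tw_pos_of_mul_pos h7 hn1pos
    omega
  have hvk : v ≤ k := by
    -- v (n-1) = k (n-k) ≤ k (n-1)
    have h7 : v * (n - 1) ≤ k * (n - 1) := by
      rw [hv1]
      apply mul_le_mul_of_nonneg_left <;> omega
    exact le_of_mul_le_mul_right h7 hn1pos
  have hvnk : v ≤ n - k := by
    have h7 : v * (n - 1) ≤ (n - k) * (n - 1) := by
      rw [hv1, mul_comm]
      apply mul_le_mul_of_nonneg_left <;> omega
    exact le_of_mul_le_mul_right h7 hn1pos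
  have htv : t ≤ v ∧ -v ≤ t := by
    rw [hvt]
    constructor <;> nlinarith [sq_nonneg (t - 1), sq_nonneg (t + 1), sq_nonneg t]
  obtain ⟨e, he⟩ := h6
  have he1 : e = 0 ∨ e = -1 := by
    have h9 : -n ≤ t - k := by linarith [htv.2]
    have h10 : t - k ≤ 0 := by linarith [htv.1]
    rw [he] at h9 h10
    have h11 : -1 ≤ e := by
      by_contra hcon
      have h12 : e ≤ -2 := by omega
      have h13 : n * e ≤ n * (-2) := by
        apply mul_le_mul_of_nonneg_left h12; omega
      linarith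
    have h12 : e ≤ 0 := by
      by_contra hcon
      have h13 : 1 ≤ e := by omega
      have h14 : n * 1 ≤ n * e := by
        apply mul_le_mul_of_nonneg_left h13; omega
      linarith
    omega
  rcases he1 with he0 | he0
  · left
    rw [he0, mul_zero] at he
    have htk : t = k := by linarith
    rw [htk] at hvt
    rw [hvt] at hvk
    exact tw_sq_le_self (by nlinarith) hk1
  · right
    rw [he0] at he
    have htk : t = k - n := by linarith
    rw [htk] at hvt
    rw [hvt] at hvnk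
    have h15 : (n - k) * (n - k) ≤ n - k := by nlinarith
    have h16 := tw_sq_le_self h15 (by omega)
    omega

end Cfsg.Agent.Lib.helper23
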