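import Cfsg.Agent.Lib.helper23.TwistA

set_option autoImplicit false

namespace Cfsg.Agent.Lib.helper23

open MulAction

section twistB

variable {G : Type*} [Group G] {Ω : Type*} [MulAction G Ω]

/-- twisted invariance of an integer function of two variables -/
def TwInv (β : MulAut G) (f : Ω → Ω → ℤ) : Prop :=
  ∀ (g : G) (x y : Ω), f (β g • x) (g • y) = f x y

/-- twisted orbit of a base pair -/
def TwOrb (β : MulAut G) (x₀ y₀ x y : Ω) : Prop :=
  ∃ g : G, β g • x₀ = x ∧ g • y₀ = y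

theorem TwOrb.base (β : MulAut G) (x₀ y₀ : Ω) : TwOrb β x₀ y₀ x₀ y₀ :=
  ⟨1, by rw [map_one, one_smul], one_smul _ _⟩

theorem twOrb_smul_iff (β : MulAut G) (x₀ y₀ x y : Ω) (g : G) :
    TwOrb β x₀ y₀ (β g • x) (g • y) ↔ TwOrb β x₀ y₀ x y := by
  constructor
  · rintro ⟨a, ha1, ha2⟩
    refine ⟨g⁻¹ * a, ?_, ?_⟩
    · rw [map_mul, mul_smul, ha1, map_inv, inv_smul_smul]
    · rw [mul_smul, ha2, inv_smul_smul]
  · rintro ⟨a, ha1, ha2⟩
    refine ⟨g * a, ?_, ?_⟩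
    · rw [map_mul, mul_smul, ha1]
    · rw [mul_smul, ha2]

theorem twp_mk_eq_iff (β : MulAut G) (x₀ y₀ x y : Ω) :
    ((Quotient.mk'' (⟨x, y⟩ : TwP β Ω) : orbitRel.Quotient G (TwP β Ω))
      = Quotient.mk'' (⟨x₀, y₀⟩ : TwP β Ω)) ↔ TwOrb β x₀ y₀ x y := by
  rw [Quotient.eq'', orbitRel_apply]
  constructor
  · rintro ⟨g, hg⟩
    refine ⟨g, ?_, ?_⟩
    · have := congrArg TwP.fst hg
      exact this
    · have := congrArg TwP.snd hg
      exact this
  · rintro ⟨g, h1, h2⟩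
    refine ⟨g, ?_⟩
    apply TwP.ext'
    · exact h1
    · exact h2

/-- an invariant function takes at most two values -/
theorem tw_two_valued [Fintype Ω] [DecidableEq Ω] [Fintype G] (h : TwoTrans G Ω)
    (hn : ∃ a b : Ω, a ≠ b) (β : MulAut G) (x₀ y₀ : Ω) (f : Ω → Ω → ℤ) (hf : TwInv β f) :
    ∃ c d : ℤ, ∀ x y, (TwOrb β x₀ y₀ x y → f x y = c) ∧ (¬ TwOrb β x₀ y₀ x y → f x y = d) := by
  classical
  haveI : Fintype (orbitRel.Quotient G (TwP β Ω)) := Fintype.ofFinite _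
  have hle := twp_orbits_le_two h hn β
  have hc : ∀ x y, TwOrb β x₀ y₀ x y → f x y = f x₀ y₀ := by
    rintro x y ⟨g, rfl, rfl⟩
    exact hf g x₀ y₀
  by_cases hex : ∃ x₁ y₁, ¬ TwOrb β x₀ y₀ x₁ y₁
  · obtain ⟨x₁, y₁, h1⟩ := hex
    refine ⟨f x₀ y₀, f x₁ y₁, fun x y => ⟨hc x y, fun hxy => ?_⟩⟩
    have h2 : TwOrb β x₁ y₁ x y := by
      by_contra hcon
      have h3 : 2 < Fintype.card (orbitRel.Quotient G (TwP β Ω)) := by
        rw [Fintype.two_lt_card_iff]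
        refine ⟨Quotient.mk'' (⟨x₀, y₀⟩ : TwP β Ω), Quotient.mk'' (⟨x₁, y₁⟩ : TwP β Ω),
          Quotient.mk'' (⟨x, y⟩ : TwP β Ω), ?_, ?_, ?_⟩
        · intro h4
          exact h1 ((twp_mk_eq_iff β x₀ y₀ x₁ y₁).mp h4.symm)
        · intro h4
          exact hxy ((twp_mk_eq_iff β x₀ y₀ x y).mp h4.symm)
        · intro h4
          exact hcon ((twp_mk_eq_iff β x₁ y₁ x y).mp h4.symm)
      omega
    obtain ⟨g, rfl, rfl⟩ := h2
    exact hf g x₁ y₁
  · push Not at hex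
    exact ⟨f x₀ y₀, 0, fun x y => ⟨hc x y, fun hxy => absurd (hex x y) hxy⟩⟩

/-! ### design identities -/

theorem tw_row_const [Fintype Ω] (h : TwoTrans G Ω) (hn : ∃ a b : Ω, a ≠ b) (β : MulAut G)
    (N : Ω → Ω → ℤ) (hN : TwInv β N) (x x' : Ω) : ∑ y, N x y = ∑ y, N x' y := by
  obtain ⟨g', hg'⟩ := h.trans hn x x'
  have hg : β (β.symm g') = g' := β.apply_symm_apply g'
  rw [← hg', ← hg]
  rw [← Equiv.sum_comp (MulAction.toPerm (β.symm g')) (fun y => N (β (β.symm g') • x) y)]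
  refine Finset.sum_congr rfl (fun y _ => ?_)
  rw [MulAction.toPerm_apply, hN]

theorem tw_col_const [Fintype Ω] (h : TwoTrans G Ω) (hn : ∃ a b : Ω, a ≠ b) (β : MulAut G)
    (N : Ω → Ω → ℤ) (hN : TwInv β N) (y y' : Ω) : ∑ x, N x y = ∑ x, N x y' := by
  obtain ⟨g, hg⟩ := h.trans hn y y'
  rw [← hg]
  rw [← Equiv.sum_comp (MulAction.toPerm (β g)) (fun x => N x (g • y))]
  refine Finset.sum_congr rfl (fun x _ => ?_)
  rw [MulAction.toPerm_apply, hN]

theorem tw_row_eq_col [Fintype Ω] (h : TwoTrans G Ω) (hn : ∃ a b : Ω, a ≠ b) (β : MulAut G)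
    (N : Ω → Ω → ℤ) (hN : TwInv β N) (x y : Ω) : ∑ y', N x y' = ∑ x', N x' y := by
  have h1 : ∑ x' : Ω, ∑ y' : Ω, N x' y' = (Fintype.card Ω : ℤ) * ∑ y', N x y' := by
    rw [Finset.sum_congr rfl (fun x' _ => tw_row_const h hn β N hN x' x)]
    rw [Finset.sum_const, Finset.card_univ, nsmul_eq_mul]
  have h2 : ∑ x' : Ω, ∑ y' : Ω, N x' y' = (Fintype.card Ω : ℤ) * ∑ x', N x' y := by
    rw [Finset.sum_comm]
    rw [Finset.sum_congr rfl (fun y' _ => tw_col_const h hn β N hN y' y)]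
    rw [Finset.sum_const, Finset.card_univ, nsmul_eq_mul]
  have h3 : (Fintype.card Ω : ℤ) ≠ 0 := by
    have : 0 < Fintype.card Ω := Fintype.card_pos_iff.mpr ⟨x⟩
    exact_mod_cast this.ne'
  rw [h1] at h2
  exact mul_left_cancel₀ h3 h2

theorem tw_row_inter_const [Fintype Ω] (h : TwoTrans G Ω) (β : MulAut G)
    (N : Ω → Ω → ℤ) (hN : TwInv β N) (x x' x₁ x₁' : Ω) (hx : x ≠ x') (hx₁ : x₁ ≠ x₁') :
    ∑ y, N x y * N x' y = ∑ y, N x₁ y * N x₁' y := by
  obtain ⟨g', hg1, hg2⟩ := h x x' x₁ x₁' hx hx₁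
  have hg : β (β.symm g') = g' := β.apply_symm_apply g'
  rw [← hg1, ← hg2, ← hg]
  rw [← Equiv.sum_comp (MulAction.toPerm (β.symm g'))
    (fun y => N (β (β.symm g') • x) y * N (β (β.symm g') • x') y)]
  refine Finset.sum_congr rfl (fun y _ => ?_)
  rw [MulAction.toPerm_apply, hN, hN]

theorem tw_design_eq [Fintype Ω] [DecidableEq Ω] (h : TwoTrans G Ω) (hn : ∃ a b : Ω, a ≠ b)
    (β : MulAut G) (N : Ω → Ω → ℤ) (hN : TwInv β N) (hN01 : ∀ x y, N x y * N x y = N x y)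
    (a b : Ω) (hab : a ≠ b) :
    (∑ y, N a y) * (∑ y, N a y)
      = (∑ y, N a y) + ((Fintype.card Ω : ℤ) - 1) * ∑ y, N a y * N b y := by
  have h1 : ∑ x : Ω, ∑ z : Ω, N x z * N a z = (∑ y, N a y) * (∑ y, N a y) := by
    rw [Finset.sum_comm]
    have : ∀ z : Ω, ∑ x : Ω, N x z * N a z = (∑ y, N a y) * N a z := by
      intro z
      rw [← Finset.sum_mul, ← tw_row_eq_col h hn β N hN a z]
    rw [Finset.sum_congr rfl (fun z _ => this z), ← Finset.mul_sum]
  have h2 : ∑ x : Ω, ∑ z : Ω, N x z * N a z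
      = (∑ y, N a y) + ((Fintype.card Ω : ℤ) - 1) * ∑ y, N a y * N b y := by
    rw [← Finset.add_sum_erase Finset.univ _ (Finset.mem_univ a)]
    congr 1
    · exact Finset.sum_congr rfl (fun z _ => hN01 a z)
    · have : ∀ x ∈ Finset.univ.erase a, ∑ z : Ω, N x z * N a z = ∑ y, N a y * N b y := by
        intro x hx
        exact tw_row_inter_const h β N hN x a a b (Finset.ne_of_mem_erase hx) hab
      rw [Finset.sum_congr rfl this, Finset.sum_const, Finset.card_erase_of_mem (Finset.mem_univ a),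
        Finset.card_univ, nsmul_eq_mul]
      have hpos : 1 ≤ Fintype.card Ω := Fintype.card_pos_iff.mpr ⟨a⟩
      push_cast [hpos]
      ring
  rw [← h1, h2]

/-! ### composition -/

/-- composition of two integer kernels -/
def twComp [Fintype Ω] (N f : Ω → Ω → ℤ) (x z : Ω) : ℤ := ∑ y, N x y * f y z

theorem twComp_inv [Fintype Ω] (β₁ β₂ : MulAut G) (N f : Ω → Ω → ℤ) (hN : TwInv β₁ N)
    (hf : TwInv β₂ f) : TwInv (β₁ * β₂) (twComp N f) := by
  intro g x z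
  unfold twComp
  rw [← Equiv.sum_comp (MulAction.toPerm (β₂ g))
    (fun y => N ((β₁ * β₂) g • x) y * f y (g • z))]
  refine Finset.sum_congr rfl (fun y _ => ?_)
  rw [MulAction.toPerm_apply, MulAut.mul_apply, hN, hf]

theorem twComp_row_sum [Fintype Ω] (N f : Ω → Ω → ℤ) (r s : ℤ) (hN : ∀ x, ∑ y, N x y = r)
    (hf : ∀ y, ∑ z, f y z = s) (x : Ω) : ∑ z, twComp N f x z = r * s := by
  unfold twComp
  rw [Finset.sum_comm]
  have : ∀ y : Ω, ∑ z : Ω, N x y * f y z = N x y * s := by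
    intro y
    rw [← Finset.mul_sum, hf]
  rw [Finset.sum_congr rfl (fun y _ => this y), ← Finset.sum_mul, hN]

/-- iterated composition -/
def twPow [Fintype Ω] [DecidableEq Ω] (N : Ω → Ω → ℤ) : ℕ → Ω → Ω → ℤ
  | 0 => fun x z => if x = z then 1 else 0
  | (i + 1) => twComp N (twPow N i)

theorem twPow_inv [Fintype Ω] [DecidableEq Ω] (β : MulAut G) (N : Ω → Ω → ℤ) (hN : TwInv β N)
    (i : ℕ) : TwInv (β ^ i) (twPow N i) := by
  induction i with
  | zero =>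
    intro g x z
    show (if (β ^ 0) g • x = g • z then (1 : ℤ) else 0) = if x = z then 1 else 0
    rw [pow_zero, MulAut.one_apply]
    by_cases hxz : x = z
    · rw [if_pos hxz, if_pos (by rw [hxz])]
    · rw [if_neg hxz, if_neg (fun h => hxz (MulAction.injective g h))]
  | succ i ih =>
    rw [pow_succ']
    exact twComp_inv β (β ^ i) N (twPow N i) hN ih

theorem twPow_row_sum [Fintype Ω] [DecidableEq Ω] (N : Ω → Ω → ℤ) (r : ℤ)
    (hN : ∀ x, ∑ y, N x y = r) (i : ℕ) (x : Ω) : ∑ z, twPow N i x z = r ^ i := by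
  induction i generalizing x with
  | zero =>
    show ∑ z, (if x = z then (1 : ℤ) else 0) = r ^ 0
    rw [Finset.sum_ite_eq Finset.univ x (fun _ => (1 : ℤ)), if_pos (Finset.mem_univ x), pow_zero]
  | succ i ih =>
    show ∑ z, twComp N (twPow N i) x z = r ^ (i + 1)
    rw [twComp_row_sum N (twPow N i) r (r ^ i) hN ih x, pow_succ']

end twistB

end Cfsg.Agent.Lib.helper23
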