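import Cfsg.Agent.Lib.helper23.TwistB
import Cfsg.Agent.Lib.helper23.TwistArith

set_option autoImplicit false

namespace Cfsg.Agent.Lib.helper23

open MulAction

section twistC

variable {G : Type*} [Group G] {Ω : Type*} [MulAction G Ω]

open Classical in
/-- indicator of a twisted orbit -/
noncomputable def twInd (β : MulAut G) (x₀ y₀ x y : Ω) : ℤ :=
  if TwOrb β x₀ y₀ x y then 1 else 0

theorem twInd_pos {β : MulAut G} {x₀ y₀ x y : Ω} (h : TwOrb β x₀ y₀ x y) :
    twInd β x₀ y₀ x y = 1 := by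
  unfold twInd; rw [if_pos h]

theorem twInd_neg {β : MulAut G} {x₀ y₀ x y : Ω} (h : ¬ TwOrb β x₀ y₀ x y) :
    twInd β x₀ y₀ x y = 0 := by
  unfold twInd; rw [if_neg h]

theorem twInd_inv (β : MulAut G) (x₀ y₀ : Ω) : TwInv β (twInd β x₀ y₀) := by
  intro g x y
  by_cases h : TwOrb β x₀ y₀ x y
  · rw [twInd_pos h, twInd_pos ((twOrb_smul_iff β x₀ y₀ x y g).mpr h)]
  · rw [twInd_neg h, twInd_neg (fun h' => h ((twOrb_smul_iff β x₀ y₀ x y g).mp h'))]

theorem twInd_sq (β : MulAut G) (x₀ y₀ x y : Ω) :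
    twInd β x₀ y₀ x y * twInd β x₀ y₀ x y = twInd β x₀ y₀ x y := by
  by_cases h : TwOrb β x₀ y₀ x y
  · rw [twInd_pos h]; norm_num
  · rw [twInd_neg h]; norm_num

theorem twInd_nonneg (β : MulAut G) (x₀ y₀ x y : Ω) : 0 ≤ twInd β x₀ y₀ x y := by
  by_cases h : TwOrb β x₀ y₀ x y
  · rw [twInd_pos h]; norm_num
  · rw [twInd_neg h]

theorem twInd_le_one (β : MulAut G) (x₀ y₀ x y : Ω) : twInd β x₀ y₀ x y ≤ 1 := by
  by_cases h : TwOrb β x₀ y₀ x y
  · rw [twInd_pos h]
  · rw [twInd_neg h]; norm_num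

theorem twInd_base (β : MulAut G) (x₀ y₀ : Ω) : twInd β x₀ y₀ x₀ y₀ = 1 :=
  twInd_pos (TwOrb.base β x₀ y₀)

/-- two-valuedness in terms of the indicator -/
theorem tw_two_valued' [Fintype Ω] [DecidableEq Ω] [Fintype G] (h : TwoTrans G Ω)
    (hn : ∃ a b : Ω, a ≠ b) (β : MulAut G) (x₀ y₀ : Ω) (f : Ω → Ω → ℤ) (hf : TwInv β f) :
    ∃ c d : ℤ, ∀ x y, f x y = d + (c - d) * twInd β x₀ y₀ x y := by
  obtain ⟨c, d, hcd⟩ := tw_two_valued h hn β x₀ y₀ f hf
  refine ⟨c, d, fun x y => ?_⟩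
  by_cases hxy : TwOrb β x₀ y₀ x y
  · rw [twInd_pos hxy, (hcd x y).1 hxy]; ring
  · rw [twInd_neg hxy, (hcd x y).2 hxy]; ring

/-- the transposed orbit -/
theorem twOrb_inv_swap (α : MulAut G) (o ω x z : Ω) :
    TwOrb α⁻¹ o ω x z ↔ TwOrb α ω o z x := by
  constructor
  · rintro ⟨g, h1, h2⟩
    refine ⟨α⁻¹ g, ?_, h1⟩
    rw [MulAut.apply_inv_self]
    exact h2
  · rintro ⟨g, h1, h2⟩
    refine ⟨α g, ?_, h1⟩
    rw [MulAut.inv_apply_self]
    exact h2

theorem twInd_inv_swap (α : MulAut G) (o ω x z : Ω) :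
    twInd α⁻¹ o ω x z = twInd α ω o z x := by
  by_cases h : TwOrb α ω o z x
  · rw [twInd_pos h, twInd_pos ((twOrb_inv_swap α o ω x z).mpr h)]
  · rw [twInd_neg h, twInd_neg (fun h' => h ((twOrb_inv_swap α o ω x z).mp h'))]

theorem tw_comp_sq_sum [Fintype Ω] [DecidableEq Ω] (M : Ω → Ω → ℤ) (K L : ℤ)
    (hM01 : ∀ x y, M x y * M x y = M x y) (hrow : ∀ x, ∑ y, M x y = K)
    (hint : ∀ y y', y ≠ y' → ∑ z, M y z * M y' z = L) (x : Ω) :
    ∑ z, twComp M M x z * twComp M M x z = K * K + L * (K * K - K) := by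
  have hint' : ∀ y y', ∑ z, M y z * M y' z = L + (K - L) * (if y = y' then 1 else 0) := by
    intro y y'
    by_cases hyy : y = y'
    · rw [if_pos hyy, ← hyy, Finset.sum_congr rfl (fun z _ => hM01 y z), hrow]; ring
    · rw [if_neg hyy, hint y y' hyy]; ring
  unfold twComp
  have e1 : ∀ z, (∑ y, M x y * M y z) * (∑ y', M x y' * M y' z)
      = ∑ y, ∑ y', (M x y * M x y') * (M y z * M y' z) := by
    intro z
    rw [Finset.sum_mul_sum]
    exact Finset.sum_congr rfl (fun y _ => Finset.sum_congr rfl (fun y' _ => by ring))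
  rw [Finset.sum_congr rfl (fun z _ => e1 z)]
  rw [Finset.sum_comm]
  have e2 : ∀ y, ∑ z, ∑ y', (M x y * M x y') * (M y z * M y' z)
      = M x y * L * K + (K - L) * M x y := by
    intro y
    rw [Finset.sum_comm]
    have e3 : ∀ y', ∑ z, (M x y * M x y') * (M y z * M y' z)
        = (M x y * M x y') * (L + (K - L) * (if y = y' then 1 else 0)) := by
      intro y'
      rw [← Finset.mul_sum, hint']
    rw [Finset.sum_congr rfl (fun y' _ => e3 y')]
    have e4 : ∀ y', (M x y * M x y') * (L + (K - L) * (if y = y' then 1 else 0))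
        = M x y * L * M x y' + (if y = y' then (K - L) * (M x y * M x y') else 0) := by
      intro y'
      split_ifs <;> ring
    rw [Finset.sum_congr rfl (fun y' _ => e4 y'), Finset.sum_add_distrib, ← Finset.mul_sum, hrow,
      Finset.sum_ite_eq Finset.univ y (fun y' => (K - L) * (M x y * M x y')),
      if_pos (Finset.mem_univ y), hM01]
  rw [Finset.sum_congr rfl (fun y _ => e2 y), Finset.sum_add_distrib, ← Finset.sum_mul,
    ← Finset.sum_mul, ← Finset.mul_sum, hrow]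
  ring

theorem tw_not_coprime_self (n : ℤ) (hn : 2 ≤ n) (a : ℤ) (h : n ∣ a) : ¬ IsCoprime a n := by
  intro hc
  obtain ⟨b, rfl⟩ := h
  have h1 : IsCoprime n n := hc.of_mul_left_left
  rw [isCoprime_self] at h1
  have := Int.isUnit_iff.mp h1
  omega

/-- the main arithmetic consequence -/
theorem tw_main [Fintype Ω] [DecidableEq Ω] [Fintype G] (h : TwoTrans G Ω)
    (hn : ∃ a b : Ω, a ≠ b) (α : MulAut G) (hodd : Odd (orderOf α)) (o ω : Ω) (k : ℤ)
    (hk : ∑ x, twInd α ω o x o = k) (hcop : IsCoprime k (Fintype.card Ω : ℤ)) :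
    k = 1 ∨ k = (Fintype.card Ω : ℤ) - 1 := by
  obtain ⟨a, b, hab⟩ := hn
  have hn' : ∃ a b : Ω, a ≠ b := ⟨a, b, hab⟩
  obtain ⟨n, hndef⟩ : ∃ n : ℤ, n = (Fintype.card Ω : ℤ) := ⟨_, rfl⟩
  have hn2 : 2 ≤ n := by
    have : 1 < Fintype.card Ω := Fintype.one_lt_card_iff.mpr ⟨a, b, hab⟩
    rw [hndef]; exact_mod_cast this
  rw [← hndef] at hcop ⊢
  have hcardsum : ∀ F : Ω → ℤ, (∀ x, F x ≤ 1) → ∑ x, F x ≤ n := by
    intro F hF
    have h1 : ∑ x, F x ≤ ∑ _x : Ω, (1 : ℤ) := Finset.sum_le_sum (fun x _ => hF x)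
    rw [Finset.sum_const, Finset.card_univ, nsmul_eq_mul, mul_one] at h1
    rw [hndef]; exact h1
  -- the kernel attached to α
  obtain ⟨N, hNdef⟩ : ∃ N : Ω → Ω → ℤ, N = twInd α ω o := ⟨_, rfl⟩
  have hNinv : TwInv α N := by rw [hNdef]; exact twInd_inv α ω o
  have hN01 : ∀ x y, N x y * N x y = N x y := by rw [hNdef]; exact twInd_sq α ω o
  have hNcol : ∀ y, ∑ x, N x y = k := by
    intro y
    rw [tw_col_const h hn' α N hNinv y o, hNdef]; exact hk
  have hNrow : ∀ x, ∑ y, N x y = k := by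
    intro x
    rw [tw_row_eq_col h hn' α N hNinv x o]; exact hNcol o
  obtain ⟨lam, hlamdef⟩ : ∃ lam : ℤ, lam = ∑ y, N a y * N b y := ⟨_, rfl⟩
  have hlam : k * k = k + (n - 1) * lam := by
    have := tw_design_eq h hn' α N hNinv hN01 a b hab
    rw [hNrow a, ← hlamdef, ← hndef] at this
    exact this
  have hk1 : 1 ≤ k := by
    rw [← hNcol o]
    have h1 : N ω o ≤ ∑ x, N x o :=
      Finset.single_le_sum (f := fun x => N x o)
        (fun x _ => by rw [hNdef]; exact twInd_nonneg α ω o x o) (Finset.mem_univ ω)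
    have h2 : N ω o = 1 := by rw [hNdef]; exact twInd_base α ω o
    omega
  have hk2 : k ≤ n - 1 := by
    have h1 : k ≤ n := by
      rw [← hNcol o]
      exact hcardsum (fun x => N x o) (fun x => by rw [hNdef]; exact twInd_le_one α ω o x o)
    have h2 : k ≠ n := by
      intro h3
      exact tw_not_coprime_self n hn2 k (by rw [h3]) hcop
    omega
  -- the square root of α⁻¹
  obtain ⟨j, hj⟩ := hodd
  obtain ⟨γ, hγdef⟩ : ∃ γ : MulAut G, γ = α ^ j := ⟨_, rfl⟩
  have hγ : γ * γ = α⁻¹ := by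
    apply eq_inv_of_mul_eq_one_left
    rw [hγdef, ← pow_add, ← pow_succ]
    have : j + j + 1 = orderOf α := by omega
    rw [this, pow_orderOf_eq_one]
  obtain ⟨M, hMdef⟩ : ∃ M : Ω → Ω → ℤ, M = twInd γ ω o := ⟨_, rfl⟩
  have hMinv : TwInv γ M := by rw [hMdef]; exact twInd_inv γ ω o
  have hM01 : ∀ x y, M x y * M x y = M x y := by rw [hMdef]; exact twInd_sq γ ω o
  obtain ⟨K, hKdef⟩ : ∃ K : ℤ, K = ∑ x, M x o := ⟨_, rfl⟩
  have hMcol : ∀ y, ∑ x, M x y = K := by
    intro y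
    rw [tw_col_const h hn' γ M hMinv y o, hKdef]
  have hMrow : ∀ x, ∑ y, M x y = K := by
    intro x
    rw [tw_row_eq_col h hn' γ M hMinv x o]; exact hMcol o
  obtain ⟨L, hLdef⟩ : ∃ L : ℤ, L = ∑ y, M a y * M b y := ⟨_, rfl⟩
  have hL : K * K = K + (n - 1) * L := by
    have := tw_design_eq h hn' γ M hMinv hM01 a b hab
    rw [hMrow a, ← hLdef, ← hndef] at this
    exact this
  have hMint : ∀ y y', y ≠ y' → ∑ z, M y z * M y' z = L := by
    intro y y' hyy
    rw [hLdef]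
    exact tw_row_inter_const h γ M hMinv y y' a b hyy hab
  have hK1 : 1 ≤ K := by
    rw [← hMcol o]
    have h1 : M ω o ≤ ∑ x, M x o :=
      Finset.single_le_sum (f := fun x => M x o)
        (fun x _ => by rw [hMdef]; exact twInd_nonneg γ ω o x o) (Finset.mem_univ ω)
    have h2 : M ω o = 1 := by rw [hMdef]; exact twInd_base γ ω o
    omega
  -- the path count
  have hfinv : TwInv γ (twPow N j) := by rw [hγdef]; exact twPow_inv α N hNinv j
  have hfrow : ∀ x, ∑ z, twPow N j x z = k ^ j := twPow_row_sum N k hNrow j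
  obtain ⟨cj, dj, hcd⟩ := tw_two_valued' h hn' γ ω o (twPow N j) hfinv
  have hkj : k ^ j = n * dj + (cj - dj) * K := by
    rw [← hfrow ω, Finset.sum_congr rfl (fun z _ => hcd ω z), Finset.sum_add_distrib,
      Finset.sum_const, Finset.card_univ, nsmul_eq_mul, ← Finset.mul_sum, ← hMdef, hMrow, hndef]
  have hcopj : IsCoprime (k ^ j) n := hcop.pow_left
  have hK2 : K ≤ n - 1 := by
    have h1 : K ≤ n := by
      rw [← hMcol o]
      exact hcardsum (fun x => M x o) (fun x => by rw [hMdef]; exact twInd_le_one γ ω o x o)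
    have h2 : K ≠ n := by
      intro h3
      rw [h3] at hkj
      exact tw_not_coprime_self n hn2 (k ^ j) ⟨cj, by rw [hkj]; ring⟩ hcopj
    omega
  have hKcop : IsCoprime K n := by
    have h1 : k ^ j = (cj - dj) * K + dj * n := by rw [hkj]; ring
    rw [h1] at hcopj
    have h2 : IsCoprime ((cj - dj) * K) n := (IsCoprime.add_mul_right_left_iff).mp hcopj
    exact h2.of_mul_left_right
  -- the composition
  have hginv : TwInv α⁻¹ (twComp M M) := by
    rw [← hγ]; exact twComp_inv γ γ M M hMinv hMinv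
  obtain ⟨c, d, hcd2⟩ := tw_two_valued' h hn' α⁻¹ o ω (twComp M M) hginv
  have hcd3 : ∀ z, twComp M M ω z = d + (c - d) * N z ω := by
    intro z
    rw [hcd2 ω z, twInd_inv_swap, hNdef]
  have ha : c * k + d * (n - k) = K * K := by
    have h1 : ∑ z, twComp M M ω z = K * K := twComp_row_sum M M K K hMrow hMrow ω
    rw [Finset.sum_congr rfl (fun z _ => hcd3 z), Finset.sum_add_distrib,
      Finset.sum_const, Finset.card_univ, nsmul_eq_mul, ← Finset.mul_sum, hNcol, ← hndef] at h1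
    rw [← h1]; ring
  have hb : c ^ 2 * k + d ^ 2 * (n - k) = K * K + L * (K * K - K) := by
    have h1 := tw_comp_sq_sum M K L hM01 hMrow hMint ω
    have h2 : ∀ z, twComp M M ω z * twComp M M ω z = d ^ 2 + (c ^ 2 - d ^ 2) * N z ω := by
      intro z
      rw [hcd3 z]
      have := hN01 z ω
      linear_combination (c - d) ^ 2 * this
    rw [Finset.sum_congr rfl (fun z _ => h2 z), Finset.sum_add_distrib,
      Finset.sum_const, Finset.card_univ, nsmul_eq_mul, ← Finset.mul_sum, hNcol, ← hndef] at h1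
    rw [← h1]; ring
  exact tw_design_arith n k K c d lam L hn2 hk1 hk2 hK1 hK2 hKcop hlam hL ha hb

end twistC

end Cfsg.Agent.Lib.helper23
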