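import Cfsg.Agent.Lib.helper23.TwistC

set_option autoImplicit false

namespace Cfsg.Agent.Lib.helper23

open MulAction

section twistD

variable {G : Type*} [Group G] {Ω : Type*} [MulAction G Ω]

/-- an automorphism carrying a point stabilizer into a point stabilizer is permutational -/
theorem tw_exists_perm [Finite Ω] (htrans : ∀ x y : Ω, ∃ g : G, g • x = y) (α : MulAut G)
    (o o' : Ω) (hfix : ∀ g : G, g • o = o → α g • o' = o') :
    ∃ σ : Equiv.Perm Ω, ∀ (g : G) (x : Ω), σ (g • x) = α g • σ x := by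
  classical
  choose r hr using fun x => htrans o x
  have hwd : ∀ g : G, α (r (g • o)) • o' = α g • o' := by
    intro g
    have h1 : (g⁻¹ * r (g • o)) • o = o := by
      rw [mul_smul, hr, inv_smul_smul]
    have h2 := hfix _ h1
    rw [map_mul, mul_smul, map_inv, inv_smul_eq_iff] at h2
    exact h2
  have hσ : ∀ (g : G) (x : Ω), α (r (g • x)) • o' = α g • (α (r x) • o') := by
    intro g x
    have h1 : g • x = (g * r x) • o := by rw [mul_smul, hr]
    rw [h1, hwd, map_mul, mul_smul]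
  have hsurj : Function.Surjective (fun x => α (r x) • o') := by
    intro y
    obtain ⟨g', hg'⟩ := htrans o' y
    refine ⟨α.symm g' • o, ?_⟩
    show α (r (α.symm g' • o)) • o' = y
    rw [hwd, MulEquiv.apply_symm_apply, hg']
  have hbij : Function.Bijective (fun x => α (r x) • o') :=
    ⟨Finite.injective_iff_surjective.mpr hsurj, hsurj⟩
  refine ⟨Equiv.ofBijective _ hbij, fun g x => ?_⟩
  show α (r (g • x)) • o' = α g • (α (r x) • o')
  exact hσ g x

/-- the orbit of `ω` under the image of the stabilizer, as a finite set -/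
noncomputable def twOrbSet [Fintype Ω] (α : MulAut G) (o ω : Ω) : Finset Ω := by
  classical exact Finset.univ.filter (fun x => TwOrb α ω o x o)

theorem mem_twOrbSet [Fintype Ω] (α : MulAut G) (o ω x : Ω) :
    x ∈ twOrbSet α o ω ↔ TwOrb α ω o x o := by
  classical
  unfold twOrbSet
  simp only [Finset.mem_filter, Finset.mem_univ, true_and]

theorem twOrbSet_card [Fintype Ω] (α : MulAut G) (o ω : Ω) :
    ((twOrbSet α o ω).card : ℤ) = ∑ x, twInd α ω o x o := by
  classical
  unfold twOrbSet twInd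
  rw [Finset.card_filter]
  push_cast
  refine Finset.sum_congr rfl (fun x _ => ?_)
  congr

theorem twOrbSet_eq_orbit [Fintype Ω] (α : MulAut G) (o ω : Ω) :
    ((twOrbSet α o ω : Finset Ω) : Set Ω)
      = MulAction.orbit ((MulAction.stabilizer G o).map α.toMonoidHom) ω := by
  ext x
  rw [Finset.mem_coe, mem_twOrbSet]
  constructor
  · rintro ⟨g, h1, h2⟩
    refine ⟨⟨α g, Subgroup.mem_map.mpr ⟨g, h2, rfl⟩⟩, ?_⟩
    exact h1
  · rintro ⟨⟨s, hs⟩, hx⟩
    obtain ⟨g, hg, rfl⟩ := Subgroup.mem_map.mp hs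
    exact ⟨g, hx, hg⟩

theorem twOrbSet_natCard [Fintype Ω] (α : MulAut G) (o ω : Ω) :
    Nat.card (MulAction.orbit ((MulAction.stabilizer G o).map α.toMonoidHom) ω)
      = (twOrbSet α o ω).card := by
  rw [← twOrbSet_eq_orbit, Nat.card_coe_set_eq, Set.ncard_coe_finset]

theorem twOrbSet_smul_mem [Fintype Ω] (α : MulAut G) (o ω x : Ω) (g : G) (hg : g • o = o) :
    α g • x ∈ twOrbSet α o ω ↔ x ∈ twOrbSet α o ω := by
  rw [mem_twOrbSet, mem_twOrbSet]
  have := twOrb_smul_iff α ω o x o g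
  rw [hg] at this
  exact this

/-- a fixed point of the image of the stabilizer -/
theorem tw_exists_fixed [Fintype Ω] (α : MulAut G) (o ω : Ω)
    (hk : (twOrbSet α o ω).card = 1 ∨ (twOrbSet α o ω).card = Fintype.card Ω - 1) :
    ∃ o' : Ω, ∀ g : G, g • o = o → α g • o' = o' := by
  classical
  have hω : ω ∈ twOrbSet α o ω := (mem_twOrbSet α o ω ω).mpr (TwOrb.base α ω o)
  rcases hk with hk | hk
  · refine ⟨ω, fun g hg => ?_⟩
    have h1 : α g • ω ∈ twOrbSet α o ω := (twOrbSet_smul_mem α o ω ω g hg).mpr hω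
    exact (Finset.card_le_one.mp hk.le) _ h1 _ hω
  · have hpos : 0 < Fintype.card Ω := Fintype.card_pos_iff.mpr ⟨o⟩
    have hcompl : (twOrbSet α o ω)ᶜ.card = 1 := by
      rw [Finset.card_compl, hk]; omega
    obtain ⟨o', ho'⟩ := Finset.card_eq_one.mp hcompl
    have ho'mem : o' ∈ (twOrbSet α o ω)ᶜ := by rw [ho']; exact Finset.mem_singleton_self o'
    refine ⟨o', fun g hg => ?_⟩
    have h1 : α g • o' ∈ (twOrbSet α o ω)ᶜ := by
      rw [Finset.mem_compl] at ho'mem ⊢
      intro h2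
      exact ho'mem ((twOrbSet_smul_mem α o ω o' g hg).mp h2)
    rw [ho'] at h1
    exact Finset.mem_singleton.mp h1

/-- abstract form of the theorem -/
theorem tw_abstract [Fintype Ω] [Finite G] (h : TwoTrans G Ω) (hn : ∃ a b : Ω, a ≠ b)
    (α : MulAut G) (hodd : Odd (orderOf α)) (o ω : Ω)
    (hcop : (Nat.card (MulAction.orbit ((MulAction.stabilizer G o).map α.toMonoidHom) ω)).Coprime
      (Fintype.card Ω)) :
    (∃ σ : Equiv.Perm Ω, ∀ (g : G) (x : Ω), σ (g • x) = α g • σ x) ∧
    (Nat.card (MulAction.orbit ((MulAction.stabilizer G o).map α.toMonoidHom) ω) = 1 ∨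
      Nat.card (MulAction.orbit ((MulAction.stabilizer G o).map α.toMonoidHom) ω)
        = Fintype.card Ω - 1) := by
  classical
  haveI : Fintype G := Fintype.ofFinite G
  rw [twOrbSet_natCard] at hcop ⊢
  have hpos : 0 < Fintype.card Ω := Fintype.card_pos_iff.mpr ⟨o⟩
  have hmain := tw_main h hn α hodd o ω ((twOrbSet α o ω).card : ℤ) (twOrbSet_card α o ω).symm
    ((Nat.isCoprime_iff_coprime).mpr hcop)
  have hk : (twOrbSet α o ω).card = 1 ∨ (twOrbSet α o ω).card = Fintype.card Ω - 1 := by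
    rcases hmain with h1 | h1
    · left; exact_mod_cast h1
    · right
      have : ((twOrbSet α o ω).card : ℤ) = ((Fintype.card Ω - 1 : ℕ) : ℤ) := by
        rw [h1]; push_cast [hpos]; ring
      exact_mod_cast this
  refine ⟨?_, hk⟩
  obtain ⟨o', ho'⟩ := tw_exists_fixed α o ω hk
  exact tw_exists_perm (h.trans hn) α o o' ho'

end twistD

/-- concrete form for permutation groups -/
theorem tw_concrete {Ω : Type*} [Fintype Ω] (G : Subgroup (Equiv.Perm Ω))
    (h2 : MulAction.IsMultiplyPretransitive G Ω 2) (o : Ω) (α : MulAut G)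
    (hα : Odd (orderOf α)) (ω : Ω)
    (hk : (Nat.card (MulAction.orbit ((MulAction.stabilizer G o).map α.toMonoidHom) ω)).Coprime
      (Fintype.card Ω)) :
    (∃ σ : Equiv.Perm Ω, σ ∈ Subgroup.normalizer (G : Set (Equiv.Perm Ω)) ∧
      ∀ g : G, ((α g : G) : Equiv.Perm Ω) = σ * (g : Equiv.Perm Ω) * σ⁻¹) ∧
    (Nat.card (MulAction.orbit ((MulAction.stabilizer G o).map α.toMonoidHom) ω) = 1 ∨
      Nat.card (MulAction.orbit ((MulAction.stabilizer G o).map α.toMonoidHom) ω)
        = Fintype.card Ω - 1) := by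
  classical
  have key : (∃ σ : Equiv.Perm Ω, ∀ (g : G) (x : Ω), σ (g • x) = α g • σ x) ∧
      (Nat.card (MulAction.orbit ((MulAction.stabilizer G o).map α.toMonoidHom) ω) = 1 ∨
      Nat.card (MulAction.orbit ((MulAction.stabilizer G o).map α.toMonoidHom) ω)
        = Fintype.card Ω - 1) := by
    by_cases hn : ∃ a b : Ω, a ≠ b
    · have htt : TwoTrans G Ω := by
        intro x y x' y' hxy hxy'
        exact (MulAction.is_two_pretransitive_iff.mp h2) hxy hxy'
      exact tw_abstract htt hn α hα o ω hk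
    · push Not at hn
      haveI : Subsingleton Ω := ⟨hn⟩
      refine ⟨⟨1, fun g x => Subsingleton.elim _ _⟩, Or.inl ?_⟩
      rw [Nat.card_eq_one_iff_unique]
      refine ⟨⟨fun a b => Subtype.ext (Subsingleton.elim _ _)⟩, ⟨⟨ω, MulAction.mem_orbit_self ω⟩⟩⟩
  obtain ⟨⟨σ, hσ⟩, hk'⟩ := key
  refine ⟨⟨σ, ?_, ?_⟩, hk'⟩
  · have hconj : ∀ g : G, ((α g : G) : Equiv.Perm Ω) = σ * (g : Equiv.Perm Ω) * σ⁻¹ := by
      intro g
      rw [eq_mul_inv_iff_mul_eq]
      ext x
      have := hσ g x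
      rw [Equiv.Perm.mul_apply, Equiv.Perm.mul_apply]
      exact this.symm
    rw [Subgroup.mem_set_normalizer_iff]
    intro p
    constructor
    · intro hp
      have := hconj ⟨p, hp⟩
      rw [← this]
      exact (α ⟨p, hp⟩).2
    · intro hp
      have h3 := hconj (α.symm ⟨_, hp⟩)
      rw [MulEquiv.apply_symm_apply] at h3
      have h4 : p = ((α.symm ⟨_, hp⟩ : G) : Equiv.Perm Ω) := by
        have h5 : σ * p * σ⁻¹ = σ * ((α.symm ⟨_, hp⟩ : G) : Equiv.Perm Ω) * σ⁻¹ := h3
        exact mul_left_cancel (mul_right_cancel h5)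
      rw [h4]
      exact (α.symm ⟨_, hp⟩).2
  · intro g
    rw [eq_mul_inv_iff_mul_eq]
    ext x
    have := hσ g x
    rw [Equiv.Perm.mul_apply, Equiv.Perm.mul_apply]
    exact this.symm

end Cfsg.Agent.Lib.helper23
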