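import Cfsg.Agent.Lib.helper23.U3eData
import Cfsg.Agent.Lib.helper23.PgX

set_option autoImplicit false
set_option maxRecDepth 1000000
set_option Elab.async false

/-!
# The unitary group of degree three over nine elements on 415 + 729 points: the checks of the stabiliser chain
-/

namespace Cfsg.Agent.Lib.helper23

open Subgroup MulAction

theorem u3echk0x2 : pgChkLvlW0 1144 u3eL2 [] = true := by decide +kernel
theorem u3echk0x1 : pgChkLvlW0 1144 u3eL1 [u3eL2] = true := by decide +kernel

theorem u3ecl2x0 : pgChkGenW 1144 (List.range 1144) u3eL2 []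
    (u3egen u3eT2x0 u3eI2x0) 0 1144 = true := by
  decide +kernel
theorem u3ecl2x1 : pgChkGenW 1144 (List.range 1144) u3eL2 []
    (u3egen u3eT2x1 u3eI2x1) 0 1144 = true := by
  decide +kernel
theorem u3ecl1x0 : pgChkGenW 1144 (List.range 1144) u3eL1 [u3eL2]
    (u3egen u3eT1x0 u3eI1x0) 0 1144 = true := by
  decide +kernel
theorem u3ecl1x1 : pgChkGenW 1144 (List.range 1144) u3eL1 [u3eL2]
    (u3egen u3eT1x1 u3eI1x1) 0 1144 = true := by
  decide +kernel

theorem u3echkL2 : pgChkLvlW 1144 (List.range 1144) u3eL2 [] = true := by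
  apply pgChkLvlW_ofAllX u3echk0x2
  intro s hs
  change s ∈ [u3egen u3eT2x0 u3eI2x0, u3egen u3eT2x1 u3eI2x1] at hs
  simp only [List.mem_cons, List.not_mem_nil, or_false] at hs
  rcases hs with rfl | rfl
  · exact u3ecl2x0
  · exact u3ecl2x1

theorem u3echkL1 : pgChkLvlW 1144 (List.range 1144) u3eL1 [u3eL2] = true := by
  apply pgChkLvlW_ofAllX u3echk0x1
  intro s hs
  change s ∈ [u3egen u3eT1x0 u3eI1x0, u3egen u3eT1x1 u3eI1x1] at hs
  simp only [List.mem_cons, List.not_mem_nil, or_false] at hs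
  rcases hs with rfl | rfl
  · exact u3ecl1x0
  · exact u3ecl1x1

/-- the stabiliser chain -/
def u3eC : List PgLvlW := [u3eL1, u3eL2]

theorem u3echkC : pgChkW 1144 (pgRigidAll 1144).base u3eC = true := by
  change pgChkW 1144 (List.range 1144) [u3eL1, u3eL2] = true
  rw [pgChkW_cons, pgChkW_cons, u3echkL1, u3echkL2]
  rfl

end Cfsg.Agent.Lib.helper23
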