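import Cfsg.Agent.Lib.helper23.U4eData
import Cfsg.Agent.Lib.helper23.PgX

set_option autoImplicit false
set_option maxRecDepth 1000000
set_option Elab.async false

/-!
# The unitary group of degree 4 over 9 elements on 275 + 280 points: the checks of the stabiliser chain
-/

namespace Cfsg.Agent.Lib.helper23

open Subgroup MulAction

theorem u4echk0x4 : pgChkLvlW0 555 u4eL4 [] = true := by decide +kernel
theorem u4echk0x3 : pgChkLvlW0 555 u4eL3 [u4eL4] = true := by decide +kernel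
theorem u4echk0x2 : pgChkLvlW0 555 u4eL2 [u4eL3, u4eL4] = true := by decide +kernel
theorem u4echk0x1 : pgChkLvlW0 555 u4eL1 [u4eL2, u4eL3, u4eL4] = true := by decide +kernel

theorem u4ecl4x0 : pgChkGenW 555 (List.range 555) u4eL4 []
    (u4egen u4eT4x0 u4eI4x0) 0 555 = true := by
  decide +kernel
theorem u4ecl4x1 : pgChkGenW 555 (List.range 555) u4eL4 []
    (u4egen u4eT4x1 u4eI4x1) 0 555 = true := by
  decide +kernel
theorem u4ecl3x0 : pgChkGenW 555 (List.range 555) u4eL3 [u4eL4]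
    (u4egen u4eT3x0 u4eI3x0) 0 555 = true := by
  decide +kernel
theorem u4ecl3x1 : pgChkGenW 555 (List.range 555) u4eL3 [u4eL4]
    (u4egen u4eT3x1 u4eI3x1) 0 555 = true := by
  decide +kernel
theorem u4ecl2x0 : pgChkGenW 555 (List.range 555) u4eL2 [u4eL3, u4eL4]
    (u4egen u4eT2x0 u4eI2x0) 0 555 = true := by
  decide +kernel
theorem u4ecl2x1 : pgChkGenW 555 (List.range 555) u4eL2 [u4eL3, u4eL4]
    (u4egen u4eT2x1 u4eI2x1) 0 555 = true := by
  decide +kernel
theorem u4ecl1x0 : pgChkGenW 555 (List.range 555) u4eL1 [u4eL2, u4eL3, u4eL4]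
    (u4egen u4eT1x0 u4eI1x0) 0 555 = true := by
  decide +kernel
theorem u4ecl1x1 : pgChkGenW 555 (List.range 555) u4eL1 [u4eL2, u4eL3, u4eL4]
    (u4egen u4eT1x1 u4eI1x1) 0 555 = true := by
  decide +kernel

theorem u4echkL4 : pgChkLvlW 555 (List.range 555) u4eL4 [] = true := by
  apply pgChkLvlW_ofAllX u4echk0x4
  intro s hs
  change s ∈ [u4egen u4eT4x0 u4eI4x0, u4egen u4eT4x1 u4eI4x1] at hs
  simp only [List.mem_cons, List.not_mem_nil, or_false] at hs
  rcases hs with rfl | rfl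
  · exact u4ecl4x0
  · exact u4ecl4x1

theorem u4echkL3 : pgChkLvlW 555 (List.range 555) u4eL3 [u4eL4] = true := by
  apply pgChkLvlW_ofAllX u4echk0x3
  intro s hs
  change s ∈ [u4egen u4eT3x0 u4eI3x0, u4egen u4eT3x1 u4eI3x1] at hs
  simp only [List.mem_cons, List.not_mem_nil, or_false] at hs
  rcases hs with rfl | rfl
  · exact u4ecl3x0
  · exact u4ecl3x1

theorem u4echkL2 : pgChkLvlW 555 (List.range 555) u4eL2 [u4eL3, u4eL4] = true := by
  apply pgChkLvlW_ofAllX u4echk0x2
  intro s hs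
  change s ∈ [u4egen u4eT2x0 u4eI2x0, u4egen u4eT2x1 u4eI2x1] at hs
  simp only [List.mem_cons, List.not_mem_nil, or_false] at hs
  rcases hs with rfl | rfl
  · exact u4ecl2x0
  · exact u4ecl2x1

theorem u4echkL1 : pgChkLvlW 555 (List.range 555) u4eL1 [u4eL2, u4eL3, u4eL4] = true := by
  apply pgChkLvlW_ofAllX u4echk0x1
  intro s hs
  change s ∈ [u4egen u4eT1x0 u4eI1x0, u4egen u4eT1x1 u4eI1x1] at hs
  simp only [List.mem_cons, List.not_mem_nil, or_false] at hs
  rcases hs with rfl | rfl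
  · exact u4ecl1x0
  · exact u4ecl1x1

/-- the stabiliser chain -/
def u4eC : List PgLvlW := [u4eL1, u4eL2, u4eL3, u4eL4]

theorem u4echkC : pgChkW 555 (pgRigidAll 555).base u4eC = true := by
  change pgChkW 555 (List.range 555) [u4eL1, u4eL2, u4eL3, u4eL4] = true
  rw [pgChkW_cons, pgChkW_cons, pgChkW_cons, pgChkW_cons, u4echkL1, u4echkL2, u4echkL3, u4echkL4]
  rfl

end Cfsg.Agent.Lib.helper23
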