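import Cfsg.Agent.Lib.helper14.MPe
import Cfsg.Agent.Lib.helper23.U4pChk
import Cfsg.Agent.Lib.helper23.U4eChk
import Cfsg.Agent.Lib.helper23.Pg9
import Cfsg.Agent.Lib.helper23.PgY

set_option autoImplicit false
set_option maxRecDepth 1000000
set_option Elab.async false

/-!
# The unitary group of degree 4 over 9 elements: the checks
-/

namespace Cfsg.Agent.Lib.helper23

open Cfsg.Agent.Lib.helper14.MP Cfsg.Agent.Lib.Helper19.L27 Matrix

/-! ### the isotropic points and the generators -/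

theorem u4vchk : pg9ChkVecs 280 4 u4V = true := by decide +kernel

theorem u4pts1 : pg9ChkPts 4 u4M1 u4V (u4pgen u4pT1x0 u4pI1x0).f u4CR1 u4CI1 280 0 280 = true := by
  decide +kernel

theorem u4pts2 : pg9ChkPts 4 u4M2 u4V (u4pgen u4pT1x1 u4pI1x1).f u4CR2 u4CI2 280 0 280 = true := by
  decide +kernel

/-! ### the orders -/

theorem u4pord : pgOrdW 280 u4pC = 3265920 := by decide +kernel

theorem u4eord : pgOrdW 555 u4eC = 3265920 := by decide +kernel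

/-! ### the blocks of the diagonal group -/

theorem u4eblk1 : pgChkBlk 275 0 u4eL1.own = true := by decide +kernel

theorem u4eblk2 : pgChkBlk 280 275 u4eL1.own = true := by decide +kernel

theorem u4etab1 : ∀ i : Fin 275, u4elk u4eT1x0 (0 + i.1) = mplk mcT2x0 i.1 ∧
    u4elk u4eT1x1 (0 + i.1) = mplk mcT2x1 i.1 := by decide +kernel

theorem u4etab2 : ∀ i : Fin 280, u4elk u4eT1x0 (275 + i.1) = 275 + u4plk u4pT1x0 i.1 ∧
    u4elk u4eT1x1 (275 + i.1) = 275 + u4plk u4pT1x1 i.1 := by decide +kernel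

theorem u4fix0 : mplk mcT2x0 0 = 0 ∧ mplk mcT2x1 0 = 0 := by decide +kernel

/-! ### the matrices -/

/-- the matrix of a packed matrix -/
def u4Mat (T : ℕ) : Matrix (Fin 4) (Fin 4) F9 := fun i j =>
  pg9El (pgDig T (2 * (4 * i.1 + j.1))) (pgDig T (2 * (4 * i.1 + j.1) + 1))

theorem u4Mat_tab (T : ℕ) : PgTab9 (Equiv.refl (Fin 4)) T (u4Mat T) := fun _ _ => rfl

theorem u4det4 {R : Type*} [CommRing R] (A : Matrix (Fin 4) (Fin 4) R) :
    A.det = A 0 0 * (A 1 1 * (A 2 2 * A 3 3 - A 2 3 * A 3 2) - A 1 2 * (A 2 1 * A 3 3 - A 2 3 * A 3 1)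
        + A 1 3 * (A 2 1 * A 3 2 - A 2 2 * A 3 1))
      - A 0 1 * (A 1 0 * (A 2 2 * A 3 3 - A 2 3 * A 3 2) - A 1 2 * (A 2 0 * A 3 3 - A 2 3 * A 3 0)
        + A 1 3 * (A 2 0 * A 3 2 - A 2 2 * A 3 0))
      + A 0 2 * (A 1 0 * (A 2 1 * A 3 3 - A 2 3 * A 3 1) - A 1 1 * (A 2 0 * A 3 3 - A 2 3 * A 3 0)
        + A 1 3 * (A 2 0 * A 3 1 - A 2 1 * A 3 0))
      - A 0 3 * (A 1 0 * (A 2 1 * A 3 2 - A 2 2 * A 3 1) - A 1 1 * (A 2 0 * A 3 2 - A 2 2 * A 3 0)
        + A 1 2 * (A 2 0 * A 3 1 - A 2 1 * A 3 0)) := by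
  rw [Matrix.det_succ_row_zero]
  simp only [Fin.sum_univ_four, Matrix.det_fin_three, Matrix.submatrix_apply]
  simp [Fin.succAbove]
  ring

theorem u4det1 : (u4Mat u4M1).det = 1 := by
  rw [u4det4]
  decide +kernel

theorem u4det2 : (u4Mat u4M2).det = 1 := by
  rw [u4det4]
  decide +kernel

theorem u4detZ : (u4Mat u4MZ).det = 1 := by
  rw [u4det4]
  decide +kernel

/-- the unitarity of a matrix, entry by entry -/
def u4IsU (A : Matrix (Fin 4) (Fin 4) F9) : Prop :=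
  ∀ i j : Fin 4, A 0 i * A 0 j ^ 3 + A 1 i * A 1 j ^ 3 + A 2 i * A 2 j ^ 3 + A 3 i * A 3 j ^ 3 =
    if i = j then 1 else 0

instance (A : Matrix (Fin 4) (Fin 4) F9) : Decidable (u4IsU A) := by
  unfold u4IsU
  infer_instance

theorem u4unit1 : u4IsU (u4Mat u4M1) := by decide +kernel

theorem u4unit2 : u4IsU (u4Mat u4M2) := by decide +kernel

theorem u4unitZ : u4IsU (u4Mat u4MZ) := by decide +kernel

/-- the scalar matrix -/
theorem u4MZ_eq : u4Mat u4MZ = (pg9El 0 1) • (1 : Matrix (Fin 4) (Fin 4) F9) := by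
  decide +kernel

theorem u4Z_pow : (pg9El 0 1 : F9) ^ 2 ≠ 1 ∧ (pg9El 0 1 : F9) ^ 4 = 1 := by decide +kernel

end Cfsg.Agent.Lib.helper23
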