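import Cfsg.Agent.Lib.helper23.U4B
import Cfsg.Agent.Lib.helper23.PgY

set_option autoImplicit false
set_option maxRecDepth 1000000
set_option Elab.async false

/-!
# The stabiliser of a point in the McLaughlin group on 275 points is the unitary group of degree 4
over 9 elements
-/

namespace Cfsg.Agent.Lib.helper23

open Cfsg.Agent.Lib.helper14.MP Cfsg.Agent.Lib.Helper19.L27 Subgroup MulAction

/-! ### the diagonal group on 275 + 280 points -/

theorem u4eA : pgGrpW 555 u4eC ≤ (pgRigidAll 555).A := le_top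

theorem u4eok : ∀ P ∈ u4eL1.own, P.ok 555 = true :=
  pgChkW_own_ok 555 (pgRigidAll 555).base u4eC u4echkC

/-- the diagonal group -/
abbrev E555 : Subgroup (Equiv.Perm (Fin 555)) := Subgroup.closure (pgSet 555 u4eL1.own)

theorem E555_eq : E555 = pgGrpW 555 u4eC := rfl

theorem E555_card : Nat.card E555 = 3265920 := by
  rw [E555_eq, pgCardW (pgRigidAll 555) u4eC u4echkC u4eA, u4eord]

instance : Finite E555 := Nat.finite_of_card_ne_zero (by rw [E555_card]; norm_num)

theorem u4eown : u4eL1.own = [u4egen u4eT1x0 u4eI1x0, u4egen u4eT1x1 u4eI1x1] := rfl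

theorem u4emem0 : u4egen u4eT1x0 u4eI1x0 ∈ u4eL1.own := by rw [u4eown]; simp

theorem u4emem1 : u4egen u4eT1x1 u4eI1x1 ∈ u4eL1.own := by rw [u4eown]; simp

/-! ### the stabiliser of a point on 275 points -/

/-- the chain of the stabiliser -/
def u4hC : List PgLvlW := [mcL2, mcL3, mcL4, mcL5]

/-- the stabiliser of the first point -/
abbrev H275 : Subgroup (Equiv.Perm (Fin 275)) := pgGrpW 275 u4hC

theorem u4hchk : pgChkW 275 (mpRigidTop 275).base u4hC = true := by
  have h := mpchkC
  change pgChkW 275 (mpRigidTop 275).base (mcL1 :: u4hC) = true at h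
  rw [pgChkW_cons, Bool.and_eq_true] at h
  exact h.2

theorem u4hord : pgOrdW 275 u4hC = 3265920 := by decide +kernel

theorem H275_card : Nat.card H275 = 3265920 := by
  rw [pgCardW (mpRigidTop 275) u4hC u4hchk le_top, u4hord]

theorem u4hok : ∀ P ∈ mcL2.own, P.ok 275 = true :=
  pgChkW_own_ok 275 (mpRigidTop 275).base u4hC u4hchk

theorem u4hown : mcL2.own = [mpgen mcT2x0 mcI2x0, mpgen mcT2x1 mcI2x1] := rfl

theorem u4hmem0 : mpgen mcT2x0 mcI2x0 ∈ mcL2.own := by rw [u4hown]; simp

theorem u4hmem1 : mpgen mcT2x1 mcI2x1 ∈ mcL2.own := by rw [u4hown]; simp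

/-! ### the restriction to the first 275 points -/

/-- the restriction to the first 275 points -/
noncomputable def u4res1 : E555 →* Equiv.Perm (Fin 275) :=
  pgBlkHom (n := 555) (m := 275) (off := 0) (by norm_num) u4eok u4eblk1

theorem u4res1_gen0 :
    u4res1 ⟨(u4egen u4eT1x0 u4eI1x0).perm 555, Subgroup.subset_closure ⟨_, u4emem0, rfl⟩⟩ =
      (mpgen mcT2x0 mcI2x0).perm 275 := by
  ext i
  have h := pgBlkHom_gen (n := 555) (m := 275) (off := 0) (by norm_num) u4eok u4eblk1 _
    u4emem0 i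
  rw [Nat.zero_add] at h
  change (u4res1 _ i).1 = _ at h
  rw [h, PFun.perm_apply (u4hok _ u4hmem0)]
  exact (u4etab1 i).1

theorem u4res1_gen1 :
    u4res1 ⟨(u4egen u4eT1x1 u4eI1x1).perm 555, Subgroup.subset_closure ⟨_, u4emem1, rfl⟩⟩ =
      (mpgen mcT2x1 mcI2x1).perm 275 := by
  ext i
  have h := pgBlkHom_gen (n := 555) (m := 275) (off := 0) (by norm_num) u4eok u4eblk1 _
    u4emem1 i
  rw [Nat.zero_add] at h
  change (u4res1 _ i).1 = _ at h
  rw [h, PFun.perm_apply (u4hok _ u4hmem1)]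
  exact (u4etab1 i).2

theorem u4res1_range : u4res1.range = H275 := by
  change _ = Subgroup.closure (pgSet 275 mcL2.own)
  apply pgBlkHom_range
  · intro P hP
    rw [u4eown] at hP
    simp only [List.mem_cons, List.not_mem_nil, or_false] at hP
    rcases hP with rfl | rfl
    · exact ⟨_, u4hmem0, u4res1_gen0⟩
    · exact ⟨_, u4hmem1, u4res1_gen1⟩
  · rintro _ ⟨Q, hQ, rfl⟩
    rw [u4hown] at hQ
    simp only [List.mem_cons, List.not_mem_nil, or_false] at hQ
    rcases hQ with rfl | rfl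
    · exact ⟨_, u4emem0, u4res1_gen0⟩
    · exact ⟨_, u4emem1, u4res1_gen1⟩

/-- the diagonal group is the stabiliser -/
noncomputable def E555_equiv1 : E555 ≃* H275 :=
  pgEquivOfRange u4res1 _ u4res1_range (by rw [E555_card, H275_card])

/-! ### the restriction to the last 280 points -/

/-- the restriction to the last 280 points -/
noncomputable def u4res2 : E555 →* Equiv.Perm (Fin 280) :=
  pgBlkHom (n := 555) (m := 280) (off := 275) (by norm_num) u4eok u4eblk2

theorem u4res2_gen0 :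
    u4res2 ⟨(u4egen u4eT1x0 u4eI1x0).perm 555, Subgroup.subset_closure ⟨_, u4emem0, rfl⟩⟩ =
      (u4pgen u4pT1x0 u4pI1x0).perm 280 := by
  ext i
  have h := pgBlkHom_gen (n := 555) (m := 280) (off := 275) (by norm_num) u4eok u4eblk2 _
    u4emem0 i
  change 275 + (u4res2 _ i).1 = u4elk u4eT1x0 (275 + i.1) at h
  rw [PFun.perm_apply (u4pok _ u4pmem0)]
  have := (u4etab2 i).1
  change (u4res2 _ i).1 = u4plk u4pT1x0 i.1
  omega

theorem u4res2_gen1 :
    u4res2 ⟨(u4egen u4eT1x1 u4eI1x1).perm 555, Subgroup.subset_closure ⟨_, u4emem1, rfl⟩⟩ =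
      (u4pgen u4pT1x1 u4pI1x1).perm 280 := by
  ext i
  have h := pgBlkHom_gen (n := 555) (m := 280) (off := 275) (by norm_num) u4eok u4eblk2 _
    u4emem1 i
  change 275 + (u4res2 _ i).1 = u4elk u4eT1x1 (275 + i.1) at h
  rw [PFun.perm_apply (u4pok _ u4pmem1)]
  have := (u4etab2 i).2
  change (u4res2 _ i).1 = u4plk u4pT1x1 i.1
  omega

theorem u4res2_range : u4res2.range = P280 := by
  change _ = Subgroup.closure (pgSet 280 u4pL1.own)
  apply pgBlkHom_range
  · intro P hP
    rw [u4eown] at hP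
    simp only [List.mem_cons, List.not_mem_nil, or_false] at hP
    rcases hP with rfl | rfl
    · exact ⟨_, u4pmem0, u4res2_gen0⟩
    · exact ⟨_, u4pmem1, u4res2_gen1⟩
  · rintro _ ⟨Q, hQ, rfl⟩
    rw [u4pown] at hQ
    simp only [List.mem_cons, List.not_mem_nil, or_false] at hQ
    rcases hQ with rfl | rfl
    · exact ⟨_, u4emem0, u4res2_gen0⟩
    · exact ⟨_, u4emem1, u4res2_gen1⟩

/-- the diagonal group is the group on 280 points -/
noncomputable def E555_equiv2 : E555 ≃* P280 :=
  pgEquivOfRange u4res2 _ u4res2_range (by rw [E555_card, P280_card])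

/-- the stabiliser is the projective special unitary group -/
noncomputable def H275_equiv : H275 ≃* Cfsg.PSU 4 F9 3 :=
  (E555_equiv1.symm.trans E555_equiv2).trans u4PsuEquiv.symm

/-! ### the stabiliser of the first point in the group on 275 points -/

theorem H275_le : H275 ≤ M275 := by
  rw [M275_eq]
  obtain ⟨hb, -, -, -, h⟩ := pgLvlW_main (mpRigidTop 275) (L := mcL1) (C := u4hC) mpchkC le_top
  exact h

theorem H275_of_fix (g : Equiv.Perm (Fin 275)) (hg : g ∈ M275) (h0 : g 0 = 0) : g ∈ H275 := by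
  rw [M275_eq] at hg
  obtain ⟨hb, h, -⟩ := pgLvlW_main (mpRigidTop 275) (L := mcL1) (C := u4hC) mpchkC le_top
  exact h g hg h0

theorem H275_fix (g : Equiv.Perm (Fin 275)) (hg : g ∈ H275) : g 0 = 0 := by
  have hle : H275 ≤ MulAction.stabilizer (Equiv.Perm (Fin 275)) (0 : Fin 275) := by
    change Subgroup.closure (pgSet 275 mcL2.own) ≤ _
    rw [Subgroup.closure_le]
    rintro _ ⟨P, hP, rfl⟩
    rw [u4hown] at hP
    simp only [List.mem_cons, List.not_mem_nil, or_false] at hP
    rw [SetLike.mem_coe, MulAction.mem_stabilizer_iff]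
    rcases hP with rfl | rfl
    · apply Fin.ext
      change ((mpgen mcT2x0 mcI2x0).perm 275 0).1 = 0
      rw [PFun.perm_apply (u4hok _ u4hmem0)]
      exact u4fix0.1
    · apply Fin.ext
      change ((mpgen mcT2x1 mcI2x1).perm 275 0).1 = 0
      rw [PFun.perm_apply (u4hok _ u4hmem1)]
      exact u4fix0.2
  exact MulAction.mem_stabilizer_iff.1 (hle hg)

theorem mem_H275_iff (g : Equiv.Perm (Fin 275)) : g ∈ H275 ↔ g ∈ M275 ∧ g 0 = 0 :=
  ⟨fun h => ⟨H275_le h, H275_fix g h⟩, fun h => H275_of_fix g h.1 h.2⟩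

end Cfsg.Agent.Lib.helper23
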