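import Cfsg.Agent.Lib.helper23.U4C
import Cfsg.Agent.Lib.helper23.McLL
import Cfsg.Agent.Lib.helper23.SUTr

set_option autoImplicit false
set_option maxRecDepth 1000000
set_option Elab.async false

/-!
# The stabiliser of a point of the McLaughlin configuration is the unitary group of degree 4 over
9 elements
-/

namespace Cfsg.Agent.Lib.helper23

open Cfsg MulAction Subgroup Cfsg.Agent.Lib.helper14.MP Cfsg.Agent.Lib.Helper19.L27

/-- the stabiliser of three vectors -/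
abbrev u4Stab (u v x : ↥leechLattice) : Subgroup ↥Co0 :=
  stabilizer ↥Co0 u ⊓ stabilizer ↥Co0 v ⊓ stabilizer ↥Co0 x

theorem mem_u4Stab {u v x : ↥leechLattice} (g : ↥Co0) :
    g ∈ u4Stab u v x ↔ g.1 u = u ∧ g.1 v = v ∧ g.1 x = x := by
  rw [Subgroup.mem_inf, Subgroup.mem_inf, mem_stabilizer_iff, mem_stabilizer_iff,
    mem_stabilizer_iff, and_assoc]
  rfl

theorem u4Stab_eq (u v x : ↥leechLattice) :
    u4Stab u v x = stabilizer ↥Co0 ((u, v, x) : ↥leechLattice × ↥leechLattice × ↥leechLattice) := by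
  ext g
  rw [mem_u4Stab, mem_stabilizer_iff]
  constructor
  · rintro ⟨h1, h2, h3⟩
    exact Prod.ext h1 (Prod.ext h2 h3)
  · intro h
    exact ⟨congrArg Prod.fst h, congrArg (fun t => t.2.1) h, congrArg (fun t => t.2.2) h⟩

/-- the stabilisers of corresponding triples are isomorphic -/
noncomputable def u4StabConj {u v x u' v' x' : ↥leechLattice} (G : ↥Co0) (hu : G.1 u = u')
    (hv : G.1 v = v') (hx : G.1 x = x') : u4Stab u v x ≃* u4Stab u' v' x' :=
  ((MulEquiv.subgroupCongr (u4Stab_eq u v x)).trans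
    (stabilizerEquivStabilizer (g := G) (by
      show (u', v', x') = (G.1 u, G.1 v, G.1 x)
      rw [hu, hv, hx]))).trans
    (MulEquiv.subgroupCongr (u4Stab_eq u' v' x').symm)

/-! ### moving a triple to the standard triple -/

theorem u4move (u v x : ↥leechLattice) (hu : sqNorm u.1 = 48) (hv : sqNorm v.1 = 32)
    (huv : sqNorm (u - v).1 = 32) (hx : x ∈ mclX u v) :
    ∃ G : ↥Co0, G.1 u = mpU ∧ G.1 v = Spor.leechU ∧ G.1 x = mpPt 0 := by
  obtain ⟨g0, h0u, h0v, h0x⟩ := mcl_to_frame u v hu hv huv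
  obtain ⟨g1, h1u, h1v, h1x⟩ := mcl_to_frame mpU Spor.leechU mpU_chk.1 mpU_chk.2.1 mpU_chk.2.2.1
  have hx1 : (g1⁻¹ * g0).1 x ∈ mclX mpU Spor.leechU := by
    rw [h1x]
    show g1.1 (g1⁻¹.1 (g0.1 x)) ∈ _
    have : g1.1 (g1⁻¹.1 (g0.1 x)) = g0.1 x := by
      show (g1 * g1⁻¹).1 (g0.1 x) = _
      rw [mul_inv_cancel]
      rfl
    rw [this]
    exact (h0x x).1 hx
  obtain ⟨g2, h2u, h2v, h2x⟩ := (mcl_main mpU Spor.leechU mpU_chk.1 mpU_chk.2.1 mpU_chk.2.2.1).2
    _ hx1 _ (mpPt_mem 0)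
  have hinv : ∀ y z : ↥leechLattice, g1.1 y = z → g1⁻¹.1 z = y := by
    intro y z h
    rw [← h]
    show (g1⁻¹ * g1).1 y = y
    rw [inv_mul_cancel]
    rfl
  refine ⟨g2 * (g1⁻¹ * g0), ?_, ?_, h2x⟩
  · show g2.1 (g1⁻¹.1 (g0.1 u)) = mpU
    rw [h0u, hinv _ _ h1u, h2u]
  · show g2.1 (g1⁻¹.1 (g0.1 v)) = Spor.leechU
    rw [h0v, hinv _ _ h1v, h2v]

/-! ### the stabiliser of the standard triple -/

theorem u4range_eq : mpRho.range = M275 :=
  (Subgroup.eq_of_le_of_card_ge M275_le (by rw [range_card, M275_card])).symm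

/-- the stabiliser of the standard triple in the McLaughlin group -/
def u4Iota : u4Stab mpU Spor.leechU (mpPt 0) →* ↥Spor.McL where
  toFun g := ⟨g.1.1, mem_mcl_iff'.2 ⟨g.1.2, ((mem_u4Stab g.1).1 g.2).1, ((mem_u4Stab g.1).1 g.2).2.1⟩⟩
  map_one' := rfl
  map_mul' _ _ := rfl

theorem u4Iota_val (g : u4Stab mpU Spor.leechU (mpPt 0)) : (u4Iota g).1 = g.1.1 := rfl

/-- the action of the stabiliser on the 275 points -/
noncomputable def u4Act : u4Stab mpU Spor.leechU (mpPt 0) →* Equiv.Perm (Fin 275) :=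
  mpRho.comp u4Iota

theorem u4Act_injective : Function.Injective u4Act := by
  intro a b h
  have := mpRho_injective h
  apply Subtype.ext
  apply Subtype.ext
  have h2 := congrArg Subtype.val this
  rw [u4Iota_val, u4Iota_val] at h2
  exact h2

theorem u4Act_range : u4Act.range = H275 := by
  ext s
  rw [mem_H275_iff]
  constructor
  · rintro ⟨g, rfl⟩
    refine ⟨?_, ?_⟩
    · rw [← u4range_eq]
      exact ⟨u4Iota g, rfl⟩
    · apply mpPt_inj
      show mpPt (mpRho (u4Iota g) 0) = mpPt 0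
      rw [mpRho_apply, u4Iota_val]
      exact ((mem_u4Stab g.1).1 g.2).2.2
  · rintro ⟨h1, h2⟩
    rw [← u4range_eq] at h1
    obtain ⟨m, rfl⟩ := h1
    obtain ⟨hc, hmu, hmv⟩ := mem_mcl_iff'.1 m.2
    have hmx : m.1 (mpPt 0) = mpPt 0 := by
      rw [← mpRho_apply, h2]
    refine ⟨⟨⟨m.1, hc⟩, (mem_u4Stab _).2 ⟨hmu, hmv, hmx⟩⟩, ?_⟩
    show mpRho (u4Iota _) = mpRho m
    congr 1

/-- the stabiliser of the standard triple is the stabiliser of a point on 275 points -/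
noncomputable def u4StdEquiv : u4Stab mpU Spor.leechU (mpPt 0) ≃* H275 :=
  (MonoidHom.ofInjective u4Act_injective).trans (MulEquiv.subgroupCongr u4Act_range)

/-- the main theorem -/
theorem u4_main (u v x : ↥leechLattice) (hu : sqNorm u.1 = 48) (hv : sqNorm v.1 = 32)
    (huv : sqNorm (u - v).1 = 32) (hx : x ∈ mclX u v)
    (F : Type) [Field F] [Fintype F] (hF : Fintype.card F = 9) :
    Nonempty (↥(stabilizer ↥Co0 u ⊓ stabilizer ↥Co0 v ⊓ stabilizer ↥Co0 x) ≃* Cfsg.PSU 4 F 3) := by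
  obtain ⟨G, hGu, hGv, hGx⟩ := u4move u v x hu hv huv hx
  have hcard : Fintype.card F9 = Fintype.card F := by rw [hF, F9.card]
  let e : F9 ≃+* F := FiniteField.ringEquivOfCardEq hcard
  exact ⟨(((u4StabConj G hGu hGv hGx).trans u4StdEquiv).trans H275_equiv).trans (psuEquiv e 3)⟩

end Cfsg.Agent.Lib.helper23
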