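import Cfsg.Agent.Lib.helper23.U6eData
import Cfsg.Agent.Lib.helper23.PgX

set_option autoImplicit false
set_option maxRecDepth 1000000
set_option Elab.async false

namespace Cfsg.Agent.Lib.helper23

theorem u6ecl1x0c0 : pgChkGenW 5293 u6base u6eL1 [u6eL2, u6eL3, u6eL4, u6eL5]
    (u6egen u6eT1x0 u6eI1x0) 0 4600 = true := by decide +kernel

theorem u6ecl1x0c4600 : pgChkGenW 5293 u6base u6eL1 [u6eL2, u6eL3, u6eL4, u6eL5]
    (u6egen u6eT1x0 u6eI1x0) 4600 100 = true := by decide +kernel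

theorem u6ecl1x0c4700 : pgChkGenW 5293 u6base u6eL1 [u6eL2, u6eL3, u6eL4, u6eL5]
    (u6egen u6eT1x0 u6eI1x0) 4700 100 = true := by decide +kernel

theorem u6ecl1x0c4800 : pgChkGenW 5293 u6base u6eL1 [u6eL2, u6eL3, u6eL4, u6eL5]
    (u6egen u6eT1x0 u6eI1x0) 4800 100 = true := by decide +kernel

theorem u6ecl1x0c4900 : pgChkGenW 5293 u6base u6eL1 [u6eL2, u6eL3, u6eL4, u6eL5]
    (u6egen u6eT1x0 u6eI1x0) 4900 100 = true := by decide +kernel

theorem u6ecl1x0c5000 : pgChkGenW 5293 u6base u6eL1 [u6eL2, u6eL3, u6eL4, u6eL5]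
    (u6egen u6eT1x0 u6eI1x0) 5000 100 = true := by decide +kernel

theorem u6ecl1x0c5100 : pgChkGenW 5293 u6base u6eL1 [u6eL2, u6eL3, u6eL4, u6eL5]
    (u6egen u6eT1x0 u6eI1x0) 5100 100 = true := by decide +kernel

theorem u6ecl1x0c5200 : pgChkGenW 5293 u6base u6eL1 [u6eL2, u6eL3, u6eL4, u6eL5]
    (u6egen u6eT1x0 u6eI1x0) 5200 93 = true := by decide +kernel


end Cfsg.Agent.Lib.helper23
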