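import Cfsg.Agent.Lib.helper23.U6eData
import Cfsg.Agent.Lib.helper23.PgX

set_option autoImplicit false
set_option maxRecDepth 1000000
set_option Elab.async false

namespace Cfsg.Agent.Lib.helper23

theorem u6ecl2x0c0 : pgChkGenW 5293 u6base u6eL2 [u6eL3, u6eL4, u6eL5]
    (u6egen u6eT2x0 u6eI2x0) 0 4600 = true := by decide +kernel

theorem u6ecl2x0c4600 : pgChkGenW 5293 u6base u6eL2 [u6eL3, u6eL4, u6eL5]
    (u6egen u6eT2x0 u6eI2x0) 4600 140 = true := by decide +kernel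

theorem u6ecl2x0c4740 : pgChkGenW 5293 u6base u6eL2 [u6eL3, u6eL4, u6eL5]
    (u6egen u6eT2x0 u6eI2x0) 4740 140 = true := by decide +kernel

theorem u6ecl2x0c4880 : pgChkGenW 5293 u6base u6eL2 [u6eL3, u6eL4, u6eL5]
    (u6egen u6eT2x0 u6eI2x0) 4880 140 = true := by decide +kernel

theorem u6ecl2x0c5020 : pgChkGenW 5293 u6base u6eL2 [u6eL3, u6eL4, u6eL5]
    (u6egen u6eT2x0 u6eI2x0) 5020 140 = true := by decide +kernel

theorem u6ecl2x0c5160 : pgChkGenW 5293 u6base u6eL2 [u6eL3, u6eL4, u6eL5]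
    (u6egen u6eT2x0 u6eI2x0) 5160 133 = true := by decide +kernel

theorem u6ecl2x1c0 : pgChkGenW 5293 u6base u6eL2 [u6eL3, u6eL4, u6eL5]
    (u6egen u6eT2x1 u6eI2x1) 0 4600 = true := by decide +kernel

theorem u6ecl2x1c4600 : pgChkGenW 5293 u6base u6eL2 [u6eL3, u6eL4, u6eL5]
    (u6egen u6eT2x1 u6eI2x1) 4600 140 = true := by decide +kernel

theorem u6ecl2x1c4740 : pgChkGenW 5293 u6base u6eL2 [u6eL3, u6eL4, u6eL5]
    (u6egen u6eT2x1 u6eI2x1) 4740 140 = true := by decide +kernel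

theorem u6ecl2x1c4880 : pgChkGenW 5293 u6base u6eL2 [u6eL3, u6eL4, u6eL5]
    (u6egen u6eT2x1 u6eI2x1) 4880 140 = true := by decide +kernel

theorem u6ecl2x1c5020 : pgChkGenW 5293 u6base u6eL2 [u6eL3, u6eL4, u6eL5]
    (u6egen u6eT2x1 u6eI2x1) 5020 140 = true := by decide +kernel

theorem u6ecl2x1c5160 : pgChkGenW 5293 u6base u6eL2 [u6eL3, u6eL4, u6eL5]
    (u6egen u6eT2x1 u6eI2x1) 5160 133 = true := by decide +kernel


end Cfsg.Agent.Lib.helper23
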