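import Cfsg.Agent.Lib.helper23.U6eData
import Cfsg.Agent.Lib.helper23.PgX

set_option autoImplicit false
set_option maxRecDepth 1000000
set_option Elab.async false

namespace Cfsg.Agent.Lib.helper23

theorem u6ecl3x0 : pgChkGenW 5293 u6base u6eL3 [u6eL4, u6eL5]
    (u6egen u6eT3x0 u6eI3x0) 0 5293 = true := by decide +kernel

theorem u6ecl3x1 : pgChkGenW 5293 u6base u6eL3 [u6eL4, u6eL5]
    (u6egen u6eT3x1 u6eI3x1) 0 5293 = true := by decide +kernel

theorem u6ecl4x0 : pgChkGenW 5293 u6base u6eL4 [u6eL5]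
    (u6egen u6eT4x0 u6eI4x0) 0 5293 = true := by decide +kernel

theorem u6ecl4x1 : pgChkGenW 5293 u6base u6eL4 [u6eL5]
    (u6egen u6eT4x1 u6eI4x1) 0 5293 = true := by decide +kernel

theorem u6ecl5x0 : pgChkGenW 5293 u6base u6eL5 []
    (u6egen u6eT5x0 u6eI5x0) 0 5293 = true := by decide +kernel

theorem u6ecl5x1 : pgChkGenW 5293 u6base u6eL5 []
    (u6egen u6eT5x1 u6eI5x1) 0 5293 = true := by decide +kernel


end Cfsg.Agent.Lib.helper23
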