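import Cfsg.Agent.Lib.helper23.U6eChk0
import Cfsg.Agent.Lib.helper23.U6eChk1p0
import Cfsg.Agent.Lib.helper23.U6eChk1p1
import Cfsg.Agent.Lib.helper23.U6eChk2p0
import Cfsg.Agent.Lib.helper23.U6eChkS

set_option autoImplicit false
set_option maxRecDepth 1000000
set_option Elab.async false

namespace Cfsg.Agent.Lib.helper23

open Subgroup MulAction

/-!
# The unitary group of degree 6 over 4 elements on 4600 + 693 points: the checks of the stabiliser chain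
-/

theorem u6ecl1x0 : pgChkGenW 5293 u6base u6eL1 [u6eL2, u6eL3, u6eL4, u6eL5]
    (u6egen u6eT1x0 u6eI1x0) 0 5293 = true :=
  pgChkGenW_append (lo := 0) (c1 := 5200) (c2 := 93) (pgChkGenW_append (lo := 0) (c1 := 5100) (c2 := 100) (pgChkGenW_append (lo := 0) (c1 := 5000) (c2 := 100) (pgChkGenW_append (lo := 0) (c1 := 4900) (c2 := 100) (pgChkGenW_append (lo := 0) (c1 := 4800) (c2 := 100) (pgChkGenW_append (lo := 0) (c1 := 4700) (c2 := 100) (pgChkGenW_append (lo := 0) (c1 := 4600) (c2 := 100) (u6ecl1x0c0) u6ecl1x0c4600) u6ecl1x0c4700) u6ecl1x0c4800) u6ecl1x0c4900) u6ecl1x0c5000) u6ecl1x0c5100) u6ecl1x0c5200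

theorem u6ecl1x1 : pgChkGenW 5293 u6base u6eL1 [u6eL2, u6eL3, u6eL4, u6eL5]
    (u6egen u6eT1x1 u6eI1x1) 0 5293 = true :=
  pgChkGenW_append (lo := 0) (c1 := 5200) (c2 := 93) (pgChkGenW_append (lo := 0) (c1 := 5100) (c2 := 100) (pgChkGenW_append (lo := 0) (c1 := 5000) (c2 := 100) (pgChkGenW_append (lo := 0) (c1 := 4900) (c2 := 100) (pgChkGenW_append (lo := 0) (c1 := 4800) (c2 := 100) (pgChkGenW_append (lo := 0) (c1 := 4700) (c2 := 100) (pgChkGenW_append (lo := 0) (c1 := 4600) (c2 := 100) (u6ecl1x1c0) u6ecl1x1c4600) u6ecl1x1c4700) u6ecl1x1c4800) u6ecl1x1c4900) u6ecl1x1c5000) u6ecl1x1c5100) u6ecl1x1c5200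

theorem u6ecl2x0 : pgChkGenW 5293 u6base u6eL2 [u6eL3, u6eL4, u6eL5]
    (u6egen u6eT2x0 u6eI2x0) 0 5293 = true :=
  pgChkGenW_append (lo := 0) (c1 := 5160) (c2 := 133) (pgChkGenW_append (lo := 0) (c1 := 5020) (c2 := 140) (pgChkGenW_append (lo := 0) (c1 := 4880) (c2 := 140) (pgChkGenW_append (lo := 0) (c1 := 4740) (c2 := 140) (pgChkGenW_append (lo := 0) (c1 := 4600) (c2 := 140) (u6ecl2x0c0) u6ecl2x0c4600) u6ecl2x0c4740) u6ecl2x0c4880) u6ecl2x0c5020) u6ecl2x0c5160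

theorem u6ecl2x1 : pgChkGenW 5293 u6base u6eL2 [u6eL3, u6eL4, u6eL5]
    (u6egen u6eT2x1 u6eI2x1) 0 5293 = true :=
  pgChkGenW_append (lo := 0) (c1 := 5160) (c2 := 133) (pgChkGenW_append (lo := 0) (c1 := 5020) (c2 := 140) (pgChkGenW_append (lo := 0) (c1 := 4880) (c2 := 140) (pgChkGenW_append (lo := 0) (c1 := 4740) (c2 := 140) (pgChkGenW_append (lo := 0) (c1 := 4600) (c2 := 140) (u6ecl2x1c0) u6ecl2x1c4600) u6ecl2x1c4740) u6ecl2x1c4880) u6ecl2x1c5020) u6ecl2x1c5160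

theorem u6echkL5 : pgChkLvlW 5293 u6base u6eL5 [] = true := by
  apply pgChkLvlW_ofAllX u6echk0x5
  intro s hs
  change s ∈ [u6egen u6eT5x0 u6eI5x0, u6egen u6eT5x1 u6eI5x1] at hs
  simp only [List.mem_cons, List.not_mem_nil, or_false] at hs
  rcases hs with rfl | rfl
  · exact u6ecl5x0
  · exact u6ecl5x1

theorem u6echkL4 : pgChkLvlW 5293 u6base u6eL4 [u6eL5] = true := by
  apply pgChkLvlW_ofAllX u6echk0x4
  intro s hs
  change s ∈ [u6egen u6eT4x0 u6eI4x0, u6egen u6eT4x1 u6eI4x1] at hs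
  simp only [List.mem_cons, List.not_mem_nil, or_false] at hs
  rcases hs with rfl | rfl
  · exact u6ecl4x0
  · exact u6ecl4x1

theorem u6echkL3 : pgChkLvlW 5293 u6base u6eL3 [u6eL4, u6eL5] = true := by
  apply pgChkLvlW_ofAllX u6echk0x3
  intro s hs
  change s ∈ [u6egen u6eT3x0 u6eI3x0, u6egen u6eT3x1 u6eI3x1] at hs
  simp only [List.mem_cons, List.not_mem_nil, or_false] at hs
  rcases hs with rfl | rfl
  · exact u6ecl3x0
  · exact u6ecl3x1

theorem u6echkL2 : pgChkLvlW 5293 u6base u6eL2 [u6eL3, u6eL4, u6eL5] = true := by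
  apply pgChkLvlW_ofAllX u6echk0x2
  intro s hs
  change s ∈ [u6egen u6eT2x0 u6eI2x0, u6egen u6eT2x1 u6eI2x1] at hs
  simp only [List.mem_cons, List.not_mem_nil, or_false] at hs
  rcases hs with rfl | rfl
  · exact u6ecl2x0
  · exact u6ecl2x1

theorem u6echkL1 : pgChkLvlW 5293 u6base u6eL1 [u6eL2, u6eL3, u6eL4, u6eL5] = true := by
  apply pgChkLvlW_ofAllX u6echk0x1
  intro s hs
  change s ∈ [u6egen u6eT1x0 u6eI1x0, u6egen u6eT1x1 u6eI1x1] at hs
  simp only [List.mem_cons, List.not_mem_nil, or_false] at hs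
  rcases hs with rfl | rfl
  · exact u6ecl1x0
  · exact u6ecl1x1

/-- the stabiliser chain -/
def u6eC : List PgLvlW := [u6eL1, u6eL2, u6eL3, u6eL4, u6eL5]

theorem u6echkC : pgChkW 5293 u6base u6eC = true := by
  change pgChkW 5293 u6base [u6eL1, u6eL2, u6eL3, u6eL4, u6eL5] = true
  rw [pgChkW_cons, pgChkW_cons, pgChkW_cons, pgChkW_cons, pgChkW_cons, u6echkL1, u6echkL2, u6echkL3, u6echkL4, u6echkL5]
  rfl

end Cfsg.Agent.Lib.helper23
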