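import Cfsg.Agent.Lib.helper14.MSf
import Cfsg.Agent.Lib.helper23.U6pChk
import Cfsg.Agent.Lib.helper23.U6eChk
import Cfsg.Agent.Lib.helper23.Pg4
import Cfsg.Agent.Lib.helper23.PgY

set_option autoImplicit false
set_option maxRecDepth 1000000
set_option Elab.async false

/-!
# The unitary group of degree 6 over 4 elements: the checks
-/

namespace Cfsg.Agent.Lib.helper23

open Cfsg.Agent.Lib.helper14.MS Cfsg.Agent.Lib.helper14.PV Matrix

/-! ### the isotropic points and the generators -/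

theorem u6vchk : pg4ChkVecs 693 6 u6V = true := by decide +kernel

theorem u6pts1 : pg4ChkPts 6 u6MA u6V (u6pgen u6pT1x0 u6pI1x0).f u6CR1 u6CI1 693 0 693 = true := by
  decide +kernel

theorem u6pts2 : pg4ChkPts 6 u6MB u6V (u6pgen u6pT1x1 u6pI1x1).f u6CR2 u6CI2 693 0 693 = true := by
  decide +kernel

/-! ### the orders -/

theorem u6pord : pgOrdW 693 u6pC = 9196830720 := by decide +kernel

theorem u6eord : pgOrdW 5293 u6eC = 9196830720 := by decide +kernel

/-- the chain of the stabiliser of a point on 4600 points -/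
def u6hC : List PgLvlW := [mscL2, mscL3, mscL4, mscL5]

theorem u6hord : pgOrdW 4600 u6hC = 9196830720 := by decide +kernel

theorem u6hall : pgAll 4600 (fun z => mscL1.inO z) = true := by decide +kernel

/-! ### the blocks of the diagonal group -/

theorem u6eblk1 : pgChkBlk 4600 0 u6eL1.own = true := by decide +kernel

theorem u6eblk2 : pgChkBlk 693 4600 u6eL1.own = true := by decide +kernel

theorem u6etab1 : ∀ i : Fin 4600, u6elk u6eT1x0 (0 + i.1) = mslk u6TA i.1 ∧
    u6elk u6eT1x1 (0 + i.1) = mslk u6TB i.1 := by decide +kernel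

theorem u6etab2 : ∀ i : Fin 693, u6elk u6eT1x0 (4600 + i.1) = 4600 + u6plk u6pT1x0 i.1 ∧
    u6elk u6eT1x1 (4600 + i.1) = 4600 + u6plk u6pT1x1 i.1 := by decide +kernel

/-! ### the generators on 4600 points -/

/-- the first generator on 4600 points -/
def u6PA : PFun := msgen u6TA u6IA

/-- the second generator on 4600 points -/
def u6PB : PFun := msgen u6TB u6IB

theorem u6PAok : u6PA.ok 4600 = true := by decide +kernel

theorem u6PBok : u6PB.ok 4600 = true := by decide +kernel

theorem u6siftA : pgSiftW 4600 (List.range 4600) u6hC u6PA.f = true := by decide +kernel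

theorem u6siftB : pgSiftW 4600 (List.range 4600) u6hC u6PB.f = true := by decide +kernel

theorem u6PAne : Nat.beq (u6PA.f 1) 1 = false := by decide +kernel

/-! ### the matrices -/

/-- the matrix of a packed matrix -/
def u6Mat (T : ℕ) : Matrix (Fin 6) (Fin 6) GF4 := fun i j =>
  pg4El (pgDig T (2 * (6 * i.1 + j.1))) (pgDig T (2 * (6 * i.1 + j.1) + 1))

/-- the unitarity of a matrix, entry by entry -/
def u6IsU (A : Matrix (Fin 6) (Fin 6) GF4) : Prop :=
  ∀ i j : Fin 6, A 0 i * A 0 j ^ 2 + A 1 i * A 1 j ^ 2 + A 2 i * A 2 j ^ 2 + A 3 i * A 3 j ^ 2 +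
    A 4 i * A 4 j ^ 2 + A 5 i * A 5 j ^ 2 = if i = j then 1 else 0

instance (A : Matrix (Fin 6) (Fin 6) GF4) : Decidable (u6IsU A) := by
  unfold u6IsU
  infer_instance

theorem u6unitA : u6IsU (u6Mat u6MA) := by decide +kernel

theorem u6unitB : u6IsU (u6Mat u6MB) := by decide +kernel

theorem u6unitZ : u6IsU (u6Mat u6MZ) := by decide +kernel

/-- the product of two matrices, written out -/
def u6mul (A B : Matrix (Fin 6) (Fin 6) GF4) : Matrix (Fin 6) (Fin 6) GF4 := fun i j =>
  A i 0 * B 0 j + A i 1 * B 1 j + A i 2 * B 2 j + A i 3 * B 3 j + A i 4 * B 4 j + A i 5 * B 5 j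

theorem u6mul_eq (A B : Matrix (Fin 6) (Fin 6) GF4) : u6mul A B = A * B := by
  apply Matrix.ext
  intro i j
  rw [Matrix.mul_apply, Fin.sum_univ_six]
  rfl

/-- a matrix is a scalar matrix, entry by entry -/
def u6IsScalF (c : GF4) (M : Fin 6 → Fin 6 → GF4) : Prop :=
  ∀ i j : Fin 6, M i j = if i = j then c else 0

instance u6IsScalF.dec (c : GF4) (M : Fin 6 → Fin 6 → GF4) : Decidable (u6IsScalF c M) := by
  unfold u6IsScalF
  infer_instance

/-- a matrix is a scalar matrix -/
def u6IsScal (c : GF4) (M : Matrix (Fin 6) (Fin 6) GF4) : Prop := u6IsScalF c M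

instance (c : GF4) (M : Matrix (Fin 6) (Fin 6) GF4) : Decidable (u6IsScal c M) :=
  u6IsScalF.dec c M

theorem u6sqA' : u6IsScal 1 (u6mul (u6Mat u6MA) (u6Mat u6MA)) := by decide +kernel

theorem u6sqA : ∀ i j : Fin 6, u6mul (u6Mat u6MA) (u6Mat u6MA) i j =
    (if i = j then (1 : GF4) else 0) := u6sqA'

/-- the square of the second matrix -/
def u6MB2 : Matrix (Fin 6) (Fin 6) GF4 := u6mul (u6Mat u6MB) (u6Mat u6MB)

/-- the fourth power of the second matrix -/
def u6MB4 : Matrix (Fin 6) (Fin 6) GF4 := u6mul u6MB2 u6MB2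

/-- the eighth power of the second matrix -/
def u6MB8 : Matrix (Fin 6) (Fin 6) GF4 := u6mul u6MB4 u6MB4

theorem u6powB' : u6IsScal 1 (u6mul u6MB8 (u6mul u6MB2 (u6Mat u6MB))) := by decide +kernel

theorem u6powB : ∀ i j : Fin 6, u6mul u6MB8 (u6mul u6MB2 (u6Mat u6MB)) i j =
    (if i = j then (1 : GF4) else 0) := u6powB'

/-- the scalar matrix -/
theorem u6MZ_scal : u6IsScal (pg4El 0 1) (u6Mat u6MZ) := by decide +kernel

theorem u6MZ_eq : ∀ i j : Fin 6, u6Mat u6MZ i j = (if i = j then (pg4El 0 1 : GF4) else 0) :=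
  u6MZ_scal

theorem u6Z_pow : (pg4El 0 1 : GF4) ≠ 1 ∧ (pg4El 0 1 : GF4) ^ 3 = 1 := by decide +kernel

theorem u6gf4_sq : ∀ x : GF4, x ^ 2 = 1 → x = 1 := by decide +kernel

theorem u6gf4_p11 : ∀ x : GF4, x ^ 11 = 1 → x = 1 := by decide +kernel

theorem u6gf4_frob : ∀ x : GF4, x ^ 4 = x := by decide +kernel

end Cfsg.Agent.Lib.helper23
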