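import Cfsg.Agent.Lib.helper23.U6B
import Cfsg.Agent.Lib.helper23.PgY
import Cfsg.Agent.S0283

set_option autoImplicit false
set_option maxRecDepth 1000000
set_option Elab.async false

/-!
# The stabiliser of a point in the second Conway group on 4600 points is the unitary group of
degree 6 over 4 elements
-/

namespace Cfsg.Agent.Lib.helper23

open Cfsg.Agent.Lib.helper14.MS Cfsg.Agent.Lib.helper14.PV Subgroup MulAction

/-! ### the stabiliser of a point on 4600 points -/

/-- the stabiliser of the first point -/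
abbrev H4600 : Subgroup (Equiv.Perm (Fin 4600)) := pgGrpW 4600 u6hC

theorem u6mschk0 : pgChk0W 4600 (mscL1 :: u6hC) = true := mschk0

theorem u6hchk0 : pgChk0W 4600 u6hC = true := by
  have h := u6mschk0
  rw [pgChk0W_cons, Bool.and_eq_true] at h
  exact h.2

theorem u6msvalid : PgValidW 4600 (mscL1 :: u6hC) := msvalid

theorem u6hvalid : PgValidW 4600 u6hC := u6msvalid.2.2.2

theorem u6msb : mscL1.b = 0 := rfl

theorem u6G_card : Nat.card (pgGrpW 4600 (mscL1 :: u6hC)) = 42305421312000 := by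
  have := msvalid_card.2
  rw [msord] at this
  exact this

theorem u6G_eq : pgGrpW 4600 (mscL1 :: u6hC) = M4600 := M4600_eq.symm

theorem H4600_card : Nat.card H4600 = 9196830720 := by
  obtain ⟨hb, hle, hfix, horb⟩ := pgLvl_facts (n := 4600) (L := mscL1) (C := u6hC) u6mschk0
  have hge := pgCardW_ge u6hC u6hchk0
  rw [u6hord] at hge
  have hcard := card_eq_stab_mul_orbit (pgGrpW 4600 (mscL1 :: u6hC)) (⟨mscL1.b, hb⟩ : Fin 4600)
  have horbit : (orbit (pgGrpW 4600 (mscL1 :: u6hC)) (⟨mscL1.b, hb⟩ : Fin 4600)).ncard = 4600 := by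
    have : orbit (pgGrpW 4600 (mscL1 :: u6hC)) (⟨mscL1.b, hb⟩ : Fin 4600) = Set.univ := by
      ext z
      simp only [Set.mem_univ, iff_true]
      obtain ⟨g, hg, hgz⟩ := horb z ((pgAll_iff _ _).1 u6hall z.1 z.2)
      exact ⟨⟨g, hg⟩, hgz⟩
    rw [this, Set.ncard_univ, Nat.card_fin]
  rw [u6G_card, horbit] at hcard
  have hinj := Nat.card_le_card_of_injective _
    (toStab_injective (⟨mscL1.b, hb⟩ : Fin 4600) hle hfix)
  change Nat.card H4600 ≤ _ at hinj
  generalize Nat.card (stabilizer (pgGrpW 4600 (mscL1 :: u6hC)) (⟨mscL1.b, hb⟩ : Fin 4600)) = s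
    at hcard hinj
  generalize Nat.card H4600 = c at hge hinj ⊢
  omega

theorem mem_H4600_iff (g : Equiv.Perm (Fin 4600)) : g ∈ H4600 ↔ g ∈ M4600 ∧ g 0 = 0 := by
  obtain ⟨hb, hle, hfix, -⟩ := pgLvl_facts (n := 4600) (L := mscL1) (C := u6hC) u6mschk0
  have h0 : (⟨mscL1.b, hb⟩ : Fin 4600) = 0 := Fin.ext rfl
  rw [← u6G_eq]
  constructor
  · intro h
    refine ⟨hle h, ?_⟩
    have := hfix g h
    rw [h0] at this
    exact this
  · rintro ⟨h1, h2⟩
    apply u6msvalid.2.2.1 g h1 hb
    rw [h0]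
    exact h2

/-- only the identity of the stabiliser fixes the four further base points -/
theorem u6h_rigid (g : Equiv.Perm (Fin 4600)) (hg : g ∈ H4600) (h1 : g 556 = 556)
    (h2 : g 562 = 562) (h3 : g 613 = 613) (h4 : g 1 = 1) : g = 1 := by
  have v2 : PgValidW 4600 (mscL2 :: [mscL3, mscL4, mscL5]) := u6hvalid
  have g3 : g ∈ pgGrpW 4600 [mscL3, mscL4, mscL5] :=
    v2.2.2.1 g hg (by decide) (by rw [show (⟨mscL2.b, by decide⟩ : Fin 4600) = 556 from Fin.ext rfl]; exact h1)
  have v3 : PgValidW 4600 (mscL3 :: [mscL4, mscL5]) := v2.2.2.2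
  have g4 : g ∈ pgGrpW 4600 [mscL4, mscL5] :=
    v3.2.2.1 g g3 (by decide) (by rw [show (⟨mscL3.b, by decide⟩ : Fin 4600) = 562 from Fin.ext rfl]; exact h2)
  have v4 : PgValidW 4600 (mscL4 :: [mscL5]) := v3.2.2.2
  have g5 : g ∈ pgGrpW 4600 [mscL5] :=
    v4.2.2.1 g g4 (by decide) (by rw [show (⟨mscL4.b, by decide⟩ : Fin 4600) = 613 from Fin.ext rfl]; exact h3)
  have v5 : PgValidW 4600 (mscL5 :: []) := v4.2.2.2
  have g6 : g ∈ pgGrpW 4600 [] :=
    v5.2.2.1 g g5 (by decide) (by rw [show (⟨mscL5.b, by decide⟩ : Fin 4600) = 1 from Fin.ext rfl]; exact h4)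
  rw [pgGrpW_nil, Subgroup.mem_bot] at g6
  exact g6

/-! ### the generators on 4600 points -/

theorem u6PA_mem : u6PA.perm 4600 ∈ H4600 :=
  pgSiftW_sound' u6hC u6hchk0 u6PA.f (u6PA.perm 4600)
    (fun p => (PFun.perm_apply u6PAok p).symm) u6siftA

theorem u6PB_mem : u6PB.perm 4600 ∈ H4600 :=
  pgSiftW_sound' u6hC u6hchk0 u6PB.f (u6PB.perm 4600)
    (fun p => (PFun.perm_apply u6PBok p).symm) u6siftB

/-! ### the ambient group of the diagonal group -/

/-- the first 4600 of the 5293 points -/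
def u6blk (i : Fin 4600) : Fin 5293 := pgBlk 5293 4600 0 (by norm_num) i

theorem u6blk_val (i : Fin 4600) : (u6blk i).1 = 0 + i.1 := rfl

theorem u6blk_injective : Function.Injective u6blk := pgBlk_injective 5293 4600 0 (by norm_num)

/-- the permutations acting on the first 4600 points as an element of the stabiliser -/
def u6Amb : Subgroup (Equiv.Perm (Fin 5293)) where
  carrier := {g | ∃ h ∈ H4600, ∀ i : Fin 4600, g (u6blk i) = u6blk (h i)}
  mul_mem' := by
    rintro a b ⟨h, hh, ha⟩ ⟨k, hk, hb⟩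
    refine ⟨h * k, mul_mem hh hk, fun i => ?_⟩
    rw [Equiv.Perm.mul_apply, hb, ha]
    rfl
  one_mem' := ⟨1, one_mem _, fun i => rfl⟩
  inv_mem' := by
    rintro a ⟨h, hh, ha⟩
    refine ⟨h⁻¹, inv_mem hh, fun i => ?_⟩
    rw [Equiv.Perm.inv_eq_iff_eq, ha, Equiv.Perm.inv_def, Equiv.apply_symm_apply]

theorem u6base_mem (k : ℕ) (hk : k < 693) : 4600 + k ∈ u6base := by
  unfold u6base
  simp only [List.mem_cons, List.mem_map, List.mem_range]
  right; right; right; right
  exact ⟨k, hk, rfl⟩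

/-- the ambient group with its base -/
def u6R : PgRigid 5293 where
  A := u6Amb
  base := u6base
  rigid := by
    rintro g ⟨h, hh, hg⟩ hfix
    have hb : ∀ i : Fin 4600, i.1 ∈ u6base → h i = i := by
      intro i hi
      apply u6blk_injective
      rw [← hg i]
      have := hfix i.1 hi (by have := i.2; omega)
      have e : (⟨i.1, by have := i.2; omega⟩ : Fin 5293) = u6blk i := by
        apply Fin.ext
        rw [u6blk_val]
        exact (Nat.zero_add _).symm
      rw [e] at this
      exact this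
    have h1 : h = 1 := by
      apply u6h_rigid h hh
      · exact hb 556 (by unfold u6base; simp)
      · exact hb 562 (by unfold u6base; simp)
      · exact hb 613 (by unfold u6base; simp)
      · exact hb 1 (by unfold u6base; simp)
    ext x
    by_cases hx : x.1 < 4600
    · have e : x = u6blk ⟨x.1, hx⟩ := by
        apply Fin.ext
        rw [u6blk_val]
        exact (Nat.zero_add _).symm
      rw [e, hg, h1]
      rfl
    · have hx2 : x.1 < 5293 := x.2
      have hm := u6base_mem (x.1 - 4600) (by omega)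
      have e : 4600 + (x.1 - 4600) = x.1 := by omega
      rw [e] at hm
      have := hfix x.1 hm x.2
      rw [this]
      rfl

/-! ### the diagonal group on 4600 + 693 points -/

/-- the diagonal group -/
abbrev E5293 : Subgroup (Equiv.Perm (Fin 5293)) := Subgroup.closure (pgSet 5293 u6eL1.own)

theorem E5293_eq : E5293 = pgGrpW 5293 u6eC := rfl

theorem u6eown : u6eL1.own = [u6egen u6eT1x0 u6eI1x0, u6egen u6eT1x1 u6eI1x1] := rfl

theorem u6emem0 : u6egen u6eT1x0 u6eI1x0 ∈ u6eL1.own := by rw [u6eown]; simp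

theorem u6emem1 : u6egen u6eT1x1 u6eI1x1 ∈ u6eL1.own := by rw [u6eown]; simp

theorem u6echkC' : pgChkW 5293 u6R.base u6eC = true := u6echkC

theorem u6eok : ∀ P ∈ u6eL1.own, P.ok 5293 = true :=
  pgChkW_own_ok 5293 u6R.base u6eC u6echkC'

theorem u6egenA_mem : (u6egen u6eT1x0 u6eI1x0).perm 5293 ∈ u6Amb := by
  refine ⟨u6PA.perm 4600, u6PA_mem, fun i => ?_⟩
  apply Fin.ext
  rw [PFun.perm_apply (u6eok _ u6emem0), u6blk_val, u6blk_val, PFun.perm_apply u6PAok]
  have := (u6etab1 i).1
  change u6elk u6eT1x0 (0 + i.1) = 0 + mslk u6TA i.1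
  omega

theorem u6egenB_mem : (u6egen u6eT1x1 u6eI1x1).perm 5293 ∈ u6Amb := by
  refine ⟨u6PB.perm 4600, u6PB_mem, fun i => ?_⟩
  apply Fin.ext
  rw [PFun.perm_apply (u6eok _ u6emem1), u6blk_val, u6blk_val, PFun.perm_apply u6PBok]
  have := (u6etab1 i).2
  change u6elk u6eT1x1 (0 + i.1) = 0 + mslk u6TB i.1
  omega

theorem u6eA : pgGrpW 5293 u6eC ≤ u6R.A := by
  change Subgroup.closure (pgSet 5293 u6eL1.own) ≤ u6Amb
  rw [Subgroup.closure_le]
  rintro _ ⟨P, hP, rfl⟩
  rw [u6eown] at hP
  simp only [List.mem_cons, List.not_mem_nil, or_false] at hP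
  rcases hP with rfl | rfl
  · exact u6egenA_mem
  · exact u6egenB_mem

theorem E5293_card : Nat.card E5293 = 9196830720 := by
  rw [E5293_eq, pgCardW u6R u6eC u6echkC' u6eA, u6eord]

instance : Finite E5293 := Nat.finite_of_card_ne_zero (by rw [E5293_card]; norm_num)

/-! ### the restriction to the last 693 points -/

/-- the restriction to the last 693 points -/
noncomputable def u6res2 : E5293 →* Equiv.Perm (Fin 693) :=
  pgBlkHom (n := 5293) (m := 693) (off := 4600) (by norm_num) u6eok u6eblk2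

theorem u6res2_gen0 :
    u6res2 ⟨(u6egen u6eT1x0 u6eI1x0).perm 5293, Subgroup.subset_closure ⟨_, u6emem0, rfl⟩⟩ =
      (u6pgen u6pT1x0 u6pI1x0).perm 693 := by
  ext i
  have h := pgBlkHom_gen (n := 5293) (m := 693) (off := 4600) (by norm_num) u6eok u6eblk2 _
    u6emem0 i
  change 4600 + (u6res2 _ i).1 = u6elk u6eT1x0 (4600 + i.1) at h
  rw [PFun.perm_apply (u6pok _ u6pmem0)]
  have := (u6etab2 i).1
  change (u6res2 _ i).1 = u6plk u6pT1x0 i.1
  omega

theorem u6res2_gen1 :
    u6res2 ⟨(u6egen u6eT1x1 u6eI1x1).perm 5293, Subgroup.subset_closure ⟨_, u6emem1, rfl⟩⟩ =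
      (u6pgen u6pT1x1 u6pI1x1).perm 693 := by
  ext i
  have h := pgBlkHom_gen (n := 5293) (m := 693) (off := 4600) (by norm_num) u6eok u6eblk2 _
    u6emem1 i
  change 4600 + (u6res2 _ i).1 = u6elk u6eT1x1 (4600 + i.1) at h
  rw [PFun.perm_apply (u6pok _ u6pmem1)]
  have := (u6etab2 i).2
  change (u6res2 _ i).1 = u6plk u6pT1x1 i.1
  omega

theorem u6res2_range : u6res2.range = P693 := by
  change _ = Subgroup.closure (pgSet 693 u6pL1.own)
  apply pgBlkHom_range
  · intro P hP
    rw [u6eown] at hP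
    simp only [List.mem_cons, List.not_mem_nil, or_false] at hP
    rcases hP with rfl | rfl
    · exact ⟨_, u6pmem0, u6res2_gen0⟩
    · exact ⟨_, u6pmem1, u6res2_gen1⟩
  · rintro _ ⟨Q, hQ, rfl⟩
    rw [u6pown] at hQ
    simp only [List.mem_cons, List.not_mem_nil, or_false] at hQ
    rcases hQ with rfl | rfl
    · exact ⟨_, u6emem0, u6res2_gen0⟩
    · exact ⟨_, u6emem1, u6res2_gen1⟩

/-- the diagonal group is the group on 693 points -/
noncomputable def E5293_equiv2 : E5293 ≃* P693 :=
  pgEquivOfRange u6res2 _ u6res2_range (by rw [E5293_card, P693_card])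

/-- the diagonal group is the projective special unitary group -/
noncomputable def E5293_psu : E5293 ≃* Cfsg.PSU 6 GF4 2 := E5293_equiv2.trans u6PsuEquiv.symm

instance E5293_simple : IsSimpleGroup E5293 :=
  haveI : IsSimpleGroup (Cfsg.PSU 6 GF4 2) :=
    Cfsg.Agent.S0283.result f4card' 6 (by norm_num) (by omega)
  MulEquiv.isSimpleGroup E5293_psu

/-! ### the restriction to the first 4600 points -/

/-- the restriction to the first 4600 points -/
noncomputable def u6res1 : E5293 →* Equiv.Perm (Fin 4600) :=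
  pgBlkHom (n := 5293) (m := 4600) (off := 0) (by norm_num) u6eok u6eblk1

theorem u6res1_gen0 :
    u6res1 ⟨(u6egen u6eT1x0 u6eI1x0).perm 5293, Subgroup.subset_closure ⟨_, u6emem0, rfl⟩⟩ =
      u6PA.perm 4600 := by
  ext i
  have h := pgBlkHom_gen (n := 5293) (m := 4600) (off := 0) (by norm_num) u6eok u6eblk1 _
    u6emem0 i
  rw [Nat.zero_add] at h
  change (u6res1 _ i).1 = _ at h
  rw [h, PFun.perm_apply u6PAok]
  exact (u6etab1 i).1

theorem u6res1_gen1 :
    u6res1 ⟨(u6egen u6eT1x1 u6eI1x1).perm 5293, Subgroup.subset_closure ⟨_, u6emem1, rfl⟩⟩ =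
      u6PB.perm 4600 := by
  ext i
  have h := pgBlkHom_gen (n := 5293) (m := 4600) (off := 0) (by norm_num) u6eok u6eblk1 _
    u6emem1 i
  rw [Nat.zero_add] at h
  change (u6res1 _ i).1 = _ at h
  rw [h, PFun.perm_apply u6PBok]
  exact (u6etab1 i).2

theorem u6res1_range_le : u6res1.range ≤ H4600 := by
  have h : u6res1.range = Subgroup.closure ({u6PA.perm 4600, u6PB.perm 4600} :
      Set (Equiv.Perm (Fin 4600))) := by
    apply pgBlkHom_range
    · intro P hP
      rw [u6eown] at hP
      simp only [List.mem_cons, List.not_mem_nil, or_false] at hP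
      rcases hP with rfl | rfl
      · exact Or.inl u6res1_gen0
      · exact Or.inr u6res1_gen1
    · intro s hs
      simp only [Set.mem_insert_iff, Set.mem_singleton_iff] at hs
      rcases hs with rfl | rfl
      · exact ⟨_, u6emem0, u6res1_gen0⟩
      · exact ⟨_, u6emem1, u6res1_gen1⟩
  rw [h, Subgroup.closure_le]
  intro s hs
  simp only [Set.mem_insert_iff, Set.mem_singleton_iff] at hs
  rcases hs with rfl | rfl
  · exact u6PA_mem
  · exact u6PB_mem

theorem u6PA_ne_one : u6PA.perm 4600 ≠ 1 := by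
  intro h
  have h1 := congrArg (fun s : Equiv.Perm (Fin 4600) => (s 1).1) h
  simp only [Equiv.Perm.one_apply] at h1
  rw [PFun.perm_apply u6PAok] at h1
  have h2 := u6PAne
  change Nat.beq (u6PA.f 1) 1 = false at h2
  have h3 : u6PA.f 1 = 1 := h1
  rw [h3] at h2
  simp at h2

theorem u6res1_injective : Function.Injective u6res1 := by
  rw [← MonoidHom.ker_eq_bot_iff]
  rcases (inferInstance : u6res1.ker.Normal).eq_bot_or_eq_top with h | h
  · exact h
  · exfalso
    have hm : (⟨(u6egen u6eT1x0 u6eI1x0).perm 5293,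
        Subgroup.subset_closure ⟨_, u6emem0, rfl⟩⟩ : E5293) ∈ u6res1.ker := by
      rw [h]
      exact Subgroup.mem_top _
    rw [MonoidHom.mem_ker, u6res1_gen0] at hm
    exact u6PA_ne_one hm

theorem u6res1_range : u6res1.range = H4600 := by
  apply Subgroup.eq_of_le_of_card_ge u6res1_range_le
  rw [H4600_card, ← Nat.card_congr (MonoidHom.ofInjective u6res1_injective).toEquiv, E5293_card]

/-- the stabiliser is the projective special unitary group -/
noncomputable def H4600_equiv : H4600 ≃* Cfsg.PSU 6 GF4 2 :=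
  (((MonoidHom.ofInjective u6res1_injective).trans
    (MulEquiv.subgroupCongr u6res1_range)).symm).trans E5293_psu

end Cfsg.Agent.Lib.helper23
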