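import Cfsg.Agent.Lib.helper23.U6C
import Cfsg.Agent.Lib.helper23.SUTr
import Cfsg.Agent.Lib.Lead.ConwayHex

set_option autoImplicit false
set_option maxRecDepth 1000000
set_option Elab.async false

/-!
# The stabiliser of two minimal vectors of the Leech lattice with inner product `-16` is the
unitary group of degree 6 over 4 elements
-/

namespace Cfsg.Agent.Lib.helper23

open Cfsg MulAction Subgroup Cfsg.Agent.Lib.helper14.MS

/-- the stabiliser of two vectors -/
abbrev u6Stab (v w : ↥leechLattice) : Subgroup ↥Co0 :=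
  stabilizer ↥Co0 v ⊓ stabilizer ↥Co0 w

theorem mem_u6Stab {v w : ↥leechLattice} (g : ↥Co0) :
    g ∈ u6Stab v w ↔ g.1 v = v ∧ g.1 w = w := by
  rw [Subgroup.mem_inf, mem_stabilizer_iff, mem_stabilizer_iff]
  rfl

theorem u6Stab_eq (v w : ↥leechLattice) :
    u6Stab v w = stabilizer ↥Co0 ((v, w) : ↥leechLattice × ↥leechLattice) := by
  ext g
  rw [mem_u6Stab, mem_stabilizer_iff]
  constructor
  · rintro ⟨h1, h2⟩
    exact Prod.ext h1 h2
  · intro h
    exact ⟨congrArg Prod.fst h, congrArg Prod.snd h⟩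

/-- the stabilisers of corresponding pairs are isomorphic -/
noncomputable def u6StabConj {v w v' w' : ↥leechLattice} (G : ↥Co0) (hv : G.1 v = v')
    (hw : G.1 w = w') : u6Stab v w ≃* u6Stab v' w' :=
  ((MulEquiv.subgroupCongr (u6Stab_eq v w)).trans
    (stabilizerEquivStabilizer (g := G) (by
      show (v', w') = (G.1 v, G.1 w)
      rw [hv, hw]))).trans
    (MulEquiv.subgroupCongr (u6Stab_eq v' w').symm)

/-! ### moving a pair to the standard pair -/

theorem msPt_zero_chk : sqNorm (msPt 0).1 = 32 ∧ dotInt Spor.leechU.1 (msPt 0).1 = -16 :=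
  msV0_chk

theorem u6move (v w : ↥leechLattice) (hv : sqNorm v.1 = 32) (hw : sqNorm w.1 = 32)
    (hd : dotInt v.1 w.1 = -16) :
    ∃ G : ↥Co0, G.1 v = Spor.leechU ∧ G.1 w = msPt 0 := by
  obtain ⟨g0, h0v, h0w⟩ := Cfsg.Agent.Lib.Lead.CP.hex_trans v w hv hw hd
  obtain ⟨g1, h1v, h1w⟩ := Cfsg.Agent.Lib.Lead.CP.hex_trans Spor.leechU (msPt 0) leechU_norm
    msPt_zero_chk.1 msPt_zero_chk.2
  have hinv : ∀ y z : ↥leechLattice, g1.1 y = z → g1⁻¹.1 z = y := by
    intro y z h
    rw [← h]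
    show (g1⁻¹ * g1).1 y = y
    rw [inv_mul_cancel]
    rfl
  refine ⟨g1⁻¹ * g0, ?_, ?_⟩
  · show g1⁻¹.1 (g0.1 v) = Spor.leechU
    rw [h0v, hinv _ _ h1v]
  · show g1⁻¹.1 (g0.1 w) = msPt 0
    rw [h0w, hinv _ _ h1w]

/-! ### the stabiliser of the standard pair -/

theorem u6range_eq : msRho.range = M4600 :=
  (Subgroup.eq_of_le_of_card_ge M4600_le (by rw [range_card, M4600_card])).symm

/-- the stabiliser of the standard pair in the second Conway group -/
def u6Iota : u6Stab Spor.leechU (msPt 0) →* ↥Spor.Co2 where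
  toFun g := ⟨g.1.1, mem_co2_iff.2 ⟨g.1.2, ((mem_u6Stab g.1).1 g.2).1⟩⟩
  map_one' := rfl
  map_mul' _ _ := rfl

theorem u6Iota_val (g : u6Stab Spor.leechU (msPt 0)) : (u6Iota g).1 = g.1.1 := rfl

/-- the action of the stabiliser on the 4600 points -/
noncomputable def u6Act : u6Stab Spor.leechU (msPt 0) →* Equiv.Perm (Fin 4600) :=
  msRho.comp u6Iota

theorem u6Act_injective : Function.Injective u6Act := by
  intro a b h
  have := msRho_injective h
  apply Subtype.ext
  apply Subtype.ext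
  have h2 := congrArg Subtype.val this
  rw [u6Iota_val, u6Iota_val] at h2
  exact h2

theorem u6Act_range : u6Act.range = H4600 := by
  ext s
  rw [mem_H4600_iff]
  constructor
  · rintro ⟨g, rfl⟩
    refine ⟨?_, ?_⟩
    · rw [← u6range_eq]
      exact ⟨u6Iota g, rfl⟩
    · apply msPt_inj
      show msPt (msRho (u6Iota g) 0) = msPt 0
      rw [msRho_apply, u6Iota_val]
      exact ((mem_u6Stab g.1).1 g.2).2
  · rintro ⟨h1, h2⟩
    rw [← u6range_eq] at h1
    obtain ⟨m, rfl⟩ := h1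
    obtain ⟨hc, hmu⟩ := mem_co2_iff.1 m.2
    have hmx : m.1 (msPt 0) = msPt 0 := by
      rw [← msRho_apply, h2]
    refine ⟨⟨⟨m.1, hc⟩, (mem_u6Stab _).2 ⟨hmu, hmx⟩⟩, ?_⟩
    show msRho (u6Iota _) = msRho m
    congr 1

/-- the stabiliser of the standard pair is the stabiliser of a point on 4600 points -/
noncomputable def u6StdEquiv : u6Stab Spor.leechU (msPt 0) ≃* H4600 :=
  (MonoidHom.ofInjective u6Act_injective).trans (MulEquiv.subgroupCongr u6Act_range)

/-- the main theorem -/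
theorem u6_main (v w : ↥leechLattice) (hv : sqNorm v.1 = 32) (hw : sqNorm w.1 = 32)
    (hd : dotInt v.1 w.1 = -16) (F : Type) [Field F] [Fintype F] (hF : Fintype.card F = 4) :
    Nonempty (↥(stabilizer ↥Co0 v ⊓ stabilizer ↥Co0 w) ≃* Cfsg.PSU 6 F 2) := by
  obtain ⟨G, hGv, hGw⟩ := u6move v w hv hw hd
  have hcard : Fintype.card GF4 = Fintype.card F := by rw [hF, GF4.card]
  let e : GF4 ≃+* F := FiniteField.ringEquivOfCardEq hcard
  exact ⟨(((u6StabConj G hGv hGw).trans u6StdEquiv).trans H4600_equiv).trans (psuEquiv e 2)⟩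

end Cfsg.Agent.Lib.helper23
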