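import Cfsg.Agent.Lib.helper23.U6pData
import Cfsg.Agent.Lib.helper23.PgX

set_option autoImplicit false
set_option maxRecDepth 1000000
set_option Elab.async false

namespace Cfsg.Agent.Lib.helper23

theorem u6pchk0x5 : pgChkLvlW0 693 u6pL5 [] = true := by decide +kernel

theorem u6pchk0x4 : pgChkLvlW0 693 u6pL4 [u6pL5] = true := by decide +kernel

theorem u6pchk0x3 : pgChkLvlW0 693 u6pL3 [u6pL4, u6pL5] = true := by decide +kernel

theorem u6pchk0x2 : pgChkLvlW0 693 u6pL2 [u6pL3, u6pL4, u6pL5] = true := by decide +kernel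

theorem u6pchk0x1 : pgChkLvlW0 693 u6pL1 [u6pL2, u6pL3, u6pL4, u6pL5] = true := by decide +kernel


end Cfsg.Agent.Lib.helper23
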