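import Mathlib
import Cfsg.Prelude.Def_CaseTheorems
import Cfsg.Agent.Lib.Helper18.PRL.Defs
import Cfsg.Agent.Lib.helper4.UE.Defs
import Cfsg.Agent.Lib.helper23.PRLCH1
import Cfsg.Agent.Lib.Helper12.PRLG1a
import Cfsg.Agent.Lib.Helper16.PRLU1
import Cfsg.Agent.Lib.Helper25.PRLGEN
import Cfsg.Agent.Lib.helper4.UEA

/-!
# Project UE, piece CARD: an element lying in no two-step centralizer has a centralizer of order at most
`p ^ 2`
-/

set_option autoImplicit false

namespace Cfsg.Agent.Lib.helper4.UE

open Cfsg.Agent.Lib.Helper18.PRL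
open scoped commutatorElement

universe u

section mc
variable {p : ℕ} [Fact p.Prime] {G : Type u} [Group G] [Finite G] {n : ℕ}

/-- the centralizer of a uniform element outside `G₁` has order at most `p ^ 2` (the proof of
`Helper18.PRL.card_centralizer_le` for a general prime) -/
theorem h23ue_card_of_unif (h : MC p G n) (hn : 4 ≤ n) (s : G) (hU : Unif G n s)
    (hs : s ∉ G1 G) : Nat.card (Subgroup.centralizer ({s} : Set G)) ≤ p ^ 2 := by
  have hp : p.Prime := Fact.out
  have hidx : (G1 G).index = p := G1_index h hn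
  obtain ⟨hU1, -⟩ := unif_cent h hn s hU
  have hle : G1 G ⊓ Subgroup.centralizer ({s} : Set G) ≤ Z G 1 := by
    rintro g ⟨hg1, hgC⟩
    have hcomm : g * s = s * g := ((Subgroup.mem_centralizer_iff.1 hgC) s rfl).symm
    by_cases hgc : g ∈ commutator G
    · exact hU1 g hgc hcomm
    · exfalso
      have hnm := comm_notMem h (by omega) (G1 G) hidx s g hs hg1 hgc
      apply hnm
      have h1 : ⁅s, g⁆ = 1 := commutatorElement_eq_one_iff_mul_comm.2 hcomm.symm
      rw [h1]; exact one_mem _
  have hc1 : Nat.card (Z G 1) = p := by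
    have := card_Z h (by omega) 1 (by omega)
    simpa using this
  have hcard1 : Nat.card ↥(G1 G ⊓ Subgroup.centralizer ({s} : Set G)) ≤ p := by
    rw [← hc1]; exact Subgroup.card_le_of_le hle
  have hmul := Subgroup.card_mul_index ((G1 G).subgroupOf (Subgroup.centralizer ({s} : Set G)))
  have hrel : (G1 G).relIndex (Subgroup.centralizer ({s} : Set G)) ≤ p := by
    have h3 : (G1 G).relIndex ⊤ ≠ 0 := by
      rw [Subgroup.relIndex_top_right, hidx]; exact hp.pos.ne'
    have := Subgroup.relIndex_le_of_le_right (H := G1 G)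
      (le_top : Subgroup.centralizer ({s} : Set G) ≤ ⊤) h3
    rwa [Subgroup.relIndex_top_right, hidx] at this
  have hcard2 : Nat.card ((G1 G).subgroupOf (Subgroup.centralizer ({s} : Set G))) =
      Nat.card ↥(G1 G ⊓ Subgroup.centralizer ({s} : Set G)) := by
    rw [← Subgroup.inf_subgroupOf_right]
    exact Nat.card_congr (Subgroup.subgroupOfEquivOfLe inf_le_right).toEquiv
  rw [← hmul, hcard2]
  calc Nat.card ↥(G1 G ⊓ Subgroup.centralizer ({s} : Set G)) *
        ((G1 G).subgroupOf (Subgroup.centralizer ({s} : Set G))).index ≤ p * p :=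
        Nat.mul_le_mul hcard1 hrel
    _ = p ^ 2 := by ring

/-- UE-CARD -/
theorem card_centralizer_le_of_not_ts (h : MC p G n) (hn : 4 ≤ n) (s : G)
    (hs : ∀ j : ℕ, 2 ≤ j → j ≤ n - 2 → ¬ TS G j s) :
    Nat.card (Subgroup.centralizer ({s} : Set G)) ≤ p ^ 2 := by
  have hU : Unif G n s := by
    intro j hj hj' g hg hg' hc
    exact hs j hj hj' (ts_of_one h (by omega) j hj hj' s g hg hg' hc)
  have hs1 : s ∉ G1 G := by
    intro hs1
    apply hs 2 (le_refl 2) (by omega)
    intro y hy
    have hcomm : y * s = s * y := (Subgroup.mem_centralizer_iff.1 hs1) y hy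
    have h1 : ⁅y, s⁆ = 1 := commutatorElement_eq_one_iff_mul_comm.2 hcomm
    rw [h1]
    exact one_mem _
  exact h23ue_card_of_unif h hn s hU hs1

end mc

end Cfsg.Agent.Lib.helper4.UE
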