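import Mathlib
import Cfsg.Prelude.Def_CaseTheorems
import Cfsg.Agent.Lib.Helper18.PRL.Defs
import Cfsg.Agent.Lib.helper4.UE.Defs
import Cfsg.Agent.Lib.Helper21.MaxClassTwo
import Cfsg.Agent.Lib.helper4.UEA
import Cfsg.Agent.Lib.helper4.UEPER
import Cfsg.Agent.Lib.Helper10.UEQ
import Cfsg.Agent.Lib.Helper10.UECNT

/-!
# Project UE, piece STEP: from a uniform element of `G / Z(G)` to an element of `G` lying in no two-step
centralizer
-/

set_option autoImplicit false

namespace Cfsg.Agent.Lib.helper4.UE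

open Cfsg.Agent.Lib.Helper18.PRL
open scoped commutatorElement

universe u

section mc
variable {p : ℕ} [Fact p.Prime] {G : Type u} [Group G] [Finite G] {n : ℕ}

/-- the central quotient of a group of maximal class -/
theorem h23ue_quot_mc (h : MC p G n) (hn : 3 ≤ n) : MC p (G ⧸ Subgroup.center G) (n - 1) := by
  obtain ⟨-, h2, h3⟩ := Cfsg.Agent.Lib.Helper21.mc_center_card p n hn G h.1 h.2
  refine ⟨h2, ?_⟩
  rw [h3]
  omega

/-- UE-STEP -/
theorem exists_not_ts_of_quotient (h : MC p G n) (hn : 5 ≤ n)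
    (hq : ∃ t : G ⧸ Subgroup.center G,
      Nat.card (Subgroup.centralizer ({t} : Set (G ⧸ Subgroup.center G))) ≤ p ^ 2) :
    ∃ s : G, ∀ j : ℕ, 2 ≤ j → j ≤ n - 2 → ¬ TS G j s := by
  classical
  obtain ⟨t, ht⟩ := hq
  have hQ : MC p (G ⧸ Subgroup.center G) (n - 1) := h23ue_quot_mc h (by omega)
  have hpG : IsPGroup p G := IsPGroup.of_card h.1
  set T : Finset (Subgroup G) :=
    ((Finset.Icc 2 (p + 1)).filter (fun j => j ≤ n - 2)).image (fun j => K G j) with hT
  have hTcard : T.card ≤ p := by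
    calc T.card ≤ ((Finset.Icc 2 (p + 1)).filter (fun j => j ≤ n - 2)).card := Finset.card_image_le
      _ ≤ (Finset.Icc 2 (p + 1)).card := Finset.card_filter_le _ _
      _ = p := by rw [Nat.card_Icc]; omega
  have hTne : ∀ H ∈ T, H ≠ ⊤ := by
    intro H hH
    rw [hT, Finset.mem_image] at hH
    obtain ⟨j, hj, rfl⟩ := hH
    rw [Finset.mem_filter, Finset.mem_Icc] at hj
    exact K_ne_top h (by omega) j hj.1.1 hj.2
  obtain ⟨s, hs⟩ := exists_notMem_of_card_le hpG T hTcard hTne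
  have hsmall : ∀ j, 2 ≤ j → j ≤ p + 1 → j ≤ n - 2 → ¬ TS G j s := by
    intro j h1 h2 h3 hts
    apply hs (K G j)
    · rw [hT, Finset.mem_image]
      exact ⟨j, by rw [Finset.mem_filter, Finset.mem_Icc]; exact ⟨⟨h1, h2⟩, h3⟩, rfl⟩
    · exact (mem_K j s).mpr hts
  refine ⟨s, fun j hj hj' => ?_⟩
  by_cases hjp : j ≤ p + 1
  · exact hsmall j hj hjp hj'
  · intro hts
    have hp2 : 2 ≤ p := (Fact.out : p.Prime).two_le
    -- pass to the quotient
    have e1 : j - 1 + 1 = j := by omega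
    have h1 : TS (G ⧸ Subgroup.center G) (j - 1) (QuotientGroup.mk' (Subgroup.center G) s) := by
      rw [ts_quotient (j - 1) (by omega) s, e1]
      exact hts
    obtain ⟨j'', h2, h3, h4, h5⟩ := ts_reduce hQ (by omega) t ht (j - 1) (by omega) (by omega)
    have h6 := (h5 _).mp h1
    rw [ts_quotient j'' h2 s] at h6
    exact hsmall (j'' + 1) (by omega) (by omega) (by omega) h6

end mc

end Cfsg.Agent.Lib.helper4.UE
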